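import Mathlib.AlgebraicGeometry.Morphisms.LocalFlatDescent
import Mathlib.AlgebraicGeometry.Morphisms.UniversallyOpen
import Mathlib.AlgebraicGeometry.Morphisms.LocalIso
import Mathlib.RingTheory.Smooth.NoetherianDescent
import Mathlib.RingTheory.Etale.Kaehler
import Mathlib.AlgebraicGeometry.Morphisms.QuasiFinite
import Mathlib.RingTheory.FiniteStability
import Groth.Agent.Lib.Helper14.LfpOfComp

/-!
# Etale-locality on the source (helper14)

`p : U' ⟶ U` etale surjective and `P (p ≫ h)` imply `P h`, for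
`P` = locally of finite type, locally of finite presentation, flat, formally unramified, etale.
-/

universe u
open CategoryTheory CategoryTheory.Limits AlgebraicGeometry MorphismProperty

namespace Groth.Agent.Lib.Helper14.ESL

section Cat
variable {C : Type*} [Category C]

theorem isPullback_of_comp_mono {A X Y Z W : C} {fst : A ⟶ X} {snd : A ⟶ Y} {f : X ⟶ Z}
    {g : Y ⟶ Z} (i : Z ⟶ W) [Mono i] (h : IsPullback fst snd (f ≫ i) (g ≫ i)) :
    IsPullback fst snd f g := by
  refine ⟨⟨by rw [← cancel_mono i, Category.assoc, Category.assoc, h.w]⟩, ⟨?_⟩⟩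
  refine PullbackCone.IsLimit.mk _ (fun s => h.lift s.fst s.snd (by
      rw [← Category.assoc, s.condition, Category.assoc])) (fun s => h.lift_fst _ _ _)
    (fun s => h.lift_snd _ _ _) (fun s m h₁ h₂ => ?_)
  apply h.hom_ext
  · rw [h₁, h.lift_fst]
  · rw [h₂, h.lift_snd]

end Cat

set_option backward.isDefEq.respectTransparency.types false in
/-- Descent along a flat, locally finitely presented morphism whose image contains the image of
`g₀`. -/
theorem descend_of_range_subset {P : MorphismProperty Scheme.{u}}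
    [P.DescendsAlong (@Surjective ⊓ @Flat ⊓ @LocallyOfFinitePresentation)]
    [P.RespectsRight @IsOpenImmersion]
    {X X₀ Y₀ : Scheme.{u}} (g₀ : X ⟶ X₀) (π₀ : Y₀ ⟶ X₀) [Flat π₀] [LocallyOfFinitePresentation π₀]
    (hr : Set.range g₀ ⊆ Set.range π₀) (h : P (pullback.snd g₀ π₀)) : P g₀ := by
  let W : X₀.Opens := ⟨Set.range π₀, π₀.isOpenMap.isOpen_range⟩
  have hW : Set.range W.ι = Set.range π₀ := by simp [W]
  let g : X ⟶ W := IsOpenImmersion.lift W.ι g₀ (by rw [hW]; exact hr)
  have hg : g ≫ W.ι = g₀ := IsOpenImmersion.lift_fac _ _ _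
  let π : Y₀ ⟶ W := IsOpenImmersion.lift W.ι π₀ (by rw [hW])
  have hπ : π ≫ W.ι = π₀ := IsOpenImmersion.lift_fac _ _ _
  have hsurj : Surjective π := by
    refine ⟨fun w => ?_⟩
    obtain ⟨y, hy⟩ : (W.ι w) ∈ Set.range π₀ := by rw [← hW]; exact ⟨w, rfl⟩
    refine ⟨y, W.ι.injective ?_⟩
    rw [← Scheme.Hom.comp_apply, hπ, hy]
  have hflat : Flat π := by
    have : Flat (π ≫ W.ι) := by rw [hπ]; infer_instance
    exact MorphismProperty.of_postcomp (W := @Flat) (W' := @IsOpenImmersion) π W.ι
      inferInstance this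
  have hlfp : LocallyOfFinitePresentation π := by
    have : LocallyOfFinitePresentation (π ≫ W.ι) := by rw [hπ]; infer_instance
    exact MorphismProperty.of_postcomp (W := @LocallyOfFinitePresentation)
      (W' := @IsOpenImmersion) π W.ι inferInstance this
  have sq : IsPullback (pullback.snd g₀ π₀) (pullback.fst g₀ π₀) π g := by
    apply isPullback_of_comp_mono W.ι
    rw [hg, hπ]
    exact (IsPullback.of_hasPullback g₀ π₀).flip
  have hPg : P g := MorphismProperty.of_isPullback_of_descendsAlong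
    (Q := @Surjective ⊓ @Flat ⊓ @LocallyOfFinitePresentation) sq ⟨⟨hsurj, hflat⟩, hlfp⟩ h
  rw [← hg]
  exact MorphismProperty.RespectsRight.postcomp (Q := @IsOpenImmersion) W.ι inferInstance g hPg

/-- `P` can be checked after precomposing with an etale surjection. -/
def SrcLocal (P : MorphismProperty Scheme.{u}) : Prop :=
  ∀ ⦃U' U V : Scheme.{u}⦄ (p : U' ⟶ U) (h : U ⟶ V), Etale p → Surjective p → P (p ≫ h) → P h

/-- Precomposition with `f` preserves `P`. -/
def Pre (P : MorphismProperty Scheme.{u}) : MorphismProperty Scheme.{u} :=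
  fun _ Y f => ∀ ⦃Z : Scheme.{u}⦄ (g : Y ⟶ Z), P g → P (f ≫ g)

instance pre_respectsIso (P : MorphismProperty Scheme.{u}) [P.RespectsIso] :
    (Pre P).RespectsIso := by
  apply MorphismProperty.RespectsIso.mk
  · intro X Y Z e f hf W g hg
    rw [Category.assoc, P.cancel_left_of_respectsIso]
    exact hf g hg
  · intro X Y Z e f hf W g hg
    rw [Category.assoc]
    exact hf _ ((P.cancel_left_of_respectsIso e.hom g).2 hg)

instance pre_containsIdentities (P : MorphismProperty Scheme.{u}) : (Pre P).ContainsIdentities :=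
  ⟨fun X Z g hg => by rwa [Category.id_comp]⟩

instance pre_isZariskiLocalAtSource (P : MorphismProperty Scheme.{u}) [IsZariskiLocalAtSource P] :
    IsZariskiLocalAtSource (Pre P) := by
  apply IsZariskiLocalAtSource.mk'
  · intro X Y f U hf Z g hg
    rw [Category.assoc]
    exact IsZariskiLocalAtSource.comp (hf g hg) _
  · intro X Y f ι U hU hf Z g hg
    refine IsZariskiLocalAtSource.of_iSup_eq_top U hU fun i => ?_
    rw [← Category.assoc]
    exact hf i g hg

theorem pre_of_isLocalIso (P : MorphismProperty Scheme.{u}) [IsZariskiLocalAtSource P]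
    {X Y Z : Scheme.{u}} (f : X ⟶ Y) [IsLocalIso f] (g : Y ⟶ Z) (hg : P g) : P (f ≫ g) :=
  IsLocalIso.le_of_isZariskiLocalAtSource (Pre P) _ _ f ‹_› g hg

set_option backward.isDefEq.respectTransparency.types false in
/-- Reduction of etale-source-locality to the case of affine schemes. -/
theorem srcLocal_of_affine (P : MorphismProperty Scheme.{u}) [IsZariskiLocalAtSource P]
    [IsZariskiLocalAtTarget P]
    (H : ∀ {R A B : CommRingCat.{u}} (φ : R ⟶ A) (ψ : A ⟶ B), Etale (Spec.map ψ) →
      Surjective (Spec.map ψ) → P (Spec.map ψ ≫ Spec.map φ) → P (Spec.map φ)) : SrcLocal P := by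
  intro U' U V p h hp hs hph
  wlog hV : IsAffine V generalizing U' U V
  · rw [IsZariskiLocalAtTarget.iff_of_iSup_eq_top (P := P) _ (iSup_affineOpens_eq_top V)]
    intro W
    have H1 := IsZariskiLocalAtTarget.restrict hph W.1
    rw [morphismRestrict_comp] at H1
    exact this _ _ inferInstance (IsZariskiLocalAtTarget.restrict (P := @Surjective) hs _) H1 W.2
  wlog hU : IsAffine U generalizing U' U
  · rw [IsZariskiLocalAtSource.iff_of_iSup_eq_top (P := P) _ (iSup_affineOpens_eq_top U)]
    intro W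
    have H1 : P ((p ∣_ W.1) ≫ W.1.ι ≫ h) := by
      rw [morphismRestrict_ι_assoc]
      exact IsZariskiLocalAtSource.comp hph _
    exact this (p ∣_ W.1) (W.1.ι ≫ h) inferInstance
      (IsZariskiLocalAtTarget.restrict (P := @Surjective) hs _) H1 W.2
  wlog hU' : IsAffine U' generalizing U'
  · have hcU : CompactSpace U := inferInstance
    obtain ⟨V' : U'.Opens, hV', e⟩ :=
      p.isOpenMap.exists_opens_image_eq_of_prespectralSpace p.continuous
      (U := Set.univ) (by rw [Set.range_eq_univ.mpr p.surjective]) isOpen_univ isCompact_univ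
    have hcV : CompactSpace V' := isCompact_iff_compactSpace.mp hV'
    obtain ⟨Y, q, hqs, hq, hY⟩ :=
      Scheme.exists_hom_isAffine_of_isZariskiLocalAtSource (P := @IsLocalIso) V'
    have hsurj : Surjective (q ≫ V'.ι ≫ p) := by
      refine ⟨fun x => ?_⟩
      obtain ⟨y, hyV, hy⟩ := e.ge (Set.mem_univ x)
      obtain ⟨z, hz⟩ := q.surjective ⟨y, hyV⟩
      refine ⟨z, ?_⟩
      rw [Scheme.Hom.comp_apply, Scheme.Hom.comp_apply, hz]
      exact hy
    have het : Etale (q ≫ V'.ι ≫ p) := by
      have : Etale q := IsLocalIso.le_of_isZariskiLocalAtSource @Etale _ _ q hq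
      infer_instance
    refine this (q ≫ V'.ι ≫ p) het hsurj ?_ hY
    rw [Category.assoc, Category.assoc]
    exact pre_of_isLocalIso P q _ (IsZariskiLocalAtSource.comp hph _)
  -- all affine
  have e1 : P (p ≫ h) ↔ P (Spec.map p.appTop ≫ Spec.map h.appTop) := by
    rw [← Spec.map_comp, ← Scheme.Hom.comp_appTop]
    exact (P.arrow_mk_iso_iff (arrowIsoSpecΓOfIsAffine (p ≫ h)))
  have e2 : P h ↔ P (Spec.map h.appTop) := P.arrow_mk_iso_iff (arrowIsoSpecΓOfIsAffine h)
  rw [e2]
  refine H h.appTop p.appTop ?_ ?_ (e1.mp hph)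
  · exact (MorphismProperty.arrow_mk_iso_iff @Etale (arrowIsoSpecΓOfIsAffine p)).mp hp
  · exact (MorphismProperty.arrow_mk_iso_iff @Surjective (arrowIsoSpecΓOfIsAffine p)).mp hs

open TensorProduct

section Core

set_option backward.isDefEq.respectTransparency.types false in
theorem core_aux {P : MorphismProperty Scheme.{u}}
    {Q : ∀ {R S : Type u} [CommRing R] [CommRing S], (R →+* S) → Prop}
    [HasRingHomProperty P Q]
    [P.DescendsAlong (@Surjective ⊓ @Flat ⊓ @LocallyOfFinitePresentation)]
    (hQcomp : RingHom.StableUnderComposition Q) (hQid : RingHom.ContainsIdentities Q)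
    (hQcancel : ∀ {R S T : Type u} [CommRing R] [CommRing S] [CommRing T] (f : R →+* S)
      (g : S →+* T), Q (g.comp f) → f.FiniteType → Q g)
    {R A₀ A B₀ : Type u} [CommRing R] [CommRing A₀] [CommRing A] [CommRing B₀]
    [Algebra R A₀] [Algebra A₀ A] [Algebra R A] [IsScalarTower R A₀ A] [Algebra A₀ B₀]
    [Algebra.Etale A₀ B₀]
    (hA₀ : Q (algebraMap R A₀)) (hA₀' : (algebraMap R A₀).FiniteType)
    (hsurj : Surjective (Spec.map (CommRingCat.ofHom (algebraMap A (A ⊗[A₀] B₀)))))
    (hT : Q ((algebraMap A (A ⊗[A₀] B₀)).comp (algebraMap R A))) : Q (algebraMap R A) := by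
  have hét : Etale (Spec.map (CommRingCat.ofHom (algebraMap A₀ B₀))) :=
    (HasRingHomProperty.Spec_iff (P := @Etale)).mpr (RingHom.etale_algebraMap.mpr inferInstance)
  have : P.IsStableUnderComposition := HasRingHomProperty.stableUnderComposition hQcomp
  have : P.RespectsRight @IsOpenImmersion := ⟨fun i hi f hf => P.comp_mem f i hf
    (HasRingHomProperty.of_isOpenImmersion (P := P) hQid)⟩
  have comm : Spec.map (CommRingCat.ofHom
        (Algebra.TensorProduct.includeRight : B₀ →ₐ[A₀] A ⊗[A₀] B₀).toRingHom) ≫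
      Spec.map (CommRingCat.ofHom (algebraMap A₀ B₀)) =
      Spec.map (CommRingCat.ofHom (algebraMap A (A ⊗[A₀] B₀))) ≫
        Spec.map (CommRingCat.ofHom (algebraMap A₀ A)) := by
    rw [← Spec.map_comp, ← Spec.map_comp]
    congr 1
    ext a
    show (1 : A) ⊗ₜ[A₀] (algebraMap A₀ B₀ a) = (algebraMap A₀ A a) ⊗ₜ[A₀] (1 : B₀)
    rw [Algebra.algebraMap_eq_smul_one, Algebra.algebraMap_eq_smul_one, TensorProduct.smul_tmul]
  have hcomp : ((Algebra.TensorProduct.includeRight : B₀ →ₐ[A₀] A ⊗[A₀] B₀).toRingHom).comp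
      ((algebraMap A₀ B₀).comp (algebraMap R A₀)) =
      (algebraMap A (A ⊗[A₀] B₀)).comp (algebraMap R A) := by
    ext r
    show (1 : A) ⊗ₜ[A₀] (algebraMap A₀ B₀ (algebraMap R A₀ r)) =
      (algebraMap R A r) ⊗ₜ[A₀] (1 : B₀)
    rw [IsScalarTower.algebraMap_apply R A₀ A, Algebra.algebraMap_eq_smul_one (A := B₀),
      Algebra.algebraMap_eq_smul_one (A := A), TensorProduct.smul_tmul]
  have hP : P (Spec.map (CommRingCat.ofHom (algebraMap A₀ A))) := by
    apply descend_of_range_subset (P := P) _ (Spec.map (CommRingCat.ofHom (algebraMap A₀ B₀)))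
    · rintro _ ⟨x, rfl⟩
      obtain ⟨t, rfl⟩ := hsurj.surj x
      refine ⟨Spec.map (CommRingCat.ofHom
        (Algebra.TensorProduct.includeRight : B₀ →ₐ[A₀] A ⊗[A₀] B₀).toRingHom) t, ?_⟩
      rw [← Scheme.Hom.comp_apply, ← Scheme.Hom.comp_apply, comm]
    · rw [← pullbackSpecIso_hom_snd, P.cancel_left_of_respectsIso,
        HasRingHomProperty.Spec_iff (P := P), CommRingCat.hom_ofHom]
      refine hQcancel ((algebraMap A₀ B₀).comp (algebraMap R A₀)) _ ?_ ?_
      · show Q (((Algebra.TensorProduct.includeRight : B₀ →ₐ[A₀] A ⊗[A₀] B₀).toRingHom).comp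
          ((algebraMap A₀ B₀).comp (algebraMap R A₀)))
        rw [hcomp]; exact hT
      · exact RingHom.FiniteType.comp
          (RingHom.FiniteType.of_finitePresentation
            (RingHom.finitePresentation_algebraMap.mpr inferInstance)) hA₀'
  rw [HasRingHomProperty.Spec_iff (P := P)] at hP
  rw [IsScalarTower.algebraMap_eq R A₀ A]
  exact hQcomp _ _ hA₀ hP

set_option backward.isDefEq.respectTransparency.types false in
theorem core_mid {P : MorphismProperty Scheme.{u}}
    {Q : ∀ {R S : Type u} [CommRing R] [CommRing S], (R →+* S) → Prop}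
    [HasRingHomProperty P Q]
    [P.DescendsAlong (@Surjective ⊓ @Flat ⊓ @LocallyOfFinitePresentation)]
    (hQcomp : RingHom.StableUnderComposition Q) (hQid : RingHom.ContainsIdentities Q)
    (hQiso : RingHom.RespectsIso Q)
    (hQcancel : ∀ {R S T : Type u} [CommRing R] [CommRing S] [CommRing T] (f : R →+* S)
      (g : S →+* T), Q (g.comp f) → f.FiniteType → Q g)
    {R A₁ A₀ A B₁ B : Type u} [CommRing R] [CommRing A₁] [CommRing A₀] [CommRing A] [CommRing B₁]
    [CommRing B] [Algebra R A₀] [Algebra A₁ A₀] [Algebra A₀ A] [Algebra A₁ A]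
    [IsScalarTower A₁ A₀ A] [Algebra R A] [IsScalarTower R A₀ A] [Algebra A₁ B₁]
    [Algebra.Etale A₁ B₁] [Algebra A B] [Algebra R B] [IsScalarTower R A B]
    (e : B ≃ₐ[A] A ⊗[A₁] B₁)
    (hA₀ : Q (algebraMap R A₀)) (hA₀' : (algebraMap R A₀).FiniteType)
    (hs : Surjective (Spec.map (CommRingCat.ofHom (algebraMap A B))))
    (hB : Q (algebraMap R B)) : Q (algebraMap R A) := by
  let e₁ : A ⊗[A₀] (A₀ ⊗[A₁] B₁) ≃ₐ[A] A ⊗[A₁] B₁ :=
    Algebra.TensorProduct.cancelBaseChange A₁ A₀ A A B₁
  let e₂ : A ⊗[A₀] (A₀ ⊗[A₁] B₁) ≃ₐ[A] B := e₁.trans e.symm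
  let ρ : B ≃+* A ⊗[A₀] (A₀ ⊗[A₁] B₁) := e₂.symm.toRingEquiv
  have he₂ : (algebraMap A (A ⊗[A₀] (A₀ ⊗[A₁] B₁))) = ρ.toRingHom.comp (algebraMap A B) := by
    ext a
    exact (e₂.symm.commutes a).symm
  refine core_aux (P := P) hQcomp hQid hQcancel (A₀ := A₀) (A := A)
    (B₀ := A₀ ⊗[A₁] B₁) hA₀ hA₀' ?_ ?_
  · rw [he₂, CommRingCat.ofHom_comp, Spec.map_comp]
    have : IsIso (Spec.map (CommRingCat.ofHom ρ.toRingHom)) := by
      have : IsIso (CommRingCat.ofHom ρ.toRingHom) := ρ.toCommRingCatIso.isIso_hom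
      infer_instance
    infer_instance
  · rw [he₂, RingHom.comp_assoc, ← IsScalarTower.algebraMap_eq R A B]
    exact hQiso.1 _ ρ hB

set_option backward.isDefEq.respectTransparency.types false in
theorem core_ring {P : MorphismProperty Scheme.{u}}
    {Q : ∀ {R S : Type u} [CommRing R] [CommRing S], (R →+* S) → Prop}
    [HasRingHomProperty P Q]
    [P.DescendsAlong (@Surjective ⊓ @Flat ⊓ @LocallyOfFinitePresentation)]
    (hQfp : ∀ {R S : Type u} [CommRing R] [CommRing S] (f : R →+* S), f.FinitePresentation → Q f)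
    (hQcomp : RingHom.StableUnderComposition Q) (hQid : RingHom.ContainsIdentities Q)
    (hQiso : RingHom.RespectsIso Q)
    (hQcancel : ∀ {R S T : Type u} [CommRing R] [CommRing S] [CommRing T] (f : R →+* S)
      (g : S →+* T), Q (g.comp f) → f.FiniteType → Q g)
    {R A B : Type u} [CommRing R] [CommRing A] [CommRing B] [Algebra R A] [Algebra A B]
    [Algebra R B] [IsScalarTower R A B]
    [Algebra.Etale A B] (hs : Surjective (Spec.map (CommRingCat.ofHom (algebraMap A B))))
    (hB : Q (algebraMap R B)) : Q (algebraMap R A) := by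
  obtain ⟨A₁, B₁, _, _, hfg, hét, ⟨e⟩⟩ := Algebra.Etale.exists_subalgebra_fg ℤ A B
  let μ : R ⊗[ℤ] A₁ →ₐ[R] A :=
    Algebra.TensorProduct.lift (Algebra.ofId R A) A₁.val (fun _ _ => Commute.all _ _)
  let algA₀A : Algebra (R ⊗[ℤ] A₁) A := μ.toRingHom.toAlgebra
  let algA₁A₀ : Algebra A₁ (R ⊗[ℤ] A₁) := Algebra.TensorProduct.rightAlgebra
  have tw1 : IsScalarTower A₁ (R ⊗[ℤ] A₁) A := IsScalarTower.of_algebraMap_eq (fun x => by
    show (x : A) = μ (1 ⊗ₜ x)
    rw [Algebra.TensorProduct.lift_tmul]
    simp)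
  have tw2 : IsScalarTower R (R ⊗[ℤ] A₁) A :=
    IsScalarTower.of_algebraMap_eq (fun x => (μ.commutes x).symm)
  have : Algebra.FiniteType ℤ A₁ := (Subalgebra.fg_iff_finiteType A₁).mp hfg
  have : Algebra.FinitePresentation ℤ A₁ := Algebra.FinitePresentation.of_finiteType.mp inferInstance
  have hfp : (algebraMap R (R ⊗[ℤ] A₁)).FinitePresentation :=
    RingHom.finitePresentation_algebraMap.mpr inferInstance
  exact core_mid (P := P) hQcomp hQid hQiso hQcancel (A₁ := A₁) (A₀ := R ⊗[ℤ] A₁) (B₁ := B₁) e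
    (hQfp _ hfp) (RingHom.FiniteType.of_finitePresentation hfp) hs hB

set_option backward.isDefEq.respectTransparency.types false in
theorem srcLocal_of_core {P : MorphismProperty Scheme.{u}}
    {Q : ∀ {R S : Type u} [CommRing R] [CommRing S], (R →+* S) → Prop}
    [HasRingHomProperty P Q]
    [P.DescendsAlong (@Surjective ⊓ @Flat ⊓ @LocallyOfFinitePresentation)]
    (hQfp : ∀ {R S : Type u} [CommRing R] [CommRing S] (f : R →+* S), f.FinitePresentation → Q f)
    (hQcomp : RingHom.StableUnderComposition Q) (hQid : RingHom.ContainsIdentities Q)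
    (hQiso : RingHom.RespectsIso Q)
    (hQcancel : ∀ {R S T : Type u} [CommRing R] [CommRing S] [CommRing T] (f : R →+* S)
      (g : S →+* T), Q (g.comp f) → f.FiniteType → Q g) : SrcLocal P := by
  apply srcLocal_of_affine
  intro R A B φ ψ hét hs h
  let : Algebra R A := φ.hom.toAlgebra
  let : Algebra A B := ψ.hom.toAlgebra
  let : Algebra R B := (ψ.hom.comp φ.hom).toAlgebra
  have : IsScalarTower R A B := IsScalarTower.of_algebraMap_eq' rfl
  have : Algebra.Etale A B := (HasRingHomProperty.Spec_iff (P := @Etale)).mp hét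
  rw [← Spec.map_comp, HasRingHomProperty.Spec_iff (P := P)] at h
  rw [HasRingHomProperty.Spec_iff (P := P)]
  exact core_ring (P := P) hQfp hQcomp hQid hQiso hQcancel (R := R) (A := A) (B := B) hs h

set_option backward.isDefEq.respectTransparency.types false in
theorem srcLocal_locallyOfFiniteType : SrcLocal @LocallyOfFiniteType.{u} :=
  srcLocal_of_core (P := @LocallyOfFiniteType) (Q := RingHom.FiniteType)
    (fun _ h => RingHom.FiniteType.of_finitePresentation h)
    RingHom.finiteType_stableUnderComposition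
    (fun _ _ => RingHom.FiniteType.id _) RingHom.finiteType_respectsIso
    (fun _ _ h _ => RingHom.FiniteType.of_comp_finiteType h)

set_option backward.isDefEq.respectTransparency.types false in
theorem srcLocal_locallyOfFinitePresentation : SrcLocal @LocallyOfFinitePresentation.{u} :=
  srcLocal_of_core (P := @LocallyOfFinitePresentation) (Q := RingHom.FinitePresentation)
    (fun _ h => h)
    RingHom.finitePresentation_stableUnderComposition
    (fun _ _ => RingHom.FinitePresentation.id _) RingHom.finitePresentation_respectsIso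
    (fun f _ h hf => RingHom.FinitePresentation.of_comp_finiteType f h hf)

end Core

section Ring

theorem flat_of_faithfullyFlat_comp (R A B : Type*) [CommRing R] [CommRing A] [CommRing B]
    [Algebra R A] [Algebra A B] [Algebra R B] [IsScalarTower R A B] [Module.FaithfullyFlat A B]
    [Module.Flat R B] : Module.Flat R A := by
  rw [Module.Flat.iff_lTensor_preserves_injective_linearMap]
  intro N N' _ _ _ _ f hf
  have h0 : Function.Injective (AlgebraTensorModule.lTensor A A f) := by
    rw [← Module.FaithfullyFlat.lTensor_injective_iff_injective A B]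
    have key := AlgebraTensorModule.lTensor_comp_cancelBaseChange R A B (M := B) f
    have h2 : Function.Injective (AlgebraTensorModule.lTensor B B f) :=
      Module.Flat.lTensor_preserves_injective_linearMap (M := B) f hf
    have h3 : Function.Injective ((AlgebraTensorModule.cancelBaseChange R A B B N').toLinearMap ∘ₗ
        AlgebraTensorModule.lTensor B B (AlgebraTensorModule.lTensor A A f)) := by
      rw [← key]
      exact h2.comp (AlgebraTensorModule.cancelBaseChange R A B B N).injective
    exact (Function.Injective.of_comp_iff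
      (AlgebraTensorModule.cancelBaseChange R A B B N').injective _).mp h3
  exact h0

theorem formallyUnramified_of_faithfullyFlat_comp (R A B : Type*) [CommRing R] [CommRing A]
    [CommRing B] [Algebra R A] [Algebra A B] [Algebra R B] [IsScalarTower R A B]
    [Module.FaithfullyFlat A B] [Algebra.FormallyEtale A B] [Algebra.FormallyUnramified R B] :
    Algebra.FormallyUnramified R A := by
  constructor
  have : Subsingleton (B ⊗[A] Ω[A⁄R]) :=
    (KaehlerDifferential.tensorKaehlerEquivOfFormallyEtale R A B).subsingleton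
  exact Module.FaithfullyFlat.lTensor_reflects_triviality A B _

end Ring

section More

set_option backward.isDefEq.respectTransparency.types false in
theorem srcLocal_of_ring {P : MorphismProperty Scheme.{u}}
    {Q : ∀ {R S : Type u} [CommRing R] [CommRing S], (R →+* S) → Prop}
    [HasRingHomProperty P Q]
    (H : ∀ {R A B : Type u} [CommRing R] [CommRing A] [CommRing B] [Algebra R A] [Algebra A B]
      [Algebra R B] [IsScalarTower R A B] [Algebra.Etale A B] [Module.FaithfullyFlat A B],
      Q (algebraMap R B) → Q (algebraMap R A)) : SrcLocal P := by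
  apply srcLocal_of_affine
  intro R A B φ ψ hét hs h
  let : Algebra R A := φ.hom.toAlgebra
  let : Algebra A B := ψ.hom.toAlgebra
  let : Algebra R B := (ψ.hom.comp φ.hom).toAlgebra
  have : IsScalarTower R A B := IsScalarTower.of_algebraMap_eq' rfl
  have : Algebra.Etale A B := (HasRingHomProperty.Spec_iff (P := @Etale)).mp hét
  have : Module.FaithfullyFlat A B :=
    Module.FaithfullyFlat.of_comap_surjective (Spec.map ψ).surjective
  rw [← Spec.map_comp, HasRingHomProperty.Spec_iff (P := P)] at h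
  rw [HasRingHomProperty.Spec_iff (P := P)]
  exact H (R := R) (A := A) (B := B) h

theorem srcLocal_flat : SrcLocal @Flat.{u} :=
  srcLocal_of_ring (P := @Flat) (Q := RingHom.Flat) (fun {R A B} _ _ _ _ _ _ _ _ _ h => by
    rw [RingHom.flat_algebraMap_iff] at h ⊢
    exact flat_of_faithfullyFlat_comp R A B)

theorem srcLocal_formallyUnramified : SrcLocal @FormallyUnramified.{u} :=
  srcLocal_of_ring (P := @FormallyUnramified) (Q := RingHom.FormallyUnramified)
    (fun {R A B} _ _ _ _ _ _ _ _ _ h => by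
      rw [RingHom.formallyUnramified_algebraMap] at h ⊢
      exact formallyUnramified_of_faithfullyFlat_comp R A B)

theorem srcLocal_etale : SrcLocal @Etale.{u} := by
  intro U' U V p h hp hs hph
  rw [Etale.iff_flat_and_formallyUnramified] at hph ⊢
  exact ⟨srcLocal_flat p h hp hs hph.1, srcLocal_formallyUnramified p h hp hs hph.2.1,
    srcLocal_locallyOfFinitePresentation p h hp hs hph.2.2⟩

theorem isDiscrete_of_preimage {α β : Type*} [TopologicalSpace α] [TopologicalSpace β]
    {p : α → β} (hp : IsOpenMap p) (hs : Function.Surjective p) {D : Set β}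
    (h : IsDiscrete (p ⁻¹' D)) : IsDiscrete D := by
  refine .of_nhdsWithin fun x hx => ?_
  obtain ⟨x', rfl⟩ := hs x
  have h1 : {x'} ∈ nhdsWithin x' (p ⁻¹' D) := singleton_mem_nhdsWithin_of_mem_discrete h hx
  rw [mem_nhdsWithin_iff_exists_mem_nhds_inter] at h1
  obtain ⟨W', hW', hsub⟩ := h1
  rw [Filter.le_pure_iff, mem_nhdsWithin_iff_exists_mem_nhds_inter]
  refine ⟨p '' W', hp.image_mem_nhds hW', ?_⟩
  rintro _ ⟨⟨w, hw, rfl⟩, hD⟩
  have := hsub ⟨hw, hD⟩
  rw [Set.mem_singleton_iff] at this ⊢
  rw [this]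

theorem srcLocal_lqf_lft : SrcLocal (@LocallyQuasiFinite.{u} ⊓ @LocallyOfFiniteType) := by
  intro U' U V p h hp hs hph
  have hq : LocallyQuasiFinite (p ≫ h) := hph.1
  have hft0 : LocallyOfFiniteType (p ≫ h) := hph.2
  have hft : LocallyOfFiniteType h := srcLocal_locallyOfFiniteType p h hp hs hph.2
  refine ⟨?_, hft⟩
  rw [locallyQuasiFinite_iff_isDiscrete_preimage_singleton]
  intro y
  have h1 := (locallyQuasiFinite_iff_isDiscrete_preimage_singleton (f := p ≫ h)).mp hq y
  apply isDiscrete_of_preimage p.isOpenMap p.surjective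
  convert h1 using 1
  ext x
  simp only [Set.mem_preimage, Set.mem_singleton_iff, Scheme.Hom.comp_apply]

set_option backward.isDefEq.respectTransparency.types false in
/-- Family version of etale-source-locality. -/
theorem SrcLocal.of_family {P : MorphismProperty Scheme.{u}} [IsZariskiLocalAtSource P]
    (hP : SrcLocal P) {ι : Type u} {U V : Scheme.{u}} (W : ι → Scheme.{u}) (p : ∀ i, W i ⟶ U)
    (hp : ∀ i, Etale (p i)) (hs : ∀ x : U, ∃ i, x ∈ Set.range (p i)) (h : U ⟶ V)
    (H : ∀ i, P (p i ≫ h)) : P h := by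
  refine hP (Sigma.desc p) h (IsZariskiLocalAtSource.sigmaDesc hp) ⟨fun x => ?_⟩ ?_
  · obtain ⟨i, w, rfl⟩ := hs x
    refine ⟨Sigma.ι W i w, ?_⟩
    rw [← Scheme.Hom.comp_apply, Sigma.ι_desc]
  · have : Sigma.desc p ≫ h = Sigma.desc (fun i => p i ≫ h) := by
      ext i
      simp
    rw [this]
    exact IsZariskiLocalAtSource.sigmaDesc H

theorem SrcLocal.inf {P P' : MorphismProperty Scheme.{u}} (h : SrcLocal P) (h' : SrcLocal P') :
    SrcLocal (P ⊓ P') := fun _ _ _ p g hp hs hpg => ⟨h p g hp hs hpg.1, h' p g hp hs hpg.2⟩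

end More
end Groth.Agent.Lib.Helper14.ESL
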