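import Mathlib.AlgebraicGeometry.Morphisms.QuasiFinite
import Mathlib.AlgebraicGeometry.Morphisms.Etale
import Mathlib.RingTheory.Unramified.LocalStructure

/-!
# Etale morphisms are locally quasi-finite (helper14)
-/

universe u
open CategoryTheory AlgebraicGeometry

namespace Groth.Agent.Lib.Helper14.AS

theorem ringHom_etale_quasiFinite {R T : Type u} [CommRing R] [CommRing T] (f : R →+* T)
    (hf : f.Etale) : f.QuasiFinite := by
  algebraize [f]
  have : Algebra.Etale R T := hf
  exact (inferInstance : Algebra.QuasiFinite R T)

theorem etale_locallyQuasiFinite {X Y : Scheme.{u}} (f : X ⟶ Y) [Etale f] :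
    LocallyQuasiFinite f := by
  rw [HasRingHomProperty.iff_appLE (P := @LocallyQuasiFinite)]
  intro U V e
  exact ringHom_etale_quasiFinite _ (HasRingHomProperty.appLE (P := @Etale) _ ‹_› U V e)

end Groth.Agent.Lib.Helper14.AS
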