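import Groth.Agent.Lib.Helper14.AlgSpLocP
import Groth.Agent.Lib.Helper14.EtSrcLocal
import Groth.Agent.Lib.Helper14.EtaleLQF

/-!
# Calculus of `AlgSp.LocP` for properties etale local on source and target (helper14)
-/

universe u
open CategoryTheory CategoryTheory.Limits AlgebraicGeometry Opposite Topology

namespace Groth.Agent.Lib.Helper14.AS

open AlgSp Groth.Agent.Lib.Helper14.ESL

variable {S : Scheme.{u}}

/-- `P` is etale local on the source and target (in a form convenient for `LocP`). -/
structure EtLocal (P : MorphismProperty Scheme.{u}) : Prop where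
  src : SrcLocal P
  comp_etale : ∀ ⦃X Y Z : Scheme.{u}⦄ (f : X ⟶ Y) (g : Y ⟶ Z), P f → Etale g → P (f ≫ g)
  etale_comp : ∀ ⦃X Y Z : Scheme.{u}⦄ (f : X ⟶ Y) (g : Y ⟶ Z), Etale f → P g → P (f ≫ g)
  of_comp_etale : ∀ ⦃X Y Z : Scheme.{u}⦄ (f : X ⟶ Y) (g : Y ⟶ Z), P (f ≫ g) → Etale g → P f

set_option backward.isDefEq.respectTransparency.types false in
theorem EtLocal.mk' {P : MorphismProperty Scheme.{u}} [P.IsStableUnderComposition]
    [P.IsStableUnderBaseChange] (hle : (@Etale : MorphismProperty Scheme.{u}) ≤ P)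
    (hsrc : SrcLocal P) : EtLocal P where
  src := hsrc
  comp_etale _ _ _ f g hf hg := P.comp_mem f g hf (hle _ _ _ hg)
  etale_comp _ _ _ f g hf hg := P.comp_mem f g (hle _ _ _ hf) hg
  of_comp_etale X Y Z f g hfg hg := by
    have : P.ContainsIdentities := ⟨fun X => hle _ _ _ (inferInstanceAs (Etale (𝟙 X)))⟩
    have : P.IsMultiplicative := {}
    have : P.HasOfPostcompProperty @Etale := by
      rw [MorphismProperty.hasOfPostcompProperty_iff_le_diagonal]
      intro A B k hk
      have : Etale k := hk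
      exact hle _ _ _ (inferInstanceAs (Etale (pullback.diagonal k)))
    exact MorphismProperty.of_postcomp (W := P) (W' := @Etale) f g hg hfg

set_option backward.isDefEq.respectTransparency.types false in
/-- One chart diagram with surjective etale source chart and top arrow in `P` gives `LocP P`. -/
theorem locP_of_chart {P : MorphismProperty Scheme.{u}} (hP : EtLocal P) {X Y : Sp S} (f : X ⟶ Y)
    {U₀ V₀ : Over S} (a₀ : (yon S).obj U₀ ⟶ X) (b₀ : (yon S).obj V₀ ⟶ Y) (h₀ : U₀ ⟶ V₀)
    (ha₀ : RepWith @Etale a₀) (has₀ : RepWith @Surjective a₀) (hb₀ : RepWith @Etale b₀)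
    (comm₀ : a₀ ≫ f = (yon S).map h₀ ≫ b₀) (hh₀ : P h₀.left) : LocP P f := by
  intro U V a b h ha hb comm
  -- U' = U ×_X U₀
  have sq₁ := ha₀.rep.isPullback a
  have hu : Etale (ha₀.rep.snd a).left := ha₀.property_snd a
  have hus : Surjective (ha₀.rep.snd a).left := has₀.property _ _ _ sq₁
  obtain ⟨u₀, hu₀⟩ := (yon S).map_surjective (ha₀.rep.fst a)
  have hu₀e : Etale u₀.left := by
    have : RepWith @Etale (ha₀.rep.fst a) :=
      MorphismProperty.of_isPullback (P := RepWith @Etale) sq₁.flip ha
    rw [← hu₀] at this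
    exact (repWith_yon_map_iff _ _).1 this
  -- V' = V ×_Y V₀
  have sq₂ := hb₀.rep.isPullback b
  have hv : Etale (hb₀.rep.snd b).left := hb₀.property_snd b
  obtain ⟨v₀, hv₀⟩ := (yon S).map_surjective (hb₀.rep.fst b)
  have hv₀e : Etale v₀.left := by
    have : RepWith @Etale (hb₀.rep.fst b) :=
      MorphismProperty.of_isPullback (P := RepWith @Etale) sq₂.flip hb
    rw [← hv₀] at this
    exact (repWith_yon_map_iff _ _).1 this
  -- k : U' ⟶ V'
  have compat : (yon S).map (u₀ ≫ h₀) ≫ b₀ = (yon S).map (ha₀.rep.snd a ≫ h) ≫ b := by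
    rw [Functor.map_comp, Functor.map_comp, Category.assoc, Category.assoc, ← comm₀, ← comm, hu₀,
      ← Category.assoc, sq₁.w, Category.assoc]
  obtain ⟨k, hk⟩ := (yon S).map_surjective (sq₂.lift _ _ compat)
  have hk1 : k ≫ v₀ = u₀ ≫ h₀ :=
    (yon S).map_injective (by rw [Functor.map_comp, hk, hv₀, sq₂.lift_fst])
  have hk2 : k ≫ hb₀.rep.snd b = ha₀.rep.snd a ≫ h :=
    (yon S).map_injective (by rw [Functor.map_comp, hk, sq₂.lift_snd])
  have h1 : P (u₀.left ≫ h₀.left) := hP.etale_comp _ _ hu₀e hh₀
  have h2 : P (k.left ≫ v₀.left) := by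
    rw [← Over.comp_left, hk1, Over.comp_left]; exact h1
  have h3 : P k.left := hP.of_comp_etale _ _ h2 hv₀e
  have h4 : P (k.left ≫ (hb₀.rep.snd b).left) := hP.comp_etale _ _ h3 hv
  have h5 : P ((ha₀.rep.snd a).left ≫ h.left) := by
    rw [← Over.comp_left, ← hk2, Over.comp_left]; exact h4
  exact hP.src _ _ hu hus h5

set_option backward.isDefEq.respectTransparency.types false in
theorem etLocal_lft : EtLocal @LocallyOfFiniteType.{u} :=
  EtLocal.mk' etale_le_lft srcLocal_locallyOfFiniteType

set_option backward.isDefEq.respectTransparency.types false in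
theorem etLocal_lfp : EtLocal @LocallyOfFinitePresentation.{u} :=
  EtLocal.mk' etale_le_lfp srcLocal_locallyOfFinitePresentation

set_option backward.isDefEq.respectTransparency.types false in
theorem etLocal_flat : EtLocal @Flat.{u} := EtLocal.mk' etale_le_flat srcLocal_flat

set_option backward.isDefEq.respectTransparency.types false in
theorem etLocal_etale : EtLocal @Etale.{u} := EtLocal.mk' le_rfl srcLocal_etale

theorem etale_le_formallyUnramified :
    (@Etale : MorphismProperty Scheme.{u}) ≤ @FormallyUnramified :=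
  fun _ _ _ h => by have := h; infer_instance

set_option backward.isDefEq.respectTransparency.types false in
theorem etLocal_formallyUnramified : EtLocal @FormallyUnramified.{u} :=
  EtLocal.mk' etale_le_formallyUnramified srcLocal_formallyUnramified

set_option backward.isDefEq.respectTransparency.types false in
theorem etLocal_lft_fu : EtLocal (@LocallyOfFiniteType.{u} ⊓ @FormallyUnramified) :=
  EtLocal.mk' (fun _ _ _ h => ⟨etale_le_lft _ _ _ h, etale_le_formallyUnramified _ _ _ h⟩)
    (srcLocal_locallyOfFiniteType.inf srcLocal_formallyUnramified)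

set_option backward.isDefEq.respectTransparency.types false in
theorem etLocal_lqf_lft : EtLocal (@LocallyQuasiFinite.{u} ⊓ @LocallyOfFiniteType) :=
  EtLocal.mk' (fun _ _ f h => ⟨by have : Etale f := h; exact etale_locallyQuasiFinite f,
    etale_le_lft _ _ _ h⟩) srcLocal_lqf_lft

/-- `LocP P` is stable under composition (for `P` etale local and stable under composition). -/
theorem locP_comp {P : MorphismProperty Scheme.{u}} (hP : EtLocal P) [P.IsStableUnderComposition]
    {X Y Z : Sp S} (hX : IsAlgSpace X) (hY : IsAlgSpace Y) (hZ : IsAlgSpace Z)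
    (f : X ⟶ Y) (g : Y ⟶ Z) (hf : LocP P f) (hg : LocP P g) : LocP P (f ≫ g) := by
  obtain ⟨W, c, hce, hcs⟩ := hZ.atlas
  obtain ⟨V, b, k, hbe, hbs, commg⟩ := exists_chart_diagram hY g c hce hcs
  obtain ⟨U, a, h, hae, has, commf⟩ := exists_chart_diagram hX f b hbe hbs
  have hk : P k.left := hg b c k hbe hce commg
  have hh : P h.left := hf a b h hae hbe commf
  refine locP_of_chart hP (f ≫ g) a c (h ≫ k) hae has hce ?_ ?_
  · rw [← Category.assoc, commf, Category.assoc, commg, Functor.map_comp, Category.assoc]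
  · rw [Over.comp_left]
    exact P.comp_mem _ _ hh hk

set_option backward.isDefEq.respectTransparency.types false in
/-- `LocP P` is stable under base change (for `P` etale local and stable under base change). -/
theorem locP_baseChange {P : MorphismProperty Scheme.{u}} (hP : EtLocal P)
    [P.IsStableUnderBaseChange] {X Y Y' X' : Sp S} (hX : IsAlgSpace X) (hY : IsAlgSpace Y)
    (hY' : IsAlgSpace Y') (f : X ⟶ Y) (g : Y' ⟶ Y) (fst : X' ⟶ X) (f' : X' ⟶ Y')
    (sq : IsPullback fst f' f g) (hf : LocP P f) : LocP P f' := by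
  obtain ⟨V, b, hbe, hbs⟩ := hY.atlas
  obtain ⟨U, a, h, hae, has, comm⟩ := exists_chart_diagram hX f b hbe hbs
  have hh : P h.left := hf a b h hae hbe comm
  obtain ⟨V'₀, b'₀, hb'e, hb's⟩ := hY'.atlas
  have sqV := hbe.rep.isPullback (b'₀ ≫ g)
  have hv'e : Etale (hbe.rep.snd (b'₀ ≫ g)).left := hbe.property_snd _
  obtain ⟨w, hw⟩ := (yon S).map_surjective (hbe.rep.fst (b'₀ ≫ g))
  rw [← hw] at sqV
  have sqU := IsPullback.of_hasPullback h w
  have hh' : P (pullback.snd h w).left :=
    MorphismProperty.of_isPullback (P := P.inverseImage (Over.forget S)) sqU hh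
  have big := (sqU.map (yon S)).flip.paste_horiz sqV.flip
  rw [← comm] at big
  have sqM := IsPullback.of_hasPullback f' b'₀
  have R := sqM.paste_horiz sq
  have hc : ((yon S).map (pullback.fst h w) ≫ a) ≫ f =
      ((yon S).map (pullback.snd h w) ≫ (yon S).map (hbe.rep.snd (b'₀ ≫ g))) ≫ b'₀ ≫ g := by
    rw [Category.assoc]; exact big.w.symm
  have hμ2 : R.lift _ _ hc ≫ pullback.snd f' b'₀ =
      (yon S).map (pullback.snd h w) ≫ (yon S).map (hbe.rep.snd (b'₀ ≫ g)) := R.lift_snd _ _ _
  have hμ1 : R.lift _ _ hc ≫ pullback.fst f' b'₀ ≫ fst = (yon S).map (pullback.fst h w) ≫ a :=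
    R.lift_fst _ _ _
  have left : IsPullback (R.lift _ _ hc) ((yon S).map (pullback.fst h w))
      (pullback.fst f' b'₀ ≫ fst) a := by
    refine IsPullback.of_right ?_ hμ1 R.flip
    rw [hμ2]
    exact big
  have hμe : RepWith @Etale (R.lift _ _ hc) :=
    MorphismProperty.of_isPullback (P := RepWith @Etale) left.flip hae
  have hμs : RepWith @Surjective (R.lift _ _ hc) :=
    MorphismProperty.of_isPullback (P := RepWith @Surjective) left.flip has
  have hm1e : RepWith @Etale (pullback.fst f' b'₀) :=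
    MorphismProperty.of_isPullback (P := RepWith @Etale) sqM.flip hb'e
  have hm1s : RepWith @Surjective (pullback.fst f' b'₀) :=
    MorphismProperty.of_isPullback (P := RepWith @Surjective) sqM.flip hb's
  have hb' : RepWith @Etale ((yon S).map (hbe.rep.snd (b'₀ ≫ g)) ≫ b'₀) :=
    repWith_comp _ ((repWith_yon_map_iff _ _).2 hv'e) hb'e
  refine locP_of_chart hP f' (R.lift _ _ hc ≫ pullback.fst f' b'₀)
    ((yon S).map (hbe.rep.snd (b'₀ ≫ g)) ≫ b'₀) (pullback.snd h w)
    (repWith_comp _ hμe hm1e) (repWith_comp _ hμs hm1s) hb' ?_ hh'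
  rw [Category.assoc, sqM.w, ← Category.assoc, hμ2, Category.assoc]

set_option backward.isDefEq.respectTransparency.types false in
/-- `LocP P` can be checked after precomposing with a surjective etale chart of the source. -/
theorem locP_of_source_cover {P : MorphismProperty Scheme.{u}} (hP : EtLocal P) {X Y : Sp S}
    (hY : IsAlgSpace Y) (f : X ⟶ Y) {U : Over S} (φ : (yon S).obj U ⟶ X)
    (hφ : RepWith @Etale φ) (hφs : RepWith @Surjective φ) (h : LocP P (φ ≫ f)) : LocP P f := by
  obtain ⟨V, b, hbe, hbs⟩ := hY.atlas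
  obtain ⟨U', a, k, hae, has, comm⟩ :=
    exists_chart_diagram (IsAlgSpace.yon_obj U) (φ ≫ f) b hbe hbs
  have hk : P k.left := h a b k hae hbe comm
  refine locP_of_chart hP f (a ≫ φ) b k (repWith_comp _ hae hφ) (repWith_comp _ has hφs) hbe ?_ hk
  rw [Category.assoc]; exact comm

set_option backward.isDefEq.respectTransparency.types false in
/-- If `f ≫ g` has `P` etale locally and `P` satisfies left cancellation, then `f` has `P`
etale locally. -/
theorem locP_of_comp {P : MorphismProperty Scheme.{u}} (hP : EtLocal P)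
    (hc : ∀ ⦃A B C : Scheme.{u}⦄ (f : A ⟶ B) (g : B ⟶ C), P (f ≫ g) → P f)
    {X Y Z : Sp S} (hZ : IsAlgSpace Z) (f : X ⟶ Y) (g : Y ⟶ Z) (hfg : LocP P (f ≫ g)) :
    LocP P f := by
  intro U V a b h ha hb comm
  obtain ⟨W, c, hce, hcs⟩ := hZ.atlas
  have sqV := hce.rep.isPullback (b ≫ g)
  have he : Etale (hce.rep.snd (b ≫ g)).left := hce.property_snd _
  have hs : Surjective (hce.rep.snd (b ≫ g)).left := hcs.property _ _ _ sqV
  obtain ⟨w1, hw1⟩ := (yon S).map_surjective (hce.rep.fst (b ≫ g))
  have sqU := IsPullback.of_hasPullback h (hce.rep.snd (b ≫ g))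
  have hfe : Etale (pullback.fst h (hce.rep.snd (b ≫ g))).left :=
    MorphismProperty.of_isPullback (P := MorphismProperty.inverseImage @Etale (Over.forget S))
      sqU.flip he
  have hfs : Surjective (pullback.fst h (hce.rep.snd (b ≫ g))).left :=
    MorphismProperty.of_isPullback (P := MorphismProperty.inverseImage @Surjective (Over.forget S))
      sqU.flip hs
  have ha' : RepWith @Etale ((yon S).map (pullback.fst h (hce.rep.snd (b ≫ g))) ≫ a) :=
    repWith_comp _ ((repWith_yon_map_iff _ _).2 hfe) ha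
  have comm' : ((yon S).map (pullback.fst h (hce.rep.snd (b ≫ g))) ≫ a) ≫ f ≫ g =
      (yon S).map (pullback.snd h (hce.rep.snd (b ≫ g)) ≫ w1) ≫ c := by
    rw [Category.assoc, reassoc_of% comm, ← Functor.map_comp_assoc, sqU.w, Functor.map_comp,
      Functor.map_comp, Category.assoc, Category.assoc, hw1, sqV.w]
  have h1 : P ((pullback.snd h (hce.rep.snd (b ≫ g))).left ≫ w1.left) :=
    hfg _ c _ ha' hce comm'
  have h2 : P (pullback.snd h (hce.rep.snd (b ≫ g))).left := hc _ _ h1
  have h3 : P ((pullback.snd h (hce.rep.snd (b ≫ g))).left ≫ (hce.rep.snd (b ≫ g)).left) :=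
    hP.comp_etale _ _ h2 he
  have h4 : P ((pullback.fst h (hce.rep.snd (b ≫ g))).left ≫ h.left) := by
    rw [← Over.comp_left, sqU.w, Over.comp_left]; exact h3
  exact hP.src _ _ hfe hfs h4

set_option backward.isDefEq.respectTransparency.types false in
/-- `LocP P` is local on the source for jointly surjective families of etale morphisms of
algebraic spaces. -/
theorem locP_of_etCover {P : MorphismProperty Scheme.{u}} (hP : EtLocal P)
    [IsZariskiLocalAtSource P] {ι : Type u} {X Y : Sp S} (Xi : ι → Sp S) (g : ∀ i, Xi i ⟶ X)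
    (hXi : ∀ i, IsAlgSpace (Xi i)) (hg : ∀ i, IsEtaleMor (g i))
    (hsurj : ∀ x : Points X, ∃ i, x ∈ Set.range (Points.map (g i))) (f : X ⟶ Y)
    (H : ∀ i, LocP P (g i ≫ f)) : LocP P f := by
  intro U V a b h ha hb comm
  choose Ui ai hae has using fun i => (hXi i).atlas
  have hc : ∀ i, RepWith @Etale (ai i ≫ g i) := fun i => hg i (ai i) (hae i)
  have sq := fun i => (hc i).rep.isPullback' a
  have hsnd : ∀ i, Etale ((hc i).rep.snd a).left := fun i => (hc i).property_snd a
  have hfst : ∀ i, Etale ((hc i).rep.fst' a).left := fun i => by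
    have : RepWith @Etale ((yon S).map ((hc i).rep.fst' a)) :=
      MorphismProperty.of_isPullback (P := RepWith @Etale) (sq i).flip ha
    exact (repWith_yon_map_iff _ _).1 this
  refine hP.src.of_family (fun i => ((hc i).rep.pullback a).left)
    (fun i => ((hc i).rep.snd a).left) hsnd ?_ h.left ?_
  · intro u
    obtain ⟨i, y, hy⟩ := hsurj (Points.ofPt a u)
    obtain ⟨ui, rfl⟩ := ofPt_surjective_of_repWith (has i) y
    have e : Points.ofPt (ai i ≫ g i) ui = Points.ofPt a u := by
      rw [← hy, Points.map_ofPt]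
    obtain ⟨w, -, hw⟩ := exists_point_of_isPullback_yon (sq i) ui u e
    exact ⟨i, w, hw⟩
  · intro i
    have key := H i ((yon S).map ((hc i).rep.fst' a) ≫ ai i) b ((hc i).rep.snd a ≫ h)
      (repWith_comp _ ((repWith_yon_map_iff _ _).2 (hfst i)) (hae i)) hb (by
        rw [Category.assoc, ← Category.assoc (ai i), (sq i).w_assoc, comm, Functor.map_comp,
          Category.assoc])
    rwa [Over.comp_left] at key

theorem isEtaleMor_comp {X Y Z : Sp S} {f : X ⟶ Y} {g : Y ⟶ Z} (hf : IsEtaleMor f)
    (hg : IsEtaleMor g) : IsEtaleMor (f ≫ g) := fun U φ hφ => by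
  rw [← Category.assoc]
  exact hg _ (hf φ hφ)

/-- An etale morphism (in the sense of `IsEtaleMor`) is etale locally on source and target. -/
theorem locP_etale_of_isEtaleMor {X Y : Sp S} {f : X ⟶ Y} (hf : IsEtaleMor f) :
    LocP @Etale f := by
  intro U V a b h ha hb comm
  have h1 : RepWith @Etale ((yon S).map h ≫ b) := by rw [← comm]; exact hf a ha
  exact (repWith_yon_map_iff _ _).1 (repWith_etale_of_comp _ _ hb h1)

set_option backward.isDefEq.respectTransparency.types false in
/-- Conversely, a morphism to an algebraic space which is etale locally on source and target is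
etale in the sense of `IsEtaleMor`. -/
theorem isEtaleMor_of_locP_etale {X Y : Sp S} (hY : IsAlgSpace Y) {f : X ⟶ Y}
    (hf : LocP @Etale f) : IsEtaleMor f := by
  intro U φ hφ
  have hr : Representable (φ ≫ f) := hY.representable_from_yon _
  obtain ⟨V, b, hbe, hbs⟩ := hY.atlas
  have : Sheaf.IsLocallySurjective b := isLocallySurjective_of_etale_surjective b hbe hbs
  have sq := hr.isPullback b
  obtain ⟨j, hj⟩ := (yon S).map_surjective (hr.fst b)
  rw [← hj] at sq
  have hje : Etale j.left := hbe.property _ _ _ sq.flip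
  have h1 : Etale (hr.snd b).left := by
    refine hf ((yon S).map j ≫ φ) b (hr.snd b) ?_ hbe ?_
    · exact repWith_comp _ ((repWith_yon_map_iff _ _).2 hje) hφ
    · rw [Category.assoc]; exact sq.w
  exact (repWith_iff_of_chart hr b sq @Etale).2 h1

theorem isEtaleMor_iff_locP_etale {X Y : Sp S} (hY : IsAlgSpace Y) {f : X ⟶ Y} :
    IsEtaleMor f ↔ LocP @Etale f :=
  ⟨locP_etale_of_isEtaleMor, isEtaleMor_of_locP_etale hY⟩

end Groth.Agent.Lib.Helper14.AS
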