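import Mathlib
import Groth.Agent.Lib.Helper18.FlL

universe u
set_option linter.style.haveILetI false
set_option linter.unusedSectionVars false
open CategoryTheory CategoryTheory.Limits AlgebraicGeometry TensorProduct

namespace Groth.Agent.Lib.Helper14.AS

/-- a prime of `S ⊗[R] T` over compatible primes of `S` and `T` -/
theorem exists_prime_tensorProduct (R S T : Type u) [CommRing R] [CommRing S] [CommRing T]
    [Algebra R S] [Algebra R T] (p : PrimeSpectrum S) (q : PrimeSpectrum T)
    (h : PrimeSpectrum.comap (algebraMap R S) p = PrimeSpectrum.comap (algebraMap R T) q) :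
    ∃ P : PrimeSpectrum (S ⊗[R] T),
      PrimeSpectrum.comap (algebraMap S (S ⊗[R] T)) P = p := by
  obtain ⟨z, hz1, -⟩ := Scheme.Pullback.exists_preimage_pullback
    (f := Spec.map (CommRingCat.ofHom (algebraMap R S)))
    (g := Spec.map (CommRingCat.ofHom (algebraMap R T))) p q h
  refine ⟨(pullbackSpecIso R S T).hom z, ?_⟩
  have := congrArg (fun k => k z) (pullbackSpecIso_hom_fst' R S T)
  simp only [Scheme.Hom.comp_apply] at this
  exact this.trans hz1


section enlarge
variable {A₀ A B₀ B : Type u} [CommRing A₀] [CommRing A] [CommRing B₀] [CommRing B]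
  [Algebra A₀ A] [Algebra A₀ B₀] [Algebra B₀ B] [Algebra A B] [Algebra A₀ B]
  [IsScalarTower A₀ A B] [IsScalarTower A₀ B₀ B]

attribute [local instance] Algebra.TensorProduct.rightAlgebra

/-- enlarging the base of a pushout model -/
theorem isPushout_enlarge (h : Algebra.IsPushout A₀ A B₀ B) (A₁ : Type u) [CommRing A₁]
    [Algebra A₀ A₁] [Algebra A₁ A] [IsScalarTower A₀ A₁ A] :
    ∃ (_ : Algebra (A₁ ⊗[A₀] B₀) B) (_ : Algebra A₁ B) (_ : IsScalarTower A₁ A B)
      (_ : IsScalarTower A₁ (A₁ ⊗[A₀] B₀) B), Algebra.IsPushout A₁ A (A₁ ⊗[A₀] B₀) B := by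
  letI : Algebra A₁ B := ((algebraMap A B).comp (algebraMap A₁ A)).toAlgebra
  haveI : IsScalarTower A₁ A B := IsScalarTower.of_algebraMap_eq fun _ => rfl
  haveI : IsScalarTower A₀ A₁ B := IsScalarTower.of_algebraMap_eq fun x => by
    rw [IsScalarTower.algebraMap_apply A₀ A B, IsScalarTower.algebraMap_apply A₀ A₁ A]; rfl
  let φ : A₁ ⊗[A₀] B₀ →ₐ[A₀] B := Algebra.TensorProduct.lift (IsScalarTower.toAlgHom A₀ A₁ B)
    (IsScalarTower.toAlgHom A₀ B₀ B) (fun _ _ => Commute.all _ _)
  letI : Algebra (A₁ ⊗[A₀] B₀) B := φ.toRingHom.toAlgebra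
  have hφ : ∀ x, algebraMap (A₁ ⊗[A₀] B₀) B x = φ x := fun _ => rfl
  haveI : IsScalarTower A₁ (A₁ ⊗[A₀] B₀) B := IsScalarTower.of_algebraMap_eq fun x => by
    rw [hφ, Algebra.TensorProduct.algebraMap_apply]
    simp [φ]
  haveI : IsScalarTower B₀ (A₁ ⊗[A₀] B₀) B := IsScalarTower.of_algebraMap_eq fun x => by
    rw [hφ]
    change _ = φ (1 ⊗ₜ x)
    simp [φ]
  haveI : IsScalarTower A₀ (A₁ ⊗[A₀] B₀) B := IsScalarTower.of_algebraMap_eq fun x => by
    rw [hφ]
    exact (φ.commutes x).symm
  refine ⟨inferInstance, inferInstance, inferInstance, inferInstance, ?_⟩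
  exact (Algebra.IsPushout.comp_iff A₀ A₁ B₀ (S' := A₁ ⊗[A₀] B₀) (T := A) (T' := B)).1 h

end enlarge


section model
attribute [local instance] Algebra.TensorProduct.rightAlgebra

set_option maxHeartbeats 1000000 in
/-- a faithfully flat finitely presented algebra has a faithfully flat finitely presented model
over a finite type `ℤ`-algebra -/
theorem exists_int_faithfullyFlat_model (A B : Type u) [CommRing A] [CommRing B] [Algebra A B]
    [Module.FaithfullyFlat A B] [Algebra.FinitePresentation A B] :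
    ∃ (A₁ : Type u) (_ : CommRing A₁) (_ : Algebra A₁ A) (B₁ : Type u) (_ : CommRing B₁)
      (_ : Algebra A₁ B₁) (_ : Algebra B₁ B) (_ : Algebra A₁ B) (_ : IsScalarTower A₁ A B)
      (_ : IsScalarTower A₁ B₁ B),
      Algebra.FiniteType ℤ A₁ ∧ Algebra.FinitePresentation A₁ B₁ ∧ Module.FaithfullyFlat A₁ B₁ ∧
        Algebra.IsPushout A₁ A B₁ B := by
  classical
  obtain ⟨A₀, _, _, B₀, _, _, _, _, _, _, hA₀, hB₀, hfl, hpo⟩ :=
    Groth.Agent.Lib.Helper18.Fl.exists_finiteType_int_flat_algebra_model A B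
  haveI : IsNoetherianRing A₀ := Algebra.FiniteType.isNoetherianRing ℤ A₀
  haveI : Algebra.FinitePresentation A₀ B₀ := Algebra.FinitePresentation.of_finiteType.1 hB₀
  -- the image of Spec B₀ in Spec A₀ is open
  have hopen : IsOpen (Set.range (PrimeSpectrum.comap (algebraMap A₀ B₀))) :=
    (PrimeSpectrum.isOpenMap_comap_of_hasGoingDown_of_finitePresentation (R := A₀)
      (S := B₀)).isOpen_range
  obtain ⟨J, hJ⟩ := (PrimeSpectrum.isClosed_iff_zeroLocus_ideal _).1 hopen.isClosed_compl
  -- the image of Spec A lands in the image of Spec B₀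
  have hJtop : J.map (algebraMap A₀ A) = ⊤ := by
    by_contra hne
    obtain ⟨M, hM, hle⟩ := Ideal.exists_le_maximal _ hne
    obtain ⟨q, hq⟩ := PrimeSpectrum.comap_surjective_of_faithfullyFlat (A := A) (B := B)
      ⟨M, hM.isPrime⟩
    have h1 : PrimeSpectrum.comap (algebraMap A₀ A) ⟨M, hM.isPrime⟩ ∈
        (Set.range (PrimeSpectrum.comap (algebraMap A₀ B₀)))ᶜ := by
      rw [hJ]
      intro x hx
      exact hle (Ideal.mem_map_of_mem _ hx)
    apply h1
    refine ⟨PrimeSpectrum.comap (algebraMap B₀ B) q, ?_⟩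
    rw [← hq, ← PrimeSpectrum.comap_comp_apply, ← PrimeSpectrum.comap_comp_apply,
      ← IsScalarTower.algebraMap_eq, ← IsScalarTower.algebraMap_eq]
  have h1mem : (1 : A) ∈ Submodule.span A ((algebraMap A₀ A) '' (J : Set A₀)) := by
    have : (1 : A) ∈ J.map (algebraMap A₀ A) := by rw [hJtop]; trivial
    exact this
  obtain ⟨n, c, g, hsum⟩ := Submodule.mem_span_set'.1 h1mem
  choose f hfJ hfg using fun i => (g i).2
  -- the model
  let rel : MvPolynomial (Fin n) A₀ :=
    ∑ i, MvPolynomial.X i * MvPolynomial.C (f i) - 1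
  let I : Ideal (MvPolynomial (Fin n) A₀) := Ideal.span {rel}
  have hrel : (MvPolynomial.aeval c : MvPolynomial (Fin n) A₀ →ₐ[A₀] A) rel = 0 := by
    simp only [rel, map_sub, map_sum, map_mul, MvPolynomial.aeval_X, MvPolynomial.aeval_C,
      map_one]
    rw [sub_eq_zero, ← hsum]
    refine Finset.sum_congr rfl fun i _ => ?_
    rw [hfg i, smul_eq_mul]
  let ψ : MvPolynomial (Fin n) A₀ ⧸ I →ₐ[A₀] A :=
    Ideal.Quotient.liftₐ I (MvPolynomial.aeval c) (by
      intro a ha
      rw [← RingHom.mem_ker]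
      refine (Ideal.span_le.2 ?_) ha
      rintro _ rfl
      exact hrel)
  letI : Algebra (MvPolynomial (Fin n) A₀ ⧸ I) A := ψ.toRingHom.toAlgebra
  haveI : IsScalarTower A₀ (MvPolynomial (Fin n) A₀ ⧸ I) A :=
    IsScalarTower.of_algebraMap_eq fun x => (ψ.commutes x).symm
  obtain ⟨_, _, _, _, hpo₁⟩ := isPushout_enlarge hpo (MvPolynomial (Fin n) A₀ ⧸ I)
  refine ⟨MvPolynomial (Fin n) A₀ ⧸ I, inferInstance, inferInstance,
    (MvPolynomial (Fin n) A₀ ⧸ I) ⊗[A₀] B₀, inferInstance, inferInstance, inferInstance,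
    inferInstance, inferInstance, inferInstance, ?_, inferInstance, ?_, hpo₁⟩
  · haveI : Algebra.FiniteType A₀ (MvPolynomial (Fin n) A₀ ⧸ I) := inferInstance
    exact Algebra.FiniteType.trans hA₀ this
  · -- faithful flatness
    refine Module.FaithfullyFlat.of_comap_surjective fun p₁ => ?_
    obtain ⟨i, hi⟩ : ∃ i, algebraMap A₀ (MvPolynomial (Fin n) A₀ ⧸ I) (f i) ∉ p₁.asIdeal := by
      by_contra hcon
      push Not at hcon
      have hone : (1 : MvPolynomial (Fin n) A₀ ⧸ I) =
          ∑ i, Ideal.Quotient.mk I (MvPolynomial.X i) *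
            algebraMap A₀ (MvPolynomial (Fin n) A₀ ⧸ I) (f i) := by
        have h0 : Ideal.Quotient.mk I rel = 0 :=
          Ideal.Quotient.eq_zero_iff_mem.2 (Ideal.subset_span rfl)
        simp only [rel, map_sub, map_sum, map_mul, map_one] at h0
        rw [sub_eq_zero] at h0
        rw [← h0]
        rfl
      apply p₁.2.ne_top
      rw [Ideal.eq_top_iff_one, hone]
      exact Ideal.sum_mem _ fun i _ => Ideal.mul_mem_left _ _ (hcon i)
    have hp₀ : PrimeSpectrum.comap (algebraMap A₀ (MvPolynomial (Fin n) A₀ ⧸ I)) p₁ ∈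
        Set.range (PrimeSpectrum.comap (algebraMap A₀ B₀)) := by
      by_contra hcon
      have : PrimeSpectrum.comap (algebraMap A₀ (MvPolynomial (Fin n) A₀ ⧸ I)) p₁ ∈
          PrimeSpectrum.zeroLocus (J : Set A₀) := by rw [← hJ]; exact hcon
      exact hi (this (hfJ i))
    obtain ⟨q₀, hq₀⟩ := hp₀
    obtain ⟨P, hP⟩ := exists_prime_tensorProduct A₀ (MvPolynomial (Fin n) A₀ ⧸ I) B₀ p₁ q₀ hq₀.symm
    exact ⟨P, hP⟩


set_option maxHeartbeats 1000000 in
/-- Stacks 10.168.1: a faithfully flat finitely presented `A`-algebra `B`, with `A` an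
`R`-algebra, descends to a finitely presented `R`-algebra `A'`. -/
theorem exists_fp_faithfullyFlat_model (R A B : Type u) [CommRing R] [CommRing A] [CommRing B]
    [Algebra R A] [Algebra A B]
    [Module.FaithfullyFlat A B] [Algebra.FinitePresentation A B] :
    ∃ (A' : Type u) (_ : CommRing A') (_ : Algebra R A') (_ : Algebra A' A)
      (_ : IsScalarTower R A' A) (B' : Type u) (_ : CommRing B')
      (_ : Algebra A' B') (_ : Algebra B' B) (_ : Algebra A' B) (_ : IsScalarTower A' A B)
      (_ : IsScalarTower A' B' B),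
      Algebra.FinitePresentation R A' ∧ Algebra.FinitePresentation A' B' ∧
        Module.FaithfullyFlat A' B' ∧ Algebra.IsPushout A' A B' B := by
  obtain ⟨A₁, _, _, B₁, _, _, _, _, _, _, hA₁, hB₁, hff, hpo⟩ :=
    exists_int_faithfullyFlat_model A B
  haveI : Algebra.FinitePresentation ℤ A₁ := Algebra.FinitePresentation.of_finiteType.1 hA₁
  let ψ : R ⊗[ℤ] A₁ →ₐ[R] A :=
    Algebra.TensorProduct.lift (Algebra.ofId R A) ((algebraMap A₁ A).toIntAlgHom)
      (fun _ _ => Commute.all _ _)
  letI : Algebra (R ⊗[ℤ] A₁) A := ψ.toRingHom.toAlgebra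
  have hψ : ∀ x, algebraMap (R ⊗[ℤ] A₁) A x = ψ x := fun _ => rfl
  haveI : IsScalarTower R (R ⊗[ℤ] A₁) A :=
    IsScalarTower.of_algebraMap_eq fun x => (ψ.commutes x).symm
  haveI : IsScalarTower A₁ (R ⊗[ℤ] A₁) A := IsScalarTower.of_algebraMap_eq fun x => by
    rw [hψ]
    change _ = ψ (1 ⊗ₜ x)
    simp [ψ]
  obtain ⟨_, _, _, _, hpo₁⟩ := isPushout_enlarge hpo (R ⊗[ℤ] A₁)
  exact ⟨R ⊗[ℤ] A₁, inferInstance, inferInstance, inferInstance, inferInstance,
    (R ⊗[ℤ] A₁) ⊗[A₁] B₁, inferInstance, inferInstance, inferInstance,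
    inferInstance, inferInstance, inferInstance, inferInstance, inferInstance, inferInstance, hpo₁⟩

/-- Stacks 10.168.2 -/
theorem finiteType_of_faithfullyFlat_fp (R A B : Type u) [CommRing R] [CommRing A] [CommRing B]
    [Algebra R A] [Algebra A B] [Algebra R B] [IsScalarTower R A B] [Algebra.FiniteType R B]
    [Module.FaithfullyFlat A B] [Algebra.FinitePresentation A B] : Algebra.FiniteType R A := by
  obtain ⟨A', _, _, _, _, B', _, _, _, _, _, _, hA', hB', hff, hpo⟩ :=
    exists_fp_faithfullyFlat_model R A B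
  letI : Algebra R B' := ((algebraMap A' B').comp (algebraMap R A')).toAlgebra
  haveI : IsScalarTower R A' B' := IsScalarTower.of_algebraMap_eq fun _ => rfl
  haveI : IsScalarTower R B' B := IsScalarTower.of_algebraMap_eq fun x => by
    rw [IsScalarTower.algebraMap_apply R A B, IsScalarTower.algebraMap_apply R A' A,
      ← IsScalarTower.algebraMap_apply A' A B, IsScalarTower.algebraMap_apply A' B' B]
    rfl
  haveI : Algebra.FiniteType B' B := Algebra.FiniteType.of_restrictScalars_finiteType R B' B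
  have h1 : (algebraMap A' A).FiniteType :=
    RingHom.FiniteType.codescendsAlong_faithfullyFlat
      ((RingHom.faithfullyFlat_algebraMap_iff).2 hff)
      ((RingHom.finiteType_algebraMap).2 (inferInstance : Algebra.FiniteType B' B))
  haveI : Algebra.FiniteType A' A := (RingHom.finiteType_algebraMap).1 h1
  haveI : Algebra.FiniteType R A' := inferInstance
  exact Algebra.FiniteType.trans ‹Algebra.FiniteType R A'› ‹Algebra.FiniteType A' A›

/-- Stacks 10.168.3 -/
theorem finitePresentation_of_faithfullyFlat_fp (R A B : Type u) [CommRing R] [CommRing A]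
    [CommRing B] [Algebra R A] [Algebra A B] [Algebra R B] [IsScalarTower R A B]
    [Algebra.FinitePresentation R B]
    [Module.FaithfullyFlat A B] [Algebra.FinitePresentation A B] :
    Algebra.FinitePresentation R A := by
  obtain ⟨A', _, _, _, _, B', _, _, _, _, _, _, hA', hB', hff, hpo⟩ :=
    exists_fp_faithfullyFlat_model R A B
  letI : Algebra R B' := ((algebraMap A' B').comp (algebraMap R A')).toAlgebra
  haveI : IsScalarTower R A' B' := IsScalarTower.of_algebraMap_eq fun _ => rfl
  haveI : IsScalarTower R B' B := IsScalarTower.of_algebraMap_eq fun x => by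
    rw [IsScalarTower.algebraMap_apply R A B, IsScalarTower.algebraMap_apply R A' A,
      ← IsScalarTower.algebraMap_apply A' A B, IsScalarTower.algebraMap_apply A' B' B]
    rfl
  haveI : Algebra.FinitePresentation R B' := Algebra.FinitePresentation.trans R A' B'
  haveI : Algebra.FinitePresentation B' B :=
    Algebra.FinitePresentation.of_restrict_scalars_finitePresentation R B' B
  have h1 : (algebraMap A' A).FinitePresentation :=
    RingHom.FinitePresentation.codescendsAlong_faithfullyFlat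
      ((RingHom.faithfullyFlat_algebraMap_iff).2 hff)
      ((RingHom.finitePresentation_algebraMap).2
        (inferInstance : Algebra.FinitePresentation B' B))
  haveI : Algebra.FinitePresentation A' A := (RingHom.finitePresentation_algebraMap).1 h1
  exact Algebra.FinitePresentation.trans R A' A

end model

end Groth.Agent.Lib.Helper14.AS
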