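import Mathlib
import Groth.Agent.Lib.Helper14.FppfDesc1

universe u
set_option linter.style.haveILetI false
set_option linter.unusedSectionVars false
open CategoryTheory CategoryTheory.Limits AlgebraicGeometry TensorProduct

namespace Groth.Agent.Lib.Helper14.AS

/-- ring hom version of Stacks 10.168.2 -/
theorem ringHom_finiteType_of_faithfullyFlat_fp {R A B : Type u} [CommRing R] [CommRing A]
    [CommRing B] (φ₁ : R →+* A) (φ₂ : A →+* B) (h : (φ₂.comp φ₁).FiniteType)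
    (hff : φ₂.FaithfullyFlat) (hfp : φ₂.FinitePresentation) : φ₁.FiniteType := by
  algebraize [φ₁, φ₂, φ₂.comp φ₁]
  exact finiteType_of_faithfullyFlat_fp R A B

/-- ring hom version of Stacks 10.168.3 -/
theorem ringHom_finitePresentation_of_faithfullyFlat_fp {R A B : Type u} [CommRing R] [CommRing A]
    [CommRing B] (φ₁ : R →+* A) (φ₂ : A →+* B) (h : (φ₂.comp φ₁).FinitePresentation)
    (hff : φ₂.FaithfullyFlat) (hfp : φ₂.FinitePresentation) : φ₁.FinitePresentation := by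
  algebraize [φ₁, φ₂, φ₂.comp φ₁]
  exact finitePresentation_of_faithfullyFlat_fp R A B


set_option maxHeartbeats 1000000 in
/-- affine charts on which a flat lfp morphism is faithfully flat of finite presentation -/
theorem exists_affine_fppf_chart {X Y : Scheme.{u}} (f : X ⟶ Y) [Flat f]
    [LocallyOfFinitePresentation f] (x : X) (W : Y.Opens) (hW : f x ∈ W) :
    ∃ (V : Y.Opens) (_ : IsAffineOpen V) (U : X.Opens) (_ : IsAffineOpen U)
      (e : U ≤ f ⁻¹ᵁ V), V ≤ W ∧ f x ∈ V ∧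
      (f.appLE V U e).hom.FaithfullyFlat ∧ (f.appLE V U e).hom.FinitePresentation := by
  obtain ⟨V₀, hV₀, hxV₀, hV₀W⟩ : ∃ V₀ : Y.Opens, IsAffineOpen V₀ ∧ f x ∈ V₀ ∧ V₀ ≤ W := by
    obtain ⟨_, ⟨V₀, hV₀ : IsAffineOpen V₀, rfl⟩, hx, hsub⟩ :=
      Y.isBasis_affineOpens.exists_subset_of_mem_open hW W.isOpen
    exact ⟨V₀, hV₀, hx, hsub⟩
  obtain ⟨U₀, hU₀, hxU₀, e₀⟩ : ∃ U₀ : X.Opens, IsAffineOpen U₀ ∧ x ∈ U₀ ∧ U₀ ≤ f ⁻¹ᵁ V₀ := by
    obtain ⟨_, ⟨U₀, hU₀ : IsAffineOpen U₀, rfl⟩, hx, hsub⟩ :=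
      X.isBasis_affineOpens.exists_subset_of_mem_open
        (show x ∈ (f ⁻¹ᵁ V₀ : Set X) from hxV₀) (f ⁻¹ᵁ V₀).isOpen
    exact ⟨U₀, hU₀, hx, hsub⟩
  let O : Y.Opens := ⟨f '' (U₀ : Set X), f.isOpenMap _ U₀.isOpen⟩
  have hxO : f x ∈ O := ⟨x, hxU₀, rfl⟩
  obtain ⟨s, hsO, hxs⟩ := hV₀.exists_basicOpen_le (V := O) ⟨f x, hxO⟩ hxV₀
  have hV : IsAffineOpen (Y.basicOpen s) := hV₀.basicOpen s
  have hU : IsAffineOpen (X.basicOpen (f.appLE V₀ U₀ e₀ s)) := hU₀.basicOpen _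
  have hUeq : X.basicOpen (f.appLE V₀ U₀ e₀ s) = U₀ ⊓ f ⁻¹ᵁ (Y.basicOpen s) :=
    Scheme.basicOpen_appLE f U₀ V₀ e₀ s
  have e : X.basicOpen (f.appLE V₀ U₀ e₀ s) ≤ f ⁻¹ᵁ (Y.basicOpen s) := by
    rw [hUeq]; exact inf_le_right
  refine ⟨Y.basicOpen s, hV, X.basicOpen (f.appLE V₀ U₀ e₀ s), hU, e,
    (Y.basicOpen_le s).trans hV₀W, hxs, ?_, ?_⟩
  · rw [RingHom.FaithfullyFlat.iff_flat_and_comap_surjective]
    refine ⟨HasRingHomProperty.appLE (P := @Flat) f inferInstance ⟨_, hV⟩ ⟨_, hU⟩ e, ?_⟩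
    intro p
    have hv : hV.fromSpec p ∈ (Y.basicOpen s : Set Y) := by
      rw [← hV.range_fromSpec]; exact ⟨p, rfl⟩
    obtain ⟨u, huU₀, hu⟩ := hsO hv
    have huU : u ∈ (X.basicOpen (f.appLE V₀ U₀ e₀ s) : Set X) := by
      rw [hUeq]
      refine ⟨huU₀, ?_⟩
      change f u ∈ Y.basicOpen s
      rw [hu]; exact hv
    rw [← hU.range_fromSpec] at huU
    obtain ⟨q, hq⟩ := huU
    refine ⟨q, ?_⟩
    have hcomm := congrArg (fun k => k q) (hV.SpecMap_appLE_fromSpec f hU e)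
    simp only [Scheme.Hom.comp_apply] at hcomm
    rw [hq, hu] at hcomm
    exact hV.fromSpec.isOpenEmbedding.injective hcomm
  · exact HasRingHomProperty.appLE (P := @LocallyOfFinitePresentation) f inferInstance ⟨_, hV⟩
      ⟨_, hU⟩ e


set_option maxHeartbeats 1000000 in
/-- S0114: local finite presentation descends along an fppf cover of the source -/
theorem lfp_of_fppf_comp {X Y S : Scheme.{u}} (f : X ⟶ Y) (q : Y ⟶ S) [Surjective f] [Flat f]
    [LocallyOfFinitePresentation f] [LocallyOfFinitePresentation (f ≫ q)] :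
    LocallyOfFinitePresentation q := by
  rw [HasRingHomProperty.iff_exists_appLE (P := @LocallyOfFinitePresentation)
    (RingHom.finitePresentation_stableUnderComposition.stableUnderCompositionWithLocalizationAway
      RingHom.finitePresentation_holdsForLocalizationAway).left]
  intro y
  obtain ⟨x, rfl⟩ := f.surjective y
  obtain ⟨W₀, hW₀, hxW₀⟩ : ∃ W₀ : S.Opens, IsAffineOpen W₀ ∧ q (f x) ∈ W₀ := by
    obtain ⟨_, ⟨W₀, hW₀ : IsAffineOpen W₀, rfl⟩, hx, -⟩ :=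
      S.isBasis_affineOpens.exists_subset_of_mem_open (Set.mem_univ (q (f x))) isOpen_univ
    exact ⟨W₀, hW₀, hx⟩
  obtain ⟨V, hV, U, hU, e, hVW, hxV, hff, hfp⟩ := exists_affine_fppf_chart f x (q ⁻¹ᵁ W₀) hxW₀
  refine ⟨⟨W₀, hW₀⟩, ⟨V, hV⟩, hxV, hVW, ?_⟩
  refine ringHom_finitePresentation_of_faithfullyFlat_fp (q.appLE W₀ V hVW).hom
    (f.appLE V U e).hom ?_ hff hfp
  rw [← CommRingCat.hom_comp, Scheme.Hom.appLE_comp_appLE]
  exact HasRingHomProperty.appLE (P := @LocallyOfFinitePresentation) (f ≫ q) inferInstance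
    ⟨W₀, hW₀⟩ ⟨U, hU⟩ _

set_option maxHeartbeats 1000000 in
/-- local finite type descends along an fppf cover of the source -/
theorem lft_of_fppf_comp {X Y S : Scheme.{u}} (f : X ⟶ Y) (q : Y ⟶ S) [Surjective f] [Flat f]
    [LocallyOfFinitePresentation f] [LocallyOfFiniteType (f ≫ q)] :
    LocallyOfFiniteType q := by
  rw [HasRingHomProperty.iff_exists_appLE (P := @LocallyOfFiniteType)
    (RingHom.finiteType_stableUnderComposition.stableUnderCompositionWithLocalizationAway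
      RingHom.finiteType_holdsForLocalizationAway).left]
  intro y
  obtain ⟨x, rfl⟩ := f.surjective y
  obtain ⟨W₀, hW₀, hxW₀⟩ : ∃ W₀ : S.Opens, IsAffineOpen W₀ ∧ q (f x) ∈ W₀ := by
    obtain ⟨_, ⟨W₀, hW₀ : IsAffineOpen W₀, rfl⟩, hx, -⟩ :=
      S.isBasis_affineOpens.exists_subset_of_mem_open (Set.mem_univ (q (f x))) isOpen_univ
    exact ⟨W₀, hW₀, hx⟩
  obtain ⟨V, hV, U, hU, e, hVW, hxV, hff, hfp⟩ := exists_affine_fppf_chart f x (q ⁻¹ᵁ W₀) hxW₀
  refine ⟨⟨W₀, hW₀⟩, ⟨V, hV⟩, hxV, hVW, ?_⟩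
  refine ringHom_finiteType_of_faithfullyFlat_fp (q.appLE W₀ V hVW).hom
    (f.appLE V U e).hom ?_ hff hfp
  rw [← CommRingCat.hom_comp, Scheme.Hom.appLE_comp_appLE]
  exact HasRingHomProperty.appLE (P := @LocallyOfFiniteType) (f ≫ q) inferInstance
    ⟨W₀, hW₀⟩ ⟨U, hU⟩ _


theorem quasiCompact_of_surjective_comp {X Y S : Scheme.{u}} (p : X ⟶ Y) (q : Y ⟶ S)
    [Surjective p] [QuasiCompact (p ≫ q)] : QuasiCompact q := by
  constructor
  intro U hU hUc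
  have h1 : IsCompact ((p ≫ q) ⁻¹' U) := QuasiCompact.isCompact_preimage U hU hUc
  have : q ⁻¹' U = p '' ((p ≫ q) ⁻¹' U) := by
    ext y
    constructor
    · intro hy
      obtain ⟨x, rfl⟩ := p.surjective y
      exact ⟨x, by simpa using hy, rfl⟩
    · rintro ⟨x, hx, rfl⟩
      simpa using hx
  rw [this]
  exact h1.image p.continuous

set_option backward.isDefEq.respectTransparency.types false in
theorem quasiSeparated_of_surjective_comp {X Y S : Scheme.{u}} (p : X ⟶ Y) (q : Y ⟶ S)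
    [Surjective p] [QuasiCompact p] [QuasiSeparated (p ≫ q)] : QuasiSeparated q := by
  rw [IsZariskiLocalAtTarget.iff_of_iSup_eq_top (P := @QuasiSeparated) _
    (iSup_affineOpens_eq_top S)]
  intro W
  haveI : IsAffine W.1.toScheme := W.2
  rw [quasiSeparated_iff_quasiSeparatedSpace]
  refine (isQuasiSeparated_iff_quasiSeparatedSpace _ (q ⁻¹ᵁ W.1).2).mp ?_
  intro K₁ K₂ hK₁s hK₁o hK₁c hK₂s hK₂o hK₂c
  have hX : IsQuasiSeparated (((p ≫ q) ⁻¹ᵁ W.1 : X.Opens) : Set X) :=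
    (p ≫ q).isQuasiSeparated_preimage W.2.isQuasiSeparated
  have hsub : ∀ K : Set Y, K ⊆ (q ⁻¹ᵁ W.1 : Set Y) →
      p ⁻¹' K ⊆ (((p ≫ q) ⁻¹ᵁ W.1 : X.Opens) : Set X) := by
    intro K hK x hx
    have := hK hx
    simpa using this
  have h1 := hX (p ⁻¹' K₁) (p ⁻¹' K₂) (hsub K₁ hK₁s) (hK₁o.preimage p.continuous)
    (QuasiCompact.isCompact_preimage K₁ hK₁o hK₁c) (hsub K₂ hK₂s) (hK₂o.preimage p.continuous)
    (QuasiCompact.isCompact_preimage K₂ hK₂o hK₂c)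
  have : K₁ ∩ K₂ = p '' (p ⁻¹' K₁ ∩ p ⁻¹' K₂) := by
    rw [← Set.preimage_inter, Set.image_preimage_eq _ p.surjective]
  rw [this]
  exact h1.image p.continuous

end Groth.Agent.Lib.Helper14.AS
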