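import Groth.Prelude.Def_FSch3
import Groth.Agent.Lib.Helper21.CompleteFlat
import Groth.Agent.Lib.Helper21.AdicNoetherian
import Mathlib.RingTheory.RingHom.Flat

/-!
# Flatness of the map of adic completions induced by a flat ring map (Noetherian source)
-/

set_option autoImplicit false
universe u

namespace Groth.Agent.Lib.Helper14

open Groth.Agent.Lib.Helper21

theorem evalₐ_complMap {B C : Type u} [CommRing B] [CommRing C]
    (I : Ideal B) (K : Ideal C) (g : B →+* C) (h : I.map g ≤ K) (n : ℕ) (x : AdicCompletion I B) :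
    AdicCompletion.evalₐ K n (FSch.complMap I K g h x) =
      Ideal.quotientMap (K ^ n) g (FSch.pow_le_comap_pow_of_map_le I K g h n)
        (AdicCompletion.evalₐ I n x) := by
  unfold FSch.complMap
  rw [AdicCompletion.evalₐ_liftRingHom]
  · rfl
  · intro m n hle
    apply RingHom.ext
    intro x
    obtain ⟨y, rfl⟩ := AdicCompletion.mk_surjective I B x
    simp only [RingHom.coe_comp, Function.comp_apply, AlgHom.toRingHom_eq_coe, AlgHom.coe_toRingHom,
      AdicCompletion.evalₐ_mk, Ideal.quotientMap_mk, Ideal.Quotient.factorPow, Ideal.Quotient.factor_mk]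
    rw [Ideal.Quotient.eq]
    have hy := y.2 hle
    rw [SModEq.sub_mem] at hy
    simp only [smul_eq_mul, Ideal.mul_top] at hy
    rw [← map_sub]
    have hy' : (y : ℕ → B) n - (y : ℕ → B) m ∈ I ^ m := by
      rw [← neg_sub]; exact (I ^ m).neg_mem hy
    exact FSch.pow_le_comap_pow_of_map_le I K g h m hy'

theorem complMap_of {B C : Type u} [CommRing B] [CommRing C]
    (I : Ideal B) (K : Ideal C) (g : B →+* C) (h : I.map g ≤ K) (b : B) :
    FSch.complMap I K g h (AdicCompletion.of I B b) = AdicCompletion.of K C (g b) := by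
  apply AdicCompletion.ext_evalₐ
  intro n
  rw [evalₐ_complMap]
  simp

theorem flat_complMap {B C : Type u} [CommRing B] [CommRing C] [IsNoetherianRing B]
    (I : Ideal B) (K : Ideal C) (g : B →+* C) (hgf : g.Flat) (hK : I.map g = K)
    (h : I.map g ≤ K) : (FSch.complMap I K g h).Flat := by
  subst hK
  letI : Algebra B C := g.toAlgebra
  have : Module.Flat B C := hgf
  letI : Algebra (AdicCompletion I B) (AdicCompletion (I.map g) C) := (FSch.complMap I (I.map g) g h).toAlgebra
  show Module.Flat (AdicCompletion I B) (AdicCompletion (I.map g) C)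
  have hIfg : I.FG := IsNoetherian.noetherian I
  have hKfg : (I.map g).FG := hIfg.map g
  have hsq : ∀ b : B, algebraMap (AdicCompletion I B) (AdicCompletion (I.map g) C)
      (algebraMap B (AdicCompletion I B) b) = algebraMap B (AdicCompletion (I.map g) C) b := by
    intro b
    exact complMap_of I (I.map g) g h b
  have : IsScalarTower B C (AdicCompletion (I.map g) C) :=
    IsScalarTower.of_algebraMap_eq (fun _ => rfl)
  have : IsScalarTower B (AdicCompletion I B) (AdicCompletion (I.map g) C) :=
    IsScalarTower.of_algebraMap_eq (fun b => (hsq b).symm)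
  have : IsNoetherianRing (AdicCompletion I B) := isNoetherianRing_adicCompletion_of_fg I hIfg
  have hI'K : (I.map (algebraMap B (AdicCompletion I B))).map
      (algebraMap (AdicCompletion I B) (AdicCompletion (I.map g) C)) =
      (I.map g).map (algebraMap C (AdicCompletion (I.map g) C)) := by
    rw [Ideal.map_map, Ideal.map_map]
    congr 1
  have : IsAdicComplete (I.map (algebraMap B (AdicCompletion I B))) (AdicCompletion (I.map g) C) := by
    rw [← IsAdicComplete.map_algebraMap_iff (S := AdicCompletion (I.map g) C), hI'K]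
    exact AdicCompletion.isAdicComplete_self (I.map g) hKfg
  apply flat_of_isAdicComplete_of_quotFlat (I.map (algebraMap B (AdicCompletion I B)))
  intro m
  rw [← Ideal.map_pow]
  have hKm : (I ^ m).map (algebraMap B C) = (I.map g) ^ m := by
    rw [Ideal.map_pow]
    rfl
  have htrans : ∀ x : AdicCompletion (I.map g) C,
      x ∈ ((I.map g) ^ m • ⊤ : Submodule C (AdicCompletion (I.map g) C)) ↔
      x ∈ ((I ^ m).map (algebraMap B (AdicCompletion I B)) • ⊤ :
        Submodule (AdicCompletion I B) (AdicCompletion (I.map g) C)) := by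
    intro x
    rw [mem_map_smul_top_iff, ← hKm, mem_map_smul_top_iff]
  refine QuotFlat.of_dense (I ^ m) ((AdicCompletion.of (I.map g) C).restrictScalars B) ?_ ?_ ?_
    (quotFlat_of_flat (I ^ m))
  · intro r'
    obtain ⟨r, hr⟩ := exists_of_sub_mem_pow_smul_top I hIfg m r'
    exact ⟨r, (mem_map_iff_mem_smul_top _ _).mpr hr⟩
  · intro m'
    obtain ⟨c, hc⟩ := exists_of_sub_mem_pow_smul_top (I.map g) hKfg m m'
    exact ⟨c, (htrans _).mp hc⟩
  · intro c hc
    have h1 := mem_of_of_mem_pow_smul_top (I.map g) hKfg m c ((htrans _).mpr hc)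
    rw [smul_eq_mul, Ideal.mul_top, ← hKm] at h1
    exact (mem_map_iff_mem_smul_top _ _).mp h1

end Groth.Agent.Lib.Helper14
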