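import Mathlib.AlgebraicGeometry.Properties
import Mathlib.AlgebraicGeometry.Morphisms.QuasiFinite
import Mathlib.AlgebraicGeometry.Morphisms.UniversallyOpen
import Mathlib.AlgebraicGeometry.Morphisms.Etale
universe u
open CategoryTheory CategoryTheory.Limits AlgebraicGeometry Opposite
namespace Groth.Agent.Lib.Helper14.AS

section Top
variable {α β : Type*} [TopologicalSpace α] [TopologicalSpace β]

/-- Lifting chains of generizations along a generalizing map. -/
theorem exists_ltSeries_of_generalizingMap (f : α → β) (hc : Continuous f) (hg : GeneralizingMap f)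
    (p : @LTSeries β (specializationPreorder β)) :
    ∀ a : α, f a = p.head → ∃ q : @LTSeries α (specializationPreorder α),
      q.head = a ∧ q.length = p.length := by
  let _ := specializationPreorder α
  let _ := specializationPreorder β
  induction p using RelSeries.inductionOn with
  | singleton x =>
    intro a _
    exact ⟨RelSeries.singleton _ a, rfl, rfl⟩
  | cons p x hx ih =>
    intro a ha
    rw [RelSeries.head_cons] at ha
    have hx' : x < p.head := hx
    have hspec : p.head ⤳ f a := by rw [ha]; exact hx'.le
    obtain ⟨a₁, ha₁s, ha₁⟩ := hg hspec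
    obtain ⟨q₁, hq₁h, hq₁l⟩ := ih a₁ ha₁
    have hlt : a < q₁.head := by
      rw [hq₁h]
      refine lt_of_le_not_ge ha₁s ?_
      intro (h : a ⤳ a₁)
      have : f a ⤳ f a₁ := h.map hc
      rw [ha, ha₁] at this
      exact hx'.not_ge this
    exact ⟨q₁.cons a hlt, RelSeries.head_cons _ _ _, by simp [hq₁l]⟩

/-- Coheight (in the specialization preorder) is preserved by continuous generalizing maps
without specializations in the fibres, when the target is T0. -/
theorem coheight_eq_of_generalizingMap [T0Space β] (f : α → β) (hc : Continuous f)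
    (hg : GeneralizingMap f) (hns : ∀ a a' : α, a' ⤳ a → f a' = f a → a' = a) (a : α) :
    @Order.coheight α (specializationPreorder α) a =
      @Order.coheight β (specializationPreorder β) (f a) := by
  let _ := specializationPreorder α
  let _ := specializationPreorder β
  apply le_antisymm
  · refine Order.coheight_le_coheight_apply_of_strictMono f ?_ a
    intro x y hxy
    have h1 : y ⤳ x := hxy.le
    refine lt_of_le_not_ge (h1.map hc) ?_
    intro (h2 : f x ⤳ f y)
    have : f y = f x := ((h1.map hc).antisymm h2).eq
    have := hns x y h1 this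
    exact hxy.ne this.symm
  · refine Order.coheight_le_iff'.mpr ?_
    intro p hp
    obtain ⟨q, hq1, hq2⟩ := exists_ltSeries_of_generalizingMap f hc hg p a hp.symm
    rw [← hq2, ← hq1]
    exact Order.length_le_coheight_head

end Top

section Sch

theorem no_specialization_in_fibres_of_lqf {U V : Scheme.{u}} (f : U ⟶ V) [LocallyQuasiFinite f]
    (a a' : ↥U) (h : a' ⤳ a) (he : f a' = f a) : a' = a := by
  have hd := f.isDiscrete_preimage_singleton (f a)
  have : DiscreteTopology ↥(f ⁻¹' {f a}) := hd.to_subtype
  have hop : IsOpen ({⟨a, rfl⟩} : Set ↥(f ⁻¹' {f a})) := isOpen_discrete _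
  obtain ⟨O, hO, hOe⟩ := isOpen_induced_iff.1 hop
  have haO : a ∈ O := by
    have : (⟨a, rfl⟩ : ↥(f ⁻¹' {f a})) ∈ Subtype.val ⁻¹' O := by rw [hOe]; rfl
    exact this
  have ha'O : a' ∈ O := h.mem_open hO haO
  have : (⟨a', he⟩ : ↥(f ⁻¹' {f a})) ∈ Subtype.val ⁻¹' O := ha'O
  rw [hOe] at this
  exact congrArg Subtype.val this

/-- The dimension of the local ring is preserved by flat locally quasi-finite morphisms. -/
theorem ringKrullDim_stalk_eq_of_flat_lqf {U V : Scheme.{u}} (f : U ⟶ V) [Flat f]
    [LocallyQuasiFinite f] (a : ↥U) :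
    ringKrullDim (U.presheaf.stalk a) = ringKrullDim (V.presheaf.stalk (f a)) := by
  rw [ringKrullDim_stalk_eq_coheight, ringKrullDim_stalk_eq_coheight]
  congr 1
  exact coheight_eq_of_generalizingMap f f.continuous (Flat.generalizingMap f)
    (no_specialization_in_fibres_of_lqf f) a

/-- The dimension of the local ring does not increase under locally quasi-finite morphisms. -/
theorem ringKrullDim_stalk_le_of_lqf {U V : Scheme.{u}} (f : U ⟶ V)
    [LocallyQuasiFinite f] (a : ↥U) :
    ringKrullDim (U.presheaf.stalk a) ≤ ringKrullDim (V.presheaf.stalk (f a)) := by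
  rw [ringKrullDim_stalk_eq_coheight, ringKrullDim_stalk_eq_coheight]
  refine WithBot.coe_le_coe.2 ?_
  refine Order.coheight_le_coheight_apply_of_strictMono f ?_ a
  intro x y hxy
  have h1 : y ⤳ x := hxy.le
  refine lt_of_le_not_ge (h1.map f.continuous) ?_
  intro (h2 : f x ⤳ f y)
  have : f y = f x := ((h1.map f.continuous).antisymm h2).eq
  have := no_specialization_in_fibres_of_lqf f x y h1 this
  exact hxy.ne this.symm

/-- The Krull dimension of a scheme is the supremum of the dimensions of its local rings. -/
theorem topologicalKrullDim_eq_iSup_stalk (X : Scheme.{u}) :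
    topologicalKrullDim ↥X = ⨆ x : ↥X, ringKrullDim (X.presheaf.stalk x) := by
  have h1 : topologicalKrullDim ↥X = Order.krullDim ↥X := by
    let _ := specializationOrder ↥X
    exact Order.krullDim_eq_of_orderIso (irreducibleSetEquivPoints (α := ↥X))
  rw [h1, Order.krullDim_eq_iSup_coheight]
  congr 1
  funext x
  rw [ringKrullDim_stalk_eq_coheight]

theorem topologicalKrullDim_le_of_lqf {U V : Scheme.{u}} (f : U ⟶ V) [LocallyQuasiFinite f] :
    topologicalKrullDim ↥U ≤ topologicalKrullDim ↥V := by
  rw [topologicalKrullDim_eq_iSup_stalk, topologicalKrullDim_eq_iSup_stalk]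
  refine iSup_le fun a => ?_
  exact (ringKrullDim_stalk_le_of_lqf f a).trans (le_iSup (fun v => ringKrullDim (V.presheaf.stalk v)) (f a))

theorem topologicalKrullDim_eq_of_flat_lqf_surjective {U V : Scheme.{u}} (f : U ⟶ V) [Flat f]
    [LocallyQuasiFinite f] [Surjective f] :
    topologicalKrullDim ↥U = topologicalKrullDim ↥V := by
  refine le_antisymm (topologicalKrullDim_le_of_lqf f) ?_
  rw [topologicalKrullDim_eq_iSup_stalk, topologicalKrullDim_eq_iSup_stalk]
  refine iSup_le fun v => ?_
  obtain ⟨a, rfl⟩ := f.surjective v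
  rw [← ringKrullDim_stalk_eq_of_flat_lqf f a]
  exact le_iSup (fun a => ringKrullDim (U.presheaf.stalk a)) a

end Sch

end Groth.Agent.Lib.Helper14.AS
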