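import Groth.Agent.Lib.Helper14.SchemeDim
import Groth.Prelude.Def_Flat
universe u
open CategoryTheory CategoryTheory.Limits AlgebraicGeometry Opposite
namespace Groth.Agent.Lib.Helper14.AS

theorem topologicalKrullDim_opens_eq_iSup_stalk {X : Scheme.{u}} (O : X.Opens) :
    topologicalKrullDim ↥(O : Set ↥X) = ⨆ o : ↥(O : Set ↥X), ringKrullDim (X.presheaf.stalk o.1) := by
  have h := Groth.Agent.Lib.Helper14.AS.topologicalKrullDim_eq_iSup_stalk O.toScheme
  have h2 : ∀ o : ↥O.toScheme, ringKrullDim (O.toScheme.presheaf.stalk o) =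
      ringKrullDim (X.presheaf.stalk (O.ι o)) := fun o =>
    Groth.Agent.Lib.Helper14.AS.ringKrullDim_stalk_eq_of_flat_lqf O.ι o
  simp_rw [h2] at h
  exact h


open Groth.Agent.Lib.Helper14.AS in
/-- Local dimension is preserved by flat, locally quasi-finite, open morphisms (e.g. etale). -/
theorem localDim_eq_of_flat_lqf {W U : Scheme.{u}} (g : W ⟶ U) [Flat g] [LocallyQuasiFinite g]
    (hopen : IsOpenMap g) (w : ↥W) :
    FlatMor.localDim ↥W w = FlatMor.localDim ↥U (g w) := by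
  unfold FlatMor.localDim
  apply le_antisymm
  · refine le_iInf fun O => ?_
    -- O open nhd of g w; use g⁻¹ O
    let O' : {O' : TopologicalSpace.Opens ↥W // w ∈ O'} := ⟨g ⁻¹ᵁ O.1, O.2⟩
    refine (iInf_le _ O').trans ?_
    rw [topologicalKrullDim_opens_eq_iSup_stalk, topologicalKrullDim_opens_eq_iSup_stalk]
    refine iSup_le fun w' => ?_
    rw [ringKrullDim_stalk_eq_of_flat_lqf g w'.1]
    exact le_iSup (fun o : ↥(O.1 : Set ↥U) => ringKrullDim (U.presheaf.stalk o.1)) ⟨g w'.1, w'.2⟩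
  · refine le_iInf fun O' => ?_
    let O : {O : TopologicalSpace.Opens ↥U // g w ∈ O} :=
      ⟨⟨g '' (O'.1 : Set ↥W), hopen _ O'.1.2⟩, ⟨w, O'.2, rfl⟩⟩
    refine (iInf_le _ O).trans ?_
    rw [topologicalKrullDim_opens_eq_iSup_stalk, topologicalKrullDim_opens_eq_iSup_stalk]
    refine iSup_le fun o => ?_
    obtain ⟨w', hw', hw'o⟩ := o.2
    rw [← hw'o, ← ringKrullDim_stalk_eq_of_flat_lqf g w']
    exact le_iSup (fun o : ↥(O'.1 : Set ↥W) => ringKrullDim (W.presheaf.stalk o.1)) ⟨w', hw'⟩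

end Groth.Agent.Lib.Helper14.AS
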