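import Groth.Agent.Lib.Helper14.FppfLocalInst
import Mathlib.AlgebraicGeometry.ZariskisMainTheorem
import Mathlib.AlgebraicGeometry.Morphisms.IsIso

/-!
# More instances: quasi-compact, monomorphisms, closed immersions, separated, quasi-separated
are fppf local on the target (helper14)
-/

universe u
open CategoryTheory CategoryTheory.Limits AlgebraicGeometry MorphismProperty

namespace Groth.Agent.Lib.Helper14.FL

set_option backward.isDefEq.respectTransparency.types false

/-- Quasi-compactness satisfies fpqc descent. -/
instance quasiCompact_descendsAlong :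
    DescendsAlong @QuasiCompact.{u} (@Surjective ⊓ @Flat ⊓ @QuasiCompact) := by
  apply IsZariskiLocalAtTarget.descendsAlong
  rintro R X Y f g ⟨⟨h₁, h₂⟩, h₃⟩ H
  have hX : CompactSpace X := (quasiCompact_iff_compactSpace f).mp h₃
  have hXY : CompactSpace ↑(pullback f g) :=
    QuasiCompact.compactSpace_of_compactSpace (pullback.fst f g)
  have hs : Surjective (pullback.snd f g) := inferInstance
  rw [quasiCompact_iff_compactSpace]
  constructor
  have := (isCompact_univ (X := ↑(pullback f g))).image (pullback.snd f g).continuous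
  rwa [Set.image_univ, Set.range_eq_univ.2 (pullback.snd f g).surjective] at this

instance quasiCompact_fppf : IsLocalAtTarget (@QuasiCompact.{u}) Scheme.fppfPrecoverage :=
  isLocalAtTarget_fppf _

instance monomorphisms_descendsAlong :
    (monomorphisms Scheme.{u}).DescendsAlong (@Surjective ⊓ @Flat ⊓ @QuasiCompact) := by
  rw [← diagonal_isomorphisms]
  infer_instance

instance monomorphisms_fppf :
    IsLocalAtTarget (monomorphisms Scheme.{u}) Scheme.fppfPrecoverage :=
  isLocalAtTarget_fppf _

theorem isClosedImmersion_eq :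
    @IsClosedImmersion.{u} = (@UniversallyClosed ⊓ @LocallyOfFiniteType : MorphismProperty Scheme.{u})
      ⊓ monomorphisms Scheme.{u} := by
  ext X Y f
  rw [IsClosedImmersion.iff_isProper_and_mono]
  constructor
  · rintro ⟨h1, h2⟩
    exact ⟨⟨inferInstance, inferInstance⟩, h2⟩
  · rintro ⟨⟨h1, h2⟩, h3⟩
    have : Mono f := h3
    exact ⟨{ }, h3⟩

instance isClosedImmersion_descendsAlong :
    DescendsAlong @IsClosedImmersion.{u} (@Surjective ⊓ @Flat ⊓ @QuasiCompact) := by
  rw [isClosedImmersion_eq]
  infer_instance

instance isClosedImmersion_fppf :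
    IsLocalAtTarget (@IsClosedImmersion.{u}) Scheme.fppfPrecoverage :=
  isLocalAtTarget_fppf _

instance isSeparated_descendsAlong :
    DescendsAlong @IsSeparated.{u} (@Surjective ⊓ @Flat ⊓ @QuasiCompact) := by
  rw [IsSeparated.isSeparated_eq_diagonal_isClosedImmersion]
  infer_instance

instance isSeparated_fppf : IsLocalAtTarget (@IsSeparated.{u}) Scheme.fppfPrecoverage :=
  isLocalAtTarget_fppf _

instance quasiSeparated_descendsAlong :
    DescendsAlong @QuasiSeparated.{u} (@Surjective ⊓ @Flat ⊓ @QuasiCompact) := by
  rw [quasiSeparated_eq_diagonal_is_quasiCompact]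
  infer_instance

instance quasiSeparated_fppf : IsLocalAtTarget (@QuasiSeparated.{u}) Scheme.fppfPrecoverage :=
  isLocalAtTarget_fppf _

instance isProper_descendsAlong :
    DescendsAlong @IsProper.{u} (@Surjective ⊓ @Flat ⊓ @QuasiCompact) := by
  rw [isProper_eq]
  infer_instance

instance isProper_fppf : IsLocalAtTarget (@IsProper.{u}) Scheme.fppfPrecoverage :=
  isLocalAtTarget_fppf _

end Groth.Agent.Lib.Helper14.FL
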