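import Mathlib
import Groth.Agent.Lib.Helper14.EtSrcLocal
import Groth.Agent.Lib.Helper14.FppfLocalInst2

/-!
# Scheme-level fpqc lemmas for finite affine flat jointly surjective families (helper14)
-/

universe u
open CategoryTheory CategoryTheory.Limits AlgebraicGeometry MorphismProperty TensorProduct

namespace Groth.Agent.Lib.Helper14.Fpqc

/-- Flatness codescends along faithfully flat ring maps. -/
theorem flat_codescendsAlong_faithfullyFlat :
    RingHom.CodescendsAlong RingHom.Flat RingHom.FaithfullyFlat := by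
  refine .mk _ RingHom.Flat.respectsIso fun R S T _ _ _ _ _ h h' ↦ ?_
  rw [RingHom.flat_algebraMap_iff] at h' ⊢
  rw [RingHom.faithfullyFlat_algebraMap_iff] at h
  exact Module.Flat.of_flat_tensorProduct R T S

set_option backward.isDefEq.respectTransparency.types false in
instance flat_descendsAlong :
    DescendsAlong @Flat.{u} (@Surjective ⊓ @Flat ⊓ @QuasiCompact) :=
  HasRingHomProperty.descendsAlong_flat flat_codescendsAlong_faithfullyFlat


section QF
attribute [-instance] Module.Free.instFaithfulSMulOfNontrivial Algebra.IsIntegral.isLocalHom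

theorem quasiFinite_of_faithfullyFlat (R S T : Type*) [CommRing R] [CommRing S] [CommRing T]
    [Algebra R S] [Algebra R T] [Module.FaithfullyFlat R S] [Algebra.QuasiFinite S (S ⊗[R] T)] :
    Algebra.QuasiFinite R T := by
  refine ⟨fun q hq => ?_⟩
  obtain ⟨P, hP⟩ := PrimeSpectrum.comap_surjective_of_faithfullyFlat (A := R) (B := S) ⟨q, hq⟩
  have hq' : P.asIdeal.under R = q := congrArg PrimeSpectrum.asIdeal hP
  subst hq'
  let p := P.asIdeal.under R
  let := Localization.AtPrime.algebraOfLiesOver p P.asIdeal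
  let e : P.asIdeal.Fiber (S ⊗[R] T) ≃ₐ[P.asIdeal.ResidueField]
      P.asIdeal.ResidueField ⊗[p.ResidueField] (p.Fiber T) :=
    (Algebra.TensorProduct.cancelBaseChange _ _ _ _ _).trans
      (Algebra.TensorProduct.cancelBaseChange _ _ _ _ _).symm
  have h1 : Module.Finite P.asIdeal.ResidueField
      (P.asIdeal.ResidueField ⊗[p.ResidueField] (p.Fiber T)) :=
    .of_surjective e.toLinearMap e.surjective
  exact Module.Finite.of_finite_tensorProduct_of_faithfullyFlat P.asIdeal.ResidueField

end QF

theorem quasiFinite_codescendsAlong_faithfullyFlat :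
    RingHom.CodescendsAlong RingHom.QuasiFinite RingHom.FaithfullyFlat := by
  refine .mk _ RingHom.QuasiFinite.respectsIso fun R S T _ _ _ _ _ h h' ↦ ?_
  rw [RingHom.quasiFinite_algebraMap] at h' ⊢
  rw [RingHom.faithfullyFlat_algebraMap_iff] at h
  exact quasiFinite_of_faithfullyFlat R S T

set_option backward.isDefEq.respectTransparency.types false in
instance locallyQuasiFinite_descendsAlong :
    DescendsAlong @LocallyQuasiFinite.{u} (@Surjective ⊓ @Flat ⊓ @QuasiCompact) :=
  HasRingHomProperty.descendsAlong_flat quasiFinite_codescendsAlong_faithfullyFlat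

/-! ## Finite affine flat jointly surjective families -/

section Family

variable {Z : Scheme.{u}} [IsAffine Z] {m : ℕ} (W : Fin m → Scheme.{u}) (c : ∀ j, W j ⟶ Z)
  [∀ j, IsAffine (W j)]

set_option backward.isDefEq.respectTransparency.types false in
theorem sigmaDesc_fpqc (hfl : ∀ j, Flat (c j)) (hs : ∀ z : Z, ∃ j, z ∈ Set.range (c j)) :
    (@Surjective ⊓ @Flat ⊓ @QuasiCompact : MorphismProperty Scheme.{u}) (Sigma.desc c) := by
  refine ⟨⟨⟨fun z => ?_⟩, IsZariskiLocalAtSource.sigmaDesc hfl⟩, inferInstance⟩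
  obtain ⟨j, w, rfl⟩ := hs z
  exact ⟨Sigma.ι W j w, by rw [← Scheme.Hom.comp_apply, Sigma.ι_desc]⟩


set_option backward.isDefEq.respectTransparency.types false in
/-- A property local at the target and satisfying fpqc descent can be checked after base change
to the members of a finite flat affine jointly surjective family. -/
theorem of_fpqc_family {P : MorphismProperty Scheme.{u}} [IsZariskiLocalAtTarget P]
    [P.DescendsAlong (@Surjective ⊓ @Flat ⊓ @QuasiCompact)] {T : Scheme.{u}} (g : T ⟶ Z)
    (hfl : ∀ j, Flat (c j)) (hs : ∀ z : Z, ∃ j, z ∈ Set.range (c j))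
    (H : ∀ j, P (pullback.snd g (c j))) : P g := by
  refine of_pullback_snd_of_descendsAlong (sigmaDesc_fpqc W c hfl hs) ?_
  refine IsZariskiLocalAtTarget.of_openCover (sigmaOpenCover W) fun j => ?_
  have sq1 : IsPullback (pullback.fst g (c j)) (pullback.snd g (c j)) g
      (Sigma.ι W j ≫ Sigma.desc c) := by
    rw [Sigma.ι_desc]; exact .of_hasPullback g (c j)
  have sqσ := IsPullback.of_hasPullback g (Sigma.desc c)
  have hc : pullback.fst g (c j) ≫ g = (pullback.snd g (c j) ≫ Sigma.ι W j) ≫ Sigma.desc c := by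
    rw [Category.assoc]; exact sq1.w
  have sq2 : IsPullback (sqσ.lift _ _ hc) (pullback.snd g (c j)) (pullback.snd g (Sigma.desc c))
      (Sigma.ι W j) := by
    refine IsPullback.of_right ?_ (sqσ.lift_snd _ _ _) sqσ
    rw [sqσ.lift_fst]
    exact sq1
  have sq3 := IsPullback.of_hasPullback (pullback.snd g (Sigma.desc c)) (Sigma.ι W j)
  have e : (sq2.isoIsPullback _ _ sq3).hom ≫
      (sigmaOpenCover W).pullbackHom (pullback.snd g (Sigma.desc c)) j = pullback.snd g (c j) :=
    sq2.isoIsPullback_hom_snd _ _ sq3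
  have h1 : P ((sq2.isoIsPullback _ _ sq3).hom ≫
      (sigmaOpenCover W).pullbackHom (pullback.snd g (Sigma.desc c)) j) := by
    rw [e]; exact H j
  exact (P.cancel_left_of_respectsIso _ _).1 h1

set_option backward.isDefEq.respectTransparency.types false in
theorem isOpen_iff_of_fpqc_family (hfl : ∀ j, Flat (c j))
    (hs : ∀ z : Z, ∃ j, z ∈ Set.range (c j)) (E : Set Z) :
    IsOpen E ↔ ∀ j, IsOpen ((c j) ⁻¹' E) := by
  refine ⟨fun h j => h.preimage (c j).continuous, fun h => ?_⟩
  obtain ⟨⟨_, _⟩, _⟩ := sigmaDesc_fpqc W c hfl hs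
  rw [← (Flat.isQuotientMap_of_surjective (Sigma.desc c)).isOpen_preimage]
  have hcov : ∀ x : (∐ W : Scheme.{u}), ∃ j, x ∈ Set.range (Sigma.ι W j) := fun x => by
    obtain ⟨j, y, hy⟩ := (sigmaOpenCover W).exists_eq x
    exact ⟨j, y, hy⟩
  have : (Sigma.desc c) ⁻¹' E = ⋃ j, (Sigma.ι W j) '' ((c j) ⁻¹' E) := by
    ext x
    simp only [Set.mem_preimage, Set.mem_iUnion, Set.mem_image]
    constructor
    · intro hx
      obtain ⟨j, y, rfl⟩ := hcov x
      refine ⟨j, y, ?_, rfl⟩
      rwa [← Scheme.Hom.comp_apply, Sigma.ι_desc] at hx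
    · rintro ⟨j, y, hy, rfl⟩
      rwa [← Scheme.Hom.comp_apply, Sigma.ι_desc]
  rw [this]
  exact isOpen_iUnion fun j => (Sigma.ι W j).isOpenEmbedding.isOpenMap _ (h j)

theorem isClosed_iff_of_fpqc_family (hfl : ∀ j, Flat (c j))
    (hs : ∀ z : Z, ∃ j, z ∈ Set.range (c j)) (E : Set Z) :
    IsClosed E ↔ ∀ j, IsClosed ((c j) ⁻¹' E) := by
  simp only [← isOpen_compl_iff, isOpen_iff_of_fpqc_family W c hfl hs, Set.preimage_compl]

end Family

end Groth.Agent.Lib.Helper14.Fpqc
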