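import Groth.Agent.Lib.Helper14.AlgSpSect
import Mathlib.AlgebraicGeometry.Morphisms.Immersion

/-!
# More basic lemmas on representable morphisms of fppf sheaves (helper14)
-/

universe u
open CategoryTheory CategoryTheory.Limits AlgebraicGeometry Opposite

namespace Groth.Agent.Lib.Helper14.AS

open AlgSp

variable {S : Scheme.{u}}

/-- Base change for `RepWith`. -/
theorem repWith_of_isPullback (P : MorphismProperty Scheme.{u}) {F G F' G' : Sp S} {f : F ⟶ G}
    {f' : F' ⟶ G'} {a : F' ⟶ F} {b : G' ⟶ G} (sq : IsPullback a f' f b) (h : RepWith P f) :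
    RepWith P f' :=
  (AlgSp.repWith_isStableUnderBaseChange P).of_isPullback sq h

/-- Composition for `RepWith`. -/
theorem repWith_comp (P : MorphismProperty Scheme.{u}) [P.IsStableUnderComposition]
    {F G H : Sp S} {f : F ⟶ G} {g : G ⟶ H} (hf : RepWith P f) (hg : RepWith P g) :
    RepWith P (f ≫ g) :=
  (MorphismProperty.relative_isStableUnderComposition (F := yon S)
    (P.inverseImage (Over.forget S))).comp_mem f g hf hg

/-- A morphism of sheaves representable by monomorphisms is a monomorphism. -/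
theorem mono_of_repWith_mono {F G : Sp S} {f : F ⟶ G}
    (h : RepWith (MorphismProperty.monomorphisms Scheme.{u}) f) : Mono f := by
  constructor
  intro W x y hxy
  apply GrothendieckTopology.hom_ext_uliftYoneda.{u + 1} (AlgSp.J S)
  intro T p
  have hr := h.rep
  let g : (yon S).obj T ⟶ G := (p ≫ x) ≫ f
  have hm : Mono (hr.snd g).left := h.property_snd g
  have hm' : Mono (hr.snd g) := (Over.forget S).mono_of_mono_map hm
  have c1 : (p ≫ x) ≫ f = (yon S).map (𝟙 T) ≫ g := by simp [g]
  have c2 : (p ≫ y) ≫ f = (yon S).map (𝟙 T) ≫ g := by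
    simp only [g, Category.assoc, hxy, CategoryTheory.Functor.map_id, Category.id_comp]
  have e : hr.lift (p ≫ x) (𝟙 T) c1 = hr.lift (p ≫ y) (𝟙 T) c2 := by
    rw [← cancel_mono (hr.snd g), hr.lift_snd, hr.lift_snd]
  have h1 := hr.lift_fst (p ≫ x) (𝟙 T) c1
  have h2 := hr.lift_fst (p ≫ y) (𝟙 T) c2
  rw [← h1, ← h2, e]

theorem isPullback_id_of_mono {C : Type*} [Category C] {F₁ F₂ F : C} {f₁ : F₁ ⟶ F} {f₂ : F₂ ⟶ F}
    [Mono f₂] {g : F₁ ⟶ F₂} (w : g ≫ f₂ = f₁) : IsPullback (𝟙 F₁) g f₁ f₂ := by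
  refine isPullback_of_exists_unique (by rw [Category.id_comp, w]) ?_ ?_
  · intro T x y hxy
    refine ⟨x, Category.comp_id _, ?_⟩
    rw [← cancel_mono f₂, Category.assoc, w, hxy]
  · intro T z z' h _
    simpa using h

theorem immersion_le_mono :
    (@IsImmersion : MorphismProperty Scheme.{u}) ≤ MorphismProperty.monomorphisms Scheme.{u} :=
  fun _ _ f hf => by
    have := hf
    exact MorphismProperty.monomorphisms.infer_property f

/-- A subsheaf contained in a locally closed subsheaf. -/
theorem repWith_of_comp_repWith_immersion {F F₁ F₂ : Sp S} {f₁ : F₁ ⟶ F} {f₂ : F₂ ⟶ F}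
    (P : MorphismProperty Scheme.{u}) (h₁ : RepWith P f₁) (h₂ : RepWith @IsImmersion f₂)
    {g : F₁ ⟶ F₂} (w : g ≫ f₂ = f₁) : RepWith P g := by
  have : Mono f₂ := mono_of_repWith_mono (repWith_mono immersion_le_mono h₂)
  exact repWith_of_isPullback P (isPullback_id_of_mono w) h₁

set_option backward.isDefEq.respectTransparency.types false in
/-- Every morphism of algebraic spaces admits compatible charts. -/
theorem exists_chart_lift {X Y : Sp S} (hX : IsAlgSpace X) (hY : IsAlgSpace Y) (a : X ⟶ Y)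
    {V : Over S} (q : (yon S).obj V ⟶ Y) (hqe : RepWith @Etale q) (hqs : RepWith @Surjective q) :
    ∃ (U : Over S) (p : (yon S).obj U ⟶ X) (α : U ⟶ V),
      RepWith @Etale p ∧ RepWith @Surjective p ∧ p ≫ a = (yon S).map α ≫ q := by
  obtain ⟨U0, p0, h0e, h0s⟩ := hX.atlas
  have rep := repDiag_of_isAlgSpace hY (p0 ≫ a)
  have sq := rep.isPullback q
  refine ⟨rep.pullback q, rep.fst q ≫ p0, rep.snd q, ?_, ?_, ?_⟩
  · exact repWith_comp _ (repWith_of_isPullback _ sq.flip hqe) h0e
  · exact repWith_comp _ (repWith_of_isPullback _ sq.flip hqs) h0s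
  · rw [Category.assoc]; exact sq.w

end Groth.Agent.Lib.Helper14.AS
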