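import Mathlib.CategoryTheory.MorphismProperty.Representable
import Mathlib.CategoryTheory.Limits.Shapes.Diagonal

/-!
# The relative diagonal of a relatively representable morphism (helper14)
-/

universe v₁ v₂ u₁ u₂
open CategoryTheory CategoryTheory.Limits

namespace Groth.Agent.Lib.Helper14.RR

variable {C : Type u₁} [Category.{v₁} C] {D : Type u₂} [Category.{v₂} D]

theorem isPullback_of_exists_unique' {P X Y Z : D} {fst : P ⟶ X}
    {snd : P ⟶ Y} {f : X ⟶ Z} {g : Y ⟶ Z} (w : fst ≫ f = snd ≫ g)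
    (hex : ∀ (T : D) (x : T ⟶ X) (y : T ⟶ Y), x ≫ f = y ≫ g → ∃ z : T ⟶ P, z ≫ fst = x ∧ z ≫ snd = y)
    (huniq : ∀ (T : D) (z z' : T ⟶ P), z ≫ fst = z' ≫ fst → z ≫ snd = z' ≫ snd → z = z') :
    IsPullback fst snd f g := by
  refine ⟨⟨w⟩, ⟨PullbackCone.IsLimit.mk w
    (fun s => (hex s.pt s.fst s.snd s.condition).choose)
    (fun s => (hex s.pt s.fst s.snd s.condition).choose_spec.1)
    (fun s => (hex s.pt s.fst s.snd s.condition).choose_spec.2) ?_⟩⟩
  intro s m h1 h2
  apply huniq
  · rw [h1, (hex s.pt s.fst s.snd s.condition).choose_spec.1]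
  · rw [h2, (hex s.pt s.fst s.snd s.condition).choose_spec.2]

set_option backward.isDefEq.respectTransparency false in
/-- The relative diagonal of a relatively representable morphism is relatively representable. -/
theorem relativelyRepresentable_diagonal (Y : C ⥤ D) [Y.Full] [Y.Faithful] [HasPullbacks C]
    [HasPullbacks D] [PreservesLimitsOfShape WalkingCospan Y] {F G : D} (a : F ⟶ G)
    (ha : Y.relativelyRepresentable a) : Y.relativelyRepresentable (pullback.diagonal a) := by
  intro U g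
  let x1 : Y.obj U ⟶ F := g ≫ pullback.fst a a
  let x2 : Y.obj U ⟶ F := g ≫ pullback.snd a a
  have hx : x1 ≫ a = x2 ≫ a := by simp only [x1, x2, Category.assoc, pullback.condition]
  obtain ⟨V, π, p1, sq⟩ := ha (x1 ≫ a)
  obtain ⟨s1, hs1⟩ := Y.map_surjective (sq.lift x1 (𝟙 _) (by simp))
  obtain ⟨s2, hs2⟩ := Y.map_surjective (sq.lift x2 (𝟙 _) (by simp [hx]))
  have hπ1 : s1 ≫ π = 𝟙 U := Y.map_injective (by rw [Y.map_comp, hs1, sq.lift_snd, Y.map_id])
  have hπ2 : s2 ≫ π = 𝟙 U := Y.map_injective (by rw [Y.map_comp, hs2, sq.lift_snd, Y.map_id])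
  have h1 : Y.map s1 ≫ p1 = x1 := by rw [hs1, sq.lift_fst]
  have h2 : Y.map s2 ≫ p1 = x2 := by rw [hs2, sq.lift_fst]
  have he : pullback.fst s1 s2 = pullback.snd s1 s2 := by
    have := congrArg (· ≫ π) (pullback.condition (f := s1) (g := s2))
    simpa [hπ1, hπ2] using this
  have sqE : IsPullback (Y.map (pullback.fst s1 s2)) (Y.map (pullback.snd s1 s2)) (Y.map s1)
      (Y.map s2) := (IsPullback.of_hasPullback s1 s2).map Y
  have hx12 : Y.map (pullback.fst s1 s2) ≫ x1 = Y.map (pullback.fst s1 s2) ≫ x2 := by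
    rw [← h1, ← h2, ← Category.assoc, ← Category.assoc, ← Y.map_comp, ← Y.map_comp,
      pullback.condition, he]
  refine ⟨pullback s1 s2, pullback.fst s1 s2, Y.map (pullback.fst s1 s2) ≫ x1, ?_⟩
  refine isPullback_of_exists_unique' ?_ ?_ ?_
  · apply pullback.hom_ext
    · simp [x1]
    · simp only [Category.assoc, pullback.diagonal_snd, Category.comp_id]
      exact hx12
  · intro W p q hpq
    have e1 : p = q ≫ x1 := by
      have := congrArg (· ≫ pullback.fst a a) hpq
      simpa [x1] using this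
    have e2 : p = q ≫ x2 := by
      have := congrArg (· ≫ pullback.snd a a) hpq
      simpa [x2] using this
    have hq : q ≫ Y.map s1 = q ≫ Y.map s2 := by
      apply sq.hom_ext
      · rw [Category.assoc, Category.assoc, h1, h2, ← e1, ← e2]
      · rw [Category.assoc, Category.assoc, ← Y.map_comp, ← Y.map_comp, hπ1, hπ2]
    refine ⟨sqE.lift q q hq, ?_, sqE.lift_fst _ _ _⟩
    rw [← Category.assoc, sqE.lift_fst, ← e1]
  · intro W z z' _ h
    apply sqE.hom_ext
    · exact h
    · rw [← he]; exact h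

end Groth.Agent.Lib.Helper14.RR
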