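import Groth.Agent.Lib.Helper14.AlgSpImm
import Groth.Agent.Lib.Helper14.RelRepDiag
import Groth.Agent.Lib.Helper14.FppfLocalInst2

/-!
# Properties etale local on source and target (`LocP`) (helper14)
-/

universe u
open CategoryTheory CategoryTheory.Limits AlgebraicGeometry Opposite Topology

namespace Groth.Agent.Lib.Helper14.AS

open AlgSp

variable {S : Scheme.{u}}

/-- The diagonal of a representable etale morphism is representable etale. -/
theorem repWith_etale_diagonal {F G : Sp S} {q : F ⟶ G} (hq : RepWith @Etale q) :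
    RepWith @Etale (pullback.diagonal q) := by
  have hΔ : Representable (pullback.diagonal q) :=
    Groth.Agent.Lib.Helper14.RR.relativelyRepresentable_diagonal (yon S) q hq.rep
  refine repWith_diagonal_of_base_changes _ hq.rep hΔ fun T x => ?_
  rw [repWith_diagonal_yon_map_iff]
  have : Etale (hq.rep.snd x).left := hq.property_snd x
  infer_instance

/-- Cancellation: if `l ≫ w` and `w` are representable etale then so is `l`. -/
theorem repWith_etale_of_comp {F G H : Sp S} (l : F ⟶ G) (w : G ⟶ H)
    (hw : RepWith @Etale w) (hlw : RepWith @Etale (l ≫ w)) : RepWith @Etale l :=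
  repWith_of_comp_of_diagonal l w _ (repWith_etale_diagonal hw) hlw

/-- A representable morphism with a property `P ⊇ etale` stable under composition has `P` etale
locally on source and target. -/
theorem locP_of_repWith {P : MorphismProperty Scheme.{u}} [P.IsStableUnderComposition]
    (hP : (@Etale : MorphismProperty Scheme.{u}) ≤ P) {X Y : Sp S} {f : X ⟶ Y}
    (hf : RepWith P f) : LocP P f := by
  intro U V a b h ha hb comm
  have sq := hf.rep.isPullback b
  have hw : P (hf.rep.snd b).left := hf.property_snd b
  have hfst : RepWith @Etale (hf.rep.fst b) :=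
    MorphismProperty.of_isPullback (P := RepWith @Etale) sq.flip hb
  obtain ⟨l, hl⟩ := (yon S).map_surjective (sq.lift a ((yon S).map h) comm)
  have hl1 : (yon S).map l ≫ hf.rep.fst b = a := by rw [hl, sq.lift_fst]
  have hl2 : l ≫ hf.rep.snd b = h :=
    (yon S).map_injective (by rw [Functor.map_comp, hl, sq.lift_snd])
  have hle : RepWith @Etale ((yon S).map l) :=
    repWith_etale_of_comp _ _ hfst (by rw [hl1]; exact ha)
  have hle' : Etale l.left := (repWith_yon_map_iff _ _).1 hle
  rw [← hl2]
  exact P.comp_mem _ _ (hP _ _ _ hle') hw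

theorem etale_le_lft :
    (@Etale : MorphismProperty Scheme.{u}) ≤ @LocallyOfFiniteType :=
  fun _ _ _ h => by have := h; infer_instance

theorem isImmersion_le_lft :
    (@IsImmersion : MorphismProperty Scheme.{u}) ≤ @LocallyOfFiniteType :=
  fun _ _ _ h => by have := h; infer_instance

theorem isOpenImmersion_le_lfp :
    (@IsOpenImmersion : MorphismProperty Scheme.{u}) ≤ @LocallyOfFinitePresentation :=
  fun _ _ _ h => by have := h; infer_instance

set_option backward.isDefEq.respectTransparency.types false in
/-- Descent of a property of morphisms of schemes along an etale surjective base change. -/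
theorem P_of_etale_surjective_base_change {P : MorphismProperty Scheme.{u}}
    [P.DescendsAlong (@Surjective ⊓ @Flat ⊓ @LocallyOfFinitePresentation)]
    {U V V' U' : Over S} {h : U ⟶ V} {e : V' ⟶ V} {fst : U' ⟶ U} {snd : U' ⟶ V'}
    (sq : IsPullback fst snd h e) (he : Etale e.left) (hs : Surjective e.left)
    (hP : P snd.left) : P h.left := by
  have sq' : IsPullback snd.left fst.left e.left h.left := (sq.map (Over.forget S)).flip
  exact MorphismProperty.of_isPullback_of_descendsAlong
    (Q := @Surjective ⊓ @Flat ⊓ @LocallyOfFinitePresentation) sq'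
    ⟨⟨hs, inferInstance⟩, inferInstance⟩ hP

/-- If `a ≫ f` is universally open and `a` is representable surjective, `f` is universally open. -/
theorem isUnivOpenMor_of_comp_surjective {X' X Y : Sp S} (a : X' ⟶ X) (f : X ⟶ Y)
    (ha : RepWith @Surjective a) (h : IsUnivOpenMor (a ≫ f)) : IsUnivOpenMor f := by
  intro Z Z' hZ z fstZ sndZ sqZ
  have sq1 := IsPullback.of_hasPullback a fstZ
  have big := sq1.paste_vert sqZ
  have hopen := h hZ z _ _ big
  have hsurj : RepWith @Surjective (pullback.snd a fstZ) :=
    MorphismProperty.of_isPullback (P := RepWith @Surjective) sq1 ha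
  exact isOpenMap_points_of_comp_surjective _ _ (points_map_surjective_of_repWith hsurj) hopen

/-- A chart diagram with surjective charts on both source and target, for any morphism of
algebraic spaces. -/
theorem exists_chart_diagram {X Y : Sp S} (hX : IsAlgSpace X) (f : X ⟶ Y) {V : Over S}
    (b : (yon S).obj V ⟶ Y) (hbe : RepWith @Etale b) (hbs : RepWith @Surjective b) :
    ∃ (U : Over S) (a : (yon S).obj U ⟶ X) (h : U ⟶ V), RepWith @Etale a ∧ RepWith @Surjective a ∧
      a ≫ f = (yon S).map h ≫ b := by
  obtain ⟨U0, a0, ha0e, ha0s⟩ := hX.atlas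
  have sqU := hbe.rep.isPullback (a0 ≫ f)
  have he : RepWith @Etale ((yon S).map (hbe.rep.snd (a0 ≫ f))) :=
    (repWith_yon_map_iff _ _).2 (hbe.property_snd _)
  have hs : RepWith @Surjective ((yon S).map (hbe.rep.snd (a0 ≫ f))) :=
    (repWith_yon_map_iff _ _).2 (hbs.property _ _ _ sqU)
  obtain ⟨h, hh⟩ := (yon S).map_surjective (hbe.rep.fst (a0 ≫ f))
  refine ⟨_, (yon S).map (hbe.rep.snd (a0 ≫ f)) ≫ a0, h, repWith_comp _ he ha0e,
    repWith_comp _ hs ha0s, ?_⟩
  rw [hh, Category.assoc]
  exact sqU.w.symm

theorem isLocNoethSp_of_locP_lft {X Y : Sp S} (hX : IsAlgSpace X) (f : X ⟶ Y)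
    (hf : LocP @LocallyOfFiniteType f) (hY : IsLocNoethSp Y) : IsLocNoethSp X := by
  obtain ⟨V, b, hbe, hbs, hV⟩ := hY
  obtain ⟨U, a, h, hae, has, comm⟩ := exists_chart_diagram hX f b hbe hbs
  have : LocallyOfFiniteType h.left := hf a b h hae hbe comm
  exact ⟨U, a, hae, has, LocallyOfFiniteType.isLocallyNoetherian h.left⟩

theorem isUnivOpenMor_of_flat_lfp {X Y : Sp S} (hX : IsAlgSpace X) (hY : IsAlgSpace Y)
    (f : X ⟶ Y) (hfl : LocP @Flat f) (hfp : LocP @LocallyOfFinitePresentation f) :
    IsUnivOpenMor f := by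
  obtain ⟨V, b, hbe, hbs⟩ := hY.atlas
  obtain ⟨U, a, h, hae, has, comm⟩ := exists_chart_diagram hX f b hbe hbs
  have h1 : Flat h.left := hfl a b h hae hbe comm
  have h2 : LocallyOfFinitePresentation h.left := hfp a b h hae hbe comm
  have h3 : UniversallyOpen h.left := inferInstance
  have hcomp : RepWith @UniversallyOpen ((yon S).map h ≫ b) :=
    repWith_comp _ ((repWith_yon_map_iff _ _).2 h3) (repWith_mono etale_le_universallyOpen hbe)
  have : IsUnivOpenMor (a ≫ f) := by
    rw [comm]
    exact (repWith_universallyOpen_iff_isUnivOpenMor hcomp.rep).1 hcomp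
  exact isUnivOpenMor_of_comp_surjective a f has this

/-- If `f ≫ g` is locally of finite type (etale locally), so is `f`. -/
theorem locP_lft_of_comp {X Y Z : Sp S} (hZ : IsAlgSpace Z) (f : X ⟶ Y) (g : Y ⟶ Z)
    (hfg : LocP @LocallyOfFiniteType (f ≫ g)) : LocP @LocallyOfFiniteType f := by
  intro U V a b h ha hb comm
  obtain ⟨W, c, hce, hcs⟩ := hZ.atlas
  have sqV := hce.rep.isPullback (b ≫ g)
  have he : Etale (hce.rep.snd (b ≫ g)).left := hce.property_snd _
  have hs : Surjective (hce.rep.snd (b ≫ g)).left := hcs.property _ _ _ sqV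
  obtain ⟨w1, hw1⟩ := (yon S).map_surjective (hce.rep.fst (b ≫ g))
  have sqU := IsPullback.of_hasPullback h (hce.rep.snd (b ≫ g))
  have hfe : Etale (pullback.fst h (hce.rep.snd (b ≫ g))).left :=
    MorphismProperty.of_isPullback (P := MorphismProperty.inverseImage @Etale (Over.forget S)) sqU.flip he
  have ha' : RepWith @Etale ((yon S).map (pullback.fst h (hce.rep.snd (b ≫ g))) ≫ a) :=
    repWith_comp _ ((repWith_yon_map_iff _ _).2 hfe) ha
  have comm' : ((yon S).map (pullback.fst h (hce.rep.snd (b ≫ g))) ≫ a) ≫ f ≫ g =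
      (yon S).map (pullback.snd h (hce.rep.snd (b ≫ g)) ≫ w1) ≫ c := by
    rw [Category.assoc, reassoc_of% comm, ← Functor.map_comp_assoc, sqU.w, Functor.map_comp,
      Functor.map_comp, Category.assoc, Category.assoc, hw1, sqV.w]
  have h1 : LocallyOfFiniteType
      ((pullback.snd h (hce.rep.snd (b ≫ g))).left ≫ w1.left) :=
    hfg _ c _ ha' hce comm'
  have h2 : LocallyOfFiniteType (pullback.snd h (hce.rep.snd (b ≫ g))).left :=
    locallyOfFiniteType_of_comp _ w1.left
  exact P_of_etale_surjective_base_change sqU he hs h2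

/-- Being locally of finite type descends along an etale surjective base change. -/
theorem locP_lft_of_target_cover {X Y P : Sp S} {f : X ⟶ Y} {V : Over S}
    (p : (yon S).obj V ⟶ Y) (hp : RepWith @Etale p) (hps : RepWith @Surjective p)
    {fst : P ⟶ X} {snd : P ⟶ (yon S).obj V} (sq : IsPullback fst snd f p)
    (hsnd : LocP @LocallyOfFiniteType snd) : LocP @LocallyOfFiniteType f := by
  intro U V' a b h ha hb comm
  have sq2 := hp.rep.isPullback b
  have he : Etale (hp.rep.snd b).left := hp.property_snd _
  have hs : Surjective (hp.rep.snd b).left := hps.property _ _ _ sq2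
  have hv1 : RepWith @Etale (hp.rep.fst b) :=
    MorphismProperty.of_isPullback (P := RepWith @Etale) sq2.flip hb
  have sqU := IsPullback.of_hasPullback h (hp.rep.snd b)
  have big := (sqU.map (yon S)).paste_vert sq2.flip
  rw [← comm] at big
  have hc : ((yon S).map (pullback.fst h (hp.rep.snd b)) ≫ a) ≫ f =
      ((yon S).map (pullback.snd h (hp.rep.snd b)) ≫ hp.rep.fst b) ≫ p := by
    rw [Category.assoc]; exact big.w
  have key : IsPullback ((yon S).map (pullback.fst h (hp.rep.snd b))) (sq.lift _ _ hc) a fst := by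
    refine IsPullback.of_bot ?_ (sq.lift_fst _ _ _).symm sq
    rw [sq.lift_snd]
    exact big
  have ha'' : RepWith @Etale (sq.lift _ _ hc) :=
    MorphismProperty.of_isPullback (P := RepWith @Etale) key ha
  have h2 : LocallyOfFiniteType (pullback.snd h (hp.rep.snd b)).left :=
    hsnd _ (hp.rep.fst b) _ ha'' hv1 (sq.lift_snd _ _ _)
  exact P_of_etale_surjective_base_change sqU he hs h2

end Groth.Agent.Lib.Helper14.AS
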