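import Groth.Prelude.Def_AlgSp4
import Groth.Agent.Lib.Helper14.AlgSpBasic2
import Mathlib.AlgebraicGeometry.Morphisms.UniversallyOpen
import Mathlib.CategoryTheory.Limits.Types.Pullbacks

/-!
# Points of sheaves / algebraic spaces (helper14)

Namespace `Groth.Agent.Lib.Helper14.AS`.
-/

universe u
open CategoryTheory CategoryTheory.Limits AlgebraicGeometry Opposite Topology

namespace Groth.Agent.Lib.Helper14.AS

open AlgSp

variable {S : Scheme.{u}}

/-- Points of a fibre product of sheaves surject onto the fibre product of the sets of points. -/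
theorem points_exists_of_isPullback {F G H P : Sp S} {fst : P ⟶ F} {snd : P ⟶ G} {f : F ⟶ H}
    {g : G ⟶ H} (sq : IsPullback fst snd f g) (x : Points F) (y : Points G)
    (e : Points.map f x = Points.map g y) :
    ∃ z : Points P, Points.map fst z = x ∧ Points.map snd z = y := by
  induction x using Points.ind with
  | h p =>
  induction y using Points.ind with
  | h q =>
  obtain ⟨Ω, _, w, a, b, hab⟩ := Points.mk_eq_mk_iff.1 e
  change H.obj.map a.op (f.hom.app _ p.val) = H.obj.map b.op (g.hom.app _ q.val) at hab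
  have sqΩ := (sq.map (sheafToPresheaf (AlgSp.J S) (Type (u + 1)))).map
    ((evaluation _ _).obj (op (Over.mk w)))
  obtain ⟨zΩ, h1, h2⟩ := Limits.Types.exists_of_isPullback sqΩ (F.obj.map a.op p.val)
    (G.obj.map b.op q.val) (by
      have e1 := NatTrans.naturality_apply f.hom a.op p.val
      have e2 := NatTrans.naturality_apply g.hom b.op q.val
      exact e1.trans (hab.trans e2.symm))
  refine ⟨Points.mk ⟨Ω, w, zΩ⟩, ?_, ?_⟩
  · refine Points.sound ⟨Ω, inferInstance, w, 𝟙 _, a, ?_⟩
    change F.obj.map (𝟙 _).op (fst.hom.app _ zΩ) = _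
    rw [op_id, F.obj.map_id]
    exact h1
  · refine Points.sound ⟨Ω, inferInstance, w, 𝟙 _, b, ?_⟩
    change G.obj.map (𝟙 _).op (snd.hom.app _ zΩ) = _
    rw [op_id, G.obj.map_id]
    exact h2

/-- A morphism `m : Spec K ⟶ T` over `S` and `g : h_T ⟶ F` define the point `ofPt g (m pt)`. -/
theorem mk_app_eq_ofPt {F : Sp S} {T : Over S} (g : (yon S).obj T ⟶ F) {K : Type u} [Field K]
    {str : Spec (.of K) ⟶ S} (m : Over.mk str ⟶ T) :
    Points.mk (⟨K, str, g.hom.app _ ⟨m⟩⟩ : FieldPt F) =
      Points.ofPt g (m.left (IsLocalRing.closedPoint K)) := by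
  rw [Points.ofPt_eq_map_ofScheme, Points.ofScheme_apply_eq_mk T m.left (Over.w m)]
  rfl

/-- `ofPt` of a composite with `h_φ`. -/
theorem ofPt_yon_map_comp {F : Sp S} {T T' : Over S} (φ : T ⟶ T') (g : (yon S).obj T' ⟶ F)
    (t : ↥T.left) : Points.ofPt ((yon S).map φ ≫ g) t = Points.ofPt g (φ.left t) := by
  rw [← Points.map_ofPt, Points.ofPt_eq_map_ofScheme g]
  congr 1
  have := Points.map_yon_map_apply φ t
  rw [Points.ofPt_eq_map_ofScheme]
  exact this

/-- Every point of `F` is of the form `ofPt g t`. -/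
theorem exists_ofPt_eq {F : Sp S} (x : Points F) :
    ∃ (T : Over S) (g : (yon S).obj T ⟶ F) (t : ↥T.left), Points.ofPt g t = x := by
  induction x using Points.ind with
  | h p =>
  refine ⟨p.pt, yEquiv.symm p.val, (Over.Hom.left (𝟙 p.pt)) (IsLocalRing.closedPoint p.K), ?_⟩
  rw [← mk_app_eq_ofPt (yEquiv.symm p.val) (𝟙 p.pt)]
  obtain ⟨K, str, v⟩ := p
  congr 1
  congr 1
  have : (yEquiv.symm v).hom.app (op (Over.mk str)) ⟨𝟙 _⟩ = yEquiv (yEquiv.symm v) := rfl
  rw [this, Equiv.apply_symm_apply]

/-- A representable surjective morphism of sheaves is surjective on points. -/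
theorem points_map_surjective_of_repWith {F G : Sp S} {q : F ⟶ G} (hq : RepWith @Surjective q) :
    Function.Surjective (Points.map q) := by
  intro y
  obtain ⟨T, g, t, rfl⟩ := exists_ofPt_eq y
  have sq := hq.rep.isPullback g
  have hs : Surjective (hq.rep.snd g).left := hq.property_snd g
  obtain ⟨w, hw⟩ := (hq.rep.snd g).left.surjective t
  refine ⟨Points.ofPt (hq.rep.fst g) w, ?_⟩
  rw [Points.map_ofPt, sq.w, ofPt_yon_map_comp, hw]

theorem ofPt_surjective_of_repWith {F : Sp S} {U : Over S} {p : (yon S).obj U ⟶ F}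
    (hp : RepWith @Surjective p) : Function.Surjective (Points.ofPt p) := by
  intro x
  obtain ⟨y, rfl⟩ := points_map_surjective_of_repWith hp x
  obtain ⟨u, rfl⟩ := (Points.schemeHomeo U).surjective y
  exact ⟨u, Points.ofPt_eq_map_ofScheme p u⟩

/-- Points of a fibre product of representable sheaves over a sheaf. -/
theorem exists_point_of_isPullback_yon {F : Sp S} {U T V : Over S} {a : (yon S).obj U ⟶ F}
    {g : (yon S).obj T ⟶ F} {fst : V ⟶ U} {snd : V ⟶ T}
    (sq : IsPullback ((yon S).map fst) ((yon S).map snd) a g) (u : ↥U.left) (t : ↥T.left)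
    (e : Points.ofPt a u = Points.ofPt g t) : ∃ v : ↥V.left, fst.left v = u ∧ snd.left v = t := by
  rw [Points.ofPt_eq_map_ofScheme a, Points.ofPt_eq_map_ofScheme g] at e
  obtain ⟨z, hz1, hz2⟩ := points_exists_of_isPullback sq _ _ e
  obtain ⟨v, rfl⟩ := (Points.schemeHomeo V).surjective z
  refine ⟨v, ?_, ?_⟩
  · have := (Points.map_yon_map_apply fst v).symm.trans hz1
    exact (Points.schemeHomeo U).injective this
  · have := (Points.map_yon_map_apply snd v).symm.trans hz2
    exact (Points.schemeHomeo T).injective this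

/-- For a representable etale `a : h_U ⟶ F`, the map `|U| → |F|` is open. -/
theorem isOpenMap_ofPt {F : Sp S} {U : Over S} (a : (yon S).obj U ⟶ F) (ha : RepWith @Etale a) :
    IsOpenMap (Points.ofPt a) := by
  intro W hW
  rw [Points.isOpen_iff]
  intro T g
  have sq := ha.rep.isPullback' g
  have het : Etale (ha.rep.snd g).left := ha.property_snd g
  have : Points.ofPt g ⁻¹' (Points.ofPt a '' W) =
      (ha.rep.snd g).left '' ((ha.rep.fst' g).left ⁻¹' W) := by
    ext t
    constructor
    · rintro ⟨u, hu, e⟩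
      obtain ⟨v, hv1, hv2⟩ := exists_point_of_isPullback_yon sq u t e
      exact ⟨v, by simpa [hv1] using hu, hv2⟩
    · rintro ⟨v, hv, rfl⟩
      refine ⟨(ha.rep.fst' g).left v, hv, ?_⟩
      rw [← ofPt_yon_map_comp, ← ofPt_yon_map_comp, sq.w]
  rw [this]
  exact (ha.rep.snd g).left.isOpenMap _ (hW.preimage (ha.rep.fst' g).left.continuous)

/-- For a representable etale surjective chart, `|U| → |F|` is a quotient map. -/
theorem isQuotientMap_ofPt {F : Sp S} {U : Over S} (p : (yon S).obj U ⟶ F)
    (hp : RepWith @Etale p) (hs : RepWith @Surjective p) : IsQuotientMap (Points.ofPt p) :=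
  (isOpenMap_ofPt p hp).isQuotientMap (Points.continuous_ofPt p) (ofPt_surjective_of_repWith hs)

end Groth.Agent.Lib.Helper14.AS
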