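import Groth.Prelude.Def_AlgSpDec
import Groth.Agent.Lib.Helper14.AlgSpPoints
import Groth.Agent.Lib.Helper14.AlgSpBasic2
import Groth.Agent.Lib.Helper14.AlgSpLocP

universe u
open CategoryTheory CategoryTheory.Limits AlgebraicGeometry Opposite

namespace Groth.Agent.Lib.Helper14.AS
open AlgSp

variable {S : Scheme.{u}} {X Y : Sp S}

/-- A property of pointed morphisms of schemes which is invariant under etale squares. -/
def EtSqInv (Q : ∀ (U V : Scheme.{u}), (U ⟶ V) → ↥U → Prop) : Prop :=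
  ∀ ⦃U U' V V' : Scheme.{u}⦄ (h : U ⟶ V) (h' : U' ⟶ V') (a : U' ⟶ U) (b : V' ⟶ V),
    Etale a → Etale b → h' ≫ b = a ≫ h → ∀ u' : ↥U', Q U V h (a u') ↔ Q U' V' h' u'

set_option backward.isDefEq.respectTransparency.types false in
/-- For a property invariant under etale squares, its value on a chart diagram through a point
does not depend on the diagram. -/
theorem Q_chart_indep {Q : ∀ (U V : Scheme.{u}), (U ⟶ V) → ↥U → Prop} (hQ : EtSqInv Q)
    (f : X ⟶ Y) {U V U₁ V₁ : Over S}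
    (a : (yon S).obj U ⟶ X) (b : (yon S).obj V ⟶ Y) (h : U ⟶ V)
    (ha : RepWith @Etale a) (hb : RepWith @Etale b) (comm : a ≫ f = (yon S).map h ≫ b)
    (a₁ : (yon S).obj U₁ ⟶ X) (b₁ : (yon S).obj V₁ ⟶ Y) (h₁ : U₁ ⟶ V₁)
    (ha₁ : RepWith @Etale a₁) (hb₁ : RepWith @Etale b₁)
    (comm₁ : a₁ ≫ f = (yon S).map h₁ ≫ b₁) (u : ↥U.left) (u₁ : ↥U₁.left)
    (hu : Points.ofPt a u = Points.ofPt a₁ u₁) :
    Q U.left V.left h.left u ↔ Q U₁.left V₁.left h₁.left u₁ := by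
  have sqU := ha.rep.isPullback' a₁
  have sqV := hb.rep.isPullback' b₁
  have eU1 : Etale (ha.rep.snd a₁).left := ha.property_snd a₁
  have eU0 : Etale (ha.rep.fst' a₁).left := by
    have : RepWith @Etale ((yon S).map (ha.rep.fst' a₁)) := repWith_of_isPullback _ sqU.flip ha₁
    exact (repWith_yon_map_iff _ _).1 this
  have eV1 : Etale (hb.rep.snd b₁).left := hb.property_snd b₁
  have eV0 : Etale (hb.rep.fst' b₁).left := by
    have : RepWith @Etale ((yon S).map (hb.rep.fst' b₁)) := repWith_of_isPullback _ sqV.flip hb₁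
    exact (repWith_yon_map_iff _ _).1 this
  have compat : (yon S).map (ha.rep.fst' a₁ ≫ h) ≫ b = (yon S).map (ha.rep.snd a₁ ≫ h₁) ≫ b₁ := by
    rw [Functor.map_comp, Functor.map_comp, Category.assoc, Category.assoc, ← comm, ← comm₁,
      ← Category.assoc, ← Category.assoc, sqU.w]
  obtain ⟨h₃, hh₃⟩ := (yon S).map_surjective (sqV.lift _ _ compat)
  have c0 : h₃ ≫ hb.rep.fst' b₁ = ha.rep.fst' a₁ ≫ h :=
    (yon S).map_injective (by rw [Functor.map_comp, hh₃, sqV.lift_fst])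
  have c1 : h₃ ≫ hb.rep.snd b₁ = ha.rep.snd a₁ ≫ h₁ :=
    (yon S).map_injective (by rw [Functor.map_comp, hh₃, sqV.lift_snd])
  obtain ⟨w, hw0, hw1⟩ := exists_point_of_isPullback_yon sqU u u₁ hu
  have k0 := hQ h.left h₃.left (ha.rep.fst' a₁).left (hb.rep.fst' b₁).left eU0 eV0
    (by rw [← Over.comp_left, ← Over.comp_left, c0]) w
  have k1 := hQ h₁.left h₃.left (ha.rep.snd a₁).left (hb.rep.snd b₁).left eU1 eV1
    (by rw [← Over.comp_left, ← Over.comp_left, c1]) w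
  rw [hw0] at k0
  rw [hw1] at k1
  exact k0.trans k1.symm

theorem hasAtMor_ofPt_iff {Q : ∀ (U V : Scheme.{u}), (U ⟶ V) → ↥U → Prop} (hQ : EtSqInv Q)
    (f : X ⟶ Y) {U V : Over S}
    (a : (yon S).obj U ⟶ X) (b : (yon S).obj V ⟶ Y) (h : U ⟶ V)
    (ha : RepWith @Etale a) (hb : RepWith @Etale b) (comm : a ≫ f = (yon S).map h ≫ b)
    (u : ↥U.left) :
    HasAtMor Q f (Points.ofPt a u) ↔ Q U.left V.left h.left u := by
  constructor
  · rintro ⟨U₁, V₁, a₁, b₁, h₁, u₁, ha₁, hb₁, comm₁, hu₁, hq⟩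
    exact (Q_chart_indep hQ f a b h ha hb comm a₁ b₁ h₁ ha₁ hb₁ comm₁ u u₁ hu₁.symm).2 hq
  · intro hq
    exact ⟨U, V, a, b, h, u, ha, hb, comm, rfl, hq⟩

/-- There is a chart diagram through every point. -/
theorem exists_chart_diagram_at (hX : IsAlgSpace X) (hY : IsAlgSpace Y) (f : X ⟶ Y)
    (x : Points X) :
    ∃ (U V : Over S) (a : (yon S).obj U ⟶ X) (b : (yon S).obj V ⟶ Y) (h : U ⟶ V) (u : ↥U.left),
      RepWith @Etale a ∧ RepWith @Etale b ∧ a ≫ f = (yon S).map h ≫ b ∧ Points.ofPt a u = x := by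
  obtain ⟨V, b, hbe, hbs⟩ := hY.atlas
  obtain ⟨U, a, h, hae, has, comm⟩ := exists_chart_diagram hX f b hbe hbs
  obtain ⟨u, hu⟩ := ofPt_surjective_of_repWith has x
  exact ⟨U, V, a, b, h, u, hae, hbe, comm, hu⟩

end Groth.Agent.Lib.Helper14.AS
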