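import Groth.Agent.Lib.Helper14.AlgSpLocP2
import Groth.Agent.Lib.Helper14.HasAtMorChart

universe u
open CategoryTheory CategoryTheory.Limits AlgebraicGeometry Opposite

namespace Groth.Agent.Lib.Helper14.AS

open AlgSp

variable {S : Scheme.{u}}

set_option backward.isDefEq.respectTransparency.types false in
/-- Compatible chart diagrams for a morphism and its base change, with all charts etale
surjective and the scheme level square cartesian. -/
theorem exists_bc_chart {X Y Y' X' : Sp S} (hX : IsAlgSpace X) (hY : IsAlgSpace Y)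
    (hY' : IsAlgSpace Y') (f : X ⟶ Y) (g : Y' ⟶ Y) (fst : X' ⟶ X) (f' : X' ⟶ Y')
    (sq : IsPullback fst f' f g) :
    ∃ (U V U' V' : Over S) (a : (yon S).obj U ⟶ X) (b : (yon S).obj V ⟶ Y)
      (a' : (yon S).obj U' ⟶ X') (b' : (yon S).obj V' ⟶ Y') (h : U ⟶ V) (h' : U' ⟶ V')
      (α : U' ⟶ U) (β : V' ⟶ V),
      RepWith @Etale a ∧ RepWith @Surjective a ∧ RepWith @Etale b ∧ RepWith @Surjective b ∧
      RepWith @Etale a' ∧ RepWith @Surjective a' ∧ RepWith @Etale b' ∧ RepWith @Surjective b' ∧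
      a ≫ f = (yon S).map h ≫ b ∧ a' ≫ f' = (yon S).map h' ≫ b' ∧
      a' ≫ fst = (yon S).map α ≫ a ∧ b' ≫ g = (yon S).map β ≫ b ∧ IsPullback α h' h β := by
  obtain ⟨V, b, hbe, hbs⟩ := hY.atlas
  obtain ⟨U, a, h, hae, has, comm⟩ := exists_chart_diagram hX f b hbe hbs
  obtain ⟨V'₀, b'₀, hb'e, hb's⟩ := hY'.atlas
  have sqV := hbe.rep.isPullback (b'₀ ≫ g)
  have hv'e : Etale (hbe.rep.snd (b'₀ ≫ g)).left := hbe.property_snd _
  have hv's : Surjective (hbe.rep.snd (b'₀ ≫ g)).left := hbs.property_snd _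
  obtain ⟨w, hw⟩ := (yon S).map_surjective (hbe.rep.fst (b'₀ ≫ g))
  rw [← hw] at sqV
  have sqU := IsPullback.of_hasPullback h w
  have big := (sqU.map (yon S)).flip.paste_horiz sqV.flip
  rw [← comm] at big
  have sqM := IsPullback.of_hasPullback f' b'₀
  have R := sqM.paste_horiz sq
  have hc : ((yon S).map (pullback.fst h w) ≫ a) ≫ f =
      ((yon S).map (pullback.snd h w) ≫ (yon S).map (hbe.rep.snd (b'₀ ≫ g))) ≫ b'₀ ≫ g := by
    rw [Category.assoc]; exact big.w.symm
  have hμ2 : R.lift _ _ hc ≫ pullback.snd f' b'₀ =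
      (yon S).map (pullback.snd h w) ≫ (yon S).map (hbe.rep.snd (b'₀ ≫ g)) := R.lift_snd _ _ _
  have hμ1 : R.lift _ _ hc ≫ pullback.fst f' b'₀ ≫ fst = (yon S).map (pullback.fst h w) ≫ a :=
    R.lift_fst _ _ _
  have left : IsPullback (R.lift _ _ hc) ((yon S).map (pullback.fst h w))
      (pullback.fst f' b'₀ ≫ fst) a := by
    refine IsPullback.of_right ?_ hμ1 R.flip
    rw [hμ2]
    exact big
  have hμe : RepWith @Etale (R.lift _ _ hc) :=
    MorphismProperty.of_isPullback (P := RepWith @Etale) left.flip hae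
  have hμs : RepWith @Surjective (R.lift _ _ hc) :=
    MorphismProperty.of_isPullback (P := RepWith @Surjective) left.flip has
  have hm1e : RepWith @Etale (pullback.fst f' b'₀) :=
    MorphismProperty.of_isPullback (P := RepWith @Etale) sqM.flip hb'e
  have hm1s : RepWith @Surjective (pullback.fst f' b'₀) :=
    MorphismProperty.of_isPullback (P := RepWith @Surjective) sqM.flip hb's
  have hb' : RepWith @Etale ((yon S).map (hbe.rep.snd (b'₀ ≫ g)) ≫ b'₀) :=
    repWith_comp _ ((repWith_yon_map_iff _ _).2 hv'e) hb'e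
  have hb'2 : RepWith @Surjective ((yon S).map (hbe.rep.snd (b'₀ ≫ g)) ≫ b'₀) :=
    repWith_comp _ ((repWith_yon_map_iff _ _).2 hv's) hb's
  refine ⟨U, V, pullback h w, _, a, b, R.lift _ _ hc ≫ pullback.fst f' b'₀,
    (yon S).map (hbe.rep.snd (b'₀ ≫ g)) ≫ b'₀, h, pullback.snd h w, pullback.fst h w, w,
    hae, has, hbe, hbs, repWith_comp _ hμe hm1e, repWith_comp _ hμs hm1s, hb', hb'2, comm, ?_, ?_,
    ?_, sqU⟩
  · rw [Category.assoc, sqM.w, ← Category.assoc, hμ2, Category.assoc]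
  · rw [Category.assoc]; exact hμ1
  · rw [Category.assoc]; exact sqV.w.symm

end Groth.Agent.Lib.Helper14.AS
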