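import Groth.Agent.Lib.Helper14.AlgSpPoints3
import Mathlib.AlgebraicGeometry.Morphisms.UniversallyClosed

/-!
# Universally closed morphisms of algebraic spaces (helper14)
-/

universe u
open CategoryTheory CategoryTheory.Limits AlgebraicGeometry Opposite Topology

namespace Groth.Agent.Lib.Helper14.AS

open AlgSp

variable {S : Scheme.{u}}

/-- A representable universally closed morphism to an algebraic space is closed on points. -/
theorem isClosedMap_points_of_repWith_universallyClosed {F G : Sp S} (hG : IsAlgSpace G)
    {h : F ⟶ G} (hh : RepWith @UniversallyClosed h) : IsClosedMap (Points.map h) := by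
  obtain ⟨U, a, hae, has⟩ := hG.atlas
  intro W hW
  rw [← (isQuotientMap_ofPt a hae has).isClosed_preimage,
    ofPt_preimage_image_eq (hh.rep.isPullback a)]
  have : UniversallyClosed (hh.rep.snd a).left := hh.property_snd a
  exact (hh.rep.snd a).left.isClosedMap _ (hW.preimage (Points.continuous_ofPt _))

theorem isClosedMap_points_yon_map_iff {T T' : Over S} (φ : T ⟶ T') :
    IsClosedMap (Points.map ((yon S).map φ)) ↔ IsClosedMap φ.left := by
  rw [Points.map_yon_map_eq]
  constructor
  · intro h
    have := ((Points.schemeHomeo T').symm.isClosedMap.comp h).comp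
      (Points.schemeHomeo T).isClosedMap
    convert this using 1
    funext t
    simp
  · intro h
    exact ((Points.schemeHomeo T').isClosedMap.comp h).comp (Points.schemeHomeo T).symm.isClosedMap

theorem repWith_universallyClosed_iff_isUnivClosedMor {X Y : Sp S} {f : X ⟶ Y}
    (hf : Representable f) : RepWith @UniversallyClosed f ↔ IsUnivClosedMor f := by
  constructor
  · intro h Z Z' hZ g fst snd sq
    exact isClosedMap_points_of_repWith_universallyClosed hZ
      (MorphismProperty.of_isPullback (P := RepWith @UniversallyClosed) sq h)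
  · intro h
    rw [universallyClosed_eq]
    exact repWith_universally_of_univSp (Q := IsClosedMor) _
      (fun φ hφ => (isClosedMap_points_yon_map_iff φ).1 hφ) hf h

theorem points_isClosed_iff_affine {F : Sp S} {W : Set (Points F)} :
    IsClosed W ↔ ∀ (T : Over S), IsAffine T.left → ∀ g : (yon S).obj T ⟶ F,
      IsClosed (Points.ofPt g ⁻¹' W) := by
  rw [← isOpen_compl_iff, points_isOpen_iff_affine]
  simp only [Set.preimage_compl, isOpen_compl_iff]

theorem isClosedMap_points_of_comp_surjective {F' F G : Sp S} (e : F' ⟶ F) (q : F ⟶ G)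
    (he : Function.Surjective (Points.map e)) (h : IsClosedMap (Points.map (e ≫ q))) :
    IsClosedMap (Points.map q) := by
  intro A hA
  have : Points.map q '' A = Points.map (e ≫ q) '' (Points.map e ⁻¹' A) := by
    have h1 : Points.map (e ≫ q) = Points.map q ∘ Points.map e := funext (Points.map_comp e q)
    rw [h1, Set.image_comp, Set.image_preimage_eq _ he]
  rw [this]
  exact h _ (hA.preimage (Points.continuous_map e))

/-- Universal closedness can be tested on affine schemes over the target. -/
theorem isUnivClosedMor_iff_affine {X Y : Sp S} (f : X ⟶ Y) :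
    IsUnivClosedMor f ↔
      ∀ (Z : Over S), IsAffine Z.left → ∀ (g : (yon S).obj Z ⟶ Y) (P : Sp S)
        (fst : P ⟶ X) (snd : P ⟶ (yon S).obj Z), IsPullback fst snd f g →
        IsClosedMap (Points.map snd) := by
  constructor
  · intro h Z _ g P fst snd sq
    exact h (IsAlgSpace.yon_obj Z) g fst snd sq
  · intro h Z Z' _ g fst snd sq A hA
    rw [points_isClosed_iff_affine]
    intro T hT t
    have sq1 := IsPullback.of_hasPullback snd t
    have hcl := h T hT (t ≫ g) _ _ _ (sq1.paste_horiz sq)
    have e : Points.ofPt t ⁻¹' (Points.map snd '' A) =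
        (Points.schemeHomeo T) ⁻¹' (Points.map t ⁻¹' (Points.map snd '' A)) := by
      ext x
      simp only [Set.mem_preimage]
      rw [Points.ofPt_eq_map_ofScheme]
      rfl
    rw [e, points_preimage_image_eq sq1]
    exact (hcl _ (hA.preimage (Points.continuous_map _))).preimage
      (Points.schemeHomeo T).continuous

/-- Universal closedness descends along an etale surjective base change. -/
theorem isUnivClosedMor_of_etale_cover {X Y V P : Sp S} (hY : IsAlgSpace Y) (hV : IsAlgSpace V)
    {f : X ⟶ Y} (p : V ⟶ Y) (hp : RepWith @Etale p) (hps : RepWith @Surjective p)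
    {fst : P ⟶ X} {snd : P ⟶ V} (sq : IsPullback fst snd f p) (h : IsUnivClosedMor snd) :
    IsUnivClosedMor f := by
  intro Z Z' hZ g fstZ sndZ sqZ A hA
  have sqV := IsPullback.of_hasPullback g p
  have hZV : IsAlgSpace (pullback g p) :=
    isAlgSpace_of_isPullback (repDiag_of_isAlgSpace hY) hZ hV sqV
  have he1 : RepWith @Etale (pullback.fst g p) :=
    MorphismProperty.of_isPullback (P := RepWith @Etale) sqV.flip hp
  have hs1 : RepWith @Surjective (pullback.fst g p) :=
    MorphismProperty.of_isPullback (P := RepWith @Surjective) sqV.flip hps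
  have sq1 := IsPullback.of_hasPullback sndZ (pullback.fst g p)
  have big := sq1.paste_horiz sqZ
  have hc : (pullback.fst sndZ (pullback.fst g p) ≫ fstZ) ≫ f =
      (pullback.snd sndZ (pullback.fst g p) ≫ pullback.snd g p) ≫ p := by
    rw [big.w, Category.assoc, sqV.w]
  have key : IsPullback (sq.lift _ _ hc) (pullback.snd sndZ (pullback.fst g p)) snd
      (pullback.snd g p) := by
    refine IsPullback.of_right ?_ (sq.lift_snd _ _ _) sq
    rw [sq.lift_fst, ← sqV.w]
    exact big
  have hcl := h hZV _ _ _ key
  rw [← (isQuotientMap_points_of_etale_surjective hZ he1 hs1).isClosed_preimage,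
    points_preimage_image_eq sq1]
  exact hcl _ (hA.preimage (Points.continuous_map _))

end Groth.Agent.Lib.Helper14.AS
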