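import Groth.Agent.Lib.Helper14.AlgSpDiag2
import Groth.Prelude.Def_AlgSp4
import Mathlib.CategoryTheory.Limits.Shapes.Diagonal

/-!
# Relative diagonals, graphs and sections of morphisms of algebraic spaces (helper14)
-/

universe u
open CategoryTheory CategoryTheory.Limits AlgebraicGeometry Opposite

namespace Groth.Agent.Lib.Helper14.AS

open AlgSp

variable {S : Scheme.{u}}

/-- The relative diagonal of `f : X ⟶ Y` is a base change of the absolute diagonal of `X`. -/
theorem isPullback_diagonal_diag {C : Type*} [Category C] [HasPullbacks C] [HasBinaryProducts C]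
    {X Y : C} (f : X ⟶ Y) :
    IsPullback (𝟙 X) (pullback.diagonal f) (Limits.diag X)
      (prod.lift (pullback.fst f f) (pullback.snd f f)) := by
  have : Mono (prod.lift (pullback.fst f f) (pullback.snd f f)) := by
    constructor
    intro Z a b hab
    apply pullback.hom_ext
    · have := congrArg (· ≫ prod.fst) hab
      simpa only [Category.assoc, prod.lift_fst] using this
    · have := congrArg (· ≫ prod.snd) hab
      simpa only [Category.assoc, prod.lift_snd] using this
  apply isPullback_id_of_mono
  apply Limits.prod.hom_ext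
  · simp only [Category.assoc, prod.lift_fst, pullback.diagonal_fst, Limits.diag]
  · simp only [Category.assoc, prod.lift_snd, pullback.diagonal_snd, Limits.diag]

/-- Any `RepWith P` property of the absolute diagonal of `X` passes to the relative diagonal. -/
theorem repWith_diagonal_of_diag (P : MorphismProperty Scheme.{u}) {X Y : Sp S} (f : X ⟶ Y)
    (h : RepWith P (Limits.diag X)) : RepWith P (pullback.diagonal f) :=
  repWith_of_isPullback P (isPullback_diagonal_diag f) h

theorem representable_diagonal {X Y : Sp S} (f : X ⟶ Y) (h : Representable (Limits.diag X)) :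
    Representable (pullback.diagonal f) :=
  MorphismProperty.of_isPullback (isPullback_diagonal_diag f) h

theorem diagonal_hom_properties {X Y : Sp S} (hX : IsAlgSpace X) (f : X ⟶ Y) :
    Representable (pullback.diagonal f) ∧
    RepWith @LocallyOfFiniteType (pullback.diagonal f) ∧
    RepWith (MorphismProperty.monomorphisms Scheme.{u}) (pullback.diagonal f) ∧
    RepWith @IsSeparated (pullback.diagonal f) ∧
    RepWith (@LocallyQuasiFinite ⊓ @LocallyOfFiniteType) (pullback.diagonal f) := by
  obtain ⟨h1, h2, h3, h4⟩ := repWith_diag_properties hX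
  exact ⟨representable_diagonal f hX.diag, repWith_diagonal_of_diag _ f h1,
    repWith_diagonal_of_diag _ f h2, repWith_diagonal_of_diag _ f h3,
    repWith_diagonal_of_diag _ f (repWith_inf h4 h1)⟩

/-- `X ×_Z Y ⟶ X ×_T Y` is a base change of the diagonal of `h : Z ⟶ T`. -/
theorem repWith_mapDesc (P : MorphismProperty Scheme.{u}) {X Y Z T : Sp S} (f : X ⟶ Z)
    (g : Y ⟶ Z) (h : Z ⟶ T) (hP : RepWith P (pullback.diagonal h)) :
    RepWith P (pullback.mapDesc f g h) :=
  repWith_of_isPullback P (pullback_map_diagonal_isPullback f g h) hP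

theorem representable_mapDesc {X Y Z T : Sp S} (f : X ⟶ Z)
    (g : Y ⟶ Z) (h : Z ⟶ T) (hP : Representable (pullback.diagonal h)) :
    Representable (pullback.mapDesc f g h) :=
  MorphismProperty.of_isPullback (pullback_map_diagonal_isPullback f g h) hP

theorem pullback_mapDesc_properties {X Y Z T : Sp S} (hZ : IsAlgSpace Z) (f : X ⟶ Z) (g : Y ⟶ Z)
    (h : Z ⟶ T) :
    Representable (pullback.mapDesc f g h) ∧
    RepWith @LocallyOfFiniteType (pullback.mapDesc f g h) ∧
    RepWith (@LocallyQuasiFinite ⊓ @LocallyOfFiniteType) (pullback.mapDesc f g h) ∧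
    RepWith @IsSeparated (pullback.mapDesc f g h) ∧
    RepWith (MorphismProperty.monomorphisms Scheme.{u}) (pullback.mapDesc f g h) ∧
    (IsSeparatedMor h → RepWith @IsClosedImmersion (pullback.mapDesc f g h)) ∧
    (IsQuasiSeparatedMor h → RepWith @QuasiCompact (pullback.mapDesc f g h)) := by
  obtain ⟨h0, h1, h2, h3, h4⟩ := diagonal_hom_properties hZ h
  exact ⟨representable_mapDesc f g h h0, repWith_mapDesc _ f g h h1, repWith_mapDesc _ f g h h4,
    repWith_mapDesc _ f g h h3, repWith_mapDesc _ f g h h2, fun hs => repWith_mapDesc _ f g h hs,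
    fun hs => repWith_mapDesc _ f g h hs⟩

/-- A section `s` of `f` is a base change of the diagonal of `f`, up to an isomorphism. -/
theorem repWith_section (P : MorphismProperty Scheme.{u}) {X T : Sp S} (f : X ⟶ T) (s : T ⟶ X)
    (hs : s ≫ f = 𝟙 T) (hP : RepWith P (pullback.diagonal f)) : RepWith P s := by
  have sq := pullback_lift_diagonal_isPullback s f
  have h1 : RepWith P (pullback.lift (𝟙 T) s (by simp) : T ⟶ pullback (s ≫ f) f) :=
    repWith_of_isPullback P sq hP
  have hiso : IsIso (pullback.snd (s ≫ f) f) := by
    have : IsIso (s ≫ f) := by rw [hs]; infer_instance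
    infer_instance
  have e : s = (pullback.lift (𝟙 T) s (by simp) : T ⟶ pullback (s ≫ f) f) ≫
      pullback.snd (s ≫ f) f := by
    rw [pullback.lift_snd]
  rw [e]
  exact (MorphismProperty.cancel_right_of_respectsIso (RepWith P) _ _).2 h1

theorem representable_section {X T : Sp S} (f : X ⟶ T) (s : T ⟶ X)
    (hs : s ≫ f = 𝟙 T) (hP : Representable (pullback.diagonal f)) : Representable s := by
  have sq := pullback_lift_diagonal_isPullback s f
  have h1 : Representable (pullback.lift (𝟙 T) s (by simp) : T ⟶ pullback (s ≫ f) f) :=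
    MorphismProperty.of_isPullback sq hP
  have hiso : IsIso (pullback.snd (s ≫ f) f) := by
    have : IsIso (s ≫ f) := by rw [hs]; infer_instance
    infer_instance
  have e : s = (pullback.lift (𝟙 T) s (by simp) : T ⟶ pullback (s ≫ f) f) ≫
      pullback.snd (s ≫ f) f := by
    rw [pullback.lift_snd]
  rw [e]
  exact (MorphismProperty.cancel_right_of_respectsIso Representable _ _).2 h1

theorem section_properties {X T : Sp S} (hX : IsAlgSpace X) (f : X ⟶ T) (s : T ⟶ X)
    (hs : s ≫ f = 𝟙 T) :
    Representable s ∧
    RepWith @LocallyOfFiniteType s ∧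
    RepWith (@LocallyQuasiFinite ⊓ @LocallyOfFiniteType) s ∧
    RepWith @IsSeparated s ∧
    RepWith (MorphismProperty.monomorphisms Scheme.{u}) s ∧
    (IsSeparatedMor f → RepWith @IsClosedImmersion s) ∧
    (IsQuasiSeparatedMor f → RepWith @QuasiCompact s) := by
  obtain ⟨h0, h1, h2, h3, h4⟩ := diagonal_hom_properties hX f
  exact ⟨representable_section f s hs h0, repWith_section _ f s hs h1,
    repWith_section _ f s hs h4, repWith_section _ f s hs h3, repWith_section _ f s hs h2,
    fun h => repWith_section _ f s hs h, fun h => repWith_section _ f s hs h⟩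

end Groth.Agent.Lib.Helper14.AS
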