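import Groth.Agent.Lib.Helper14.AlgSpQCMor2
import Groth.Agent.Lib.Helper14.AlgSpClosed
import Groth.Agent.Lib.Helper14.AlgSpDiag3
import Mathlib.AlgebraicGeometry.Morphisms.QuasiFinite

/-!
# Immersions of algebraic spaces (helper14)
-/

universe u
open CategoryTheory CategoryTheory.Limits AlgebraicGeometry Opposite Topology

namespace Groth.Agent.Lib.Helper14.AS

open AlgSp

variable {S : Scheme.{u}}

theorem isClosedImmersion_le_quasiCompact :
    (@IsClosedImmersion : MorphismProperty Scheme.{u}) ≤ @QuasiCompact :=
  fun _ _ _ h => by have := h; infer_instance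

theorem isClosedImmersion_le_universallyClosed :
    (@IsClosedImmersion : MorphismProperty Scheme.{u}) ≤ @UniversallyClosed :=
  fun _ _ _ h => by have := h; infer_instance

theorem isClosedImmersion_le_isImmersion :
    (@IsClosedImmersion : MorphismProperty Scheme.{u}) ≤ @IsImmersion :=
  fun _ _ _ h => by have := h; infer_instance

theorem isQuasiCompactMor_of_repWith_isClosedImmersion {F G : Sp S} {f : F ⟶ G}
    (hf : RepWith @IsClosedImmersion f) : IsQuasiCompactMor f :=
  isQuasiCompactMor_of_repWith (repWith_mono isClosedImmersion_le_quasiCompact hf)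

/-- An isomorphism of sheaves is representable with any property containing identities. -/
theorem repWith_of_isIso (P : MorphismProperty Scheme.{u}) [P.IsStableUnderBaseChange]
    [P.ContainsIdentities] {F G : Sp S} (e : F ⟶ G) [IsIso e] : RepWith P e := by
  refine MorphismProperty.relative.of_exists fun T g => ?_
  refine ⟨T, g ≫ inv e, 𝟙 T, ?_, P.id_mem _⟩
  rw [(yon S).map_id]
  exact IsPullback.of_vert_isIso ⟨by simp⟩

theorem isSeparatedMor_of_mono {F G : Sp S} (f : F ⟶ G) [Mono f] : IsSeparatedMor f := by
  have : IsIso (pullback.diagonal f) := (pullback.isIso_diagonal_iff f).2 inferInstance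
  exact repWith_of_isIso _ _

theorem isSeparatedMor_of_repWith_isClosedImmersion {F G : Sp S} {f : F ⟶ G}
    (hf : RepWith @IsClosedImmersion f) : IsSeparatedMor f := by
  have : Mono f := mono_of_repWith_mono
    (repWith_mono (isClosedImmersion_le_isImmersion.trans immersion_le_mono) hf)
  exact isSeparatedMor_of_mono f

/-- The range of a base change of `i` to a scheme is the preimage of the range of `|i|`. -/
theorem range_snd_eq_preimage {F G : Sp S} {i : F ⟶ G} {T W : Over S} {g : (yon S).obj T ⟶ G}
    {fst : (yon S).obj W ⟶ F} {b : W ⟶ T} (sq : IsPullback fst ((yon S).map b) i g) :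
    Set.range b.left = Points.ofPt g ⁻¹' Set.range (Points.map i) := by
  rw [← Set.image_univ, ← Set.image_univ, ofPt_preimage_image_eq sq, Set.preimage_univ]

theorem repWith_isClosedImmersion_iff_isClosed_range {Z X : Sp S} (hX : IsAlgSpace X)
    {i : Z ⟶ X} (hi : RepWith @IsImmersion i) :
    RepWith @IsClosedImmersion i ↔ IsClosed (Set.range (Points.map i)) := by
  constructor
  · intro h
    exact (isClosedMap_points_of_repWith_universallyClosed hX
      (repWith_mono isClosedImmersion_le_universallyClosed h)).isClosed_range
  · intro h
    refine MorphismProperty.relative_of_snd hi.rep fun T g => ?_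
    change IsClosedImmersion (hi.rep.snd g).left
    have : IsImmersion (hi.rep.snd g).left := hi.property_snd g
    refine IsClosedImmersion.of_isPreimmersion _ ?_
    rw [range_snd_eq_preimage (hi.rep.isPullback g)]
    exact h.preimage (Points.continuous_ofPt g)

/-- Permanence: a property of `a ≫ b` and of the diagonal of `b` passes to `a`. -/
theorem repWith_of_comp_of_diagonal {Z Y X : Sp S} (a : Z ⟶ Y) (b : Y ⟶ X)
    (P : MorphismProperty Scheme.{u}) [P.IsStableUnderComposition]
    (hΔ : RepWith P (pullback.diagonal b)) (hab : RepWith P (a ≫ b)) : RepWith P a := by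
  have sqG := isPullback_graph a b
  have hΓ := MorphismProperty.of_isPullback (P := RepWith P) sqG.flip hΔ
  have hpr : RepWith P (pullback.snd (a ≫ b) b) :=
    MorphismProperty.of_isPullback (P := RepWith P) (IsPullback.of_hasPullback (a ≫ b) b) hab
  have := repWith_comp P hΓ hpr
  rwa [pullback.lift_snd] at this

theorem representable_of_comp_of_diagonal {Z Y X : Sp S} (a : Z ⟶ Y) (b : Y ⟶ X)
    (hΔ : Representable (pullback.diagonal b)) (hab : Representable (a ≫ b)) :
    Representable a := by
  have sqG := isPullback_graph a b
  have hΓ := MorphismProperty.of_isPullback (P := Representable) sqG.flip hΔ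
  have hpr : Representable (pullback.snd (a ≫ b) b) :=
    MorphismProperty.of_isPullback (P := Representable) (IsPullback.of_hasPullback (a ≫ b) b) hab
  have := MorphismProperty.comp_mem _ _ _ hΓ hpr
  rwa [pullback.lift_snd] at this

end Groth.Agent.Lib.Helper14.AS
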