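import Groth.Agent.Lib.Helper14.AlgSpFibre

/-!
# Testing pullback squares of fppf sheaves on representables (helper14)
-/

universe u
open CategoryTheory CategoryTheory.Limits AlgebraicGeometry Opposite

namespace Groth.Agent.Lib.Helper14.AS

open AlgSp

variable {S : Scheme.{u}}

theorem yEquiv_comp {T : Over S} {F G : Sp S} (x : (yon S).obj T ⟶ F) (f : F ⟶ G) :
    yEquiv (x ≫ f) = f.hom.app (op T) (yEquiv x) :=
  (AlgSp.J S).uliftYonedaEquiv_comp x f

theorem yEquiv_symm_comp {T : Over S} {F G : Sp S} (x : F.obj.obj (op T)) (f : F ⟶ G) :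
    yEquiv.symm x ≫ f = yEquiv.symm (f.hom.app (op T) x) := by
  apply yEquiv.injective
  rw [yEquiv_comp, Equiv.apply_symm_apply, Equiv.apply_symm_apply]

/-- A square of sheaves is a pullback iff it is so on `T`-points for every scheme `T` over `S`. -/
theorem isPullback_iff_yon {P X Y Z : Sp S} {fst : P ⟶ X} {snd : P ⟶ Y} {f : X ⟶ Z}
    {g : Y ⟶ Z} :
    IsPullback fst snd f g ↔ fst ≫ f = snd ≫ g ∧
      ∀ (T : Over S) (x : (yon S).obj T ⟶ X) (y : (yon S).obj T ⟶ Y), x ≫ f = y ≫ g →
        ∃! z : (yon S).obj T ⟶ P, z ≫ fst = x ∧ z ≫ snd = y := by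
  constructor
  · intro h
    refine ⟨h.w, fun T x y hxy => ⟨h.lift x y hxy, ⟨h.lift_fst _ _ _, h.lift_snd _ _ _⟩, ?_⟩⟩
    rintro z ⟨h1, h2⟩
    apply h.hom_ext
    · rw [h1, h.lift_fst]
    · rw [h2, h.lift_snd]
  · rintro ⟨w, H⟩
    apply IsPullback.of_map (sheafToPresheaf (AlgSp.J S) (Type (u + 1))) w
    apply IsPullback.of_forall_isPullback_app
    intro T
    obtain ⟨T⟩ := T
    rw [Limits.Types.isPullback_iff]
    refine ⟨?_, ?_, ?_⟩
    · have := congrArg (fun k => k.hom.app (op T)) w
      exact this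
    · rintro z z' ⟨h1, h2⟩
      have hz : yEquiv.symm z = yEquiv.symm z' := by
        obtain ⟨z0, -, huniq⟩ := H T (yEquiv.symm z ≫ fst) (yEquiv.symm z ≫ snd)
          (by rw [Category.assoc, Category.assoc, w])
        rw [huniq (yEquiv.symm z) ⟨rfl, rfl⟩]
        refine (huniq (yEquiv.symm z') ⟨?_, ?_⟩).symm
        · rw [yEquiv_symm_comp, yEquiv_symm_comp]
          exact congrArg _ h1.symm
        · rw [yEquiv_symm_comp, yEquiv_symm_comp]
          exact congrArg _ h2.symm
      exact yEquiv.symm.injective hz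
    · intro x y hxy
      obtain ⟨z, ⟨h1, h2⟩, -⟩ := H T (yEquiv.symm x) (yEquiv.symm y) (by
        rw [yEquiv_symm_comp, yEquiv_symm_comp]
        exact congrArg _ hxy)
      refine ⟨yEquiv z, ?_, ?_⟩
      · have := congrArg yEquiv h1
        rw [yEquiv_comp, Equiv.apply_symm_apply] at this
        exact this
      · have := congrArg yEquiv h2
        rw [yEquiv_comp, Equiv.apply_symm_apply] at this
        exact this


theorem yon_map_injective {U V : Over S} {a b : U ⟶ V} (h : (yon S).map a = (yon S).map b) :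
    a = b := (yon S).map_injective h

/-- Build a pullback square from existence and uniqueness of lifts. -/
theorem isPullback_of_exists_unique {C : Type*} [Category C] {P X Y Z : C} {fst : P ⟶ X}
    {snd : P ⟶ Y} {f : X ⟶ Z} {g : Y ⟶ Z} (w : fst ≫ f = snd ≫ g)
    (hex : ∀ (T : C) (x : T ⟶ X) (y : T ⟶ Y), x ≫ f = y ≫ g → ∃ z : T ⟶ P, z ≫ fst = x ∧ z ≫ snd = y)
    (huniq : ∀ (T : C) (z z' : T ⟶ P), z ≫ fst = z' ≫ fst → z ≫ snd = z' ≫ snd → z = z') :
    IsPullback fst snd f g := by
  refine ⟨⟨w⟩, ⟨PullbackCone.IsLimit.mk w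
    (fun s => (hex s.pt s.fst s.snd s.condition).choose)
    (fun s => (hex s.pt s.fst s.snd s.condition).choose_spec.1)
    (fun s => (hex s.pt s.fst s.snd s.condition).choose_spec.2) ?_⟩⟩
  intro s m h1 h2
  apply huniq
  · rw [h1, (hex s.pt s.fst s.snd s.condition).choose_spec.1]
  · rw [h2, (hex s.pt s.fst s.snd s.condition).choose_spec.2]

/-- The pullback of the diagonal of `F` along `g : h_T ⟶ F ⨯ F` is the base change along the
diagonal of `T` of the fibre product `h_T ×_F h_T`. -/
theorem isPullback_diag_of_isPullback {F : Sp S} {T W W' : Over S} (g : (yon S).obj T ⟶ F ⨯ F)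
    {fst0 : (yon S).obj W ⟶ F} {snd0 : W ⟶ T} (sq0 : IsPullback fst0 ((yon S).map snd0) (Limits.diag F) g)
    {fst' snd' : W' ⟶ T}
    (sq' : IsPullback ((yon S).map fst') ((yon S).map snd') (g ≫ prod.fst) (g ≫ prod.snd)) :
    ∃ k : W ⟶ W', IsPullback k snd0 (prod.lift fst' snd') (Limits.diag T) := by
  have e1 : fst0 = (yon S).map snd0 ≫ g ≫ prod.fst := by
    have := congrArg (· ≫ prod.fst) sq0.w
    simpa only [Category.assoc, Limits.diag, prod.lift_fst, Category.comp_id] using this
  have e2 : fst0 = (yon S).map snd0 ≫ g ≫ prod.snd := by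
    have := congrArg (· ≫ prod.snd) sq0.w
    simpa only [Category.assoc, Limits.diag, prod.lift_snd, Category.comp_id] using this
  let k' : (yon S).obj W ⟶ (yon S).obj W' := sq'.lift ((yon S).map snd0) ((yon S).map snd0)
    (by rw [← e1, ← e2])
  let k : W ⟶ W' := (yon S).preimage k'
  have hk1 : k ≫ fst' = snd0 := by
    apply yon_map_injective
    rw [Functor.map_comp, Functor.map_preimage]
    exact sq'.lift_fst _ _ _
  have hk2 : k ≫ snd' = snd0 := by
    apply yon_map_injective
    rw [Functor.map_comp, Functor.map_preimage]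
    exact sq'.lift_snd _ _ _
  have w : k ≫ prod.lift fst' snd' = snd0 ≫ Limits.diag T := by
    apply Limits.prod.hom_ext
    · simp only [Category.assoc, prod.lift_fst, Limits.diag, Category.comp_id, hk1]
    · simp only [Category.assoc, prod.lift_snd, Limits.diag, Category.comp_id, hk2]
  have huniq : ∀ (T' : Over S) (z z' : T' ⟶ W), z ≫ snd0 = z' ≫ snd0 → z = z' := by
    intro T' z z' h
    apply yon_map_injective
    apply sq0.hom_ext
    · rw [e1, ← Category.assoc, ← Category.assoc ((yon S).map z'), ← Functor.map_comp,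
        ← Functor.map_comp, h]
    · rw [← Functor.map_comp, ← Functor.map_comp, h]
  refine ⟨k, isPullback_of_exists_unique w ?_ (fun T' z z' _ h => huniq T' z z' h)⟩
  intro T' ξ η hc
  have c1 : ξ ≫ fst' = η := by
    have := congrArg (· ≫ prod.fst) hc
    simpa only [Category.assoc, prod.lift_fst, Limits.diag, Category.comp_id] using this
  have c2 : ξ ≫ snd' = η := by
    have := congrArg (· ≫ prod.snd) hc
    simpa only [Category.assoc, prod.lift_snd, Limits.diag, Category.comp_id] using this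
  have hab : (yon S).map η ≫ g ≫ prod.fst = (yon S).map η ≫ g ≫ prod.snd := by
    conv_lhs => rw [← c1]
    conv_rhs => rw [← c2]
    rw [Functor.map_comp, Functor.map_comp, Category.assoc, Category.assoc, sq'.w]
  have hl : ((yon S).map η ≫ g ≫ prod.fst) ≫ Limits.diag F = (yon S).map η ≫ g := by
    apply Limits.prod.hom_ext
    · simp only [Category.assoc, Limits.diag, prod.lift_fst, Category.comp_id]
    · simp only [Category.assoc, Limits.diag, prod.lift_snd, Category.comp_id, hab]
  let ζ : T' ⟶ W := (yon S).preimage (sq0.lift _ _ hl)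
  have hζ2 : ζ ≫ snd0 = η := by
    apply yon_map_injective
    rw [Functor.map_comp, Functor.map_preimage]
    exact sq0.lift_snd _ _ _
  refine ⟨ζ, ?_, hζ2⟩
  apply yon_map_injective
  apply sq'.hom_ext
  · rw [← Functor.map_comp, ← Functor.map_comp, Category.assoc, hk1, hζ2, c1]
  · rw [← Functor.map_comp, ← Functor.map_comp, Category.assoc, hk2, hζ2, c2]

/-- Criterion for the diagonal to be representable with property `P`. -/
theorem repWith_diag_of_pairwise {F : Sp S} (P : MorphismProperty Scheme.{u})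
    [P.IsStableUnderBaseChange]
    (h₁ : ∀ ⦃U V : Over S⦄ (a : (yon S).obj U ⟶ F) (b : (yon S).obj V ⟶ F),
      ∃ (W : Over S) (fst : W ⟶ U) (snd : W ⟶ V),
        IsPullback ((yon S).map fst) ((yon S).map snd) a b)
    (h₂ : ∀ ⦃U V W : Over S⦄ (a : (yon S).obj U ⟶ F) (b : (yon S).obj V ⟶ F) (fst : W ⟶ U)
      (snd : W ⟶ V), IsPullback ((yon S).map fst) ((yon S).map snd) a b →
        P (prod.lift fst snd).left) :
    RepWith P (Limits.diag F) := by
  refine ⟨(repDiag_iff F).2 fun U a V b => ?_, ?_⟩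
  · obtain ⟨W, fst, snd, sq⟩ := h₁ a b
    exact ⟨W, snd, (yon S).map fst, sq⟩
  · intro T W g fst0 snd0 sq0
    obtain ⟨W', fst', snd', sq'⟩ := h₁ (g ≫ prod.fst) (g ≫ prod.snd)
    obtain ⟨k, hk⟩ := isPullback_diag_of_isPullback g sq0 sq'
    have hP := h₂ _ _ fst' snd' sq'
    exact MorphismProperty.of_isPullback (P := P.inverseImage (Over.forget S)) hk hP

end Groth.Agent.Lib.Helper14.AS
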