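import Groth.Agent.Lib.Helper14.AlgSpQCMor
import Groth.Agent.Lib.Helper14.AlgSpSect

/-!
# Quasi-compact morphisms of algebraic spaces, part 2 (helper14)
-/

universe u
open CategoryTheory CategoryTheory.Limits AlgebraicGeometry Opposite Topology

namespace Groth.Agent.Lib.Helper14.AS

open AlgSp

variable {S : Scheme.{u}}

/-- An etale morphism (in the sense of the source) from an algebraic space is universally open. -/
theorem isUnivOpenMor_of_isEtaleMor {Y' Y : Sp S} (hY' : IsAlgSpace Y') {g : Y' ⟶ Y}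
    (hg : IsEtaleMor g) : IsUnivOpenMor g := by
  intro Z Z' hZ z fst snd sq
  obtain ⟨V, φ, hφe, hφs⟩ := hY'.atlas
  have h1 : RepWith @Etale (φ ≫ g) := hg φ hφe
  have sq1 := IsPullback.of_hasPullback φ fst
  have big := sq1.paste_vert sq
  have hopen := isOpenMap_points_of_repWith_universallyOpen hZ
    (MorphismProperty.of_isPullback (P := RepWith @UniversallyOpen) big
      (repWith_mono etale_le_universallyOpen h1))
  have hsurj : RepWith @Surjective (pullback.snd φ fst) :=
    MorphismProperty.of_isPullback (P := RepWith @Surjective) sq1 hφs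
  exact isOpenMap_points_of_comp_surjective _ _ (points_map_surjective_of_repWith hsurj) hopen

/-- If `h : Z1 ⟶ K` is open and surjective on points, `Z1` an algebraic space and `|K|` compact,
there is a quasi-compact scheme etale over `Z1` surjecting onto `|K|`. -/
theorem exists_compact_chart_surjective {Z1 K : Sp S} (hZ1 : IsAlgSpace Z1) (h : Z1 ⟶ K)
    (hopen : IsOpenMap (Points.map h)) (hsurj : Function.Surjective (Points.map h))
    [CompactSpace (Points K)] :
    ∃ (T : Over S) (c : (yon S).obj T ⟶ Z1), CompactSpace ↥T.left ∧ RepWith @Etale c ∧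
      IsSurjectiveMor (c ≫ h) := by
  obtain ⟨V, q, hqe, hqs⟩ := hZ1.atlas
  have hex : ∀ v : ↥V.left, ∃ W : V.left.Opens, IsAffineOpen W ∧ v ∈ W ∧ W.1 ⊆ (⊤ : V.left.Opens) :=
    fun v => exists_isAffineOpen_mem_and_subset (x := v) (U := ⊤) trivial
  choose A hA1 hA2 _ using hex
  have hop : ∀ v, IsOpen (Points.map h '' (Points.ofPt q '' (A v : Set V.left))) := fun v =>
    hopen _ (isOpenMap_ofPt q hqe _ (A v).isOpen)
  have hcov : (Set.univ : Set (Points K)) ⊆
      ⋃ v, Points.map h '' (Points.ofPt q '' (A v : Set V.left)) := by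
    intro y _
    obtain ⟨x, rfl⟩ := hsurj y
    obtain ⟨v, rfl⟩ := ofPt_surjective_of_repWith hqs x
    exact Set.mem_iUnion.2 ⟨v, _, ⟨v, hA2 v, rfl⟩, rfl⟩
  obtain ⟨t, ht⟩ := isCompact_univ.elim_finite_subcover _ hop hcov
  let W : V.left.Opens := ⨆ v ∈ t, A v
  have hWset : (W : Set V.left) = ⋃ v ∈ t, (A v : Set V.left) := by
    simp [W]
  have hWc : IsCompact (W : Set V.left) := by
    rw [hWset]
    exact t.finite_toSet.isCompact_biUnion fun v _ => (hA1 v).isCompact
  refine ⟨openSub V W, (yon S).map (openSubι V W) ≫ q, isCompact_iff_compactSpace.mp hWc,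
    repWith_etale_restrict hqe W, ?_⟩
  intro y
  have hy := ht (Set.mem_univ y)
  simp only [Set.mem_iUnion] at hy
  obtain ⟨v, hv, _, ⟨w, hw, rfl⟩, rfl⟩ := hy
  have hwW : w ∈ (W : Set V.left) := by
    rw [hWset]
    exact Set.mem_iUnion₂.2 ⟨v, hv, hw⟩
  rw [← range_openSubι] at hwW
  obtain ⟨w', rfl⟩ := hwW
  refine ⟨Points.schemeHomeo _ w', ?_⟩
  rw [Points.map_comp]
  congr 1
  rw [← ofPt_yon_map_comp]
  exact (Points.ofPt_eq_map_ofScheme _ w').symm

/-- Quasi-compactness descends along a universally open surjective base change. -/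
theorem isQuasiCompactMor_of_univOpen_surjective_base_change {X Y Y' X' : Sp S}
    (hX : IsAlgSpace X) (hY : IsAlgSpace Y) (hY' : IsAlgSpace Y') {f : X ⟶ Y} {g : Y' ⟶ Y}
    {fst : X' ⟶ X} {f' : X' ⟶ Y'} (sq : IsPullback fst f' f g) (hg : IsUnivOpenMor g)
    (hgs : IsSurjectiveMor g) (hf' : IsQuasiCompactMor f') : IsQuasiCompactMor f := by
  rw [isQuasiCompactMor_iff_affine hX hY]
  intro Z hZ z P a b sqP
  have hYd := repDiag_of_isAlgSpace hY
  have sqZ := IsPullback.of_hasPullback z g
  have hZ1 : IsAlgSpace (pullback z g) :=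
    isAlgSpace_of_isPullback hYd (IsAlgSpace.yon_obj Z) hY' sqZ
  have hopen : IsOpenMap (Points.map (pullback.fst z g)) :=
    hg (IsAlgSpace.yon_obj Z) z _ _ sqZ.flip
  have hsurj : Function.Surjective (Points.map (pullback.fst z g)) :=
    isSurjectiveMor_of_isPullback sqZ.flip hgs
  have : CompactSpace (Points ((yon S).obj Z)) := (Points.schemeHomeo Z).compactSpace
  obtain ⟨T, c, hT, hce, hcs⟩ := exists_compact_chart_surjective hZ1 _ hopen hsurj
  have sqT := IsPullback.of_hasPullback b (c ≫ pullback.fst z g)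
  have big := sqT.paste_horiz sqP
  have hcomm : (pullback.fst b (c ≫ pullback.fst z g) ≫ a) ≫ f =
      (pullback.snd b (c ≫ pullback.fst z g) ≫ c ≫ pullback.snd z g) ≫ g := by
    simp only [big.w, Category.assoc, sqZ.w]
  have key : IsPullback (sq.lift _ _ hcomm) (pullback.snd b (c ≫ pullback.fst z g)) f'
      (c ≫ pullback.snd z g) := by
    refine IsPullback.of_right ?_ (sq.lift_snd _ _ _) sq
    rw [sq.lift_fst, Category.assoc, ← sqZ.w, ← Category.assoc]
    exact big
  have hPT := hf' (IsAlgSpace.yon_obj T) ((isQuasiCompactSp_yon_iff T).2 hT) _ _ _ key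
  have hP : IsAlgSpace P := isAlgSpace_of_isPullback hYd hX (IsAlgSpace.yon_obj Z) sqP
  exact isQuasiCompactSp_of_isSurjectiveMor hP _ (isSurjectiveMor_of_isPullback sqT.flip hcs) hPT

theorem isQuasiCompactMor_of_isPullback {F G G' F' : Sp S} {f : F ⟶ G} {g : G' ⟶ G}
    {fst : F' ⟶ F} {snd : F' ⟶ G'} (sq : IsPullback fst snd f g) (hf : IsQuasiCompactMor f) :
    IsQuasiCompactMor snd := by
  intro Z Z' hZ hZc z a b sqz
  exact hf hZ hZc (z ≫ g) (a ≫ fst) b (sqz.paste_horiz sq)

theorem isQuasiCompactMor_comp {X Y Z : Sp S} (hY : IsAlgSpace Y) (hZ : RepDiag Z) {f : X ⟶ Y}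
    {g : Y ⟶ Z} (hf : IsQuasiCompactMor f) (hg : IsQuasiCompactMor g) :
    IsQuasiCompactMor (f ≫ g) := by
  intro T T' hT hTc t a b sq
  have sqY := IsPullback.of_hasPullback g t
  have hYT : IsAlgSpace (pullback g t) := isAlgSpace_of_isPullback hZ hY hT sqY
  have hYTc : IsQuasiCompactSp (pullback g t) := hg hT hTc t _ _ sqY
  have hc : (a ≫ f) ≫ g = b ≫ t := by rw [Category.assoc]; exact sq.w
  have key : IsPullback a (sqY.lift (a ≫ f) b hc) f (pullback.fst g t) := by
    refine IsPullback.of_bot ?_ (sqY.lift_fst _ _ _).symm sqY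
    rw [sqY.lift_snd]
    exact sq
  exact hf hYT hYTc _ _ _ key

set_option backward.isDefEq.respectTransparency false in
/-- The graph of `f` over `Z` is a base change of the diagonal of `g`. -/
theorem isPullback_graph {C : Type*} [Category C] [HasPullbacks C] {X Y Z : C} (f : X ⟶ Y)
    (g : Y ⟶ Z) :
    IsPullback (pullback.lift (𝟙 X) f (by simp) : X ⟶ pullback (f ≫ g) g) f
      (pullback.map (f ≫ g) g g g f (𝟙 Y) (𝟙 Z) (by simp) (by simp)) (pullback.diagonal g) := by
  refine isPullback_of_exists_unique ?_ ?_ ?_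
  · apply pullback.hom_ext
    · simp only [Category.assoc, pullback.lift_fst_assoc, pullback.map, pullback.lift_fst,
        pullback.diagonal_fst, Category.comp_id, Category.id_comp]
    · simp only [Category.assoc, pullback.map, pullback.lift_snd,
        pullback.diagonal_snd, Category.comp_id]
  · intro W u v huv
    have h1 : u ≫ pullback.fst (f ≫ g) g ≫ f = v := by
      have := congrArg (· ≫ pullback.fst g g) huv
      simpa using this
    have h2 : u ≫ pullback.snd (f ≫ g) g = v := by
      have := congrArg (· ≫ pullback.snd g g) huv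
      simpa using this
    refine ⟨u ≫ pullback.fst (f ≫ g) g, ?_, by rw [Category.assoc, h1]⟩
    apply pullback.hom_ext
    · simp
    · simp [h1, h2]
  · intro W x x' hx _
    have := congrArg (· ≫ pullback.fst (f ≫ g) g) hx
    simpa using this

theorem isQuasiCompactMor_of_comp {X Y Z : Sp S} (hX : IsAlgSpace X) (hY : IsAlgSpace Y)
    (hZ : RepDiag Z) (f : X ⟶ Y) (g : Y ⟶ Z) (hgf : IsQuasiCompactMor (f ≫ g))
    (hg : IsQuasiSeparatedMor g) : IsQuasiCompactMor f := by
  have sqG := isPullback_graph f g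
  have hΓ := MorphismProperty.of_isPullback (P := RepWith @QuasiCompact) sqG.flip hg
  have hpr : IsQuasiCompactMor (pullback.snd (f ≫ g) g) :=
    isQuasiCompactMor_of_isPullback (IsPullback.of_hasPullback (f ≫ g) g) hgf
  have hXY : IsAlgSpace (pullback (f ≫ g) g) :=
    isAlgSpace_of_isPullback hZ hX hY (IsPullback.of_hasPullback _ _)
  have := isQuasiCompactMor_comp hXY (repDiag_of_isAlgSpace hY)
    (isQuasiCompactMor_of_repWith hΓ) hpr
  rwa [pullback.lift_snd] at this

end Groth.Agent.Lib.Helper14.AS
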