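import Groth.Agent.Lib.Helper14.AlgSpLocP
import Groth.Agent.Lib.Helper14.AlgSpQCMor2

/-!
# Etale morphisms of algebraic spaces in the sense of `AlgSp.IsEtaleMor` (helper14)
-/

universe u
open CategoryTheory CategoryTheory.Limits AlgebraicGeometry Opposite Topology

namespace Groth.Agent.Lib.Helper14.AS

open AlgSp

variable {S : Scheme.{u}}

set_option backward.isDefEq.respectTransparency.types false in
/-- Cancellation: if `a ≫ h` is representable etale, `h` is etale and the middle object is an
algebraic space, then the point `a` is representable etale. -/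
theorem repWith_etale_of_comp_isEtaleMor {Y Z : Sp S} (hY : IsAlgSpace Y) {U : Over S}
    (a : (yon S).obj U ⟶ Y) {h : Y ⟶ Z} (hh : IsEtaleMor h) (hah : RepWith @Etale (a ≫ h)) :
    RepWith @Etale a := by
  have ha : Representable a := hY.representable_from_yon a
  obtain ⟨V, ψ, hψe, hψs⟩ := hY.atlas
  have : Sheaf.IsLocallySurjective ψ := isLocallySurjective_of_etale_surjective ψ hψe hψs
  have sq := ha.isPullback ψ
  obtain ⟨j, hj⟩ := (yon S).map_surjective (ha.fst ψ)
  rw [← hj] at sq
  have hjE : Etale j.left := hψe.property a _ _ sq.flip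
  have h1 : RepWith @Etale ((yon S).map (ha.snd ψ) ≫ (ψ ≫ h)) := by
    rw [← Category.assoc, ← sq.w, Category.assoc]
    exact repWith_comp _ ((repWith_yon_map_iff @Etale j).2 hjE) hah
  have h2 : RepWith @Etale ((yon S).map (ha.snd ψ)) :=
    repWith_etale_of_comp _ _ (hh ψ hψe) h1
  exact (repWith_iff_of_chart ha ψ sq @Etale).2 ((repWith_yon_map_iff @Etale _).1 h2)

/-- If `f ≫ h` and `h` are etale morphisms of algebraic spaces then so is `f`. -/
theorem isEtaleMor_of_comp {X Y Z : Sp S} (hY : IsAlgSpace Y) {f : X ⟶ Y} {h : Y ⟶ Z}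
    (hg : IsEtaleMor (f ≫ h)) (hh : IsEtaleMor h) : IsEtaleMor f := by
  intro U φ hφ
  refine repWith_etale_of_comp_isEtaleMor hY (φ ≫ f) hh ?_
  rw [Category.assoc]
  exact hg φ hφ

/-- An etale morphism of algebraic spaces is open on points. -/
theorem isOpenMap_points_of_isEtaleMor {X Y : Sp S} (hX : IsAlgSpace X) (hY : IsAlgSpace Y)
    {f : X ⟶ Y} (hf : IsEtaleMor f) : IsOpenMap (Points.map f) :=
  isUnivOpenMor_of_isEtaleMor hX hf hY (𝟙 Y) (𝟙 X) f (IsPullback.id_horiz f)

end Groth.Agent.Lib.Helper14.AS
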