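import Groth.Agent.Lib.Helper14.FppfLocal
import Mathlib.AlgebraicGeometry.Morphisms.QuasiFinite
import Mathlib.AlgebraicGeometry.Morphisms.UniversallyInjective
import Mathlib.AlgebraicGeometry.Morphisms.UniversallyOpen
import Mathlib.AlgebraicGeometry.Morphisms.UniversallyClosed
import Mathlib.AlgebraicGeometry.Morphisms.Smooth
import Mathlib.AlgebraicGeometry.Morphisms.Etale

/-!
# Instances: standard properties are fppf local on the target (helper14)
-/

universe u
open CategoryTheory CategoryTheory.Limits AlgebraicGeometry MorphismProperty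

namespace Groth.Agent.Lib.Helper14.FL

set_option backward.isDefEq.respectTransparency.types false

instance lft_fppf : IsLocalAtTarget (@LocallyOfFiniteType.{u}) Scheme.fppfPrecoverage :=
  isLocalAtTarget_fppf _
instance lfp_fppf : IsLocalAtTarget (@LocallyOfFinitePresentation.{u}) Scheme.fppfPrecoverage :=
  isLocalAtTarget_fppf _
instance etale_fppf : IsLocalAtTarget (@Etale.{u}) Scheme.fppfPrecoverage :=
  isLocalAtTarget_fppf _
instance smooth_fppf : IsLocalAtTarget (@Smooth.{u}) Scheme.fppfPrecoverage :=
  isLocalAtTarget_fppf _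
instance surjective_fppf : IsLocalAtTarget (@Surjective.{u}) Scheme.fppfPrecoverage :=
  isLocalAtTarget_fppf _
instance univClosed_fppf : IsLocalAtTarget (@UniversallyClosed.{u}) Scheme.fppfPrecoverage :=
  isLocalAtTarget_fppf _
instance univOpen_fppf : IsLocalAtTarget (@UniversallyOpen.{u}) Scheme.fppfPrecoverage :=
  isLocalAtTarget_fppf _
instance univInjective_fppf :
    IsLocalAtTarget (@UniversallyInjective.{u}) Scheme.fppfPrecoverage :=
  isLocalAtTarget_fppf _
instance isOpenImmersion_fppf : IsLocalAtTarget (@IsOpenImmersion.{u}) Scheme.fppfPrecoverage :=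
  isLocalAtTarget_fppf _
instance isomorphisms_fppf :
    IsLocalAtTarget (MorphismProperty.isomorphisms Scheme.{u}) Scheme.fppfPrecoverage :=
  isLocalAtTarget_fppf _
instance formallyUnramified_fppf :
    IsLocalAtTarget (@FormallyUnramified.{u}) Scheme.fppfPrecoverage :=
  isLocalAtTarget_fppf _

end Groth.Agent.Lib.Helper14.FL
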