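import Groth.Agent.Lib.Helper14.AlgSpImm
import Groth.Agent.Lib.Helper14.FppfLocalInst
import Groth.Prelude.Def_AlgSpSub

/-!
# Factoring morphisms from reduced spaces through closed subspaces (helper14)
-/

universe u
open CategoryTheory CategoryTheory.Limits AlgebraicGeometry Opposite Topology

namespace Groth.Agent.Lib.Helper14.AS

open AlgSp

variable {S : Scheme.{u}}

theorem isomorphisms_le_mono :
    MorphismProperty.isomorphisms Scheme.{u} ≤ MorphismProperty.monomorphisms Scheme.{u} :=
  fun _ _ f hf => by
    have : IsIso f := hf
    exact MorphismProperty.monomorphisms.infer_property f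

theorem isomorphisms_le_etale :
    MorphismProperty.isomorphisms Scheme.{u} ≤ (@Etale : MorphismProperty Scheme.{u}) :=
  fun _ _ f hf => by
    have : IsIso f := hf
    infer_instance

theorem isomorphisms_le_surjective :
    MorphismProperty.isomorphisms Scheme.{u} ≤ (@Surjective : MorphismProperty Scheme.{u}) :=
  fun _ _ f hf => by
    have : IsIso f := hf
    infer_instance

/-- A morphism representable by isomorphisms is an isomorphism. -/
theorem isIso_of_repWith_isomorphisms {F G : Sp S} {h : F ⟶ G}
    (hh : RepWith (MorphismProperty.isomorphisms Scheme.{u}) h) : IsIso h := by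
  have : Mono h := mono_of_repWith_mono (repWith_mono isomorphisms_le_mono hh)
  have hl : Sheaf.IsLocallySurjective h :=
    isLocallySurjective_of_etale_surjective h (repWith_mono isomorphisms_le_etale hh)
      (repWith_mono isomorphisms_le_surjective hh)
  have : Epi h := (Sheaf.isLocallySurjective_iff_epi _).1 hl
  exact isIso_of_mono_of_epi h

set_option backward.isDefEq.respectTransparency.types false in
/-- A representable closed immersion onto a reduced space that is surjective on points is an
isomorphism. -/
theorem isIso_of_closedImmersion_surjective_of_reduced {P Y : Sp S} (hY : IsReducedSp Y)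
    {π : P ⟶ Y} (hπ : RepWith @IsClosedImmersion π) (hs : IsSurjectiveMor π) : IsIso π := by
  obtain ⟨V, q, hqe, hqs, hV⟩ := hY
  have hql : Sheaf.IsLocallySurjective q := isLocallySurjective_of_etale_surjective q hqe hqs
  have sqV := hπ.rep.isPullback q
  have h1 : IsClosedImmersion (hπ.rep.snd q).left := hπ.property_snd q
  have h2 : Surjective (hπ.rep.snd q).left :=
    (repWith_surjective_of_isSurjectiveMor hπ.rep hs).property_snd q
  have : IsReduced V.left := hV
  have h3 : IsIso (hπ.rep.snd q).left := isIso_of_isClosedImmersion_of_surjective _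
  have h4 : RepWith (MorphismProperty.isomorphisms Scheme.{u}) π :=
    (repWith_iff_of_chart hπ.rep q sqV (MorphismProperty.isomorphisms Scheme.{u})).2 h3
  exact isIso_of_repWith_isomorphisms h4

/-- A morphism from a reduced space factors through a closed subspace as soon as it does so on
points. -/
theorem exists_factor_of_range_subset_of_reduced {X Y Z : Sp S} {i : Z ⟶ X}
    (hi : RepWith @IsClosedImmersion i) (hY : IsReducedSp Y) (f : Y ⟶ X)
    (h : Set.range (Points.map f) ⊆ Set.range (Points.map i)) : ∃ g : Y ⟶ Z, g ≫ i = f := by
  have sq := IsPullback.of_hasPullback f i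
  have hπ : RepWith @IsClosedImmersion (pullback.fst f i) := repWith_of_isPullback _ sq.flip hi
  have hs : IsSurjectiveMor (pullback.fst f i) := by
    intro y
    obtain ⟨z, hz⟩ := h ⟨y, rfl⟩
    obtain ⟨w, hw1, -⟩ := points_exists_of_isPullback sq y z hz.symm
    exact ⟨w, hw1⟩
  have := isIso_of_closedImmersion_surjective_of_reduced hY hπ hs
  refine ⟨inv (pullback.fst f i) ≫ pullback.snd f i, ?_⟩
  rw [Category.assoc, ← sq.w, IsIso.inv_hom_id_assoc]

end Groth.Agent.Lib.Helper14.AS
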