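import Groth.Agent.Lib.Helper14.AlgSpAffine
import Groth.Agent.Lib.Helper14.FppfLocalInst2

/-!
# Descent of separation conditions along locally surjective base changes (helper14)
-/

universe u
open CategoryTheory CategoryTheory.Limits AlgebraicGeometry Opposite

namespace Groth.Agent.Lib.Helper14.AS

open AlgSp

variable {S : Scheme.{u}}

/-- Converse of `exists_cover_lift`. -/
theorem isLocallySurjective_of_cover_lift {H G : Sp S} (b : H ⟶ G)
    (h : ∀ ⦃U : Over S⦄ (g : (yon S).obj U ⟶ G), ∃ R ∈ KS S U, ∀ ⦃W : Over S⦄ (w : W ⟶ U), R w →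
      ∃ l : (yon S).obj W ⟶ H, l ≫ b = (yon S).map w ≫ g) : Sheaf.IsLocallySurjective b := by
  constructor
  intro U x
  obtain ⟨R, hR, hl⟩ := h (yEquiv.symm x)
  refine (mem_J_iff _).2 ⟨R, hR, ?_⟩
  intro W w hw
  obtain ⟨l, hl⟩ := hl w hw
  refine ⟨yEquiv l, ?_⟩
  have h1 := (AlgSp.J S).uliftYonedaEquiv_comp l b
  have h2 := (AlgSp.J S).uliftYonedaEquiv_naturality (yEquiv.symm x) w
  rw [hl] at h1
  rw [← h2] at h1
  simpa using h1.symm

/-- Locally surjective morphisms of sheaves are stable under base change. -/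
theorem isLocallySurjective_of_isPullback {F G H Q : Sp S} {a : F ⟶ G} {b : H ⟶ G}
    [Sheaf.IsLocallySurjective b] {b' : Q ⟶ F} {a' : Q ⟶ H} (sq : IsPullback b' a' a b) :
    Sheaf.IsLocallySurjective b' := by
  refine isLocallySurjective_of_cover_lift b' fun U g => ?_
  obtain ⟨R, hR, hl⟩ := exists_cover_lift b (g ≫ a)
  refine ⟨R, hR, fun W w hw => ?_⟩
  obtain ⟨l, hl⟩ := hl w hw
  exact ⟨sq.lift ((yon S).map w ≫ g) l (by rw [Category.assoc, hl]), sq.lift_fst _ _ _⟩

set_option backward.isDefEq.respectTransparency false in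
/-- For a base change `fT` of `f` along `x`, the fibre square `XT ×_T XT` is the base change of
`X ×_Y X` along `x`. -/
theorem isPullback_map_of_isPullback {C : Type*} [Category C] [HasPullbacks C]
    {X Y T XT : C} {f : X ⟶ Y} {x : T ⟶ Y} {pr : XT ⟶ X} {fT : XT ⟶ T}
    (sq : IsPullback pr fT f x) :
    IsPullback (pullback.fst fT fT ≫ fT)
      (pullback.map fT fT f f pr pr x sq.w.symm sq.w.symm) x (pullback.fst f f ≫ f) := by
  refine isPullback_of_exists_unique ?_ ?_ ?_
  · simp [sq.w]
  · intro W a b hab
    have c1 : (b ≫ pullback.fst f f) ≫ f = a ≫ x := by rw [Category.assoc, hab]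
    have c2 : (b ≫ pullback.snd f f) ≫ f = a ≫ x := by
      rw [Category.assoc, ← pullback.condition, hab]
    refine ⟨pullback.lift (sq.lift _ _ c1) (sq.lift _ _ c2) (by rw [sq.lift_snd, sq.lift_snd]),
      ?_, ?_⟩
    · rw [pullback.lift_fst_assoc, sq.lift_snd]
    · apply pullback.hom_ext
      · simp
      · simp
  · intro W z z' h1 h2
    have e1 : z ≫ pullback.fst fT fT ≫ pr = z' ≫ pullback.fst fT fT ≫ pr := by
      have := congrArg (· ≫ pullback.fst f f) h2
      simpa using this
    have e2 : z ≫ pullback.snd fT fT ≫ pr = z' ≫ pullback.snd fT fT ≫ pr := by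
      have := congrArg (· ≫ pullback.snd f f) h2
      simpa using this
    apply pullback.hom_ext
    · apply sq.hom_ext
      · simpa using e1
      · simpa using h1
    · apply sq.hom_ext
      · simpa using e2
      · simpa [pullback.condition] using h1

/-- Descent of a condition on the diagonal along a locally surjective base change. -/
theorem repWith_diagonal_of_locallySurjective_base_change (P : MorphismProperty Scheme.{u})
    [P.IsStableUnderBaseChange] [P.IsLocalAtTarget Scheme.fppfPrecoverage]
    {X Y T XT : Sp S} {f : X ⟶ Y} (hΔ : Representable (pullback.diagonal f)) (p : T ⟶ Y)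
    [Sheaf.IsLocallySurjective p] {fst : XT ⟶ X} {snd : XT ⟶ T} (sq : IsPullback fst snd f p)
    (h : RepWith P (pullback.diagonal snd)) : RepWith P (pullback.diagonal f) := by
  have sqm := isPullback_map_of_isPullback sq
  have : Sheaf.IsLocallySurjective
      (pullback.map snd snd f f fst fst p sq.w.symm sq.w.symm) :=
    isLocallySurjective_of_isPullback sqm.flip
  exact repWith_of_isLocallySurjective_base hΔ _ (isPullback_diagonal_of_isPullback sq) P h

end Groth.Agent.Lib.Helper14.AS
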