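import Groth.Agent.Lib.Helper14.AlgSpSep

/-!
# Checking `RepWith P` on affine test schemes (helper14)
-/

universe u
open CategoryTheory CategoryTheory.Limits AlgebraicGeometry Opposite

namespace Groth.Agent.Lib.Helper14.AS

open AlgSp

variable {S : Scheme.{u}}

/-- Zariski-locality on the target, phrased in `Over S`, with affine pieces. -/
theorem P_of_affine_cover {P : MorphismProperty Scheme.{u}} [IsZariskiLocalAtTarget P]
    {V U : Over S} (f : V ⟶ U)
    (h : ∀ ⦃W : Over S⦄ (w : W ⟶ U), IsAffine W.left →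
      ∃ (V' : Over S) (fst : V' ⟶ V) (snd : V' ⟶ W), IsPullback fst snd f w ∧ P snd.left) :
    P f.left := by
  rw [IsZariskiLocalAtTarget.iff_of_openCover (P := P) U.left.affineCover]
  intro i
  obtain ⟨V', fst, snd, sq, hP⟩ := h (W := Over.mk (U.left.affineCover.f i ≫ U.hom))
    (Over.homMk (U.left.affineCover.f i)) (by dsimp; infer_instance)
  exact P_pullback_snd_of_isPullback (sq.map (Over.forget S)) hP

/-- `RepWith P g` may be checked on affine test schemes, for `P` Zariski local on the target. -/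
theorem repWith_of_affine {P : MorphismProperty Scheme.{u}} [IsZariskiLocalAtTarget P]
    {F G : Sp S} {g : F ⟶ G} (hg : Representable g)
    (h : ∀ ⦃T : Over S⦄, IsAffine T.left → ∀ (z : (yon S).obj T ⟶ G) ⦃W : Over S⦄
      (a : (yon S).obj W ⟶ F) (b : W ⟶ T), IsPullback a ((yon S).map b) g z → P b.left) :
    RepWith P g := by
  refine ⟨hg, fun T W z a0 b0 sq0 => ?_⟩
  refine P_of_affine_cover b0 fun W' w hW' => ?_
  refine ⟨pullback b0 w, pullback.fst _ _, pullback.snd _ _, IsPullback.of_hasPullback _ _, ?_⟩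
  have sq1 := (IsPullback.of_hasPullback b0 w).map (yon S)
  exact h hW' _ _ _ (sq1.paste_horiz sq0)

/-- To check `RepWith P` for the diagonal of a morphism, it suffices to check it for
the diagonals of (some choice of) the base changes to affine schemes. -/
theorem repWith_diagonal_of_affine_base_changes (P : MorphismProperty Scheme.{u})
    [IsZariskiLocalAtTarget P] {X Y : Sp S} {f : X ⟶ Y}
    (hΔ : Representable (pullback.diagonal f))
    (h : ∀ ⦃T : Over S⦄, IsAffine T.left → ∀ (x : (yon S).obj T ⟶ Y),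
      ∃ (XT : Sp S) (pr : XT ⟶ X) (fT : XT ⟶ (yon S).obj T),
        IsPullback pr fT f x ∧ RepWith P (pullback.diagonal fT)) :
    RepWith P (pullback.diagonal f) := by
  refine repWith_of_affine hΔ fun T hT z W a0 b0 sq0 => ?_
  let x : (yon S).obj T ⟶ Y := z ≫ pullback.fst f f ≫ f
  obtain ⟨XT, pr, fT, sq, hP⟩ := h hT x
  have c1 : (z ≫ pullback.fst f f) ≫ f = 𝟙 _ ≫ x := by simp [x]
  have c2 : (z ≫ pullback.snd f f) ≫ f = 𝟙 _ ≫ x := by
    simp only [x, Category.assoc, Category.id_comp, pullback.condition]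
  let σ1 := sq.lift (z ≫ pullback.fst f f) (𝟙 _) c1
  let σ2 := sq.lift (z ≫ pullback.snd f f) (𝟙 _) c2
  have hσ : σ1 ≫ fT = σ2 ≫ fT := by
    rw [sq.lift_snd, sq.lift_snd]
  let z' : (yon S).obj T ⟶ pullback fT fT := pullback.lift σ1 σ2 hσ
  have sqΔ := isPullback_diagonal_of_isPullback sq
  have hz : z' ≫ pullback.map _ _ f f pr pr x sq.w.symm sq.w.symm = z := by
    apply pullback.hom_ext
    · simp only [z', σ1, Category.assoc, pullback.lift_fst, pullback.lift_fst_assoc,
        IsPullback.lift_fst]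
    · simp only [z', σ2, Category.assoc, pullback.lift_snd, pullback.lift_snd_assoc,
        IsPullback.lift_fst]
  have big : IsPullback a0 ((yon S).map b0) (pullback.diagonal f)
      (z' ≫ pullback.map _ _ f f pr pr x sq.w.symm sq.w.symm) := by
    rw [hz]; exact sq0
  have cl : a0 ≫ pullback.diagonal f = ((yon S).map b0 ≫ z') ≫
      pullback.map _ _ f f pr pr x sq.w.symm sq.w.symm := by
    rw [Category.assoc]; exact big.w
  have key := IsPullback.of_right (h₁₁ := sqΔ.lift a0 ((yon S).map b0 ≫ z') cl)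
    (by rw [sqΔ.lift_fst]; exact big) (sqΔ.lift_snd _ _ _) sqΔ
  exact hP.property z' _ b0 key

end Groth.Agent.Lib.Helper14.AS
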