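import Groth.Agent.Lib.Helper14.AlgSpQC
import Groth.Agent.Lib.Helper14.AlgSpAffine

/-!
# Quasi-compact morphisms of algebraic spaces (helper14)
-/

universe u
open CategoryTheory CategoryTheory.Limits AlgebraicGeometry Opposite Topology

namespace Groth.Agent.Lib.Helper14.AS

open AlgSp

variable {S : Scheme.{u}}

theorem compactSpace_points_of_isQuasiCompactSp {X : Sp S} (h : IsQuasiCompactSp X) :
    CompactSpace (Points X) := by
  obtain ⟨U, p, hpe, hps, hU⟩ := h
  constructor
  have := (isCompact_univ (X := ↥U.left)).image (Points.continuous_ofPt p)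
  rwa [Set.image_univ, Set.range_eq_univ.2 (ofPt_surjective_of_repWith hps)] at this

theorem isQuasiCompactSp_yon_iff (T : Over S) :
    IsQuasiCompactSp ((yon S).obj T) ↔ CompactSpace ↥T.left := by
  rw [isQuasiCompactSp_iff_compactSpace (IsAlgSpace.yon_obj T)]
  exact ⟨fun h => (Points.schemeHomeo T).symm.compactSpace,
    fun h => (Points.schemeHomeo T).compactSpace⟩

/-- Surjective image of a quasi-compact sheaf (target an algebraic space) is quasi-compact. -/
theorem isQuasiCompactSp_of_isSurjectiveMor {F G : Sp S} (hG : IsAlgSpace G) (f : F ⟶ G)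
    (hf : IsSurjectiveMor f) (hF : IsQuasiCompactSp F) : IsQuasiCompactSp G := by
  rw [isQuasiCompactSp_iff_compactSpace hG]
  have := compactSpace_points_of_isQuasiCompactSp hF
  constructor
  have h := (isCompact_univ (X := Points F)).image (Points.continuous_map f)
  rwa [Set.image_univ, Set.range_eq_univ.2 hf] at h

/-- A representable quasi-compact morphism is quasi-compact in the sense of algebraic spaces. -/
theorem isQuasiCompactMor_of_repWith {F G : Sp S} {h : F ⟶ G} (hh : RepWith @QuasiCompact h) :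
    IsQuasiCompactMor h := by
  intro Z Z' hZ hZc g fst snd sq
  obtain ⟨U, a, hae, has, hU⟩ := hZc
  have hsnd : RepWith @QuasiCompact snd :=
    MorphismProperty.of_isPullback (P := RepWith @QuasiCompact) sq hh
  have sqW := hsnd.rep.isPullback a
  have hq : QuasiCompact (hsnd.rep.snd a).left := hsnd.property_snd a
  refine ⟨hsnd.rep.pullback a, hsnd.rep.fst a,
    MorphismProperty.of_isPullback (P := RepWith @Etale) sqW.flip hae,
    MorphismProperty.of_isPullback (P := RepWith @Surjective) sqW.flip has, ?_⟩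
  exact QuasiCompact.compactSpace_of_compactSpace (hsnd.rep.snd a).left

theorem repWith_quasiCompact_of_isQuasiCompactMor {F G : Sp S} {f : F ⟶ G} (hf : Representable f)
    (h : IsQuasiCompactMor f) : RepWith @QuasiCompact f := by
  refine repWith_of_affine hf fun T hT z W a b sq => ?_
  have hT' : IsQuasiCompactSp ((yon S).obj T) := (isQuasiCompactSp_yon_iff T).2 inferInstance
  have hW := h (IsAlgSpace.yon_obj T) hT' z a ((yon S).map b) sq
  have : CompactSpace ↥W.left := (isQuasiCompactSp_yon_iff W).1 hW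
  exact (HasAffineProperty.iff_of_isAffine (P := @QuasiCompact) (f := b.left)).2 this

theorem repWith_quasiCompact_iff_isQuasiCompactMor {F G : Sp S} {f : F ⟶ G}
    (hf : Representable f) : RepWith @QuasiCompact f ↔ IsQuasiCompactMor f :=
  ⟨isQuasiCompactMor_of_repWith, repWith_quasiCompact_of_isQuasiCompactMor hf⟩

theorem isQuasiCompactMor_of_surjective_triangle {X Y Z : Sp S} (hY : IsAlgSpace Y)
    (hZ : RepDiag Z) (f : X ⟶ Y) (q : Y ⟶ Z) (hf : IsSurjectiveMor f)
    (hp : IsQuasiCompactMor (f ≫ q)) : IsQuasiCompactMor q := by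
  intro T T' hT hTc g fst snd sq
  have sq1 := IsPullback.of_hasPullback f fst
  have big := sq1.paste_vert sq
  have hQ := hp hT hTc g _ _ big
  have hT' : IsAlgSpace T' := isAlgSpace_of_isPullback hZ hY hT sq
  exact isQuasiCompactSp_of_isSurjectiveMor hT' _ (isSurjectiveMor_of_isPullback sq1 hf) hQ

theorem isQuasiCompactMor_iff_affine {X Y : Sp S} (hX : IsAlgSpace X) (hY : IsAlgSpace Y)
    (f : X ⟶ Y) :
    IsQuasiCompactMor f ↔
      ∀ (Z : Over S), IsAffine Z.left → ∀ (g : (yon S).obj Z ⟶ Y) (P : Sp S)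
        (fst : P ⟶ X) (snd : P ⟶ (yon S).obj Z), IsPullback fst snd f g →
        IsQuasiCompactSp P := by
  constructor
  · intro h Z hZ g P fst snd sq
    exact h (IsAlgSpace.yon_obj Z) ((isQuasiCompactSp_yon_iff Z).2 inferInstance) g fst snd sq
  · intro h Z Z' hZ hZc g fst snd sq
    obtain ⟨U, a, hU, hae, has⟩ := isQuasiCompactSp_iff_exists_affine_chart.1 hZc
    have sq1 := IsPullback.of_hasPullback snd a
    have hQ := h U hU (a ≫ g) _ _ _ (sq1.paste_horiz sq)
    have hZ' : IsAlgSpace Z' := isAlgSpace_of_isPullback (repDiag_of_isAlgSpace hY) hX hZ sq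
    have hπ : RepWith @Surjective (pullback.fst snd a) :=
      MorphismProperty.of_isPullback (P := RepWith @Surjective) sq1.flip has
    exact isQuasiCompactSp_of_isSurjectiveMor hZ' _ (points_map_surjective_of_repWith hπ) hQ

/-- A compact open subset of `|Y|` is the image of a quasi-compact open subscheme of a chart. -/
theorem exists_compact_chart_of_isCompact_isOpen {Y : Sp S} (hY : IsAlgSpace Y)
    (V : Set (Points Y)) (hV : IsOpen V) (hVc : IsCompact V) :
    ∃ (T : Over S) (c : (yon S).obj T ⟶ Y), CompactSpace ↥T.left ∧ RepWith @Etale c ∧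
      Set.range (Points.ofPt c) = V := by
  obtain ⟨U, p, hpe, hps⟩ := hY.atlas
  let V' : U.left.Opens := ⟨Points.ofPt p ⁻¹' V, hV.preimage (Points.continuous_ofPt p)⟩
  have hex : ∀ u : V', ∃ W : U.left.Opens, IsAffineOpen W ∧ u.1 ∈ W ∧ W.1 ⊆ V' := fun u =>
    exists_isAffineOpen_mem_and_subset (x := u.1) (U := V') u.2
  choose A hA1 hA2 hA3 using hex
  have hopen : ∀ u, IsOpen (Points.ofPt p '' (A u : Set U.left)) := fun u =>
    isOpenMap_ofPt p hpe _ (A u).isOpen
  have hcov : V ⊆ ⋃ u, Points.ofPt p '' (A u : Set U.left) := by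
    intro y hy
    obtain ⟨u, rfl⟩ := ofPt_surjective_of_repWith hps y
    exact Set.mem_iUnion.2 ⟨⟨u, hy⟩, u, hA2 ⟨u, hy⟩, rfl⟩
  obtain ⟨t, ht⟩ := hVc.elim_finite_subcover _ hopen hcov
  let W : U.left.Opens := ⨆ u ∈ t, A u
  have hWset : (W : Set U.left) = ⋃ u ∈ t, (A u : Set U.left) := by
    simp [W]
  have hWc : IsCompact (W : Set U.left) := by
    rw [hWset]
    exact t.finite_toSet.isCompact_biUnion fun u _ => (hA1 u).isCompact
  refine ⟨openSub U W, (yon S).map (openSubι U W) ≫ p, isCompact_iff_compactSpace.mp hWc,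
    repWith_etale_restrict hpe W, ?_⟩
  rw [range_ofPt_restrict, hWset, Set.image_iUnion₂]
  apply Set.Subset.antisymm
  · intro y hy
    simp only [Set.mem_iUnion] at hy
    obtain ⟨u, _, v, hv, rfl⟩ := hy
    exact hA3 u hv
  · exact ht

/-- For a quasi-compact morphism, preimages of compact opens are compact. -/
theorem isCompact_preimage_of_isQuasiCompactMor {X Y : Sp S} (hY : IsAlgSpace Y) (f : X ⟶ Y)
    (hf : IsQuasiCompactMor f) (V : Set (Points Y)) (hV : IsOpen V) (hVc : IsCompact V) :
    IsCompact (Points.map f ⁻¹' V) := by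
  obtain ⟨T, c, hT, hce, hrange⟩ := exists_compact_chart_of_isCompact_isOpen hY V hV hVc
  have sqc := IsPullback.of_hasPullback f c
  have hQ := hf (IsAlgSpace.yon_obj T) ((isQuasiCompactSp_yon_iff T).2 hT) c _ _ sqc
  have := compactSpace_points_of_isQuasiCompactSp hQ
  have hV' : V = Points.map c '' Set.univ := by
    rw [Set.image_univ, ← hrange, ofPt_eq_comp, Set.range_comp,
      (Points.schemeHomeo T).surjective.range_eq, Set.image_univ]
  rw [hV', points_preimage_image_eq sqc.flip, Set.preimage_univ]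
  exact isCompact_univ.image (Points.continuous_map _)

end Groth.Agent.Lib.Helper14.AS
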