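import Groth.Agent.Lib.Helper14.AlgSpQCMor2
import Groth.Agent.Lib.Helper14.AlgSpLocP

/-!
# Flat quasi-compact surjective morphisms are submersive (helper14)
-/

universe u
open CategoryTheory CategoryTheory.Limits AlgebraicGeometry Opposite Topology

namespace Groth.Agent.Lib.Helper14.AS

open AlgSp

variable {S : Scheme.{u}}

theorem schemeHomeo_symm_map_ofPt {Q : Sp S} {T U : Over S} (π : Q ⟶ (yon S).obj T)
    (c : (yon S).obj U ⟶ Q) (h : U ⟶ T) (comm : c ≫ π = (yon S).map h) (u : ↥U.left) :
    (Points.schemeHomeo T).symm (Points.map π (Points.ofPt c u)) = h.left u := by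
  rw [Points.map_ofPt, comm, Points.ofPt_eq_map_ofScheme]
  have := Points.map_yon_map_apply h u
  rw [Homeomorph.symm_apply_eq]
  exact this

set_option backward.isDefEq.respectTransparency.types false in
/-- Criterion with scheme target: a quasi-compact surjective morphism to a scheme with a flat
chart is submersive. -/
theorem isQuotientMap_points_of_flat_chart {Q : Sp S} {T U : Over S}
    (π : Q ⟶ (yon S).obj T) (hqc : IsQuasiCompactMor π) (hs : IsSurjectiveMor π)
    (c : (yon S).obj U ⟶ Q) (hce : RepWith @Etale c) (hcs : RepWith @Surjective c)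
    (h : U ⟶ T) (comm : c ≫ π = (yon S).map h) (hfl : Flat h.left) :
    IsQuotientMap (Points.map π) := by
  let φ : Points Q → ↥T.left := fun x => (Points.schemeHomeo T).symm (Points.map π x)
  have hφc : Continuous φ := (Points.schemeHomeo T).symm.continuous.comp (Points.continuous_map π)
  have hφs : Function.Surjective φ := (Points.schemeHomeo T).symm.surjective.comp hs
  have hφu : ∀ u : ↥U.left, φ (Points.ofPt c u) = h.left u :=
    fun u => schemeHomeo_symm_map_ofPt π c h comm u
  suffices hφ : IsQuotientMap φ by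
    have h2 := (Points.schemeHomeo T).isQuotientMap.comp hφ
    have e : (Points.schemeHomeo T) ∘ φ = Points.map π := by
      funext x
      simp [φ]
    rwa [e] at h2
  rw [isQuotientMap_iff]
  refine ⟨.of_isOpen_preimage_iff_isOpen fun W => ⟨fun hW => ?_, fun hW => hW.preimage hφc⟩, hφs⟩
  rw [isOpen_iff_forall_mem_open]
  intro t ht
  obtain ⟨A, hA, htA, -⟩ := exists_isAffineOpen_mem_and_subset (x := t) (U := ⊤) trivial
  -- the preimage of `A` is compact
  have hKc : IsCompact (φ ⁻¹' (A : Set T.left)) := by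
    have h1 := isCompact_preimage_of_isQuasiCompactMor (IsAlgSpace.yon_obj T) π hqc
      (Points.schemeHomeo T '' (A : Set T.left))
      ((Points.schemeHomeo T).isOpenMap _ A.isOpen)
      (hA.isCompact.image (Points.schemeHomeo T).continuous)
    have e : φ ⁻¹' (A : Set T.left) = Points.map π ⁻¹' (Points.schemeHomeo T '' (A : Set T.left)) := by
      ext x
      simp only [Set.mem_preimage, φ, Set.mem_image]
      constructor
      · intro hx
        exact ⟨_, hx, (Points.schemeHomeo T).apply_symm_apply _⟩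
      · rintro ⟨a, ha, hax⟩
        rw [← hax, Homeomorph.symm_apply_apply]
        exact ha
    rw [e]
    exact h1
  -- affine opens of `U` inside the preimage of `A`
  have hex : ∀ u : (h.left ⁻¹ᵁ A : U.left.Opens), ∃ B : U.left.Opens, IsAffineOpen B ∧ u.1 ∈ B ∧
      B.1 ⊆ (h.left ⁻¹ᵁ A : U.left.Opens) := fun u =>
    exists_isAffineOpen_mem_and_subset (x := u.1) (U := h.left ⁻¹ᵁ A) u.2
  choose B hB1 hB2 hB3 using hex
  have hop : ∀ u, IsOpen (Points.ofPt c '' (B u : Set U.left)) := fun u =>
    isOpenMap_ofPt c hce _ (B u).isOpen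
  have hcov : φ ⁻¹' (A : Set T.left) ⊆ ⋃ u, Points.ofPt c '' (B u : Set U.left) := by
    intro x hx
    obtain ⟨u, rfl⟩ := ofPt_surjective_of_repWith hcs x
    have hu : u ∈ (h.left ⁻¹ᵁ A : U.left.Opens) := by
      change h.left u ∈ A
      rw [← hφu]
      exact hx
    exact Set.mem_iUnion.2 ⟨⟨u, hu⟩, u, hB2 ⟨u, hu⟩, rfl⟩
  obtain ⟨fin, hfin⟩ := hKc.elim_finite_subcover _ hop hcov
  let U' : U.left.Opens := ⨆ u ∈ fin, B u
  have hU'set : (U' : Set U.left) = ⋃ u ∈ fin, (B u : Set U.left) := by
    simp [U']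
  have hU'c : IsCompact (U' : Set U.left) := by
    rw [hU'set]
    exact fin.finite_toSet.isCompact_biUnion fun u _ => (hB1 u).isCompact
  have hU'le : U' ≤ h.left ⁻¹ᵁ A := by
    intro w hw
    have hw' : w ∈ (U' : Set U.left) := hw
    rw [hU'set] at hw'
    obtain ⟨u, hu, hwu⟩ := Set.mem_iUnion₂.1 hw'
    exact hB3 u hwu
  let h' : (U' : Scheme) ⟶ (A : Scheme) := h.left.resLE A U' hU'le
  have hh' : h' ≫ A.ι = U'.ι ≫ h.left := Scheme.Hom.resLE_comp_ι _ _
  have hh'app : ∀ w : ↥(U' : Scheme), (A.ι (h' w)) = h.left (U'.ι w) := fun w => by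
    rw [← Scheme.Hom.comp_apply, hh', Scheme.Hom.comp_apply]
  have : Flat h' := inferInstance
  have : CompactSpace ↥(U' : Scheme) := isCompact_iff_compactSpace.mp hU'c
  have : IsAffine (A : Scheme) := hA
  have : QuasiCompact h' := inferInstance
  have : Surjective h' := by
    refine ⟨fun y => ?_⟩
    obtain ⟨x, hx⟩ := hφs (A.ι y)
    have hxK : x ∈ φ ⁻¹' (A : Set T.left) := by
      change φ x ∈ A
      rw [hx]
      exact y.2
    have hx2 := hfin hxK
    simp only [Set.mem_iUnion] at hx2
    obtain ⟨u, hu, w, hw, rfl⟩ := hx2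
    have hwU' : w ∈ (U' : Set U.left) := by
      rw [hU'set]
      exact Set.mem_iUnion₂.2 ⟨u, hu, hw⟩
    refine ⟨⟨w, hwU'⟩, ?_⟩
    apply A.ι.injective
    rw [hh'app, ← hx, hφu]
    rfl
  have hq : IsQuotientMap h' := Flat.isQuotientMap_of_surjective h'
  -- the trace of `W` on `A` is open
  have hWA : IsOpen (A.ι ⁻¹' W) := by
    rw [← hq.isOpen_preimage]
    have e : h' ⁻¹' (A.ι ⁻¹' W) = (fun w : ↥(U' : Scheme) => Points.ofPt c (U'.ι w)) ⁻¹' (φ ⁻¹' W) := by
      ext w
      simp only [Set.mem_preimage]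
      rw [hh'app, hφu]
    rw [e]
    exact hW.preimage ((Points.continuous_ofPt c).comp U'.ι.continuous)
  refine ⟨A.ι '' (A.ι ⁻¹' W), Set.image_preimage_subset _ _, A.ι.isOpenEmbedding.isOpenMap _ hWA,
    ⟨⟨t, htA⟩, ht, rfl⟩⟩

theorem isQuotientMap_points_of_isPullback {X Y Z' P : Sp S} {f : X ⟶ Y} {g : Z' ⟶ Y}
    {fst : P ⟶ X} {snd : P ⟶ Z'} (sq : IsPullback fst snd f g)
    (hg : IsQuotientMap (Points.map g)) (hsnd : IsQuotientMap (Points.map snd)) :
    IsQuotientMap (Points.map f) := by
  have hcomm : ∀ p, Points.map f (Points.map fst p) = Points.map g (Points.map snd p) := by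
    intro p
    rw [← Points.map_comp, ← Points.map_comp, sq.w]
  rw [isQuotientMap_iff]
  refine ⟨.of_isOpen_preimage_iff_isOpen fun W =>
    ⟨fun hW => ?_, fun hW => hW.preimage (Points.continuous_map f)⟩, ?_⟩
  · rw [← hg.isOpen_preimage, ← hsnd.isOpen_preimage]
    have e : Points.map snd ⁻¹' (Points.map g ⁻¹' W) =
        Points.map fst ⁻¹' (Points.map f ⁻¹' W) := by
      ext p
      simp only [Set.mem_preimage, hcomm]
    rw [e]
    exact hW.preimage (Points.continuous_map fst)
  · intro y
    obtain ⟨z, rfl⟩ := hg.surjective y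
    obtain ⟨p, rfl⟩ := hsnd.surjective z
    exact ⟨Points.map fst p, hcomm p⟩

set_option backward.isDefEq.respectTransparency.types false in
/-- Flat, quasi-compact, surjective morphisms of algebraic spaces are universally submersive. -/
theorem isUnivSubmersiveMor_of_flat_qc_surjective {X Y : Sp S} (hX : IsAlgSpace X)
    (hY : IsAlgSpace Y) (f : X ⟶ Y) (hfl : LocP @Flat f) (hqc : IsQuasiCompactMor f)
    (hs : IsSurjectiveMor f) : IsUnivSubmersiveMor f := by
  have hYd := repDiag_of_isAlgSpace hY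
  obtain ⟨V, b, hbe, hbs⟩ := hY.atlas
  have sqP := IsPullback.of_hasPullback f b
  have hP : IsAlgSpace (pullback f b) := isAlgSpace_of_isPullback hYd hX (IsAlgSpace.yon_obj V) sqP
  obtain ⟨U, c, hce, hcs⟩ := hP.atlas
  have hae : RepWith @Etale (c ≫ pullback.fst f b) :=
    repWith_comp _ hce (repWith_of_isPullback _ sqP.flip hbe)
  obtain ⟨h, hh⟩ := (yon S).map_surjective (c ≫ pullback.snd f b)
  have comm : (c ≫ pullback.fst f b) ≫ f = (yon S).map h ≫ b := by
    rw [hh, Category.assoc, Category.assoc, sqP.w]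
  have hflat : Flat h.left := hfl _ b h hae hbe comm
  intro Z Z' hZ g fst snd sq
  -- a chart of `Z` mapping to `V`
  have sqR := IsPullback.of_hasPullback g b
  have hR : IsAlgSpace (pullback g b) := isAlgSpace_of_isPullback hYd hZ (IsAlgSpace.yon_obj V) sqR
  obtain ⟨T', r, hre, hrs⟩ := hR.atlas
  have hte : RepWith @Etale (r ≫ pullback.fst g b) :=
    repWith_comp _ hre (repWith_of_isPullback _ sqR.flip hbe)
  have hts : RepWith @Surjective (r ≫ pullback.fst g b) :=
    repWith_comp _ hrs (repWith_of_isPullback _ sqR.flip hbs)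
  obtain ⟨m, hm⟩ := (yon S).map_surjective (r ≫ pullback.snd g b)
  have htg : (r ≫ pullback.fst g b) ≫ g = (yon S).map m ≫ b := by
    rw [hm, Category.assoc, Category.assoc, sqR.w]
  -- the base change `Q` of `f` to `T'`
  have sqQ := IsPullback.of_hasPullback f ((yon S).map m ≫ b)
  have hρc : pullback.fst f ((yon S).map m ≫ b) ≫ f =
      (pullback.snd f ((yon S).map m ≫ b) ≫ (yon S).map m) ≫ b := by
    rw [Category.assoc]; exact sqQ.w
  have sqQP : IsPullback (sqP.lift _ _ hρc) (pullback.snd f ((yon S).map m ≫ b))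
      (pullback.snd f b) ((yon S).map m) := by
    refine IsPullback.of_right ?_ (sqP.lift_snd _ _ _) sqP
    rw [sqP.lift_fst]
    exact sqQ
  -- the chart of `Q`
  have sqU := IsPullback.of_hasPullback h m
  have sqUy := sqU.map (yon S)
  have hcQc : ((yon S).map (pullback.fst h m) ≫ c) ≫ pullback.snd f b =
      (yon S).map (pullback.snd h m) ≫ (yon S).map m := by
    rw [Category.assoc, ← hh]
    exact sqUy.w
  have sqcQ : IsPullback ((yon S).map (pullback.fst h m)) (sqQP.lift _ _ hcQc) c
      (sqP.lift _ _ hρc) := by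
    refine IsPullback.of_bot ?_ (sqQP.lift_fst _ _ _).symm sqQP
    rw [sqQP.lift_snd, ← hh]
    exact sqUy
  have hcQe : RepWith @Etale (sqQP.lift _ _ hcQc) := repWith_of_isPullback _ sqcQ hce
  have hcQs : RepWith @Surjective (sqQP.lift _ _ hcQc) := repWith_of_isPullback _ sqcQ hcs
  have hflat' : Flat (pullback.snd h m).left :=
    MorphismProperty.of_isPullback (P := @Flat) (sqU.map (Over.forget S)) hflat
  have hQq : IsQuotientMap (Points.map (pullback.snd f ((yon S).map m ≫ b))) :=
    isQuotientMap_points_of_flat_chart _ (isQuasiCompactMor_of_isPullback sqQ hqc)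
      (isSurjectiveMor_of_isPullback sqQ hs) _ hcQe hcQs (pullback.snd h m)
      (sqQP.lift_snd _ _ _) hflat'
  -- compare with the given square
  have hκc : pullback.fst f ((yon S).map m ≫ b) ≫ f =
      (pullback.snd f ((yon S).map m ≫ b) ≫ r ≫ pullback.fst g b) ≫ g := by
    rw [Category.assoc, htg]; exact sqQ.w
  have sqκ : IsPullback (sq.lift _ _ hκc) (pullback.snd f ((yon S).map m ≫ b)) snd
      (r ≫ pullback.fst g b) := by
    refine IsPullback.of_right ?_ (sq.lift_snd _ _ _) sq
    rw [sq.lift_fst, htg]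
    exact sqQ
  exact isQuotientMap_points_of_isPullback sqκ
    (isQuotientMap_points_of_etale_surjective hZ hte hts) hQq

theorem isSubmersiveMor_of_isUnivSubmersiveMor {X Y : Sp S} (hY : IsAlgSpace Y) {f : X ⟶ Y}
    (h : IsUnivSubmersiveMor f) : IsSubmersiveMor f :=
  h hY (𝟙 _) (𝟙 _) f (IsPullback.of_horiz_isIso ⟨by simp⟩)

end Groth.Agent.Lib.Helper14.AS
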