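import Mathlib
import Groth.Prelude.Def_AlgSpCov
import Groth.Agent.Lib.Helper14.AlgSpLocP2
import Groth.Agent.Lib.Helper14.FpqcSch
import Groth.Agent.Lib.Helper14.AlgSpSubm
import Groth.Agent.Lib.Helper14.AlgSpClosed

/-!
# fpqc locality on the base for morphisms of algebraic spaces: the general reduction (helper14)
-/

universe u
open CategoryTheory CategoryTheory.Limits AlgebraicGeometry Opposite Topology

namespace Groth.Agent.Lib.Helper14.AS

open AlgSp

variable {S : Scheme.{u}}

/-- Stability under base change along morphisms of algebraic spaces. -/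
def BCStable (Pr : MorphismProperty (Sp S)) : Prop :=
  ∀ ⦃X Y Y' X' : Sp S⦄, IsAlgSpace X → IsAlgSpace Y → IsAlgSpace Y' → IsAlgSpace X' →
    ∀ (f : X ⟶ Y) (g : Y' ⟶ Y) (fst : X' ⟶ X) (f' : X' ⟶ Y'), IsPullback fst f' f g → Pr f → Pr f'

/-- The property can be checked after base change to all affine schemes over the target. -/
def AffLocal (Pr : MorphismProperty (Sp S)) : Prop :=
  ∀ ⦃X Y : Sp S⦄, IsAlgSpace X → IsAlgSpace Y → ∀ f : X ⟶ Y,
    (∀ (Z : Over S), IsAffine Z.left → ∀ (h : (yon S).obj Z ⟶ Y) (X' : Sp S) (fst : X' ⟶ X)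
      (snd : X' ⟶ (yon S).obj Z), IsPullback fst snd f h → Pr snd) → Pr f

/-- Descent along standard fpqc coverings of affine schemes. -/
def FpqcDesc (Pr : MorphismProperty (Sp S)) : Prop :=
  ∀ ⦃X : Sp S⦄ ⦃Z : Over S⦄, IsAlgSpace X → IsAffine Z.left → ∀ (f : X ⟶ (yon S).obj Z)
    (m : ℕ) (W : Fin m → Over S) (c : ∀ j, W j ⟶ Z), (∀ j, IsAffine (W j).left) →
    (∀ j, Flat (c j).left) → (∀ z : ↥Z.left, ∃ j, z ∈ Set.range (c j).left) →
    (∀ j (X' : Sp S) (fst : X' ⟶ X) (snd : X' ⟶ (yon S).obj (W j)),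
      IsPullback fst snd f ((yon S).map (c j)) → Pr snd) → Pr f

/-- The general reduction: a property stable under base change, testable on affine base changes
and descending along standard fpqc coverings of affines is fpqc local on the base. -/
theorem isLocalOnBase_fpqc_of {Pr : MorphismProperty (Sp S)} (hbc : BCStable Pr)
    (haff : AffLocal Pr) (hdesc : FpqcDesc Pr) : IsLocalOnBase (IsFpqcCover (S := S)) Pr := by
  intro ι Y Yi g hY hYi hcov X f hX Xi p q hXi hsq
  constructor
  · intro hf i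
    exact hbc hX hY (hYi i) (hXi i) f (g i) (q i) (p i) (hsq i) hf
  · intro H
    refine haff hX hY f fun Z hZ h X' fst snd sq => ?_
    have hX' : IsAlgSpace X' :=
      isAlgSpace_of_isPullback (repDiag_of_isAlgSpace hY) hX (IsAlgSpace.yon_obj Z) sq
    obtain ⟨m, W, c, hWa, hWf, hWs, hl⟩ := hcov.2 Z hZ h
    refine hdesc hX' hZ snd m W c hWa hWf hWs fun j X'' fst' snd' sq' => ?_
    obtain ⟨i, l, hl⟩ := hl j
    have hX'' : IsAlgSpace X'' :=
      isAlgSpace_of_isPullback (repDiag_of_isAlgSpace (IsAlgSpace.yon_obj Z)) hX'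
        (IsAlgSpace.yon_obj (W j)) sq'
    have big := sq'.paste_horiz sq
    rw [← hl] at big
    have hc : (fst' ≫ fst) ≫ f = (snd' ≫ l) ≫ g i := by
      rw [Category.assoc]; exact big.w
    have key : IsPullback ((hsq i).lift _ _ hc) snd' (p i) l := by
      refine IsPullback.of_right ?_ ((hsq i).lift_snd _ _ _) (hsq i)
      rw [(hsq i).lift_fst]
      exact big
    exact hbc (hXi i) (hYi i) (IsAlgSpace.yon_obj (W j)) hX'' (p i) l _ snd' key (H i)


theorem isLocalOnBase_congr {τ : CovNotion S} {Pr Pr' : MorphismProperty (Sp S)}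
    (h : ∀ ⦃X Y : Sp S⦄, IsAlgSpace X → IsAlgSpace Y → ∀ f : X ⟶ Y, Pr f ↔ Pr' f)
    (H : IsLocalOnBase τ Pr) : IsLocalOnBase τ Pr' := by
  intro ι Y Yi g hY hYi hcov X f hX Xi p q hXi hsq
  rw [← h hX hY f, H Yi g hY hYi hcov f hX Xi p q hXi hsq]
  exact forall_congr' fun i => h (hXi i) (hYi i) (p i)

/-- `Q` holds for every base change to an affine scheme. -/
def AffUniv (Q : MorphismProperty (Sp S)) : MorphismProperty (Sp S) := fun X Y f =>
  ∀ (Z : Over S), IsAffine Z.left → ∀ (g : (yon S).obj Z ⟶ Y) (P : Sp S) (fst : P ⟶ X)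
    (snd : P ⟶ (yon S).obj Z), IsPullback fst snd f g → Q snd

theorem bcStable_affUniv (Q : MorphismProperty (Sp S)) : BCStable (AffUniv Q) := by
  intro X Y Y' X' _ _ _ _ f g fst f' sq hf Z hZ z P a b sqz
  exact hf Z hZ (z ≫ g) P (a ≫ fst) b (sqz.paste_horiz sq)

theorem affLocal_affUniv (Q : MorphismProperty (Sp S)) : AffLocal (AffUniv Q) := by
  intro X Y _ _ f H Z hZ g P fst snd sq
  exact H Z hZ g P fst snd sq Z hZ (𝟙 _) P (𝟙 _) snd (IsPullback.of_horiz_isIso ⟨by simp⟩)

set_option backward.isDefEq.respectTransparency.types false in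
/-- Base change of a standard fpqc covering of an affine scheme along a morphism of affine
schemes. -/
theorem fpqc_family_baseChange {Z Z' : Over S} (hZa : IsAffine Z.left) (hZ' : IsAffine Z'.left)
    (g₀ : Z' ⟶ Z) {m : ℕ}
    (W : Fin m → Over S) (c : ∀ j, W j ⟶ Z) (hWa : ∀ j, IsAffine (W j).left)
    (hWf : ∀ j, Flat (c j).left) (hWs : ∀ z : ↥Z.left, ∃ j, z ∈ Set.range (c j).left) :
    (∀ j, IsAffine (pullback (c j) g₀).left) ∧ (∀ j, Flat (pullback.snd (c j) g₀).left) ∧
      ∀ z : ↥Z'.left, ∃ j, z ∈ Set.range (pullback.snd (c j) g₀).left := by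
  have hZ : ∀ j, IsPullback (pullback.fst (c j) g₀).left (pullback.snd (c j) g₀).left (c j).left
      g₀.left := fun j => (IsPullback.of_hasPullback (c j) g₀).map (Over.forget S)
  refine ⟨fun j => ?_, fun j => ?_, fun z => ?_⟩
  · have := hWa j
    exact .of_isIso (hZ j).isoPullback.hom
  · exact MorphismProperty.of_isPullback (P := @Flat) (hZ j) (hWf j)
  · obtain ⟨j, w, hw⟩ := hWs (g₀.left z)
    obtain ⟨y, hy1, hy2⟩ := Scheme.Pullback.exists_preimage_pullback w z hw
    refine ⟨j, (hZ j).isoPullback.inv y, ?_⟩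
    rw [← Scheme.Hom.comp_apply, (hZ j).isoPullback_inv_snd]
    exact hy2

set_option backward.isDefEq.respectTransparency.types false in
theorem fpqcDesc_affUniv {Q : MorphismProperty (Sp S)} (hQ : FpqcDesc Q) :
    FpqcDesc (AffUniv Q) := by
  intro X Z hX hZ f m W c hWa hWf hWs H Z' hZ' g P fst snd sq
  obtain ⟨g₀, rfl⟩ := (yon S).map_surjective g
  have hP : IsAlgSpace P :=
    isAlgSpace_of_isPullback (repDiag_of_isAlgSpace (IsAlgSpace.yon_obj Z)) hX
      (IsAlgSpace.yon_obj Z') sq
  obtain ⟨hW'a, hW'f, hW's⟩ := fpqc_family_baseChange hZ hZ' g₀ W c hWa hWf hWs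
  refine hQ hP hZ' snd m (fun j => pullback (c j) g₀) (fun j => pullback.snd (c j) g₀)
    hW'a hW'f hW's fun j P' a b sq' => ?_
  have sqj := IsPullback.of_hasPullback f ((yon S).map (c j))
  have big := sq'.paste_horiz sq
  have e : (yon S).map (pullback.snd (c j) g₀) ≫ (yon S).map g₀ =
      (yon S).map (pullback.fst (c j) g₀) ≫ (yon S).map (c j) := by
    rw [← Functor.map_comp, ← Functor.map_comp, pullback.condition]
  rw [e] at big
  have hc : (a ≫ fst) ≫ f = (b ≫ (yon S).map (pullback.fst (c j) g₀)) ≫ (yon S).map (c j) := by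
    rw [Category.assoc]; exact big.w
  have key : IsPullback (sqj.lift _ _ hc) b (pullback.snd f ((yon S).map (c j)))
      ((yon S).map (pullback.fst (c j) g₀)) := by
    refine IsPullback.of_right ?_ (sqj.lift_snd _ _ _) sqj
    rw [sqj.lift_fst]
    exact big
  exact H j _ _ _ sqj _ (hW'a j) _ _ _ _ key


section Top

variable {Z : Over S} {m : ℕ} (W : Fin m → Over S) (c : ∀ j, W j ⟶ Z)

theorem preimage_schemeHomeo_yon_map {T T' : Over S} (φ : T ⟶ T')
    (E : Set (Points ((yon S).obj T'))) :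
    φ.left ⁻¹' (Points.schemeHomeo T' ⁻¹' E) =
      Points.schemeHomeo T ⁻¹' (Points.map ((yon S).map φ) ⁻¹' E) := by
  ext t
  simp only [Set.mem_preimage]
  rw [Points.map_yon_map_apply]

include W c in
theorem points_isOpen_iff_of_fpqc_family (hZ : IsAffine Z.left) (hWa : ∀ j, IsAffine (W j).left)
    (hWf : ∀ j, Flat (c j).left) (hWs : ∀ z : ↥Z.left, ∃ j, z ∈ Set.range (c j).left)
    (E : Set (Points ((yon S).obj Z))) :
    IsOpen E ↔ ∀ j, IsOpen (Points.map ((yon S).map (c j)) ⁻¹' E) := by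
  rw [← (Points.schemeHomeo Z).isOpen_preimage,
    Fpqc.isOpen_iff_of_fpqc_family (fun j => (W j).left) (fun j => (c j).left) hWf hWs]
  refine forall_congr' fun j => ?_
  rw [preimage_schemeHomeo_yon_map, (Points.schemeHomeo (W j)).isOpen_preimage]

include W c in
theorem points_isClosed_iff_of_fpqc_family (hZ : IsAffine Z.left)
    (hWa : ∀ j, IsAffine (W j).left)
    (hWf : ∀ j, Flat (c j).left) (hWs : ∀ z : ↥Z.left, ∃ j, z ∈ Set.range (c j).left)
    (E : Set (Points ((yon S).obj Z))) :
    IsClosed E ↔ ∀ j, IsClosed (Points.map ((yon S).map (c j)) ⁻¹' E) := by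
  simp only [← isOpen_compl_iff, points_isOpen_iff_of_fpqc_family W c hZ hWa hWf hWs,
    Set.preimage_compl]

include W c in
theorem points_exists_of_fpqc_family (hWs : ∀ z : ↥Z.left, ∃ j, z ∈ Set.range (c j).left)
    (z : Points ((yon S).obj Z)) : ∃ j w, Points.map ((yon S).map (c j)) w = z := by
  obtain ⟨z, rfl⟩ := (Points.schemeHomeo Z).surjective z
  obtain ⟨j, w, rfl⟩ := hWs z
  exact ⟨j, Points.schemeHomeo (W j) w, Points.map_yon_map_apply _ _⟩

end Top

theorem fpqcDesc_isClosedMor : FpqcDesc (IsClosedMor (S := S)) := by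
  intro X Z hX hZ f m W c hWa hWf hWs H A hA
  rw [points_isClosed_iff_of_fpqc_family W c hZ hWa hWf hWs]
  intro j
  have sqj := IsPullback.of_hasPullback f ((yon S).map (c j))
  rw [points_preimage_image_eq sqj]
  exact H j _ _ _ sqj _ (hA.preimage (Points.continuous_map _))

theorem fpqcDesc_isOpenMor : FpqcDesc (IsOpenMor (S := S)) := by
  intro X Z hX hZ f m W c hWa hWf hWs H A hA
  rw [points_isOpen_iff_of_fpqc_family W c hZ hWa hWf hWs]
  intro j
  have sqj := IsPullback.of_hasPullback f ((yon S).map (c j))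
  rw [points_preimage_image_eq sqj]
  exact H j _ _ _ sqj _ (hA.preimage (Points.continuous_map _))

theorem fpqcDesc_injective :
    FpqcDesc (fun _ _ f => Function.Injective (Points.map f) : MorphismProperty (Sp S)) := by
  intro X Z hX hZ f m W c hWa hWf hWs H x x' hxx'
  obtain ⟨j, w, hw⟩ := points_exists_of_fpqc_family W c hWs (Points.map f x)
  have sqj := IsPullback.of_hasPullback f ((yon S).map (c j))
  obtain ⟨y, hy1, hy2⟩ := points_exists_of_isPullback sqj x w hw.symm
  obtain ⟨y', hy'1, hy'2⟩ := points_exists_of_isPullback sqj x' w (by rw [← hxx', hw])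
  have : y = y' := H j _ _ _ sqj (hy2.trans hy'2.symm)
  rw [← hy1, ← hy'1, this]

theorem fpqcDesc_surjective :
    FpqcDesc (fun _ _ f => Function.Surjective (Points.map f) : MorphismProperty (Sp S)) := by
  intro X Z hX hZ f m W c hWa hWf hWs H z
  obtain ⟨j, w, hw⟩ := points_exists_of_fpqc_family W c hWs z
  have sqj := IsPullback.of_hasPullback f ((yon S).map (c j))
  obtain ⟨y, hy⟩ := H j _ _ _ sqj w
  refine ⟨Points.map (pullback.fst f ((yon S).map (c j))) y, ?_⟩
  rw [← Points.map_comp, sqj.w, Points.map_comp, hy, hw]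

theorem fpqcDesc_isSubmersiveMor : FpqcDesc (IsSubmersiveMor (S := S)) := by
  intro X Z hX hZ f m W c hWa hWf hWs H
  have hsurj : Function.Surjective (Points.map f) :=
    fpqcDesc_surjective hX hZ f m W c hWa hWf hWs fun j X' fst snd sq =>
      (H j X' fst snd sq).surjective
  change IsQuotientMap (Points.map f)
  rw [isQuotientMap_iff]
  refine ⟨.of_isOpen_preimage_iff_isOpen fun E =>
    ⟨fun hE => ?_, fun hE => hE.preimage (Points.continuous_map f)⟩, hsurj⟩
  rw [points_isOpen_iff_of_fpqc_family W c hZ hWa hWf hWs]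
  intro j
  have sqj := IsPullback.of_hasPullback f ((yon S).map (c j))
  have hq : IsQuotientMap (Points.map (pullback.snd f ((yon S).map (c j)))) := H j _ _ _ sqj
  rw [← hq.isOpen_preimage]
  have e : Points.map (pullback.snd f ((yon S).map (c j))) ⁻¹'
      (Points.map ((yon S).map (c j)) ⁻¹' E) =
      Points.map (pullback.fst f ((yon S).map (c j))) ⁻¹' (Points.map f ⁻¹' E) := by
    ext y
    simp only [Set.mem_preimage]
    rw [← Points.map_comp, ← Points.map_comp, sqj.w]
  rw [e]
  exact hE.preimage (Points.continuous_map _)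

theorem fpqcDesc_isHomeomorph :
    FpqcDesc (fun _ _ f => IsHomeomorph (Points.map f) : MorphismProperty (Sp S)) := by
  intro X Z hX hZ f m W c hWa hWf hWs H
  refine ⟨Points.continuous_map f, ?_, ?_, ?_⟩
  · exact fpqcDesc_isOpenMor hX hZ f m W c hWa hWf hWs fun j X' fst snd sq =>
      (H j X' fst snd sq).isOpenMap
  · exact fpqcDesc_injective hX hZ f m W c hWa hWf hWs fun j X' fst snd sq =>
      (H j X' fst snd sq).injective
  · exact fpqcDesc_surjective hX hZ f m W c hWa hWf hWs fun j X' fst snd sq =>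
      (H j X' fst snd sq).surjective


/-- `Q` can be checked after base change to all affine schemes over the target (no algebraicity
hypotheses). -/
def AffLocal' (Q : MorphismProperty (Sp S)) : Prop :=
  ∀ ⦃X Y : Sp S⦄ (f : X ⟶ Y),
    (∀ (Z : Over S), IsAffine Z.left → ∀ (h : (yon S).obj Z ⟶ Y) (X' : Sp S) (fst : X' ⟶ X)
      (snd : X' ⟶ (yon S).obj Z), IsPullback fst snd f h → Q snd) → Q f

theorem univSp_iff_affUniv {Q : MorphismProperty (Sp S)} (hQ : AffLocal' Q) {X Y : Sp S}
    (f : X ⟶ Y) : UnivSp Q f ↔ AffUniv Q f := by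
  constructor
  · intro h Z _ g P fst snd sq
    exact h (IsAlgSpace.yon_obj Z) g fst snd sq
  · intro H T T' _ t fst snd sq
    refine hQ snd fun Z hZ h X' a b sqz => ?_
    exact H Z hZ (h ≫ t) X' (a ≫ fst) b (sqz.paste_horiz sq)

theorem isLocalOnBase_fpqc_univSp {Q : MorphismProperty (Sp S)} (hQ : AffLocal' Q)
    (hd : FpqcDesc Q) : IsLocalOnBase (IsFpqcCover (S := S)) (UnivSp Q) :=
  isLocalOnBase_congr (fun _ _ _ _ f => (univSp_iff_affUniv hQ f).symm)
    (isLocalOnBase_fpqc_of (bcStable_affUniv Q) (affLocal_affUniv Q) (fpqcDesc_affUniv hd))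

theorem ofPt_preimage_eq {F : Sp S} {T : Over S} (t : (yon S).obj T ⟶ F) (E : Set (Points F)) :
    Points.ofPt t ⁻¹' E = (Points.schemeHomeo T) ⁻¹' (Points.map t ⁻¹' E) := by
  ext x
  simp only [Set.mem_preimage]
  rw [Points.ofPt_eq_map_ofScheme]
  rfl

theorem affLocal'_isClosedMor : AffLocal' (IsClosedMor (S := S)) := by
  intro X Y f H A hA
  rw [points_isClosed_iff_affine]
  intro T hT t
  have sq1 := IsPullback.of_hasPullback f t
  rw [ofPt_preimage_eq, points_preimage_image_eq sq1]
  exact (H T hT t _ _ _ sq1 _ (hA.preimage (Points.continuous_map _))).preimage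
    (Points.schemeHomeo T).continuous

theorem affLocal'_isOpenMor : AffLocal' (IsOpenMor (S := S)) := by
  intro X Y f H A hA
  rw [points_isOpen_iff_affine]
  intro T hT t
  have sq1 := IsPullback.of_hasPullback f t
  rw [ofPt_preimage_eq, points_preimage_image_eq sq1]
  exact (H T hT t _ _ _ sq1 _ (hA.preimage (Points.continuous_map _))).preimage
    (Points.schemeHomeo T).continuous

theorem exists_affine_point {F : Sp S} (y : Points F) :
    ∃ (T : Over S) (_ : IsAffine T.left) (g : (yon S).obj T ⟶ F) (w : Points ((yon S).obj T)),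
      Points.map g w = y := by
  induction y using Points.ind with
  | h p =>
  obtain ⟨T, g, t, ht⟩ := exists_ofPt_eq (Points.mk p)
  obtain ⟨A, hA, htA, -⟩ := exists_isAffineOpen_mem_and_subset (x := t) (U := ⊤) trivial
  let Ti : Over S := Over.mk (A.ι ≫ T.hom)
  let j : Ti ⟶ T := Over.homMk A.ι rfl
  refine ⟨Ti, hA, (yon S).map j ≫ g, Points.schemeHomeo Ti ⟨t, htA⟩, ?_⟩
  rw [← ht, Points.ofPt_eq_map_ofScheme g, Points.map_comp]
  congr 1
  exact Points.map_yon_map_apply j ⟨t, htA⟩

theorem affLocal'_injective :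
    AffLocal' (fun _ _ f => Function.Injective (Points.map f) : MorphismProperty (Sp S)) := by
  intro X Y f H x x' hxx'
  obtain ⟨T, hT, g, w, hw⟩ := exists_affine_point (Points.map f x)
  have sq := IsPullback.of_hasPullback f g
  obtain ⟨y, hy1, hy2⟩ := points_exists_of_isPullback sq x w hw.symm
  obtain ⟨y', hy'1, hy'2⟩ := points_exists_of_isPullback sq x' w (by rw [← hxx', hw])
  have : y = y' := H T hT g _ _ _ sq (hy2.trans hy'2.symm)
  rw [← hy1, ← hy'1, this]

theorem affLocal'_surjective :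
    AffLocal' (fun _ _ f => Function.Surjective (Points.map f) : MorphismProperty (Sp S)) := by
  intro X Y f H y
  obtain ⟨T, hT, g, w, hw⟩ := exists_affine_point y
  have sq := IsPullback.of_hasPullback f g
  obtain ⟨p, hp⟩ := H T hT g _ _ _ sq w
  refine ⟨Points.map (pullback.fst f g) p, ?_⟩
  rw [← Points.map_comp, sq.w, Points.map_comp, hp, hw]

theorem affLocal'_isSubmersiveMor : AffLocal' (IsSubmersiveMor (S := S)) := by
  intro X Y f H
  have hsurj : Function.Surjective (Points.map f) :=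
    affLocal'_surjective f fun Z hZ h X' fst snd sq => (H Z hZ h X' fst snd sq).surjective
  change IsQuotientMap (Points.map f)
  rw [isQuotientMap_iff]
  refine ⟨.of_isOpen_preimage_iff_isOpen fun E =>
    ⟨fun hE => ?_, fun hE => hE.preimage (Points.continuous_map f)⟩, hsurj⟩
  rw [points_isOpen_iff_affine]
  intro T hT t
  have sq := IsPullback.of_hasPullback f t
  have hq : IsQuotientMap (Points.map (pullback.snd f t)) := H T hT t _ _ _ sq
  rw [ofPt_preimage_eq]
  refine IsOpen.preimage (Points.schemeHomeo T).continuous ?_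
  rw [← hq.isOpen_preimage]
  have e : Points.map (pullback.snd f t) ⁻¹' (Points.map t ⁻¹' E) =
      Points.map (pullback.fst f t) ⁻¹' (Points.map f ⁻¹' E) := by
    ext y
    simp only [Set.mem_preimage]
    rw [← Points.map_comp, ← Points.map_comp, sq.w]
  rw [e]
  exact hE.preimage (Points.continuous_map _)

theorem affLocal'_isHomeomorph :
    AffLocal' (fun _ _ f => IsHomeomorph (Points.map f) : MorphismProperty (Sp S)) := by
  intro X Y f H
  refine ⟨Points.continuous_map f, ?_, ?_, ?_⟩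
  · exact affLocal'_isOpenMor f fun Z hZ h X' fst snd sq => (H Z hZ h X' fst snd sq).isOpenMap
  · exact affLocal'_injective f fun Z hZ h X' fst snd sq => (H Z hZ h X' fst snd sq).injective
  · exact affLocal'_surjective f fun Z hZ h X' fst snd sq => (H Z hZ h X' fst snd sq).surjective

theorem isLocalOnBase_fpqc_isUnivClosedMor :
    IsLocalOnBase (IsFpqcCover (S := S)) IsUnivClosedMor :=
  isLocalOnBase_fpqc_univSp affLocal'_isClosedMor fpqcDesc_isClosedMor

theorem isLocalOnBase_fpqc_isUnivOpenMor :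
    IsLocalOnBase (IsFpqcCover (S := S)) IsUnivOpenMor :=
  isLocalOnBase_fpqc_univSp affLocal'_isOpenMor fpqcDesc_isOpenMor

theorem isLocalOnBase_fpqc_isUnivSubmersiveMor :
    IsLocalOnBase (IsFpqcCover (S := S)) IsUnivSubmersiveMor :=
  isLocalOnBase_fpqc_univSp affLocal'_isSubmersiveMor fpqcDesc_isSubmersiveMor

theorem isLocalOnBase_fpqc_isUnivInjectiveMor :
    IsLocalOnBase (IsFpqcCover (S := S)) IsUnivInjectiveMor :=
  isLocalOnBase_fpqc_univSp affLocal'_injective fpqcDesc_injective

theorem isLocalOnBase_fpqc_isUnivHomeoMor :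
    IsLocalOnBase (IsFpqcCover (S := S)) IsUnivHomeoMor :=
  isLocalOnBase_fpqc_univSp affLocal'_isHomeomorph fpqcDesc_isHomeomorph

end Groth.Agent.Lib.Helper14.AS
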