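import Mathlib
import Groth.Agent.Lib.Helper14.FpqcBase
import Groth.Agent.Lib.Helper14.AlgSpQCMor
import Groth.Agent.Lib.Helper14.AlgSpLocP2

/-!
# fpqc locality on the base: quasi-compact morphisms (helper14)
-/

universe u
open CategoryTheory CategoryTheory.Limits AlgebraicGeometry Opposite Topology

namespace Groth.Agent.Lib.Helper14.AS

open AlgSp

variable {S : Scheme.{u}}

theorem fpqcDesc_isQuasiCompactSp :
    FpqcDesc (fun X _ _ => IsQuasiCompactSp X : MorphismProperty (Sp S)) := by
  intro X Z hX hZ f m W c hWa hWf hWs H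
  rw [isQuasiCompactSp_iff_compactSpace hX]
  refine ⟨?_⟩
  have hcov : (Set.univ : Set (Points X)) =
      ⋃ j, Set.range (Points.map (pullback.fst f ((yon S).map (c j)))) := by
    symm
    rw [Set.eq_univ_iff_forall]
    intro x
    obtain ⟨j, w, hw⟩ := points_exists_of_fpqc_family W c hWs (Points.map f x)
    obtain ⟨y, hy, -⟩ := points_exists_of_isPullback
      (IsPullback.of_hasPullback f ((yon S).map (c j))) x w hw.symm
    exact Set.mem_iUnion.2 ⟨j, y, hy⟩
  rw [hcov]
  refine isCompact_iUnion fun j => ?_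
  have sqj := IsPullback.of_hasPullback f ((yon S).map (c j))
  have hXj : IsAlgSpace (pullback f ((yon S).map (c j))) :=
    isAlgSpace_of_isPullback (repDiag_of_isAlgSpace (IsAlgSpace.yon_obj Z)) hX
      (IsAlgSpace.yon_obj (W j)) sqj
  have : CompactSpace (Points (pullback f ((yon S).map (c j)))) :=
    (isQuasiCompactSp_iff_compactSpace hXj).1 (H j _ _ _ sqj)
  exact isCompact_range (Points.continuous_map _)

theorem isLocalOnBase_fpqc_isQuasiCompactMor :
    IsLocalOnBase (IsFpqcCover (S := S)) IsQuasiCompactMor :=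
  isLocalOnBase_congr
    (Pr := AffUniv (fun X _ _ => IsQuasiCompactSp X : MorphismProperty (Sp S)))
    (fun _ _ hX hY f => (isQuasiCompactMor_iff_affine hX hY f).symm)
    (isLocalOnBase_fpqc_of (bcStable_affUniv _) (affLocal_affUniv _)
      (fpqcDesc_affUniv fpqcDesc_isQuasiCompactSp))


theorem P_over_pullback_snd_iff {P : MorphismProperty Scheme.{u}} [P.RespectsIso]
    {A B C : Over S} (k : A ⟶ C) (j : B ⟶ C) :
    P (pullback.snd k j).left ↔ P (pullback.snd k.left j.left) := by
  have sq : IsPullback (pullback.fst k j).left (pullback.snd k j).left k.left j.left :=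
    (IsPullback.of_hasPullback k j).map (Over.forget S)
  rw [← sq.isoPullback_hom_snd, P.cancel_left_of_respectsIso]

set_option backward.isDefEq.respectTransparency.types false in
theorem bcStable_locP {P : MorphismProperty Scheme.{u}} (hP : EtLocal P)
    [P.IsStableUnderBaseChange] : BCStable (LocP P (S := S)) := by
  intro X Y Y' X' hX hY hY' _ f g fst f' sq hf
  exact locP_baseChange hP hX hY hY' f g fst f' sq hf

set_option backward.isDefEq.respectTransparency.types false in
/-- Given a chart `a : h_U ⟶ X` and `k : U ⟶ V` with `a ≫ f = h_k ≫ b`, and `j : Z ⟶ V`,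
the induced map from `h_{U ×_V Z}` to `X ×_Y h_Z`. -/
theorem exists_chart_of_baseChange {X Y : Sp S} (f : X ⟶ Y) {U V Z : Over S}
    (a : (yon S).obj U ⟶ X) (b : (yon S).obj V ⟶ Y) (k : U ⟶ V)
    (comm : a ≫ f = (yon S).map k ≫ b) (j : Z ⟶ V) (b' : (yon S).obj Z ⟶ Y)
    (hb' : (yon S).map j ≫ b = b') :
    ∃ l : (yon S).obj (pullback k j) ⟶ pullback f b',
      l ≫ pullback.fst f b' = (yon S).map (pullback.fst k j) ≫ a ∧
      l ≫ pullback.snd f b' = (yon S).map (pullback.snd k j) := by
  subst hb'
  have hc : ((yon S).map (pullback.fst k j) ≫ a) ≫ f =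
      (yon S).map (pullback.snd k j) ≫ (yon S).map j ≫ b := by
    rw [Category.assoc, comm, ← Category.assoc, ← Category.assoc, ← Functor.map_comp,
      ← Functor.map_comp, pullback.condition]
  exact ⟨pullback.lift _ _ hc, pullback.lift_fst _ _ _, pullback.lift_snd _ _ _⟩

set_option backward.isDefEq.respectTransparency.types false in
theorem affLocal_locP {P : MorphismProperty Scheme.{u}} (hP : EtLocal P)
    [IsZariskiLocalAtTarget P] : AffLocal (LocP P (S := S)) := by
  intro X Y hX hY f H
  obtain ⟨V, b, hbe, hbs⟩ := hY.atlas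
  obtain ⟨U, a, k, hae, has, comm⟩ := exists_chart_diagram hX f b hbe hbs
  refine locP_of_chart hP f a b k hae has hbe comm ?_
  refine IsZariskiLocalAtTarget.of_openCover V.left.affineCover fun i => ?_
  let Zi : Over S := Over.mk (V.left.affineCover.f i ≫ V.hom)
  let j : Zi ⟶ V := Over.homMk (V.left.affineCover.f i) rfl
  have hZi : IsAffine Zi.left := by dsimp [Zi]; infer_instance
  have hje : RepWith @Etale ((yon S).map j) := by
    rw [repWith_yon_map_iff]
    simp only [j, Over.homMk_left]; infer_instance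
  have hjb : RepWith @Etale ((yon S).map j ≫ b) := repWith_comp _ hje hbe
  obtain ⟨l, hl1, hl2⟩ := exists_chart_of_baseChange f a b k comm j _ rfl
  have sq := IsPullback.of_hasPullback f ((yon S).map j ≫ b)
  have hw : RepWith @Etale (pullback.fst f ((yon S).map j ≫ b)) :=
    repWith_of_isPullback _ sq.flip hjb
  have hfe : Etale (pullback.fst k j).left :=
    MorphismProperty.of_isPullback (P := MorphismProperty.inverseImage @Etale (Over.forget S))
      (IsPullback.of_hasPullback k j).flip ((repWith_yon_map_iff _ _).1 hje)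
  have hle : RepWith @Etale l := by
    refine repWith_etale_of_comp l _ hw ?_
    rw [hl1]
    exact repWith_comp _ ((repWith_yon_map_iff _ _).2 hfe) hae
  have key := H Zi hZi ((yon S).map j ≫ b) _ _ _ sq l (𝟙 _) (pullback.snd k j) hle
    (repWith_id _ Zi) (by rw [hl2, Category.comp_id])
  exact (P_over_pullback_snd_iff k j).1 key

set_option backward.isDefEq.respectTransparency.types false in
theorem fpqcDesc_locP {P : MorphismProperty Scheme.{u}} (hP : EtLocal P)
    [IsZariskiLocalAtTarget P] [P.DescendsAlong (@Surjective ⊓ @Flat ⊓ @QuasiCompact)] :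
    FpqcDesc (LocP P (S := S)) := by
  intro X Z hX hZ f m W c hWa hWf hWs H
  obtain ⟨U, a, hae, has⟩ := hX.atlas
  obtain ⟨k, hk⟩ := (yon S).map_surjective (a ≫ f)
  have comm : a ≫ f = (yon S).map k ≫ 𝟙 _ := by rw [hk, Category.comp_id]
  refine locP_of_chart hP f a (𝟙 _) k hae has (repWith_id _ Z) comm ?_
  refine Fpqc.of_fpqc_family (fun j => (W j).left) (fun j => (c j).left) k.left hWf hWs
    fun j => ?_
  obtain ⟨l, hl1, hl2⟩ := exists_chart_of_baseChange f a (𝟙 _) k comm (c j) ((yon S).map (c j))
    (Category.comp_id _)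
  have sq := IsPullback.of_hasPullback f ((yon S).map (c j))
  have sqU := (IsPullback.of_hasPullback k (c j)).map (yon S)
  rw [hk] at sqU
  have left : IsPullback l ((yon S).map (pullback.fst k (c j)))
      (pullback.fst f ((yon S).map (c j))) a := by
    refine IsPullback.of_right ?_ hl1 sq.flip
    rw [hl2]
    exact sqU.flip
  have hle : RepWith @Etale l := repWith_of_isPullback _ left.flip hae
  have key := H j _ _ _ sq l (𝟙 _) (pullback.snd k (c j)) hle (repWith_id _ (W j))
    (by rw [hl2, Category.comp_id])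
  exact (P_over_pullback_snd_iff k (c j)).1 key


set_option backward.isDefEq.respectTransparency.types false in
theorem isLocalOnBase_fpqc_locP {P : MorphismProperty Scheme.{u}} (hP : EtLocal P)
    [P.IsStableUnderBaseChange] [IsZariskiLocalAtTarget P]
    [P.DescendsAlong (@Surjective ⊓ @Flat ⊓ @QuasiCompact)] :
    IsLocalOnBase (IsFpqcCover (S := S)) (LocP P) :=
  isLocalOnBase_fpqc_of (bcStable_locP hP) (affLocal_locP hP) (fpqcDesc_locP hP)

theorem isLocalOnBase_and {τ : CovNotion S} {Pr Pr' : MorphismProperty (Sp S)}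
    (h : IsLocalOnBase τ Pr) (h' : IsLocalOnBase τ Pr') :
    IsLocalOnBase τ (fun _ _ f => Pr f ∧ Pr' f) := by
  intro ι Y Yi g hY hYi hcov X f hX Xi p q hXi hsq
  have h1 := h Yi g hY hYi hcov f hX Xi p q hXi hsq
  have h2 := h' Yi g hY hYi hcov f hX Xi p q hXi hsq
  change (Pr f ∧ Pr' f) ↔ ∀ i, Pr (p i) ∧ Pr' (p i)
  rw [h1, h2]
  exact forall_and.symm

set_option backward.isDefEq.respectTransparency.types false in
theorem isLocalOnBase_fpqc_locP_lft :
    IsLocalOnBase (IsFpqcCover (S := S)) (LocP @LocallyOfFiniteType) :=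
  isLocalOnBase_fpqc_locP etLocal_lft

set_option backward.isDefEq.respectTransparency.types false in
theorem isLocalOnBase_fpqc_locP_lfp :
    IsLocalOnBase (IsFpqcCover (S := S)) (LocP @LocallyOfFinitePresentation) :=
  isLocalOnBase_fpqc_locP etLocal_lfp

set_option backward.isDefEq.respectTransparency.types false in
theorem isLocalOnBase_fpqc_locP_flat :
    IsLocalOnBase (IsFpqcCover (S := S)) (LocP @Flat) :=
  isLocalOnBase_fpqc_locP etLocal_flat

set_option backward.isDefEq.respectTransparency.types false in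
theorem isLocalOnBase_fpqc_locP_unramified :
    IsLocalOnBase (IsFpqcCover (S := S)) (LocP (@LocallyOfFiniteType ⊓ @FormallyUnramified)) :=
  isLocalOnBase_fpqc_locP etLocal_lft_fu

set_option backward.isDefEq.respectTransparency.types false in
theorem isLocalOnBase_fpqc_locP_lqf :
    IsLocalOnBase (IsFpqcCover (S := S)) (LocP (@LocallyQuasiFinite ⊓ @LocallyOfFiniteType)) :=
  isLocalOnBase_fpqc_locP etLocal_lqf_lft

set_option backward.isDefEq.respectTransparency.types false in
theorem isLocalOnBase_fpqc_locP_etale :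
    IsLocalOnBase (IsFpqcCover (S := S)) (LocP @Etale) :=
  isLocalOnBase_fpqc_locP etLocal_etale

theorem isLocalOnBase_fpqc_isEtaleMor :
    IsLocalOnBase (IsFpqcCover (S := S)) IsEtaleMor :=
  isLocalOnBase_congr (fun _ _ _ hY _ => (isEtaleMor_iff_locP_etale hY).symm)
    isLocalOnBase_fpqc_locP_etale

theorem isLocalOnBase_fpqc_isFiniteTypeMor :
    IsLocalOnBase (IsFpqcCover (S := S)) IsFiniteTypeMor :=
  isLocalOnBase_and isLocalOnBase_fpqc_locP_lft isLocalOnBase_fpqc_isQuasiCompactMor

end Groth.Agent.Lib.Helper14.AS
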