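import Mathlib
import Groth.Agent.Lib.Helper14.FpqcBase2
import Groth.Agent.Lib.Helper14.AlgSpSep2
import Groth.Agent.Lib.Helper14.AlgSpDiag3
import Groth.Agent.Lib.Helper14.AlgSpRedFactor
import Groth.Agent.Lib.Helper14.AlgSpImm

/-!
# fpqc locality on the base: properties of the diagonal (helper14)
-/

universe u
open CategoryTheory CategoryTheory.Limits AlgebraicGeometry Opposite Topology

namespace Groth.Agent.Lib.Helper14.AS

open AlgSp

variable {S : Scheme.{u}}

set_option backward.isDefEq.respectTransparency.types false in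
/-- A representable morphism `g : A ⟶ B` over `Y` has `RepWith P` as soon as its base changes
to the members of an fpqc covering of `Y` have it. -/
theorem repWith_of_fpqcCover {P : MorphismProperty Scheme.{u}} [IsZariskiLocalAtTarget P]
    [P.DescendsAlong (@Surjective ⊓ @Flat ⊓ @QuasiCompact)]
    {ι : Type u} {Y : Sp S} (Yi : ι → Sp S) (gi : ∀ i, Yi i ⟶ Y) (hcov : IsFpqcCover Yi gi)
    {A B : Sp S} (g : A ⟶ B) (s : B ⟶ Y) (hg : Representable g)
    (Bi : ι → Sp S) (bi : ∀ i, Bi i ⟶ B) (si : ∀ i, Bi i ⟶ Yi i)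
    (hB : ∀ i, IsPullback (bi i) (si i) s (gi i))
    (Ai : ι → Sp S) (ai : ∀ i, Ai i ⟶ A) (gi' : ∀ i, Ai i ⟶ Bi i)
    (hA : ∀ i, IsPullback (ai i) (gi' i) g (bi i))
    (H : ∀ i, RepWith P (gi' i)) : RepWith P g := by
  refine ⟨hg, fun T W z a0 b0 sq0 => ?_⟩
  change P b0.left
  refine IsZariskiLocalAtTarget.of_openCover T.left.affineCover fun k => ?_
  let Zk : Over S := Over.mk (T.left.affineCover.f k ≫ T.hom)
  let j : Zk ⟶ T := Over.homMk (T.left.affineCover.f k) rfl
  have hZk : IsAffine Zk.left := by dsimp [Zk]; infer_instance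
  refine (P_over_pullback_snd_iff b0 j).1 ?_
  obtain ⟨m, Wf, c, hWa, hWf, hWs, hl⟩ := hcov.2 Zk hZk ((yon S).map j ≫ z ≫ s)
  refine Fpqc.of_fpqc_family (fun j' => (Wf j').left) (fun j' => (c j').left)
    (pullback.snd b0 j).left hWf hWs fun j' => ?_
  refine (P_over_pullback_snd_iff (pullback.snd b0 j) (c j')).1 ?_
  obtain ⟨i, l, hl⟩ := hl j'
  have sqZ := (IsPullback.of_hasPullback b0 j).map (yon S)
  have sqW' := (IsPullback.of_hasPullback (pullback.snd b0 j) (c j')).map (yon S)
  have big := sqW'.paste_horiz (sqZ.paste_horiz sq0)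
  -- the map to `Bi i`
  have hβc : ((yon S).map (c j') ≫ (yon S).map j ≫ z) ≫ s = l ≫ gi i := by
    rw [hl]; simp only [Category.assoc]
  have hβ1 : (hB i).lift _ _ hβc ≫ bi i = (yon S).map (c j') ≫ (yon S).map j ≫ z :=
    (hB i).lift_fst _ _ _
  rw [← hβ1] at big
  have hc : ((yon S).map (pullback.fst (pullback.snd b0 j) (c j')) ≫
      (yon S).map (pullback.fst b0 j) ≫ a0) ≫ g =
      ((yon S).map (pullback.snd (pullback.snd b0 j) (c j')) ≫ (hB i).lift _ _ hβc) ≫ bi i := by
    rw [Category.assoc ((yon S).map (pullback.snd (pullback.snd b0 j) (c j')))]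
    exact big.w
  have key : IsPullback ((hA i).lift _ _ hc)
      ((yon S).map (pullback.snd (pullback.snd b0 j) (c j'))) (gi' i) ((hB i).lift _ _ hβc) := by
    refine IsPullback.of_right ?_ ((hA i).lift_snd _ _ _) (hA i)
    rw [(hA i).lift_fst]
    exact big
  exact (H i).property _ _ _ key


set_option backward.isDefEq.respectTransparency.types false in
theorem isLocalOnBase_fpqc_diagonal {P : MorphismProperty Scheme.{u}}
    [IsZariskiLocalAtTarget P] [P.DescendsAlong (@Surjective ⊓ @Flat ⊓ @QuasiCompact)] :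
    IsLocalOnBase (IsFpqcCover (S := S)) (fun _ _ f => RepWith P (pullback.diagonal f)) := by
  intro ι Y Yi g hY hYi hcov X f hX Xi p q hXi hsq
  constructor
  · intro hf i
    exact MorphismProperty.of_isPullback (P := (RepWith (S := S) P).diagonal) (hsq i) hf
  · intro H
    exact repWith_of_fpqcCover Yi g hcov (pullback.diagonal f) (pullback.fst f f ≫ f)
      (representable_diagonal f hX.diag) _ _ _
      (fun i => (isPullback_map_of_isPullback (hsq i)).flip) Xi q _
      (fun i => isPullback_diagonal_of_isPullback (hsq i)) H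

set_option backward.isDefEq.respectTransparency.types false in
theorem isLocalOnBase_fpqc_isQuasiSeparatedMor :
    IsLocalOnBase (IsFpqcCover (S := S)) IsQuasiSeparatedMor :=
  isLocalOnBase_fpqc_diagonal (P := @QuasiCompact)

set_option backward.isDefEq.respectTransparency.types false in
theorem isLocalOnBase_fpqc_isSeparatedMor :
    IsLocalOnBase (IsFpqcCover (S := S)) IsSeparatedMor :=
  isLocalOnBase_fpqc_diagonal (P := @IsClosedImmersion)

theorem mono_iff_repWith_isomorphisms_diagonal {X Y : Sp S} (f : X ⟶ Y) :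
    Mono f ↔ RepWith (MorphismProperty.isomorphisms Scheme.{u}) (pullback.diagonal f) := by
  rw [← pullback.isIso_diagonal_iff f]
  constructor
  · intro h
    exact repWith_of_isIso _ _
  · intro h
    exact isIso_of_repWith_isomorphisms h

set_option backward.isDefEq.respectTransparency.types false in
theorem isLocalOnBase_fpqc_monomorphisms :
    IsLocalOnBase (IsFpqcCover (S := S)) (MorphismProperty.monomorphisms (Sp S)) :=
  isLocalOnBase_congr (fun _ _ _ _ f => (mono_iff_repWith_isomorphisms_diagonal f).symm)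
    (isLocalOnBase_fpqc_diagonal (P := MorphismProperty.isomorphisms Scheme.{u}))

theorem isLocalOnBase_fpqc_isProperMor :
    IsLocalOnBase (IsFpqcCover (S := S)) IsProperMor :=
  isLocalOnBase_and isLocalOnBase_fpqc_isSeparatedMor
    (isLocalOnBase_and isLocalOnBase_fpqc_isFiniteTypeMor isLocalOnBase_fpqc_isUnivClosedMor)

theorem isLocalOnBase_fpqc_isFinitePresentationMor :
    IsLocalOnBase (IsFpqcCover (S := S)) IsFinitePresentationMor :=
  isLocalOnBase_and isLocalOnBase_fpqc_locP_lfp
    (isLocalOnBase_and isLocalOnBase_fpqc_isQuasiCompactMor isLocalOnBase_fpqc_isQuasiSeparatedMor)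

end Groth.Agent.Lib.Helper14.AS
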