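import Mathlib
import Groth.Agent.Lib.Helper14.FpqcBase3

/-!
# fpqc locality on the base: open immersions and isomorphisms (helper14)
-/

universe u
open CategoryTheory CategoryTheory.Limits AlgebraicGeometry Opposite Topology

namespace Groth.Agent.Lib.Helper14.AS

open AlgSp

variable {S : Scheme.{u}}

theorem isOpenImmersion_le_etale :
    (@IsOpenImmersion : MorphismProperty Scheme.{u}) ≤ @Etale :=
  fun _ _ _ h => by have := h; infer_instance

theorem isOpenImmersion_le_mono :
    (@IsOpenImmersion : MorphismProperty Scheme.{u}) ≤ MorphismProperty.monomorphisms Scheme.{u} :=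
  fun _ _ _ h => by have := h; exact MorphismProperty.monomorphisms.infer_property _

theorem epi_of_etale_surjective {F G : Sp S} (q : F ⟶ G)
    (hqe : RepWith @Etale q) (hqs : RepWith @Surjective q) : Epi q :=
  (Sheaf.isLocallySurjective_iff_epi _).1 (isLocallySurjective_of_etale_surjective q hqe hqs)

set_option backward.isDefEq.respectTransparency.types false in
/-- An etale monomorphism from an algebraic space to a scheme is an open immersion. -/
theorem exists_open_of_mono_etale_to_scheme {X : Sp S} (hX : IsAlgSpace X) {T : Over S}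
    (π : X ⟶ (yon S).obj T) [Mono π] (hπ : IsEtaleMor π) :
    ∃ (T₀ : Over S) (j : T₀ ⟶ T) (e : (yon S).obj T₀ ⟶ X),
      IsOpenImmersion j.left ∧ IsIso e ∧ e ≫ π = (yon S).map j := by
  obtain ⟨U, a, hae, has⟩ := hX.atlas
  have hk : RepWith @Etale (a ≫ π) := hπ a hae
  obtain ⟨k, hk'⟩ := (yon S).map_surjective (a ≫ π)
  have hke : Etale k.left := by
    rw [← hk'] at hk
    exact (repWith_yon_map_iff _ _).1 hk
  have hopen : IsOpen (Set.range k.left) := k.left.isOpenMap.isOpen_range
  let V : T.left.Opens := ⟨Set.range k.left, hopen⟩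
  let T₀ : Over S := Over.mk (V.ι ≫ T.hom)
  let j : T₀ ⟶ T := Over.homMk V.ι rfl
  have hsub : Set.range k.left ⊆ Set.range V.ι := by
    rw [Scheme.Opens.range_ι]
    exact subset_rfl
  let k₀l : U.left ⟶ V.toScheme := IsOpenImmersion.lift V.ι k.left hsub
  have hk₀l : k₀l ≫ V.ι = k.left := IsOpenImmersion.lift_fac _ _ _
  let k₀ : U ⟶ T₀ := Over.homMk k₀l (by
    change k₀l ≫ V.ι ≫ T.hom = U.hom
    rw [← Category.assoc, hk₀l]; exact Over.w k)
  have hk₀j : k₀ ≫ j = k := by
    ext
    exact hk₀l
  have hje : Etale j.left := by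
    change Etale V.ι; infer_instance
  have hk₀e : Etale k₀.left := by
    have h1 : Etale (k₀.left ≫ j.left) := by
      rw [← Over.comp_left, hk₀j]; exact hke
    exact MorphismProperty.of_postcomp (W := @Etale) (W' := @Etale) k₀.left j.left hje h1
  have hk₀s : Surjective k₀.left := by
    refine ⟨fun v => ?_⟩
    obtain ⟨u, hu⟩ : (V.ι v) ∈ Set.range k.left := by
      have : V.ι v ∈ Set.range V.ι := ⟨v, rfl⟩
      rw [Scheme.Opens.range_ι] at this
      exact this
    refine ⟨u, ?_⟩
    apply V.ι.isOpenEmbedding.injective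
    change (k₀l ≫ V.ι) u = _
    rw [hk₀l]; exact hu
  have hepi₀ : Epi ((yon S).map k₀) :=
    epi_of_etale_surjective _ ((repWith_yon_map_iff _ _).2 hk₀e) ((repWith_yon_map_iff _ _).2 hk₀s)
  have hepia : Epi a := epi_of_etale_surjective _ hae has
  have hjm : Mono j := by
    have : Mono j.left := by change Mono V.ι; infer_instance
    exact Over.mono_of_mono_left j
  have : Mono ((yon S).map j) := inferInstance
  have hc : a ≫ π = (yon S).map k₀ ≫ (yon S).map j := by
    rw [← Functor.map_comp, hk₀j, hk']
  have h1 : pullback.lift a ((yon S).map k₀) hc ≫ pullback.fst π ((yon S).map j) = a :=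
    pullback.lift_fst _ _ _
  have h2 : pullback.lift a ((yon S).map k₀) hc ≫ pullback.snd π ((yon S).map j) =
      (yon S).map k₀ := pullback.lift_snd _ _ _
  have : Epi (pullback.fst π ((yon S).map j)) := by
    have : Epi (pullback.lift a ((yon S).map k₀) hc ≫ pullback.fst π ((yon S).map j)) := by
      rw [h1]; exact hepia
    exact epi_of_epi (pullback.lift a ((yon S).map k₀) hc) _
  have : Epi (pullback.snd π ((yon S).map j)) := by
    have : Epi (pullback.lift a ((yon S).map k₀) hc ≫ pullback.snd π ((yon S).map j)) := by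
      rw [h2]; exact hepi₀
    exact epi_of_epi (pullback.lift a ((yon S).map k₀) hc) _
  have : IsIso (pullback.fst π ((yon S).map j)) := isIso_of_mono_of_epi _
  have : IsIso (pullback.snd π ((yon S).map j)) := isIso_of_mono_of_epi _
  refine ⟨T₀, j, inv (pullback.snd π ((yon S).map j)) ≫ pullback.fst π ((yon S).map j),
    by change IsOpenImmersion V.ι; infer_instance, inferInstance, ?_⟩
  rw [Category.assoc, pullback.condition, IsIso.inv_hom_id_assoc]


set_option backward.isDefEq.respectTransparency.types false in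
theorem isEtaleMor_of_isPullback {X Y Y' X' : Sp S} (hX : IsAlgSpace X) (hY : IsAlgSpace Y)
    (hY' : IsAlgSpace Y') {f : X ⟶ Y} {g : Y' ⟶ Y} {fst : X' ⟶ X} {f' : X' ⟶ Y'}
    (sq : IsPullback fst f' f g) (hf : IsEtaleMor f) : IsEtaleMor f' :=
  isEtaleMor_of_locP_etale hY'
    (locP_baseChange etLocal_etale hX hY hY' f g fst f' sq (locP_etale_of_isEtaleMor hf))

set_option backward.isDefEq.respectTransparency.types false in
/-- An etale monomorphism of algebraic spaces is a representable open immersion. -/
theorem repWith_isOpenImmersion_of_mono_etale {X Y : Sp S} (hX : IsAlgSpace X)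
    (hY : IsAlgSpace Y) (f : X ⟶ Y) [Mono f] (hf : IsEtaleMor f) :
    RepWith @IsOpenImmersion f := by
  refine MorphismProperty.relative.of_exists fun T t => ?_
  have sq := IsPullback.of_hasPullback f t
  have hP : IsAlgSpace (pullback f t) :=
    isAlgSpace_of_isPullback (repDiag_of_isAlgSpace hY) hX (IsAlgSpace.yon_obj T) sq
  have hπ : IsEtaleMor (pullback.snd f t) :=
    isEtaleMor_of_isPullback hX hY (IsAlgSpace.yon_obj T) sq hf
  obtain ⟨T₀, j, e, hj, he, hej⟩ := exists_open_of_mono_etale_to_scheme hP (pullback.snd f t) hπ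
  have sq' : IsPullback e ((yon S).map j) (pullback.snd f t) (𝟙 _) :=
    IsPullback.of_horiz_isIso ⟨by rw [hej, Category.comp_id]⟩
  have big := sq'.paste_horiz sq
  rw [Category.id_comp] at big
  exact ⟨T₀, e ≫ pullback.fst f t, j, big, hj⟩

set_option backward.isDefEq.respectTransparency.types false in
theorem isEtaleMor_of_repWith_etale {X Y : Sp S} {f : X ⟶ Y} (hf : RepWith @Etale f) :
    IsEtaleMor f := fun _ _ hφ => repWith_comp _ hφ hf

set_option backward.isDefEq.respectTransparency.types false in
theorem isLocalOnBase_fpqc_repWith_isOpenImmersion :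
    IsLocalOnBase (IsFpqcCover (S := S)) (RepWith @IsOpenImmersion) := by
  intro ι Y Yi g hY hYi hcov X f hX Xi p q hXi hsq
  constructor
  · intro hf i
    exact repWith_of_isPullback _ (hsq i) hf
  · intro H
    have hm : Mono f :=
      (isLocalOnBase_fpqc_monomorphisms Yi g hY hYi hcov f hX Xi p q hXi hsq).2 fun i =>
        mono_of_repWith_mono (repWith_mono isOpenImmersion_le_mono (H i))
    have he : IsEtaleMor f :=
      (isLocalOnBase_fpqc_isEtaleMor Yi g hY hYi hcov f hX Xi p q hXi hsq).2 fun i =>
        isEtaleMor_of_repWith_etale (repWith_mono isOpenImmersion_le_etale (H i))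
    exact repWith_isOpenImmersion_of_mono_etale hX hY f he

theorem bcStable_isSurjectiveMor : BCStable (IsSurjectiveMor (S := S)) :=
  fun _ _ _ _ _ _ _ _ _ _ _ _ sq hf => isSurjectiveMor_of_isPullback sq hf

theorem isLocalOnBase_fpqc_isSurjectiveMor :
    IsLocalOnBase (IsFpqcCover (S := S)) IsSurjectiveMor :=
  isLocalOnBase_fpqc_of bcStable_isSurjectiveMor
    (fun _ _ _ _ f H => affLocal'_surjective f H) fpqcDesc_surjective

set_option backward.isDefEq.respectTransparency.types false in
theorem isLocalOnBase_fpqc_isomorphisms :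
    IsLocalOnBase (IsFpqcCover (S := S)) (MorphismProperty.isomorphisms (Sp S)) := by
  intro ι Y Yi g hY hYi hcov X f hX Xi p q hXi hsq
  constructor
  · intro hf i
    have : IsIso f := hf
    exact MorphismProperty.of_isPullback (P := MorphismProperty.isomorphisms (Sp S)) (hsq i) hf
  · intro H
    have hiso : ∀ i, IsIso (p i) := H
    have hm : Mono f :=
      (isLocalOnBase_fpqc_monomorphisms Yi g hY hYi hcov f hX Xi p q hXi hsq).2 fun i =>
        MorphismProperty.monomorphisms.infer_property _
    have he : IsEtaleMor f :=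
      (isLocalOnBase_fpqc_isEtaleMor Yi g hY hYi hcov f hX Xi p q hXi hsq).2 fun i =>
        isEtaleMor_of_repWith_etale (repWith_of_isIso _ (p i))
    have hs : IsSurjectiveMor f :=
      (isLocalOnBase_fpqc_isSurjectiveMor Yi g hY hYi hcov f hX Xi p q hXi hsq).2 fun i y =>
        ⟨Points.map (inv (p i)) y, by rw [← Points.map_comp, IsIso.inv_hom_id]; exact Points.map_id _⟩
    obtain ⟨U, a, hae, has⟩ := hX.atlas
    have h1 : RepWith @Etale (a ≫ f) := he a hae
    have h2 : RepWith @Surjective (a ≫ f) := by
      refine repWith_surjective_of_isSurjectiveMor h1.rep fun y => ?_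
      obtain ⟨x, rfl⟩ := hs y
      obtain ⟨u, rfl⟩ := points_map_surjective_of_repWith has x
      exact ⟨u, Points.map_comp a f u⟩
    have : Epi (a ≫ f) := epi_of_etale_surjective _ h1 h2
    have : Epi f := epi_of_epi a f
    exact isIso_of_mono_of_epi f

end Groth.Agent.Lib.Helper14.AS
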