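import Groth.Agent.Lib.Helper14.AlgSpPoints3
import Mathlib.AlgebraicGeometry.Morphisms.Descent

/-!
# Quasi-compact algebraic spaces (helper14)
-/

universe u
open CategoryTheory CategoryTheory.Limits AlgebraicGeometry Opposite Topology

namespace Groth.Agent.Lib.Helper14.AS

open AlgSp

variable {S : Scheme.{u}}

theorem ofPt_eq_comp {F : Sp S} {T : Over S} (g : (yon S).obj T ⟶ F) :
    Points.ofPt g = Points.map g ∘ Points.schemeHomeo T :=
  funext fun t => Points.ofPt_eq_map_ofScheme g t

/-- An open subscheme of `U`, as an object over `S`, with its inclusion. -/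
noncomputable def openSub (U : Over S) (V : U.left.Opens) : Over S := Over.mk (V.ι ≫ U.hom)

noncomputable def openSubι (U : Over S) (V : U.left.Opens) : openSub U V ⟶ U :=
  Over.homMk V.ι rfl

instance (U : Over S) (V : U.left.Opens) : IsOpenImmersion (openSubι U V).left :=
  inferInstanceAs (IsOpenImmersion V.ι)

theorem repWith_etale_openSubι (U : Over S) (V : U.left.Opens) :
    RepWith @Etale ((yon S).map (openSubι U V)) :=
  (repWith_yon_map_iff _ _).2 (inferInstanceAs (Etale (openSubι U V).left))

theorem range_openSubι (U : Over S) (V : U.left.Opens) :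
    Set.range (openSubι U V).left = (V : Set U.left) :=
  Scheme.Opens.range_ι V

/-- The restriction of a chart to an open subscheme. -/
theorem repWith_etale_restrict {F : Sp S} {U : Over S} {p : (yon S).obj U ⟶ F}
    (hp : RepWith @Etale p) (V : U.left.Opens) :
    RepWith @Etale ((yon S).map (openSubι U V) ≫ p) :=
  repWith_comp _ (repWith_etale_openSubι U V) hp

theorem range_ofPt_restrict {F : Sp S} {U : Over S} (p : (yon S).obj U ⟶ F) (V : U.left.Opens) :
    Set.range (Points.ofPt ((yon S).map (openSubι U V) ≫ p)) = Points.ofPt p '' (V : Set U.left) := by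
  rw [← range_openSubι, ← Set.range_comp]
  congr 1
  funext v
  exact ofPt_yon_map_comp _ _ _

/-- If the images of `V` cover `|F|`, the restricted chart is surjective. -/
theorem repWith_surjective_restrict {F : Sp S} {U : Over S} {p : (yon S).obj U ⟶ F}
    (hp : RepWith @Etale p) (V : U.left.Opens)
    (hV : Points.ofPt p '' (V : Set U.left) = Set.univ) :
    RepWith @Surjective ((yon S).map (openSubι U V) ≫ p) := by
  refine repWith_surjective_of_isSurjectiveMor (repWith_etale_restrict hp V).rep ?_
  intro x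
  have : x ∈ Set.range (Points.ofPt ((yon S).map (openSubι U V) ≫ p)) := by
    rw [range_ofPt_restrict, hV]; trivial
  obtain ⟨v, rfl⟩ := this
  exact ⟨Points.schemeHomeo _ v, (Points.ofPt_eq_map_ofScheme _ v).symm⟩

/-- An algebraic space is quasi-compact iff its space of points is. -/
theorem isQuasiCompactSp_iff_compactSpace {X : Sp S} (hX : IsAlgSpace X) :
    IsQuasiCompactSp X ↔ CompactSpace (Points X) := by
  constructor
  · rintro ⟨U, p, hpe, hps, hU⟩
    constructor
    have := (isCompact_univ (X := ↥U.left)).image (Points.continuous_ofPt p)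
    rwa [Set.image_univ, Set.range_eq_univ.2 (ofPt_surjective_of_repWith hps)] at this
  · intro hc
    obtain ⟨U, p, hpe, hps⟩ := hX.atlas
    let 𝒰 := U.left.affineCover
    have hopen : ∀ i, IsOpen (Points.ofPt p '' Set.range (𝒰.f i)) := fun i =>
      isOpenMap_ofPt p hpe _ (𝒰.f i).isOpenEmbedding.isOpen_range
    have hcov : (Set.univ : Set (Points X)) ⊆ ⋃ i, Points.ofPt p '' Set.range (𝒰.f i) := by
      intro x _
      obtain ⟨u, rfl⟩ := ofPt_surjective_of_repWith hps x
      exact Set.mem_iUnion.2 ⟨𝒰.idx u, u, 𝒰.covers u, rfl⟩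
    obtain ⟨t, ht⟩ := isCompact_univ.elim_finite_subcover _ hopen hcov
    let V : U.left.Opens := ⨆ i ∈ t, (𝒰.f i).opensRange
    have hVset : (V : Set U.left) = ⋃ i ∈ t, Set.range (𝒰.f i) := by
      simp [V, Scheme.Hom.coe_opensRange]
    have hVc : IsCompact (V : Set U.left) := by
      rw [hVset]
      exact t.finite_toSet.isCompact_biUnion fun i _ => isCompact_range (𝒰.f i).continuous
    have hVcov : Points.ofPt p '' (V : Set U.left) = Set.univ := by
      rw [hVset, Set.image_iUnion₂]
      exact Set.eq_univ_of_univ_subset ht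
    refine ⟨openSub U V, (yon S).map (openSubι U V) ≫ p, repWith_etale_restrict hpe V,
      repWith_surjective_restrict hpe V hVcov, ?_⟩
    exact isCompact_iff_compactSpace.mp hVc

/-- Every point of an algebraic space has a fundamental system of quasi-compact open
neighbourhoods. -/
theorem exists_isOpen_isCompact_nhd {X : Sp S} (hX : IsAlgSpace X) (x : Points X)
    (W : Set (Points X)) (hW : IsOpen W) (hx : x ∈ W) :
    ∃ V : Set (Points X), IsOpen V ∧ IsCompact V ∧ x ∈ V ∧ V ⊆ W := by
  obtain ⟨U, p, hpe, hps⟩ := hX.atlas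
  obtain ⟨u, rfl⟩ := ofPt_surjective_of_repWith hps x
  let W' : U.left.Opens := ⟨Points.ofPt p ⁻¹' W, hW.preimage (Points.continuous_ofPt p)⟩
  obtain ⟨V0, hV0, hu, hsub⟩ := exists_isAffineOpen_mem_and_subset (x := u) (U := W') hx
  refine ⟨Points.ofPt p '' (V0 : Set U.left), isOpenMap_ofPt p hpe _ V0.isOpen,
    hV0.isCompact.image (Points.continuous_ofPt p), ⟨u, hu, rfl⟩, ?_⟩
  rintro _ ⟨v, hv, rfl⟩
  exact hsub hv

/-- A quasi-compact sheaf has an affine etale surjective chart. -/
theorem isQuasiCompactSp_iff_exists_affine_chart {X : Sp S} :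
    IsQuasiCompactSp X ↔
      ∃ (U : Over S) (p : (yon S).obj U ⟶ X),
        IsAffine U.left ∧ RepWith @Etale p ∧ RepWith @Surjective p := by
  constructor
  · rintro ⟨U, p, hpe, hps, hU⟩
    obtain ⟨Y, q, hq1, hq2, hY⟩ :=
      U.left.exists_hom_isAffine_of_isZariskiLocalAtSource @Etale
    let V : Over S := Over.mk (q ≫ U.hom)
    let j : V ⟶ U := Over.homMk q rfl
    have hje : RepWith @Etale ((yon S).map j) := (repWith_yon_map_iff _ _).2 hq2
    have hjs : RepWith @Surjective ((yon S).map j) := (repWith_yon_map_iff _ _).2 hq1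
    exact ⟨V, (yon S).map j ≫ p, hY, repWith_comp _ hje hpe, repWith_comp _ hjs hps⟩
  · rintro ⟨U, p, hU, hpe, hps⟩
    exact ⟨U, p, hpe, hps, inferInstance⟩

end Groth.Agent.Lib.Helper14.AS
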