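import Groth.Agent.Lib.Helper14.AlgSpFibre

/-!
# A sheaf with a representable map to an algebraic space is an algebraic space (helper14)
-/

universe u
open CategoryTheory CategoryTheory.Limits AlgebraicGeometry Opposite

namespace Groth.Agent.Lib.Helper14.AS

open AlgSp

variable {S : Scheme.{u}}

theorem isAlgSpace_of_representable_to {G X : Sp S} (hX : IsAlgSpace X) (a : G ⟶ X)
    (ha : Representable a) : IsAlgSpace G := by
  have hXd := repDiag_of_isAlgSpace hX
  refine ⟨(repDiag_iff G).2 fun U g => ?_, ?_⟩
  · have sq := ha.isPullback (g ≫ a)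
    have h1 : Representable (ha.fst (g ≫ a)) :=
      MorphismProperty.of_isPullback (P := Representable) sq.flip (hXd (g ≫ a))
    have h2 : Representable (sq.lift g (𝟙 _) (by simp)) := representable_of_yon _
    have e : g = sq.lift g (𝟙 _) (by simp) ≫ ha.fst (g ≫ a) := (sq.lift_fst _ _ _).symm
    rw [e]
    exact MorphismProperty.comp_mem _ _ _ h2 h1
  · obtain ⟨U, p, hpe, hps⟩ := hX.atlas
    have sq := ha.isPullback p
    exact ⟨_, ha.fst p, MorphismProperty.of_isPullback (P := RepWith @Etale) sq.flip hpe,
      MorphismProperty.of_isPullback (P := RepWith @Surjective) sq.flip hps⟩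

end Groth.Agent.Lib.Helper14.AS
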