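import Groth.Agent.Lib.Helper14.AlgSpLocP2
import Groth.Agent.Lib.Helper14.AlgSpEtaleMor
import Groth.Prelude.Def_AlgSpDec
import Groth.Agent.Lib.Helper8.AlgSpPres
import Groth.Agent.Lib.Helper14.FpqcBase4
import Groth.Agent.Lib.Lead.SmoothSrcLocal2

/-!
# The seven standard classes etale local on source and target (helper14)
-/

universe u
open CategoryTheory CategoryTheory.Limits AlgebraicGeometry Opposite Topology

namespace Groth.Agent.Lib.Helper14.AS

open AlgSp Groth.Agent.Lib.Helper14.ESL

variable {S : Scheme.{u}}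

theorem etale_le_smooth : (@Etale : MorphismProperty Scheme.{u}) ≤ @Smooth :=
  fun _ _ _ h => by have := h; infer_instance

set_option backward.isDefEq.respectTransparency.types false in
theorem etLocal_smooth : EtLocal @Smooth.{u} :=
  EtLocal.mk' etale_le_smooth Groth.Agent.Lib.Lead.SmoothSrcLocal.srcLocal_smooth

/-- The package of facts about one of the seven standard classes. -/
structure Seven (P : MorphismProperty Scheme.{u}) : Prop where
  et : EtLocal P
  comp : P.IsStableUnderComposition
  bc : P.IsStableUnderBaseChange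
  zar : IsZariskiLocalAtSource P
  le : (@Etale : MorphismProperty Scheme.{u}) ≤ P

set_option backward.isDefEq.respectTransparency.types false in
theorem seven_of (P : MorphismProperty Scheme.{u})
    (hP : P = @LocallyOfFiniteType ∨ P = @LocallyOfFinitePresentation ∨ P = @Flat ∨ P = @Smooth ∨
      P = @Etale ∨
      (∀ ⦃A B : Scheme.{u}⦄ (g : A ⟶ B), P g ↔ (LocallyQuasiFinite g ∧ LocallyOfFiniteType g)) ∨
      (∀ ⦃A B : Scheme.{u}⦄ (g : A ⟶ B), P g ↔ (LocallyOfFiniteType g ∧ FormallyUnramified g))) :
    Seven P := by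
  rcases hP with rfl | rfl | rfl | rfl | rfl | h | h
  · exact ⟨etLocal_lft, inferInstance, inferInstance, inferInstance, etale_le_lft⟩
  · exact ⟨etLocal_lfp, inferInstance, inferInstance, inferInstance, etale_le_lfp⟩
  · exact ⟨etLocal_flat, inferInstance, inferInstance, inferInstance, etale_le_flat⟩
  · exact ⟨etLocal_smooth, inferInstance, inferInstance, inferInstance, etale_le_smooth⟩
  · exact ⟨etLocal_etale, inferInstance, inferInstance, inferInstance, le_rfl⟩
  · have e : P = (@LocallyQuasiFinite.{u} ⊓ @LocallyOfFiniteType : MorphismProperty Scheme.{u}) :=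
      MorphismProperty.ext P (@LocallyQuasiFinite.{u} ⊓ @LocallyOfFiniteType) fun _ _ g => h g
    subst e
    exact ⟨etLocal_lqf_lft, inferInstance, inferInstance, inferInstance,
      fun _ _ f hf => ⟨by have : Etale f := hf; exact etale_locallyQuasiFinite f,
        etale_le_lft _ _ _ hf⟩⟩
  · have e : P = (@LocallyOfFiniteType.{u} ⊓ @FormallyUnramified : MorphismProperty Scheme.{u}) :=
      MorphismProperty.ext P (@LocallyOfFiniteType.{u} ⊓ @FormallyUnramified) fun _ _ g => h g
    subst e
    exact ⟨etLocal_lft_fu, inferInstance, inferInstance, inferInstance,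
      fun _ _ f hf => ⟨etale_le_lft _ _ _ hf, etale_le_formallyUnramified _ _ _ hf⟩⟩

set_option backward.isDefEq.respectTransparency.types false in
/-- `RepWith P` can be checked after base change to an etale surjective chart of the target
(`P` etale local on source and target, stable under base change). -/
theorem repWith_of_etale_chart {P : MorphismProperty Scheme.{u}} (hP : EtLocal P)
    [P.IsStableUnderBaseChange] {F G Q : Sp S} {a : F ⟶ G} (ha : Representable a) {V : Over S}
    (b : (yon S).obj V ⟶ G) (hbe : RepWith @Etale b) (hbs : RepWith @Surjective b)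
    {b' : Q ⟶ F} {a' : Q ⟶ (yon S).obj V} (sq : IsPullback b' a' a b) (h : RepWith P a') :
    RepWith P a := by
  refine MorphismProperty.relative_of_snd ha fun T g => ?_
  change P (ha.snd g).left
  have sqT := hbe.rep.isPullback g
  have he : Etale (hbe.rep.snd g).left := hbe.property_snd g
  have hs : Surjective (hbe.rep.snd g).left := hbs.property _ _ _ sqT
  have sqW := IsPullback.of_hasPullback (ha.snd g) (hbe.rep.snd g)
  have sq1 := sqW.map (yon S)
  have big := sq1.paste_horiz (ha.isPullback g)
  rw [← sqT.w] at big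
  have hw' : ((yon S).map (pullback.fst (ha.snd g) (hbe.rep.snd g)) ≫ ha.fst g) ≫ a =
      ((yon S).map (pullback.snd (ha.snd g) (hbe.rep.snd g)) ≫ hbe.rep.fst g) ≫ b := by
    rw [big.w, Category.assoc]
  have key := IsPullback.of_right (h₁₁ := sq.lift _ _ hw') (by simpa using big) (by simp) sq
  have h1 : P (pullback.snd (ha.snd g) (hbe.rep.snd g)).left :=
    h.property (hbe.rep.fst g) _ _ key
  have h2 : P ((pullback.snd (ha.snd g) (hbe.rep.snd g)).left ≫ (hbe.rep.snd g).left) :=
    hP.comp_etale _ _ h1 he
  have hfe : Etale (pullback.fst (ha.snd g) (hbe.rep.snd g)).left :=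
    MorphismProperty.of_isPullback (P := MorphismProperty.inverseImage @Etale (Over.forget S))
      sqW.flip he
  have hfs : Surjective (pullback.fst (ha.snd g) (hbe.rep.snd g)).left :=
    MorphismProperty.of_isPullback (P := MorphismProperty.inverseImage @Surjective (Over.forget S))
      sqW.flip hs
  have h3 : P ((pullback.fst (ha.snd g) (hbe.rep.snd g)).left ≫ (ha.snd g).left) := by
    rw [← Over.comp_left, sqW.w, Over.comp_left]; exact h2
  exact hP.src _ _ hfe hfs h3

set_option backward.isDefEq.respectTransparency.types false in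
/-- For a representable morphism to an algebraic space, `LocP P` implies `RepWith P`. -/
theorem repWith_of_locP_of_representable {P : MorphismProperty Scheme.{u}} (hP : EtLocal P)
    [P.IsStableUnderBaseChange] {X Y : Sp S} (hY : IsAlgSpace Y) {f : X ⟶ Y}
    (hf : Representable f) (h : LocP P f) : RepWith P f := by
  obtain ⟨V, b, hbe, hbs⟩ := hY.atlas
  have sq := hf.isPullback b
  have hfst : RepWith @Etale (hf.fst b) :=
    MorphismProperty.of_isPullback (P := RepWith @Etale) sq.flip hbe
  have hh : P (hf.snd b).left := h (hf.fst b) b (hf.snd b) hfst hbe sq.w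
  exact repWith_of_etale_chart hP hf b hbe hbs sq ((repWith_yon_map_iff P _).2 hh)

/-- For a representable morphism to an algebraic space and one of the seven standard classes,
`LocP P` agrees with `RepWith P`. -/
theorem locP_iff_repWith_of_representable {P : MorphismProperty Scheme.{u}} (hP : Seven P)
    {X Y : Sp S} (hY : IsAlgSpace Y) {f : X ⟶ Y} (hf : Representable f) :
    LocP P f ↔ RepWith P f := by
  have := hP.comp
  have := hP.bc
  exact ⟨repWith_of_locP_of_representable hP.et hY hf, locP_of_repWith hP.le⟩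

/-- `LocP P` gives `P` at every point in the neighbourhood sense. -/
theorem hasAtMor_nbhd_of_locP {P : MorphismProperty Scheme.{u}} (hP : Seven P) {X Y : Sp S}
    (hX : IsAlgSpace X) (hY : IsAlgSpace Y) (f : X ⟶ Y) (h : LocP P f) (x : Points X) :
    HasAtMor (fun U _ h u => ∃ W : U.Opens, u ∈ W ∧ P (W.ι ≫ h)) f x := by
  obtain ⟨V, b, hbe, hbs⟩ := hY.atlas
  obtain ⟨U, a, k, hae, has, comm⟩ := exists_chart_diagram hX f b hbe hbs
  obtain ⟨u, rfl⟩ := ofPt_surjective_of_repWith has x
  refine ⟨U, V, a, b, k, u, hae, hbe, comm, rfl, ⊤, trivial, ?_⟩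
  exact hP.et.etale_comp _ _ inferInstance (h a b k hae hbe comm)

set_option backward.isDefEq.respectTransparency.types false in
/-- A neighbourhood chart with `P` gives an open subspace through the point on which `f` has
`P` etale locally. -/
theorem exists_open_of_hasAtMor_nbhd {P : MorphismProperty Scheme.{u}} (hP : Seven P)
    (X : Space S) {Y : Sp S} (f : X.obj ⟶ Y) (x : Points X.obj)
    (h : HasAtMor (fun U _ h u => ∃ W : U.Opens, u ∈ W ∧ P (W.ι ≫ h)) f x) :
    ∃ (X' : Space S) (j : X' ⟶ X), RepWith @IsOpenImmersion j.hom ∧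
      x ∈ Set.range (Points.map j.hom) ∧ LocP P (j.hom ≫ f) := by
  obtain ⟨U, V, a, b, k, u, hae, hbe, comm, rfl, W, huW, hW⟩ := h
  let WO : Over S := Over.mk (W.ι ≫ U.hom)
  let ι : WO ⟶ U := Over.homMk W.ι rfl
  have hιe : RepWith @Etale ((yon S).map ι) :=
    (repWith_yon_map_iff _ _).2 (inferInstanceAs (Etale W.ι))
  have hg : RepWith @Etale ((yon S).map ι ≫ a) := repWith_comp _ hιe hae
  have hgE : IsEtaleMor ((yon S).map ι ≫ a) := fun T φ hφ => repWith_comp _ hφ hg
  have hopen : IsOpen (Set.range (Points.map ((yon S).map ι ≫ a))) :=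
    (isOpenMap_points_of_isEtaleMor (IsAlgSpace.yon_obj WO) X.property hgE).isOpen_range
  obtain ⟨X', j, hj, hrange⟩ :=
    Groth.Agent.Lib.Helper8.AlgSpOpenSub.exists_openSubspace X _ hopen
  obtain ⟨g', hg'⟩ := Groth.Agent.Lib.Helper8.AlgSpOpen.exists_factor_of_range_subset j.hom hj
    ((yon S).map ι ≫ a) (by rw [hrange])
  have hje : RepWith @Etale j.hom := repWith_mono isOpenImmersion_le_etale hj
  have hg'e : RepWith @Etale g' := repWith_etale_of_comp g' j.hom hje (by rw [hg']; exact hg)
  have hjm : Mono j.hom := mono_of_repWith_mono (repWith_mono isOpenImmersion_le_mono hj)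
  have hjinj : Function.Injective (Points.map j.hom) :=
    Groth.Agent.Lib.Helper8.AlgSpPres.points_map_injective_of_mono j.hom
  have hg's : RepWith @Surjective g' := by
    refine repWith_surjective_of_isSurjectiveMor
      (X'.property.representable_from_yon g') fun y => ?_
    have : Points.map j.hom y ∈ Set.range (Points.map ((yon S).map ι ≫ a)) := by
      rw [← hrange]; exact ⟨y, rfl⟩
    obtain ⟨w, hw⟩ := this
    refine ⟨w, hjinj ?_⟩
    rw [← hw, ← hg', Points.map_comp]
  refine ⟨X', j, hj, ?_, ?_⟩
  · rw [hrange]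
    refine ⟨Points.ofScheme WO ⟨u, huW⟩, ?_⟩
    rw [← Points.ofPt_eq_map_ofScheme, ofPt_yon_map_comp]
    rfl
  · refine locP_of_chart hP.et (j.hom ≫ f) g' b (ι ≫ k) hg'e hg's hbe ?_ ?_
    · rw [← Category.assoc, hg', Category.assoc, comm, Functor.map_comp, Category.assoc]
    · rw [Over.comp_left]
      exact hW

set_option backward.isDefEq.respectTransparency.types false in
/-- If `f` restricted to an open subspace has `P` etale locally, `f` has `P` at every point of
the open subspace in the neighbourhood sense. -/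
theorem hasAtMor_nbhd_of_open {P : MorphismProperty Scheme.{u}} (hP : Seven P) {X' X Y : Sp S}
    (hX' : IsAlgSpace X') (hY : IsAlgSpace Y) (j : X' ⟶ X) (hj : RepWith @IsOpenImmersion j)
    (f : X ⟶ Y) (h : LocP P (j ≫ f)) (x' : Points X') :
    HasAtMor (fun U _ h u => ∃ W : U.Opens, u ∈ W ∧ P (W.ι ≫ h)) f (Points.map j x') := by
  obtain ⟨U, V, a, b, k, u, hae, hbe, comm, hx, W, huW, hW⟩ :=
    hasAtMor_nbhd_of_locP hP hX' hY (j ≫ f) h x'
  refine ⟨U, V, a ≫ j, b, k, u, repWith_comp _ hae (repWith_mono isOpenImmersion_le_etale hj),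
    hbe, by rw [Category.assoc]; exact comm, ?_, W, huW, hW⟩
  rw [← hx, Points.map_ofPt]

set_option backward.isDefEq.respectTransparency.types false in
/-- `P` at every point in the neighbourhood sense gives `LocP P`. -/
theorem locP_of_forall_hasAtMor_nbhd {P : MorphismProperty Scheme.{u}} (hP : Seven P)
    (X : Space S) {Y : Sp S} (f : X.obj ⟶ Y)
    (h : ∀ x : Points X.obj,
      HasAtMor (fun U _ h u => ∃ W : U.Opens, u ∈ W ∧ P (W.ι ≫ h)) f x) : LocP P f := by
  obtain ⟨U₀, a₀, ha₀e, ha₀s⟩ := X.property.atlas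
  choose X' j hj hx hloc using fun u : U₀.left =>
    exists_open_of_hasAtMor_nbhd hP X f (Points.ofPt a₀ u) (h _)
  have := hP.zar
  refine locP_of_etCover hP.et (fun u => (X' u).obj) (fun u => (j u).hom)
    (fun u => (X' u).property)
    (fun u T φ hφ => repWith_comp _ hφ (repWith_mono isOpenImmersion_le_etale (hj u))) ?_ f hloc
  intro x
  obtain ⟨u, rfl⟩ := ofPt_surjective_of_repWith ha₀s x
  exact ⟨u, hx u⟩

end Groth.Agent.Lib.Helper14.AS
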