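import Mathlib.AlgebraicGeometry.Noetherian
import Mathlib.AlgebraicGeometry.Morphisms.Flat
import Mathlib.AlgebraicGeometry.Morphisms.UniversallyOpen
import Mathlib.AlgebraicGeometry.Morphisms.FinitePresentation
import Mathlib.RingTheory.Flat.FaithfullyFlat.Basic
import Mathlib.RingTheory.RingHom.FaithfullyFlat

/-!
# Local Noetherianity descends along flat surjective morphisms locally of finite presentation
(helper14)
-/

universe u
open CategoryTheory CategoryTheory.Limits AlgebraicGeometry TensorProduct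

namespace Groth.Agent.Lib.Helper14.AS

theorem isNoetherianRing_of_faithfullyFlat {R A : Type u} [CommRing R] [CommRing A]
    (φ : R →+* A) (hφ : φ.FaithfullyFlat) [IsNoetherianRing A] : IsNoetherianRing R := by
  algebraize [φ]
  have : Module.FaithfullyFlat R A := hφ
  have h : IsNoetherian A (A ⊗[R] R) :=
    isNoetherian_of_linearEquiv (AlgebraTensorModule.rid R A A).symm
  exact Submodule.IsNoetherian.of_isNoetherian_tensorProduct_of_faithfullyFlat (A := A) h

set_option backward.isDefEq.respectTransparency.types false in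
theorem isLocallyNoetherian_of_flat_surjective {X Y : Scheme.{u}} (f : X ⟶ Y) [Flat f]
    [LocallyOfFinitePresentation f] [Surjective f] [IsLocallyNoetherian X] :
    IsLocallyNoetherian Y := by
  refine ⟨fun V => ?_⟩
  have hfu : UniversallyOpen f := UniversallyOpen.of_flat f
  have hfo : IsOpenMap f := f.isOpenMap
  -- affine opens of `X` inside the preimage of `V`
  have hex : ∀ x : (f ⁻¹ᵁ V.1 : X.Opens), ∃ B : X.Opens, IsAffineOpen B ∧ x.1 ∈ B ∧
      B.1 ⊆ (f ⁻¹ᵁ V.1 : X.Opens) := fun x =>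
    exists_isAffineOpen_mem_and_subset (x := x.1) (U := f ⁻¹ᵁ V.1) x.2
  choose B hB1 hB2 hB3 using hex
  have hop : ∀ x, IsOpen (f '' (B x : Set X)) := fun x => hfo _ (B x).isOpen
  have hcov : (V.1 : Set Y) ⊆ ⋃ x, f '' (B x : Set X) := by
    intro y hy
    obtain ⟨x, rfl⟩ := f.surjective y
    exact Set.mem_iUnion.2 ⟨⟨x, hy⟩, x, hB2 ⟨x, hy⟩, rfl⟩
  obtain ⟨fin, hfin⟩ := V.2.isCompact.elim_finite_subcover _ hop hcov
  -- the finite coproduct
  let g : fin → Scheme.{u} := fun x => (B x.1 : Scheme)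
  have : ∀ i, IsAffine (g i) := fun i => hB1 i.1
  let ψ : ∀ i : fin, g i ⟶ (V.1 : Scheme) := fun i => f.resLE V.1 (B i.1) (hB3 i.1)
  let Ψ : ∐ g ⟶ (V.1 : Scheme) := Sigma.desc ψ
  have : IsAffine (V.1 : Scheme) := V.2
  have : ∀ i, Flat (ψ i) := fun i => inferInstance
  have hΨf : Flat Ψ := inferInstance
  have hΨs : Surjective Ψ := by
    refine ⟨fun y => ?_⟩
    have hy := hfin y.2
    simp only [Set.mem_iUnion] at hy
    obtain ⟨x, hx, w, hw, hwy⟩ := hy
    refine ⟨Sigma.ι g ⟨x, hx⟩ ⟨w, hw⟩, ?_⟩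
    rw [← Scheme.Hom.comp_apply, Sigma.ι_desc]
    apply V.1.ι.isOpenEmbedding.injective
    rw [← Scheme.Hom.comp_apply, Scheme.Hom.resLE_comp_ι, Scheme.Hom.comp_apply]
    exact hwy
  have hLN : IsLocallyNoetherian (∐ g) := by
    rw [isLocallyNoetherian_iff_openCover (sigmaOpenCover g)]
    intro i
    exact inferInstanceAs (IsLocallyNoetherian (B i.1 : Scheme))
  have hN : IsNoetherianRing Γ(∐ g, ⊤) :=
    hLN.component_noetherian ⟨⊤, isAffineOpen_top _⟩
  have hff : Ψ.appTop.hom.FaithfullyFlat :=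
    (Flat.flat_and_surjective_iff_faithfullyFlat_of_isAffine Ψ).1 ⟨hΨf, hΨs⟩
  have hV : IsNoetherianRing Γ((V.1 : Scheme), ⊤) :=
    isNoetherianRing_of_faithfullyFlat _ hff
  exact isNoetherianRing_of_ringEquiv _ (V.1.topIso.commRingCatIsoToRingEquiv)

end Groth.Agent.Lib.Helper14.AS
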