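import Mathlib
import Groth.Agent.Lib.Helper14.FpqcBase4

/-!
# Unramified morphisms of algebraic spaces and the diagonal (helper14)
-/

universe u
open CategoryTheory CategoryTheory.Limits AlgebraicGeometry Opposite Topology

namespace Groth.Agent.Lib.Helper14.AS

open AlgSp

variable {S : Scheme.{u}}

set_option backward.isDefEq.respectTransparency.types false in
/-- If `f ≫ g` has `P` etale locally, `g` has `Q` etale locally and `P` cancels on the left
against `Q`, then `f` has `P` etale locally. -/
theorem locP_of_postcomp {P Q : MorphismProperty Scheme.{u}} (hP : EtLocal P)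
    (hc : ∀ ⦃A B C : Scheme.{u}⦄ (f : A ⟶ B) (g : B ⟶ C), Q g → P (f ≫ g) → P f)
    {X Y Z : Sp S} (hZ : IsAlgSpace Z) (f : X ⟶ Y) (g : Y ⟶ Z) (hg : LocP Q g)
    (hfg : LocP P (f ≫ g)) : LocP P f := by
  intro U V a b h ha hb comm
  obtain ⟨W, c, hce, hcs⟩ := hZ.atlas
  have sqV := hce.rep.isPullback (b ≫ g)
  have he : Etale (hce.rep.snd (b ≫ g)).left := hce.property_snd _
  have hs : Surjective (hce.rep.snd (b ≫ g)).left := hcs.property _ _ _ sqV
  obtain ⟨w1, hw1⟩ := (yon S).map_surjective (hce.rep.fst (b ≫ g))
  have sqU := IsPullback.of_hasPullback h (hce.rep.snd (b ≫ g))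
  have hfe : Etale (pullback.fst h (hce.rep.snd (b ≫ g))).left :=
    MorphismProperty.of_isPullback (P := MorphismProperty.inverseImage @Etale (Over.forget S))
      sqU.flip he
  have hfs : Surjective (pullback.fst h (hce.rep.snd (b ≫ g))).left :=
    MorphismProperty.of_isPullback (P := MorphismProperty.inverseImage @Surjective (Over.forget S))
      sqU.flip hs
  have ha' : RepWith @Etale ((yon S).map (pullback.fst h (hce.rep.snd (b ≫ g))) ≫ a) :=
    repWith_comp _ ((repWith_yon_map_iff _ _).2 hfe) ha
  have hb' : RepWith @Etale ((yon S).map (hce.rep.snd (b ≫ g)) ≫ b) :=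
    repWith_comp _ ((repWith_yon_map_iff _ _).2 he) hb
  have commg : ((yon S).map (hce.rep.snd (b ≫ g)) ≫ b) ≫ g = (yon S).map w1 ≫ c := by
    rw [Category.assoc, hw1, sqV.w]
  have hQ : Q w1.left := hg _ c _ hb' hce commg
  have comm' : ((yon S).map (pullback.fst h (hce.rep.snd (b ≫ g))) ≫ a) ≫ f ≫ g =
      (yon S).map (pullback.snd h (hce.rep.snd (b ≫ g)) ≫ w1) ≫ c := by
    rw [Category.assoc, reassoc_of% comm, ← Functor.map_comp_assoc, sqU.w, Functor.map_comp,
      Functor.map_comp, Category.assoc, Category.assoc, hw1, sqV.w]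
  have h1 : P ((pullback.snd h (hce.rep.snd (b ≫ g))).left ≫ w1.left) :=
    hfg _ c _ ha' hce comm'
  have h2 : P (pullback.snd h (hce.rep.snd (b ≫ g))).left := hc _ _ hQ h1
  have h3 : P ((pullback.snd h (hce.rep.snd (b ≫ g))).left ≫ (hce.rep.snd (b ≫ g)).left) :=
    hP.comp_etale _ _ h2 he
  have h4 : P ((pullback.fst h (hce.rep.snd (b ≫ g))).left ≫ h.left) := by
    rw [← Over.comp_left, sqU.w, Over.comp_left]; exact h3
  exact hP.src _ _ hfe hfs h4

set_option backward.isDefEq.respectTransparency.types false in
/-- The diagonal of an unramified morphism of algebraic spaces is a representable open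
immersion. -/
theorem repWith_isOpenImmersion_diagonal_of_unramified {X Y : Sp S} (hX : IsAlgSpace X)
    (hY : IsAlgSpace Y) (f : X ⟶ Y)
    (hf : LocP (@LocallyOfFiniteType ⊓ @FormallyUnramified) f) :
    RepWith @IsOpenImmersion (pullback.diagonal f) := by
  have sq := IsPullback.of_hasPullback f f
  have hP : IsAlgSpace (pullback f f) :=
    isAlgSpace_of_isPullback (repDiag_of_isAlgSpace hY) hX hX sq
  have h2 : LocP (@LocallyOfFiniteType ⊓ @FormallyUnramified) (pullback.snd f f) :=
    locP_baseChange etLocal_lft_fu hX hY hX f f _ _ sq hf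
  have h1 : LocP @Etale (pullback.diagonal f ≫ pullback.snd f f) := by
    rw [pullback.diagonal_snd]
    exact locP_etale_of_isEtaleMor (fun _ φ hφ => by rwa [Category.comp_id])
  have h3 : LocP @Etale (pullback.diagonal f) :=
    locP_of_postcomp etLocal_etale
      (fun _ _ _ f g hg hfg => MorphismProperty.of_postcomp (W := @Etale)
        (W' := @LocallyOfFiniteType ⊓ @FormallyUnramified) f g hg hfg)
      hX (pullback.diagonal f) (pullback.snd f f) h2 h1
  exact repWith_isOpenImmersion_of_mono_etale hX hP _ (isEtaleMor_of_locP_etale hP h3)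

set_option backward.isDefEq.respectTransparency.types false in
/-- A morphism of algebraic spaces locally of finite type whose diagonal is a representable
open immersion is unramified. -/
theorem locP_unramified_of_diagonal {X Y : Sp S} (hX : IsAlgSpace X) (f : X ⟶ Y)
    (hft : LocP @LocallyOfFiniteType f)
    (hΔ : RepWith @IsOpenImmersion (pullback.diagonal f)) :
    LocP (@LocallyOfFiniteType ⊓ @FormallyUnramified) f := by
  intro U V a b h ha hb comm
  refine ⟨hft a b h ha hb comm, ?_⟩
  have hUU : IsAlgSpace (pullback a a) :=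
    isAlgSpace_of_isPullback (repDiag_of_isAlgSpace hX) (IsAlgSpace.yon_obj U)
      (IsAlgSpace.yon_obj U) (IsPullback.of_hasPullback a a)
  have hΔa : RepWith @IsOpenImmersion (pullback.diagonal a) :=
    repWith_isOpenImmersion_of_mono_etale (IsAlgSpace.yon_obj U) hUU _
      (isEtaleMor_of_repWith_etale (repWith_etale_diagonal ha))
  have h1 : RepWith @IsOpenImmersion (pullback.diagonal (a ≫ f)) := by
    rw [pullback.diagonal_comp]
    refine repWith_comp _ hΔa (repWith_comp _ (repWith_of_isIso _ _) ?_)
    exact MorphismProperty.of_isPullback (P := RepWith @IsOpenImmersion)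
      (IsPullback.of_hasPullback _ _) hΔ
  have h1' : RepWith @IsOpenImmersion (pullback.diagonal ((yon S).map h ≫ b)) := by
    have key : ∀ (k : (yon S).obj U ⟶ Y), k = a ≫ f →
        RepWith @IsOpenImmersion (pullback.diagonal k) := by
      rintro k rfl; exact h1
    exact key _ comm.symm
  rw [pullback.diagonal_comp] at h1'
  have hiso : IsIso (pullback.diagonal ((pullbackDiagonalMapIdIso ((yon S).map h)
      ((yon S).map h) b).inv ≫ pullback.snd _ _)) :=
    (pullback.isIso_diagonal_iff _).2 inferInstance
  have h2 : RepWith @IsOpenImmersion (pullback.diagonal ((yon S).map h)) :=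
    repWith_of_comp_of_diagonal _ _ @IsOpenImmersion (repWith_of_isIso _ _) h1'
  have h3 : IsOpenImmersion (pullback.diagonal h.left) :=
    (repWith_diagonal_yon_map_iff _ h).1 h2
  infer_instance

end Groth.Agent.Lib.Helper14.AS
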