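import Groth.Agent.Lib.Helper14.AlgSpFieldPts

/-!
# Universally injective morphisms of algebraic spaces, general case (helper14)
-/

universe u
open CategoryTheory CategoryTheory.Limits AlgebraicGeometry Opposite Topology

namespace Groth.Agent.Lib.Helper14.AS

open AlgSp

variable {S : Scheme.{u}}

/-- Injectivity on field-valued points. -/
def FieldInj {X Y : Sp S} (f : X ⟶ Y) : Prop :=
  ∀ (K : Type u) [Field K] (str : Spec (CommRingCat.of K) ⟶ S),
    Function.Injective (fun a : (yon S).obj (Over.mk str) ⟶ X => a ≫ f)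

theorem FieldInj.of_isPullback {X Y T T' : Sp S} {f : X ⟶ Y} {t : T ⟶ Y} {a : T' ⟶ X}
    {q : T' ⟶ T} (sq : IsPullback a q f t) (h : FieldInj f) : FieldInj q := by
  intro K _ str α α' hα
  change α ≫ q = α' ≫ q at hα
  apply sq.hom_ext _ hα
  apply h K str
  change (α ≫ a) ≫ f = (α' ≫ a) ≫ f
  rw [Category.assoc, Category.assoc, sq.w, ← Category.assoc, ← Category.assoc, hα]

theorem FieldInj.injective_points {X Y : Sp S} {f : X ⟶ Y} (h : FieldInj f) :
    Function.Injective (Points.map f) := by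
  intro x x' hxx
  obtain ⟨K, _, strK, a, rfl⟩ := exists_fpt_eq x
  obtain ⟨L, _, strL, b, rfl⟩ := exists_fpt_eq x'
  rw [map_fpt, map_fpt, fpt_eq_iff] at hxx
  obtain ⟨Ω, _, w, i, j, hij⟩ := hxx
  rw [fpt_eq_iff]
  refine ⟨Ω, inferInstance, w, i, j, ?_⟩
  apply h Ω w
  change ((yon S).map i ≫ a) ≫ f = ((yon S).map j ≫ b) ≫ f
  rw [Category.assoc, Category.assoc]
  exact hij

theorem isUnivInjectiveMor_of_fieldInj {X Y : Sp S} {f : X ⟶ Y} (h : FieldInj f) :
    IsUnivInjectiveMor f := by
  intro T T' _ t a q sq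
  exact (h.of_isPullback sq).injective_points

theorem isSurjectiveMor_diagonal_of_isUnivInjectiveMor {X Y : Sp S} (hX : IsAlgSpace X)
    {f : X ⟶ Y} (h : IsUnivInjectiveMor f) : IsSurjectiveMor (pullback.diagonal f) := by
  intro w
  have hinj := h hX f _ _ (IsPullback.of_hasPullback f f)
  refine ⟨Points.map (pullback.snd f f) w, ?_⟩
  apply hinj
  rw [← Points.map_comp, pullback.diagonal_snd, Points.map_id]

set_option backward.isDefEq.respectTransparency false in
theorem fieldInj_of_isSurjectiveMor_diagonal {X Y : Sp S} (hX : Representable (Limits.diag X))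
    {f : X ⟶ Y} (h : IsSurjectiveMor (pullback.diagonal f)) : FieldInj f := by
  intro K _ str a a' haa
  change a ≫ f = a' ≫ f at haa
  obtain ⟨x, hx⟩ := h (fpt (pullback.lift a a' haa))
  obtain ⟨L, _, strL, b, rfl⟩ := exists_fpt_eq x
  rw [map_fpt, fpt_eq_iff] at hx
  obtain ⟨Ω, _, w, i, j, hij⟩ := hx
  have e1 := congrArg (· ≫ pullback.fst f f) hij
  have e2 := congrArg (· ≫ pullback.snd f f) hij
  simp only [Category.assoc, pullback.diagonal_fst, pullback.diagonal_snd, Category.comp_id,
    pullback.lift_fst, pullback.lift_snd] at e1 e2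
  exact eq_of_comp_field_ext hX j a a' (e1.symm.trans e2)

end Groth.Agent.Lib.Helper14.AS
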