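import Groth.Agent.Lib.Helper14.WhereLoc
import Groth.Agent.Lib.Helper14.AlgSpUnram
import Groth.Agent.Lib.Helper14.AlgSpImm
import Groth.Agent.S9938

universe u
set_option linter.style.haveILetI false
set_option linter.unusedSectionVars false
open CategoryTheory CategoryTheory.Limits AlgebraicGeometry Opposite Topology

namespace Groth.Agent.Lib.Helper14.AS
open AlgSp

variable {S : Scheme.{u}}

theorem bc_locus_iff {X Z Z' X' : Sp S} (p : X ⟶ Z) (g : Z' ⟶ Z) (gX : X' ⟶ X) (p' : X' ⟶ Z')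
    (sq : IsPullback gX p' p g) (O : Set (Points X)) :
    (∀ x', Points.map gX x' ∈ O) ↔ ∀ z', Points.map g z' ∈ (Points.map p '' Oᶜ)ᶜ := by
  constructor
  · rintro H z' ⟨x, hx, hpx⟩
    obtain ⟨x', hx'1, -⟩ := points_exists_of_isPullback sq x z' hpx
    exact hx (hx'1 ▸ H x')
  · intro H x'
    by_contra hx
    refine H (Points.map p' x') ⟨Points.map gX x', hx, ?_⟩
    rw [← Points.map_comp, ← Points.map_comp, sq.w]

set_option backward.isDefEq.respectTransparency.types false in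
/-- the diagonal restricted to an open subspace on which `f` is unramified is an open immersion
into `X ×_Y X` -/
theorem repWith_openImmersion_diag_restrict {X Y X₁ XX : Sp S}
    (hY : IsAlgSpace Y) (hX₁ : IsAlgSpace X₁) (f : X ⟶ Y) (j : X₁ ⟶ X)
    (hj : RepWith @IsOpenImmersion j) (pr0 pr1 : XX ⟶ X) (hXX : IsPullback pr0 pr1 f f)
    (hjf : LocP (@LocallyOfFiniteType ⊓ @FormallyUnramified) (j ≫ f))
    (Δ : X ⟶ XX) (hΔ0 : Δ ≫ pr0 = 𝟙 X) (hΔ1 : Δ ≫ pr1 = 𝟙 X) :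
    RepWith @IsOpenImmersion (j ≫ Δ) := by
  have sq₁ := IsPullback.of_hasPullback j pr0
  have sqA : IsPullback (pullback.snd j pr0 ≫ pr1) (pullback.fst j pr0) f (j ≫ f) :=
    sq₁.flip.paste_horiz hXX.flip
  have sq₂ := IsPullback.of_hasPullback (pullback.snd j pr0 ≫ pr1) j
  have sqB : IsPullback (pullback.fst (pullback.snd j pr0 ≫ pr1) j ≫ pullback.fst j pr0)
      (pullback.snd (pullback.snd j pr0 ≫ pr1) j) (j ≫ f) (j ≫ f) :=
    sq₂.paste_horiz sqA.flip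
  have hv₁ : RepWith @IsOpenImmersion (pullback.snd j pr0) := repWith_of_isPullback _ sq₁ hj
  have hu₂ : RepWith @IsOpenImmersion (pullback.fst (pullback.snd j pr0 ≫ pr1) j) :=
    repWith_of_isPullback _ sq₂.flip hj
  have hm : RepWith @IsOpenImmersion
      (pullback.fst (pullback.snd j pr0 ≫ pr1) j ≫ pullback.snd j pr0) :=
    repWith_comp _ hu₂ hv₁
  have hdiag := repWith_isOpenImmersion_diagonal_of_unramified hX₁ hY (j ≫ f) hjf
  have hδ : RepWith @IsOpenImmersion (pullback.diagonal (j ≫ f) ≫ sqB.isoPullback.inv) :=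
    repWith_comp _ hdiag (repWith_of_isIso _ _)
  have hfac : j ≫ Δ = (pullback.diagonal (j ≫ f) ≫ sqB.isoPullback.inv) ≫
      (pullback.fst (pullback.snd j pr0 ≫ pr1) j ≫ pullback.snd j pr0) := by
    apply hXX.hom_ext
    · rw [Category.assoc, hΔ0, Category.comp_id, Category.assoc, Category.assoc, Category.assoc,
        ← sq₁.w, ← Category.assoc (pullback.fst _ _), ← Category.assoc sqB.isoPullback.inv,
        sqB.isoPullback_inv_fst, ← Category.assoc, pullback.diagonal_fst, Category.id_comp]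
    · rw [Category.assoc, hΔ1, Category.comp_id, Category.assoc, Category.assoc, Category.assoc,
        sq₂.w, ← Category.assoc sqB.isoPullback.inv,
        sqB.isoPullback_inv_snd, ← Category.assoc, pullback.diagonal_snd, Category.id_comp]
  rw [hfac]
  exact repWith_comp _ hδ hm


theorem exists_fieldHom_of_point {F : Sp S} (x : Points F) :
    ∃ (K : Type u) (_ : Field K) (str : Spec (CommRingCat.of K) ⟶ S)
      (a : (yon S).obj (Over.mk str) ⟶ F),
      ∀ s : ↥(Spec (CommRingCat.of K)), Points.ofPt a s = x := by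
  induction x using Points.ind with
  | h p => exact ⟨p.K, inferInstance, p.str, p.toHom, fun s => Points.ofPt_toHom p s⟩

set_option backward.isDefEq.respectTransparency.types false in
theorem exists_factor_fieldHom {F F₁ : Sp S} {K : Type u} [Field K]
    {str : Spec (CommRingCat.of K) ⟶ S}
    (a : (yon S).obj (Over.mk str) ⟶ F) (ι : F₁ ⟶ F) (hι : RepWith @IsOpenImmersion ι)
    (s : ↥(Spec (CommRingCat.of K))) (h : Points.ofPt a s ∈ Set.range (Points.map ι)) :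
    ∃ a₁ : (yon S).obj (Over.mk str) ⟶ F₁, a₁ ≫ ι = a := by
  apply Groth.Agent.Lib.Helper8.AlgSpOpen.exists_factor_of_range_subset ι hι a
  rintro _ ⟨y, rfl⟩
  obtain ⟨t, rfl⟩ := (Points.schemeHomeo (Over.mk str)).surjective y
  have ht : t = s := Subsingleton.elim (α := PrimeSpectrum K) t s
  have : Points.map a ((Points.schemeHomeo (Over.mk str)) t) = Points.ofPt a t :=
    (Points.ofPt_eq_map_ofScheme a t).symm
  rw [this, ht]
  exact h

set_option backward.isDefEq.respectTransparency.types false in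
/-- the general "where `R` holds" open subspace, from an open set of the base -/
theorem where_of_set {X Y Z : Space S} (f : X ⟶ Y) (q : Y ⟶ Z)
    (R : ∀ ⦃X' Y' : Space S⦄, (X' ⟶ Y') → Prop)
    (E : Set (Points Z.obj)) (hE : IsOpen E)
    (hR : ∀ (Z' : Space S) (g : Z' ⟶ Z) (Y' : Space S) (gY : Y' ⟶ Y) (q' : Y' ⟶ Z'),
      IsPullback gY.hom q'.hom q.hom g.hom →
        ∀ (X' : Space S) (gX : X' ⟶ X) (f' : X' ⟶ Y'), IsPullback gX.hom f'.hom f.hom gY.hom →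
          (R f' ↔ ∀ z' : Points Z'.obj, Points.map g.hom z' ∈ E)) :
    ∃ (W : Space S) (w : W ⟶ Z), RepWith @IsOpenImmersion w.hom ∧
      ∀ (Z' : Space S) (g : Z' ⟶ Z), (∃ k : Z' ⟶ W, k ≫ w = g) ↔
        ∀ (Y' : Space S) (gY : Y' ⟶ Y) (q' : Y' ⟶ Z'), IsPullback gY.hom q'.hom q.hom g.hom →
          ∀ (X' : Space S) (gX : X' ⟶ X) (f' : X' ⟶ Y'),
            IsPullback gX.hom f'.hom f.hom gY.hom → R f' := by
  obtain ⟨W, w, hw, hrange⟩ := Groth.Agent.Lib.Helper8.AlgSpOpenSub.exists_openSubspace Z _ hE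
  refine ⟨W, w, hw, fun Z' g => ⟨?_, ?_⟩⟩
  · rintro ⟨k, rfl⟩ Y' gY q' sqY X' gX f' sqX
    rw [hR _ _ Y' gY q' sqY X' gX f' sqX]
    intro z'
    rw [← hrange, show (k ≫ w).hom = k.hom ≫ w.hom from rfl, Points.map_comp]
    exact ⟨_, rfl⟩
  · intro H
    have sqY := IsPullback.of_hasPullback q.hom g.hom
    have hY' : IsAlgSpace (pullback q.hom g.hom) :=
      isAlgSpace_of_isPullback (repDiag_of_isAlgSpace Z.2) Y.2 Z'.2 sqY
    have sqX := IsPullback.of_hasPullback f.hom (pullback.fst q.hom g.hom)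
    have hX' : IsAlgSpace (pullback f.hom (pullback.fst q.hom g.hom)) :=
      isAlgSpace_of_isPullback (repDiag_of_isAlgSpace Y.2) X.2 hY' sqX
    have hRf := H ⟨_, hY'⟩ (ObjectProperty.homMk (pullback.fst q.hom g.hom))
      (ObjectProperty.homMk (pullback.snd q.hom g.hom)) sqY ⟨_, hX'⟩
      (ObjectProperty.homMk (pullback.fst f.hom (pullback.fst q.hom g.hom)))
      (ObjectProperty.homMk (pullback.snd f.hom (pullback.fst q.hom g.hom))) sqX
    rw [hR _ _ _ _ _ sqY _ _ _ sqX] at hRf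
    obtain ⟨k0, hk0⟩ := Groth.Agent.Lib.Helper8.AlgSpOpen.exists_factor_of_range_subset w.hom hw
      g.hom (by rintro _ ⟨z', rfl⟩; rw [hrange]; exact hRf z')
    exact ⟨ObjectProperty.homMk k0, ObjectProperty.hom_ext _ hk0⟩


set_option backward.isDefEq.respectTransparency.types false in
theorem ui_iff_of_bc {X Y Z XX X₁ : Space S} (f : X ⟶ Y) (q : Y ⟶ Z)
    (pr0 pr1 : XX ⟶ X) (hXX : IsPullback pr0.hom pr1.hom f.hom f.hom)
    (Δ : X.obj ⟶ XX.obj) (hΔ0 : Δ ≫ pr0.hom = 𝟙 _) (hΔ1 : Δ ≫ pr1.hom = 𝟙 _)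
    (j : X₁ ⟶ X) (E₁ : Set (Points Z.obj))
    (hjr : Set.range (Points.map j.hom) = Points.map (f.hom ≫ q.hom) ⁻¹' E₁)
    (hι : RepWith @IsOpenImmersion (j.hom ≫ Δ))
    {Z' Y' X' : Space S} (g : Z' ⟶ Z) (gY : Y' ⟶ Y) (q' : Y' ⟶ Z')
    (sqY : IsPullback gY.hom q'.hom q.hom g.hom)
    (gX : X' ⟶ X) (f' : X' ⟶ Y') (sqX : IsPullback gX.hom f'.hom f.hom gY.hom)
    (h1 : ∀ z', Points.map g.hom z' ∈ E₁) :
    IsUnivInjectiveMor f'.hom ↔ ∀ z', Points.map g.hom z' ∈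
      (Points.map (pr1.hom ≫ f.hom ≫ q.hom) '' (Set.range (Points.map (j.hom ≫ Δ)))ᶜ)ᶜ := by
  rw [← (Groth.Agent.S9938.result f').1]
  constructor
  · rintro hinj z' ⟨ξ, hξ, hπ⟩
    have sqP := IsPullback.of_hasPullback (pr1.hom ≫ f.hom ≫ q.hom) g.hom
    obtain ⟨ρ, hρ1, hρ2⟩ := points_exists_of_isPullback sqP ξ z' hπ
    obtain ⟨K, _, str, a, ha⟩ := exists_fieldHom_of_point ρ
    obtain ⟨s⟩ : Nonempty ↥(Spec (CommRingCat.of K)) := inferInstance
    obtain ⟨ξK, zK, hcond, hξpt⟩ : ∃ (ξK : (yon S).obj (Over.mk str) ⟶ XX.obj)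
        (zK : (yon S).obj (Over.mk str) ⟶ Z'.obj),
        ξK ≫ pr1.hom ≫ f.hom ≫ q.hom = zK ≫ g.hom ∧ Points.ofPt ξK s = ξ := by
      refine ⟨a ≫ pullback.fst _ _, a ≫ pullback.snd _ _, ?_, ?_⟩
      · rw [Category.assoc, Category.assoc, pullback.condition]
      · rw [← Points.map_ofPt, ha s, hρ1]
    have hy : (ξK ≫ pr1.hom ≫ f.hom) ≫ q.hom = zK ≫ g.hom := by
      rw [← hcond]
      simp only [Category.assoc]
    have e1 : (ξK ≫ pr0.hom) ≫ f.hom = sqY.lift _ _ hy ≫ gY.hom := by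
      rw [sqY.lift_fst, Category.assoc, hXX.w]
    have e2 : (ξK ≫ pr1.hom) ≫ f.hom = sqY.lift _ _ hy ≫ gY.hom := by
      rw [sqY.lift_fst, Category.assoc]
    have hlift : sqX.lift _ _ e1 = sqX.lift _ _ e2 :=
      hinj K str (by
        change sqX.lift _ _ e1 ≫ f'.hom = sqX.lift _ _ e2 ≫ f'.hom
        rw [sqX.lift_snd, sqX.lift_snd])
    have hx12 : ξK ≫ pr0.hom = ξK ≫ pr1.hom := by
      have := congrArg (fun k => k ≫ gX.hom) hlift
      simpa only [sqX.lift_fst] using this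
    have hξK : ξK = (ξK ≫ pr0.hom) ≫ Δ := by
      apply hXX.hom_ext
      · rw [Category.assoc _ Δ, hΔ0, Category.comp_id]
      · rw [Category.assoc _ Δ, hΔ1, Category.comp_id, hx12]
    have hx1 : Points.ofPt (ξK ≫ pr0.hom) s ∈ Set.range (Points.map j.hom) := by
      rw [hjr]
      have e3 : Points.map (f.hom ≫ q.hom) (Points.ofPt (ξK ≫ pr0.hom) s) =
          Points.map g.hom (Points.ofPt zK s) := by
        rw [Points.map_ofPt, Points.map_ofPt, hx12, ← hcond]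
        simp only [Category.assoc]
      exact (Set.mem_preimage.2 (e3 ▸ h1 _))
    obtain ⟨x₁', hx₁'⟩ := hx1
    apply hξ
    refine ⟨x₁', ?_⟩
    rw [Points.map_comp, hx₁', Points.map_ofPt, ← hξK, hξpt]
  · intro H K _ str a₁ a₂ h12
    change a₁ ≫ f'.hom = a₂ ≫ f'.hom at h12
    obtain ⟨s⟩ : Nonempty ↥(Spec (CommRingCat.of K)) := inferInstance
    have hxf : (a₁ ≫ gX.hom) ≫ f.hom = (a₂ ≫ gX.hom) ≫ f.hom := by
      rw [Category.assoc, Category.assoc, sqX.w, ← Category.assoc, ← Category.assoc, h12]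
    obtain ⟨ξK, hξ0, hξ1⟩ : ∃ ξK : (yon S).obj (Over.mk str) ⟶ XX.obj,
        ξK ≫ pr0.hom = a₁ ≫ gX.hom ∧ ξK ≫ pr1.hom = a₂ ≫ gX.hom :=
      ⟨hXX.lift _ _ hxf, hXX.lift_fst _ _ _, hXX.lift_snd _ _ _⟩
    have hπ : ξK ≫ pr1.hom ≫ f.hom ≫ q.hom = (a₂ ≫ f'.hom ≫ q'.hom) ≫ g.hom := by
      rw [← Category.assoc, hξ1]
      simp only [Category.assoc]
      rw [← sqY.w, ← Category.assoc gX.hom, sqX.w]
      simp only [Category.assoc]
    have hmem : Points.ofPt ξK s ∈ Set.range (Points.map (j.hom ≫ Δ)) := by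
      by_contra hn
      refine H (Points.ofPt (a₂ ≫ f'.hom ≫ q'.hom) s) ⟨_, hn, ?_⟩
      rw [Points.map_ofPt, Points.map_ofPt, hπ]
    obtain ⟨a₀, ha₀⟩ := exists_factor_fieldHom _ _ hι s hmem
    have hx12 : a₁ ≫ gX.hom = a₂ ≫ gX.hom := by
      rw [← hξ0, ← hξ1, ← ha₀]
      simp only [Category.assoc, hΔ0, hΔ1]
    exact sqX.hom_ext hx12 h12


theorem isOpenImmersion_le_universallyOpen :
    (@IsOpenImmersion : MorphismProperty Scheme.{u}) ≤ @UniversallyOpen :=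
  fun _ _ _ h => by have := h; infer_instance

set_option backward.isDefEq.respectTransparency.types false in
theorem where_unr_ui_sp {X Y Z : Space S} (f : X ⟶ Y) (p : X ⟶ Z) (q : Y ⟶ Z) (hc : f ≫ q = p)
    (XX : Space S) (pr0 pr1 : XX ⟶ X) (hXX : IsPullback pr0.hom pr1.hom f.hom f.hom)
    (hp1 : LocP @LocallyOfFiniteType p.hom) (hp2 : IsClosedMor p.hom)
    (hp3 : IsClosedMor (pr1 ≫ p).hom) :
    ∃ (W : Space S) (w : W ⟶ Z), RepWith @IsOpenImmersion w.hom ∧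
      ∀ (Z' : Space S) (g : Z' ⟶ Z), (∃ k : Z' ⟶ W, k ≫ w = g) ↔
        ∀ (Y' : Space S) (gY : Y' ⟶ Y) (q' : Y' ⟶ Z'), IsPullback gY.hom q'.hom q.hom g.hom →
          ∀ (X' : Space S) (gX : X' ⟶ X) (f' : X' ⟶ Y'),
            IsPullback gX.hom f'.hom f.hom gY.hom →
              (LocP (@LocallyOfFiniteType ⊓ @FormallyUnramified) f'.hom ∧
                IsUnivInjectiveMor f'.hom) := by
  subst hc
  have hp1' : LocP @LocallyOfFiniteType (f.hom ≫ q.hom) := hp1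
  have hp2' : IsClosedMap (Points.map (f.hom ≫ q.hom)) := hp2
  have hp3' : IsClosedMap (Points.map (pr1.hom ≫ f.hom ≫ q.hom)) := hp3
  have hf : LocP @LocallyOfFiniteType f.hom := locP_lft_of_comp Z.2 f.hom q.hom hp1'
  have hO : IsOpen {x : Points X.obj |
      HasAtMor (Near (@LocallyOfFiniteType ⊓ @FormallyUnramified)) f.hom x} :=
    isOpen_hasAtMor_near etLocal_lft_fu X.2 Y.2 f.hom
  have hE₁ := (hp2' _ hO.isClosed_compl).isOpen_compl
  obtain ⟨X₁, j, hj, hjr⟩ := Groth.Agent.Lib.Helper8.AlgSpOpenSub.exists_openSubspace X _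
    (hE₁.preimage (Points.continuous_map (f.hom ≫ q.hom)))
  have hjE : IsEtaleMor j.hom := isEtaleMor_of_repWith_isOpenImmersion hj
  have hjf : LocP (@LocallyOfFiniteType ⊓ @FormallyUnramified) (j.hom ≫ f.hom) := by
    refine locP_of_forall_hasAtMor_near etLocal_lft_fu _ fun x₁ => ?_
    rw [hasAtMor_comp_isEtaleMor_iff (etSqInv_near etLocal_lft_fu) X₁.2 Y.2 j.hom hjE f.hom x₁]
    have hmem : Points.map j.hom x₁ ∈ Set.range (Points.map j.hom) := ⟨x₁, rfl⟩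
    rw [hjr] at hmem
    by_contra hx
    exact hmem ⟨_, hx, rfl⟩
  obtain ⟨Δ, hΔ0, hΔ1⟩ : ∃ Δ : X.obj ⟶ XX.obj, Δ ≫ pr0.hom = 𝟙 _ ∧ Δ ≫ pr1.hom = 𝟙 _ :=
    ⟨hXX.lift (𝟙 _) (𝟙 _) rfl, hXX.lift_fst _ _ _, hXX.lift_snd _ _ _⟩
  have hι := repWith_openImmersion_diag_restrict Y.2 X₁.2 f.hom j.hom hj pr0.hom pr1.hom hXX hjf
    Δ hΔ0 hΔ1
  have hD₁ : IsOpen (Set.range (Points.map (j.hom ≫ Δ))) :=
    (isOpenMap_points_of_repWith_universallyOpen XX.2
      (repWith_mono isOpenImmersion_le_universallyOpen hι)).isOpen_range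
  have hE₂ := (hp3' _ hD₁.isClosed_compl).isOpen_compl
  refine where_of_set f q
    (fun X' Y' f' => LocP (@LocallyOfFiniteType ⊓ @FormallyUnramified) f'.hom ∧
      IsUnivInjectiveMor f'.hom) _ (hE₁.inter hE₂) ?_
  intro Z' g Y' gY q' sqY X' gX f' sqX
  have big : IsPullback gX.hom (f'.hom ≫ q'.hom) (f.hom ≫ q.hom) g.hom := sqX.paste_vert sqY
  have hunr : LocP (@LocallyOfFiniteType ⊓ @FormallyUnramified) f'.hom ↔
      ∀ z', Points.map g.hom z' ∈ (Points.map (f.hom ≫ q.hom) '' {x : Points X.obj |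
        HasAtMor (Near (@LocallyOfFiniteType ⊓ @FormallyUnramified)) f.hom x}ᶜ)ᶜ := by
    rw [← bc_locus_iff (f.hom ≫ q.hom) g.hom gX.hom (f'.hom ≫ q'.hom) big]
    constructor
    · intro hf' x'
      exact (hasAtMor_unr_baseChange_iff X.2 Y.2 Y'.2 f.hom gY.hom gX.hom f'.hom sqX hf x').1
        (hasAtMor_near_of_locP etLocal_lft_fu X'.2 Y'.2 f'.hom hf' x')
    · intro H
      exact locP_of_forall_hasAtMor_near etLocal_lft_fu f'.hom fun x' =>
        (hasAtMor_unr_baseChange_iff X.2 Y.2 Y'.2 f.hom gY.hom gX.hom f'.hom sqX hf x').2 (H x')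
  constructor
  · rintro ⟨h1, h2⟩ z'
    have h1' := hunr.1 h1
    exact ⟨h1' z', (ui_iff_of_bc f q pr0 pr1 hXX Δ hΔ0 hΔ1 j _ hjr hι g gY q' sqY gX f' sqX
      h1').1 h2 z'⟩
  · intro H
    have h1' := fun z' => (H z').1
    exact ⟨hunr.2 h1', (ui_iff_of_bc f q pr0 pr1 hXX Δ hΔ0 hΔ1 j _ hjr hι g gY q' sqY gX f' sqX
      h1').2 fun z' => (H z').2⟩

end Groth.Agent.Lib.Helper14.AS
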