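import Groth.Agent.Lib.Helper14.FlatLoc4
import Groth.Agent.Lib.Helper14.WhereUI

universe u
set_option linter.style.haveILetI false
set_option linter.unusedSectionVars false
open CategoryTheory CategoryTheory.Limits AlgebraicGeometry Opposite Topology

namespace Groth.Agent.Lib.Helper14.AS
open AlgSp

variable {S : Scheme.{u}}

set_option backward.isDefEq.respectTransparency.types false in
theorem locP_flat_iff_forall_isFlatAtMor {X Y : Sp S} (f : X ⟶ Y) :
    LocP @Flat f ↔ ∀ x, IsFlatAtMor f x := by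
  constructor
  · intro hf x U V a b h u ha hb comm _
    have : Flat h.left := hf a b h ha hb comm
    exact Flat.stalkMap h.left u
  · intro H U V a b h ha hb comm
    exact Flat.of_stalkMap _ fun u => H (Points.ofPt a u) a b h u ha hb comm rfl

/-- the image of the flat locus of an lfp morphism of schemes is open -/
theorem isOpen_image_flatLocus_scheme {U V : Scheme.{u}} (h : U ⟶ V)
    [LocallyOfFinitePresentation h] : IsOpen (h '' {u : U | (h.stalkMap u).hom.Flat}) := by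
  have hO := Groth.Agent.Lib.Helper18.Fl.isOpen_flatLocus_scheme h
  let O : U.Opens := ⟨_, hO⟩
  have hfl : Flat (O.ι ≫ h) := by
    refine Flat.of_stalkMap _ fun x => ?_
    rw [Scheme.Hom.stalkMap_comp]
    exact RingHom.Flat.comp (x.2 : (h.stalkMap (O.ι x)).hom.Flat) (Flat.stalkMap O.ι x)
  have hopen : IsOpenMap (O.ι ≫ h) := (O.ι ≫ h).isOpenMap
  have : h '' {u : U | (h.stalkMap u).hom.Flat} = Set.range (O.ι ≫ h) := by
    ext v
    constructor
    · rintro ⟨u, hu, rfl⟩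
      exact ⟨⟨u, hu⟩, rfl⟩
    · rintro ⟨x, rfl⟩
      exact ⟨O.ι x, x.2, rfl⟩
  rw [this]
  exact hopen.isOpen_range


set_option backward.isDefEq.respectTransparency.types false in
/-- the image of the flat locus is open -/
theorem isOpen_image_isFlatAtMor {X Y Z : Sp S} (hXa : IsAlgSpace X) (hYa : IsAlgSpace Y)
    (hZa : IsAlgSpace Z) (f : X ⟶ Y) (h : Y ⟶ Z)
    (hfp : LocP @LocallyOfFinitePresentation (f ≫ h))
    (hft : LocP @LocallyOfFiniteType h) :
    IsOpen (Points.map f '' {x : Points X | IsFlatAtMor f x}) := by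
  obtain ⟨W, c, hce, hcs⟩ := hZa.atlas
  obtain ⟨V, b, hV, hbe, hbs, comm_b⟩ := exists_chart_diagram hYa h c hce hcs
  obtain ⟨U, a, hU, hae, has, comm_a⟩ := exists_chart_diagram hXa f b hbe hbs
  haveI : LocallyOfFiniteType hV.left := hft b c hV hbe hce comm_b
  have comm_ac : a ≫ (f ≫ h) = (yon S).map (hU ≫ hV) ≫ c := by
    rw [← Category.assoc, comm_a, Category.assoc, comm_b, ← Category.assoc, ← Functor.map_comp]
  haveI : LocallyOfFinitePresentation (hU.left ≫ hV.left) :=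
    hfp a c (hU ≫ hV) hae hce comm_ac
  haveI : LocallyOfFinitePresentation hU.left :=
    locallyOfFinitePresentation_of_comp hU.left hV.left inferInstance inferInstance
  have : Points.map f '' {x : Points X | IsFlatAtMor f x} =
      Points.ofPt b '' (hU.left '' {u : U.left | (hU.left.stalkMap u).hom.Flat}) := by
    ext y
    constructor
    · rintro ⟨x, hx, rfl⟩
      obtain ⟨u, rfl⟩ := ofPt_surjective_of_repWith has x
      exact ⟨hU.left u, ⟨u, (isFlatAtMor_ofPt_iff f a b hU hae hbe comm_a u).1 hx, rfl⟩,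
        (map_ofPt_chart f a b hU comm_a u).symm⟩
    · rintro ⟨_, ⟨u, hu, rfl⟩, rfl⟩
      exact ⟨Points.ofPt a u, (isFlatAtMor_ofPt_iff f a b hU hae hbe comm_a u).2 hu,
        map_ofPt_chart f a b hU comm_a u⟩
  rw [this]
  exact isOpenMap_ofPt b hbe _ (isOpen_image_flatLocus_scheme hU.left)

set_option backward.isDefEq.respectTransparency.types false in
theorem where_flat_sp {X Y Z : Space S} (f : X ⟶ Y) (p : X ⟶ Z) (q : Y ⟶ Z) (hc : f ≫ q = p)
    (hp1 : LocP @LocallyOfFinitePresentation p.hom) (hp2 : LocP @Flat p.hom)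
    (hp3 : IsClosedMor p.hom) (hq : LocP @LocallyOfFiniteType q.hom) :
    ∃ (W : Space S) (w : W ⟶ Z), RepWith @IsOpenImmersion w.hom ∧
      ∀ (Z' : Space S) (g : Z' ⟶ Z), (∃ k : Z' ⟶ W, k ≫ w = g) ↔
        ∀ (Y' : Space S) (gY : Y' ⟶ Y) (q' : Y' ⟶ Z'), IsPullback gY.hom q'.hom q.hom g.hom →
          ∀ (X' : Space S) (gX : X' ⟶ X) (f' : X' ⟶ Y'),
            IsPullback gX.hom f'.hom f.hom gY.hom → LocP @Flat f'.hom := by
  subst hc
  have hp1' : LocP @LocallyOfFinitePresentation (f.hom ≫ q.hom) := hp1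
  have hp2' : LocP @Flat (f.hom ≫ q.hom) := hp2
  have hp3' : IsClosedMap (Points.map (f.hom ≫ q.hom)) := hp3
  have hO : IsOpen {x : Points X.obj | IsFlatAtMor f.hom x} :=
    isOpen_isFlatAtMor X.2 Y.2 Z.2 f.hom q.hom hp1' hq
  have hE₁ := (hp3' _ hO.isClosed_compl).isOpen_compl
  refine where_of_set f q (fun X' Y' f' => LocP @Flat f'.hom) _ hE₁ ?_
  intro Z' g Y' gY q' sqY X' gX f' sqX
  have big : IsPullback gX.hom (f'.hom ≫ q'.hom) (f.hom ≫ q.hom) g.hom := sqX.paste_vert sqY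
  rw [← bc_locus_iff (f.hom ≫ q.hom) g.hom gX.hom (f'.hom ≫ q'.hom) big,
    locP_flat_iff_forall_isFlatAtMor]
  exact forall_congr' fun x' => isFlatAtMor_baseChange_iff X.2 Y.2 Z.2 Z'.2 f.hom q.hom g.hom
    f'.hom q'.hom gX.hom gY.hom hp1' hp2' hq sqY sqX x'

set_option backward.isDefEq.respectTransparency.types false in
theorem where_flat_surj_sp {X Y Z : Space S} (f : X ⟶ Y) (p : X ⟶ Z) (q : Y ⟶ Z)
    (hc : f ≫ q = p)
    (hp1 : LocP @LocallyOfFinitePresentation p.hom) (hp2 : LocP @Flat p.hom)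
    (hp3 : IsClosedMor p.hom) (hq : LocP @LocallyOfFiniteType q.hom)
    (hq2 : IsClosedMor q.hom) :
    ∃ (W : Space S) (w : W ⟶ Z), RepWith @IsOpenImmersion w.hom ∧
      ∀ (Z' : Space S) (g : Z' ⟶ Z), (∃ k : Z' ⟶ W, k ≫ w = g) ↔
        ∀ (Y' : Space S) (gY : Y' ⟶ Y) (q' : Y' ⟶ Z'), IsPullback gY.hom q'.hom q.hom g.hom →
          ∀ (X' : Space S) (gX : X' ⟶ X) (f' : X' ⟶ Y'),
            IsPullback gX.hom f'.hom f.hom gY.hom →
              (IsSurjectiveMor f'.hom ∧ LocP @Flat f'.hom) := by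
  subst hc
  have hp1' : LocP @LocallyOfFinitePresentation (f.hom ≫ q.hom) := hp1
  have hp2' : LocP @Flat (f.hom ≫ q.hom) := hp2
  have hp3' : IsClosedMap (Points.map (f.hom ≫ q.hom)) := hp3
  have hq2' : IsClosedMap (Points.map q.hom) := hq2
  have hO : IsOpen {x : Points X.obj | IsFlatAtMor f.hom x} :=
    isOpen_isFlatAtMor X.2 Y.2 Z.2 f.hom q.hom hp1' hq
  have hE₁ := (hp3' _ hO.isClosed_compl).isOpen_compl
  have hI : IsOpen (Points.map f.hom '' {x : Points X.obj | IsFlatAtMor f.hom x}) :=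
    isOpen_image_isFlatAtMor X.2 Y.2 Z.2 f.hom q.hom hp1' hq
  have hE₂ := (hq2' _ hI.isClosed_compl).isOpen_compl
  refine where_of_set f q (fun X' Y' f' => IsSurjectiveMor f'.hom ∧ LocP @Flat f'.hom) _
    (hE₁.inter hE₂) ?_
  intro Z' g Y' gY q' sqY X' gX f' sqX
  have big : IsPullback gX.hom (f'.hom ≫ q'.hom) (f.hom ≫ q.hom) g.hom := sqX.paste_vert sqY
  have hbc := fun x' => isFlatAtMor_baseChange_iff X.2 Y.2 Z.2 Z'.2 f.hom q.hom g.hom
    f'.hom q'.hom gX.hom gY.hom hp1' hp2' hq sqY sqX x'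
  have hflat : LocP @Flat f'.hom ↔ ∀ z', Points.map g.hom z' ∈
      (Points.map (f.hom ≫ q.hom) '' {x : Points X.obj | IsFlatAtMor f.hom x}ᶜ)ᶜ := by
    rw [← bc_locus_iff (f.hom ≫ q.hom) g.hom gX.hom (f'.hom ≫ q'.hom) big,
      locP_flat_iff_forall_isFlatAtMor]
    exact forall_congr' hbc
  constructor
  · rintro ⟨hs, hfl⟩ z'
    refine ⟨hflat.1 hfl z', ?_⟩
    rintro ⟨y, hy, hqy⟩
    obtain ⟨y', hy'1, hy'2⟩ := points_exists_of_isPullback sqY y z' hqy
    obtain ⟨x', hx'⟩ := hs y'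
    refine hy ⟨Points.map gX.hom x', (hbc x').1
      ((locP_flat_iff_forall_isFlatAtMor f'.hom).1 hfl x'), ?_⟩
    rw [← Points.map_comp, sqX.w, Points.map_comp, hx', hy'1]
  · intro H
    refine ⟨fun y' => ?_, hflat.2 fun z' => (H z').1⟩
    have h2 := (H (Points.map q'.hom y')).2
    have hy : Points.map gY.hom y' ∈
        Points.map f.hom '' {x : Points X.obj | IsFlatAtMor f.hom x} := by
      by_contra hy
      refine h2 ⟨Points.map gY.hom y', hy, ?_⟩
      rw [← Points.map_comp, ← Points.map_comp, sqY.w]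
    obtain ⟨x, -, hx⟩ := hy
    obtain ⟨x', -, hx'2⟩ := points_exists_of_isPullback sqX x y' hx
    exact ⟨x', hx'2⟩

end Groth.Agent.Lib.Helper14.AS
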