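import Groth.Agent.Lib.Helper14.RelDim0
import Groth.Agent.Lib.Helper14.AlgSpLocP2
import Groth.Agent.Lib.Helper14.SchemeDim
import Groth.Agent.Lib.Helper21.FibDim12
import Groth.Prelude.Def_Dual3

universe u
open CategoryTheory CategoryTheory.Limits AlgebraicGeometry Opposite

namespace Groth.Agent.Lib.Helper14.AS

open AlgSp

variable {S : Scheme.{u}}

/-- A chart diagram for a composite through a point of the source. -/
theorem exists_comp_chart_at {X Y Z : Sp S} (hX : IsAlgSpace X) (hY : IsAlgSpace Y)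
    (hZ : IsAlgSpace Z) (f : X ⟶ Y) (g : Y ⟶ Z) (x : Points X) :
    ∃ (U V W : Over S) (a : (yon S).obj U ⟶ X) (b : (yon S).obj V ⟶ Y) (c : (yon S).obj W ⟶ Z)
      (h : U ⟶ V) (k : V ⟶ W) (u : ↥U.left),
      RepWith @Etale a ∧ RepWith @Etale b ∧ RepWith @Etale c ∧
      a ≫ f = (yon S).map h ≫ b ∧ b ≫ g = (yon S).map k ≫ c ∧ Points.ofPt a u = x := by
  obtain ⟨W, c, hce, hcs⟩ := hZ.atlas
  obtain ⟨V, b, k, hbe, hbs, commg⟩ := exists_chart_diagram hY g c hce hcs
  obtain ⟨U, a, h, hae, has, commf⟩ := exists_chart_diagram hX f b hbe hbs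
  obtain ⟨u, hu⟩ := ofPt_surjective_of_repWith has x
  exact ⟨U, V, W, a, b, c, h, k, u, hae, hbe, hce, commf, commg, hu⟩

theorem comp_chart_comm {X Y Z : Sp S} {f : X ⟶ Y} {g : Y ⟶ Z} {U V W : Over S}
    {a : (yon S).obj U ⟶ X} {b : (yon S).obj V ⟶ Y} {c : (yon S).obj W ⟶ Z}
    {h : U ⟶ V} {k : V ⟶ W} (commf : a ≫ f = (yon S).map h ≫ b)
    (commg : b ≫ g = (yon S).map k ≫ c) : a ≫ f ≫ g = (yon S).map (h ≫ k) ≫ c := by
  rw [← Category.assoc, commf, Category.assoc, commg, Functor.map_comp, Category.assoc]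

theorem etSqInv_resTrdeg (P : Cardinal.{u} → Prop) :
    EtSqInv (fun _ _ h u => P (Dual3.resTrdeg h u)) := by
  intro U U' V V' h h' a b ha hb comm u'
  change P (Dual3.resTrdeg h (a u')) ↔ P (Dual3.resTrdeg h' u')
  have := Groth.Agent.Lib.Helper6.EtaleSq.trdeg_residueField_etale_square h h' a b comm u'
  unfold Dual3.resTrdeg
  rw [this]

/-- Transport of the stalk dimension of a fibre along an equality of base points. -/
theorem stalkDim_fiber_eq {U V : Scheme.{u}} (h : U ⟶ V) (x : U) (y : V)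
    (hy : h x = y) (t : h.fiber y) (ht : h.fiberι y t = x) :
    ringKrullDim ((h.fiber y).presheaf.stalk t) =
      ringKrullDim ((h.fiber (h x)).presheaf.stalk (h.asFiber x)) := by
  subst hy
  have : t = h.asFiber x := by
    apply (h.fiberι (h x)).isEmbedding.injective
    rw [ht, Scheme.Hom.fiberι_asFiber]
  rw [this]

theorem etSqInv_fibreStalkDim (P : WithBot ℕ∞ → Prop) :
    EtSqInv (fun _ _ h u => P (ringKrullDim ↥((h.fiber (h u)).presheaf.stalk (h.asFiber u)))) := by
  intro U U' V V' h h' a b ha hb comm u'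
  change P (ringKrullDim ↥((h.fiber (h (a u'))).presheaf.stalk (h.asFiber (a u')))) ↔
    P (ringKrullDim ↥((h'.fiber (h' u')).presheaf.stalk (h'.asFiber u')))
  have hpt : h (a u') = b (h' u') := by
    rw [← Scheme.Hom.comp_apply, ← Scheme.Hom.comp_apply, comm]
  let φ : h'.fiber (h' u') ⟶ h.fiber (b (h' u')) :=
    pullback.lift (h'.fiberι (h' u') ≫ a)
      (h'.fiberToSpecResidueField (h' u') ≫ Spec.map (b.residueFieldMap (h' u'))) (by
        rw [Category.assoc, ← comm, ← Category.assoc, h'.fiber_fac, Category.assoc, Category.assoc,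
          Scheme.Hom.SpecMap_residueFieldMap_fromSpecResidueField])
  have hφ1 : φ ≫ h.fiberι (b (h' u')) = h'.fiberι (h' u') ≫ a := pullback.lift_fst _ _ _
  have hφ2 : φ ≫ h.fiberToSpecResidueField (b (h' u')) =
      h'.fiberToSpecResidueField (h' u') ≫ Spec.map (b.residueFieldMap (h' u')) :=
    pullback.lift_snd _ _ _
  have hφ : Etale φ := Groth.Agent.Lib.Helper6.EtaleSq.etale_fiber_map h h' a b comm (h' u') φ hφ1 hφ2
  have : LocallyQuasiFinite φ := etale_locallyQuasiFinite _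
  have : Flat φ := inferInstance
  have e1 := ringKrullDim_stalk_eq_of_flat_lqf φ (h'.asFiber u')
  have e2 := stalkDim_fiber_eq h (a u') (b (h' u')) hpt (φ (h'.asFiber u')) (by
    rw [← Scheme.Hom.comp_apply, hφ1, Scheme.Hom.comp_apply, Scheme.Hom.fiberι_asFiber])
  rw [← e2, ← e1]

/-- Additivity of residual transcendence degrees (finite type case). -/
theorem resTrdeg_comp {X Y Z : Scheme.{u}} (f : X ⟶ Y) (g : Y ⟶ Z) [LocallyOfFiniteType f]
    [LocallyOfFiniteType g] (x : X) :
    Dual3.resTrdeg (f ≫ g) x = Dual3.resTrdeg f x + Dual3.resTrdeg g (f x) := by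
  obtain ⟨b, hb⟩ := Groth.Agent.Lib.Helper21.FibDim.exists_nat_trdeg_residueFieldMap g (f x)
  obtain ⟨c, hc⟩ := Groth.Agent.Lib.Helper21.FibDim.exists_nat_trdeg_residueFieldMap f x
  have := Groth.Agent.Lib.Helper21.FibDim.trdeg_comp f g x b c hb hc
  unfold Dual3.resTrdeg
  rw [hb, hc]
  rw [add_comm]
  exact_mod_cast this

/-- For a locally quasi-finite morphism locally of finite type the residue field extensions are
algebraic. -/
theorem resTrdeg_eq_zero_of_lqf {X Y : Scheme.{u}} (f : X ⟶ Y) [LocallyOfFiniteType f]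
    [LocallyQuasiFinite f] (x : X) : Dual3.resTrdeg f x = 0 := by
  obtain ⟨a, b, ha, hb, hab⟩ := Groth.Agent.Lib.Helper21.FibDim.exists_fibreDimAt_eq_add f x
  have h0 := (locallyQuasiFinite_iff_fibreDimAt_eq_zero f).1 inferInstance x
  rw [h0] at hab
  have : a + b = 0 := by exact_mod_cast hab.symm
  have ha0 : a = 0 := by omega
  unfold Dual3.resTrdeg
  rw [ha, ha0]
  rfl

end Groth.Agent.Lib.Helper14.AS
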