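import Groth.Agent.Lib.Helper14.AlgSpLocP3
import Groth.Agent.Lib.Helper14.BCChart
import Groth.Agent.Lib.Helper14.RelDimComp
import Groth.Agent.Lib.Helper21.BaseChg4
import Groth.Agent.Lib.Helper21.FibDim2
import Groth.Agent.S10308

universe u
open CategoryTheory CategoryTheory.Limits AlgebraicGeometry Opposite TopologicalSpace

namespace Groth.Agent.Lib.Helper14.AS

open AlgSp

section Sch

variable {U V : Scheme.{u}}

theorem fibreDimAt_nonneg (h : U ⟶ V) (u : ↥U) : 0 ≤ FlatMor.fibreDimAt h u := by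
  unfold FlatMor.fibreDimAt FlatMor.localDim
  refine le_iInf fun O => ?_
  have : Nonempty ↥(O.1 : Set ↥(h.fiber (h u))) := ⟨⟨_, O.2⟩⟩
  exact topologicalKrullDim_nonneg' _

theorem fibreDimAt_opens_ι_comp (h : U ⟶ V) (W : U.Opens) (w : ↥(W : Scheme.{u})) :
    FlatMor.fibreDimAt (W.ι ≫ h) w = FlatMor.fibreDimAt h (W.ι w) :=
  (Groth.Agent.Lib.Helper6.EtaleSq.fibreDimAt_etale_square h (W.ι ≫ h) W.ι (𝟙 V)
    (Category.comp_id _) w).symm

/-- If the fibre dimension at a point is at most zero, the morphism is locally quasi-finite on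
an open neighbourhood. -/
theorem exists_opens_lqf_of_fibreDimAt_le_zero (h : U ⟶ V) [LocallyOfFiniteType h] (u : ↥U)
    (hu : FlatMor.fibreDimAt h u ≤ 0) :
    ∃ W : U.Opens, u ∈ W ∧ LocallyQuasiFinite (W.ι ≫ h) ∧ LocallyOfFiniteType (W.ι ≫ h) := by
  have hO := Groth.Agent.Lib.Helper21.FibDim.isOpen_setOf_fibreDimAt_le h 0
  let W : U.Opens := ⟨{u' : ↥U | FlatMor.fibreDimAt h u' ≤ ((0 : ℕ) : WithBot ℕ∞)}, hO⟩
  have hlft : LocallyOfFiniteType (W.ι ≫ h) := inferInstance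
  refine ⟨W, by exact_mod_cast hu, ?_, hlft⟩
  rw [locallyQuasiFinite_iff_fibreDimAt_eq_zero]
  intro w
  rw [fibreDimAt_opens_ι_comp]
  have hw : FlatMor.fibreDimAt h (W.ι w) ≤ ((0 : ℕ) : WithBot ℕ∞) := w.2
  exact le_antisymm (by exact_mod_cast hw) (fibreDimAt_nonneg h _)

theorem fibreDimAt_eq_zero_of_opens_lqf (h : U ⟶ V) (W : U.Opens) (u : ↥U) (hu : u ∈ W)
    (h1 : LocallyQuasiFinite (W.ι ≫ h)) (h2 : LocallyOfFiniteType (W.ι ≫ h)) :
    FlatMor.fibreDimAt h u = 0 := by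
  have := (locallyQuasiFinite_iff_fibreDimAt_eq_zero (W.ι ≫ h)).1 h1 ⟨u, hu⟩
  exact (fibreDimAt_opens_ι_comp h W ⟨u, hu⟩).symm.trans this

end Sch

variable {S : Scheme.{u}}

set_option backward.isDefEq.respectTransparency.types false in
/-- For an etale-square invariant property, `HasAtMor` is insensitive to precomposition with an
etale morphism of spaces. -/
theorem hasAtMor_comp_isEtaleMor_iff {Q : ∀ (U V : Scheme.{u}), (U ⟶ V) → ↥U → Prop}
    (hQ : EtSqInv Q) {X' X Y : Sp S} (hX' : IsAlgSpace X') (hY : IsAlgSpace Y) (j : X' ⟶ X)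
    (hj : IsEtaleMor j) (f : X ⟶ Y) (x' : Points X') :
    HasAtMor Q (j ≫ f) x' ↔ HasAtMor Q f (Points.map j x') := by
  constructor
  · rintro ⟨U, V, a, b, h, u, hae, hbe, comm, rfl, hq⟩
    exact ⟨U, V, a ≫ j, b, h, u, hj a hae, hbe, by rw [Category.assoc]; exact comm,
      (Points.map_ofPt a j u).symm, hq⟩
  · rintro ⟨U, V, a, b, h, u, hae, hbe, comm, hu, hq⟩
    obtain ⟨U', V', a', b', h', u', ha'e, hb'e, comm', rfl⟩ :=
      exists_chart_diagram_at hX' hY (j ≫ f) x'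
    refine ⟨U', V', a', b', h', u', ha'e, hb'e, comm', rfl, ?_⟩
    refine (Q_chart_indep hQ f a b h hae hbe comm (a' ≫ j) b' h' (hj a' ha'e) hb'e
      (by rw [Category.assoc]; exact comm') u u' ?_).1 hq
    rw [hu, Points.map_ofPt]

set_option backward.isDefEq.respectTransparency.types false in
theorem isEtaleMor_of_repWith_isOpenImmersion {X' X : Sp S} {j : X' ⟶ X}
    (hj : RepWith @IsOpenImmersion j) : IsEtaleMor j :=
  fun _ _ hφ => repWith_comp _ hφ (repWith_mono isOpenImmersion_le_etale hj)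

theorem locP_comp_isEtaleMor {P : MorphismProperty Scheme.{u}} {X' X Y : Sp S} (j : X' ⟶ X)
    (hj : IsEtaleMor j) (f : X ⟶ Y) (hf : LocP P f) : LocP P (j ≫ f) :=
  fun _ _ a b h ha hb comm => hf (a ≫ j) b h (hj a ha) hb (by rw [Category.assoc]; exact comm)


set_option backward.isDefEq.respectTransparency.types false in
/-- Base change of the locus of fibre dimension `≤ 0`. -/
theorem hasAtMor_fibreDimAt_baseChange_iff {X Y Y' X' : Sp S} (hX : IsAlgSpace X)
    (hY : IsAlgSpace Y) (hY' : IsAlgSpace Y') (f : X ⟶ Y) (g : Y' ⟶ Y) (g' : X' ⟶ X)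
    (f' : X' ⟶ Y') (sq : IsPullback g' f' f g) (hf : LocP @LocallyOfFiniteType f)
    (P : WithBot ℕ∞ → Prop) (x' : Points X') :
    HasAtMor (fun _ _ h u => P (FlatMor.fibreDimAt h u)) f' x' ↔
      HasAtMor (fun _ _ h u => P (FlatMor.fibreDimAt h u)) f (Points.map g' x') := by
  obtain ⟨U, V, U', V', a, b, a', b', h, h', α, β, hae, has, hbe, hbs, ha'e, ha's, hb'e, hb's, comm,
    comm', ca, cb, sqS⟩ := exists_bc_chart hX hY hY' f g g' f' sq
  obtain ⟨u', rfl⟩ := ofPt_surjective_of_repWith ha's x'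
  have hlft : LocallyOfFiniteType h.left := hf a b h hae hbe comm
  have e1 : Points.map g' (Points.ofPt a' u') = Points.ofPt a (α.left u') := by
    rw [Points.map_ofPt, ca, ofPt_yon_map_comp]
  have sqL : IsPullback α.left h'.left h.left β.left := sqS.map (Over.forget S)
  have e2 := Groth.Agent.Lib.Helper21.BaseChg.fibreDimAt_eq_of_isPullback sqL u'
  rw [e1, hasAtMor_ofPt_iff (etSqInv_fibreDimAt P) f a b h hae hbe comm (α.left u'),
    hasAtMor_ofPt_iff (etSqInv_fibreDimAt P) f' a' b' h' ha'e hb'e comm' u', e2]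

set_option backward.isDefEq.respectTransparency.types false in
/-- The locally quasi-finite locus of a morphism locally of finite type. -/
theorem lqfLocus_open_baseChange (X Y : Space S) (f : X ⟶ Y)
    (hf : LocP @LocallyOfFiniteType f.hom) :
    ∃ (X' : Space S) (j : X' ⟶ X), RepWith @IsOpenImmersion j.hom ∧
      LocP (@LocallyQuasiFinite ⊓ @LocallyOfFiniteType) (j ≫ f).hom ∧
      (∀ x : Points X.obj, x ∉ Set.range (Points.map j.hom) →
        HasAtMor (fun _ _ h u => 1 ≤ FlatMor.fibreDimAt h u) f.hom x) ∧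
      ∀ (Y'' X'' : Space S) (g : Y'' ⟶ Y) (b : X'' ⟶ X) (f'' : X'' ⟶ Y''),
        IsPullback b.hom f''.hom f.hom g.hom → ∀ x'' : Points X''.obj,
          Points.map b.hom x'' ∈ Set.range (Points.map j.hom) ↔
            HasAtMor (fun U _ h u => ∃ W : U.Opens, u ∈ W ∧ LocallyQuasiFinite (W.ι ≫ h) ∧
              LocallyOfFiniteType (W.ι ≫ h)) f''.hom x'' := by
  have hO := Groth.Agent.S10308.result f hf 0
  obtain ⟨X', j, hj, hrange⟩ := Groth.Agent.Lib.Helper8.AlgSpOpenSub.exists_openSubspace X _ hO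
  have hjE : IsEtaleMor j.hom := isEtaleMor_of_repWith_isOpenImmersion hj
  have hzero : ∀ x : Points X.obj,
      HasAtMor (fun _ _ h u => FlatMor.fibreDimAt h u ≤ ((0 : ℕ) : WithBot ℕ∞)) f.hom x ↔
        HasAtMor (fun _ _ h u => FlatMor.fibreDimAt h u = 0) f.hom x := by
    intro x
    constructor
    · rintro ⟨U, V, a, b, h, u, hae, hbe, comm, hu, hq⟩
      exact ⟨U, V, a, b, h, u, hae, hbe, comm, hu,
        le_antisymm (by exact_mod_cast hq) (fibreDimAt_nonneg _ _)⟩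
    · rintro ⟨U, V, a, b, h, u, hae, hbe, comm, hu, hq⟩
      exact ⟨U, V, a, b, h, u, hae, hbe, comm, hu, le_of_eq hq⟩
  refine ⟨X', j, hj, ?_, ?_, ?_⟩
  · have hlft : LocP @LocallyOfFiniteType (j ≫ f).hom := locP_comp_isEtaleMor j.hom hjE f.hom hf
    rw [locP_lqf_iff_relDim_zero X'.2 Y.2 (j ≫ f).hom hlft]
    intro x'
    rw [show (j ≫ f).hom = j.hom ≫ f.hom from rfl,
      hasAtMor_comp_isEtaleMor_iff (etSqInv_fibreDimAt (fun z => z = 0)) X'.2 Y.2 j.hom hjE f.hom x',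
      ← hzero]
    have : Points.map j.hom x' ∈ Set.range (Points.map j.hom) := ⟨x', rfl⟩
    rw [hrange] at this
    exact this
  · intro x hx
    rw [hrange] at hx
    obtain ⟨U, V, a, b, h, u, hae, hbe, comm, rfl⟩ := exists_chart_diagram_at X.2 Y.2 f.hom x
    refine ⟨U, V, a, b, h, u, hae, hbe, comm, rfl, ?_⟩
    apply withBot_one_le_of_not_le_zero
    intro hle
    exact hx ⟨U, V, a, b, h, u, hae, hbe, comm, rfl, by exact_mod_cast hle⟩
  · intro Y'' X'' g b f'' sq x''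
    rw [hrange]
    change HasAtMor (fun _ _ h u => FlatMor.fibreDimAt h u ≤ ((0 : ℕ) : WithBot ℕ∞)) f.hom
      (Points.map b.hom x'') ↔ _
    rw [← hasAtMor_fibreDimAt_baseChange_iff X.2 Y.2 Y''.2 f.hom g.hom b.hom f''.hom sq hf
      (fun z => z ≤ ((0 : ℕ) : WithBot ℕ∞)) x'']
    have hf'' : LocP @LocallyOfFiniteType f''.hom :=
      locP_baseChange etLocal_lft X.2 Y.2 Y''.2 f.hom g.hom b.hom f''.hom sq hf
    constructor
    · rintro ⟨U, V, a, c, h, u, hae, hce, comm, hu, hq⟩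
      have hlft : LocallyOfFiniteType h.left := hf'' a c h hae hce comm
      exact ⟨U, V, a, c, h, u, hae, hce, comm, hu,
        exists_opens_lqf_of_fibreDimAt_le_zero h.left u (by exact_mod_cast hq)⟩
    · rintro ⟨U, V, a, c, h, u, hae, hce, comm, hu, W, huW, h1, h2⟩
      exact ⟨U, V, a, c, h, u, hae, hce, comm, hu,
        le_of_eq (fibreDimAt_eq_zero_of_opens_lqf h.left W u huW h1 h2)⟩

end Groth.Agent.Lib.Helper14.AS
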