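import Groth.Prelude.Def_AlgSp2
import Groth.Agent.Lib.Helper14.AlgSpPoints

universe u
open CategoryTheory CategoryTheory.Limits AlgebraicGeometry Opposite TopologicalSpace

namespace Groth.Agent.Lib.Helper14.AS
open AlgSp

section Top
variable {T : Type*} [TopologicalSpace T]

/-- In a space in which every point has a Noetherian open neighbourhood, the irreducible
components form a locally finite family. -/
theorem locallyFinite_irreducibleComponents_of_locNoeth
    (h : ∀ x : T, ∃ V : Set T, IsOpen V ∧ x ∈ V ∧ NoetherianSpace V) :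
    LocallyFinite (fun Z : ↥(irreducibleComponents T) => (Z : Set T)) := by
  intro x
  obtain ⟨V, hVo, hxV, hVn⟩ := h x
  refine ⟨V, hVo.mem_nhds hxV, ?_⟩
  have hfin : (irreducibleComponents ↥V).Finite := NoetherianSpace.finite_irreducibleComponents
  have hemb : Topology.IsOpenEmbedding ((↑) : ↥V → T) := hVo.isOpenEmbedding_subtypeVal
  let A : Set ↥(irreducibleComponents T) := {Z | ((Z : Set T) ∩ V).Nonempty}
  have hmaps : ∀ Z ∈ A, ((↑) : ↥V → T) ⁻¹' (Z : Set T) ∈ irreducibleComponents ↥V := by
    intro Z hZ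
    refine preimage_mem_irreducibleComponents Z.2 hemb ?_
    rw [Subtype.range_coe]
    exact hZ
  have hinj : Set.InjOn (fun Z : ↥(irreducibleComponents T) =>
      ((↑) : ↥V → T) ⁻¹' (Z : Set T)) A := by
    intro Z hZ Z' hZ' hZZ'
    have key : ∀ W : ↥(irreducibleComponents T), W ∈ A →
        (W : Set T) = closure ((W : Set T) ∩ V) := by
      intro W hW
      apply Set.Subset.antisymm
      · exact subset_closure_inter_of_isPreirreducible_of_isOpen W.2.1.2 hVo hW
      · exact closure_minimal Set.inter_subset_left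
          (isClosed_of_mem_irreducibleComponents _ W.2)
    have h1 : (Z : Set T) ∩ V = (Z' : Set T) ∩ V := by
      have := congrArg (fun s => ((↑) : ↥V → T) '' s) hZZ'
      simp only [Subtype.image_preimage_coe] at this
      rw [Set.inter_comm, this, Set.inter_comm]
    apply Subtype.ext
    rw [key Z hZ, key Z' hZ', h1]
  exact Set.Finite.of_injOn (fun Z hZ => hmaps Z hZ) hinj hfin

/-- The same for a subset with the images in the ambient space. -/
theorem locallyFinite_irreducibleComponents_subtype {X : Type*} [TopologicalSpace X]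
    (h : ∀ x : X, ∃ V : Set X, IsOpen V ∧ x ∈ V ∧ NoetherianSpace V) (T : Set X)
    (hT : IsClosed T) :
    LocallyFinite (fun Z : ↥(irreducibleComponents ↥T) =>
      ((↑) : ↥T → X) '' (Z : Set ↥T)) := by
  have hT' : ∀ t : ↥T, ∃ V : Set ↥T, IsOpen V ∧ t ∈ V ∧ NoetherianSpace V := by
    intro t
    obtain ⟨V, hVo, htV, hVn⟩ := h t.1
    refine ⟨((↑) : ↥T → X) ⁻¹' V, hVo.preimage continuous_subtype_val, htV, ?_⟩
    have hind : Topology.IsInducing (fun y : ↥(((↑) : ↥T → X) ⁻¹' V) => (⟨y.1.1, y.2⟩ : ↥V)) := by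
      refine ⟨?_⟩
      have h1 : Topology.IsInducing (fun y : ↥(((↑) : ↥T → X) ⁻¹' V) => (y.1.1 : X)) :=
        Topology.IsInducing.subtypeVal.comp Topology.IsInducing.subtypeVal
      have h2 : Topology.IsInducing ((↑) : ↥V → X) := Topology.IsInducing.subtypeVal
      rw [h1.eq_induced, h2.eq_induced, induced_compose]
      rfl
    exact hind.noetherianSpace
  have hlf := locallyFinite_irreducibleComponents_of_locNoeth hT'
  intro x
  by_cases hx : x ∈ T
  · obtain ⟨N, hN, hfin⟩ := hlf ⟨x, hx⟩
    rw [mem_nhds_subtype] at hN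
    obtain ⟨N', hN', hN'N⟩ := hN
    refine ⟨N', hN', hfin.subset ?_⟩
    rintro Z ⟨y, ⟨t, htZ, rfl⟩, hyN'⟩
    exact ⟨t, htZ, hN'N hyN'⟩
  · refine ⟨Tᶜ, hT.isOpen_compl.mem_nhds hx, ?_⟩
    convert Set.finite_empty
    ext Z
    simp only [Set.mem_setOf_eq, Set.mem_empty_iff_false, iff_false, Set.not_nonempty_iff_eq_empty]
    ext y
    simp only [Set.mem_inter_iff, Set.mem_image, Set.mem_compl_iff, Set.mem_empty_iff_false,
      iff_false, not_and, not_not]
    rintro ⟨t, -, rfl⟩
    exact t.2

end Top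

variable {S : Scheme.{u}} {X : Sp S}

theorem exists_noetherian_open_nhd (hX : IsLocNoethSp X) (x : Points X) :
    ∃ V : Set (Points X), IsOpen V ∧ x ∈ V ∧ NoetherianSpace V := by
  obtain ⟨U, a, hae, has, hU⟩ := hX
  obtain ⟨u, rfl⟩ := ofPt_surjective_of_repWith has x
  have : IsLocallyNoetherian U.left := hU
  obtain ⟨_, ⟨W, hW, rfl⟩, huW, -⟩ := (U.left.isBasis_affineOpens).exists_subset_of_mem_open
    (Set.mem_univ u) isOpen_univ
  have hWn : NoetherianSpace W := by
    have : IsNoetherianRing Γ(U.left, W) := IsLocallyNoetherian.component_noetherian ⟨W, hW⟩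
    exact noetherianSpace_of_isAffineOpen W hW
  refine ⟨Points.ofPt a '' (W : Set ↥U.left), isOpenMap_ofPt a hae _ W.2, ⟨u, huW, rfl⟩, ?_⟩
  have hc : Continuous (Points.ofPt a) := Points.continuous_ofPt a
  rw [Set.image_eq_range]
  have hWn' : NoetherianSpace ↥(W : Set ↥U.left) := hWn
  exact NoetherianSpace.range _ (hc.comp continuous_subtype_val)

theorem locallyFinite_irreducibleComponents_of_isLocNoethSp (hX : IsLocNoethSp X)
    (T : Set (Points X)) (hT : IsClosed T) :
    LocallyFinite (fun Z : ↥(irreducibleComponents ↥T) =>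
      ((↑) : ↥T → Points X) '' (Z : Set ↥T)) :=
  locallyFinite_irreducibleComponents_subtype (exists_noetherian_open_nhd hX) T hT

end Groth.Agent.Lib.Helper14.AS
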