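import Mathlib

universe u
open CategoryTheory CategoryTheory.Limits AlgebraicGeometry Opposite Topology TopologicalSpace Set.Notation

namespace Groth.Agent.Lib.Helper14.AS

variable {X Y : Scheme.{u}}

/-- Restriction of a locally constructible subset to an affine open is constructible. -/
theorem isConstructible_preimage_val_of_isAffineOpen {V : Y.Opens} (hV : IsAffineOpen V)
    {s : Set ↥Y} (hs : IsLocallyConstructible s) :
    IsConstructible ((V : Set ↥Y) ↓∩ s) := by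
  have h1 : IsLocallyConstructible ((V : Set ↥Y) ↓∩ s) :=
    hs.preimage_of_isOpenEmbedding V.2.isOpenEmbedding_subtypeVal
  have : IsAffine (V : Scheme.{u}) := hV
  have : CompactSpace ↥(V : Scheme.{u}) := inferInstance
  have : QuasiSeparatedSpace ↥(V : Scheme.{u}) := inferInstance
  have : PrespectralSpace ↥(V : Scheme.{u}) := inferInstance
  exact IsLocallyConstructible.isConstructible (X := ↥(V : Scheme.{u})) h1

/-- The inverse image of a locally constructible set under a morphism of schemes is locally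
constructible. -/
theorem isLocallyConstructible_preimage (f : X ⟶ Y) {s : Set ↥Y} (hs : IsLocallyConstructible s) :
    IsLocallyConstructible (f ⁻¹' s) := by
  intro x
  obtain ⟨V, hV, hxV⟩ : ∃ V : Y.Opens, IsAffineOpen V ∧ f x ∈ V := by
    obtain ⟨_, ⟨V, hV, rfl⟩, hx, -⟩ :=
      Y.isBasis_affineOpens.exists_subset_of_mem_open (Set.mem_univ (f x)) isOpen_univ
    exact ⟨V, hV, hx⟩
  obtain ⟨U, hU, hxU, hUV⟩ : ∃ U : X.Opens, IsAffineOpen U ∧ x ∈ U ∧ U ≤ f ⁻¹ᵁ V := by
    obtain ⟨_, ⟨U, hU, rfl⟩, hx, hsub⟩ :=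
      X.isBasis_affineOpens.exists_subset_of_mem_open (show x ∈ ((f ⁻¹ᵁ V : X.Opens) : Set ↥X) from hxV)
        (f ⁻¹ᵁ V).2
    exact ⟨U, hU, hx, hsub⟩
  refine ⟨U, U.2.mem_nhds hxU, U.2, ?_⟩
  have hc : IsConstructible (X := ↥(V : Scheme.{u})) ((V : Set ↥Y) ↓∩ s) :=
    isConstructible_preimage_val_of_isAffineOpen hV hs
  have := (f.resLE V U hUV).isConstructible_preimage hc
  have e : ((U : Set ↥X) ↓∩ (f ⁻¹' s)) = (f.resLE V U hUV) ⁻¹' (show Set ↥(V : Scheme.{u}) from (V : Set ↥Y) ↓∩ s) := by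
    ext ⟨z, hz⟩
    show f z ∈ s ↔ ((f.resLE V U hUV) ⟨z, hz⟩).1 ∈ s
    rw [Scheme.Hom.coe_resLE_apply]
  rw [e]
  exact this

end Groth.Agent.Lib.Helper14.AS

namespace Groth.Agent.Lib.Helper14.AS

variable {X Y : Scheme.{u}}

set_option backward.isDefEq.respectTransparency.types false in
/-- Descent of local constructibility along an open surjective morphism locally of finite
presentation (for instance étale surjective). -/
theorem isLocallyConstructible_of_preimage {W U : Scheme.{u}} (p : W ⟶ U)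
    [LocallyOfFinitePresentation p] (hopen : IsOpenMap p) (hsurj : Function.Surjective p)
    {A : Set ↥U} (h : IsLocallyConstructible (p ⁻¹' A)) : IsLocallyConstructible A := by
  have key : ∀ w : ↥W, ∃ O : U.Opens, p w ∈ O ∧ IsLocallyConstructible ((O : Set ↥U) ↓∩ A) := by
    intro w
    obtain ⟨U₀, hU₀, hwU₀⟩ : ∃ V : U.Opens, IsAffineOpen V ∧ p w ∈ V := by
      obtain ⟨_, ⟨V, hV, rfl⟩, hx, -⟩ :=
        U.isBasis_affineOpens.exists_subset_of_mem_open (Set.mem_univ (p w)) isOpen_univ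
      exact ⟨V, hV, hx⟩
    obtain ⟨W₀, hW₀, hwW₀, hWU⟩ : ∃ W₀ : W.Opens, IsAffineOpen W₀ ∧ w ∈ W₀ ∧ W₀ ≤ p ⁻¹ᵁ U₀ := by
      obtain ⟨_, ⟨W₀, hW₀, rfl⟩, hx, hsub⟩ :=
        W.isBasis_affineOpens.exists_subset_of_mem_open
          (show w ∈ ((p ⁻¹ᵁ U₀ : W.Opens) : Set ↥W) from hwU₀) (p ⁻¹ᵁ U₀).2
      exact ⟨W₀, hW₀, hx, hsub⟩
    have : IsAffine (U₀ : Scheme.{u}) := hU₀
    have : IsAffine (W₀ : Scheme.{u}) := hW₀
    have hcW : CompactSpace ↥(W₀ : Scheme.{u}) := inferInstance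
    have : QuasiCompact (p.resLE U₀ W₀ hWU) := by
      rw [HasAffineProperty.iff_of_isAffine (P := @QuasiCompact)]
      exact hcW
    have h1 : IsLocallyConstructible (X := ↥(W₀ : Scheme.{u})) ((W₀ : Set ↥W) ↓∩ (p ⁻¹' A)) :=
      h.preimage_of_isOpenEmbedding W₀.2.isOpenEmbedding_subtypeVal
    have h2 := (p.resLE U₀ W₀ hWU).isLocallyConstructible_image h1
    let O : U.Opens := ⟨p '' (W₀ : Set ↥W), hopen _ W₀.2⟩
    have hOU : (O : Set ↥U) ⊆ (U₀ : Set ↥U) := by
      rintro _ ⟨z, hz, rfl⟩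
      exact hWU hz
    refine ⟨O, ⟨w, hwW₀, rfl⟩, ?_⟩
    have hj := IsOpenEmbedding.id.restrict hOU O.2
    have h3 := h2.preimage_of_isOpenEmbedding (X := ↥(O : Set ↥U)) hj
    convert h3 using 1
    ext ⟨x, hx⟩
    simp only [Set.mem_preimage, Set.mem_image]
    constructor
    · intro hxA
      obtain ⟨z, hz, rfl⟩ := hx
      refine ⟨⟨z, hz⟩, hxA, ?_⟩
      apply Subtype.ext
      exact Scheme.Hom.coe_resLE_apply _ _ _
    · rintro ⟨⟨z, hz⟩, hzA, hzx⟩
      have := congrArg Subtype.val hzx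
      rw [Scheme.Hom.coe_resLE_apply] at this
      have h4 : p z = x := this
      rw [← h4]
      exact hzA
  choose O hO hOA using key
  refine IsLocallyConstructible.of_isOpenCover (U := O) ?_ hOA
  rw [TopologicalSpace.IsOpenCover, eq_top_iff]
  intro x _
  obtain ⟨w, rfl⟩ := hsurj x
  exact TopologicalSpace.Opens.mem_iSup.mpr ⟨w, hO w⟩

end Groth.Agent.Lib.Helper14.AS
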