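import Mathlib
import Groth.Prelude.Def_Flat

universe u
open CategoryTheory CategoryTheory.Limits AlgebraicGeometry Opposite TopologicalSpace

namespace Groth.Agent.Lib.Helper14.AS

section Top

theorem topologicalKrullDim_nonneg' (X : Type*) [TopologicalSpace X] [Nonempty X] :
    0 ≤ topologicalKrullDim X := by
  obtain ⟨x⟩ := ‹Nonempty X›
  have : Nonempty (IrreducibleCloseds X) :=
    ⟨⟨closure {x}, isIrreducible_singleton.closure, isClosed_closure⟩⟩
  exact Order.krullDim_nonneg

theorem localDim_eq_zero_of_discrete (F : Type*) [TopologicalSpace F] [DiscreteTopology F]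
    (x : F) : FlatMor.localDim F x = 0 := by
  unfold FlatMor.localDim
  have h : ∀ U : {U : TopologicalSpace.Opens F // x ∈ U},
      topologicalKrullDim (U.1 : Set F) = 0 := by
    intro U
    have : Nonempty ↥(U.1 : Set F) := ⟨⟨x, U.2⟩⟩
    exact le_antisymm (topologicalKrullDim_zero_of_discreteTopology ↥(U.1 : Set F))
      (topologicalKrullDim_nonneg' _)
  have hne : Nonempty {U : TopologicalSpace.Opens F // x ∈ U} := ⟨⟨⊤, trivial⟩⟩
  simp only [h]
  exact ciInf_const

theorem withBot_one_le_of_not_le_zero (a : WithBot ℕ∞) (h : ¬ a ≤ 0) : 1 ≤ a := by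
  induction a using WithBot.recBotCoe with
  | bot => exact absurd bot_le h
  | coe n =>
    have h' : ¬ n ≤ 0 := fun hn => h (by exact_mod_cast hn)
    have : 1 ≤ n := Order.one_le_iff_ne_zero.2 (fun h0 => h' (le_of_eq h0))
    exact_mod_cast this

theorem exists_opens_dim_le_zero_of_localDim_eq_zero (F : Type*) [TopologicalSpace F] (x : F)
    (h : FlatMor.localDim F x = 0) :
    ∃ U : TopologicalSpace.Opens F, x ∈ U ∧ topologicalKrullDim (U : Set F) ≤ 0 := by
  by_contra hcon
  push Not at hcon
  have h1 : (1 : WithBot ℕ∞) ≤ FlatMor.localDim F x := by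
    unfold FlatMor.localDim
    refine le_iInf fun U => ?_
    exact withBot_one_le_of_not_le_zero _ (not_le.2 (hcon U.1 U.2))
  rw [h] at h1
  exact absurd h1 (by decide)

end Top

variable {U V : Scheme.{u}}

set_option backward.isDefEq.respectTransparency.types false in
theorem isOpen_singleton_asFiber_of_fibreDimAt (h : U ⟶ V) [LocallyOfFiniteType h] (u : ↥U)
    (hd : FlatMor.fibreDimAt h u = 0) : IsOpen ({h.asFiber u} : Set ↥(h.fiber (h u))) := by
  unfold FlatMor.fibreDimAt at hd
  obtain ⟨O, hxO, hO⟩ := exists_opens_dim_le_zero_of_localDim_eq_zero _ _ hd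
  let O' : (h.fiber (h u)).Opens := O
  have : LocallyOfFiniteType (h.fiberToSpecResidueField (h u)) :=
    MorphismProperty.pullback_snd _ _ inferInstance
  have : IsLocallyNoetherian (h.fiber (h u)) :=
    LocallyOfFiniteType.isLocallyNoetherian (h.fiberToSpecResidueField (h u))
  have hArt : IsLocallyArtinian (O' : Scheme.{u}) :=
    IsLocallyArtinian.of_topologicalKrullDim_le_zero hO
  have hdisc : DiscreteTopology ↥(O' : Scheme.{u}) := inferInstance
  have h1 : IsOpen ({⟨h.asFiber u, hxO⟩} : Set ↥O') := @isOpen_discrete _ _ hdisc _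
  have h2 := O'.2.isOpenMap_subtype_val _ h1
  simpa using h2

theorem locallyQuasiFinite_iff_fibreDimAt_eq_zero (h : U ⟶ V) [LocallyOfFiniteType h] :
    LocallyQuasiFinite h ↔ ∀ u : ↥U, FlatMor.fibreDimAt h u = 0 := by
  constructor
  · intro hq u
    have : DiscreteTopology ↥(h.fiber (h u)) := inferInstance
    exact localDim_eq_zero_of_discrete _ _
  · intro hd
    rw [locallyQuasiFinite_iff_isDiscrete_preimage_singleton]
    intro y
    rw [isDiscrete_iff_forall_mem_exists_isOpen]
    intro u hu
    have hu' : h u = y := hu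
    subst hu'
    have h1 := isOpen_singleton_asFiber_of_fibreDimAt h u (hd u)
    rw [← (h.fiberHomeo (h u)).isOpen_image] at h1
    simp only [Set.image_singleton, Scheme.Hom.asFiber, Homeomorph.apply_symm_apply] at h1
    rw [isOpen_induced_iff] at h1
    obtain ⟨W, hW, hWeq⟩ := h1
    refine ⟨W, hW, ?_⟩
    ext w
    constructor
    · rintro ⟨hwW, hw⟩
      have : (⟨w, hw⟩ : ↥(h ⁻¹' {h u})) ∈ Subtype.val ⁻¹' W := hwW
      rw [hWeq] at this
      exact congrArg Subtype.val this
    · rintro rfl
      have : (⟨w, rfl⟩ : ↥(h ⁻¹' {h w})) ∈ Subtype.val ⁻¹' W := by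
        rw [hWeq]; rfl
      exact ⟨this, rfl⟩

end Groth.Agent.Lib.Helper14.AS
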