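import Groth.Agent.Lib.Helper14.GeomRed2

universe u
open CategoryTheory CategoryTheory.Limits AlgebraicGeometry Opposite

namespace Groth.Agent.Lib.Helper14.AS
open AlgSp

/-- The stalk map of a flat morphism is faithfully flat. -/
theorem stalkMap_faithfullyFlat {X Y : Scheme.{u}} (f : X ⟶ Y) [Flat f] (x : X) :
    (f.stalkMap x).hom.FaithfullyFlat := by
  algebraize [(f.stalkMap x).hom]
  have : Module.FaithfullyFlat (Y.presheaf.stalk (f x)) (X.presheaf.stalk x) :=
    @Module.FaithfullyFlat.of_flat_of_isLocalHom _ _ _ _ _ _ _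
      (Flat.stalkMap f x) (f.toLRSHom.prop x)
  exact ‹RingHom.FaithfullyFlat _›

section Scheme
variable {k : Type u} [Field k] {U : Scheme.{u}}

/-- `P` holds geometrically at `u`: at every point above `u` of every base change to a field. -/
def GeomAt (P : ∀ (R : Type u) [CommRing R], Prop) (f : U ⟶ Spec (CommRingCat.of k)) (u : ↥U) :
    Prop :=
  ∀ (K : Type u) [Field K] [Algebra k K] (x' : ↥(FBase.bc f K)), (FBase.bcπ f K) x' = u →
    P ↑((FBase.bc f K).presheaf.stalk x')

variable (P : ∀ (R : Type u) [CommRing R], Prop)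
  (hP : ∀ {R S : Type u} [CommRing R] [CommRing S] (φ : R →+* S), φ.FaithfullyFlat → P S → P R)
  (f : U ⟶ Spec (CommRingCat.of k)) (K : Type u) [Field K] [Algebra k K]

include hP in
theorem geomAt_bcStr_of (u : ↥U) (u' : ↥(FBase.bc f K)) (hu' : FBase.bcπ f K u' = u)
    (h : GeomAt P f u) : GeomAt P (FBase.bcStr f K) u' := by
  intro L _ _ x'' hx''
  let _ : Algebra k L := ((algebraMap K L).comp (algebraMap k K)).toAlgebra
  have : IsScalarTower k K L := IsScalarTower.of_algebraMap_eq (fun _ => rfl)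
  let y : ↥(FBase.bc f L) := (bcTowerIso f K L).inv x''
  have hy : FBase.bcπ f L y = u := by
    rw [← hu', ← hx'', ← bcTower_bcπ f K L, ← bcTowerIso_inv_bcTower f K L]
    rfl
  have hred := h L y hy
  have hxy : (bcTowerIso f K L).hom y = x'' := by
    change ((bcTowerIso f K L).inv ≫ (bcTowerIso f K L).hom) x'' = x''
    rw [Iso.inv_hom_id]
    rfl
  rw [← hxy]
  exact hP _ (stalkMap_faithfullyFlat (bcTowerIso f K L).hom y) hred

set_option backward.isDefEq.respectTransparency false in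
include hP in
theorem geomAt_of_bcStr (u : ↥U) (u' : ↥(FBase.bc f K)) (hu' : FBase.bcπ f K u' = u)
    (h : GeomAt P (FBase.bcStr f K) u') : GeomAt P f u := by
  intro L _ _ x'' hx''
  obtain ⟨z, hz1, hz2⟩ := Scheme.Pullback.exists_preimage_pullback (f := FBase.bcπ f K)
    (g := FBase.bcπ f L) u' x'' (hu'.trans hx''.symm)
  let P' : Scheme.{u} := pullback (FBase.bcπ f K) (FBase.bcπ f L)
  let Ω : Type u := P'.residueField z
  let r : Spec (P'.residueField z) ⟶ P' := P'.fromSpecResidueField z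
  let sK : Spec (P'.residueField z) ⟶ Spec (CommRingCat.of K) :=
    r ≫ pullback.fst _ _ ≫ FBase.bcStr f K
  let sL : Spec (P'.residueField z) ⟶ Spec (CommRingCat.of L) :=
    r ≫ pullback.snd _ _ ≫ FBase.bcStr f L
  let φK : K →+* Ω := (Spec.preimage sK).hom
  let φL : L →+* Ω := (Spec.preimage sL).hom
  have hφK : Spec.map (CommRingCat.ofHom φK) = sK := spec_map_ofHom_preimage sK
  have hφL : Spec.map (CommRingCat.ofHom φL) = sL := spec_map_ofHom_preimage sL
  have hcK : FBase.bcπ f K ≫ f = FBase.bcStr f K ≫ Spec.map (CommRingCat.ofHom (algebraMap k K)) :=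
    pullback.condition
  have hcL : FBase.bcπ f L ≫ f = FBase.bcStr f L ≫ Spec.map (CommRingCat.ofHom (algebraMap k L)) :=
    pullback.condition
  have hPc : pullback.fst (FBase.bcπ f K) (FBase.bcπ f L) ≫ FBase.bcπ f K =
      pullback.snd (FBase.bcπ f K) (FBase.bcπ f L) ≫ FBase.bcπ f L := pullback.condition
  have hcomp : φK.comp (algebraMap k K) = φL.comp (algebraMap k L) := by
    have h1 : Spec.map (CommRingCat.ofHom (φK.comp (algebraMap k K))) =
        Spec.map (CommRingCat.ofHom (φL.comp (algebraMap k L))) := by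
      rw [CommRingCat.ofHom_comp, CommRingCat.ofHom_comp, Spec.map_comp, Spec.map_comp, hφK, hφL]
      simp only [sK, sL, Category.assoc]
      rw [← hcK, ← hcL, reassoc_of% hPc]
    have h2 := Spec.map_injective h1
    exact congrArg CommRingCat.Hom.hom h2
  let _ : Algebra K Ω := φK.toAlgebra
  let _ : Algebra L Ω := φL.toAlgebra
  let _ : Algebra k Ω := (φK.comp (algebraMap k K)).toAlgebra
  have tK : IsScalarTower k K Ω := IsScalarTower.of_algebraMap_eq (fun _ => rfl)
  have tL : IsScalarTower k L Ω := IsScalarTower.of_algebraMap_eq (fun x => by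
    change (φK.comp (algebraMap k K)) x = (φL.comp (algebraMap k L)) x
    rw [hcomp])
  have hmc : (r ≫ pullback.fst _ _ ≫ FBase.bcπ f K) ≫ f =
      𝟙 _ ≫ Spec.map (CommRingCat.ofHom (algebraMap k Ω)) := by
    rw [Category.id_comp]
    change _ = Spec.map (CommRingCat.ofHom (φK.comp (algebraMap k K)))
    rw [CommRingCat.ofHom_comp, Spec.map_comp, hφK]
    simp only [sK, Category.assoc]
    rw [hcK]
  let m : Spec (P'.residueField z) ⟶ FBase.bc f Ω :=
    pullback.lift (r ≫ pullback.fst _ _ ≫ FBase.bcπ f K) (𝟙 _) hmc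
  have hm1 : m ≫ FBase.bcπ f Ω = r ≫ pullback.fst _ _ ≫ FBase.bcπ f K := pullback.lift_fst _ _ _
  have hm2 : m ≫ FBase.bcStr f Ω = 𝟙 _ := pullback.lift_snd _ _ _
  have E1 : m ≫ bcTower f K Ω = r ≫ pullback.fst _ _ := by
    apply pullback.hom_ext
    · change (m ≫ bcTower f K Ω) ≫ FBase.bcπ f K = (r ≫ pullback.fst _ _) ≫ FBase.bcπ f K
      rw [Category.assoc, bcTower_bcπ, hm1, Category.assoc]
    · change (m ≫ bcTower f K Ω) ≫ FBase.bcStr f K = (r ≫ pullback.fst _ _) ≫ FBase.bcStr f K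
      rw [Category.assoc, bcTower_bcStr, reassoc_of% hm2]
      change Spec.map (CommRingCat.ofHom φK) = _
      rw [hφK, Category.assoc]
  have E2 : m ≫ bcTower f L Ω = r ≫ pullback.snd _ _ := by
    apply pullback.hom_ext
    · change (m ≫ bcTower f L Ω) ≫ FBase.bcπ f L = (r ≫ pullback.snd _ _) ≫ FBase.bcπ f L
      rw [Category.assoc, bcTower_bcπ, hm1, Category.assoc, hPc]
    · change (m ≫ bcTower f L Ω) ≫ FBase.bcStr f L = (r ≫ pullback.snd _ _) ≫ FBase.bcStr f L
      rw [Category.assoc, bcTower_bcStr, reassoc_of% hm2]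
      change Spec.map (CommRingCat.ofHom φL) = _
      rw [hφL, Category.assoc]
  let c : ↥(Spec (P'.residueField z)) := IsLocalRing.closedPoint _
  have hrc : r c = z := Scheme.fromSpecResidueField_apply _ _
  let w : ↥(FBase.bc f Ω) := m c
  have hwK : bcTower f K Ω w = u' := by
    change (m ≫ bcTower f K Ω) c = u'
    rw [E1, Scheme.Hom.comp_apply, hrc, hz1]
  have hwL : bcTower f L Ω w = x'' := by
    change (m ≫ bcTower f L Ω) c = x''
    rw [E2, Scheme.Hom.comp_apply, hrc, hz2]
  let y : ↥(FBase.bc (FBase.bcStr f K) Ω) := (bcTowerIso f K Ω).hom w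
  have hy : FBase.bcπ (FBase.bcStr f K) Ω y = u' := by
    change ((bcTowerIso f K Ω).hom ≫ FBase.bcπ (FBase.bcStr f K) Ω) w = u'
    rw [bcTowerIso_hom_bcπ, hwK]
  have hredy := h Ω y hy
  have hyw : (bcTowerIso f K Ω).inv y = w := by
    change ((bcTowerIso f K Ω).hom ≫ (bcTowerIso f K Ω).inv) w = w
    rw [Iso.hom_inv_id]
    rfl
  have hredw : P ↑((FBase.bc f Ω).presheaf.stalk w) := by
    rw [← hyw]
    exact hP _ (stalkMap_faithfullyFlat (bcTowerIso f K Ω).inv y) hredy
  rw [← hwL]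
  exact hP _ (stalkMap_faithfullyFlat (bcTower f L Ω) w) hredw

include hP in
theorem geomAt_iff_bcStr (u' : ↥(FBase.bc f K)) :
    GeomAt P f (FBase.bcπ f K u') ↔ GeomAt P (FBase.bcStr f K) u' :=
  ⟨geomAt_bcStr_of P hP f K _ u' rfl, geomAt_of_bcStr P hP f K _ u' rfl⟩

end Scheme

end Groth.Agent.Lib.Helper14.AS
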