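import Groth.Agent.Lib.Helper14.AlgSpBase
import Mathlib.CategoryTheory.Limits.FullSubcategory

/-!
# Fibre products of algebraic spaces (helper14)
-/

universe u
open CategoryTheory CategoryTheory.Limits AlgebraicGeometry Opposite

namespace Groth.Agent.Lib.Helper14.AS

open AlgSp

variable {S : Scheme.{u}}

/-- A pullback square over `j ≫` with `j` mono is a pullback square. -/
theorem isPullback_of_comp_mono {C : Type*} [Category C] {W A B P Z : C} {fst : W ⟶ A}
    {snd : W ⟶ B} {t : A ⟶ P} {t' : B ⟶ P} (j : P ⟶ Z) [Mono j]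
    (h : IsPullback fst snd (t ≫ j) (t' ≫ j)) : IsPullback fst snd t t' := by
  have w : fst ≫ t = snd ≫ t' := by
    rw [← cancel_mono j, Category.assoc, Category.assoc, h.w]
  refine ⟨⟨w⟩, ⟨PullbackCone.IsLimit.mk w
    (fun s => h.lift s.fst s.snd (by rw [← Category.assoc, s.condition, Category.assoc]))
    (fun s => h.lift_fst _ _ _) (fun s => h.lift_snd _ _ _) ?_⟩⟩
  intro s m h1 h2
  apply h.hom_ext
  · rw [h1, h.lift_fst]
  · rw [h2, h.lift_snd]

/-- Every map from a scheme to `F` is representable (equivalent to the diagonal of `F` being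
representable). -/
def RepDiag (F : Sp S) : Prop := ∀ ⦃U : Over S⦄ (g : (yon S).obj U ⟶ F), Representable g

theorem repDiag_iff (F : Sp S) : Representable (Limits.diag F) ↔ RepDiag F :=
  Functor.relativelyRepresentable.diag_iff

theorem repDiag_of_isAlgSpace {F : Sp S} (h : IsAlgSpace F) : RepDiag F := (repDiag_iff F).1 h.diag

theorem RepDiag.of_mono {P Z : Sp S} (j : P ⟶ Z) [Mono j] (hZ : RepDiag Z) : RepDiag P := by
  intro U g U' g'
  obtain ⟨V, snd, fst, sq⟩ := hZ (g ≫ j) (g' ≫ j)
  exact ⟨V, snd, fst, isPullback_of_comp_mono j sq⟩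

set_option backward.isDefEq.respectTransparency false in
theorem isPullback_prod_snd_with_id {C : Type*} [Category C] {A B : C} (f : A ⟶ B) (X : C)
    [HasBinaryProduct X A] [HasBinaryProduct X B] :
    IsPullback prod.snd (prod.map (𝟙 X) f) f prod.snd where
  w := by simp
  isLimit' := ⟨PullbackCone.isLimitAux' _ (fun s ↦ by
    refine ⟨prod.lift (s.snd ≫ prod.fst) s.fst, ?_, ?_, ?_⟩
    · simp
    · ext
      · simp
      · simp [PullbackCone.condition]
    · intro m h₁ h₂
      dsimp at m h₁ h₂ ⊢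
      apply Limits.prod.hom_ext
      · simp [← h₂]
      · simpa using h₁)⟩

theorem representable_diag_yon (T : Over S) : Representable (Limits.diag ((yon S).obj T)) :=
  (IsAlgSpace.yon_obj T).diag

theorem RepDiag.prod {X Y : Sp S} (hX : RepDiag X) (hY : RepDiag Y) : RepDiag (X ⨯ Y) := by
  intro T c
  have hc : c = Limits.diag ((yon S).obj T) ≫ prod.map (c ≫ prod.fst) (𝟙 _) ≫
      prod.map (𝟙 _) (c ≫ prod.snd) := by
    apply Limits.prod.hom_ext
    · simp only [Category.assoc, prod.map_fst, Category.comp_id]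
      rw [← Category.assoc (Limits.diag _), Limits.diag, prod.lift_fst, Category.id_comp]
    · simp only [Category.assoc, prod.map_snd]
      rw [prod.map_snd_assoc, Category.id_comp, ← Category.assoc (Limits.diag _), Limits.diag,
        prod.lift_snd, Category.id_comp]
  rw [hc]
  refine MorphismProperty.comp_mem _ _ _ (representable_diag_yon T)
    (MorphismProperty.comp_mem _ _ _ ?_ ?_)
  · exact MorphismProperty.of_isPullback
      (IsPullback.of_prod_fst_with_id (c ≫ prod.fst) ((yon S).obj T)) (hX _)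
  · exact MorphismProperty.of_isPullback
      (isPullback_prod_snd_with_id (c ≫ prod.snd) X) (hY _)

/-- A fibre product of sheaves with representable diagonals has representable diagonal. -/
theorem RepDiag.of_isPullback {X Y H P : Sp S} {fst : P ⟶ X} {snd : P ⟶ Y} {f : X ⟶ H}
    {g : Y ⟶ H} (h : IsPullback fst snd f g) (hX : RepDiag X) (hY : RepDiag Y) : RepDiag P := by
  have : Mono (prod.lift fst snd) := by
    constructor
    intro Z a b hab
    apply h.hom_ext
    · have := congrArg (· ≫ prod.fst) hab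
      simpa only [Category.assoc, prod.lift_fst] using this
    · have := congrArg (· ≫ prod.snd) hab
      simpa only [Category.assoc, prod.lift_snd] using this
  exact RepDiag.of_mono (prod.lift fst snd) (hX.prod hY)

/-- The map `A ×_H B ⟶ X ×_H Y` induced by `pX : A ⟶ X`, `pY : B ⟶ Y` has every property
stable under base change and composition that `pX` and `pY` have. -/
theorem prop_lift_of_charts {C : Type*} [Category C] [HasPullbacks C] (R : MorphismProperty C)
    [R.IsStableUnderBaseChange] [R.IsStableUnderComposition] {X Y H P A B W : C} {fst : P ⟶ X}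
    {snd : P ⟶ Y} {f : X ⟶ H} {g : Y ⟶ H} (h : IsPullback fst snd f g) {pX : A ⟶ X} {pY : B ⟶ Y}
    {a : W ⟶ A} {b : W ⟶ B} (hW : IsPullback a b (pX ≫ f) (pY ≫ g)) (hpX : R pX) (hpY : R pY)
    (w : W ⟶ P) (hw1 : w ≫ fst = a ≫ pX) (hw2 : w ≫ snd = b ≫ pY) : R w := by
  let m1 : pullback f (pY ≫ g) ⟶ X := pullback.fst _ _
  let m2 : pullback f (pY ≫ g) ⟶ B := pullback.snd _ _
  have hM : IsPullback m1 m2 f (pY ≫ g) := IsPullback.of_hasPullback _ _
  have ck : m1 ≫ f = (m2 ≫ pY) ≫ g := by rw [Category.assoc]; exact hM.w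
  let k : pullback f (pY ≫ g) ⟶ P := h.lift m1 (m2 ≫ pY) ck
  have hk1 : k ≫ fst = m1 := h.lift_fst _ _ _
  have hk2 : k ≫ snd = m2 ≫ pY := h.lift_snd _ _ _
  have sqk : IsPullback k m2 snd pY :=
    IsPullback.of_right (by rw [hk1]; exact hM) hk2 h
  have cj : (a ≫ pX) ≫ f = b ≫ (pY ≫ g) := by rw [Category.assoc]; exact hW.w
  let j : W ⟶ pullback f (pY ≫ g) := hM.lift (a ≫ pX) b cj
  have hj1 : j ≫ m1 = a ≫ pX := hM.lift_fst _ _ _
  have hj2 : j ≫ m2 = b := hM.lift_snd _ _ _
  have sqj : IsPullback a j pX m1 :=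
    IsPullback.of_bot (by rw [hj2]; exact hW) hj1.symm hM
  have hRk : R k := MorphismProperty.of_isPullback sqk.flip hpY
  have hRj : R j := MorphismProperty.of_isPullback sqj hpX
  have hwjk : w = j ≫ k := by
    apply h.hom_ext
    · rw [hw1, Category.assoc, hk1, hj1]
    · rw [hw2, Category.assoc, hk2, ← Category.assoc, hj2]
  rw [hwjk]
  exact R.comp_mem _ _ hRj hRk

set_option backward.isDefEq.respectTransparency.types false in
/-- A fibre product of algebraic spaces over a sheaf with representable diagonal is an algebraic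
space. -/
theorem isAlgSpace_of_isPullback {X Y H P : Sp S} (hH : RepDiag H) (hX : IsAlgSpace X)
    (hY : IsAlgSpace Y) {fst : P ⟶ X} {snd : P ⟶ Y} {f : X ⟶ H} {g : Y ⟶ H}
    (h : IsPullback fst snd f g) : IsAlgSpace P := by
  refine ⟨(repDiag_iff P).2 (RepDiag.of_isPullback h (repDiag_of_isAlgSpace hX) (repDiag_of_isAlgSpace hY)), ?_⟩
  obtain ⟨U, pX, hXe, hXs⟩ := hX.atlas
  obtain ⟨V, pY, hYe, hYs⟩ := hY.atlas
  have rep := hH (pX ≫ f)
  have hW := rep.isPullback (pY ≫ g)
  have cw : (rep.fst (pY ≫ g) ≫ pX) ≫ f = ((yon S).map (rep.snd (pY ≫ g)) ≫ pY) ≫ g := by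
    rw [Category.assoc, Category.assoc]; exact hW.w
  refine ⟨rep.pullback (pY ≫ g), h.lift _ _ cw, ?_, ?_⟩
  · exact prop_lift_of_charts (RepWith @Etale) h hW hXe hYe _ (h.lift_fst _ _ _) (h.lift_snd _ _ _)
  · exact prop_lift_of_charts (RepWith @Surjective) h hW hXs hYs _ (h.lift_fst _ _ _)
      (h.lift_snd _ _ _)

instance isAlgSpace_isClosedUnderLimitsOfShape_walkingCospan :
    ObjectProperty.IsClosedUnderLimitsOfShape (IsAlgSpace (S := S)) WalkingCospan := by
  apply ObjectProperty.IsClosedUnderLimitsOfShape.mk'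
  rintro _ ⟨F, hF⟩
  have e : limit F ≅ pullback (F.map WalkingCospan.Hom.inl) (F.map WalkingCospan.Hom.inr) :=
    HasLimit.isoOfNatIso (diagramIsoCospan F)
  refine IsAlgSpace.of_iso ?_ e.symm
  exact isAlgSpace_of_isPullback (repDiag_of_isAlgSpace (hF WalkingCospan.one))
    (hF WalkingCospan.left) (hF WalkingCospan.right) (IsPullback.of_hasPullback _ _)

theorem hasPullbacks_space (S : Scheme.{u}) :
    HasPullbacks (AlgSp.Space S) ∧
      PreservesLimitsOfShape WalkingCospan (ObjectProperty.ι (AlgSp.IsAlgSpace (S := S))) :=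
  ⟨hasLimitsOfShape_of_closedUnderLimits _ _, inferInstance⟩

end Groth.Agent.Lib.Helper14.AS
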