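import Groth.Agent.Lib.Helper14.AlgSpPoints2
import Groth.Agent.Lib.Helper14.AlgSpFibre

/-!
# Points of algebraic spaces, part 3: universally open morphisms (helper14)
-/

universe u
open CategoryTheory CategoryTheory.Limits AlgebraicGeometry Opposite Topology

namespace Groth.Agent.Lib.Helper14.AS

open AlgSp

variable {S : Scheme.{u}}

theorem etale_le_universallyOpen : (@Etale : MorphismProperty Scheme.{u}) ≤ @UniversallyOpen :=
  fun _ _ _ h => by have := h; infer_instance

/-- A representable etale surjective morphism to an algebraic space is a quotient map on points. -/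
theorem isQuotientMap_points_of_etale_surjective {F G : Sp S} (hG : IsAlgSpace G) {e : F ⟶ G}
    (he : RepWith @Etale e) (hs : RepWith @Surjective e) : IsQuotientMap (Points.map e) :=
  (isOpenMap_points_of_repWith_universallyOpen hG
    (repWith_mono etale_le_universallyOpen he)).isQuotientMap (Points.continuous_map e)
    (points_map_surjective_of_repWith hs)

/-- Universal openness can be tested on affine schemes over the target. -/
theorem isUnivOpenMor_iff_affine {X Y : Sp S} (f : X ⟶ Y) :
    IsUnivOpenMor f ↔
      ∀ (Z : Over S), IsAffine Z.left → ∀ (g : (yon S).obj Z ⟶ Y) (P : Sp S)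
        (fst : P ⟶ X) (snd : P ⟶ (yon S).obj Z), IsPullback fst snd f g →
        IsOpenMap (Points.map snd) := by
  constructor
  · intro h Z _ g P fst snd sq
    exact h (IsAlgSpace.yon_obj Z) g fst snd sq
  · intro h Z Z' _ g fst snd sq A hA
    rw [points_isOpen_iff_affine]
    intro T hT t
    have sq1 := IsPullback.of_hasPullback snd t
    have hopen := h T hT (t ≫ g) _ _ _ (sq1.paste_horiz sq)
    have e : Points.ofPt t ⁻¹' (Points.map snd '' A) =
        (Points.schemeHomeo T) ⁻¹' (Points.map t ⁻¹' (Points.map snd '' A)) := by
      ext x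
      simp only [Set.mem_preimage]
      rw [Points.ofPt_eq_map_ofScheme]
      rfl
    rw [e, points_preimage_image_eq sq1]
    exact (hopen _ (hA.preimage (Points.continuous_map _))).preimage
      (Points.schemeHomeo T).continuous

/-- Universal openness descends along an etale surjective base change. -/
theorem isUnivOpenMor_of_etale_cover {X Y V P : Sp S} (hY : IsAlgSpace Y) (hV : IsAlgSpace V)
    {f : X ⟶ Y} (p : V ⟶ Y) (hp : RepWith @Etale p) (hps : RepWith @Surjective p)
    {fst : P ⟶ X} {snd : P ⟶ V} (sq : IsPullback fst snd f p) (h : IsUnivOpenMor snd) :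
    IsUnivOpenMor f := by
  intro Z Z' hZ g fstZ sndZ sqZ A hA
  have sqV := IsPullback.of_hasPullback g p
  have hZV : IsAlgSpace (pullback g p) :=
    isAlgSpace_of_isPullback (repDiag_of_isAlgSpace hY) hZ hV sqV
  have he1 : RepWith @Etale (pullback.fst g p) :=
    MorphismProperty.of_isPullback (P := RepWith @Etale) sqV.flip hp
  have hs1 : RepWith @Surjective (pullback.fst g p) :=
    MorphismProperty.of_isPullback (P := RepWith @Surjective) sqV.flip hps
  have sq1 := IsPullback.of_hasPullback sndZ (pullback.fst g p)
  have big := sq1.paste_horiz sqZ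
  have hc : (pullback.fst sndZ (pullback.fst g p) ≫ fstZ) ≫ f =
      (pullback.snd sndZ (pullback.fst g p) ≫ pullback.snd g p) ≫ p := by
    rw [big.w, Category.assoc, sqV.w]
  have key : IsPullback (sq.lift _ _ hc) (pullback.snd sndZ (pullback.fst g p)) snd
      (pullback.snd g p) := by
    refine IsPullback.of_right ?_ (sq.lift_snd _ _ _) sq
    rw [sq.lift_fst, ← sqV.w]
    exact big
  have hopen := h hZV _ _ _ key
  rw [← (isQuotientMap_points_of_etale_surjective hZ he1 hs1).isOpen_preimage,
    points_preimage_image_eq sq1]
  exact hopen _ (hA.preimage (Points.continuous_map _))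

/-- A morphism from an algebraic space to the spectrum of a field is universally open. -/
theorem isUnivOpenMor_to_field {X : Sp S} (hX : IsAlgSpace X) {k : Type u} [Field k]
    (str : Spec (CommRingCat.of k) ⟶ S) (p : X ⟶ (yon S).obj (Over.mk str)) :
    IsUnivOpenMor p := by
  intro Z Z' hZ g fst snd sq
  obtain ⟨U, a, hae, has⟩ := hX.atlas
  obtain ⟨φ, hφ⟩ := (yon S).map_surjective (a ≫ p)
  have hφo : UniversallyOpen φ.left := by
    have key : ∀ (f : U.left ⟶ Spec (CommRingCat.of k)), UniversallyOpen f :=
      fun f => inferInstance
    exact key φ.left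
  have hc : RepWith @UniversallyOpen (a ≫ p) := by
    rw [← hφ]; exact (repWith_yon_map_iff _ _).2 hφo
  have sq1 := IsPullback.of_hasPullback a fst
  have big := (sq1.flip.paste_horiz sq.flip).flip
  have hopen : IsOpenMap (Points.map (pullback.snd a fst ≫ snd)) :=
    isOpenMap_points_of_repWith_universallyOpen hZ
      (MorphismProperty.of_isPullback (P := RepWith @UniversallyOpen) big hc)
  have hsurj : RepWith @Surjective (pullback.snd a fst) :=
    MorphismProperty.of_isPullback (P := RepWith @Surjective) sq1 has
  exact isOpenMap_points_of_comp_surjective _ _ (points_map_surjective_of_repWith hsurj) hopen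

end Groth.Agent.Lib.Helper14.AS
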