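import Groth.Agent.Lib.Helper14.AlgSpInj
import Mathlib.AlgebraicGeometry.Morphisms.FlatMono

/-!
# Field-valued points as morphisms; monomorphisms to fields (helper14)
-/

universe u
open CategoryTheory CategoryTheory.Limits AlgebraicGeometry Opposite Topology

namespace Groth.Agent.Lib.Helper14.AS

open AlgSp

variable {S : Scheme.{u}}

/-- The point of a sheaf defined by a morphism from the spectrum of a field. -/
noncomputable def fpt {F : Sp S} {K : Type u} [Field K] {str : Spec (CommRingCat.of K) ⟶ S}
    (a : (yon S).obj (Over.mk str) ⟶ F) : Points F :=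
  Points.mk ⟨K, str, yEquiv a⟩

theorem exists_fpt_eq {F : Sp S} (x : Points F) :
    ∃ (K : Type u) (_ : Field K) (str : Spec (CommRingCat.of K) ⟶ S)
      (a : (yon S).obj (Over.mk str) ⟶ F), fpt a = x := by
  induction x using Points.ind with
  | h p =>
  refine ⟨p.K, inferInstance, p.str, yEquiv.symm p.val, ?_⟩
  simp only [fpt, Equiv.apply_symm_apply]
  rfl

theorem map_fpt {F G : Sp S} (f : F ⟶ G) {K : Type u} [Field K]
    {str : Spec (CommRingCat.of K) ⟶ S} (a : (yon S).obj (Over.mk str) ⟶ F) :
    Points.map f (fpt a) = fpt (a ≫ f) := by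
  have h1 := (AlgSp.J S).uliftYonedaEquiv_comp a f
  simp only [fpt, Points.map_mk, FieldPt.map]
  rw [h1]

theorem fpt_eq_iff {F : Sp S} {K L : Type u} [Field K] [Field L]
    {strK : Spec (CommRingCat.of K) ⟶ S} {strL : Spec (CommRingCat.of L) ⟶ S}
    (a : (yon S).obj (Over.mk strK) ⟶ F) (b : (yon S).obj (Over.mk strL) ⟶ F) :
    fpt a = fpt b ↔ ∃ (Ω : Type u) (_ : Field Ω) (w : Spec (CommRingCat.of Ω) ⟶ S)
      (i : Over.mk w ⟶ Over.mk strK) (j : Over.mk w ⟶ Over.mk strL),
      (yon S).map i ≫ a = (yon S).map j ≫ b := by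
  rw [fpt, fpt, Points.mk_eq_mk_iff]
  constructor
  · rintro ⟨Ω, _, w, i, j, h⟩
    refine ⟨Ω, inferInstance, w, i, j, ?_⟩
    apply yEquiv.injective
    have h1 := (AlgSp.J S).uliftYonedaEquiv_naturality a i
    have h2 := (AlgSp.J S).uliftYonedaEquiv_naturality b j
    exact h1.symm.trans (h.trans h2)
  · rintro ⟨Ω, _, w, i, j, h⟩
    refine ⟨Ω, inferInstance, w, i, j, ?_⟩
    have h1 := (AlgSp.J S).uliftYonedaEquiv_naturality a i
    have h2 := (AlgSp.J S).uliftYonedaEquiv_naturality b j
    exact h1.trans ((congrArg yEquiv h).trans h2.symm)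

theorem fpt_comp_eq {F : Sp S} {K Ω : Type u} [Field K] [Field Ω]
    {strK : Spec (CommRingCat.of K) ⟶ S} {w : Spec (CommRingCat.of Ω) ⟶ S}
    (i : Over.mk w ⟶ Over.mk strK) (a : (yon S).obj (Over.mk strK) ⟶ F) :
    fpt ((yon S).map i ≫ a) = fpt a :=
  (fpt_eq_iff _ _).2 ⟨Ω, inferInstance, w, 𝟙 _, i, by rw [(yon S).map_id, Category.id_comp]⟩

/-- A monomorphism from a nonempty scheme to the spectrum of a field is an isomorphism. -/
theorem isIso_of_mono_to_field {V : Scheme.{u}} {K : Type u} [Field K]
    (f : V ⟶ Spec (CommRingCat.of K)) [Mono f] [Nonempty ↥V] : IsIso f := by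
  have hinj : Function.Injective f := f.injective
  have : Subsingleton ↥V := hinj.subsingleton
  have : CompactSpace ↥V := Finite.compactSpace
  have : Surjective f := ⟨fun y => ⟨Classical.arbitrary _, Subsingleton.elim _ _⟩⟩
  have : QuasiCompact f := inferInstance
  exact Flat.isIso_of_surjective_of_mono f

set_option backward.isDefEq.respectTransparency false in
/-- Two field-valued points of a sheaf with representable diagonal that agree after a field
extension are equal. -/
theorem eq_of_comp_field_ext {X : Sp S} (hX : Representable (Limits.diag X)) {K Ω : Type u}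
    [Field K] [Field Ω] {strK : Spec (CommRingCat.of K) ⟶ S} {w : Spec (CommRingCat.of Ω) ⟶ S}
    (j : Over.mk w ⟶ Over.mk strK) (a a' : (yon S).obj (Over.mk strK) ⟶ X)
    (h : (yon S).map j ≫ a = (yon S).map j ≫ a') : a = a' := by
  have sq := hX.isPullback (prod.lift a a')
  have hmono : Mono ((yon S).map (hX.snd (prod.lift a a'))) := by
    have : Mono (Limits.diag X) := inferInstance
    exact (MorphismProperty.monomorphisms _).of_isPullback sq (.infer_property _)
  have hm2 : Mono (hX.snd (prod.lift a a')) := (yon S).mono_of_mono_map hmono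
  have hm3 : Mono (hX.snd (prod.lift a a')).left := inferInstance
  have hc : ((yon S).map j ≫ a) ≫ Limits.diag X = (yon S).map j ≫ prod.lift a a' := by
    apply Limits.prod.hom_ext
    · simp [Limits.diag]
    · simp [Limits.diag, h]
  obtain ⟨s, hs⟩ := (yon S).map_surjective (sq.lift _ _ hc)
  have : Nonempty ↥(hX.pullback (prod.lift a a')).left :=
    ⟨s.left (IsLocalRing.closedPoint Ω)⟩
  have hiso : IsIso (hX.snd (prod.lift a a')).left :=
    isIso_of_mono_to_field (K := K) (hX.snd (prod.lift a a')).left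
  have hiso2 : IsIso (hX.snd (prod.lift a a')) :=
    have : IsIso ((Over.forget S).map (hX.snd (prod.lift a a'))) := hiso
    isIso_of_reflects_iso _ (Over.forget S)
  have e : (yon S).map (inv (hX.snd (prod.lift a a'))) ≫ hX.fst (prod.lift a a') ≫ Limits.diag X
      = prod.lift a a' := by
    rw [sq.w, ← Category.assoc, ← Functor.map_comp, IsIso.inv_hom_id, (yon S).map_id,
      Category.id_comp]
  have e1 := congrArg (· ≫ prod.fst) e
  have e2 := congrArg (· ≫ prod.snd) e
  simp only [Category.assoc, Limits.diag, prod.lift_fst, prod.lift_snd, Category.comp_id] at e1 e2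
  exact e1.symm.trans e2

end Groth.Agent.Lib.Helper14.AS
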