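import Mathlib
import Groth.Prelude.Def_AlgSpCov
import Groth.Agent.Lib.Helper14.AlgSpLocP2
import Groth.Agent.Lib.Helper14.FpqcSch
import Groth.Agent.Lib.Helper14.FpqcBase
import Groth.Agent.Lib.Helper14.AlgSpSubm

/-!
# Basic properties of fpqc coverings of algebraic spaces (helper14)
-/

universe u
open CategoryTheory CategoryTheory.Limits AlgebraicGeometry Opposite Topology

namespace Groth.Agent.Lib.Helper14.AS

open AlgSp

variable {S : Scheme.{u}}

set_option backward.isDefEq.respectTransparency.types false in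
theorem isFpqcCover_of_isPullback {X X' : Sp S} (hX : IsAlgSpace X) (hX' : IsAlgSpace X')
    (a : X' ⟶ X) {ι : Type u} (Xi : ι → Sp S) (g : ∀ i, Xi i ⟶ X) (hXi : ∀ i, IsAlgSpace (Xi i))
    (Xi' : ι → Sp S) (q : ∀ i, Xi' i ⟶ X') (p : ∀ i, Xi' i ⟶ Xi i)
    (sq : ∀ i, IsPullback (q i) (p i) a (g i)) (h : IsFpqcCover Xi g) : IsFpqcCover Xi' q := by
  refine ⟨fun i => ?_, fun Z hZ t => ?_⟩
  · exact locP_baseChange etLocal_flat (hXi i) hX hX' (g i) a (p i) (q i) (sq i).flip (h.1 i)
  · obtain ⟨m, W, c, hWa, hWf, hWs, hl⟩ := h.2 Z hZ (t ≫ a)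
    refine ⟨m, W, c, hWa, hWf, hWs, fun j => ?_⟩
    obtain ⟨i, l, hl⟩ := hl j
    exact ⟨i, (sq i).lift ((yon S).map (c j) ≫ t) l (by rw [Category.assoc, hl]),
      (sq i).lift_fst _ _ _⟩

/-- The members of an fpqc covering are jointly surjective on points. -/
theorem points_exists_of_isFpqcCover {X : Sp S} {ι : Type u} (Xi : ι → Sp S) (g : ∀ i, Xi i ⟶ X)
    (h : IsFpqcCover Xi g) (x : Points X) : ∃ i, x ∈ Set.range (Points.map (g i)) := by
  obtain ⟨T, hT, t, w, rfl⟩ := exists_affine_point x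
  obtain ⟨m, W, c, hWa, hWf, hWs, hl⟩ := h.2 T hT t
  obtain ⟨j, w', rfl⟩ := points_exists_of_fpqc_family W c hWs w
  obtain ⟨i, l, hl⟩ := hl j
  refine ⟨i, Points.map l w', ?_⟩
  rw [← Points.map_comp, hl, Points.map_comp]


/-- ring-level: `g ∘ f` flat, `g` flat local hom of local rings implies `f` flat. -/
theorem ringHom_flat_of_comp_of_local {R A B : Type u} [CommRing R] [CommRing A]
    [CommRing B] (f : R →+* A) (g : A →+* B) (hg : g.Flat) [IsLocalRing A] [IsLocalRing B]
    [IsLocalHom g] (hgf : (g.comp f).Flat) : f.Flat := by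
  algebraize [f, g, g.comp f]
  have : IsLocalHom (algebraMap A B) := ‹IsLocalHom g›
  have : Module.FaithfullyFlat A B := Module.FaithfullyFlat.of_flat_of_isLocalHom
  exact ESL.flat_of_faithfullyFlat_comp R A B

/-- Flatness can be checked on a jointly surjective family of flat morphisms to the source. -/
theorem flat_of_flat_family {U V : Scheme.{u}} (k : U ⟶ V) {ι : Type*} (U' : ι → Scheme.{u})
    (p : ∀ i, U' i ⟶ U) (hp : ∀ i, Flat (p i)) (hs : ∀ u : U, ∃ i, u ∈ Set.range (p i))
    (H : ∀ i, Flat (p i ≫ k)) : Flat k := by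
  refine Flat.of_stalkMap k fun u => ?_
  obtain ⟨i, u', rfl⟩ := hs u
  have h1 : ((p i).stalkMap u').hom.Flat := Flat.stalkMap (p i) u'
  have h2 : ((p i ≫ k).stalkMap u').hom.Flat := Flat.stalkMap (p i ≫ k) u'
  rw [Scheme.Hom.stalkMap_comp] at h2
  have : IsLocalHom ((p i).stalkMap u').hom := (p i).toLRSHom.prop u'
  exact ringHom_flat_of_comp_of_local _ _ h1 h2

set_option backward.isDefEq.respectTransparency.types false in
/-- Given a jointly surjective family `g i : Xi i ⟶ X` of morphisms of algebraic spaces and a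
chart `a : h_U ⟶ X`, a family of charts `U' i` of the `Xi i` with maps to `U` which are jointly
surjective. -/
theorem exists_chart_family {X : Sp S} (hX : IsAlgSpace X) {ι : Type*} (Xi : ι → Sp S)
    (g : ∀ i, Xi i ⟶ X) (hXi : ∀ i, IsAlgSpace (Xi i))
    (hs : ∀ x : Points X, ∃ i, x ∈ Set.range (Points.map (g i))) {U : Over S}
    (a : (yon S).obj U ⟶ X) (hae : RepWith @Etale a) :
    ∃ (U' : ι → Over S) (a' : ∀ i, (yon S).obj (U' i) ⟶ Xi i) (p : ∀ i, U' i ⟶ U),
      (∀ i, RepWith @Etale (a' i)) ∧ (∀ i, a' i ≫ g i = (yon S).map (p i) ≫ a) ∧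
      ∀ u : ↥U.left, ∃ i, u ∈ Set.range (p i).left := by
  have sq := fun i => IsPullback.of_hasPullback (g i) a
  have hP : ∀ i, IsAlgSpace (pullback (g i) a) := fun i =>
    isAlgSpace_of_isPullback (repDiag_of_isAlgSpace hX) (hXi i) (IsAlgSpace.yon_obj U) (sq i)
  choose U' c hce hcs using fun i => (hP i).atlas
  choose p hp using fun i => (yon S).map_surjective (c i ≫ pullback.snd (g i) a)
  refine ⟨U', fun i => c i ≫ pullback.fst (g i) a, p, fun i => ?_, fun i => ?_, fun u => ?_⟩
  · exact repWith_comp _ (hce i) (repWith_of_isPullback _ (sq i).flip hae)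
  · rw [hp, Category.assoc, Category.assoc, (sq i).w]
  · obtain ⟨i, xi, hxi⟩ := hs (Points.ofPt a u)
    obtain ⟨z, -, hz⟩ := points_exists_of_isPullback (sq i) xi (Points.schemeHomeo U u)
      (by rw [hxi, Points.ofPt_eq_map_ofScheme]; rfl)
    obtain ⟨u', rfl⟩ := ofPt_surjective_of_repWith (hcs i) z
    refine ⟨i, u', ?_⟩
    have := schemeHomeo_symm_map_ofPt (pullback.snd (g i) a) (c i) (p i) (hp i).symm u'
    rw [hz, Homeomorph.symm_apply_apply] at this
    exact this.symm

set_option backward.isDefEq.respectTransparency.types false in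
theorem isLocalOnSource_fpqc_locP_flat :
    IsLocalOnSource (IsFpqcCover (S := S)) (LocP @Flat) := by
  intro ι X Xi g hX hXi hcov Y f hY
  constructor
  · intro hf i
    exact locP_comp etLocal_flat (hXi i) hX hY (g i) f (hcov.1 i) hf
  · intro H
    obtain ⟨V, b, hbe, hbs⟩ := hY.atlas
    obtain ⟨U, a, k, hae, has, comm⟩ := exists_chart_diagram hX f b hbe hbs
    refine locP_of_chart etLocal_flat f a b k hae has hbe comm ?_
    obtain ⟨U', a', p, ha'e, hcomm, hsurj⟩ := exists_chart_family hX Xi g hXi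
      (points_exists_of_isFpqcCover Xi g hcov) a hae
    refine flat_of_flat_family k.left (fun i => (U' i).left) (fun i => (p i).left)
      (fun i => ?_) hsurj fun i => ?_
    · exact hcov.1 i (a' i) a (p i) (ha'e i) hae (hcomm i)
    · have := H i (a' i) b (p i ≫ k) (ha'e i) hbe (by
        rw [← Category.assoc, hcomm i, Category.assoc, comm, Functor.map_comp, Category.assoc])
      exact this

end Groth.Agent.Lib.Helper14.AS
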