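import Mathlib
import Groth.Agent.Lib.Helper14.FpqcCover

/-!
# More on fpqc coverings of algebraic spaces: composition, fppf coverings, charts (helper14)
-/

universe u
open CategoryTheory CategoryTheory.Limits AlgebraicGeometry Opposite Topology

namespace Groth.Agent.Lib.Helper14.AS

open AlgSp

variable {S : Scheme.{u}}

/-- Reindexing a family over a finite type by `Fin m`. -/
theorem exists_fin_family {Z : Over S} {κ : Type*} [Finite κ] (W : κ → Over S)
    (c : ∀ j, W j ⟶ Z) (R : ∀ (W : Over S), (W ⟶ Z) → Prop) (hR : ∀ j, R (W j) (c j))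
    (hs : ∀ z : ↥Z.left, ∃ j, z ∈ Set.range (c j).left) :
    ∃ (m : ℕ) (W' : Fin m → Over S) (c' : ∀ j, W' j ⟶ Z), (∀ j, R (W' j) (c' j)) ∧
      ∀ z : ↥Z.left, ∃ j, z ∈ Set.range (c' j).left := by
  obtain ⟨m, ⟨e⟩⟩ := Finite.exists_equiv_fin κ
  refine ⟨m, fun j => W (e.symm j), fun j => c (e.symm j), fun j => hR _, fun z => ?_⟩
  obtain ⟨j, hj⟩ := hs z
  obtain ⟨j', rfl⟩ := e.symm.surjective j
  exact ⟨j', hj⟩

/-- The refinement condition of an fpqc covering, from a family indexed by a finite type. -/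
theorem fpqc_refinement_of_finite {X : Sp S} {ι : Type u} (Xi : ι → Sp S) (g : ∀ i, Xi i ⟶ X)
    {Z : Over S} (t : (yon S).obj Z ⟶ X) {κ : Type*} [Finite κ] (W : κ → Over S)
    (c : ∀ j, W j ⟶ Z) (hWa : ∀ j, IsAffine (W j).left) (hWf : ∀ j, Flat (c j).left)
    (hWs : ∀ z : ↥Z.left, ∃ j, z ∈ Set.range (c j).left)
    (hl : ∀ j, ∃ (i : ι) (l : (yon S).obj (W j) ⟶ Xi i), l ≫ g i = (yon S).map (c j) ≫ t) :
    ∃ (m : ℕ) (W : Fin m → Over S) (c : ∀ j, W j ⟶ Z),
        (∀ j, IsAffine (W j).left) ∧ (∀ j, Flat (c j).left) ∧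
        (∀ z : ↥Z.left, ∃ j, z ∈ Set.range (c j).left) ∧
        ∀ j, ∃ (i : _) (l : (yon S).obj (W j) ⟶ Xi i), l ≫ g i = (yon S).map (c j) ≫ t := by
  obtain ⟨m, W', c', hR, hs⟩ := exists_fin_family W c
    (fun W c => IsAffine W.left ∧ Flat c.left ∧
      ∃ (i : ι) (l : (yon S).obj W ⟶ Xi i), l ≫ g i = (yon S).map c ≫ t)
    (fun j => ⟨hWa j, hWf j, hl j⟩) hWs
  exact ⟨m, W', c', fun j => (hR j).1, fun j => (hR j).2.1, hs, fun j => (hR j).2.2⟩

set_option backward.isDefEq.respectTransparency.types false in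
/-- Composition of fpqc coverings. -/
theorem isFpqcCover_sigma {X : Sp S} (hX : IsAlgSpace X) {ι : Type u} (Xi : ι → Sp S)
    (g : ∀ i, Xi i ⟶ X) (hXi : ∀ i, IsAlgSpace (Xi i)) (κ : ι → Type u)
    (Xij : ∀ i, κ i → Sp S) (gij : ∀ i j, Xij i j ⟶ Xi i) (hXij : ∀ i j, IsAlgSpace (Xij i j))
    (h : IsFpqcCover Xi g) (hij : ∀ i, IsFpqcCover (Xij i) (gij i)) :
    IsFpqcCover (fun r : Σ i, κ i => Xij r.1 r.2) (fun r => gij r.1 r.2 ≫ g r.1) := by
  refine ⟨fun r => ?_, fun Z hZ t => ?_⟩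
  · exact locP_comp etLocal_flat (hXij r.1 r.2) (hXi r.1) hX _ _ ((hij r.1).1 r.2) (h.1 r.1)
  · obtain ⟨m, W, c, hWa, hWf, hWs, hl⟩ := h.2 Z hZ t
    choose i l hl using hl
    choose m' W' c' hW'a hW'f hW's hl' using fun j => (hij (i j)).2 (W j) (hWa j) (l j)
    refine fpqc_refinement_of_finite _ _ t (κ := Σ j : Fin m, Fin (m' j))
      (fun r => W' r.1 r.2) (fun r => c' r.1 r.2 ≫ c r.1) (fun r => hW'a r.1 r.2)
      (fun r => ?_) (fun z => ?_) (fun r => ?_)
    · rw [Over.comp_left]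
      have := hW'f r.1 r.2
      have := hWf r.1
      infer_instance
    · obtain ⟨j, w, rfl⟩ := hWs z
      obtain ⟨k, w', rfl⟩ := hW's j w
      exact ⟨⟨j, k⟩, w', rfl⟩
    · obtain ⟨k, l', hl'⟩ := hl' r.1 r.2
      refine ⟨⟨i r.1, k⟩, l', ?_⟩
      rw [← Category.assoc, hl', Category.assoc, hl, Functor.map_comp, Category.assoc]


set_option backward.isDefEq.respectTransparency.types false in
/-- An fppf covering is an fpqc covering. -/
theorem isFpqcCover_of_isFppfCover {X : Sp S} (hX : IsAlgSpace X) {ι : Type u} (Xi : ι → Sp S)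
    (g : ∀ i, Xi i ⟶ X) (hXi : ∀ i, IsAlgSpace (Xi i)) (h : IsFppfCover Xi g) :
    IsFpqcCover Xi g := by
  refine ⟨fun i => (h.1 i).1, fun Z hZ t => ?_⟩
  have sq := fun i => IsPullback.of_hasPullback (g i) t
  have hP : ∀ i, IsAlgSpace (pullback (g i) t) := fun i =>
    isAlgSpace_of_isPullback (repDiag_of_isAlgSpace hX) (hXi i) (IsAlgSpace.yon_obj Z) (sq i)
  choose U' c hce hcs using fun i => (hP i).atlas
  choose p hp using fun i => (yon S).map_surjective (c i ≫ pullback.snd (g i) t)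
  have hcomm : ∀ i, (c i ≫ pullback.fst (g i) t) ≫ g i = (yon S).map (p i) ≫ t := fun i => by
    rw [hp, Category.assoc, Category.assoc, (sq i).w]
  have hflat : ∀ i, Flat (p i).left := fun i => by
    have h1 : LocP @Flat (pullback.snd (g i) t) :=
      locP_baseChange etLocal_flat (hXi i) hX (IsAlgSpace.yon_obj Z) (g i) t _ _ (sq i) (h.1 i).1
    exact h1 (c i) (𝟙 _) (p i) (hce i) (repWith_id _ Z) (by rw [hp, Category.comp_id])
  have hlfp : ∀ i, LocallyOfFinitePresentation (p i).left := fun i => by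
    have h1 : LocP @LocallyOfFinitePresentation (pullback.snd (g i) t) :=
      locP_baseChange etLocal_lfp (hXi i) hX (IsAlgSpace.yon_obj Z) (g i) t _ _ (sq i) (h.1 i).2
    exact h1 (c i) (𝟙 _) (p i) (hce i) (repWith_id _ Z) (by rw [hp, Category.comp_id])
  have hopen : ∀ i, IsOpenMap (p i).left := fun i => by
    have := hflat i
    have := hlfp i
    exact (p i).left.isOpenMap
  have hsurj : ∀ z : ↥Z.left, ∃ i, z ∈ Set.range (p i).left := fun z => by
    obtain ⟨i, xi, hxi⟩ := h.2 (Points.ofPt t z)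
    obtain ⟨y, -, hy⟩ := points_exists_of_isPullback (sq i) xi (Points.schemeHomeo Z z)
      (by rw [hxi, Points.ofPt_eq_map_ofScheme]; rfl)
    obtain ⟨u', rfl⟩ := ofPt_surjective_of_repWith (hcs i) y
    refine ⟨i, u', ?_⟩
    have := schemeHomeo_symm_map_ofPt (pullback.snd (g i) t) (c i) (p i) (hp i).symm u'
    rw [hy, Homeomorph.symm_apply_apply] at this
    exact this.symm
  -- choose affine neighbourhoods
  have hex : ∀ z : ↥Z.left, ∃ (i : ι) (A : (U' i).left.Opens), IsAffineOpen A ∧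
      z ∈ (p i).left '' (A : Set (U' i).left) := fun z => by
    obtain ⟨i, u, rfl⟩ := hsurj z
    obtain ⟨A, hA, huA, -⟩ := exists_isAffineOpen_mem_and_subset (x := u) (U := ⊤) trivial
    exact ⟨i, A, hA, u, huA, rfl⟩
  choose iz Az hAz hzA using hex
  have : CompactSpace ↥Z.left := inferInstance
  obtain ⟨T, hT⟩ := CompactSpace.elim_nhds_subcover
    (fun z => (p (iz z)).left '' (Az z : Set (U' (iz z)).left))
    (fun z => (hopen (iz z) _ (Az z).isOpen).mem_nhds (hzA z))
  let W : T → Over S := fun z => Over.mk ((Az z.1).ι ≫ (U' (iz z.1)).hom)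
  let j : ∀ z : T, W z ⟶ U' (iz z.1) := fun z => Over.homMk (Az z.1).ι rfl
  refine fpqc_refinement_of_finite Xi g t W (fun z => j z ≫ p (iz z.1)) (fun z => hAz z.1)
    (fun z => ?_) (fun z' => ?_) (fun z => ?_)
  · rw [Over.comp_left]
    have := hflat (iz z.1)
    have : Flat (j z).left := by change Flat (Az z.1).ι; infer_instance
    infer_instance
  · have hz' : z' ∈ ⋃ z ∈ T, (p (iz z)).left '' (Az z : Set (U' (iz z)).left) := by
      rw [hT]; trivial
    simp only [Set.mem_iUnion] at hz'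
    obtain ⟨z, hzT, a, haA, rfl⟩ := hz'
    refine ⟨⟨z, hzT⟩, ⟨a, haA⟩, ?_⟩
    rw [Over.comp_left]
    rfl
  · refine ⟨iz z.1, (yon S).map (j z) ≫ c (iz z.1) ≫ pullback.fst (g (iz z.1)) t, ?_⟩
    rw [Category.assoc, hcomm, Functor.map_comp, Category.assoc]


set_option backward.isDefEq.respectTransparency.types false in
/-- A family is an fpqc covering if its base change to an etale surjective chart is. -/
theorem isFpqcCover_of_chart {X : Sp S} {ι : Type u} (Xi : ι → Sp S)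
    (g : ∀ i, Xi i ⟶ X) {U : Over S} (p : (yon S).obj U ⟶ X)
    (hp : RepWith @Etale p) (hps : RepWith @Surjective p)
    (Ui : ι → Sp S) (hUi : ∀ i, IsAlgSpace (Ui i)) (q : ∀ i, Ui i ⟶ (yon S).obj U)
    (p' : ∀ i, Ui i ⟶ Xi i) (sq : ∀ i, IsPullback (q i) (p' i) p (g i))
    (h : IsFpqcCover Ui q) : IsFpqcCover Xi g := by
  refine ⟨fun i => ?_, fun Z hZ t => ?_⟩
  · obtain ⟨U', a', ha'e, ha's⟩ := (hUi i).atlas
    have hp'e : RepWith @Etale (p' i) := repWith_of_isPullback _ (sq i) hp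
    have hp's : RepWith @Surjective (p' i) := repWith_of_isPullback _ (sq i) hps
    obtain ⟨h₀, hh₀⟩ := (yon S).map_surjective (a' ≫ q i)
    have comm : (a' ≫ p' i) ≫ g i = (yon S).map h₀ ≫ p := by
      rw [hh₀, Category.assoc, Category.assoc, (sq i).w]
    refine locP_of_chart etLocal_flat (g i) (a' ≫ p' i) p h₀ (repWith_comp _ ha'e hp'e)
      (repWith_comp _ ha's hp's) hp comm ?_
    exact h.1 i a' (𝟙 _) h₀ ha'e (repWith_id _ U) (by rw [hh₀, Category.comp_id])
  · have sqZ := hp.rep.isPullback t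
    have hse : Etale (hp.rep.snd t).left := hp.property_snd t
    have hss : Surjective (hp.rep.snd t).left := hps.property _ _ _ sqZ
    have hopen : IsOpenMap (hp.rep.snd t).left := (hp.rep.snd t).left.isOpenMap
    have hex : ∀ z : ↥Z.left, ∃ (A : (hp.rep.pullback t).left.Opens), IsAffineOpen A ∧
        z ∈ (hp.rep.snd t).left '' (A : Set (hp.rep.pullback t).left) := fun z => by
      obtain ⟨z', rfl⟩ := hss.surj z
      obtain ⟨A, hA, huA, -⟩ := exists_isAffineOpen_mem_and_subset (x := z') (U := ⊤) trivial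
      exact ⟨A, hA, z', huA, rfl⟩
    choose Az hAz hzA using hex
    have : CompactSpace ↥Z.left := inferInstance
    obtain ⟨T, hT⟩ := CompactSpace.elim_nhds_subcover
      (fun z => (hp.rep.snd t).left '' (Az z : Set (hp.rep.pullback t).left))
      (fun z => (hopen _ (Az z).isOpen).mem_nhds (hzA z))
    let A' : T → Over S := fun z => Over.mk ((Az z.1).ι ≫ (hp.rep.pullback t).hom)
    let j : ∀ z : T, A' z ⟶ hp.rep.pullback t := fun z => Over.homMk (Az z.1).ι rfl
    choose m W c hWa hWf hWs hl using fun z : T =>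
      h.2 (A' z) (hAz z.1) ((yon S).map (j z) ≫ hp.rep.fst t)
    refine fpqc_refinement_of_finite Xi g t (κ := Σ z : T, Fin (m z)) (fun r => W r.1 r.2)
      (fun r => c r.1 r.2 ≫ j r.1 ≫ hp.rep.snd t) (fun r => hWa r.1 r.2)
      (fun r => ?_) (fun z' => ?_) (fun r => ?_)
    · rw [Over.comp_left, Over.comp_left]
      have := hWf r.1 r.2
      have : Flat (j r.1).left := by change Flat (Az r.1.1).ι; infer_instance
      infer_instance
    · have hz' : z' ∈ ⋃ z ∈ T, (hp.rep.snd t).left '' (Az z : Set (hp.rep.pullback t).left) := by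
        rw [hT]; trivial
      simp only [Set.mem_iUnion] at hz'
      obtain ⟨z, hzT, a, haA, rfl⟩ := hz'
      obtain ⟨k, w, hw⟩ := hWs ⟨z, hzT⟩ ⟨a, haA⟩
      refine ⟨⟨⟨z, hzT⟩, k⟩, w, ?_⟩
      rw [Over.comp_left, Over.comp_left, Scheme.Hom.comp_apply, hw]
      rfl
    · obtain ⟨i, l, hl⟩ := hl r.1 r.2
      refine ⟨i, l ≫ p' i, ?_⟩
      rw [Category.assoc, ← (sq i).w, ← Category.assoc, hl, Functor.map_comp, Functor.map_comp,
        Category.assoc, Category.assoc, Category.assoc, sqZ.w]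
      simp only [Category.assoc]


set_option backward.isDefEq.respectTransparency.types false in
/-- For an fppf covering `Xi ⟶ X` and `t : h_Z ⟶ X`, a family of flat, locally finitely presented,
jointly surjective `U' i ⟶ Z` lifting through the covering. -/
theorem exists_fppf_chart_family {X : Sp S} (hX : IsAlgSpace X) {ι : Type u} (Xi : ι → Sp S)
    (g : ∀ i, Xi i ⟶ X) (hXi : ∀ i, IsAlgSpace (Xi i)) (h : IsFppfCover Xi g) {Z : Over S}
    (t : (yon S).obj Z ⟶ X) :
    ∃ (U' : ι → Over S) (a' : ∀ i, (yon S).obj (U' i) ⟶ Xi i) (p : ∀ i, U' i ⟶ Z),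
      (∀ i, a' i ≫ g i = (yon S).map (p i) ≫ t) ∧ (∀ i, Flat (p i).left) ∧
      (∀ i, LocallyOfFinitePresentation (p i).left) ∧
      ∀ z : ↥Z.left, ∃ i, z ∈ Set.range (p i).left := by
  have sq := fun i => IsPullback.of_hasPullback (g i) t
  have hP : ∀ i, IsAlgSpace (pullback (g i) t) := fun i =>
    isAlgSpace_of_isPullback (repDiag_of_isAlgSpace hX) (hXi i) (IsAlgSpace.yon_obj Z) (sq i)
  choose U' c hce hcs using fun i => (hP i).atlas
  choose p hp using fun i => (yon S).map_surjective (c i ≫ pullback.snd (g i) t)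
  refine ⟨U', fun i => c i ≫ pullback.fst (g i) t, p, fun i => ?_, fun i => ?_, fun i => ?_,
    fun z => ?_⟩
  · rw [hp, Category.assoc, Category.assoc, (sq i).w]
  · have h1 : LocP @Flat (pullback.snd (g i) t) :=
      locP_baseChange etLocal_flat (hXi i) hX (IsAlgSpace.yon_obj Z) (g i) t _ _ (sq i) (h.1 i).1
    exact h1 (c i) (𝟙 _) (p i) (hce i) (repWith_id _ Z) (by rw [hp, Category.comp_id])
  · have h1 : LocP @LocallyOfFinitePresentation (pullback.snd (g i) t) :=
      locP_baseChange etLocal_lfp (hXi i) hX (IsAlgSpace.yon_obj Z) (g i) t _ _ (sq i) (h.1 i).2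
    exact h1 (c i) (𝟙 _) (p i) (hce i) (repWith_id _ Z) (by rw [hp, Category.comp_id])
  · obtain ⟨i, xi, hxi⟩ := h.2 (Points.ofPt t z)
    obtain ⟨y, -, hy⟩ := points_exists_of_isPullback (sq i) xi (Points.schemeHomeo Z z)
      (by rw [hxi, Points.ofPt_eq_map_ofScheme]; rfl)
    obtain ⟨u', rfl⟩ := ofPt_surjective_of_repWith (hcs i) y
    refine ⟨i, u', ?_⟩
    have := schemeHomeo_symm_map_ofPt (pullback.snd (g i) t) (c i) (p i) (hp i).symm u'
    rw [hy, Homeomorph.symm_apply_apply] at this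
    exact this.symm

set_option backward.isDefEq.respectTransparency.types false in
/-- Morphisms from schemes lift fppf locally through an fppf covering. -/
theorem exists_fppf_local_lift {X : Sp S} (hX : IsAlgSpace X) {ι : Type u} (Xi : ι → Sp S)
    (g : ∀ i, Xi i ⟶ X) (hXi : ∀ i, IsAlgSpace (Xi i)) (h : IsFppfCover Xi g) (T : Over S)
    (t : (yon S).obj T ⟶ X) :
    ∃ (κ : Type u) (Tk : κ → Over S) (c : ∀ k, Tk k ⟶ T),
      Sieve.ofArrows Tk c ∈ AlgSp.J S T ∧
      ∀ k, ∃ (i : ι) (l : (yon S).obj (Tk k) ⟶ Xi i), l ≫ g i = (yon S).map (c k) ≫ t := by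
  obtain ⟨U', a', p, hcomm, hfl, hfp, hs⟩ := exists_fppf_chart_family hX Xi g hXi h t
  refine ⟨ι, U', p, ?_, fun i => ⟨i, a' i, hcomm i⟩⟩
  rw [J_eq_toGrothendieck]
  refine Precoverage.generate_mem_toGrothendieck ?_
  rw [Precoverage.mem_comap_iff, Presieve.map_ofArrows]
  exact (Scheme.ofArrows_mem_precoverage_iff _).2 ⟨hs, fun i => ⟨hfl i, hfp i⟩⟩

end Groth.Agent.Lib.Helper14.AS
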