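import Groth.Agent.Lib.Helper14.AlgSpPoints

/-!
# Points of sheaves / algebraic spaces, part 2: surjectivity, open maps (helper14)
-/

universe u
open CategoryTheory CategoryTheory.Limits AlgebraicGeometry Opposite Topology

namespace Groth.Agent.Lib.Helper14.AS

open AlgSp

variable {S : Scheme.{u}}

/-- Surjectivity on points is stable under base change. -/
theorem isSurjectiveMor_of_isPullback {F G H P : Sp S} {fst : P ⟶ F} {snd : P ⟶ G} {f : F ⟶ H}
    {g : G ⟶ H} (sq : IsPullback fst snd f g) (hf : IsSurjectiveMor f) : IsSurjectiveMor snd := by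
  intro y
  obtain ⟨x, hx⟩ := hf (Points.map g y)
  obtain ⟨z, -, hz2⟩ := points_exists_of_isPullback sq x y hx
  exact ⟨z, hz2⟩

/-- A representable morphism that is surjective on points is representable surjective. -/
theorem repWith_surjective_of_isSurjectiveMor {F G : Sp S} {f : F ⟶ G} (hf : Representable f)
    (h : IsSurjectiveMor f) : RepWith @Surjective f := by
  refine MorphismProperty.relative_of_snd hf fun T g => ?_
  change Surjective (hf.snd g).left
  refine ⟨fun t => ?_⟩
  have hs := isSurjectiveMor_of_isPullback (hf.isPullback g) h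
  obtain ⟨z, hz⟩ := hs (Points.schemeHomeo T t)
  obtain ⟨w, rfl⟩ := (Points.schemeHomeo _).surjective z
  rw [Points.map_yon_map_apply] at hz
  exact ⟨w, (Points.schemeHomeo T).injective hz⟩

theorem repWith_surjective_iff_isSurjectiveMor {F G : Sp S} {f : F ⟶ G} (hf : Representable f) :
    RepWith @Surjective f ↔ IsSurjectiveMor f :=
  ⟨fun h => points_map_surjective_of_repWith h, repWith_surjective_of_isSurjectiveMor hf⟩

/-- The basic set-theoretic identity for a chart square. -/
theorem ofPt_preimage_image_eq {F G : Sp S} {h : F ⟶ G} {U U' : Over S} {a : (yon S).obj U ⟶ G}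
    {fst : (yon S).obj U' ⟶ F} {b : U' ⟶ U} (sq : IsPullback fst ((yon S).map b) h a)
    (A : Set (Points F)) :
    Points.ofPt a ⁻¹' (Points.map h '' A) = b.left '' (Points.ofPt fst ⁻¹' A) := by
  ext u
  constructor
  · rintro ⟨x, hx, e⟩
    rw [Points.ofPt_eq_map_ofScheme a] at e
    obtain ⟨z, hz1, hz2⟩ := points_exists_of_isPullback sq x _ e
    obtain ⟨u', rfl⟩ := (Points.schemeHomeo U').surjective z
    rw [Points.map_yon_map_apply] at hz2
    refine ⟨u', ?_, (Points.schemeHomeo U).injective hz2⟩
    change Points.ofPt fst u' ∈ A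
    rw [Points.ofPt_eq_map_ofScheme]
    exact hz1 ▸ hx
  · rintro ⟨u', hu', rfl⟩
    refine ⟨Points.ofPt fst u', hu', ?_⟩
    rw [Points.map_ofPt, sq.w, ofPt_yon_map_comp]

/-- A representable universally open morphism to an algebraic space is open on points. -/
theorem isOpenMap_points_of_repWith_universallyOpen {F G : Sp S} (hG : IsAlgSpace G) {h : F ⟶ G}
    (hh : RepWith @UniversallyOpen h) : IsOpenMap (Points.map h) := by
  obtain ⟨U, a, hae, has⟩ := hG.atlas
  intro W hW
  rw [← (isQuotientMap_ofPt a hae has).isOpen_preimage,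
    ofPt_preimage_image_eq (hh.rep.isPullback a)]
  have : UniversallyOpen (hh.rep.snd a).left := hh.property_snd a
  exact (hh.rep.snd a).left.isOpenMap _ (hW.preimage (Points.continuous_ofPt _))

theorem isOpenMap_points_yon_map_iff {T T' : Over S} (φ : T ⟶ T') :
    IsOpenMap (Points.map ((yon S).map φ)) ↔ IsOpenMap φ.left := by
  rw [Points.map_yon_map_eq]
  constructor
  · intro h
    have := ((Points.schemeHomeo T').symm.isOpenMap.comp h).comp (Points.schemeHomeo T).isOpenMap
    convert this using 1
    funext t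
    simp
  · intro h
    exact ((Points.schemeHomeo T').isOpenMap.comp h).comp (Points.schemeHomeo T).symm.isOpenMap

/-- The base change of a representable `f` to a scheme-level pullback square, as a square of
sheaves; feeds `UnivSp`. -/
theorem univSp_scheme_square {Q : MorphismProperty (Sp S)} {F G : Sp S} {f : F ⟶ G}
    (hf : Representable f) (h : UnivSp Q f) {T : Over S} (g : (yon S).obj T ⟶ G)
    {X' Y' : Scheme.{u}} (i₁ : X' ⟶ (hf.pullback g).left) (i₂ : Y' ⟶ T.left) (f' : X' ⟶ Y')
    (sq : IsPullback f' i₁ i₂ (hf.snd g).left)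
    (w : f' ≫ i₂ ≫ T.hom = i₁ ≫ (hf.pullback g).hom) :
    Q ((yon S).map (Over.homMk (U := Over.mk (i₁ ≫ (hf.pullback g).hom))
      (V := Over.mk (i₂ ≫ T.hom)) f' w)) := by
  let T' : Over S := Over.mk (i₂ ≫ T.hom)
  let W' : Over S := Over.mk (i₁ ≫ (hf.pullback g).hom)
  let φ : W' ⟶ T' := Over.homMk f' w
  let j₂ : T' ⟶ T := Over.homMk i₂ rfl
  let j₁ : W' ⟶ hf.pullback g := Over.homMk i₁ rfl
  have comm : φ ≫ j₂ = j₁ ≫ hf.snd g := by
    ext
    exact sq.w
  have sqO : IsPullback φ j₁ j₂ (hf.snd g) := IsPullback.of_map (Over.forget S) comm sq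
  have sqY := (sqO.map (yon S)).flip.paste_horiz (hf.isPullback g)
  exact h (IsAlgSpace.yon_obj T') _ _ _ sqY

/-- From a `UnivSp` condition to the representable universal condition on schemes. -/
theorem repWith_universally_of_univSp {Q : MorphismProperty (Sp S)}
    (P : MorphismProperty Scheme.{u})
    (hQP : ∀ {T T' : Over S} (φ : T ⟶ T'), Q ((yon S).map φ) → P φ.left)
    {F G : Sp S} {f : F ⟶ G} (hf : Representable f) (h : UnivSp Q f) :
    RepWith P.universally f := by
  refine MorphismProperty.relative_of_snd hf fun T g => ?_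
  change P.universally (hf.snd g).left
  intro X' Y' i₁ i₂ f' sq
  have w : f' ≫ i₂ ≫ T.hom = i₁ ≫ (hf.pullback g).hom := by
    rw [← Category.assoc, sq.w, Category.assoc, Over.w]
  exact hQP _ (univSp_scheme_square hf h g i₁ i₂ f' sq w)

theorem universallyOpen_eq :
    @UniversallyOpen.{u} = (topologically @IsOpenMap).universally := by
  ext X Y f
  exact universallyOpen_iff f

theorem repWith_universallyOpen_iff_isUnivOpenMor {X Y : Sp S} {f : X ⟶ Y}
    (hf : Representable f) : RepWith @UniversallyOpen f ↔ IsUnivOpenMor f := by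
  constructor
  · intro h Z Z' hZ g fst snd sq
    exact isOpenMap_points_of_repWith_universallyOpen hZ
      (MorphismProperty.of_isPullback (P := RepWith @UniversallyOpen) sq h)
  · intro h
    rw [universallyOpen_eq]
    exact repWith_universally_of_univSp (Q := IsOpenMor) _
      (fun φ hφ => (isOpenMap_points_yon_map_iff φ).1 hφ) hf h

/-- The set-theoretic identity for a pullback square of sheaves. -/
theorem points_preimage_image_eq {F G H P : Sp S} {fst : P ⟶ F} {snd : P ⟶ G} {f : F ⟶ H}
    {g : G ⟶ H} (sq : IsPullback fst snd f g) (A : Set (Points F)) :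
    Points.map g ⁻¹' (Points.map f '' A) = Points.map snd '' (Points.map fst ⁻¹' A) := by
  ext y
  constructor
  · rintro ⟨x, hx, e⟩
    obtain ⟨z, hz1, hz2⟩ := points_exists_of_isPullback sq x y e
    exact ⟨z, by simpa [hz1] using hx, hz2⟩
  · rintro ⟨z, hz, rfl⟩
    refine ⟨Points.map fst z, hz, ?_⟩
    rw [← Points.map_comp, ← Points.map_comp, sq.w]

theorem isOpenMap_points_of_comp_surjective {F' F G : Sp S} (e : F' ⟶ F) (q : F ⟶ G)
    (he : Function.Surjective (Points.map e)) (h : IsOpenMap (Points.map (e ≫ q))) :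
    IsOpenMap (Points.map q) := by
  intro A hA
  have : Points.map q '' A = Points.map (e ≫ q) '' (Points.map e ⁻¹' A) := by
    have h1 : Points.map (e ≫ q) = Points.map q ∘ Points.map e := funext (Points.map_comp e q)
    rw [h1, Set.image_comp, Set.image_preimage_eq _ he]
  rw [this]
  exact h _ (hA.preimage (Points.continuous_map e))

/-- Openness in `|F|` can be tested on affine test schemes. -/
theorem points_isOpen_iff_affine {F : Sp S} {W : Set (Points F)} :
    IsOpen W ↔ ∀ (T : Over S), IsAffine T.left → ∀ g : (yon S).obj T ⟶ F,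
      IsOpen (Points.ofPt g ⁻¹' W) := by
  constructor
  · intro h T _ g
    exact Points.isOpen_iff.1 h T g
  · intro h
    rw [Points.isOpen_iff]
    intro T g
    rw [isOpen_iff_forall_mem_open]
    intro t ht
    let 𝒰 := T.left.affineCover
    obtain ⟨u, hu⟩ := 𝒰.covers t
    let Ti : Over S := Over.mk (𝒰.f (𝒰.idx t) ≫ T.hom)
    let j : Ti ⟶ T := Over.homMk (𝒰.f (𝒰.idx t)) rfl
    have hB := h Ti (by dsimp [Ti]; infer_instance) ((yon S).map j ≫ g)
    refine ⟨j.left '' (Points.ofPt ((yon S).map j ≫ g) ⁻¹' W), ?_, ?_, ?_⟩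
    · rintro _ ⟨u', hu', rfl⟩
      change Points.ofPt g (j.left u') ∈ W
      rw [← ofPt_yon_map_comp]
      exact hu'
    · have : IsOpenImmersion j.left :=
        inferInstanceAs (IsOpenImmersion (𝒰.f (𝒰.idx t)))
      exact j.left.isOpenEmbedding.isOpenMap _ hB
    · refine ⟨u, ?_, hu⟩
      change Points.ofPt ((yon S).map j ≫ g) u ∈ W
      rw [ofPt_yon_map_comp]
      change Points.ofPt g ((𝒰.f (𝒰.idx t)) u) ∈ W
      rw [hu]
      exact ht

end Groth.Agent.Lib.Helper14.AS
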