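import Groth.Agent.Lib.Helper14.AlgSpRedFactor2
import Groth.Agent.Lib.Helper14.AlgSpPoints2
import Groth.Agent.Lib.Helper14.AlgSpUnram
universe u
open CategoryTheory CategoryTheory.Limits AlgebraicGeometry Opposite
namespace Groth.Agent.Lib.Helper14.AS
variable {S : Scheme.{u}}
open AlgSp

/-- points of a fibre product with representable second leg and representable corner -/
theorem exists_point_of_isPullback_yon' {F A : Sp S} {T V : Over S} {δ : A ⟶ F}
    {g : (yon S).obj T ⟶ F} {fst : (yon S).obj V ⟶ A} {snd : V ⟶ T}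
    (sq : IsPullback fst ((yon S).map snd) δ g) (x : Points A) (t : ↥T.left)
    (e : Points.map δ x = Points.ofPt g t) :
    ∃ v : ↥V.left, Points.ofPt fst v = x ∧ snd.left v = t := by
  rw [Points.ofPt_eq_map_ofScheme g] at e
  obtain ⟨z, hz1, hz2⟩ := points_exists_of_isPullback sq _ _ e
  obtain ⟨v, rfl⟩ := (Points.schemeHomeo V).surjective z
  refine ⟨v, ?_, ?_⟩
  · rw [Points.ofPt_eq_map_ofScheme]
    exact hz1
  · have := (Points.map_yon_map_apply snd v).symm.trans hz2
    exact (Points.schemeHomeo T).injective this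

/-- local lifting along a representable open immersion at a point -/
theorem exists_lift_at_point_of_openImmersion {A Q : Sp S} (δ : A ⟶ Q)
    (hδ : RepWith @IsOpenImmersion δ) {T : Over S} (w : (yon S).obj T ⟶ Q) (τ : ↥T.left)
    (h : Points.ofPt w τ ∈ Set.range (Points.map δ)) :
    ∃ (T' : Over S) (t : T' ⟶ T), Flat t.left ∧ LocallyOfFinitePresentation t.left ∧
      τ ∈ Set.range t.left ∧ ∃ x : (yon S).obj T' ⟶ A, x ≫ δ = (yon S).map t ≫ w := by
  obtain ⟨x, hx⟩ := h
  have sq := hδ.rep.isPullback w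
  have ho : IsOpenImmersion (hδ.rep.snd w).left := hδ.property_snd w
  obtain ⟨v, -, hv⟩ := exists_point_of_isPullback_yon' sq x τ hx
  exact ⟨_, hδ.rep.snd w, inferInstance, inferInstance, ⟨v, hv⟩, hδ.rep.fst w, sq.w⟩

set_option backward.isDefEq.respectTransparency.types false in
/-- local lifting along an etale morphism of algebraic spaces at a point -/
theorem exists_lift_at_point_of_isEtaleMor {V W : Sp S} (hV : IsAlgSpace V) (hW : IsAlgSpace W)
    (f : V ⟶ W) (hf : IsEtaleMor f) {T : Over S} (w : (yon S).obj T ⟶ W) (τ : ↥T.left)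
    (h : Points.ofPt w τ ∈ Set.range (Points.map f)) :
    ∃ (T' : Over S) (t : T' ⟶ T), Flat t.left ∧ LocallyOfFinitePresentation t.left ∧
      τ ∈ Set.range t.left ∧ ∃ y : (yon S).obj T' ⟶ V, y ≫ f = (yon S).map t ≫ w := by
  obtain ⟨v, hv⟩ := h
  have sq := IsPullback.of_hasPullback f w
  have hVT : IsAlgSpace (pullback f w) :=
    isAlgSpace_of_isPullback (repDiag_of_isAlgSpace hW) hV (IsAlgSpace.yon_obj T) sq
  have hπ : IsEtaleMor (pullback.snd f w) :=
    isEtaleMor_of_isPullback hV hW (IsAlgSpace.yon_obj T) sq hf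
  obtain ⟨A₀, c, hce, hcs⟩ := hVT.atlas
  obtain ⟨t, ht⟩ := (yon S).map_surjective (c ≫ pullback.snd f w)
  have hte : Etale t.left := by
    have := hπ c hce
    rw [← ht] at this
    exact (repWith_yon_map_iff _ _).1 this
  -- a point of the fibre product over `(v, τ)`
  rw [Points.ofPt_eq_map_ofScheme w] at hv
  obtain ⟨z, hz1, hz2⟩ := points_exists_of_isPullback sq v _ hv
  obtain ⟨a₀, ha₀⟩ := ofPt_surjective_of_repWith hcs z
  refine ⟨A₀, t, inferInstance, inferInstance, ⟨a₀, ?_⟩, c ≫ pullback.fst f w, ?_⟩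
  · apply (Points.schemeHomeo T).injective
    rw [← Points.map_yon_map_apply, ht]
    change Points.map _ (Points.ofPt (𝟙 _) a₀) = Points.ofPt (𝟙 _) τ
    rw [Points.map_ofPt, Category.id_comp]
    exact (Points.map_ofPt c _ a₀).symm.trans ((congrArg _ ha₀).trans hz2)
  · rw [Category.assoc, sq.w, ← Category.assoc, ← ht]

/-- joint local surjectivity from pointwise flat local lifts -/
theorem exists_cover_of_pointwise {U V W : Sp S} (j : U ⟶ W) (f : V ⟶ W) {T : Over S}
    (w : (yon S).obj T ⟶ W)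
    (h : ∀ τ : ↥T.left, ∃ (T' : Over S) (t : T' ⟶ T), Flat t.left ∧
      LocallyOfFinitePresentation t.left ∧ τ ∈ Set.range t.left ∧
      ((∃ x : (yon S).obj T' ⟶ U, x ≫ j = (yon S).map t ≫ w) ∨
        (∃ y : (yon S).obj T' ⟶ V, y ≫ f = (yon S).map t ≫ w))) :
    ∃ R ∈ AlgSp.J S T, ∀ ⦃T' : Over S⦄ (t : T' ⟶ T), R t →
      (∃ x : (yon S).obj T' ⟶ U, x ≫ j = (yon S).map t ≫ w) ∨
      (∃ y : (yon S).obj T' ⟶ V, y ≫ f = (yon S).map t ≫ w) := by
  choose T' t hfl hfp hτ hl using h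
  have hR : Presieve.ofArrows T' t ∈ KS S T :=
    ofArrows_mem_KS T' t (fun τ => ⟨hfl τ, hfp τ⟩) (fun τ => ⟨τ, hτ τ⟩)
  refine ⟨Sieve.generate (Presieve.ofArrows T' t),
    (mem_J_iff _).2 ⟨_, hR, Sieve.le_generate _⟩, ?_⟩
  rintro T'' s ⟨T₁, a, _, ⟨τ⟩, rfl⟩
  rcases hl τ with ⟨x, hx⟩ | ⟨y, hy⟩
  · exact Or.inl ⟨(yon S).map a ≫ x, by rw [Category.assoc, hx, Functor.map_comp, Category.assoc]⟩
  · exact Or.inr ⟨(yon S).map a ≫ y, by rw [Category.assoc, hy, Functor.map_comp, Category.assoc]⟩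

end Groth.Agent.Lib.Helper14.AS
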