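import Groth.Agent.Lib.Helper14.EffCart2
import Groth.Agent.Lib.Helper14.AlgSpLocP2
import Groth.Agent.Lib.Helper14.AlgSpFibre
import Groth.Agent.Lib.Helper10.RelCartierBC

universe u
open CategoryTheory CategoryTheory.Limits AlgebraicGeometry Opposite Topology

namespace Groth.Agent.Lib.Helper14.AS

open AlgSp Groth.Agent.Lib.Helper14.AS Groth.Agent.Lib.Helper25.BlowUpUP

variable {S : Scheme.{u}}

set_option backward.isDefEq.respectTransparency.types false in
/-- The kernel on a chart of a base change of a closed subspace. -/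
theorem kerOf_of_isPullback {X Y D P : Sp S} {f : X ⟶ Y} {i : D ⟶ Y} {fst : P ⟶ D}
    {snd : P ⟶ X} (hP : IsPullback fst snd i f) (hi : RepWith @IsClosedImmersion i)
    (hsnd : RepWith @IsClosedImmersion snd) {U : Over S} (a : (yon S).obj U ⟶ X) :
    kerOf hsnd a = kerOf hi (a ≫ f) := by
  have sq1 := hsnd.rep.isPullback a
  have sq2 : IsPullback (hsnd.rep.fst a ≫ fst) ((yon S).map (hsnd.rep.snd a)) i (a ≫ f) :=
    sq1.paste_horiz hP
  exact ker_eq_of_isPullback sq2 (hi.rep.isPullback (a ≫ f))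

set_option backward.isDefEq.respectTransparency.types false in
/-- The inverse image of an effective Cartier divisor under a flat morphism is an effective
Cartier divisor. -/
theorem isEffCartierSub_of_flat {X Y D P : Sp S} (hX : IsAlgSpace X) (hY : IsAlgSpace Y)
    {f : X ⟶ Y} (hf : LocP @Flat f) {i : D ⟶ Y} (hD : IsEffCartierSub i) {fst : P ⟶ D}
    {snd : P ⟶ X} (hP : IsPullback fst snd i f) : IsEffCartierSub snd := by
  have hsnd : RepWith @IsClosedImmersion snd := repWith_of_isPullback _ hP hD.1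
  obtain ⟨U₀, α, hαe, hαs⟩ := hX.atlas
  obtain ⟨V, φ, hφe, hφs⟩ := hY.atlas
  have sqU := hφe.rep.isPullback' (α ≫ f)
  have hq₁e : Etale (hφe.rep.snd (α ≫ f)).left := hφe.property_snd _
  have hq₁s : Surjective (hφe.rep.snd (α ≫ f)).left := hφs.property _ _ _ sqU
  have hae : RepWith @Etale ((yon S).map (hφe.rep.snd (α ≫ f)) ≫ α) :=
    repWith_comp _ ((repWith_yon_map_iff _ _).2 hq₁e) hαe
  have has : RepWith @Surjective ((yon S).map (hφe.rep.snd (α ≫ f)) ≫ α) :=
    repWith_comp _ ((repWith_yon_map_iff _ _).2 hq₁s) hαs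
  have hcomm : ((yon S).map (hφe.rep.snd (α ≫ f)) ≫ α) ≫ f =
      (yon S).map (hφe.rep.fst' (α ≫ f)) ≫ φ := by
    rw [Category.assoc, sqU.w]
  have hflat : Flat (hφe.rep.fst' (α ≫ f)).left := hf _ _ _ hae hφe hcomm
  obtain ⟨fstU, sq⟩ := exists_isPullback_subOver hsnd ((yon S).map (hφe.rep.snd (α ≫ f)) ≫ α)
  refine ⟨hsnd, _, _, _, fstU, hae, has, sq, ?_⟩
  rw [kerOf_of_isPullback hP hD.1 hsnd, hcomm, kerOf_comp hD.1 φ _]
  exact isEffCartierIdeal_comap_of_flat _ _ (isEffCartierIdeal_kerOf hD φ hφe)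

theorem ker_eq_comap_of_isPullback {P V' V : Scheme.{u}} (K : V.IdealSheafData) {w : V' ⟶ V}
    {a : P ⟶ K.subscheme} {r : P ⟶ V'} (sq : IsPullback a r K.subschemeι w) :
    r.ker = K.comap w := by
  have h1 : sq.flip.isoPullback.hom ≫ pullback.fst w K.subschemeι = r :=
    sq.flip.isoPullback_hom_fst
  rw [← h1, Scheme.Hom.ker_comp_of_isIso]
  rfl

set_option backward.isDefEq.respectTransparency.types false in
/-- The kernel of a closed subspace on a chart pulls back along arbitrary morphisms of charts. -/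
theorem kerOf_comp' {Z X : Sp S} {i : Z ⟶ X} (hi : RepWith @IsClosedImmersion i)
    {V V' : Over S} (b : (yon S).obj V ⟶ X) (w : V' ⟶ V) :
    kerOf hi ((yon S).map w ≫ b) = (kerOf hi b).comap w.left := by
  obtain ⟨fstK, sqK⟩ := exists_isPullback_subOver hi b
  have sqc := IsPullback.of_hasPullback (subOverι (kerOf hi b)) w
  have sq2 := (sqc.map (yon S)).paste_horiz sqK
  rw [kerOf, ker_eq_of_isPullback (hi.rep.isPullback ((yon S).map w ≫ b)) sq2]
  exact ker_eq_comap_of_isPullback _ (sqc.map (Over.forget S))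

theorem isPullback_congr_f {C : Type*} [Category C] {P X Y Z : C} {a : P ⟶ X} {b : P ⟶ Y}
    {f f' : X ⟶ Z} {g : Y ⟶ Z} (e : f = f') (sq : IsPullback a b f g) : IsPullback a b f' g := by
  subst e
  exact sq

set_option backward.isDefEq.respectTransparency.types false in
/-- Base change of a relative effective Cartier divisor is an effective Cartier divisor. -/
theorem isEffCartierSub_baseChange_of_flat {X Y D Y' X' D' : Sp S} (hX : IsAlgSpace X)
    (hY : IsAlgSpace Y) (hY' : IsAlgSpace Y')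
    {f : X ⟶ Y} {i : D ⟶ X} (hD : IsEffCartierSub i) (hflat : LocP @Flat (i ≫ f))
    {g : Y' ⟶ Y} {g' : X' ⟶ X} {f' : X' ⟶ Y'} (hX' : IsPullback g' f' f g)
    {k : D' ⟶ D} {i' : D' ⟶ X'} (hD' : IsPullback k i' i g') : IsEffCartierSub i' := by
  have hi' : RepWith @IsClosedImmersion i' := repWith_of_isPullback _ hD' hD.1
  obtain ⟨V, φ, hφe, hφs⟩ := hY.atlas
  obtain ⟨U₀, α₀, hα₀e, hα₀s⟩ := hX.atlas
  obtain ⟨V', β, hβe, hβs⟩ := hY'.atlas
  -- the chart `U = U₀ ×_Y V` of `X` with `h : U ⟶ V`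
  have sqU := hφe.rep.isPullback' (α₀ ≫ f)
  have hqe : Etale (hφe.rep.snd (α₀ ≫ f)).left := hφe.property_snd _
  have hqs : Surjective (hφe.rep.snd (α₀ ≫ f)).left := hφs.property _ _ _ sqU
  have hαe : RepWith @Etale ((yon S).map (hφe.rep.snd (α₀ ≫ f)) ≫ α₀) :=
    repWith_comp _ ((repWith_yon_map_iff _ _).2 hqe) hα₀e
  have hαs : RepWith @Surjective ((yon S).map (hφe.rep.snd (α₀ ≫ f)) ≫ α₀) :=
    repWith_comp _ ((repWith_yon_map_iff _ _).2 hqs) hα₀s
  set α := (yon S).map (hφe.rep.snd (α₀ ≫ f)) ≫ α₀ with hα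
  set h := hφe.rep.fst' (α₀ ≫ f) with hh
  have hcommU : α ≫ f = (yon S).map h ≫ φ := by
    rw [hα, Category.assoc, sqU.w]
  -- the chart `W = U ×_Y V'` of `X'`
  have rep := hY.representable_from_yon (α ≫ f)
  have hW := rep.isPullback' (β ≫ g)
  set a := rep.fst' (β ≫ g) with ha
  set b := rep.snd (β ≫ g) with hb
  have cw : ((yon S).map a ≫ α) ≫ f = ((yon S).map b ≫ β) ≫ g :=
    (Category.assoc _ _ _).trans (hW.w.trans (Category.assoc _ _ _).symm)
  set ω := hX'.lift ((yon S).map a ≫ α) ((yon S).map b ≫ β) cw with hω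
  have hω1 : ω ≫ g' = (yon S).map a ≫ α := hX'.lift_fst _ _ _
  have hω2 : ω ≫ f' = (yon S).map b ≫ β := hX'.lift_snd _ _ _
  have hωe : RepWith @Etale ω :=
    prop_lift_of_charts (RepWith @Etale) hX' hW hαe hβe _ hω1 hω2
  have hωs : RepWith @Surjective ω :=
    prop_lift_of_charts (RepWith @Surjective) hX' hW hαs hβs _ hω1 hω2
  -- the ideal
  have hker : kerOf hi' ω = (kerOf hD.1 α).comap a.left := by
    rw [kerOf_of_isPullback hD' hD.1 hi', hω1, kerOf_comp' hD.1 α a]
  obtain ⟨fstW, sqW⟩ := exists_isPullback_subOver hi' ω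
  refine ⟨hi', _, ω, _, fstW, hωe, hωs, sqW, ?_⟩
  rw [hker]
  -- flatness of the divisor on `U` over `V`
  have hDU : BlowUp.IsEffCartierIdeal (kerOf hD.1 α) := isEffCartierIdeal_kerOf hD α hαe
  obtain ⟨fstD, sqD⟩ := exists_isPullback_subOver hD.1 α
  have hfstDe : RepWith @Etale fstD := repWith_of_isPullback _ sqD.flip hαe
  have hfl : Flat ((kerOf hD.1 α).subschemeι ≫ h.left) := by
    have := hflat fstD φ (subOverι (kerOf hD.1 α) ≫ h) hfstDe hφe (by
      rw [← Category.assoc, sqD.w, Category.assoc, hcommU, Functor.map_comp, Category.assoc])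
    exact this
  -- `B' = V ×_Y V'`
  have sqB := hφe.rep.isPullback' (β ≫ g)
  set c₁ := hφe.rep.fst' (β ≫ g) with hc₁
  set c₂ := hφe.rep.snd (β ≫ g) with hc₂
  have hWφ : IsPullback ((yon S).map a) ((yon S).map b) ((yon S).map h ≫ φ) (β ≫ g) :=
    isPullback_congr_f hcommU hW
  have cd : (yon S).map (a ≫ h) ≫ φ = (yon S).map b ≫ β ≫ g :=
    ((congrArg (· ≫ φ) ((yon S).map_comp a h)).trans (Category.assoc _ _ _)).trans hWφ.w
  obtain ⟨d, hd⟩ := (yon S).map_surjective (sqB.lift _ _ cd)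
  have hd1 : d ≫ c₁ = a ≫ h := (yon S).map_injective (by
    rw [Functor.map_comp, hd, sqB.lift_fst])
  have hd2 : d ≫ c₂ = b := (yon S).map_injective (by
    rw [Functor.map_comp, hd, sqB.lift_snd])
  have hW' : IsPullback ((yon S).map a) ((yon S).map d ≫ (yon S).map c₂)
      ((yon S).map h ≫ φ) (β ≫ g) := by
    rw [← Functor.map_comp, hd2]; exact hWφ
  have sqT : IsPullback ((yon S).map a) ((yon S).map d) ((yon S).map h) ((yon S).map c₁) :=
    IsPullback.of_bot hW' (by rw [← Functor.map_comp, ← Functor.map_comp, hd1]) sqB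
  have sqT' : IsPullback a.left d.left h.left c₁.left :=
    (IsPullback.of_map_of_faithful (yon S) sqT).map (Over.forget S)
  have hcart := Groth.Agent.Lib.Helper10.RelCartier.isEffCartierIdeal_comap_fst h.left
    (kerOf hD.1 α) hDU c₁.left
  have e1 : a.left = sqT'.isoPullback.hom ≫ pullback.fst h.left c₁.left :=
    sqT'.isoPullback_hom_fst.symm
  rw [e1, Scheme.IdealSheafData.comap_comp]
  exact isEffCartierIdeal_comap_of_flat _ _ hcart

end Groth.Agent.Lib.Helper14.AS
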