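import Groth.Agent.Lib.Helper14.AlgSpSect
import Mathlib.CategoryTheory.Sites.Subsheaf

/-!
# Subsheaves of fppf sheaves cut out by a local predicate on points (helper14)

`SubPred Y` is a predicate on `T`-points of `Y` that is stable under precomposition and fppf local;
it defines a subsheaf `A.sheaf` with inclusion `A.ι : A.sheaf ⟶ Y`.  A morphism factors through
`A.ι` iff all its points satisfy the predicate.  If the predicate is, on every `T`-point, the
condition of factoring through a monomorphism `W ⟶ T` of schemes, then `A.ι` is representable.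
-/

universe u
open CategoryTheory CategoryTheory.Limits AlgebraicGeometry Opposite

namespace Groth.Agent.Lib.Helper14.AS

open AlgSp

variable {S : Scheme.{u}}

/-- A morphism factors through a monomorphism of sheaves as soon as its points do so fppf locally. -/
theorem exists_lift_of_locally {Z Y F : Sp S} (i : Z ⟶ Y) [Mono i] (h : F ⟶ Y)
    (H : ∀ (T : Over S) (x : (yon S).obj T ⟶ F), ∃ R ∈ AlgSp.J S T,
      ∀ ⦃W : Over S⦄ (w : W ⟶ T), R w → ∃ l : (yon S).obj W ⟶ Z, l ≫ i = (yon S).map w ≫ x ≫ h) :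
    ∃ k : F ⟶ Z, k ≫ i = h := by
  have hl : Sheaf.IsLocallySurjective (pullback.fst h i) := by
    constructor
    intro U s
    obtain ⟨R, hR, hl⟩ := H U (yEquiv.symm s)
    refine (AlgSp.J S).superset_covering ?_ hR
    intro W w hw
    obtain ⟨l, hl⟩ := hl w hw
    refine ⟨yEquiv (pullback.lift ((yon S).map w ≫ yEquiv.symm s) l (by rw [hl, Category.assoc])),
      ?_⟩
    rw [← yEquiv_comp, pullback.lift_fst]
    have := (AlgSp.J S).uliftYonedaEquiv_naturality (yEquiv.symm s) w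
    rw [Equiv.apply_symm_apply] at this
    exact this.symm
  have : Epi (pullback.fst h i) := (Sheaf.isLocallySurjective_iff_epi _).1 hl
  have : IsIso (pullback.fst h i) := isIso_of_mono_of_epi _
  refine ⟨inv (pullback.fst h i) ≫ pullback.snd h i, ?_⟩
  rw [Category.assoc, ← pullback.condition, IsIso.inv_hom_id_assoc]

/-- A morphism factors through a monomorphism of sheaves as soon as all its points do. -/
theorem exists_lift_of_points {Z Y F : Sp S} (i : Z ⟶ Y) [Mono i] (h : F ⟶ Y)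
    (H : ∀ (T : Over S) (x : (yon S).obj T ⟶ F), ∃ l : (yon S).obj T ⟶ Z, l ≫ i = x ≫ h) :
    ∃ k : F ⟶ Z, k ≫ i = h := by
  refine exists_lift_of_locally i h fun T x => ⟨⊤, (AlgSp.J S).top_mem T, fun W w _ => ?_⟩
  obtain ⟨l, hl⟩ := H T x
  exact ⟨(yon S).map w ≫ l, by rw [Category.assoc, hl]⟩

/-- A point factors through a monomorphism of sheaves as soon as it does on an fppf covering. -/
theorem exists_lift_of_cover {Z Y : Sp S} (i : Z ⟶ Y) [Mono i] {T : Over S}
    (g : (yon S).obj T ⟶ Y) (R : Presieve T) (hR : R ∈ KS S T)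
    (H : ∀ ⦃W : Over S⦄ (w : W ⟶ T), R w → ∃ l : (yon S).obj W ⟶ Z, l ≫ i = (yon S).map w ≫ g) :
    ∃ l : (yon S).obj T ⟶ Z, l ≫ i = g := by
  refine exists_lift_of_locally i g fun T' x => ?_
  obtain ⟨t, rfl⟩ := (yon S).map_surjective x
  have hR' : Sieve.generate R ∈ AlgSp.J S T := (mem_J_iff _).2 ⟨R, hR, Sieve.le_generate R⟩
  refine ⟨Sieve.pullback t (Sieve.generate R), (AlgSp.J S).pullback_stable t hR', ?_⟩
  rintro W w ⟨V, a, b, hb, hab⟩
  obtain ⟨l, hl⟩ := H b hb
  refine ⟨(yon S).map a ≫ l, ?_⟩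
  rw [Category.assoc, hl, ← Functor.map_comp_assoc, hab, Functor.map_comp_assoc]

/-- A predicate on points of `Y` that is stable under precomposition and fppf local. -/
structure SubPred (Y : Sp S) where
  P : ∀ ⦃T : Over S⦄, ((yon S).obj T ⟶ Y) → Prop
  comp : ∀ ⦃T T' : Over S⦄ (t : T' ⟶ T) (g : (yon S).obj T ⟶ Y), P g → P ((yon S).map t ≫ g)
  loc : ∀ ⦃T : Over S⦄ (g : (yon S).obj T ⟶ Y) (R : Presieve T), R ∈ KS S T →
    (∀ ⦃W : Over S⦄ (w : W ⟶ T), R w → P ((yon S).map w ≫ g)) → P g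

namespace SubPred

variable {Y : Sp S} (A : SubPred Y)

/-- The subfunctor of sections satisfying the predicate. -/
def sub : Subfunctor Y.obj where
  obj T := {s | A.P (yEquiv.symm s)}
  map {T T'} t s hs := by
    change A.P (yEquiv.symm (Y.obj.map t s))
    rw [(AlgSp.J S).uliftYonedaEquiv_symm_map]
    exact A.comp _ _ hs

theorem sub_isSheaf : Presieve.IsSheaf (AlgSp.J S) A.sub.toFunctor := by
  rw [Subfunctor.isSheaf_iff _ ((isSheaf_iff_isSheaf_of_type _ _).1 Y.property)]
  intro U s hs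
  obtain ⟨R, hR, hle⟩ := (mem_J_iff _).1 hs
  change A.P (yEquiv.symm s)
  refine A.loc _ R hR fun W w hw => ?_
  have := hle _ _ hw
  change A.P (yEquiv.symm (Y.obj.map w.op s)) at this
  rwa [(AlgSp.J S).uliftYonedaEquiv_symm_map] at this

/-- The subsheaf. -/
def sheaf : Sp S := ⟨A.sub.toFunctor, (isSheaf_iff_isSheaf_of_type _ _).2 A.sub_isSheaf⟩

/-- The inclusion of the subsheaf. -/
def ι : A.sheaf ⟶ Y := ⟨A.sub.ι⟩

instance : Mono A.ι := by
  have : Mono ((sheafToPresheaf _ _).map A.ι) := inferInstanceAs (Mono A.sub.ι)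
  exact (sheafToPresheaf _ _).mono_of_mono_map this

theorem yEquiv_ι {T : Over S} (g : (yon S).obj T ⟶ A.sheaf) :
    yEquiv (g ≫ A.ι) = (yEquiv g).1 := by
  rw [yEquiv_comp]
  rfl

/-- A point of `Y` satisfies the predicate iff it factors through the subsheaf. -/
theorem P_iff {T : Over S} (g : (yon S).obj T ⟶ Y) :
    A.P g ↔ ∃ g' : (yon S).obj T ⟶ A.sheaf, g' ≫ A.ι = g := by
  constructor
  · intro h
    have hg : A.P (yEquiv.symm (yEquiv g)) := by rwa [Equiv.symm_apply_apply]
    let x : A.sheaf.obj.obj (op T) := ⟨yEquiv g, hg⟩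
    refine ⟨yEquiv.symm x, ?_⟩
    apply yEquiv.injective
    rw [yEquiv_ι, Equiv.apply_symm_apply]
  · rintro ⟨g', rfl⟩
    have := (yEquiv g').2
    change A.P (yEquiv.symm (yEquiv g').1) at this
    rwa [← yEquiv_ι, Equiv.symm_apply_apply] at this

/-- A morphism factors through the subsheaf iff all its points satisfy the predicate. -/
theorem factors_iff {X : Sp S} (f : X ⟶ Y) :
    (∃ f' : X ⟶ A.sheaf, f' ≫ A.ι = f) ↔
      ∀ (T : Over S) (x : (yon S).obj T ⟶ X), A.P (x ≫ f) := by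
  constructor
  · rintro ⟨f', rfl⟩ T x
    rw [A.P_iff]
    exact ⟨x ≫ f', by rw [Category.assoc]⟩
  · intro h
    have hle : Subfunctor.range f.hom ≤ A.sub := by
      rintro ⟨T⟩ s ⟨x, rfl⟩
      have := h T (yEquiv.symm x)
      change A.P (yEquiv.symm (f.hom.app (op T) x))
      rwa [yEquiv_symm_comp] at this
    refine ⟨⟨Subfunctor.lift f.hom hle⟩, ?_⟩
    apply Sheaf.hom_ext
    exact Subfunctor.lift_ι f.hom hle

/-- If on the point `g` the predicate says "factors through the monomorphism `c : W ⟶ T`", then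
`h_W` is the pullback of the subsheaf along `g`. -/
theorem exists_isPullback {T W : Over S} (g : (yon S).obj T ⟶ Y) (c : W ⟶ T) [Mono c]
    (h : ∀ ⦃T' : Over S⦄ (t : T' ⟶ T), A.P ((yon S).map t ≫ g) ↔ ∃ w : T' ⟶ W, w ≫ c = t) :
    ∃ fst : (yon S).obj W ⟶ A.sheaf, IsPullback fst ((yon S).map c) A.ι g := by
  obtain ⟨fst, hfst⟩ := (A.P_iff _).1 ((h c).2 ⟨𝟙 _, Category.id_comp _⟩)
  refine ⟨fst, isPullback_iff_yon.2 ⟨hfst, fun T' x y hxy => ?_⟩⟩
  obtain ⟨t, rfl⟩ := (yon S).map_surjective y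
  obtain ⟨w, rfl⟩ := (h t).1 ((A.P_iff _).2 ⟨x, hxy⟩)
  refine ⟨(yon S).map w, ⟨?_, ((yon S).map_comp _ _).symm⟩, ?_⟩
  · rw [← cancel_mono A.ι, Category.assoc, hfst, hxy, Functor.map_comp, Category.assoc]
  · rintro z ⟨-, hz⟩
    obtain ⟨w', rfl⟩ := (yon S).map_surjective z
    rw [← Functor.map_comp] at hz
    have := (yon S).map_injective hz
    rw [(cancel_mono c).1 this]

/-- Representability of the inclusion of the subsheaf of a predicate that is pointwise the
condition of factoring through a monomorphism of schemes with property `Q`. -/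
theorem repWith {Q : MorphismProperty Scheme.{u}} [Q.RespectsIso]
    (h : ∀ ⦃T : Over S⦄ (g : (yon S).obj T ⟶ Y), ∃ (W : Over S) (c : W ⟶ T), Mono c ∧ Q c.left ∧
      ∀ ⦃T' : Over S⦄ (t : T' ⟶ T), A.P ((yon S).map t ≫ g) ↔ ∃ w : T' ⟶ W, w ≫ c = t) :
    RepWith Q A.ι := by
  refine MorphismProperty.relative.of_exists fun T g => ?_
  obtain ⟨W, c, hc, hQ, hP⟩ := h g
  obtain ⟨fst, sq⟩ := A.exists_isPullback g c hP
  exact ⟨W, fst, c, sq, hQ⟩

end SubPred

end Groth.Agent.Lib.Helper14.AS
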