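import Mathlib.RingTheory.Unramified.Field
import Mathlib.RingTheory.Unramified.LocalRing
import Mathlib.RingTheory.Ideal.MinimalPrime.Noetherian
import Mathlib.RingTheory.TensorProduct.Pi
import Mathlib.RingTheory.Flat.Basic
import Mathlib.RingTheory.Localization.FractionRing

set_option autoImplicit false
universe u

namespace Groth.Agent.Lib.Helper14

open TensorProduct

/-- A flat, essentially finite type, formally unramified algebra over a reduced noetherian ring
is reduced. -/
theorem isReduced_of_flat_of_formallyUnramified (A B : Type u) [CommRing A] [CommRing B]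
    [Algebra A B] [IsNoetherianRing A] [IsReduced A] [Module.Flat A B]
    [Algebra.EssFiniteType A B] [Algebra.FormallyUnramified A B] : IsReduced B := by
  classical
  have hfin := minimalPrimes.finite_of_isNoetherianRing A
  let ι := {p : Ideal A // p ∈ minimalPrimes A}
  have : Finite ι := hfin
  have : Fintype ι := Fintype.ofFinite ι
  have hprime : ∀ p : ι, p.1.IsPrime := fun p => Ideal.IsMinimalPrime.isPrime p.2
  let K : ι → Type u := fun p => FractionRing (A ⧸ p.1)
  have hinj : Function.Injective (algebraMap A (∀ p, K p)) := by
    rw [injective_iff_map_eq_zero]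
    intro a ha
    have hmem : a ∈ sInf (minimalPrimes A) := by
      rw [Ideal.mem_sInf]
      intro p hp
      have hp' : (⟨p, hp⟩ : ι).1.IsPrime := hprime ⟨p, hp⟩
      have h1 := congrFun ha ⟨p, hp⟩
      simp only [Pi.algebraMap_apply, Pi.zero_apply] at h1
      rw [IsScalarTower.algebraMap_apply A (A ⧸ p) (FractionRing (A ⧸ p))] at h1
      have h2 := (IsFractionRing.injective (A ⧸ p) (FractionRing (A ⧸ p)))
        (h1.trans (map_zero _).symm)
      rwa [Ideal.Quotient.algebraMap_eq, Ideal.Quotient.eq_zero_iff_mem] at h2
    rw [minimalPrimes, Ideal.sInf_minimalPrimes] at hmem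
    have h3 : a ∈ nilradical A := hmem
    rw [nilradical_eq_zero A] at h3
    exact h3
  have h1 : Function.Injective
      (Algebra.TensorProduct.includeLeft : B →ₐ[A] B ⊗[A] (∀ p, K p)) :=
    Algebra.TensorProduct.includeLeft_injective hinj
  have hred : ∀ p, IsReduced (B ⊗[A] K p) := by
    intro p
    have : IsReduced (K p ⊗[A] B) :=
      Algebra.FormallyUnramified.isReduced_of_field (K p) (K p ⊗[A] B)
    exact isReduced_of_injective (Algebra.TensorProduct.comm A B (K p))
      (AlgEquiv.injective _)
  have : IsReduced (B ⊗[A] (∀ p, K p)) :=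
    isReduced_of_injective (Algebra.TensorProduct.piRight A A B K) (AlgEquiv.injective _)
  exact isReduced_of_injective _ h1

end Groth.Agent.Lib.Helper14
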