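import Mathlib
import Groth.Agent.Lib.Helper14.ReducedUnramified

/-!
# Etale over reduced is reduced; reducedness descends along flat surjective maps (helper14)
-/

universe u
open TensorProduct CategoryTheory AlgebraicGeometry

namespace Groth.Agent.Lib.Helper14

/-- An etale algebra over a reduced ring is reduced. -/
theorem isReduced_of_etale (A B : Type u) [CommRing A] [CommRing B] [Algebra A B] [IsReduced A]
    [Algebra.Etale A B] : IsReduced B := by
  classical
  obtain ⟨A₀, B₀, _, _, hfg, het, ⟨e⟩⟩ := Algebra.Etale.exists_subalgebra_fg ℤ A B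
  suffices h : IsReduced (A ⊗[A₀] B₀) from isReduced_of_injective e e.injective
  refine ⟨fun x hx => ?_⟩
  obtain ⟨T, hT⟩ := TensorProduct.exists_finset x
  let s : Finset A := T.image Prod.fst
  let A₁ : Subalgebra ℤ A := A₀ ⊔ Algebra.adjoin ℤ (s : Set A)
  have hle : A₀ ≤ A₁ := le_sup_left
  have hs : ∀ i ∈ T, i.1 ∈ A₁ := fun i hi =>
    (le_sup_right : Algebra.adjoin ℤ (s : Set A) ≤ A₁)
      (Algebra.subset_adjoin (Finset.mem_image_of_mem Prod.fst hi))
  have hfg₁ : A₁.FG := hfg.sup (Subalgebra.fg_adjoin_finset s)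
  let _ : Algebra A₀ A₁ := (Subalgebra.inclusion hle).toRingHom.toAlgebra
  have : IsScalarTower A₀ A₁ A := IsScalarTower.of_algebraMap_eq (fun _ => rfl)
  let φ : A₁ ⊗[A₀] B₀ →ₐ[A₀] A ⊗[A₀] B₀ :=
    Algebra.TensorProduct.map (IsScalarTower.toAlgHom A₀ A₁ A) (AlgHom.id A₀ B₀)
  have hφ : Function.Injective φ := by
    have h1 : Function.Injective ((IsScalarTower.toAlgHom A₀ A₁ A).toLinearMap) :=
      Subtype.val_injective
    have h2 := Module.Flat.rTensor_preserves_injective_linearMap (M := B₀)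
      (IsScalarTower.toAlgHom A₀ A₁ A).toLinearMap h1
    have e2 : ⇑φ = ⇑(LinearMap.rTensor B₀ (IsScalarTower.toAlgHom A₀ A₁ A).toLinearMap) := by
      funext z
      induction z with
      | zero => simp
      | add a b ha hb => rw [map_add, map_add, ha, hb]
      | tmul a b =>
        change Algebra.TensorProduct.map _ _ (a ⊗ₜ[A₀] b) = _
        rw [Algebra.TensorProduct.map_tmul]
        rfl
    rw [e2]; exact h2
  let y : A₁ ⊗[A₀] B₀ := ∑ i ∈ T.attach, (⟨i.1.1, hs i.1 i.2⟩ : A₁) ⊗ₜ[A₀] i.1.2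
  have hy : φ y = x := by
    rw [hT, ← Finset.sum_attach, map_sum]
    refine Finset.sum_congr rfl fun i _ => ?_
    change Algebra.TensorProduct.map _ _ (_ ⊗ₜ[A₀] _) = _
    rw [Algebra.TensorProduct.map_tmul]
    rfl
  have hynil : IsNilpotent y := by
    rw [← IsNilpotent.map_iff hφ, hy]; exact hx
  have : Algebra.FiniteType ℤ A₁ := (Subalgebra.fg_iff_finiteType A₁).mp hfg₁
  have : IsNoetherianRing A₁ := Algebra.FiniteType.isNoetherianRing ℤ A₁
  have : IsReduced A₁ := isReduced_of_injective A₁.val Subtype.val_injective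
  have : Algebra.Etale A₁ (A₁ ⊗[A₀] B₀) := inferInstance
  have : IsReduced (A₁ ⊗[A₀] B₀) := isReduced_of_flat_of_formallyUnramified A₁ (A₁ ⊗[A₀] B₀)
  have hy0 : y = 0 := hynil.eq_zero
  rw [← hy, hy0, map_zero]

/-- A scheme etale over a reduced scheme is reduced. -/
theorem isReduced_of_etale_scheme {U U₀ : Scheme.{u}} (p : U ⟶ U₀) [Etale p]
    [AlgebraicGeometry.IsReduced U₀] : AlgebraicGeometry.IsReduced U := by
  apply +allowSynthFailures isReduced_of_isReduced_stalk
  intro x
  obtain ⟨U', hU', hxU', -⟩ := exists_isAffineOpen_mem_and_subset (x := p x) (U := ⊤) trivial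
  obtain ⟨V, hV, hxV, hVle⟩ := exists_isAffineOpen_mem_and_subset (x := x) (U := p ⁻¹ᵁ U') hxU'
  have h1 : (p.appLE U' V hVle).hom.Etale :=
    HasRingHomProperty.appLE (P := @Etale) p inferInstance ⟨U', hU'⟩ ⟨V, hV⟩ hVle
  algebraize [(p.appLE U' V hVle).hom]
  have : _root_.IsReduced Γ(U, V) := isReduced_of_etale Γ(U₀, U') Γ(U, V)
  let _ := U.presheaf.algebra_section_stalk (U := V) ⟨x, hxV⟩
  have := hV.isLocalization_stalk ⟨x, hxV⟩
  exact isReduced_localizationPreserves (hV.primeIdealOf ⟨x, hxV⟩).asIdeal.primeCompl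
    (U.presheaf.stalk x) inferInstance

/-- A scheme smooth over a reduced scheme is reduced. -/
theorem isReduced_of_smooth_scheme {U U₀ : Scheme.{u}} (p : U ⟶ U₀) [Smooth p]
    [AlgebraicGeometry.IsReduced U₀] : AlgebraicGeometry.IsReduced U := by
  apply +allowSynthFailures isReduced_of_isReduced_stalk
  intro x
  obtain ⟨U', hU', V, hV, hxV, e, hstd⟩ := Smooth.exists_isStandardSmooth p x
  obtain ⟨n, g, -, hg⟩ := RingHom.IsStandardSmooth.exists_etale_mvPolynomial hstd
  algebraize [g]
  have : _root_.IsReduced Γ(U, V) := isReduced_of_etale (MvPolynomial (Fin n) Γ(U₀, U')) Γ(U, V)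
  let _ := U.presheaf.algebra_section_stalk (U := V) ⟨x, hxV⟩
  have := hV.isLocalization_stalk ⟨x, hxV⟩
  exact isReduced_localizationPreserves (hV.primeIdealOf ⟨x, hxV⟩).asIdeal.primeCompl
    (U.presheaf.stalk x) inferInstance

/-- Reducedness descends along flat surjective morphisms. -/
theorem isReduced_of_flat_surjective {U V : Scheme.{u}} (k : U ⟶ V) [Flat k] [Surjective k]
    [AlgebraicGeometry.IsReduced U] : AlgebraicGeometry.IsReduced V := by
  apply +allowSynthFailures isReduced_of_isReduced_stalk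
  intro v
  obtain ⟨u, rfl⟩ := k.surjective v
  have hinj : Function.Injective (k.stalkMap u).hom := by
    algebraize [(k.stalkMap u).hom]
    have : Module.FaithfullyFlat (V.presheaf.stalk (k u)) (U.presheaf.stalk u) :=
      @Module.FaithfullyFlat.of_flat_of_isLocalHom _ _ _ _ _ _ _
        (Flat.stalkMap k u) (k.toLRSHom.prop u)
    exact ‹RingHom.FaithfullyFlat _›.injective
  exact isReduced_of_injective (k.stalkMap u).hom hinj

end Groth.Agent.Lib.Helper14
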