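import Groth.Agent.Lib.Helper14.AlgSpDecent3
import Groth.Agent.Lib.Helper14.AlgSpSubsheaf
import Groth.Agent.Lib.Helper14.ReducedEtale

open CategoryTheory CategoryTheory.Limits AlgebraicGeometry Opposite AlgSp
open CategoryTheory.Functor Groth.Agent.Lib.Helper14.AS

universe u

noncomputable section

namespace Groth.Agent.Lib.Helper14.AS

variable {S : Scheme.{u}}

/-- (RF) A morphism from a reduced scheme whose image is a single point `u` factors through
`Spec κ(u)`. -/
theorem exists_factor_residueField_of_isReduced {T U : Scheme.{u}} [IsReduced T] (h : T ⟶ U)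
    (u : ↥U) (hpt : ∀ t, h t = u) :
    ∃ h' : T ⟶ Spec (U.residueField u), h' ≫ U.fromSpecResidueField u = h := by
  have hsurj : Function.Surjective (pullback.fst h (U.fromSpecResidueField u)) := by
    rw [← Set.range_eq_univ, Scheme.Pullback.range_fst, Scheme.range_fromSpecResidueField]
    ext t
    simp [hpt t]
  have hs : Surjective (pullback.fst h (U.fromSpecResidueField u)) := ⟨hsurj⟩
  have hci : IsClosedImmersion (pullback.fst h (U.fromSpecResidueField u)) :=
    IsClosedImmersion.of_isPreimmersion _ (by rw [hsurj.range_eq]; exact isClosed_univ)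
  have hiso : IsIso (pullback.fst h (U.fromSpecResidueField u)) :=
    isIso_of_isClosedImmersion_of_surjective _
  refine ⟨inv (pullback.fst h (U.fromSpecResidueField u)) ≫ pullback.snd _ _, ?_⟩
  rw [Category.assoc, ← pullback.condition, IsIso.inv_hom_id_assoc]


/-- A jointly surjective family of flat morphisms locally of finite presentation is an fppf
covering. -/
theorem ofArrows_mem_KS {U : Over S} {ι : Type u} (W : ι → Over S) (w : ∀ i, W i ⟶ U)
    (hw : ∀ i, Flat (w i).left ∧ LocallyOfFinitePresentation (w i).left)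
    (hsurj : ∀ x : ↥U.left, ∃ i, x ∈ Set.range (w i).left) :
    Presieve.ofArrows W w ∈ KS S U := by
  rw [Precoverage.mem_comap_iff, Presieve.map_ofArrows]
  exact (Scheme.ofArrows_mem_precoverage_iff (P := @Flat ⊓ @LocallyOfFinitePresentation)).2
    ⟨hsurj, fun i => hw i⟩

set_option backward.isDefEq.respectTransparency.types false in
/-- (L1) In an etale chart, a point of the fibre over a quasi-compact monomorphic point is
isolated in the fibre. -/
theorem exists_open_isolating_fibre_point {X : Sp S} (p : FieldPt X)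
    (hq : RepWith @QuasiCompact p.toHom) {U : Over S} (φ : (yon S).obj U ⟶ X)
    (hφ : RepWith @Etale φ) (u : ↥U.left) (hu : Points.ofPt φ u = Points.mk p) :
    ∃ O : U.left.Opens, u ∈ O ∧ ∀ u' ∈ O, Points.ofPt φ u' = Points.mk p → u' = u := by
  obtain ⟨N, hN, huN, -⟩ := exists_isAffineOpen_mem_and_subset (x := u) (U := ⊤) trivial
  have hF := fibre_chart_finite_inter φ hφ p hq N hN.isCompact
  have hx : ∀ (V : Over S) (b : (yon S).obj V ⟶ X), IsAffine V.left → RepWith @Etale b →
      (Points.ofPt b ⁻¹' {Points.mk p}).Finite := by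
    intro V b hV hb
    have := fibre_chart_finite_inter b hb p hq ⊤ (by
      have : CompactSpace ↥V.left := inferInstance
      exact isCompact_univ)
    simpa using this
  have hF' : (((Points.ofPt φ ⁻¹' {Points.mk p}) ∩ (N : Set ↥U.left)) \ {u}).Finite :=
    hF.subset Set.diff_subset
  have hOopen : IsOpen ((N : Set ↥U.left) ∩
      ⋂ u' ∈ ((Points.ofPt φ ⁻¹' {Points.mk p}) ∩ (N : Set ↥U.left)) \ {u},
        (closure ({u'} : Set ↥U.left))ᶜ) :=
    N.2.inter (hF'.isOpen_biInter fun u' _ => isClosed_closure.isOpen_compl)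
  refine ⟨⟨_, hOopen⟩, ⟨huN, ?_⟩, ?_⟩
  · simp only [Set.mem_iInter]
    intro u' hu'
    intro hmem
    have hs : u' ⤳ u := specializes_iff_mem_closure.2 hmem
    have := eq_of_specializes_of_affine_finite (Points.mk p) hx φ hφ u u' hu hu'.1.1 hs
    exact hu'.2 this.symm
  · rintro u' ⟨hu'N, hu'I⟩ hu'x
    by_contra hne
    simp only [Set.mem_iInter] at hu'I
    exact hu'I u' ⟨⟨hu'x, hu'N⟩, hne⟩ (subset_closure rfl)


set_option backward.isDefEq.respectTransparency.types false in
/-- (L2) A morphism from a reduced scheme to an algebraic space whose image is the single point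
represented by a quasi-compact monomorphism `p` factors through `p`. -/
theorem exists_lift_of_reduced_scheme {X : Sp S} (hX : IsAlgSpace X) (p : FieldPt X)
    (hm : Mono p.toHom) (hq : RepWith @QuasiCompact p.toHom) {V : Over S} [IsReduced V.left]
    (h : (yon S).obj V ⟶ X) (hh : ∀ v : ↥V.left, Points.ofPt h v = Points.mk p) :
    ∃ l : (yon S).obj V ⟶ (yon S).obj p.pt, l ≫ p.toHom = h := by
  obtain ⟨U, φ, hφ, hφs⟩ := hX.atlas
  have sq := hφ.rep.isPullback' h
  have hsnd_et : Etale (hφ.rep.snd h).left := hφ.property_snd h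
  -- choices for every point of `V`
  have key : ∀ v : ↥V.left, ∃ (u : ↥U.left) (O : U.left.Opens) (v' : ↥(hφ.rep.pullback h).left),
      Points.ofPt φ u = Points.mk p ∧ u ∈ O ∧
        (∀ u' ∈ O, Points.ofPt φ u' = Points.mk p → u' = u) ∧
        (hφ.rep.fst' h).left v' = u ∧ (hφ.rep.snd h).left v' = v := by
    intro v
    obtain ⟨u, hu⟩ := ofPt_surjective_of_repWith hφs (Points.mk p)
    obtain ⟨O, huO, hO⟩ := exists_open_isolating_fibre_point p hq φ hφ u hu
    obtain ⟨v', hv'1, hv'2⟩ := exists_point_of_isPullback_yon sq u v (by rw [hu, hh v])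
    exact ⟨u, O, v', hu, huO, hO, hv'1, hv'2⟩
  choose u O v' hu huO hO hv'1 hv'2 using key
  let W : ↥V.left → Over S := fun v => openSub (hφ.rep.pullback h) ((hφ.rep.fst' h).left ⁻¹ᵁ O v)
  let w : ∀ v, W v ⟶ V := fun v => openSubι _ _ ≫ hφ.rep.snd h
  have hwet : ∀ v, Etale (w v).left := fun v => by
    change Etale (((hφ.rep.fst' h).left ⁻¹ᵁ O v).ι ≫ (hφ.rep.snd h).left)
    infer_instance
  refine exists_lift_of_cover p.toHom h (Presieve.ofArrows W w)
    (ofArrows_mem_KS W w (fun v => ⟨by have := hwet v; infer_instance,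
      by have := hwet v; infer_instance⟩) (fun v => ⟨v, ⟨v' v, ?_⟩, ?_⟩)) ?_
  · change (hφ.rep.fst' h).left (v' v) ∈ O v
    rw [hv'1]; exact huO v
  · exact hv'2 v
  · rintro _ _ ⟨v⟩
    have hred : IsReduced (W v).left := by
      have := hwet v
      exact Groth.Agent.Lib.Helper14.isReduced_of_etale_scheme (w v).left
    let k : W v ⟶ U := openSubι _ _ ≫ hφ.rep.fst' h
    have hkpt : ∀ t : ↥(W v).left, k.left t = u v := by
      intro t
      have htO : k.left t ∈ O v := t.2
      refine hO v _ htO ?_
      rw [← ofPt_yon_map_comp, Functor.map_comp, Category.assoc, sq.w, ← Category.assoc,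
        ← Functor.map_comp, ofPt_yon_map_comp, hh]
    obtain ⟨h'', hh''⟩ := exists_factor_residueField_of_isReduced k.left (u v) hkpt
    let q : FieldPt X := FieldPt.ofPt φ (u v)
    let h''o : W v ⟶ q.pt := Over.homMk h'' (by
      change h'' ≫ U.left.fromSpecResidueField (u v) ≫ U.hom = (W v).hom
      rw [← Category.assoc, hh'']
      exact Over.w k)
    have hq1 : q.toHom = (yon S).map (Over.homMk (U.left.fromSpecResidueField (u v)) rfl) ≫ φ :=
      FieldPt.toHom_ofPt φ (u v)
    have hfac : h''o ≫ (Over.homMk (U.left.fromSpecResidueField (u v)) rfl : q.pt ⟶ U) = k := by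
      ext1
      exact hh''
    obtain ⟨j, hj⟩ := factors_through_mono_point p q hm (repDiag_of_isAlgSpace hX _) (hu v)
    refine ⟨(yon S).map (h''o ≫ j), ?_⟩
    rw [Functor.map_comp, Category.assoc, hj, hq1, ← Category.assoc, ← Functor.map_comp, hfac,
      Functor.map_comp, Category.assoc, sq.w, ← Category.assoc, ← Functor.map_comp]

set_option backward.isDefEq.respectTransparency.types false in
/-- (L3) A morphism from a reduced algebraic space whose image is the single point represented by
a quasi-compact monomorphism `p` factors through `p`. -/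
theorem factors_through_qc_mono_point_of_reduced {X Y : Sp S} (hX : IsAlgSpace X) (f : Y ⟶ X)
    (p : FieldPt X) (hm : Mono p.toHom) (hq : RepWith @QuasiCompact p.toHom)
    (hYr : EtaleLocally (fun U => IsReduced U) Y)
    (hf : ∀ y : Points Y, Points.map f y = Points.mk p) :
    ∃ g : Y ⟶ (yon S).obj p.pt, g ≫ p.toHom = f := by
  obtain ⟨V, a, hae, has, hVr⟩ := hYr
  have : IsReduced V.left := hVr
  obtain ⟨lV, hlV⟩ := exists_lift_of_reduced_scheme hX p hm hq (a ≫ f) (fun v => by
    rw [← Points.map_ofPt, hf])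
  have hls : Sheaf.IsLocallySurjective a :=
    isLocallySurjective_of_repWith a (repWith_mono etale_le_flat hae)
      (repWith_mono etale_le_lfp hae) has
  refine exists_lift_of_locally p.toHom f fun T x => ?_
  obtain ⟨R, hR, hl⟩ := exists_cover_lift a x
  refine ⟨Sieve.generate R, (mem_J_iff _).2 ⟨R, hR, Sieve.le_generate R⟩, ?_⟩
  rintro W w ⟨W₁, v₁, w₁, hw₁, rfl⟩
  obtain ⟨l₁, hl₁⟩ := hl w₁ hw₁
  refine ⟨(yon S).map v₁ ≫ l₁ ≫ lV, ?_⟩
  rw [Category.assoc, Category.assoc, hlV, ← Category.assoc l₁, hl₁, Functor.map_comp,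
    Category.assoc, Category.assoc]

end Groth.Agent.Lib.Helper14.AS
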