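import Groth.Agent.Lib.Helper14.Norm5b
import Groth.Agent.Lib.Helper14.AlgSpRedFactor2
import Groth.Agent.Lib.Helper10.FEtGraph

/-!
# The glued sheaf of a cartesian functor: the pullback property (helper14)
-/

universe u
open CategoryTheory CategoryTheory.Limits AlgebraicGeometry Opposite
open AlgSp

namespace Groth.Agent.Lib.Helper14.AS

variable {S : Scheme.{u}} {X : Sp S}

/-- Restriction of a morphism over `S` to an open of the target. -/
noncomputable def openSubRes {T V : Over S} (r : T ⟶ V) (U : V.left.Opens) :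
    openSub T (r.left ⁻¹ᵁ U) ⟶ openSub V U :=
  Over.homMk (r.left ∣_ U) (by
    show (r.left ∣_ U) ≫ U.ι ≫ V.hom = (r.left ⁻¹ᵁ U).ι ≫ T.hom
    rw [← Category.assoc, morphismRestrict_ι, Category.assoc, Over.w])

theorem openSubRes_ι {T V : Over S} (r : T ⟶ V) (U : V.left.Opens) :
    openSubRes r U ≫ openSubι V U = openSubι T (r.left ⁻¹ᵁ U) ≫ r := by
  ext
  exact morphismRestrict_ι _ _

/-- A sieve containing, around every point, a flat finitely presented neighbourhood is covering. -/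
theorem mem_J_of_pointwise {T : Over S} (Sv : Sieve T)
    (h : ∀ τ : ↥T.left, ∃ (T' : Over S) (t : T' ⟶ T), Flat t.left ∧
      LocallyOfFinitePresentation t.left ∧ τ ∈ Set.range t.left ∧ Sv t) : Sv ∈ J S T := by
  choose T' t hfl hfp hτ hl using h
  have hR : Presieve.ofArrows T' t ∈ KS S T :=
    ofArrows_mem_KS T' t (fun τ => ⟨hfl τ, hfp τ⟩) (fun τ => ⟨τ, hτ τ⟩)
  refine (mem_J_iff _).2 ⟨_, hR, ?_⟩
  rintro W w ⟨τ⟩
  exact hl τ

/-- A sieve containing an open neighbourhood of every point is covering. -/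
theorem mem_J_of_open_nhds {T : Over S} (Sv : Sieve T)
    (h : ∀ τ : ↥T.left, ∃ U : T.left.Opens, τ ∈ U ∧ Sv (openSubι T U)) : Sv ∈ J S T := by
  refine mem_J_of_pointwise Sv fun τ => ?_
  obtain ⟨U, hτ, hU⟩ := h τ
  refine ⟨openSub T U, openSubι T U, inferInstance, inferInstance, ?_, hU⟩
  show τ ∈ Set.range U.ι
  rw [Scheme.Opens.range_ι]
  exact hτ

/-- Morphisms of schemes over `S` agreeing on a covering sieve are equal. -/
theorem over_hom_ext_of_cover {T N : Over S} (n n' : T ⟶ N) (Sv : Sieve T) (hSv : Sv ∈ J S T)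
    (h : ∀ ⦃W : Over S⦄ (w : W ⟶ T), Sv w → w ≫ n = w ≫ n') : n = n' := by
  apply (yon S).map_injective
  refine yon_hom_ext_of_cover _ _ Sv hSv fun W w hw => ?_
  rw [← Functor.map_comp, ← Functor.map_comp, h w hw]

/-- Gluing of local sections characterized by a local property with uniqueness. -/
theorem exists_glue_of_unique {F : Sp S} {T : Over S}
    (Q : ∀ ⦃W : Over S⦄, (W ⟶ T) → ((yon S).obj W ⟶ F) → Prop)
    (hpull : ∀ ⦃W W' : Over S⦄ (w : W ⟶ T) (g : W' ⟶ W) (z : (yon S).obj W ⟶ F), Q w z →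
      Q (g ≫ w) ((yon S).map g ≫ z))
    (huniq : ∀ ⦃W : Over S⦄ (w : W ⟶ T) (z z' : (yon S).obj W ⟶ F), Q w z → Q w z' → z = z')
    (Sv : Sieve T) (hSv : Sv ∈ J S T)
    (hex : ∀ ⦃W : Over S⦄ (w : W ⟶ T), Sv w → ∃ z, Q w z) :
    ∃ z : (yon S).obj T ⟶ F, ∀ ⦃W : Over S⦄ (w : W ⟶ T), Sv w → Q w ((yon S).map w ≫ z) := by
  have hsh := ((isSheaf_iff_isSheaf_of_type _ _).1 F.property) _ hSv
  let fam : Presieve.FamilyOfElements F.obj Sv.arrows := fun W w hw => yEquiv (hex w hw).choose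
  have hcomp : fam.Compatible := by
    intro W₁ W₂ W₀ g₁ g₂ w₁ w₂ h₁ h₂ hc
    show F.obj.map g₁.op (yEquiv (hex w₁ h₁).choose) = F.obj.map g₂.op (yEquiv (hex w₂ h₂).choose)
    rw [← yEquiv_map_comp'', ← yEquiv_map_comp'']
    congr 1
    have e1 := hpull w₁ g₁ _ (hex w₁ h₁).choose_spec
    have e2 := hpull w₂ g₂ _ (hex w₂ h₂).choose_spec
    rw [hc] at e1
    exact huniq _ _ _ e1 e2
  refine ⟨yEquiv.symm (hsh.amalgamate fam hcomp), fun W w hw => ?_⟩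
  have e : (yon S).map w ≫ yEquiv.symm (hsh.amalgamate fam hcomp) = (hex w hw).choose := by
    apply yEquiv.injective
    rw [yEquiv_map_comp'', Equiv.apply_symm_apply]
    exact hsh.valid_glue hcomp w hw
  rw [e]
  exact (hex w hw).choose_spec


/-- Morphisms of schemes over `S` agreeing on open neighbourhoods of all points are equal. -/
theorem over_hom_ext_of_open_nhds {T N : Over S} (n n' : T ⟶ N)
    (h : ∀ τ : ↥T.left, ∃ U : T.left.Opens, τ ∈ U ∧ openSubι T U ≫ n = openSubι T U ≫ n') :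
    n = n' := by
  let Sv : Sieve T :=
    { arrows := fun W g => g ≫ n = g ≫ n'
      downward_closed := fun {W W'} g hg g' => by
        show (g' ≫ g) ≫ n = (g' ≫ g) ≫ n'
        rw [Category.assoc, hg, Category.assoc] }
  exact over_hom_ext_of_cover n n' Sv (mem_J_of_open_nhds Sv h) (fun W w hw => hw)

namespace AffEt

open Groth.Agent.Lib.Helper10.FEtGraph in
set_option backward.isDefEq.respectTransparency.types false in
/-- The equalizer of two morphisms of etale charts is open. -/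
theorem exists_equalizer_open {E₃ E : AffEt X} (a₁ a₂ : E₃ ⟶ E) :
    ∃ Ω : E₃.V.left.Opens,
      (∀ (T : Over S) (t : T ⟶ E₃.V), t ≫ a₁.a = t ≫ a₂.a → ∀ τ : ↥T.left, t.left τ ∈ Ω) ∧
      ∀ U : E₃.V.left.Opens, U ≤ Ω → openSubι E₃.V U ≫ a₁.a = openSubι E₃.V U ≫ a₂.a := by
  have hr := E.etale.rep
  have hpr₂ : Etale (hr.snd E.v).left := E.etale.property_snd E.v
  obtain ⟨δ, hδ₁, hδ₂⟩ : ∃ δ : E.V ⟶ hr.pullback E.v, δ ≫ hr.fst' E.v = 𝟙 _ ∧ δ ≫ hr.snd E.v = 𝟙 _ :=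
    ⟨hr.lift' (𝟙 _) (𝟙 _) rfl, hr.lift'_fst _ _ _, hr.lift'_snd _ _ _⟩
  have hδo : IsOpenImmersion δ.left :=
    isOpenImmersion_of_section δ.left (hr.snd E.v).left (by rw [← Over.comp_left, hδ₂]; rfl)
  obtain ⟨c, hc₁, hc₂⟩ : ∃ c : E₃.V ⟶ hr.pullback E.v, c ≫ hr.fst' E.v = a₁.a ∧ c ≫ hr.snd E.v = a₂.a :=
    ⟨hr.lift' a₁.a a₂.a (by rw [a₁.w, a₂.w]), hr.lift'_fst _ _ _, hr.lift'_snd _ _ _⟩
  refine ⟨c.left ⁻¹ᵁ δ.left.opensRange, ?_, ?_⟩
  · intro T t ht τ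
    have e : t ≫ c = (t ≫ a₁.a) ≫ δ := by
      apply hr.hom_ext'
      · rw [Category.assoc, hc₁, Category.assoc, hδ₁, Category.comp_id]
      · rw [Category.assoc, hc₂, Category.assoc, hδ₂, Category.comp_id, ht]
    have e' := congrArg (fun g => g.left τ) e
    exact ⟨(t ≫ a₁.a).left τ, e'.symm⟩
  · intro U hU
    have hrange : Set.range (U.ι ≫ c.left) ⊆ Set.range δ.left := by
      rintro _ ⟨x, rfl⟩
      exact hU x.2
    have hl : IsOpenImmersion.lift δ.left (U.ι ≫ c.left) hrange ≫ δ.left = U.ι ≫ c.left :=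
      IsOpenImmersion.lift_fac _ _ _
    have k1 : U.ι ≫ a₁.a.left = IsOpenImmersion.lift δ.left (U.ι ≫ c.left) hrange := by
      calc U.ι ≫ a₁.a.left = U.ι ≫ (c ≫ hr.fst' E.v).left := by rw [hc₁]
        _ = (U.ι ≫ c.left) ≫ (hr.fst' E.v).left := by rw [Over.comp_left, Category.assoc]
        _ = (IsOpenImmersion.lift δ.left (U.ι ≫ c.left) hrange ≫ δ.left) ≫ (hr.fst' E.v).left := by
            rw [hl]
        _ = IsOpenImmersion.lift δ.left (U.ι ≫ c.left) hrange ≫ (δ ≫ hr.fst' E.v).left := by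
            rw [Over.comp_left, Category.assoc]
        _ = _ := by rw [hδ₁, Over.id_left, Category.comp_id]
    have k2 : U.ι ≫ a₂.a.left = IsOpenImmersion.lift δ.left (U.ι ≫ c.left) hrange := by
      calc U.ι ≫ a₂.a.left = U.ι ≫ (c ≫ hr.snd E.v).left := by rw [hc₂]
        _ = (U.ι ≫ c.left) ≫ (hr.snd E.v).left := by rw [Over.comp_left, Category.assoc]
        _ = (IsOpenImmersion.lift δ.left (U.ι ≫ c.left) hrange ≫ δ.left) ≫ (hr.snd E.v).left := by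
            rw [hl]
        _ = IsOpenImmersion.lift δ.left (U.ι ≫ c.left) hrange ≫ (δ ≫ hr.snd E.v).left := by
            rw [Over.comp_left, Category.assoc]
        _ = _ := by rw [hδ₂, Over.id_left, Category.comp_id]
    ext
    show U.ι ≫ a₁.a.left = U.ι ≫ a₂.a.left
    rw [k1, k2]

end AffEt

namespace CartFun

variable (C : CartFun X)

/-- Injectivity of the chart maps of the glued sheaf over the charts. -/
theorem κ_injective {E : AffEt X} {T : Over S} (n n' : T ⟶ C.F.obj E)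
    (h1 : n ≫ C.ρ E = n' ≫ C.ρ E)
    (h2 : (yon S).map n ≫ C.κ E = (yon S).map n' ≫ C.κ E) : n = n' := by
  have h2' : PreSec.κ (C := C) ⟨E, n⟩ = PreSec.κ ⟨E, n'⟩ := by
    rw [PreSec.κ_eq, PreSec.κ_eq]; exact h2
  obtain ⟨Sv, hSv, hrel⟩ := exists_cover_rel_of_κ_eq h2'
  refine over_hom_ext_of_cover n n' Sv hSv fun W w hw => ?_
  obtain ⟨E₃, n₃, (a₁ : E₃ ⟶ E), (a₂ : E₃ ⟶ E), (e1 : n₃ ≫ C.F.map a₁ = w ≫ n),
    (e2 : n₃ ≫ C.F.map a₂ = w ≫ n')⟩ := hrel w hw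
  obtain ⟨Ω, hΩ1, hΩ2⟩ := AffEt.exists_equalizer_open a₁ a₂
  have k1 : (n₃ ≫ C.ρ E₃) ≫ a₁.a = (w ≫ n) ≫ C.ρ E := by
    rw [← e1, Category.assoc, Category.assoc, C.ρ_nat]
  have k2 : (n₃ ≫ C.ρ E₃) ≫ a₂.a = (w ≫ n') ≫ C.ρ E := by
    rw [← e2, Category.assoc, Category.assoc, C.ρ_nat]
  have ht : (n₃ ≫ C.ρ E₃) ≫ a₁.a = (n₃ ≫ C.ρ E₃) ≫ a₂.a := by
    rw [k1, k2, Category.assoc, Category.assoc, h1]
  refine over_hom_ext_of_open_nhds _ _ fun τ => ?_
  obtain ⟨U, hU, hτU, hUΩ⟩ := exists_isAffineOpen_mem_and_subset (x := (n₃ ≫ C.ρ E₃).left τ)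
    (U := Ω) (hΩ1 W _ ht τ)
  have hb : E₃.resι U hU ≫ a₁ = E₃.resι U hU ≫ a₂ := AffEt.hom_ext' (hΩ2 U hUΩ)
  refine ⟨(n₃ ≫ C.ρ E₃).left ⁻¹ᵁ U, hτU, ?_⟩
  have hc : (openSubι W ((n₃ ≫ C.ρ E₃).left ⁻¹ᵁ U) ≫ n₃) ≫ C.ρ E₃ =
      openSubRes (n₃ ≫ C.ρ E₃) U ≫ (E₃.resι U hU).a := by
    rw [Category.assoc]
    exact (openSubRes_ι _ _).symm
  have hn₄ := (C.cart (E₃.resι U hU)).lift_fst _ _ hc
  rw [← e1, ← e2, ← Category.assoc, ← Category.assoc, ← hn₄, Category.assoc, Category.assoc,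
    ← Functor.map_comp, ← Functor.map_comp, hb]

/-- Local existence for the pullback property. -/
theorem exists_cover_lift_κ {E : AffEt X} {T : Over S} (x : (yon S).obj T ⟶ C.glue)
    (v : T ⟶ E.V) (hxv : x ≫ C.ν = (yon S).map v ≫ E.v) :
    ∃ Sv ∈ J S T, ∀ ⦃W : Over S⦄ (w : W ⟶ T), Sv w →
      ∃ n : W ⟶ C.F.obj E, (yon S).map n ≫ C.κ E = (yon S).map w ≫ x ∧ n ≫ C.ρ E = w ≫ v := by
  let Sv : Sieve T :=
    { arrows := fun W w => ∃ n : W ⟶ C.F.obj E,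
        (yon S).map n ≫ C.κ E = (yon S).map w ≫ x ∧ n ≫ C.ρ E = w ≫ v
      downward_closed := fun {W W'} w hw g => by
        obtain ⟨n, hn1, hn2⟩ := hw
        refine ⟨g ≫ n, ?_, ?_⟩
        · rw [Functor.map_comp, Category.assoc, hn1, Functor.map_comp, Category.assoc]
        · rw [Category.assoc, hn2, Category.assoc] }
  refine ⟨Sv, ?_, fun W w hw => hw⟩
  obtain ⟨Sv₁, hSv₁, hl₁⟩ := exists_cover_preSec x
  refine (J S).transitive hSv₁ Sv fun W w hw => ?_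
  obtain ⟨⟨E₁, n₁⟩, hp⟩ := hl₁ w hw
  have hpt : (yon S).map (w ≫ v) ≫ E.v = (yon S).map (n₁ ≫ C.ρ E₁) ≫ E₁.v := by
    have h0 := PreSec.κ_ν (C := C) ⟨E₁, n₁⟩
    rw [hp, Category.assoc, hxv] at h0
    rw [Functor.map_comp, Category.assoc]
    exact h0
  have hr := E.etale.rep
  have sqR := hr.isPullback' E₁.v
  have hsnd : Etale (hr.snd E₁.v).left := E.etale.property_snd E₁.v
  obtain ⟨r, hr1, hr2⟩ : ∃ r : W ⟶ hr.pullback E₁.v, r ≫ hr.fst' E₁.v = w ≫ v ∧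
      r ≫ hr.snd E₁.v = n₁ ≫ C.ρ E₁ :=
    ⟨hr.lift' _ _ hpt, hr.lift'_fst _ _ _, hr.lift'_snd _ _ _⟩
  refine mem_J_of_open_nhds _ fun τ => ?_
  obtain ⟨U, hU, hτU, -⟩ := exists_isAffineOpen_mem_and_subset (x := r.left τ)
    (U := ⊤) trivial
  have hae : Etale (openSubι (hr.pullback E₁.v) U ≫ hr.snd E₁.v).left := by
    rw [Over.comp_left]
    infer_instance
  let E₂ : AffEt X := E₁.ofHom (openSubι (hr.pullback E₁.v) U ≫ hr.snd E₁.v) hae hU
  let a₁ : E₂ ⟶ E₁ := E₁.ofHomι _ hae hU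
  have haw : (yon S).map (openSubι (hr.pullback E₁.v) U ≫ hr.fst' E₁.v) ≫ E.v =
      (yon S).map (openSubι (hr.pullback E₁.v) U ≫ hr.snd E₁.v) ≫ E₁.v := by
    rw [Functor.map_comp, Functor.map_comp, Category.assoc, Category.assoc, sqR.w]
  let a : E₂ ⟶ E := ⟨openSubι (hr.pullback E₁.v) U ≫ hr.fst' E₁.v, haw⟩
  refine ⟨r.left ⁻¹ᵁ U, hτU, ?_⟩
  have hc : (openSubι W (r.left ⁻¹ᵁ U) ≫ n₁) ≫ C.ρ E₁ = openSubRes r U ≫ a₁.a := by
    show _ = openSubRes r U ≫ openSubι (hr.pullback E₁.v) U ≫ hr.snd E₁.v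
    rw [← Category.assoc, openSubRes_ι, Category.assoc, Category.assoc, hr2]
  have hn₂1 := (C.cart a₁).lift_fst _ _ hc
  have hn₂2 := (C.cart a₁).lift_snd _ _ hc
  refine ⟨(C.cart a₁).lift _ _ hc ≫ C.F.map a, ?_, ?_⟩
  · rw [Functor.map_comp, Category.assoc, κ_map, ← C.κ_map a₁, ← Category.assoc,
      ← Functor.map_comp, hn₂1, Functor.map_comp, Category.assoc, ← PreSec.κ_eq (C := C) ⟨E₁, n₁⟩,
      hp, Functor.map_comp, Category.assoc]
  · rw [Category.assoc, C.ρ_nat, ← Category.assoc, hn₂2]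
    show openSubRes r U ≫ openSubι (hr.pullback E₁.v) U ≫ hr.fst' E₁.v = _
    rw [← Category.assoc, openSubRes_ι, Category.assoc, hr1, Category.assoc]

/-- **The pullback property of the glued sheaf.** -/
theorem isPullback_κ (E : AffEt X) :
    IsPullback (C.κ E) ((yon S).map (C.ρ E)) C.ν E.v := by
  rw [isPullback_iff_yon]
  refine ⟨C.κ_ν E, fun T x y hxy => ?_⟩
  obtain ⟨v, rfl⟩ := (yon S).map_surjective y
  obtain ⟨Sv, hSv, hl⟩ := C.exists_cover_lift_κ x v hxy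
  have huniq : ∀ ⦃W : Over S⦄ (w : W ⟶ T) (z z' : (yon S).obj W ⟶ (yon S).obj (C.F.obj E)),
      (z ≫ C.κ E = (yon S).map w ≫ x ∧ z ≫ (yon S).map (C.ρ E) = (yon S).map (w ≫ v)) →
      (z' ≫ C.κ E = (yon S).map w ≫ x ∧ z' ≫ (yon S).map (C.ρ E) = (yon S).map (w ≫ v)) →
      z = z' := by
    intro W w z z' hz hz'
    obtain ⟨n, rfl⟩ := (yon S).map_surjective z
    obtain ⟨n', rfl⟩ := (yon S).map_surjective z'
    congr 1
    refine C.κ_injective n n' ?_ (hz.1.trans hz'.1.symm)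
    apply (yon S).map_injective
    rw [Functor.map_comp, Functor.map_comp, hz.2, hz'.2]
  obtain ⟨z, hz⟩ := exists_glue_of_unique
    (fun W w z => z ≫ C.κ E = (yon S).map w ≫ x ∧ z ≫ (yon S).map (C.ρ E) = (yon S).map (w ≫ v))
    (fun W W' w g z hz => by
      refine ⟨?_, ?_⟩
      · rw [Category.assoc, hz.1, Functor.map_comp, Category.assoc]
      · rw [Category.assoc, hz.2, ← Functor.map_comp, Category.assoc])
    huniq Sv hSv (fun W w hw => by
      obtain ⟨n, hn1, hn2⟩ := hl w hw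
      exact ⟨(yon S).map n, hn1, by rw [← Functor.map_comp, hn2]⟩)
  have hz1 : z ≫ C.κ E = x := by
    refine yon_hom_ext_of_cover _ _ Sv hSv fun W w hw => ?_
    rw [← Category.assoc]
    exact (hz w hw).1
  have hz2 : z ≫ (yon S).map (C.ρ E) = (yon S).map v := by
    refine yon_hom_ext_of_cover _ _ Sv hSv fun W w hw => ?_
    rw [← Category.assoc, (hz w hw).2, Functor.map_comp]
  refine ⟨z, ⟨hz1, hz2⟩, fun z' hz' => ?_⟩
  have := huniq (𝟙 T) z' z (by rw [hz'.1]; simp [hz'.2]) (by rw [hz1]; simp [hz2])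
  exact this

end CartFun

end Groth.Agent.Lib.Helper14.AS
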