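import Groth.Agent.Lib.Helper14.SchImg1
import Groth.Agent.Lib.Helper14.AlgSpQC
import Groth.Agent.Lib.Helper14.AlgSpRedFactor2
import Groth.Agent.Lib.Helper14.FppfLocalInst2
import Groth.Agent.Lib.Helper24.RepLocal

/-!
# The scheme theoretic image of a quasi-compact morphism of algebraic spaces (helper14)

Construction of the closed subspace which on every affine etale chart `V` is the scheme
theoretic image of `X ×_Y V ⟶ V`.
-/

universe u
open CategoryTheory CategoryTheory.Limits AlgebraicGeometry Opposite Topology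

namespace Groth.Agent.Lib.Helper14.AS

open AlgSp Groth.Agent.Lib.Helper14.AS

variable {S : Scheme.{u}}

/-- A point factors through a monomorphism as soon as it does so on flat lfp neighbourhoods of
all points. -/
theorem exists_lift_of_pointwise {Z Y : Sp S} (i : Z ⟶ Y) [Mono i] {T : Over S}
    (g : (yon S).obj T ⟶ Y)
    (H : ∀ x : T.left, ∃ (W : Over S) (w : W ⟶ T), Flat w.left ∧
      LocallyOfFinitePresentation w.left ∧ x ∈ Set.range w.left ∧
      ∃ l : (yon S).obj W ⟶ Z, l ≫ i = (yon S).map w ≫ g) :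
    ∃ l : (yon S).obj T ⟶ Z, l ≫ i = g := by
  choose W w h1 h2 h3 h4 using H
  refine exists_lift_of_cover i g (Presieve.ofArrows W w)
    (ofArrows_mem_KS W w (fun x => ⟨h1 x, h2 x⟩) (fun x => ⟨x, h3 x⟩)) ?_
  rintro _ _ ⟨x⟩
  exact h4 x

set_option backward.isDefEq.respectTransparency.types false in
/-- An affine etale chart of an algebraic space around a point of a scheme mapping to it. -/
theorem exists_affine_chart_at {Y : Sp S} (hY : IsAlgSpace Y) {T : Over S}
    (g₀ : (yon S).obj T ⟶ Y) (x : T.left) :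
    ∃ (W V₀ : Over S) (_ : IsAffine V₀.left) (w : W ⟶ T) (t₀ : W ⟶ V₀)
      (b₀ : (yon S).obj V₀ ⟶ Y), RepWith @Etale b₀ ∧ Etale w.left ∧ x ∈ Set.range w.left ∧
        (yon S).map w ≫ g₀ = (yon S).map t₀ ≫ b₀ := by
  obtain ⟨Y₀, p, hpe, hps⟩ := hY.atlas
  let pK := hpe.rep.snd g₀
  let qP := hpe.rep.fst' g₀
  have sqP : IsPullback ((yon S).map qP) ((yon S).map pK) p g₀ := hpe.rep.isPullback' g₀
  have hpKet : Etale pK.left := hpe.property_snd g₀
  have hpKsurj : Surjective pK.left := hps.property _ _ _ sqP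
  obtain ⟨y₀, hy₀⟩ := hpKsurj.surj x
  obtain ⟨V₀', hV₀', hyV₀', -⟩ := exists_isAffineOpen_mem_and_subset (x := qP.left y₀)
    (U := (⊤ : Y₀.left.Opens)) trivial
  let W' : (hpe.rep.pullback g₀).left.Opens := qP.left ⁻¹ᵁ V₀'
  have hrange : Set.range ((openSubι _ W').left ≫ qP.left) ⊆ Set.range (openSubι Y₀ V₀').left := by
    rintro _ ⟨z, rfl⟩
    rw [range_openSubι]
    exact z.2
  let t₀' : (openSub _ W').left ⟶ (openSub Y₀ V₀').left :=
    IsOpenImmersion.lift (openSubι Y₀ V₀').left ((openSubι _ W').left ≫ qP.left) hrange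
  have ht₀' : t₀' ≫ (openSubι Y₀ V₀').left = (openSubι _ W').left ≫ qP.left :=
    IsOpenImmersion.lift_fac _ _ _
  let t₀ : openSub _ W' ⟶ openSub Y₀ V₀' := Over.homMk t₀' (by
    rw [← Over.w (openSubι Y₀ V₀'), ← Category.assoc, ht₀', Category.assoc, Over.w, Over.w])
  have ht₀ : t₀ ≫ openSubι Y₀ V₀' = openSubι _ W' ≫ qP := by
    apply Over.OverMorphism.ext
    exact ht₀'
  refine ⟨openSub _ W', openSub Y₀ V₀', hV₀', openSubι _ W' ≫ pK, t₀,
    (yon S).map (openSubι Y₀ V₀') ≫ p, repWith_etale_restrict hpe V₀', ?_, ?_, ?_⟩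
  · change Etale ((openSubι _ W').left ≫ pK.left)
    infer_instance
  · refine ⟨⟨y₀, hyV₀'⟩, ?_⟩
    rw [Over.comp_left, Scheme.Hom.comp_apply]
    exact hy₀
  · rw [Functor.map_comp, Category.assoc, ← sqP.w, ← Category.assoc, ← Functor.map_comp, ← ht₀,
      Functor.map_comp, Category.assoc]

/-- The predicate cutting out the scheme theoretic image of a quasi-compact morphism. -/
noncomputable def qcImgPred {X Y : Sp S} (f : X ⟶ Y) : SubPred Y where
  P T g := ∀ (V : Over S) (_ : IsAffine V.left) (b : (yon S).obj V ⟶ Y), RepWith @Etale b →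
    ∀ (T' : Over S) (t : T' ⟶ T) (v : T' ⟶ V), (yon S).map t ≫ g = (yon S).map v ≫ b →
      imgKer f b ≤ v.left.ker
  comp T T' s g h V hV b hb T'' t v hv :=
    h V hV b hb T'' (t ≫ s) v (by rw [Functor.map_comp, Category.assoc, hv])
  loc T g R hR h V hV b hb T' t v hv := by
    refine le_ker_of_locally _ v (Sieve.pullback t (Sieve.generate R))
      ((AlgSp.J S).pullback_stable t ((mem_J_iff _).2 ⟨R, hR, Sieve.le_generate R⟩)) ?_
    rintro W w ⟨W', a, r, hr, har⟩
    exact h r hr V hV b hb W a (w ≫ v) (by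
      rw [← Functor.map_comp_assoc, har, Functor.map_comp_assoc, hv, Functor.map_comp_assoc])

theorem qcImgPred_iff {X Y : Sp S} {f : X ⟶ Y} (hq : IsQuasiCompactMor f) {V₀ : Over S}
    [IsAffine V₀.left] (b₀ : (yon S).obj V₀ ⟶ Y) (hb₀ : RepWith @Etale b₀) {T : Over S}
    (t₀ : T ⟶ V₀) :
    (qcImgPred f).P ((yon S).map t₀ ≫ b₀) ↔ imgKer f b₀ ≤ t₀.left.ker := by
  constructor
  · intro h
    exact h V₀ inferInstance b₀ hb₀ T (𝟙 T) t₀ (by rw [CategoryTheory.Functor.map_id, Category.id_comp])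
  · intro h V hV b hb T' t v hv
    obtain ⟨c₀, hc₀⟩ := exists_imgChart_of_qc hq b₀
    obtain ⟨c, hc⟩ := exists_imgChart_of_qc hq b
    exact (imgKer_le_iff_of_etale f hb₀ hb c₀ c (t ≫ t₀) v
      (by rw [Functor.map_comp, Category.assoc, hv])).1 (imgKer_le_comp f b₀ t t₀ h)

theorem qcImgPred_of_factors {X Y : Sp S} (f : X ⟶ Y) {T : Over S} (x : (yon S).obj T ⟶ X) :
    (qcImgPred f).P (x ≫ f) := by
  intro V hV b hb T' t v hv
  exact imgKer_le f b v ((yon S).map t ≫ x) (by rw [Category.assoc, hv])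

set_option backward.isDefEq.respectTransparency.types false in
/-- The subsheaf cut out by `qcImgPred` is a closed subspace. -/
theorem qcImgPred_repWith {X Y : Sp S} (hY : IsAlgSpace Y) {f : X ⟶ Y}
    (hq : IsQuasiCompactMor f) : RepWith @IsClosedImmersion (qcImgPred f).ι := by
  refine Groth.Agent.Lib.Helper24.RepLocal.repWith_of_locally @IsClosedImmersion
    (fun X Y f hf => ⟨inferInstance, inferInstance, inferInstance⟩) _ ?_
  intro T g₀ x
  obtain ⟨W, V₀, hV₀, w, t₀, b₀, hb₀, hwe, hxw, hcomm⟩ := exists_affine_chart_at hY g₀ x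
  have sqc := IsPullback.of_hasPullback (subOverι (imgKer f b₀)) t₀
  have hc : IsClosedImmersion (pullback.snd (subOverι (imgKer f b₀)) t₀).left :=
    MorphismProperty.of_isPullback (P := @IsClosedImmersion) (sqc.map (Over.forget S))
      (inferInstanceAs (IsClosedImmersion (subOverι (imgKer f b₀)).left))
  obtain ⟨fst, sq⟩ := (qcImgPred f).exists_isPullback ((yon S).map w ≫ g₀)
    (pullback.snd (subOverι (imgKer f b₀)) t₀) (fun T' t => by
      rw [hcomm, ← Category.assoc, ← Functor.map_comp, qcImgPred_iff hq b₀ hb₀ (t ≫ t₀),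
        le_ker_iff_factors]
      constructor
      · rintro ⟨l, hl⟩
        exact ⟨pullback.lift l t hl, pullback.lift_snd _ _ _⟩
      · rintro ⟨w', rfl⟩
        exact ⟨w' ≫ pullback.fst _ _, by rw [Category.assoc, pullback.condition, Category.assoc]⟩)
  exact ⟨W, _, w, _, fst, sq, inferInstance, inferInstance, hxw, hc⟩

end Groth.Agent.Lib.Helper14.AS
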