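import Mathlib
import Groth.Prelude.Def_AlgSpInf
import Groth.Agent.Lib.Helper14.EffCart3
import Groth.Agent.Lib.Helper14.SchImg2
import Groth.Agent.Lib.Helper14.Norm5c
import Groth.Agent.Lib.Helper1.IdealSheafComap

/-!
# First order infinitesimal neighbourhoods (helper14)
-/

set_option autoImplicit false
universe u
open CategoryTheory CategoryTheory.Limits AlgebraicGeometry Opposite Topology

namespace Groth.Agent.Lib.Helper14.AS

open AlgSp Groth.Agent.Lib.Helper14.AS

variable {S : Scheme.{u}}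

/-- Containment of ideal sheaves can be checked after pulling back along an fppf covering. -/
theorem idealSheaf_le_of_locally {T : Over S} (K₁ K₂ : T.left.IdealSheafData)
    (R : Sieve T) (hR : R ∈ AlgSp.J S T)
    (h : ∀ ⦃W : Over S⦄ (w : W ⟶ T), R w → K₁.comap w.left ≤ K₂.comap w.left) : K₁ ≤ K₂ := by
  have e : K₂ = (subOverι K₂).left.ker := (Scheme.IdealSheafData.ker_subschemeι K₂).symm
  rw [e]
  refine le_ker_of_locally K₁ (subOverι K₂) (Sieve.pullback (subOverι K₂) R)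
    ((AlgSp.J S).pullback_stable _ hR) fun W w hw => ?_
  have h1 := h (w ≫ subOverι K₂) hw
  rw [← Scheme.IdealSheafData.map_bot, Scheme.IdealSheafData.le_map_iff_comap_le]
  refine h1.trans ?_
  rw [← Scheme.IdealSheafData.le_map_iff_comap_le, Scheme.IdealSheafData.map_bot, Over.comp_left]
  conv_lhs => rw [e]
  exact Scheme.Hom.le_ker_comp _ _

theorem idealSheaf_eq_of_locally {T : Over S} (K₁ K₂ : T.left.IdealSheafData)
    (R : Sieve T) (hR : R ∈ AlgSp.J S T)
    (h : ∀ ⦃W : Over S⦄ (w : W ⟶ T), R w → K₁.comap w.left = K₂.comap w.left) : K₁ = K₂ :=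
  le_antisymm (idealSheaf_le_of_locally K₁ K₂ R hR fun _ w hw => (h w hw).le)
    (idealSheaf_le_of_locally K₂ K₁ R hR fun _ w hw => (h w hw).ge)

/-- The sieve of maps to `T` over which `g : T ⟶ U` lifts to an affine etale chart of `U`. -/
def chartSieve {U : Sp S} {T : Over S} (g : (yon S).obj T ⟶ U) : Sieve T where
  arrows W w := ∃ (V : Over S) (_ : IsAffine V.left) (t₀ : W ⟶ V) (b₀ : (yon S).obj V ⟶ U),
    RepWith @Etale b₀ ∧ (yon S).map w ≫ g = (yon S).map t₀ ≫ b₀
  downward_closed := by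
    rintro W W' w ⟨V, hV, t₀, b₀, hb₀, hc⟩ s
    exact ⟨V, hV, s ≫ t₀, b₀, hb₀, by
      rw [Functor.map_comp, Category.assoc, hc, Functor.map_comp, Category.assoc]⟩

theorem chartSieve_mem {U : Sp S} (hU : IsAlgSpace U) {T : Over S} (g : (yon S).obj T ⟶ U) :
    chartSieve g ∈ AlgSp.J S T := by
  refine mem_J_of_pointwise _ fun τ => ?_
  obtain ⟨W, V₀, hV₀, w, t₀, b₀, hb₀, hwe, hxw, hcomm⟩ := exists_affine_chart_at hU g τ
  exact ⟨W, w, inferInstance, inferInstance, hxw, V₀, hV₀, t₀, b₀, hb₀, hcomm⟩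

/-- If the ideal of `k` is the square of the ideal of `c` on affine etale charts, it is so on
all points. -/
theorem kerOf_eq_sq {Z Z₁ U : Sp S} (hU : IsAlgSpace U) {c : Z ⟶ U} {k : Z₁ ⟶ U}
    (hc : RepWith @IsClosedImmersion c) (hk : RepWith @IsClosedImmersion k)
    (hN : ∀ ⦃V : Over S⦄ (b : (yon S).obj V ⟶ U), IsAffine V.left → RepWith @Etale b →
      kerOf hk b = kerOf hc b * kerOf hc b)
    {T : Over S} (g : (yon S).obj T ⟶ U) : kerOf hk g = kerOf hc g * kerOf hc g := by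
  refine idealSheaf_eq_of_locally _ _ (chartSieve g) (chartSieve_mem hU g) ?_
  rintro W w ⟨V, hV, t₀, b₀, hb₀, hcomm⟩
  rw [Groth.Agent.Lib.Helper1.comap_mul, ← kerOf_comp' hk g w, ← kerOf_comp' hc g w, hcomm,
    kerOf_comp' hk b₀ t₀, kerOf_comp' hc b₀ t₀, hN b₀ hV hb₀,
    Groth.Agent.Lib.Helper1.comap_mul]

/-- A closed immersion with square zero ideal is surjective. -/
theorem surjective_of_ker_mul_self_eq_bot {P T : Scheme.{u}} (s : P ⟶ T) [IsClosedImmersion s]
    (h : s.ker * s.ker = ⊥) : Surjective s := by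
  have h1 : (s.ker * s.ker).support = s.ker.support := by
    rw [Scheme.IdealSheafData.support_mul, sup_idem]
  rw [h, Scheme.IdealSheafData.support_bot] at h1
  have h2 := s.support_ker
  rw [← h1, s.isClosedEmbedding.isClosed_range.closure_eq] at h2
  refine ⟨fun t => ?_⟩
  have : t ∈ ((⊤ : TopologicalSpace.Closeds T) : Set T) := trivial
  rw [h2] at this
  exact this

/-- The algebraic heart: if `s : P ⟶ W` has square zero ideal and `s ≫ h` kills `I`, then `h`
kills `I * I`. -/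
theorem mul_self_le_ker {P W V : Scheme.{u}} [IsAffine V] [IsAffine W] (s : P ⟶ W)
    [QuasiCompact s] (h : W ⟶ V) (I : V.IdealSheafData) (hI : I ≤ (s ≫ h).ker)
    (hs : s.ker * s.ker = ⊥) : I * I ≤ h.ker := by
  apply Scheme.IdealSheafData.le_of_isAffine
  rw [Scheme.IdealSheafData.ideal_mul, Pi.mul_apply, Scheme.Hom.ker_apply, Ideal.mul_le]
  intro a ha b hb
  rw [RingHom.mem_ker, map_mul]
  have hW : IsAffineOpen (h ⁻¹ᵁ (⊤ : V.Opens)) := isAffineOpen_top W
  have key : ∀ x ∈ I.ideal ⟨⊤, isAffineOpen_top V⟩,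
      (h.app ⊤).hom x ∈ s.ker.ideal ⟨h ⁻¹ᵁ ⊤, hW⟩ := by
    intro x hx
    rw [Scheme.Hom.ker_apply, RingHom.mem_ker]
    have := (s ≫ h).ideal_ker_le _ (hI _ hx)
    rw [RingHom.mem_ker, Scheme.Hom.comp_app] at this
    exact this
  have h3 : (h.app ⊤).hom a * (h.app ⊤).hom b ∈ (s.ker * s.ker).ideal ⟨h ⁻¹ᵁ ⊤, hW⟩ := by
    rw [Scheme.IdealSheafData.ideal_mul, Pi.mul_apply]
    exact Ideal.mul_mem_mul (key a ha) (key b hb)
  rw [hs] at h3
  exact h3

end Groth.Agent.Lib.Helper14.AS
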