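import Mathlib
import Groth.Agent.Lib.Helper14.InfNbhd1
import Groth.Agent.Lib.Helper14.Glue3

/-!
# The first order infinitesimal neighbourhood is a universal first order thickening (helper14)
-/

set_option autoImplicit false
universe u
open CategoryTheory CategoryTheory.Limits AlgebraicGeometry Opposite Topology

namespace Groth.Agent.Lib.Helper14.AS

open AlgSp Groth.Agent.Lib.Helper14.AS

variable {S : Scheme.{u}}

theorem isPullback_of_mono' {A B C : Sp S} (k : B ⟶ C) [Mono k] (g : A ⟶ B) :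
    IsPullback g (𝟙 A) k (g ≫ k) := by
  have s1 : IsPullback (𝟙 B) (𝟙 B) k k := IsKernelPair.id_of_mono k
  have s2 : IsPullback g (𝟙 A) (𝟙 B) g := IsPullback.of_vert_isIso ⟨by simp⟩
  have := s2.paste_horiz s1
  rwa [Category.comp_id] at this

theorem kerOf_comp_mono_eq_bot {Z₁ U : Sp S} {k : Z₁ ⟶ U} (hk : RepWith @IsClosedImmersion k)
    [Mono k] {T : Over S} (g : (yon S).obj T ⟶ Z₁) : kerOf hk (g ≫ k) = ⊥ := by
  have sq := isPullback_of_mono' k g
  rw [← CategoryTheory.Functor.map_id (yon S) T] at sq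
  rw [kerOf, ker_eq_of_isPullback (hk.rep.isPullback (g ≫ k)) sq]
  have : IsIso (𝟙 T : T ⟶ T).left := by rw [Over.id_left]; infer_instance
  exact Scheme.Hom.ker_eq_bot_of_isIso _

section

variable {Z U X Z₁ : Sp S} (hU : IsAlgSpace U) {c : Z ⟶ U} {u : U ⟶ X} {j : Z ⟶ Z₁} {k : Z₁ ⟶ U}

include hU in
set_option backward.isDefEq.respectTransparency.types false in
theorem isFOThickMor_of_isInfNbhd (hN : IsInfNbhd 1 c j k) : IsFOThickMor j := by
  obtain ⟨hjk, hc, hk, hker⟩ := hN
  have hmk : Mono k := mono_of_repWith_isClosedImmersion hk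
  have hN' : ∀ ⦃V : Over S⦄ (b : (yon S).obj V ⟶ U), IsAffine V.left → RepWith @Etale b →
      kerOf hk b = kerOf hc b * kerOf hc b := by
    intro V b hV hb
    have := hker b (hc.rep.fst b) (hc.rep.snd b) (hk.rep.fst b) (hk.rep.snd b) hV hb
      (hc.rep.isPullback b) (hk.rep.isPullback b)
    rw [kerOf, this]
    exact pow_two _
  have sqj : IsPullback (𝟙 Z) j c k := by
    have := (isPullback_of_mono' k j).flip
    rwa [hjk] at this
  have hj : RepWith @IsClosedImmersion j := repWith_of_isPullback _ sqj hc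
  have hsq : ∀ (T : Over S) (g : (yon S).obj T ⟶ Z₁), kerOf hj g * kerOf hj g = ⊥ := by
    intro T g
    rw [kerOf_of_isPullback sqj hc hj g, ← kerOf_eq_sq hU hc hk hN' (g ≫ k)]
    exact kerOf_comp_mono_eq_bot hk g
  refine ⟨?_, ?_⟩
  · refine MorphismProperty.relative_of_snd hj.rep fun T g => ?_
    have hci : IsClosedImmersion (hj.rep.snd g).left := hj.property_snd g
    change thick (hj.rep.snd g).left
    exact ⟨hci, surjective_of_ker_mul_self_eq_bot (hj.rep.snd g).left (hsq T g)⟩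
  · intro V W b fst snd hV hb sq
    change snd.left.ker * snd.left.ker = ⊥
    rw [ker_eq_of_isPullback sq (hj.rep.isPullback b)]
    exact hsq V b

include hU in
set_option backward.isDefEq.respectTransparency.types false in
/-- Affine étale charts of a first order thickening lift to the first order neighbourhood. -/
theorem exists_lift_chart_of_isInfNbhd (hN : IsInfNbhd 1 c j k) {T T' : Sp S}
    (jT : T ⟶ T') (hjT : IsFOThickMor jT) (a : T ⟶ Z) (b₁ : T' ⟶ U) (comm : jT ≫ b₁ = a ≫ c)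
    {V' : Over S} (b' : (yon S).obj V' ⟶ T') (hb' : RepWith @Etale b') :
    ∃ l : (yon S).obj V' ⟶ Z₁, l ≫ k = b' ≫ b₁ := by
  obtain ⟨hjk, hc, hk, hker⟩ := hN
  have hmk : Mono k := mono_of_repWith_isClosedImmersion hk
  have hN' : ∀ ⦃V : Over S⦄ (b : (yon S).obj V ⟶ U), IsAffine V.left → RepWith @Etale b →
      kerOf hk b = kerOf hc b * kerOf hc b := by
    intro V b hV hb
    have := hker b (hc.rep.fst b) (hc.rep.snd b) (hk.rep.fst b) (hk.rep.snd b) hV hb
      (hc.rep.isPullback b) (hk.rep.isPullback b)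
    rw [kerOf, this]
    exact pow_two _
  refine exists_lift_of_pointwise k (b' ≫ b₁) fun v' => ?_
  obtain ⟨W₂, V, hV, w₂, t₂, b₀, hb₀, hw₂e, hv'w₂, hcomm⟩ := exists_affine_chart_at hU (b' ≫ b₁) v'
  obtain ⟨y, hy⟩ := hv'w₂
  obtain ⟨O, hO, hyO, -⟩ := exists_isAffineOpen_mem_and_subset (x := y)
    (U := (⊤ : W₂.left.Opens)) trivial
  let Wa : Over S := openSub W₂ O
  have hWa : IsAffine Wa.left := hO
  let w₃ : Wa ⟶ V' := openSubι W₂ O ≫ w₂
  let t₃ : Wa ⟶ V := openSubι W₂ O ≫ t₂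
  have hw₃e : Etale w₃.left := by
    change Etale ((openSubι W₂ O).left ≫ w₂.left)
    infer_instance
  have hcomm₃ : (yon S).map w₃ ≫ b' ≫ b₁ = (yon S).map t₃ ≫ b₀ := by
    rw [Functor.map_comp, Functor.map_comp, Category.assoc, Category.assoc, hcomm]
  -- the chart of `T'`
  let β : (yon S).obj Wa ⟶ T' := (yon S).map w₃ ≫ b'
  have hβ : RepWith @Etale β := repWith_comp _ ((repWith_yon_map_iff _ _).2 hw₃e) hb'
  let sndP := hjT.1.rep.snd β
  let fstP := hjT.1.rep.fst β
  have sqP : IsPullback fstP ((yon S).map sndP) jT β := hjT.1.rep.isPullback β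
  have hP0 : sndP.left.ker * sndP.left.ker = ⊥ := hjT.2 β fstP sndP hWa hβ sqP
  have hPc : IsClosedImmersion sndP.left := (hjT.1.property_snd β).1
  -- the pullback of `c` to `V`
  have sqc := hc.rep.isPullback b₀
  have e1 : (fstP ≫ a) ≫ c = (yon S).map (sndP ≫ t₃) ≫ b₀ := by
    rw [Category.assoc, ← comm, ← Category.assoc, sqP.w, Functor.map_comp]
    simp only [Category.assoc, β]
    rw [hcomm₃]
  obtain ⟨ℓ₀, hℓ₀⟩ := (yon S).map_surjective (sqc.lift (fstP ≫ a) ((yon S).map (sndP ≫ t₃)) e1)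
  have hℓ : ℓ₀ ≫ hc.rep.snd b₀ = sndP ≫ t₃ := by
    apply (yon S).map_injective
    rw [Functor.map_comp, hℓ₀, sqc.lift_snd]
  have h1 : kerOf hc b₀ ≤ (sndP.left ≫ t₃.left).ker := by
    have := congrArg (fun f => f.left) hℓ
    simp only [Over.comp_left] at this
    rw [← this]
    exact Scheme.Hom.le_ker_comp _ _
  have h2 : kerOf hk b₀ ≤ t₃.left.ker := by
    rw [hN' b₀ hV hb₀]
    exact mul_self_le_ker sndP.left t₃.left _ h1 hP0
  obtain ⟨fstK, sqK⟩ := exists_isPullback_subOver hk b₀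
  obtain ⟨l, hl⟩ := (le_ker_iff_factors _ _).1 h2
  refine ⟨Wa, w₃, inferInstance, inferInstance, ⟨⟨y, hyO⟩, ?_⟩, (yon S).map l ≫ fstK, ?_⟩
  · rw [Over.comp_left, Scheme.Hom.comp_apply]
    exact hy
  · rw [Category.assoc, sqK.w, ← Category.assoc, ← Functor.map_comp, hl, ← hcomm₃]

include hU in
set_option backward.isDefEq.respectTransparency.types false in
theorem isUnivFOThick_of_isInfNbhd (hu : RepWith @IsOpenImmersion u) (hN : IsInfNbhd 1 c j k) :
    IsUnivFOThick (c ≫ u) j (k ≫ u) := by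
  have hjk : j ≫ k = c := hN.1
  have hk : RepWith @IsClosedImmersion k := hN.2.2.1
  have hmk : Mono k := mono_of_repWith_isClosedImmersion hk
  have hmu : Mono u := mono_of_openImmersion hu
  refine ⟨isFOThickMor_of_isInfNbhd hU hN, by rw [← Category.assoc, hjk], ?_⟩
  intro T T' hT hT' jT a b hjT comm
  have hjTs : RepWith @Surjective jT := repWith_mono (fun _ _ _ h => h.2) hjT.1
  -- factor through the open `U`
  obtain ⟨b₁, hb₁⟩ : ∃ b₁ : T' ⟶ U, b₁ ≫ u = b := by
    refine exists_lift_of_points u b fun T₀ x => exists_lift_of_pointwise u (x ≫ b) fun τ => ?_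
    refine exists_lift_at_point_of_openImmersion u hu (x ≫ b) τ ?_
    obtain ⟨y₀, hy₀⟩ := points_map_surjective_of_repWith hjTs (Points.ofPt x τ)
    refine ⟨Points.map (a ≫ c) y₀, ?_⟩
    rw [← Points.map_comp, Category.assoc, ← comm, Points.map_comp, hy₀, Points.map_ofPt]
  have comm₁ : jT ≫ b₁ = a ≫ c := by
    rw [← cancel_mono u, Category.assoc, hb₁, comm, Category.assoc]
  -- factor through the closed `Z₁`
  obtain ⟨a', ha'⟩ : ∃ a' : T' ⟶ Z₁, a' ≫ k = b₁ := by
    refine exists_lift_of_points k b₁ fun T₀ x => exists_lift_of_pointwise k (x ≫ b₁) fun τ => ?_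
    obtain ⟨W, V', hV', w, t₀, b', hb', hwe, hτw, hcomm⟩ := exists_affine_chart_at hT' x τ
    obtain ⟨l, hl⟩ := exists_lift_chart_of_isInfNbhd hU hN jT hjT a b₁ comm₁ b' hb'
    refine ⟨W, w, inferInstance, inferInstance, hτw, (yon S).map t₀ ≫ l, ?_⟩
    rw [Category.assoc, hl, ← Category.assoc, ← hcomm, Category.assoc]
  have hmku : Mono (k ≫ u) := mono_comp k u
  refine ⟨a', ⟨?_, by rw [← Category.assoc, ha', hb₁]⟩, ?_⟩
  · rw [← cancel_mono (k ≫ u), Category.assoc, ← Category.assoc a' k u, ha', hb₁, comm,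
      Category.assoc, ← Category.assoc j k u, hjk]
  · rintro a'' ⟨-, h2⟩
    rw [← cancel_mono (k ≫ u), h2, ← Category.assoc, ha', hb₁]

end

end Groth.Agent.Lib.Helper14.AS
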