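import Groth.Prelude.Def_AlgSp
import Mathlib.CategoryTheory.Sites.LocallySurjective
import Mathlib.CategoryTheory.MorphismProperty.Local
import Mathlib.AlgebraicGeometry.Morphisms.Flat
import Mathlib.AlgebraicGeometry.Morphisms.FinitePresentation

/-!
# Base library for the `AlgSp` family (helper14)

Namespace `Groth.Agent.Lib.Helper14.AS`.
-/

universe u
open CategoryTheory CategoryTheory.Limits AlgebraicGeometry Opposite

namespace Groth.Agent.Lib.Helper14.AS

open AlgSp

variable {S : Scheme.{u}}

instance fppf_hasIsos : Precoverage.HasIsos (Scheme.fppfPrecoverage.{u}) where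
  mem_coverings_of_isIso f _ := Scheme.Hom.singleton_mem_fppfPrecoverage f

/-- The fppf precoverage on `Over S`. -/
abbrev KS (S : Scheme.{u}) : Precoverage (Over S) :=
  (Scheme.fppfPrecoverage.{u}).comap (Over.forget S)

theorem J_eq_toGrothendieck (S : Scheme.{u}) : AlgSp.J S = (KS S).toGrothendieck :=
  over_toGrothendieck_eq_toGrothendieck_comap_forget _ S

/-- A sieve on `U : Over S` is fppf covering iff it contains an fppf covering family. -/
theorem mem_J_iff {U : Over S} (R : Sieve U) :
    R ∈ AlgSp.J S U ↔ ∃ R' ∈ KS S U, R' ≤ R.arrows := by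
  rw [J_eq_toGrothendieck]
  exact Precoverage.mem_toGrothendieck_iff_of_isStableUnderComposition

theorem singleton_mem_KS {V U : Over S} (g : V ⟶ U) [Flat g.left] [Surjective g.left]
    [LocallyOfFinitePresentation g.left] : Presieve.singleton g ∈ KS S U := by
  rw [Precoverage.mem_comap_iff, Presieve.map_singleton]
  exact Scheme.Hom.singleton_mem_fppfPrecoverage g.left

theorem generate_singleton_mem_J {V U : Over S} (g : V ⟶ U) [Flat g.left] [Surjective g.left]
    [LocallyOfFinitePresentation g.left] :
    Sieve.generate (Presieve.singleton g) ∈ AlgSp.J S U := by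
  rw [J_eq_toGrothendieck]
  exact Precoverage.generate_mem_toGrothendieck (singleton_mem_KS g)

/-- Sections of a sheaf over `U` as maps out of `h_U`. -/
noncomputable abbrev yEquiv {U : Over S} {F : Sp S} : ((yon S).obj U ⟶ F) ≃ F.obj.obj (op U) :=
  (AlgSp.J S).uliftYonedaEquiv

/-- A representable, flat, locally finitely presented, surjective morphism of sheaves is locally
surjective. -/
theorem isLocallySurjective_of_repWith {F G : Sp S} (a : F ⟶ G)
    (h₁ : RepWith @Flat a) (h₂ : RepWith @LocallyOfFinitePresentation a)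
    (h₃ : RepWith @Surjective a) : Sheaf.IsLocallySurjective a := by
  constructor
  intro U x
  let g : (yon S).obj U ⟶ G := yEquiv.symm x
  have hr := h₁.rep
  have i1 : Flat (hr.snd g).left := h₁.property_snd g
  have i2 : LocallyOfFinitePresentation (hr.snd g).left :=
    h₂.property g _ _ (hr.isPullback g)
  have i3 : Surjective (hr.snd g).left := h₃.property g _ _ (hr.isPullback g)
  refine (AlgSp.J S).superset_covering ?_ (generate_singleton_mem_J (hr.snd g))
  rw [Sieve.generate_le_iff]
  rintro _ _ ⟨⟩
  refine ⟨yEquiv (hr.fst g), ?_⟩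
  have h1 := (AlgSp.J S).uliftYonedaEquiv_comp (hr.fst g) a
  have h2 := (AlgSp.J S).uliftYonedaEquiv_naturality g (hr.snd g)
  rw [hr.w g] at h1
  rw [← h2] at h1
  simpa [g] using h1.symm

/-- If `b : H ⟶ G` is locally surjective, any `g : h_U ⟶ G` lifts to `H` fppf locally on `U`. -/
theorem exists_cover_lift {H G : Sp S} (b : H ⟶ G) [Sheaf.IsLocallySurjective b] {U : Over S}
    (g : (yon S).obj U ⟶ G) :
    ∃ R ∈ KS S U, ∀ ⦃W : Over S⦄ (w : W ⟶ U), R w →
      ∃ l : (yon S).obj W ⟶ H, l ≫ b = (yon S).map w ≫ g := by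
  have := Presheaf.imageSieve_mem (AlgSp.J S) b.hom (U := op U) (yEquiv g)
  obtain ⟨R, hR, hle⟩ := (mem_J_iff _).1 this
  refine ⟨R, hR, fun W w hw => ?_⟩
  obtain ⟨t, ht⟩ := hle _ _ hw
  refine ⟨yEquiv.symm t, ?_⟩
  apply yEquiv.injective
  have h1 := (AlgSp.J S).uliftYonedaEquiv_comp (yEquiv.symm t) b
  have h2 := (AlgSp.J S).uliftYonedaEquiv_naturality g w
  rw [Equiv.apply_symm_apply] at h1
  exact h1.trans (ht.trans h2)

theorem P_pullback_snd_of_isPullback {C : Type*} [Category C] {P : MorphismProperty C}
    [P.RespectsIso] {X Y Z W : C} {f : X ⟶ Z} {g : Y ⟶ Z} [HasPullback f g] {fst : W ⟶ X}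
    {snd : W ⟶ Y} (sq : IsPullback fst snd f g) (h : P snd) : P (pullback.snd f g) := by
  rw [← sq.isoPullback_inv_snd]
  exact (P.cancel_left_of_respectsIso sq.isoPullback.inv _).2 h

/-- Locality on the target, phrased in `Over S`. -/
theorem P_of_cover {P : MorphismProperty Scheme.{u}} [P.IsLocalAtTarget Scheme.fppfPrecoverage]
    {V U : Over S} (f : V ⟶ U) {R : Presieve U} (hR : R ∈ KS S U)
    (h : ∀ ⦃W : Over S⦄ (w : W ⟶ U), R w → ∃ (V' : Over S) (fst : V' ⟶ V) (snd : V' ⟶ W),
      IsPullback fst snd f w ∧ P snd.left) : P f.left := by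
  rw [Precoverage.mem_comap_iff] at hR
  refine MorphismProperty.IsLocalAtTarget.of_forall_pullbackSnd (K := Scheme.fppfPrecoverage) hR ?_
  rintro W0 w0 _ ⟨hw⟩
  obtain ⟨V', fst, snd, sq, hP⟩ := h _ hw
  exact P_pullback_snd_of_isPullback (sq.map (Over.forget S)) hP

/-- Descent of `RepWith P` along a locally surjective base change (`P` fppf local on the target). -/
theorem repWith_of_isLocallySurjective_base {F G H Q : Sp S} {a : F ⟶ G} (ha : Representable a)
    (b : H ⟶ G) [Sheaf.IsLocallySurjective b] {b' : Q ⟶ F} {a' : Q ⟶ H}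
    (sq : IsPullback b' a' a b) (P : MorphismProperty Scheme.{u}) [P.IsStableUnderBaseChange]
    [P.IsLocalAtTarget Scheme.fppfPrecoverage] (h : RepWith P a') : RepWith P a := by
  refine MorphismProperty.relative_of_snd ha fun U g => ?_
  change P (ha.snd g).left
  obtain ⟨R, hR, hl⟩ := exists_cover_lift b g
  refine P_of_cover (ha.snd g) hR fun W w hw => ?_
  obtain ⟨l, hl⟩ := hl w hw
  refine ⟨pullback (ha.snd g) w, pullback.fst _ _, pullback.snd _ _,
    IsPullback.of_hasPullback _ _, ?_⟩
  have sq1 : IsPullback ((yon S).map (pullback.fst (ha.snd g) w))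
      ((yon S).map (pullback.snd (ha.snd g) w)) ((yon S).map (ha.snd g)) ((yon S).map w) :=
    (IsPullback.of_hasPullback _ _).map (yon S)
  have big := sq1.paste_horiz (ha.isPullback g)
  rw [← hl] at big
  have hw' : ((yon S).map (pullback.fst (ha.snd g) w) ≫ ha.fst g) ≫ a =
      ((yon S).map (pullback.snd (ha.snd g) w) ≫ l) ≫ b := by
    rw [big.w, Category.assoc]
  have key := IsPullback.of_right (h₁₁ := sq.lift _ _ hw') (by simpa using big) (by simp) sq
  exact h.property l _ _ key

theorem repWith_mono {P Q : MorphismProperty Scheme.{u}} (hPQ : P ≤ Q) {F G : Sp S} {f : F ⟶ G}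
    (h : RepWith P f) : RepWith Q f :=
  MorphismProperty.relative_monotone (fun _ _ _ hf => hPQ _ hf) _ h

theorem etale_le_flat : (@Etale : MorphismProperty Scheme.{u}) ≤ @Flat :=
  fun _ _ _ h => by have := h; infer_instance

theorem etale_le_lfp : (@Etale : MorphismProperty Scheme.{u}) ≤ @LocallyOfFinitePresentation :=
  fun _ _ _ h => by have := h; infer_instance

/-- A representable etale surjective morphism is locally surjective (an epimorphism of sheaves). -/
theorem isLocallySurjective_of_etale_surjective {F G : Sp S} (q : F ⟶ G)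
    (hqe : RepWith @Etale q) (hqs : RepWith @Surjective q) : Sheaf.IsLocallySurjective q :=
  isLocallySurjective_of_repWith q (repWith_mono etale_le_flat hqe)
    (repWith_mono etale_le_lfp hqe) hqs

/-- Chart criterion: `RepWith P f` can be checked after base change along an etale surjective
(more generally, locally surjective) chart. -/
theorem repWith_iff_of_chart {X Y : Sp S} {f : Y ⟶ X} (hf : Representable f) {U V : Over S}
    (q : (yon S).obj U ⟶ X) [Sheaf.IsLocallySurjective q]
    {fst : (yon S).obj V ⟶ Y} {g : V ⟶ U} (sq : IsPullback fst ((yon S).map g) f q)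
    (P : MorphismProperty Scheme.{u}) [P.IsStableUnderBaseChange]
    [P.IsLocalAtTarget Scheme.fppfPrecoverage] : RepWith P f ↔ P g.left :=
  ⟨fun h => h.property q fst g sq, fun h =>
    repWith_of_isLocallySurjective_base hf q sq P ((repWith_yon_map_iff P g).2 h)⟩

end Groth.Agent.Lib.Helper14.AS
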