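import Groth.Prelude.Def_AlgSpGpd
import Mathlib.CategoryTheory.Monoidal.Cartesian.Grp
universe u
open CategoryTheory CategoryTheory.Limits AlgebraicGeometry MonoidalCategory CartesianMonoidalCategory MonObj
namespace Groth.Agent.Lib.Helper14.AS
variable {S : Scheme.{u}}
open AlgSp

theorem mono_of_yon_injective {F G : Sp S} (f : F ⟶ G)
    (h : ∀ (T : Over S) (p p' : (yon S).obj T ⟶ F), p ≫ f = p' ≫ f → p = p') : Mono f := by
  constructor
  intro W x y hxy
  apply GrothendieckTopology.hom_ext_uliftYoneda.{u + 1} (AlgSp.J S)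
  intro T p
  exact h T (p ≫ x) (p ≫ y) (by rw [Category.assoc, Category.assoc, hxy])

variable {B : Sp S} {G X : Over B} [GrpObj G] (a : GAction G X)

theorem gaction_one_pt {T : Over B} (x : T ⟶ X) : lift (toUnit T ≫ η[G]) x ≫ a.act = x := by
  have : lift (toUnit T ≫ η[G]) x = lift (toUnit T) x ≫ (η[G] ▷ X) := by
    rw [lift_whiskerRight]
  rw [this, Category.assoc, a.one_act]
  simp

theorem gaction_mul_pt {T : Over B} (g h : T ⟶ G) (x : T ⟶ X) :
    lift (lift g h ≫ μ[G]) x ≫ a.act = lift g (lift h x ≫ a.act) ≫ a.act := by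
  have : lift (lift g h ≫ μ[G]) x = lift (lift g h) x ≫ (μ[G] ▷ X) := by
    rw [lift_whiskerRight]
  rw [this, Category.assoc, a.mul_act]
  simp

theorem gaction_free_cancel (ha : a.IsFree) {T : Over S} (β : (yon S).obj T ⟶ B)
    (g g' : Over.mk β ⟶ G) (x : Over.mk β ⟶ X)
    (h : lift g x ≫ a.act = lift g' x ≫ a.act) : g = g' := by
  have h1 : lift (g'⁻¹ * g) x ≫ a.act = x := by
    rw [Hom.mul_def, gaction_mul_pt, h, ← gaction_mul_pt, ← Hom.mul_def, inv_mul_cancel, Hom.one_def,
      gaction_one_pt]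
  have h2 := ha β (g'⁻¹ * g) x h1
  rw [← Hom.one_def] at h2
  have : g = g' * (g'⁻¹ * g) := by group
  rw [this, h2, _root_.mul_one]

end Groth.Agent.Lib.Helper14.AS

namespace Groth.Agent.Lib.Helper14.AS
variable {S : Scheme.{u}}
open AlgSp
variable {B : Sp S} {G X : Over B} [GrpObj G] (a : GAction G X)

theorem gaction_mono_of_free (ha : a.IsFree) :
    Mono (CartesianMonoidalCategory.lift a.act (CartesianMonoidalCategory.snd G X)).left := by
  apply mono_of_yon_injective
  intro T p p' hpp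
  set φ := CartesianMonoidalCategory.lift a.act (CartesianMonoidalCategory.snd G X) with hφ
  have hβ' : p' ≫ (G ⊗ X).hom = p ≫ (G ⊗ X).hom := by
    rw [← Over.w φ, ← Category.assoc, ← hpp, Category.assoc]
  let P : Over.mk (p ≫ (G ⊗ X).hom) ⟶ G ⊗ X := Over.homMk p rfl
  let P' : Over.mk (p ≫ (G ⊗ X).hom) ⟶ G ⊗ X := Over.homMk p' hβ'
  have hP : P ≫ φ = P' ≫ φ := Over.OverMorphism.ext hpp
  have hx : P ≫ snd G X = P' ≫ snd G X := by
    have := congrArg (· ≫ snd X X) hP
    simpa [hφ] using this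
  have hact : P ≫ a.act = P' ≫ a.act := by
    have := congrArg (· ≫ fst X X) hP
    simpa [hφ] using this
  have e1 : P = lift (P ≫ fst G X) (P ≫ snd G X) := by simp
  have e2 : P' = lift (P' ≫ fst G X) (P ≫ snd G X) := by rw [hx]; simp
  have hg : P ≫ fst G X = P' ≫ fst G X := by
    apply gaction_free_cancel a ha _ _ _ (P ≫ snd G X)
    rw [← e1, ← e2, hact]
  have : P = P' := by rw [e1, e2, hg]
  exact congrArg CommaMorphism.left this

end Groth.Agent.Lib.Helper14.AS
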