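import Groth.Agent.Lib.Helper14.SheafQuot
import Groth.Agent.Lib.Helper14.AlgSpBase
import Groth.Agent.Lib.Helper14.GActionPts
import Mathlib.CategoryTheory.Sites.LocallyBijective
universe u
open CategoryTheory CategoryTheory.Limits AlgebraicGeometry Opposite
namespace Groth.Agent.Lib.Helper14.AS
variable {S : Scheme.{u}}
open AlgSp Groth.Agent.Lib.Helper14.AS
variable {R U : Sp S} (s t : R ⟶ U)

/-- The relation on sections of `U` over `T` given by the image of `R(T)`. -/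
def secRel (T : (Over S)ᵒᵖ) (a b : U.obj.obj T) : Prop :=
  ∃ r : R.obj.obj T, t.hom.app T r = a ∧ s.hom.app T r = b

theorem secRel_map {T T' : (Over S)ᵒᵖ} (f : T ⟶ T') {a b : U.obj.obj T} (h : secRel s t T a b) :
    secRel s t T' (U.obj.map f a) (U.obj.map f b) := by
  obtain ⟨r, rfl, rfl⟩ := h
  refine ⟨R.obj.map f r, ?_, ?_⟩
  · exact NatTrans.naturality_apply t.hom f r
  · exact NatTrans.naturality_apply s.hom f r

/-- The presheaf quotient `T ↦ U(T)/∼`. -/
def quotPre : (Over S)ᵒᵖ ⥤ Type (u + 1) where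
  obj T := Quot (secRel s t T)
  map f := ↾(Quot.map (U.obj.map f) (fun _ _ h => secRel_map s t f h))
  map_id T := by
    ext x
    induction x using Quot.ind
    simp [Quot.map]
  map_comp f g := by
    ext x
    induction x using Quot.ind
    simp [Quot.map]

def quotPreπ : U.obj ⟶ quotPre s t where
  app T := ↾(Quot.mk _)
  naturality _ _ f := rfl

end Groth.Agent.Lib.Helper14.AS

namespace Groth.Agent.Lib.Helper14.AS
variable {S : Scheme.{u}}
open AlgSp Groth.Agent.Lib.Helper14.AS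
variable {R U : Sp S} (s t : R ⟶ U)

theorem quotPreπ_condition : s.hom ≫ quotPreπ s t = t.hom ≫ quotPreπ s t := by
  ext T r
  exact (Quot.sound ⟨r, rfl, rfl⟩ : Quot.mk (secRel s t T) (t.hom.app T r) = Quot.mk _ (s.hom.app T r)).symm

/-- Descent of a natural transformation coequalizing `s, t` to the presheaf quotient. -/
def quotPreDesc {Z : (Over S)ᵒᵖ ⥤ Type (u + 1)} (f : U.obj ⟶ Z) (h : s.hom ≫ f = t.hom ≫ f) :
    quotPre s t ⟶ Z where
  app T := ↾(Quot.lift (f.app T) (fun a b hab => by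
    obtain ⟨r, rfl, rfl⟩ := hab
    have := congrArg (fun g => g.app T r) h
    exact this.symm))
  naturality T T' g := by
    ext x
    induction x using Quot.ind
    exact NatTrans.naturality_apply f g _

theorem quotPreπ_desc {Z : (Over S)ᵒᵖ ⥤ Type (u + 1)} (f : U.obj ⟶ Z) (h : s.hom ≫ f = t.hom ≫ f) :
    quotPreπ s t ≫ quotPreDesc s t f h = f := rfl

/-- The sheaf quotient, constructed as the sheafification of the presheaf quotient. -/
noncomputable def quotSh : Sp S := (presheafToSheaf (J S) (Type (u + 1))).obj (quotPre s t)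

noncomputable def quotShπ : U ⟶ quotSh s t := ⟨quotPreπ s t ≫ toSheafify (J S) (quotPre s t)⟩

theorem quotShπ_condition : s ≫ quotShπ s t = t ≫ quotShπ s t := by
  apply Sheaf.hom_ext
  change s.hom ≫ quotPreπ s t ≫ toSheafify (J S) (quotPre s t) =
    t.hom ≫ quotPreπ s t ≫ toSheafify (J S) (quotPre s t)
  rw [← Category.assoc, quotPreπ_condition, Category.assoc]

noncomputable def quotShIsColimit : IsColimit (Cofork.ofπ (quotShπ s t) (quotShπ_condition s t)) := by
  refine Cofork.IsColimit.mk _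
    (fun c => ⟨sheafifyLift (J S) (quotPreDesc s t c.π.hom ?_) c.pt.property⟩) ?_ ?_
  · have := congrArg (fun g => g.hom) c.condition
    exact this
  · intro c
    apply Sheaf.hom_ext
    change (quotPreπ s t ≫ toSheafify (J S) (quotPre s t)) ≫ sheafifyLift (J S) _ _ = c.π.hom
    rw [Category.assoc, toSheafify_sheafifyLift, quotPreπ_desc]
  · intro c m hm
    apply Sheaf.hom_ext
    apply sheafifyLift_unique
    ext T x
    induction x using Quot.ind with | _ a => ?_
    have := congrArg (fun g => g.hom.app T a) hm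
    exact this

end Groth.Agent.Lib.Helper14.AS

namespace Groth.Agent.Lib.Helper14.AS
variable {S : Scheme.{u}}
open AlgSp Groth.Agent.Lib.Helper14.AS
variable {R U : Sp S} (s t : R ⟶ U)

theorem secRel_of_quotShπ_eq (hpre : ∀ T, _root_.Equivalence (secRel s t T)) {T : (Over S)ᵒᵖ}
    (a b : U.obj.obj T) (h : (quotShπ s t).hom.app T a = (quotShπ s t).hom.app T b) :
    ∃ Sv ∈ J S T.unop, ∀ ⦃W : Over S⦄ (w : W ⟶ T.unop), Sv w →
      secRel s t (op W) (U.obj.map w.op a) (U.obj.map w.op b) := by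
  have hmem := Presheaf.equalizerSieve_mem (J S) (toSheafify (J S) (quotPre s t))
    (Quot.mk _ a : (quotPre s t).obj T) (Quot.mk _ b) h
  refine ⟨_, hmem, fun W w hw => ?_⟩
  have h1 : Quot.mk (secRel s t (op W)) (U.obj.map w.op a) = Quot.mk _ (U.obj.map w.op b) := hw
  exact (hpre (op W)).eqvGen_iff.1 (Quot.eqvGen_exact h1)

end Groth.Agent.Lib.Helper14.AS

namespace Groth.Agent.Lib.Helper14.AS
variable {S : Scheme.{u}}
open AlgSp Groth.Agent.Lib.Helper14.AS
variable {R U : Sp S} (s t : R ⟶ U)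

theorem secRel_iff {T : Over S} (a b : (yon S).obj T ⟶ U) :
    secRel s t (op T) (yEquiv a) (yEquiv b) ↔
      ∃ r : (yon S).obj T ⟶ R, r ≫ t = a ∧ r ≫ s = b := by
  constructor
  · rintro ⟨r', h1, h2⟩
    refine ⟨yEquiv.symm r', ?_, ?_⟩
    · apply yEquiv.injective
      rw [← h1]
      have := (AlgSp.J S).uliftYonedaEquiv_comp (yEquiv.symm r') t
      rw [Equiv.apply_symm_apply] at this
      exact this
    · apply yEquiv.injective
      rw [← h2]
      have := (AlgSp.J S).uliftYonedaEquiv_comp (yEquiv.symm r') s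
      rw [Equiv.apply_symm_apply] at this
      exact this
  · rintro ⟨r, rfl, rfl⟩
    exact ⟨yEquiv r, ((AlgSp.J S).uliftYonedaEquiv_comp r t).symm,
      ((AlgSp.J S).uliftYonedaEquiv_comp r s).symm⟩

theorem secRel_equivalence (hpre : IsPreEqvRelSp s t) (T : (Over S)ᵒᵖ) :
    _root_.Equivalence (secRel s t T) := by
  obtain ⟨T⟩ := T
  have h := hpre T
  have key : ∀ x y : U.obj.obj (op T), secRel s t (op T) x y ↔
      ∃ r : (yon S).obj T ⟶ R, r ≫ t = yEquiv.symm x ∧ r ≫ s = yEquiv.symm y := by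
    intro x y
    have := secRel_iff s t (yEquiv.symm x) (yEquiv.symm y)
    rwa [Equiv.apply_symm_apply, Equiv.apply_symm_apply] at this
  refine ⟨fun x => (key x x).2 (h.refl _), fun {x y} hxy => (key y x).2 (h.symm ((key x y).1 hxy)),
    fun {x y z} hxy hyz => (key x z).2 (h.trans ((key x y).1 hxy) ((key y z).1 hyz))⟩

theorem quotSpπ_comp_iso :
    quotSpπ s t ≫ ((quotSpIsCoequalizer s t).coconePointUniqueUpToIso (quotShIsColimit s t)).hom =
      quotShπ s t :=
  (quotSpIsCoequalizer s t).comp_coconePointUniqueUpToIso_hom (quotShIsColimit s t)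
    WalkingParallelPair.one

/-- Two points of `U` with the same image in `U/R` are, fppf locally, related by a point of `R`
(for a pre-equivalence relation). -/
theorem exists_cover_rel (hpre : IsPreEqvRelSp s t) {T : Over S} (a b : (yon S).obj T ⟶ U)
    (h : a ≫ quotSpπ s t = b ≫ quotSpπ s t) :
    ∃ Sv ∈ J S T, ∀ ⦃W : Over S⦄ (w : W ⟶ T), Sv w →
      ∃ r : (yon S).obj W ⟶ R, r ≫ t = (yon S).map w ≫ a ∧ r ≫ s = (yon S).map w ≫ b := by
  have h' : a ≫ quotShπ s t = b ≫ quotShπ s t := by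
    rw [← quotSpπ_comp_iso, reassoc_of% h]
  have h'' : (quotShπ s t).hom.app (op T) (yEquiv a) = (quotShπ s t).hom.app (op T) (yEquiv b) := by
    have := congrArg yEquiv h'
    exact this
  obtain ⟨Sv, hSv, hrel⟩ := secRel_of_quotShπ_eq s t (secRel_equivalence s t hpre) _ _ h''
  refine ⟨Sv, hSv, fun W w hw => ?_⟩
  have := hrel w hw
  rw [(AlgSp.J S).uliftYonedaEquiv_naturality a w, (AlgSp.J S).uliftYonedaEquiv_naturality b w] at this
  exact (secRel_iff s t _ _).1 this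

end Groth.Agent.Lib.Helper14.AS

namespace Groth.Agent.Lib.Helper14.AS
variable {S : Scheme.{u}}
open AlgSp Groth.Agent.Lib.Helper14.AS

theorem isLocallySurjective_of_cover_lifts {F G : Sp S} (f : F ⟶ G)
    (h : ∀ (T : Over S) (y : (yon S).obj T ⟶ G), ∃ Sv ∈ J S T, ∀ ⦃W : Over S⦄ (w : W ⟶ T), Sv w →
      ∃ x : (yon S).obj W ⟶ F, x ≫ f = (yon S).map w ≫ y) :
    Sheaf.IsLocallySurjective f := by
  constructor
  intro T x
  obtain ⟨Sv, hSv, hl⟩ := h T (yEquiv.symm x)
  refine (AlgSp.J S).superset_covering ?_ hSv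
  intro W w hw
  obtain ⟨x₁, hx₁⟩ := hl w hw
  refine ⟨yEquiv x₁, ?_⟩
  have h1 := (AlgSp.J S).uliftYonedaEquiv_comp x₁ f
  have h2 := (AlgSp.J S).uliftYonedaEquiv_naturality (yEquiv.symm x) w
  rw [hx₁] at h1
  rw [← h2, Equiv.apply_symm_apply] at h1
  exact h1.symm

variable {R U : Sp S} (s t : R ⟶ U)

/-- For a pre-equivalence relation, `R ⟶ U ×_{U/R} U` is an epimorphism of sheaves. -/
theorem isLocallySurjective_lift_of_preEqv (hpre : IsPreEqvRelSp s t) :
    Sheaf.IsLocallySurjective (pullback.lift t s (quotSp_condition s t).symm :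
      R ⟶ pullback (quotSpπ s t) (quotSpπ s t)) := by
  apply isLocallySurjective_of_cover_lifts
  intro T y
  obtain ⟨Sv, hSv, hl⟩ := exists_cover_rel s t hpre (y ≫ pullback.fst _ _) (y ≫ pullback.snd _ _)
    (by rw [Category.assoc, Category.assoc, pullback.condition])
  refine ⟨Sv, hSv, fun W w hw => ?_⟩
  obtain ⟨r, h1, h2⟩ := hl w hw
  refine ⟨r, ?_⟩
  apply pullback.hom_ext
  · rw [Category.assoc, pullback.lift_fst, h1, Category.assoc]
  · rw [Category.assoc, pullback.lift_snd, h2, Category.assoc]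

end Groth.Agent.Lib.Helper14.AS

namespace Groth.Agent.Lib.Helper14.AS
variable {S : Scheme.{u}}
open AlgSp Groth.Agent.Lib.Helper14.AS

/-- Two `T`-points of a sheaf that agree on a covering sieve are equal. -/
theorem yon_hom_ext_of_cover {F : Sp S} {T : Over S} (x y : (yon S).obj T ⟶ F) (Sv : Sieve T)
    (hSv : Sv ∈ J S T)
    (h : ∀ ⦃W : Over S⦄ (w : W ⟶ T), Sv w → (yon S).map w ≫ x = (yon S).map w ≫ y) : x = y := by
  apply yEquiv.injective
  have hsep := (Presieve.IsSheaf.isSeparated ((isSheaf_iff_isSheaf_of_type _ _).1 F.property))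
    Sv hSv
  refine hsep.ext fun W w hw => ?_
  rw [(AlgSp.J S).uliftYonedaEquiv_naturality x w, (AlgSp.J S).uliftYonedaEquiv_naturality y w, h w hw]

/-- Abstract injectivity criterion for a map of quotient sheaves. -/
theorem mono_quot_map {R U R' U' : Sp S} (s t : R ⟶ U) (hpre : IsPreEqvRelSp s t) (g : U' ⟶ U)
    (s' t' : R' ⟶ U')
    (hlift : ∀ (T : Over S) (a b : (yon S).obj T ⟶ U') (r₀ : (yon S).obj T ⟶ R),
      r₀ ≫ t = a ≫ g → r₀ ≫ s = b ≫ g → ∃ r' : (yon S).obj T ⟶ R', r' ≫ t' = a ∧ r' ≫ s' = b)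
    (ψ : quotSp s' t' ⟶ quotSp s t) (hψ : quotSpπ s' t' ≫ ψ = g ≫ quotSpπ s t) : Mono ψ := by
  apply mono_of_yon_injective
  intro T x y hxy
  have hπ' : Epi (quotSpπ s' t') := by
    have h0 : Epi (Cofork.ofπ (quotSpπ s' t') (quotSp_condition s' t')).π :=
      epi_of_isColimit_cofork (quotSpIsCoequalizer s' t')
    exact h0
  have hls : Sheaf.IsLocallySurjective (quotSpπ s' t') :=
    (Sheaf.isLocallySurjective_iff_epi _).2 hπ'
  obtain ⟨S₁, hS₁, hl₁⟩ := exists_cover_lift (quotSpπ s' t') x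
  obtain ⟨S₂, hS₂, hl₂⟩ := exists_cover_lift (quotSpπ s' t') y
  have hS₁' : Sieve.generate S₁ ∈ J S T := by
    rw [J_eq_toGrothendieck]; exact Precoverage.generate_mem_toGrothendieck hS₁
  have hS₂' : Sieve.generate S₂ ∈ J S T := by
    rw [J_eq_toGrothendieck]; exact Precoverage.generate_mem_toGrothendieck hS₂
  refine yon_hom_ext_of_cover x y _ ((J S).intersection_covering hS₁' hS₂') ?_
  rintro W w ⟨⟨W₁, v₁, w₁, hw₁, rfl⟩, ⟨W₂, v₂, w₂, hw₂, e₂⟩⟩
  obtain ⟨a₀, ha₀⟩ := hl₁ w₁ hw₁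
  obtain ⟨b₀, hb₀⟩ := hl₂ w₂ hw₂
  obtain ⟨a, haπ⟩ : ∃ a : (yon S).obj W ⟶ U', a ≫ quotSpπ s' t' = (yon S).map (v₁ ≫ w₁) ≫ x :=
    ⟨(yon S).map v₁ ≫ a₀, by rw [Category.assoc, ha₀, Functor.map_comp, Category.assoc]⟩
  obtain ⟨b, hbπ⟩ : ∃ b : (yon S).obj W ⟶ U', b ≫ quotSpπ s' t' = (yon S).map (v₁ ≫ w₁) ≫ y :=
    ⟨(yon S).map v₂ ≫ b₀, by rw [Category.assoc, hb₀, ← e₂, Functor.map_comp, Category.assoc]⟩
  have hab : (a ≫ g) ≫ quotSpπ s t = (b ≫ g) ≫ quotSpπ s t := by
    rw [Category.assoc, ← hψ, reassoc_of% haπ, Category.assoc, ← hψ, reassoc_of% hbπ, hxy]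
  obtain ⟨Sw, hSw, hlw⟩ := exists_cover_rel s t hpre (a ≫ g) (b ≫ g) hab
  rw [← haπ, ← hbπ]
  refine yon_hom_ext_of_cover _ _ Sw hSw fun V v hv => ?_
  obtain ⟨r₀, h1, h2⟩ := hlw v hv
  obtain ⟨r', h1', h2'⟩ := hlift V ((yon S).map v ≫ a) ((yon S).map v ≫ b) r₀
    (by rw [h1, Category.assoc]) (by rw [h2, Category.assoc])
  rw [← Category.assoc, ← Category.assoc, ← h1', ← h2', Category.assoc, Category.assoc,
    quotSp_condition]

end Groth.Agent.Lib.Helper14.AS

namespace Groth.Agent.Lib.Helper14.AS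
variable {S : Scheme.{u}}
open AlgSp Groth.Agent.Lib.Helper14.AS

theorem epi_quotSpπ {R U : Sp S} (s t : R ⟶ U) : Epi (quotSpπ s t) := by
  have h0 : Epi (Cofork.ofπ (quotSpπ s t) (quotSp_condition s t)).π :=
    epi_of_isColimit_cofork (quotSpIsCoequalizer s t)
  exact h0

theorem quot_restrict_mono_iso {R U R' U' : Sp S}
    (s t : R ⟶ U) (hpre : AlgSp.IsPreEqvRelSp s t) (g : U' ⟶ U) (s' t' : R' ⟶ U') (r : R' ⟶ R)
    (hsq : IsPullback (prod.lift t' s') r (prod.map g g) (prod.lift t s))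
    (ψ : AlgSp.quotSp s' t' ⟶ AlgSp.quotSp s t) (hψ : AlgSp.quotSpπ s' t' ≫ ψ = g ≫ AlgSp.quotSpπ s t) :
    Mono ψ ∧ (Epi g → IsIso ψ) := by
  have hm : Mono ψ := by
    refine mono_quot_map s t hpre g s' t' ?_ ψ hψ
    intro T a b r₀ h1 h2
    have hc : prod.lift a b ≫ prod.map g g = r₀ ≫ prod.lift t s := by
      apply Limits.prod.hom_ext
      · rw [Category.assoc, prod.map_fst, prod.lift_fst_assoc, Category.assoc, prod.lift_fst, h1]
      · rw [Category.assoc, prod.map_snd, prod.lift_snd_assoc, Category.assoc, prod.lift_snd, h2]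
    refine ⟨hsq.lift _ _ hc, ?_, ?_⟩
    · have := congrArg (· ≫ prod.fst) (hsq.lift_fst _ _ hc)
      simpa only [Category.assoc, prod.lift_fst] using this
    · have := congrArg (· ≫ prod.snd) (hsq.lift_fst _ _ hc)
      simpa only [Category.assoc, prod.lift_snd] using this
  refine ⟨hm, fun hg => ?_⟩
  have := epi_quotSpπ s t
  have h1 : Epi (quotSpπ s' t' ≫ ψ) := by rw [hψ]; infer_instance
  have h2 : Epi ψ := epi_of_epi (quotSpπ s' t') ψ
  exact isIso_of_mono_of_epi ψ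

end Groth.Agent.Lib.Helper14.AS

namespace Groth.Agent.Lib.Helper14.AS
variable {S : Scheme.{u}}
open AlgSp Groth.Agent.Lib.Helper14.AS

theorem gpd_isPreEqvRelSp {B : Sp S} (G : GroupoidSp B) : IsPreEqvRelSp G.s G.t := by
  intro T
  refine ⟨fun a => ⟨a ≫ G.e, ?_, ?_⟩, ?_, ?_⟩
  · rw [Category.assoc, G.e_t, Category.comp_id]
  · rw [Category.assoc, G.e_s, Category.comp_id]
  · rintro a b ⟨r, rfl, rfl⟩
    exact ⟨r ≫ G.i, by rw [Category.assoc, G.i_t], by rw [Category.assoc, G.i_s]⟩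
  · rintro a b c ⟨r₁, rfl, rfl⟩ ⟨r₂, h2, rfl⟩
    exact ⟨pullback.lift r₁ r₂ h2.symm ≫ G.c, G.comp_t _ _ _, G.comp_s _ _ _⟩

end Groth.Agent.Lib.Helper14.AS
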