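import Groth.Agent.Lib.Helper14.AlgSpSubsheaf
import Groth.Agent.Lib.Helper14.SheafQuot2
universe u
open CategoryTheory CategoryTheory.Limits AlgebraicGeometry Opposite
namespace Groth.Agent.Lib.Helper14.AS
variable {S : Scheme.{u}}
open AlgSp

/-- Two morphisms `j : U ⟶ W`, `f : V ⟶ W` of sheaves are jointly locally surjective. -/
def JLS {U V W : Sp S} (j : U ⟶ W) (f : V ⟶ W) : Prop :=
  ∀ (T : Over S) (w : (yon S).obj T ⟶ W), ∃ R ∈ AlgSp.J S T, ∀ ⦃T' : Over S⦄ (t : T' ⟶ T), R t →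
    (∃ x : (yon S).obj T' ⟶ U, x ≫ j = (yon S).map t ≫ w) ∨
    (∃ y : (yon S).obj T' ⟶ V, y ≫ f = (yon S).map t ≫ w)

theorem JLS.hom_ext {U V W Z : Sp S} {j : U ⟶ W} {f : V ⟶ W} (h : JLS j f) (k k' : W ⟶ Z)
    (h1 : j ≫ k = j ≫ k') (h2 : f ≫ k = f ≫ k') : k = k' := by
  apply GrothendieckTopology.hom_ext_uliftYoneda.{u + 1} (AlgSp.J S)
  intro T w
  obtain ⟨R, hR, hl⟩ := h T w
  refine yon_hom_ext_of_cover _ _ R hR fun T' t ht => ?_
  rcases hl t ht with ⟨x, hx⟩ | ⟨y, hy⟩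
  · rw [← Category.assoc, ← Category.assoc, ← hx, Category.assoc, Category.assoc, h1]
  · rw [← Category.assoc, ← Category.assoc, ← hy, Category.assoc, Category.assoc, h2]

/-- The sieve of arrows along which a point of `W ⨯ Z` comes from `(j, a)` or `(f, b)`. -/
def graphSieve {U V W Z : Sp S} (j : U ⟶ W) (f : V ⟶ W) (a : U ⟶ Z) (b : V ⟶ Z) {T : Over S}
    (g : (yon S).obj T ⟶ W ⨯ Z) : Sieve T where
  arrows T' t :=
    (∃ x : (yon S).obj T' ⟶ U, x ≫ j = (yon S).map t ≫ g ≫ prod.fst ∧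
      x ≫ a = (yon S).map t ≫ g ≫ prod.snd) ∨
    (∃ y : (yon S).obj T' ⟶ V, y ≫ f = (yon S).map t ≫ g ≫ prod.fst ∧
      y ≫ b = (yon S).map t ≫ g ≫ prod.snd)
  downward_closed := by
    rintro T' T'' t (⟨x, h1, h2⟩ | ⟨y, h1, h2⟩) s
    · exact Or.inl ⟨(yon S).map s ≫ x, by rw [Category.assoc, h1, Functor.map_comp, Category.assoc],
        by rw [Category.assoc, h2, Functor.map_comp, Category.assoc]⟩
    · exact Or.inr ⟨(yon S).map s ≫ y, by rw [Category.assoc, h1, Functor.map_comp, Category.assoc],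
        by rw [Category.assoc, h2, Functor.map_comp, Category.assoc]⟩

theorem graphSieve_pullback {U V W Z : Sp S} (j : U ⟶ W) (f : V ⟶ W) (a : U ⟶ Z) (b : V ⟶ Z)
    {T T' : Over S} (g : (yon S).obj T ⟶ W ⨯ Z) (t : T' ⟶ T) :
    (graphSieve j f a b g).pullback t = graphSieve j f a b ((yon S).map t ≫ g) := by
  ext T'' s
  simp only [Sieve.pullback_apply, graphSieve, Functor.map_comp, Category.assoc]

/-- The graph predicate. -/
def graphPred {U V W Z : Sp S} (j : U ⟶ W) (f : V ⟶ W) (a : U ⟶ Z) (b : V ⟶ Z) :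
    SubPred (W ⨯ Z) where
  P T g := graphSieve j f a b g ∈ AlgSp.J S T
  comp T T' t g hg := by
    rw [← graphSieve_pullback]
    exact (AlgSp.J S).pullback_stable t hg
  loc T g R hR h := by
    have hR' : Sieve.generate R ∈ AlgSp.J S T := (mem_J_iff _).2 ⟨R, hR, Sieve.le_generate R⟩
    refine (AlgSp.J S).transitive hR' _ ?_
    rintro T' t ⟨T'', s, r, hr, rfl⟩
    rw [Sieve.pullback_comp, graphSieve_pullback]
    exact (AlgSp.J S).pullback_stable s (h r hr)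


theorem graphPred_of_left {U V W Z : Sp S} (j : U ⟶ W) (f : V ⟶ W) (a : U ⟶ Z) (b : V ⟶ Z)
    {T : Over S} (x : (yon S).obj T ⟶ U) : (graphPred j f a b).P (x ≫ prod.lift j a) := by
  change graphSieve j f a b _ ∈ AlgSp.J S T
  convert (AlgSp.J S).top_mem T
  rw [eq_top_iff]
  intro T' t _
  exact Or.inl ⟨(yon S).map t ≫ x, by simp only [Category.assoc, prod.lift_fst],
    by simp only [Category.assoc, prod.lift_snd]⟩

theorem graphPred_of_right {U V W Z : Sp S} (j : U ⟶ W) (f : V ⟶ W) (a : U ⟶ Z) (b : V ⟶ Z)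
    {T : Over S} (y : (yon S).obj T ⟶ V) : (graphPred j f a b).P (y ≫ prod.lift f b) := by
  change graphSieve j f a b _ ∈ AlgSp.J S T
  convert (AlgSp.J S).top_mem T
  rw [eq_top_iff]
  intro T' t _
  exact Or.inr ⟨(yon S).map t ≫ y, by simp only [Category.assoc, prod.lift_fst],
    by simp only [Category.assoc, prod.lift_snd]⟩

theorem exists_desc_of_JLS {U V W Z : Sp S} {j : U ⟶ W} {f : V ⟶ W} (h : JLS j f) (a : U ⟶ Z)
    (b : V ⟶ Z)
    (hUU : ∀ (T : Over S) (x x' : (yon S).obj T ⟶ U), x ≫ j = x' ≫ j → x ≫ a = x' ≫ a)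
    (hUV : ∀ (T : Over S) (x : (yon S).obj T ⟶ U) (y : (yon S).obj T ⟶ V),
      x ≫ j = y ≫ f → x ≫ a = y ≫ b)
    (hVV : ∀ (T : Over S) (y y' : (yon S).obj T ⟶ V), y ≫ f = y' ≫ f → y ≫ b = y' ≫ b) :
    ∃ k : W ⟶ Z, j ≫ k = a ∧ f ≫ k = b := by
  let A := graphPred j f a b
  let π : A.sheaf ⟶ W := A.ι ≫ prod.fst
  have hmono : Mono π := by
    apply mono_of_yon_injective
    intro T γ₁ γ₂ hγ
    rw [← cancel_mono A.ι]
    have h1 : (γ₁ ≫ A.ι) ≫ prod.fst = (γ₂ ≫ A.ι) ≫ prod.fst := by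
      simpa only [Category.assoc, π] using hγ
    have hP₁ : A.P (γ₁ ≫ A.ι) := (A.P_iff _).2 ⟨γ₁, rfl⟩
    have hP₂ : A.P (γ₂ ≫ A.ι) := (A.P_iff _).2 ⟨γ₂, rfl⟩
    apply Limits.prod.hom_ext h1
    refine yon_hom_ext_of_cover _ _ _ ((AlgSp.J S).intersection_covering hP₁ hP₂) ?_
    rintro T' t ⟨ht₁, ht₂⟩
    have e : (yon S).map t ≫ (γ₁ ≫ A.ι) ≫ prod.fst = (yon S).map t ≫ (γ₂ ≫ A.ι) ≫ prod.fst := by
      rw [h1]
    simp only [Category.assoc] at e ⊢
    rcases ht₁ with ⟨x₁, p1, q1⟩ | ⟨y₁, p1, q1⟩ <;> rcases ht₂ with ⟨x₂, p2, q2⟩ | ⟨y₂, p2, q2⟩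
    · simp only [Category.assoc] at p1 q1 p2 q2
      rw [← q1, ← q2]
      exact hUU _ _ _ (by rw [p1, p2, e])
    · simp only [Category.assoc] at p1 q1 p2 q2
      rw [← q1, ← q2]
      exact hUV _ _ _ (by rw [p1, p2, e])
    · simp only [Category.assoc] at p1 q1 p2 q2
      rw [← q1, ← q2]
      exact (hUV _ _ _ (by rw [p1, p2, e])).symm
    · simp only [Category.assoc] at p1 q1 p2 q2
      rw [← q1, ← q2]
      exact hVV _ _ _ (by rw [p1, p2, e])
  have hls : Sheaf.IsLocallySurjective π := by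
    apply isLocallySurjective_of_cover_lifts
    intro T w
    obtain ⟨R, hR, hl⟩ := h T w
    refine ⟨R, hR, fun T' t ht => ?_⟩
    rcases hl t ht with ⟨x, hx⟩ | ⟨y, hy⟩
    · obtain ⟨γ, hγ⟩ := (A.P_iff _).1 (graphPred_of_left j f a b x)
      exact ⟨γ, by simp only [π]; rw [← Category.assoc, hγ, Category.assoc, prod.lift_fst, hx]⟩
    · obtain ⟨γ, hγ⟩ := (A.P_iff _).1 (graphPred_of_right j f a b y)
      exact ⟨γ, by simp only [π]; rw [← Category.assoc, hγ, Category.assoc, prod.lift_fst, hy]⟩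
  have : Epi π := (Sheaf.isLocallySurjective_iff_epi _).1 hls
  have : IsIso π := isIso_of_mono_of_epi _
  obtain ⟨jh, hjh⟩ := (A.factors_iff (prod.lift j a)).2 fun T x => graphPred_of_left j f a b x
  obtain ⟨fh, hfh⟩ := (A.factors_iff (prod.lift f b)).2 fun T y => graphPred_of_right j f a b y
  refine ⟨inv π ≫ A.ι ≫ prod.snd, ?_, ?_⟩
  · have e : jh ≫ π = j := by simp only [π]; rw [← Category.assoc, hjh, prod.lift_fst]
    rw [← e, Category.assoc, IsIso.hom_inv_id_assoc, ← Category.assoc, hjh, prod.lift_snd]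
  · have e : fh ≫ π = f := by simp only [π]; rw [← Category.assoc, hfh, prod.lift_fst]
    rw [← e, Category.assoc, IsIso.hom_inv_id_assoc, ← Category.assoc, hfh, prod.lift_snd]

end Groth.Agent.Lib.Helper14.AS
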