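import Mathlib
import Groth.Agent.Lib.Helper14.Glue2
import Groth.Agent.Lib.Helper14.AlgSpSect

/-!
# Pushouts of sheaves along a monomorphism (helper14)

The topos-theoretic part of the construction of pushouts of algebraic spaces along an open
immersion and a separated etale morphism.
-/

set_option autoImplicit false
universe u
open CategoryTheory CategoryTheory.Limits AlgebraicGeometry Opposite Topology

namespace Groth.Agent.Lib.Helper14.AS

open AlgSp Groth.Agent.Lib.Helper14.AS

variable {S : Scheme.{u}}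

/-- The sieve of arrows over which `g` lifts to `U` or to `V`. -/
def liftSieve {U V W : Sp S} (j : U ⟶ W) (f : V ⟶ W) {T : Over S}
    (g : (yon S).obj T ⟶ W) : Sieve T where
  arrows T' t :=
    (∃ x : (yon S).obj T' ⟶ U, x ≫ j = (yon S).map t ≫ g) ∨
    (∃ y : (yon S).obj T' ⟶ V, y ≫ f = (yon S).map t ≫ g)
  downward_closed := by
    rintro T' T'' t (⟨x, h1⟩ | ⟨y, h1⟩) s
    · exact Or.inl ⟨(yon S).map s ≫ x, by rw [Category.assoc, h1, Functor.map_comp, Category.assoc]⟩
    · exact Or.inr ⟨(yon S).map s ≫ y, by rw [Category.assoc, h1, Functor.map_comp, Category.assoc]⟩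

theorem liftSieve_pullback {U V W : Sp S} (j : U ⟶ W) (f : V ⟶ W)
    {T T' : Over S} (g : (yon S).obj T ⟶ W) (t : T' ⟶ T) :
    (liftSieve j f g).pullback t = liftSieve j f ((yon S).map t ≫ g) := by
  ext T'' s
  simp only [Sieve.pullback_apply, liftSieve, Functor.map_comp, Category.assoc]

/-- The predicate "lifts locally to `U` or `V`". -/
def liftPred {U V W : Sp S} (j : U ⟶ W) (f : V ⟶ W) : SubPred W where
  P T g := liftSieve j f g ∈ AlgSp.J S T
  comp T T' t g hg := by
    rw [← liftSieve_pullback]
    exact (AlgSp.J S).pullback_stable t hg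
  loc T g R hR h := by
    have hR' : Sieve.generate R ∈ AlgSp.J S T := (mem_J_iff _).2 ⟨R, hR, Sieve.le_generate R⟩
    refine (AlgSp.J S).transitive hR' _ ?_
    rintro T' t ⟨T'', s, r, hr, rfl⟩
    rw [Sieve.pullback_comp, liftSieve_pullback]
    exact (AlgSp.J S).pullback_stable s (h r hr)

theorem jls_iff_liftPred {U V W : Sp S} (j : U ⟶ W) (f : V ⟶ W) :
    JLS j f ↔ ∀ (T : Over S) (w : (yon S).obj T ⟶ W), (liftPred j f).P w := by
  constructor
  · intro h T w
    obtain ⟨R, hR, hl⟩ := h T w
    exact (AlgSp.J S).superset_covering (fun T' t ht => hl t ht) hR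
  · intro h T w
    exact ⟨liftSieve j f w, h T w, fun T' t ht => ht⟩

section pushout

variable {V' V U : Sp S} (jV : V' ⟶ V) (f' : V' ⟶ U)

/-- The two inclusions into a pushout of sheaves are jointly locally surjective. -/
theorem jls_pushout : JLS (pushout.inr jV f') (pushout.inl jV f') := by
  rw [jls_iff_liftPred]
  let A := liftPred (pushout.inr jV f') (pushout.inl jV f')
  have hU : ∀ (T : Over S) (x : (yon S).obj T ⟶ U), A.P (x ≫ pushout.inr jV f') := by
    intro T x
    change liftSieve _ _ _ ∈ AlgSp.J S T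
    convert (AlgSp.J S).top_mem T
    ext T' t
    simp only [Sieve.top_apply, iff_true]
    exact Or.inl ⟨(yon S).map t ≫ x, by rw [Category.assoc]⟩
  have hV : ∀ (T : Over S) (y : (yon S).obj T ⟶ V), A.P (y ≫ pushout.inl jV f') := by
    intro T y
    change liftSieve _ _ _ ∈ AlgSp.J S T
    convert (AlgSp.J S).top_mem T
    ext T' t
    simp only [Sieve.top_apply, iff_true]
    exact Or.inr ⟨(yon S).map t ≫ y, by rw [Category.assoc]⟩
  obtain ⟨u', hu'⟩ := (A.factors_iff (pushout.inr jV f')).2 hU
  obtain ⟨v', hv'⟩ := (A.factors_iff (pushout.inl jV f')).2 hV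
  have hc : jV ≫ v' = f' ≫ u' := by
    rw [← cancel_mono A.ι, Category.assoc, Category.assoc, hu', hv', pushout.condition]
  let r : pushout jV f' ⟶ A.sheaf := pushout.desc v' u' hc
  have hr : r ≫ A.ι = 𝟙 _ := by
    apply pushout.hom_ext
    · rw [pushout.inl_desc_assoc, hv', Category.comp_id]
    · rw [pushout.inr_desc_assoc, hu', Category.comp_id]
  intro T w
  rw [A.P_iff]
  exact ⟨w ≫ r, by rw [Category.assoc, hr, Category.comp_id]⟩

variable [Mono jV]

instance mono_pushout_inr : Mono (pushout.inr jV f') :=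
  Adhesive.mono_of_isPushout_of_mono_left (IsPushout.of_hasPushout jV f')

theorem isPullback_pushout : IsPullback jV f' (pushout.inl jV f') (pushout.inr jV f') :=
  Adhesive.isPullback_of_isPushout_of_mono_left (IsPushout.of_hasPushout jV f')

end pushout

end Groth.Agent.Lib.Helper14.AS
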