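import Mathlib
import Groth.Agent.Lib.Helper14.PushEt1

/-!
# The kernel pair of the inclusion into a pushout of sheaves along a monomorphism (helper14)
-/

set_option autoImplicit false
universe u w
open CategoryTheory CategoryTheory.Limits AlgebraicGeometry Opposite Topology

namespace Groth.Agent.Lib.Helper14.AS

open AlgSp Groth.Agent.Lib.Helper14.AS

theorem types_pushout_inl_eq_inl {S₀ X₁ X₂ : Type w} (f : S₀ ⟶ X₁) (g : S₀ ⟶ X₂) [Mono f]
    (x y : X₁) (h : pushout.inl f g x = pushout.inl f g y) :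
    x = y ∨ ∃ x₀ y₀ : S₀, g x₀ = g y₀ ∧ x = f x₀ ∧ y = f y₀ := by
  let e := IsColimit.coconePointUniqueUpToIso (pushoutIsPushout f g)
    (Types.Pushout.isColimitCocone f g)
  have he : pushout.inl f g ≫ e.hom = Types.Pushout.inl f g :=
    IsColimit.comp_coconePointUniqueUpToIso_hom (pushoutIsPushout f g) _ WalkingSpan.left
  have h1 : Types.Pushout.inl f g x = Types.Pushout.inl f g y := by
    rw [← he]
    exact congrArg e.hom h
  have h2 := (Types.Pushout.quot_mk_eq_iff f g (Sum.inl x) (Sum.inl y)).1 h1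
  rw [Types.Pushout.inl_rel'_inl_iff] at h2
  obtain h2 | ⟨x₀, y₀, h3, h4, h5⟩ := h2
  · exact Or.inl h2
  · exact Or.inr ⟨x₀, y₀, h3, h4, h5⟩

variable {S : Scheme.{u}}

theorem yEquiv_map_comp₃ {T T' : Over S} {F : Sp S} (m : T' ⟶ T) (x : (yon S).obj T ⟶ F) :
    yEquiv ((yon S).map m ≫ x) = F.obj.map m.op (yEquiv x) :=
  ((AlgSp.J S).uliftYonedaEquiv_naturality x m).symm

section KP

variable {V' V U : Sp S} (jV : V' ⟶ V) (f' : V' ⟶ U) [Mono jV]

/-- Two points of `V` with the same image in the pushout `V ⊔_{V'} U` are locally equal, or come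
from points of `V'` with the same image in `U`. -/
theorem kp_pushout {T : Over S} (b₁ b₂ : (yon S).obj T ⟶ V)
    (h : b₁ ≫ pushout.inl jV f' = b₂ ≫ pushout.inl jV f') :
    ∃ R ∈ AlgSp.J S T, ∀ ⦃T' : Over S⦄ (t : T' ⟶ T), R t →
      ((yon S).map t ≫ b₁ = (yon S).map t ≫ b₂ ∨
      ∃ c₁ c₂ : (yon S).obj T' ⟶ V', c₁ ≫ jV = (yon S).map t ≫ b₁ ∧
        c₂ ≫ jV = (yon S).map t ≫ b₂ ∧ c₁ ≫ f' = c₂ ≫ f') := by
  let Pp : (Over S)ᵒᵖ ⥤ Type (u + 1) := pushout jV.hom f'.hom
  let G : Sp S := (presheafToSheaf (AlgSp.J S) (Type (u + 1))).obj Pp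
  let η : Pp ⟶ G.obj := toSheafify (AlgSp.J S) Pp
  let v : V ⟶ G := ⟨pushout.inl jV.hom f'.hom ≫ η⟩
  let u' : U ⟶ G := ⟨pushout.inr jV.hom f'.hom ≫ η⟩
  have hc : jV ≫ v = f' ≫ u' := by
    apply Sheaf.hom_ext
    change jV.hom ≫ pushout.inl jV.hom f'.hom ≫ η = f'.hom ≫ pushout.inr jV.hom f'.hom ≫ η
    rw [← Category.assoc, pushout.condition, Category.assoc]
  have hv : b₁ ≫ v = b₂ ≫ v := by
    rw [← pushout.inl_desc v u' hc, ← Category.assoc, h, Category.assoc]
  have hinj : ∀ X : (Over S)ᵒᵖ, Mono (jV.hom.app X) := by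
    have h1 : Mono ((sheafToPresheaf _ _).map jV) := inferInstance
    have h2 : Mono (jV.hom) := h1
    exact fun X => (NatTrans.mono_iff_mono_app jV.hom).1 h2 X
  -- sections
  have hv' : η.app (op T) ((pushout.inl jV.hom f'.hom).app (op T) (yEquiv b₁)) =
      η.app (op T) ((pushout.inl jV.hom f'.hom).app (op T) (yEquiv b₂)) := by
    have := congrArg yEquiv hv
    rw [yEquiv_comp, yEquiv_comp] at this
    exact this
  have hR := Presheaf.equalizerSieve_mem (AlgSp.J S) η _ _ hv'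
  refine ⟨_, hR, fun T' t ht => ?_⟩
  change Pp.map t.op _ = Pp.map t.op _ at ht
  have hnat : ∀ β : V.obj.obj (op T), Pp.map t.op ((pushout.inl jV.hom f'.hom).app (op T) β) =
      (pushout.inl jV.hom f'.hom).app (op T') (V.obj.map t.op β) := fun β =>
    (NatTrans.naturality_apply (pushout.inl jV.hom f'.hom) t.op β).symm
  rw [hnat, hnat, ← yEquiv_map_comp₃, ← yEquiv_map_comp₃] at ht
  have ht' := congrArg (pushoutObjIso jV.hom f'.hom (op T')).hom ht
  have hinl : ∀ β : V.obj.obj (op T'), (pushoutObjIso jV.hom f'.hom (op T')).hom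
      ((pushout.inl jV.hom f'.hom).app (op T') β) =
      pushout.inl (jV.hom.app (op T')) (f'.hom.app (op T')) β := fun β =>
    ConcreteCategory.congr_hom (inl_comp_pushoutObjIso_hom jV.hom f'.hom (op T')) β
  rw [hinl, hinl] at ht'
  have := hinj (op T')
  obtain h1 | ⟨x₀, y₀, h3, h4, h5⟩ := types_pushout_inl_eq_inl _ _ _ _ ht'
  · exact Or.inl (yEquiv.injective h1)
  · refine Or.inr ⟨yEquiv.symm x₀, yEquiv.symm y₀, ?_, ?_, ?_⟩
    · apply yEquiv.injective
      rw [yEquiv_comp, Equiv.apply_symm_apply]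
      exact h4.symm
    · apply yEquiv.injective
      rw [yEquiv_comp, Equiv.apply_symm_apply]
      exact h5.symm
    · apply yEquiv.injective
      rw [yEquiv_comp, yEquiv_comp, Equiv.apply_symm_apply, Equiv.apply_symm_apply]
      exact h3

end KP

end Groth.Agent.Lib.Helper14.AS
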