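import Groth.Prelude.Def_AlgSpGpd
import Mathlib.CategoryTheory.Sites.RegularEpi
universe u
open CategoryTheory CategoryTheory.Limits AlgebraicGeometry
namespace Groth.Agent.Lib.Helper14.AS
variable {S : Scheme.{u}}
open AlgSp

/-- If `q : U ⟶ M` is an epimorphism of sheaves coequalizing `s, t` and `(t, s) : R ⟶ U ×_M U` is an
epimorphism, then `q` is a coequalizer of `s, t`. -/
noncomputable def isColimitOfEpiKernelPair {R U M : Sp S} (s t : R ⟶ U) (q : U ⟶ M) (w : s ≫ q = t ≫ q)
    [Epi q] [Epi (pullback.lift t s w.symm : R ⟶ pullback q q)] :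
    IsColimit (Cofork.ofπ q w) := by
  have hreg : IsRegularEpi q := IsRegularEpiCategory.regularEpiOfEpi q
  have heff : EffectiveEpi q := inferInstance
  have hk : IsColimit (Cofork.ofπ q (pullback.condition (f := q) (g := q))) :=
    isColimitCoforkOfEffectiveEpi q _ (pullback.isLimit _ _)
  refine Cofork.IsColimit.mk _ (fun c => hk.desc (Cofork.ofπ c.π ?_)) ?_ ?_
  · rw [← cancel_epi (pullback.lift t s w.symm : R ⟶ pullback q q), pullback.lift_fst_assoc,
      pullback.lift_snd_assoc]
    exact c.condition.symm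
  · intro c
    exact hk.fac _ WalkingParallelPair.one
  · intro c m hm
    refine Cofork.IsColimit.hom_ext hk ?_
    rw [Cofork.π_ofπ] at hm ⊢
    rw [hm]
    exact (hk.fac (Cofork.ofπ c.π _) WalkingParallelPair.one).symm

theorem isIso_quotSpDesc {R U M : Sp S} (s t : R ⟶ U) (q : U ⟶ M) (w : s ≫ q = t ≫ q)
    [Epi q] [Epi (pullback.lift t s w.symm : R ⟶ pullback q q)] :
    IsIso (quotSpDesc q w) := by
  have h := isColimitOfEpiKernelPair s t q w
  let e := (quotSpIsCoequalizer s t).coconePointUniqueUpToIso h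
  have : e.hom = quotSpDesc q w := by
    refine Cofork.IsColimit.hom_ext (quotSpIsCoequalizer s t) ?_
    rw [Cofork.π_ofπ, quotSpπ_desc]
    exact (quotSpIsCoequalizer s t).comp_coconePointUniqueUpToIso_hom h WalkingParallelPair.one
  rw [← this]
  infer_instance

end Groth.Agent.Lib.Helper14.AS
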