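import Mathlib
import Groth.Agent.Lib.Helper14.FppfDesc2
import Groth.Agent.Lib.Helper18.FibBridge

universe u
set_option linter.style.haveILetI false
set_option linter.unusedSectionVars false
open CategoryTheory CategoryTheory.Limits AlgebraicGeometry TensorProduct

namespace Groth.Agent.Lib.Helper14.AS

set_option maxHeartbeats 1000000 in
/-- local finite presentation is fppf local on the source, pointwise form -/
theorem lfp_of_forall_exists_fppf {X Y : Scheme.{u}} (f : X ⟶ Y)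
    (H : ∀ x : X, ∃ (X' : Scheme.{u}) (g : X' ⟶ X), Flat g ∧ LocallyOfFinitePresentation g ∧
      LocallyOfFinitePresentation (g ≫ f) ∧ x ∈ Set.range g) :
    LocallyOfFinitePresentation f := by
  rw [HasRingHomProperty.iff_exists_appLE (P := @LocallyOfFinitePresentation)
    (RingHom.finitePresentation_stableUnderComposition.stableUnderCompositionWithLocalizationAway
      RingHom.finitePresentation_holdsForLocalizationAway).left]
  intro x
  obtain ⟨X', g, hfl, hfp, hcomp, z, rfl⟩ := H x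
  obtain ⟨W₀, hW₀, hxW₀⟩ : ∃ W₀ : Y.Opens, IsAffineOpen W₀ ∧ f (g z) ∈ W₀ := by
    obtain ⟨_, ⟨W₀, hW₀ : IsAffineOpen W₀, rfl⟩, hx, -⟩ :=
      Y.isBasis_affineOpens.exists_subset_of_mem_open (Set.mem_univ (f (g z))) isOpen_univ
    exact ⟨W₀, hW₀, hx⟩
  obtain ⟨V, hV, U, hU, e, hVW, hxV, hff, hfp'⟩ := exists_affine_fppf_chart g z (f ⁻¹ᵁ W₀) hxW₀
  refine ⟨⟨W₀, hW₀⟩, ⟨V, hV⟩, hxV, hVW, ?_⟩
  refine ringHom_finitePresentation_of_faithfullyFlat_fp (f.appLE W₀ V hVW).hom
    (g.appLE V U e).hom ?_ hff hfp'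
  rw [← CommRingCat.hom_comp, Scheme.Hom.appLE_comp_appLE]
  exact HasRingHomProperty.appLE (P := @LocallyOfFinitePresentation) (g ≫ f) hcomp
    ⟨W₀, hW₀⟩ ⟨U, hU⟩ _

set_option maxHeartbeats 1000000 in
/-- local finite type is fppf local on the source, pointwise form -/
theorem lft_of_forall_exists_fppf {X Y : Scheme.{u}} (f : X ⟶ Y)
    (H : ∀ x : X, ∃ (X' : Scheme.{u}) (g : X' ⟶ X), Flat g ∧ LocallyOfFinitePresentation g ∧
      LocallyOfFiniteType (g ≫ f) ∧ x ∈ Set.range g) :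
    LocallyOfFiniteType f := by
  rw [HasRingHomProperty.iff_exists_appLE (P := @LocallyOfFiniteType)
    (RingHom.finiteType_stableUnderComposition.stableUnderCompositionWithLocalizationAway
      RingHom.finiteType_holdsForLocalizationAway).left]
  intro x
  obtain ⟨X', g, hfl, hfp, hcomp, z, rfl⟩ := H x
  obtain ⟨W₀, hW₀, hxW₀⟩ : ∃ W₀ : Y.Opens, IsAffineOpen W₀ ∧ f (g z) ∈ W₀ := by
    obtain ⟨_, ⟨W₀, hW₀ : IsAffineOpen W₀, rfl⟩, hx, -⟩ :=
      Y.isBasis_affineOpens.exists_subset_of_mem_open (Set.mem_univ (f (g z))) isOpen_univ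
    exact ⟨W₀, hW₀, hx⟩
  obtain ⟨V, hV, U, hU, e, hVW, hxV, hff, hfp'⟩ := exists_affine_fppf_chart g z (f ⁻¹ᵁ W₀) hxW₀
  refine ⟨⟨W₀, hW₀⟩, ⟨V, hV⟩, hxV, hVW, ?_⟩
  refine ringHom_finiteType_of_faithfullyFlat_fp (f.appLE W₀ V hVW).hom
    (g.appLE V U e).hom ?_ hff hfp'
  rw [← CommRingCat.hom_comp, Scheme.Hom.appLE_comp_appLE]
  exact HasRingHomProperty.appLE (P := @LocallyOfFiniteType) (g ≫ f) hcomp
    ⟨W₀, hW₀⟩ ⟨U, hU⟩ _

-- S9844
set_option backward.isDefEq.respectTransparency.types false in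
theorem isLocalAtSource_lft_fppf :
    MorphismProperty.IsLocalAtSource (@LocallyOfFiniteType : MorphismProperty Scheme.{u})
      Scheme.fppfPrecoverage := by
  refine MorphismProperty.IsLocalAtSource.mk_of_iff_of_zeroHypercover fun {X Y} f 𝒰 => ?_
  have hmem : 𝒰.presieve₀ ∈ Scheme.precoverage (@Flat ⊓ @LocallyOfFinitePresentation) X := 𝒰.mem₀
  rw [Scheme.presieve₀_mem_precoverage_iff] at hmem
  obtain ⟨hsurj, hprop⟩ := hmem
  constructor
  · intro hf i
    have h2 : LocallyOfFinitePresentation (𝒰.f i) := (hprop i).2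
    infer_instance
  · intro h
    refine lft_of_forall_exists_fppf f fun x => ?_
    obtain ⟨i, z, rfl⟩ := hsurj x
    exact ⟨_, 𝒰.f i, (hprop i).1, (hprop i).2, h i, ⟨z, rfl⟩⟩


/-- étale descends along a faithfully flat étale map on the source (ring form) -/
theorem etale_of_faithfullyFlat_etale (R A B : Type u) [CommRing R] [CommRing A] [CommRing B]
    [Algebra R A] [Algebra A B] [Algebra R B] [IsScalarTower R A B] [Algebra.Etale R B]
    [Module.FaithfullyFlat A B] [Algebra.Etale A B] : Algebra.Etale R A := by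
  haveI : Algebra.FinitePresentation R A := finitePresentation_of_faithfullyFlat_fp R A B
  haveI : Module.Flat R A := Groth.Agent.Lib.Helper18.FibBridge.flat_of_faithfullyFlat_comp R A B
  haveI : Algebra.FormallyUnramified R A := by
    constructor
    haveI : Subsingleton (Ω[B⁄R]) := inferInstance
    haveI : Subsingleton (B ⊗[A] Ω[A⁄R]) :=
      (KaehlerDifferential.tensorKaehlerEquivOfFormallyEtale R A B).toEquiv.injective.subsingleton
    exact Module.FaithfullyFlat.lTensor_reflects_triviality A B _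
  exact .of_formallyUnramified_of_flat

theorem ringHom_etale_of_faithfullyFlat_etale {R A B : Type u} [CommRing R] [CommRing A]
    [CommRing B] (φ₁ : R →+* A) (φ₂ : A →+* B) (h : (φ₂.comp φ₁).Etale)
    (hff : φ₂.FaithfullyFlat) (het : φ₂.Etale) : φ₁.Etale := by
  algebraize [φ₁, φ₂, φ₂.comp φ₁]
  exact (RingHom.etale_algebraMap).2 (etale_of_faithfullyFlat_etale R A B)


theorem etale_stableUnderCompositionWithLocalizationAwaySource :
    RingHom.StableUnderCompositionWithLocalizationAwaySource.{u} RingHom.Etale := by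
  intro R S T _ _ _ _ r _ f hf
  exact RingHom.Etale.stableUnderComposition _ _
    ((RingHom.etale_algebraMap).2 (Algebra.Etale.of_isLocalizationAway r)) hf

set_option maxHeartbeats 1000000 in
/-- étale is étale local on the source, pointwise form -/
theorem etale_of_forall_exists_etale {X Y : Scheme.{u}} (f : X ⟶ Y)
    (H : ∀ x : X, ∃ (X' : Scheme.{u}) (g : X' ⟶ X), Etale g ∧ Etale (g ≫ f) ∧ x ∈ Set.range g) :
    Etale f := by
  rw [HasRingHomProperty.iff_exists_appLE (P := @Etale)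
    etale_stableUnderCompositionWithLocalizationAwaySource]
  intro x
  obtain ⟨X', g, het, hcomp, z, rfl⟩ := H x
  obtain ⟨W₀, hW₀, hxW₀⟩ : ∃ W₀ : Y.Opens, IsAffineOpen W₀ ∧ f (g z) ∈ W₀ := by
    obtain ⟨_, ⟨W₀, hW₀ : IsAffineOpen W₀, rfl⟩, hx, -⟩ :=
      Y.isBasis_affineOpens.exists_subset_of_mem_open (Set.mem_univ (f (g z))) isOpen_univ
    exact ⟨W₀, hW₀, hx⟩
  obtain ⟨V, hV, U, hU, e, hVW, hxV, hff, -⟩ := exists_affine_fppf_chart g z (f ⁻¹ᵁ W₀) hxW₀
  refine ⟨⟨W₀, hW₀⟩, ⟨V, hV⟩, hxV, hVW, ?_⟩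
  refine ringHom_etale_of_faithfullyFlat_etale (f.appLE W₀ V hVW).hom
    (g.appLE V U e).hom ?_ hff
    (HasRingHomProperty.appLE (P := @Etale) g het ⟨V, hV⟩ ⟨U, hU⟩ e)
  rw [← CommRingCat.hom_comp, Scheme.Hom.appLE_comp_appLE]
  exact HasRingHomProperty.appLE (P := @Etale) (g ≫ f) hcomp ⟨W₀, hW₀⟩ ⟨U, hU⟩ _

-- S9847
set_option backward.isDefEq.respectTransparency.types false in
theorem isLocalAtSource_etale_etale :
    MorphismProperty.IsLocalAtSource (@Etale : MorphismProperty Scheme.{u})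
      Scheme.etalePrecoverage := by
  refine MorphismProperty.IsLocalAtSource.mk_of_iff_of_zeroHypercover fun {X Y} f 𝒰 => ?_
  have hmem : 𝒰.presieve₀ ∈ Scheme.precoverage (@Etale) X := 𝒰.mem₀
  rw [Scheme.presieve₀_mem_precoverage_iff] at hmem
  obtain ⟨hsurj, hprop⟩ := hmem
  constructor
  · intro hf i
    have h2 : Etale (𝒰.f i) := hprop i
    infer_instance
  · intro h
    refine etale_of_forall_exists_etale f fun x => ?_
    obtain ⟨i, z, rfl⟩ := hsurj x
    exact ⟨_, 𝒰.f i, hprop i, h i, ⟨z, rfl⟩⟩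

end Groth.Agent.Lib.Helper14.AS
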