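import Groth.Agent.Lib.Helper14.AlgSpQCMor2
import Groth.Agent.Lib.Helper14.AlgSpImm

/-!
# Affine morphisms of sheaves (helper14)
-/

universe u
open CategoryTheory CategoryTheory.Limits AlgebraicGeometry Opposite Topology

namespace Groth.Agent.Lib.Helper14.AS

open AlgSp

variable {S : Scheme.{u}}

theorem isAffineMor_of_isPullback {F G G' F' : Sp S} {f : F ⟶ G} {g : G' ⟶ G}
    {fst : F' ⟶ F} {snd : F' ⟶ G'} (sq : IsPullback fst snd f g) (hf : IsAffineMor f) :
    IsAffineMor snd := by
  intro Z hZ z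
  obtain ⟨W, i, a, sqW, hW⟩ := hf hZ (z ≫ g)
  refine ⟨W, i, sq.lift a ((yon S).map i ≫ z) (by rw [sqW.w, Category.assoc]), ?_, hW⟩
  refine IsPullback.of_right ?_ (sq.lift_snd _ _ _) sq
  rw [sq.lift_fst]
  exact sqW

theorem isAffineMor_comp {F G H : Sp S} {f : F ⟶ G} {g : G ⟶ H} (hf : IsAffineMor f)
    (hg : IsAffineMor g) : IsAffineMor (f ≫ g) := by
  intro Z hZ z
  obtain ⟨W, i, a, sqW, hW⟩ := hg hZ z
  obtain ⟨W', i', a', sqW', hW'⟩ := hf hW a
  refine ⟨W', i' ≫ i, a', ?_, hW'⟩
  rw [Functor.map_comp]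
  exact sqW'.paste_vert sqW

set_option backward.isDefEq.respectTransparency.types false in
theorem isAffineMor_of_repWith {F G : Sp S} {f : F ⟶ G} (hf : RepWith @IsAffineHom f) :
    IsAffineMor f := by
  intro Z hZ z
  have sq := hf.rep.isPullback z
  have h1 : IsAffineHom (hf.rep.snd z).left := hf.property_snd z
  refine ⟨hf.rep.pullback z, hf.rep.snd z, hf.rep.fst z, sq, ?_⟩
  exact isAffine_of_isAffineHom (hf.rep.snd z).left

theorem isClosedImmersion_le_isAffineHom :
    (@IsClosedImmersion : MorphismProperty Scheme.{u}) ≤ @IsAffineHom :=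
  fun _ _ _ h => by have := h; infer_instance

theorem isAffineMor_of_repWith_isClosedImmersion {F G : Sp S} {f : F ⟶ G}
    (hf : RepWith @IsClosedImmersion f) : IsAffineMor f :=
  isAffineMor_of_repWith (repWith_mono isClosedImmersion_le_isAffineHom hf)

/-- If `g ≫ q` is affine and the diagonal of `q` is affine, then `g` is affine. -/
theorem isAffineMor_of_comp {X Y B : Sp S} (g : X ⟶ Y) (q : Y ⟶ B)
    (hp : IsAffineMor (g ≫ q)) (hq : IsAffineMor (pullback.diagonal q)) : IsAffineMor g := by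
  have sqG := isPullback_graph g q
  have hΓ : IsAffineMor (pullback.lift (𝟙 X) g (by simp) : X ⟶ pullback (g ≫ q) q) :=
    isAffineMor_of_isPullback sqG.flip hq
  have hpr : IsAffineMor (pullback.snd (g ≫ q) q) :=
    isAffineMor_of_isPullback (IsPullback.of_hasPullback (g ≫ q) q) hp
  have := isAffineMor_comp hΓ hpr
  rwa [pullback.lift_snd] at this

end Groth.Agent.Lib.Helper14.AS
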