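import Groth.Agent.Lib.Helper14.AlgSpUCQC
import Groth.Agent.Lib.Helper14.AlgSpImm
import Groth.Agent.Lib.Helper14.FppfLocalInst2

/-!
# Separation descends along surjective universally closed morphisms (helper14)
-/

universe u
open CategoryTheory CategoryTheory.Limits AlgebraicGeometry Opposite Topology

namespace Groth.Agent.Lib.Helper14.AS

open AlgSp

variable {S : Scheme.{u}}

section Cat

variable {C : Type*} [Category C] [HasPullbacks C]

set_option backward.isDefEq.respectTransparency false in
theorem isPullback_map_fst {A A' B D : C} (f : A' ⟶ A) (a : A ⟶ B) (c : D ⟶ B) :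
    IsPullback (pullback.map (f ≫ a) c a c f (𝟙 D) (𝟙 B) (by simp) (by simp))
      (pullback.fst (f ≫ a) c) (pullback.fst a c) f := by
  refine IsPullback.of_right ?_ (by simp) (IsPullback.of_hasPullback a c).flip
  have : pullback.map (f ≫ a) c a c f (𝟙 D) (𝟙 B) (by simp) (by simp) ≫ pullback.snd a c =
      pullback.snd (f ≫ a) c := by simp
  rw [this]
  exact (IsPullback.of_hasPullback (f ≫ a) c).flip

set_option backward.isDefEq.respectTransparency false in
theorem isPullback_map_snd {A A' B D : C} (f : A' ⟶ A) (a : A ⟶ B) (c : D ⟶ B) :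
    IsPullback (pullback.map c (f ≫ a) c a (𝟙 D) f (𝟙 B) (by simp) (by simp))
      (pullback.snd c (f ≫ a)) (pullback.snd c a) f := by
  refine IsPullback.of_right ?_ (by simp) (IsPullback.of_hasPullback c a)
  have : pullback.map c (f ≫ a) c a (𝟙 D) f (𝟙 B) (by simp) (by simp) ≫ pullback.fst c a =
      pullback.fst c (f ≫ a) := by simp
  rw [this]
  exact (IsPullback.of_hasPullback c (f ≫ a))

end Cat

theorem isUnivClosedMor_comp {X Y Z : Sp S} (hY : IsAlgSpace Y) (hZ : RepDiag Z) {f : X ⟶ Y}
    {g : Y ⟶ Z} (hf : IsUnivClosedMor f) (hg : IsUnivClosedMor g) : IsUnivClosedMor (f ≫ g) := by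
  intro T T' hT t a b sq
  have sqY := IsPullback.of_hasPullback g t
  have hYT : IsAlgSpace (pullback g t) := isAlgSpace_of_isPullback hZ hY hT sqY
  have hc : (a ≫ f) ≫ g = b ≫ t := by rw [Category.assoc]; exact sq.w
  have key : IsPullback a (sqY.lift (a ≫ f) b hc) f (pullback.fst g t) := by
    refine IsPullback.of_bot ?_ (sqY.lift_fst _ _ _).symm sqY
    rw [sqY.lift_snd]
    exact sq
  have h1 : IsClosedMap (Points.map (sqY.lift (a ≫ f) b hc)) := hf hYT _ _ _ key
  have h2 : IsClosedMap (Points.map (pullback.snd g t)) := hg hT _ _ _ sqY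
  have : Points.map b = Points.map (pullback.snd g t) ∘ Points.map (sqY.lift (a ≫ f) b hc) := by
    funext x
    rw [Function.comp_apply, ← Points.map_comp, sqY.lift_snd]
  change IsClosedMap (Points.map b)
  rw [this]
  exact h2.comp h1

theorem isSurjectiveMor_comp {X Y Z : Sp S} {f : X ⟶ Y} {g : Y ⟶ Z} (hf : IsSurjectiveMor f)
    (hg : IsSurjectiveMor g) : IsSurjectiveMor (f ≫ g) := by
  have : Points.map (f ≫ g) = Points.map g ∘ Points.map f := funext (Points.map_comp f g)
  change Function.Surjective (Points.map (f ≫ g))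
  rw [this]
  exact hg.comp hf

theorem isUnivClosedMor_of_comp_surjective {X Y Z : Sp S} {f : X ⟶ Y} {g : Y ⟶ Z}
    (hf : IsSurjectiveMor f) (h : IsUnivClosedMor (f ≫ g)) : IsUnivClosedMor g := by
  intro T T' hT t a b sq
  have sq1 := IsPullback.of_hasPullback f a
  have big := sq1.paste_vert sq
  have hcl := h hT t _ _ big
  exact isClosedMap_points_of_comp_surjective _ _ (isSurjectiveMor_of_isPullback sq1 hf) hcl

set_option backward.isDefEq.respectTransparency false in
/-- The map `X ×_B X ⟶ Y ×_B Y` induced by a surjective universally closed `f : X ⟶ Y` over `B`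
is surjective and universally closed. -/
theorem fibreSquare_map_properties {X Y B : Sp S} (hX : IsAlgSpace X) (hY : IsAlgSpace Y)
    (hB : IsAlgSpace B) (f : X ⟶ Y) (q : Y ⟶ B) (hs : IsSurjectiveMor f)
    (hc : IsUnivClosedMor f) :
    IsSurjectiveMor (pullback.map (f ≫ q) (f ≫ q) q q f f (𝟙 B) (by simp) (by simp)) ∧
    IsUnivClosedMor (pullback.map (f ≫ q) (f ≫ q) q q f f (𝟙 B) (by simp) (by simp)) := by
  have hBd := repDiag_of_isAlgSpace hB
  have e : pullback.map (f ≫ q) (f ≫ q) q q f f (𝟙 B) (by simp) (by simp) =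
      pullback.map (f ≫ q) (f ≫ q) (f ≫ q) q (𝟙 X) f (𝟙 B) (by simp) (by simp) ≫
      pullback.map (f ≫ q) q q q f (𝟙 Y) (𝟙 B) (by simp) (by simp) := by
    apply pullback.hom_ext <;> simp
  have sq1 := isPullback_map_snd f q (f ≫ q)
  have sq2 := isPullback_map_fst f q q
  have hM : IsAlgSpace (pullback (f ≫ q) q) :=
    isAlgSpace_of_isPullback hBd hX hY (IsPullback.of_hasPullback _ _)
  have hYY : IsAlgSpace (pullback q q) :=
    isAlgSpace_of_isPullback hBd hY hY (IsPullback.of_hasPullback _ _)
  rw [e]
  exact ⟨isSurjectiveMor_comp (isSurjectiveMor_of_isPullback sq1.flip hs)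
      (isSurjectiveMor_of_isPullback sq2.flip hs),
    isUnivClosedMor_comp hM (repDiag_of_isAlgSpace hYY) (univSp_of_isPullback _ sq1.flip hc)
      (univSp_of_isPullback _ sq2.flip hc)⟩

set_option backward.isDefEq.respectTransparency false in
theorem diagonal_comp_map {X Y B : Sp S} (f : X ⟶ Y) (q : Y ⟶ B) :
    pullback.diagonal (f ≫ q) ≫ pullback.map (f ≫ q) (f ≫ q) q q f f (𝟙 B) (by simp) (by simp) =
      f ≫ pullback.diagonal q := by
  apply pullback.hom_ext <;> simp

set_option backward.isDefEq.respectTransparency.types false in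
/-- Quasi-separatedness and separatedness descend along surjective universally closed
morphisms. -/
theorem separation_of_surjective_univClosed {X Y B : Sp S} (hX : IsAlgSpace X)
    (hY : IsAlgSpace Y) (hB : IsAlgSpace B) (f : X ⟶ Y) (q : Y ⟶ B) (hs : IsSurjectiveMor f)
    (hc : IsUnivClosedMor f) :
    (IsQuasiSeparatedMor (f ≫ q) → IsQuasiSeparatedMor q) ∧
    (IsSeparatedMor (f ≫ q) → IsSeparatedMor q) := by
  have hBd := repDiag_of_isAlgSpace hB
  obtain ⟨hFs, hFc⟩ := fibreSquare_map_properties hX hY hB f q hs hc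
  have hXX : IsAlgSpace (pullback (f ≫ q) (f ≫ q)) :=
    isAlgSpace_of_isPullback hBd hX hX (IsPullback.of_hasPullback _ _)
  have hYY : IsAlgSpace (pullback q q) :=
    isAlgSpace_of_isPullback hBd hY hY (IsPullback.of_hasPullback _ _)
  have hYYd := repDiag_of_isAlgSpace hYY
  obtain ⟨hrep, hlft, hmono, -, -⟩ := diagonal_hom_properties hY q
  constructor
  · intro hp
    have h1 : IsQuasiCompactMor (pullback.diagonal (f ≫ q)) := isQuasiCompactMor_of_repWith hp
    have h2 := isQuasiCompactMor_comp hXX hYYd h1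
      (isQuasiCompactMor_of_isUnivClosedMor hXX hYY hFc)
    rw [diagonal_comp_map] at h2
    have h3 := isQuasiCompactMor_of_surjective_triangle hY hYYd f (pullback.diagonal q) hs h2
    exact repWith_quasiCompact_of_isQuasiCompactMor hrep h3
  · intro hp
    have h0 : RepWith @UniversallyClosed (pullback.diagonal (f ≫ q)) :=
      repWith_mono isClosedImmersion_le_universallyClosed hp
    have h1 : IsUnivClosedMor (pullback.diagonal (f ≫ q)) :=
      (repWith_universallyClosed_iff_isUnivClosedMor h0.rep).1 h0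
    have h2 := isUnivClosedMor_comp hXX hYYd h1 hFc
    rw [diagonal_comp_map] at h2
    have h3 := isUnivClosedMor_of_comp_surjective hs h2
    have h4 : RepWith @UniversallyClosed (pullback.diagonal q) :=
      (repWith_universallyClosed_iff_isUnivClosedMor hrep).2 h3
    have h5 := repWith_inf (repWith_inf h4 hlft) hmono
    rw [← FL.isClosedImmersion_eq] at h5
    exact h5

end Groth.Agent.Lib.Helper14.AS
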