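import Mathlib
import Groth.Agent.Lib.Helper14.AlgSpUnram
import Groth.Agent.Lib.Helper14.FpqcCover2
import Groth.Agent.Lib.Helper14.AlgSpSepDescent
import Groth.Agent.Lib.Helper14.AlgSpImm
import Groth.Agent.Lib.Helper14.AlgSpQCMor2
import Groth.Agent.Lib.Helper14.AlgSpClosed

/-!
# Proper morphisms of algebraic spaces (helper14)
-/

universe u
open CategoryTheory CategoryTheory.Limits AlgebraicGeometry Opposite Topology

namespace Groth.Agent.Lib.Helper14.AS

open AlgSp

variable {S : Scheme.{u}}

theorem locP_mono {P Q : MorphismProperty Scheme.{u}} (h : P ≤ Q) {X Y : Sp S} {f : X ⟶ Y}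
    (hf : LocP P f) : LocP Q f :=
  fun _ _ a b k ha hb comm => h _ (hf a b k ha hb comm)

set_option backward.isDefEq.respectTransparency.types false in
/-- An etale covering of an algebraic space is an fpqc covering. -/
theorem isFpqcCover_of_isEtCover {X : Sp S} (hX : IsAlgSpace X) {ι : Type u} (Xi : ι → Sp S)
    (g : ∀ i, Xi i ⟶ X) (hXi : ∀ i, IsAlgSpace (Xi i)) (h : IsEtCover Xi g) :
    IsFpqcCover Xi g :=
  isFpqcCover_of_isFppfCover hX Xi g hXi
    ⟨fun i => ⟨locP_mono etale_le_flat (locP_etale_of_isEtaleMor (h.1 i)),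
      locP_mono etale_le_lfp (locP_etale_of_isEtaleMor (h.1 i))⟩, h.2⟩

set_option backward.isDefEq.respectTransparency.types false in
/-- A surjective etale chart is an fpqc covering. -/
theorem isFpqcCover_of_atlas {Y : Sp S} (hY : IsAlgSpace Y) {V : Over S}
    (p : (yon S).obj V ⟶ Y) (hp : RepWith @Etale p) (hps : RepWith @Surjective p) :
    IsFpqcCover (fun _ : PUnit.{u+1} => (yon S).obj V) (fun _ => p) :=
  isFpqcCover_of_isEtCover hY _ _ (fun _ => IsAlgSpace.yon_obj V)
    ⟨fun _ => isEtaleMor_of_repWith_etale hp,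
      fun x => ⟨PUnit.unit, points_map_surjective_of_repWith hps x⟩⟩

set_option backward.isDefEq.respectTransparency.types false in
/-- The affine opens of an atlas form an fpqc covering. -/
theorem exists_affine_fpqcCover {Y : Sp S} (hY : IsAlgSpace Y) :
    ∃ (ι : Type u) (Vi : ι → Over S) (g : ∀ i, (yon S).obj (Vi i) ⟶ Y),
      (∀ i, IsAffine (Vi i).left) ∧ (∀ i, RepWith @Etale (g i)) ∧
      IsFpqcCover (fun i => (yon S).obj (Vi i)) g := by
  obtain ⟨V, b, hbe, hbs⟩ := hY.atlas
  let 𝒰 := V.left.affineCover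
  let Vi : 𝒰.I₀ → Over S := fun i => Over.mk (𝒰.f i ≫ V.hom)
  let ji : ∀ i, Vi i ⟶ V := fun i => Over.homMk (𝒰.f i) rfl
  have hje : ∀ i, RepWith @Etale ((yon S).map (ji i)) := fun i =>
    (repWith_yon_map_iff _ _).2 (by change Etale (𝒰.f i); infer_instance)
  have hge : ∀ i, RepWith @Etale ((yon S).map (ji i) ≫ b) := fun i => repWith_comp _ (hje i) hbe
  refine ⟨𝒰.I₀, Vi, fun i => (yon S).map (ji i) ≫ b,
    fun i => by change IsAffine (𝒰.X i); infer_instance, hge, ?_⟩
  refine isFpqcCover_of_isEtCover hY _ _ (fun i => IsAlgSpace.yon_obj _)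
    ⟨fun i => isEtaleMor_of_repWith_etale (hge i), fun y => ?_⟩
  obtain ⟨v, rfl⟩ := ofPt_surjective_of_repWith hbs y
  obtain ⟨i, w, hw⟩ := 𝒰.exists_eq v
  refine ⟨i, Points.schemeHomeo (Vi i) w, ?_⟩
  rw [Points.map_comp, Points.map_yon_map_apply]
  change Points.map b (Points.ofScheme V (𝒰.f i w)) = _
  rw [← Points.ofPt_eq_map_ofScheme, hw]

set_option backward.isDefEq.respectTransparency.types false in
/-- Proper morphisms are stable under base change. -/
theorem isProperMor_of_isPullback {X Y Y' X' : Sp S} (hX : IsAlgSpace X) (hY : IsAlgSpace Y)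
    (hY' : IsAlgSpace Y') {f : X ⟶ Y} {g : Y' ⟶ Y} {fst : X' ⟶ X} {f' : X' ⟶ Y'}
    (sq : IsPullback fst f' f g) (hf : IsProperMor f) : IsProperMor f' :=
  ⟨MorphismProperty.of_isPullback (P := (RepWith (S := S) @IsClosedImmersion).diagonal) sq hf.1,
    ⟨locP_baseChange etLocal_lft hX hY hY' f g fst f' sq hf.2.1.1,
      isQuasiCompactMor_of_isPullback sq hf.2.1.2⟩,
    univSp_of_isPullback _ sq hf.2.2⟩

/-- Properness descends along a surjective etale chart of the target. -/
theorem isProperMor_of_etale_cover {X Y : Sp S} (hX : IsAlgSpace X) (hY : IsAlgSpace Y)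
    (f : X ⟶ Y) (V : Over S) (p : (yon S).obj V ⟶ Y) (hp : RepWith @Etale p)
    (hps : RepWith @Surjective p) {P : Sp S} (fst : P ⟶ X) (snd : P ⟶ (yon S).obj V)
    (sq : IsPullback fst snd f p) (h : IsProperMor snd) : IsProperMor f := by
  have hP : IsAlgSpace P :=
    isAlgSpace_of_isPullback (repDiag_of_isAlgSpace hY) hX (IsAlgSpace.yon_obj V) sq
  exact (isLocalOnBase_fpqc_isProperMor _ _ hY (fun _ => IsAlgSpace.yon_obj V)
    (isFpqcCover_of_atlas hY p hp hps) f hX (fun _ => P) (fun _ => snd) (fun _ => fst)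
    (fun _ => hP) (fun _ => sq)).2 (fun _ => h)

/-- Properness can be tested after base change to affine schemes. -/
theorem isProperMor_of_affine {X Y : Sp S} (hX : IsAlgSpace X) (hY : IsAlgSpace Y) (f : X ⟶ Y)
    (H : ∀ (Z : Over S), IsAffine Z.left → ∀ (g : (yon S).obj Z ⟶ Y) (P : Sp S) (fst : P ⟶ X)
      (snd : P ⟶ (yon S).obj Z), IsPullback fst snd f g → IsProperMor snd) : IsProperMor f := by
  obtain ⟨ι, Vi, g, hVa, hge, hcov⟩ := exists_affine_fpqcCover hY
  have hPi : ∀ i, IsAlgSpace (pullback f (g i)) := fun i =>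
    isAlgSpace_of_isPullback (repDiag_of_isAlgSpace hY) hX (IsAlgSpace.yon_obj _)
      (IsPullback.of_hasPullback _ _)
  exact (isLocalOnBase_fpqc_isProperMor _ _ hY (fun i => IsAlgSpace.yon_obj _) hcov f hX
    (fun i => pullback f (g i)) (fun i => pullback.snd _ _) (fun i => pullback.fst _ _) hPi
    (fun i => IsPullback.of_hasPullback _ _)).2
    (fun i => H (Vi i) (hVa i) _ _ _ _ (IsPullback.of_hasPullback _ _))

/-- The diagonal of a composition. -/
theorem repWith_diagonal_comp (P : MorphismProperty Scheme.{u}) [P.IsStableUnderComposition]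
    [P.IsStableUnderBaseChange] [P.ContainsIdentities] {X Y Z : Sp S} (f : X ⟶ Y) (g : Y ⟶ Z)
    (hf : RepWith P (pullback.diagonal f)) (hg : RepWith P (pullback.diagonal g)) :
    RepWith P (pullback.diagonal (f ≫ g)) := by
  rw [pullback.diagonal_comp]
  refine repWith_comp _ hf (repWith_comp _ (repWith_of_isIso _ _) ?_)
  exact MorphismProperty.of_isPullback (P := RepWith P) (IsPullback.of_hasPullback _ _) hg

set_option backward.isDefEq.respectTransparency.types false in
/-- Proper morphisms of algebraic spaces are stable under composition. -/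
theorem isProperMor_comp {X Y Z : Sp S} (hX : IsAlgSpace X) (hY : IsAlgSpace Y)
    (hZ : IsAlgSpace Z) {f : X ⟶ Y} {g : Y ⟶ Z} (hf : IsProperMor f) (hg : IsProperMor g) :
    IsProperMor (f ≫ g) :=
  ⟨repWith_diagonal_comp _ f g hf.1 hg.1,
    ⟨locP_comp etLocal_lft hX hY hZ f g hf.2.1.1 hg.2.1.1,
      isQuasiCompactMor_comp hY (repDiag_of_isAlgSpace hZ) hf.2.1.2 hg.2.1.2⟩,
    isUnivClosedMor_comp hY (repDiag_of_isAlgSpace hZ) hf.2.2 hg.2.2⟩

theorem isClosedImmersion_le_lft :
    (@IsClosedImmersion : MorphismProperty Scheme.{u}) ≤ @LocallyOfFiniteType :=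
  fun _ _ _ h => by have := h; infer_instance

set_option backward.isDefEq.respectTransparency.types false in
/-- A closed immersion is proper. -/
theorem isProperMor_of_repWith_isClosedImmersion {X Y : Sp S} {i : X ⟶ Y}
    (hi : RepWith @IsClosedImmersion i) : IsProperMor i :=
  ⟨isSeparatedMor_of_repWith_isClosedImmersion hi,
    ⟨locP_of_repWith etale_le_lft (repWith_mono isClosedImmersion_le_lft hi),
      isQuasiCompactMor_of_repWith (repWith_mono isClosedImmersion_le_quasiCompact hi)⟩,
    (repWith_universallyClosed_iff_isUnivClosedMor hi.rep).1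
      (repWith_mono isClosedImmersion_le_universallyClosed hi)⟩

set_option backward.isDefEq.respectTransparency.types false in
/-- A morphism whose diagonal is universally closed is separated. -/
theorem isSeparatedMor_of_isUnivClosedMor_diagonal {X Y : Sp S} (hX : IsAlgSpace X) (f : X ⟶ Y)
    (h : IsUnivClosedMor (pullback.diagonal f)) : IsSeparatedMor f := by
  obtain ⟨hrep, hlft, hmono, hsep, -⟩ := diagonal_hom_properties hX f
  have huc : RepWith @UniversallyClosed (pullback.diagonal f) :=
    (repWith_universallyClosed_iff_isUnivClosedMor hrep).2 h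
  have hall := repWith_inf (repWith_inf (repWith_inf hlft hmono) hsep) huc
  refine repWith_mono ?_ hall
  rintro A B k ⟨⟨⟨h1, h2⟩, h3⟩, h4⟩
  have : LocallyOfFiniteType k := h1
  have : Mono k := h2
  have : IsSeparated k := h3
  have : UniversallyClosed k := h4
  have : IsProper k := {}
  exact (IsClosedImmersion.iff_isProper_and_mono k).2 ⟨inferInstance, inferInstance⟩

theorem isClosedMap_points_of_isUnivClosedMor {X Y : Sp S} (hY : IsAlgSpace Y) {f : X ⟶ Y}
    (h : IsUnivClosedMor f) : IsClosedMap (Points.map f) :=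
  h hY (𝟙 Y) (𝟙 X) f (IsPullback.id_vert f).flip

set_option backward.isDefEq.respectTransparency.types false in
/-- Over a separated `q : Y ⟶ B`, a morphism `f : X ⟶ Y` with `f ≫ q` universally closed is
universally closed; likewise for proper. -/
theorem univClosed_proper_over_separated {X Y B : Sp S} (hX : IsAlgSpace X) (hY : IsAlgSpace Y)
    (hB : IsAlgSpace B) (f : X ⟶ Y) (q : Y ⟶ B) (hq : IsSeparatedMor q) :
    (IsUnivClosedMor (f ≫ q) → IsUnivClosedMor f) ∧ (IsProperMor (f ≫ q) → IsProperMor f) := by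
  have sqG := isPullback_graph f q
  have hΓ : RepWith @IsClosedImmersion (pullback.lift (𝟙 X) f (by simp) : X ⟶ pullback (f ≫ q) q) :=
    MorphismProperty.of_isPullback (P := RepWith @IsClosedImmersion) sqG.flip hq
  have hΓp := isProperMor_of_repWith_isClosedImmersion hΓ
  have sqP := IsPullback.of_hasPullback (f ≫ q) q
  have hP : IsAlgSpace (pullback (f ≫ q) q) :=
    isAlgSpace_of_isPullback (repDiag_of_isAlgSpace hB) hX hY sqP
  have hfac : (pullback.lift (𝟙 X) f (by simp) : X ⟶ pullback (f ≫ q) q) ≫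
      pullback.snd (f ≫ q) q = f := pullback.lift_snd _ _ _
  constructor
  · intro hp
    have h2 : IsUnivClosedMor (pullback.snd (f ≫ q) q) := univSp_of_isPullback _ sqP hp
    have := isUnivClosedMor_comp hP (repDiag_of_isAlgSpace hY) hΓp.2.2 h2
    rwa [hfac] at this
  · intro hp
    have h2 : IsProperMor (pullback.snd (f ≫ q) q) := isProperMor_of_isPullback hX hB hY sqP hp
    have := isProperMor_comp hX hP hY hΓp h2
    rwa [hfac] at this

end Groth.Agent.Lib.Helper14.AS
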