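import Mathlib
import Groth.Agent.Lib.Helper14.AlgSpProper
import Groth.Agent.Lib.Helper14.AlgSpAffineMor

/-!
# Integral and finite morphisms of algebraic spaces (helper14)
-/

universe u
open CategoryTheory CategoryTheory.Limits AlgebraicGeometry Opposite Topology

namespace Groth.Agent.Lib.Helper14.AS

open AlgSp

variable {S : Scheme.{u}}

set_option backward.isDefEq.respectTransparency.types false in
theorem isProper_of_isProperMor_yon_map {T T' : Over S} (φ : T ⟶ T')
    (h : IsProperMor ((yon S).map φ)) : IsProper φ.left := by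
  have h1 : IsSeparated φ.left := (isSeparatedMor_yon_map_iff φ).1 h.1
  have h2 : LocallyOfFiniteType φ.left := locP_yon_map h.2.1.1
  have h3 : UniversallyClosed φ.left :=
    (repWith_yon_map_iff _ _).1
      ((repWith_universallyClosed_iff_isUnivClosedMor (representable_yon_map φ)).2 h.2.2)
  exact {}

set_option backward.isDefEq.respectTransparency.types false in
theorem isProperMor_yon_map_of_isProper {T T' : Over S} (φ : T ⟶ T') (hφ : IsProper φ.left) :
    IsProperMor ((yon S).map φ) :=
  ⟨(isSeparatedMor_yon_map_iff φ).2 inferInstance,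
    ⟨locP_of_repWith etale_le_lft ((repWith_yon_map_iff _ _).2
        (inferInstance : LocallyOfFiniteType φ.left)),
      isQuasiCompactMor_of_repWith ((repWith_yon_map_iff _ _).2
        (inferInstance : QuasiCompact φ.left))⟩,
    (repWith_universallyClosed_iff_isUnivClosedMor (representable_yon_map φ)).1
      ((repWith_yon_map_iff _ _).2 (inferInstance : UniversallyClosed φ.left))⟩

theorem isClosedMap_points_of_isIso {F G : Sp S} (e : F ⟶ G) [IsIso e] :
    IsClosedMap (Points.map e) := by
  intro A hA
  have : Points.map e '' A = Points.map (inv e) ⁻¹' A := by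
    ext x
    constructor
    · rintro ⟨a, ha, rfl⟩
      change Points.map (inv e) (Points.map e a) ∈ A
      rw [← Points.map_comp, IsIso.hom_inv_id, Points.map_id]
      exact ha
    · intro hx
      refine ⟨Points.map (inv e) x, hx, ?_⟩
      rw [← Points.map_comp, IsIso.inv_hom_id, Points.map_id]
  rw [this]
  exact hA.preimage (Points.continuous_map _)

set_option backward.isDefEq.respectTransparency.types false in
/-- A morphism is integral iff it is affine and universally closed. -/
theorem isIntegralMor_iff_affine_univClosed {X Y : Sp S} (f : X ⟶ Y) :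
    IsIntegralMor f ↔ IsAffineMor f ∧ IsUnivClosedMor f := by
  constructor
  · intro h
    refine ⟨fun Z hZ g => ?_, ?_⟩
    · obtain ⟨W, i, fst, sq, hW, -⟩ := h hZ g
      exact ⟨W, i, fst, sq, hW⟩
    · rw [isUnivClosedMor_iff_affine]
      intro Z hZ g P fst snd sq
      obtain ⟨W, i, fst', sq', hW, hi⟩ := h hZ g
      have hsnd : (sq.isoIsPullback _ _ sq').hom ≫ (yon S).map i = snd :=
        IsPullback.isoIsPullback_hom_snd _ _ sq sq'
      have : IsIntegralHom i.left := hi
      have h1 : IsClosedMap (Points.map ((yon S).map i)) :=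
        (isClosedMap_points_yon_map_iff i).2 i.left.isClosedMap
      have h2 : IsClosedMap (Points.map (sq.isoIsPullback _ _ sq').hom) :=
        isClosedMap_points_of_isIso _
      have : Points.map snd = Points.map ((yon S).map i) ∘
          Points.map (sq.isoIsPullback _ _ sq').hom := by
        funext x
        rw [Function.comp_apply, ← Points.map_comp, hsnd]
      rw [this]
      exact h1.comp h2
  · rintro ⟨ha, hc⟩ Z hZ g
    obtain ⟨W, i, fst, sq, hW⟩ := ha hZ g
    refine ⟨W, i, fst, sq, hW, ?_⟩
    have h1 : IsUnivClosedMor ((yon S).map i) := univSp_of_isPullback _ sq hc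
    have h2 : UniversallyClosed i.left :=
      (repWith_yon_map_iff _ _).1
        ((repWith_universallyClosed_iff_isUnivClosedMor (representable_yon_map i)).2 h1)
    have : IsAffine Z.left := hZ
    have : IsAffine W.left := hW
    have h3 : IsAffineHom i.left := inferInstance
    exact IsIntegralHom.iff_universallyClosed_and_isAffineHom.2 ⟨h2, h3⟩

set_option backward.isDefEq.respectTransparency.types false in
/-- A morphism of algebraic spaces is finite iff it is affine and proper. -/
theorem isFiniteMor_iff_affine_proper {X Y : Sp S} (hX : IsAlgSpace X) (hY : IsAlgSpace Y)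
    (f : X ⟶ Y) : IsFiniteMor f ↔ IsAffineMor f ∧ IsProperMor f := by
  constructor
  · intro h
    refine ⟨fun Z hZ g => ?_, ?_⟩
    · obtain ⟨W, i, fst, sq, hW, -⟩ := h hZ g
      exact ⟨W, i, fst, sq, hW⟩
    · refine isProperMor_of_affine hX hY f fun Z hZ g P fst snd sq => ?_
      obtain ⟨W, i, fst', sq', hW, hi⟩ := h hZ g
      have hsnd : (sq.isoIsPullback _ _ sq').hom ≫ (yon S).map i = snd :=
        IsPullback.isoIsPullback_hom_snd _ _ sq sq'
      have : IsFinite i.left := hi
      have h1 : IsProperMor ((yon S).map i) := isProperMor_yon_map_of_isProper i inferInstance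
      have sqe : IsPullback (sq.isoIsPullback _ _ sq').hom snd ((yon S).map i) (𝟙 _) :=
        IsPullback.of_horiz_isIso ⟨by rw [hsnd, Category.comp_id]⟩
      exact isProperMor_of_isPullback (IsAlgSpace.yon_obj W) (IsAlgSpace.yon_obj Z)
        (IsAlgSpace.yon_obj Z) sqe h1
  · rintro ⟨ha, hp⟩ Z hZ g
    obtain ⟨W, i, fst, sq, hW⟩ := ha hZ g
    refine ⟨W, i, fst, sq, hW, ?_⟩
    have h1 : IsProperMor ((yon S).map i) :=
      isProperMor_of_isPullback hX hY (IsAlgSpace.yon_obj Z) sq hp
    have h2 : IsProper i.left := isProper_of_isProperMor_yon_map i h1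
    have : IsAffine Z.left := hZ
    have : IsAffine W.left := hW
    have h3 : IsAffineHom i.left := inferInstance
    exact (IsFinite.iff_isProper_and_isAffineHom (f := i.left)).2 ⟨h2, h3⟩

set_option backward.isDefEq.respectTransparency.types false in
/-- Cancellation for finite and integral morphisms against a separated morphism. -/
theorem finite_integral_of_comp_separated {X Y Z : Sp S} (hX : IsAlgSpace X)
    (hY : IsAlgSpace Y) (hZ : IsAlgSpace Z) (f : X ⟶ Y) (g : Y ⟶ Z) (hg : IsSeparatedMor g) :
    (IsFiniteMor (f ≫ g) → IsFiniteMor f) ∧ (IsIntegralMor (f ≫ g) → IsIntegralMor f) := by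
  have hΔ : IsAffineMor (pullback.diagonal g) := isAffineMor_of_repWith_isClosedImmersion hg
  obtain ⟨huc, hpr⟩ := univClosed_proper_over_separated hX hY hZ f g hg
  constructor
  · intro h
    obtain ⟨h1, h2⟩ := (isFiniteMor_iff_affine_proper hX hZ (f ≫ g)).1 h
    exact (isFiniteMor_iff_affine_proper hX hY f).2 ⟨isAffineMor_of_comp f g h1 hΔ, hpr h2⟩
  · intro h
    obtain ⟨h1, h2⟩ := (isIntegralMor_iff_affine_univClosed (f ≫ g)).1 h
    exact (isIntegralMor_iff_affine_univClosed f).2 ⟨isAffineMor_of_comp f g h1 hΔ, huc h2⟩

end Groth.Agent.Lib.Helper14.AS
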