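import Mathlib
import Groth.Prelude.Def_AlgSp4
import Groth.Agent.S9941
import Groth.Agent.Lib.Helper14.AlgSpAffine
import Groth.Agent.Lib.Helper14.AlgSpAffineMor

universe u
open CategoryTheory AlgebraicGeometry TopologicalSpace

namespace Groth.Agent.Lib.Helper14.AS
open Groth.Agent.Lib.Helper14.AS AlgSp CategoryTheory.Limits

variable {S : Scheme.{u}}

/-- Two pullbacks of the same cospan over a scheme have isomorphic projections. -/
theorem P_of_isPullback_of_isPullback {P : MorphismProperty Scheme.{u}} [P.RespectsIso]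
    {F G : Sp S} {f : F ⟶ G} {T W W' : Over S} {z : (yon S).obj T ⟶ G}
    {a : (yon S).obj W ⟶ F} {b : W ⟶ T} (sq : IsPullback a ((yon S).map b) f z)
    {a' : (yon S).obj W' ⟶ F} {b' : W' ⟶ T} (sq' : IsPullback a' ((yon S).map b') f z)
    (h : P b'.left) : P b.left := by
  let e := sq.isoIsPullback _ _ sq'
  have he : e.hom ≫ (yon S).map b' = (yon S).map b := sq.isoIsPullback_hom_snd _ _ sq'
  let e₀ : W ≅ W' := (yon S).preimageIso e
  have he₀ : e₀.hom ≫ b' = b := by
    apply (yon S).map_injective
    rw [Functor.map_comp]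
    simpa [e₀] using he
  have : b.left = e₀.hom.left ≫ b'.left := by rw [← Over.comp_left, he₀]
  rw [this]
  have : IsIso e₀.hom.left := inferInstanceAs (IsIso ((Over.forget S).map e₀.hom))
  exact (P.cancel_left_of_respectsIso e₀.hom.left b'.left).2 h

theorem isZariskiLocalAtTarget_isIntegralHom : IsZariskiLocalAtTarget @IsIntegralHom.{u} :=
  @HasAffineProperty.instIsZariskiLocalAtTarget _ _ IsIntegralHom.hasAffineProperty

theorem isZariskiLocalAtTarget_isFinite : IsZariskiLocalAtTarget @IsFinite.{u} :=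
  @HasAffineProperty.instIsZariskiLocalAtTarget _ _
    IsFinite.instHasAffinePropertyAndIsAffineFiniteCarrierObjOppositeOpensCarrierCarrierCommRingCatPresheafOpOpensTopHomAppTop

/-- Affine-tested properties implying affineness are representable properties. -/
theorem repWith_of_affine_test {P : MorphismProperty Scheme.{u}} [IsZariskiLocalAtTarget P]
    {X Y : Space S} (f : X ⟶ Y)
    (h : ∀ ⦃Z : Over S⦄, IsAffine Z.left → ∀ (g : (yon S).obj Z ⟶ Y.obj),
      ∃ (W : Over S) (i : W ⟶ Z) (fst : (yon S).obj W ⟶ X.obj),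
        IsPullback fst ((yon S).map i) f.hom g ∧ IsAffine W.left ∧ P i.left) :
    RepWith P f.hom := by
  have haff : IsAffineMor f.hom := fun Z hZ g => by
    obtain ⟨W, i, fst, sq, hW, -⟩ := h hZ g
    exact ⟨W, i, fst, sq, hW⟩
  have hrep : Representable f.hom := (Groth.Agent.S9941.result f haff).rep
  refine repWith_of_affine hrep fun T hT z W a b sq => ?_
  obtain ⟨W', i, fst, sq', -, hi⟩ := h hT z
  exact P_of_isPullback_of_isPullback sq sq' hi

theorem affine_test_of_repWith {P : MorphismProperty Scheme.{u}}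
    (hP : P ≤ @IsAffineHom) {F G : Sp S} {f : F ⟶ G} (hf : RepWith P f)
    ⦃Z : Over S⦄ (hZ : IsAffine Z.left) (g : (yon S).obj Z ⟶ G) :
    ∃ (W : Over S) (i : W ⟶ Z) (fst : (yon S).obj W ⟶ F),
      IsPullback fst ((yon S).map i) f g ∧ IsAffine W.left ∧ P i.left := by
  have h1 : P (hf.rep.snd g).left := hf.property_snd g
  have h2 : IsAffineHom (hf.rep.snd g).left := hP _ h1
  exact ⟨_, hf.rep.snd g, hf.rep.fst g, hf.rep.isPullback g,
    isAffine_of_isAffineHom (hf.rep.snd g).left, h1⟩

theorem integral_finite_iff_repWith {X Y : Space S} (f : X ⟶ Y) :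
    (IsIntegralMor f.hom ↔ RepWith @IsIntegralHom f.hom) ∧
    (IsFiniteMor f.hom ↔ RepWith @IsFinite f.hom) := by
  have := isZariskiLocalAtTarget_isIntegralHom.{u}
  have := isZariskiLocalAtTarget_isFinite.{u}
  refine ⟨⟨fun h => repWith_of_affine_test f h, fun h Z hZ g => ?_⟩,
    ⟨fun h => repWith_of_affine_test f h, fun h Z hZ g => ?_⟩⟩
  · exact affine_test_of_repWith (fun _ _ _ h => by have := h; infer_instance) h hZ g
  · exact affine_test_of_repWith (fun _ _ _ h => by have := h; infer_instance) h hZ g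

end Groth.Agent.Lib.Helper14.AS
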