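import Groth.Agent.Lib.Helper14.IntegralQf
import Groth.Agent.Lib.Helper14.AlgSpIntegral
import Groth.Agent.Lib.Helper14.IntFinRep
import Groth.Agent.Lib.Helper14.AlgSpProper

universe u
open CategoryTheory CategoryTheory.Limits AlgebraicGeometry Opposite TopologicalSpace

namespace Groth.Agent.Lib.Helper14.AS

open AlgSp

variable {S : Scheme.{u}}

theorem exists_point_of_isPullback_yon_right {F G : Sp S} {T W : Over S}
    {fst : (yon S).obj W ⟶ F} {snd : W ⟶ T} {f : F ⟶ G} {g : (yon S).obj T ⟶ G}
    (sq : IsPullback fst ((yon S).map snd) f g) (x : Points F) (t : ↥T.left)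
    (e : Points.map f x = Points.ofPt g t) :
    ∃ w : ↥W.left, Points.ofPt fst w = x ∧ snd.left w = t := by
  rw [Points.ofPt_eq_map_ofScheme g] at e
  obtain ⟨z, hz1, hz2⟩ := points_exists_of_isPullback sq _ _ e
  obtain ⟨w, rfl⟩ := (Points.schemeHomeo W).surjective z
  refine ⟨w, ?_, ?_⟩
  · rw [Points.ofPt_eq_map_ofScheme]
    exact hz1
  · have := (Points.map_yon_map_apply snd w).symm.trans hz2
    exact (Points.schemeHomeo T).injective this

set_option backward.isDefEq.respectTransparency.types false in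
/-- No nontrivial specializations in the fibres of a finite morphism of decent spaces. -/
theorem eq_of_specializes_of_map_eq_of_finite {X Y : Sp S} (hX : IsAlgSpace X)
    (f : Y ⟶ X) (hf : RepWith @IsFinite f) (hXd : IsDecent X) (hYd : IsDecent Y)
    {y z : Points Y} (hs : y ⤳ z) (he : Points.map f y = Points.map f z) : y = z := by
  obtain ⟨V, b, hbe, hbs⟩ := hX.atlas
  obtain ⟨v, hv⟩ := ofPt_surjective_of_repWith hbs (Points.map f z)
  have sq := hf.rep.isPullback b
  have hfin : IsFinite (hf.rep.snd b).left := hf.property_snd b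
  have hfst : RepWith @Etale (hf.rep.fst b) := repWith_of_isPullback _ sq.flip hbe
  obtain ⟨w, hw1, hw2⟩ := exists_point_of_isPullback_yon_right sq z v hv.symm
  obtain ⟨w', hw's, hw'⟩ := exists_generization_lift_of_isDecent hYd (hf.rep.fst b) hfst
    (x := y) (u' := w) (by rw [hw1]; exact hs)
  have hv' : Points.ofPt b ((hf.rep.snd b).left w') = Points.ofPt b ((hf.rep.snd b).left w) := by
    rw [← ofPt_yon_map_comp, ← ofPt_yon_map_comp, ← sq.w, ← Points.map_ofPt, ← Points.map_ofPt,
      hw', hw1, he]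
  have hsv : (hf.rep.snd b).left w' ⤳ (hf.rep.snd b).left w :=
    hw's.map (hf.rep.snd b).left.continuous
  have e1 : (hf.rep.snd b).left w = (hf.rep.snd b).left w' :=
    eq_of_specializes_of_isDecent hXd b hbe hv'.symm hsv
  have : LocallyQuasiFinite (hf.rep.snd b).left := inferInstance
  have e2 : w' = w := no_specialization_in_fibres_of_lqf (hf.rep.snd b).left w w' hw's e1.symm
  rw [← hw', ← hw1, e2]

set_option backward.isDefEq.respectTransparency.types false in
theorem dimFun_of_finite_surjective {X Y : Space S} (f : Y ⟶ X)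
    (hf : IsFiniteMor f.hom) (hs : IsSurjectiveMor f.hom) (hX : IsDecent X.obj)
    (hY : IsDecent Y.obj) (δ : Points X.obj → ℤ)
    (hδ : (∀ a b : Points Y.obj, a ⤳ b → a ≠ b →
      (δ ∘ Points.map f.hom) b < (δ ∘ Points.map f.hom) a ∧
      ((∀ c : Points Y.obj, a ⤳ c → c ⤳ b → c = a ∨ c = b) →
        (δ ∘ Points.map f.hom) a = (δ ∘ Points.map f.hom) b + 1))) :
    (∀ a b : Points X.obj, a ⤳ b → a ≠ b → δ b < δ a ∧
      ((∀ c : Points X.obj, a ⤳ c → c ⤳ b → c = a ∨ c = b) → δ a = δ b + 1)) := by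
  have hrep : RepWith @IsFinite f.hom := (integral_finite_iff_repWith f).2.1 hf
  have hcl : IsClosedMap (Points.map f.hom) :=
    isClosedMap_points_of_isUnivClosedMor X.2
      ((isFiniteMor_iff_affine_proper Y.2 X.2 f.hom).1 hf).2.2.2
  intro a b hab hne
  obtain ⟨y, hy⟩ := hs a
  obtain ⟨y', hy's, hy'⟩ := hcl.specializingMap (hy ▸ hab)
  have hne' : y ≠ y' := by
    intro e
    apply hne
    rw [← hy, ← hy', e]
  obtain ⟨h1, h2⟩ := hδ y y' hy's hne'
  simp only [Function.comp_apply, hy, hy'] at h1 h2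
  refine ⟨h1, fun himm => h2 ?_⟩
  intro c hc1 hc2
  have h3 : a ⤳ Points.map f.hom c := by
    rw [← hy]; exact hc1.map (Points.continuous_map f.hom)
  have h4 : Points.map f.hom c ⤳ b := by
    rw [← hy']; exact hc2.map (Points.continuous_map f.hom)
  rcases himm _ h3 h4 with e | e
  · left
    exact (eq_of_specializes_of_map_eq_of_finite X.2 f.hom hrep hX hY hc1 (hy.trans e.symm)).symm
  · right
    exact eq_of_specializes_of_map_eq_of_finite X.2 f.hom hrep hX hY hc2 (e.trans hy'.symm)

end Groth.Agent.Lib.Helper14.AS
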