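import Groth.Agent.Lib.Helper14.GorSq

universe u
open CategoryTheory CategoryTheory.Limits AlgebraicGeometry Opposite Topology

namespace Groth.Agent.Lib.Helper14.AS
open AlgSp
open Groth.Agent.Lib.Helper16.GorMor Groth.Agent.Lib.Helper2 Groth.Agent.Lib.Helper16.GorBC

/-- For a morphism flat at `x` between Noetherian local rings: the source is Gorenstein at `x`
iff the target is Gorenstein at `f x` and the fibre is Gorenstein at `x`. -/
theorem gor_stalk_iff_of_flat {X Y : Scheme.{u}} (f : X ⟶ Y) (x : ↥X)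
    [IsNoetherianRing (X.presheaf.stalk x)] [IsNoetherianRing (Y.presheaf.stalk (f x))]
    (hfl : (f.stalkMap x).hom.Flat) :
    LocCoh.IsGorensteinLocalRing (X.presheaf.stalk x) ↔
      (LocCoh.IsGorensteinLocalRing (Y.presheaf.stalk (f x)) ∧
        LocCoh.IsGorensteinLocalRing ((f.fiber (f x)).presheaf.stalk (f.asFiber x))) := by
  rw [gor_fiber_stalk_iff]
  algebraize [(f.stalkMap x).hom]
  have : IsLocalHom (algebraMap (Y.presheaf.stalk (f x)) (X.presheaf.stalk x)) :=
    inferInstanceAs <| IsLocalHom (f.stalkMap x).hom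
  have hle : Ideal.map (f.stalkMap x).hom (IsLocalRing.maximalIdeal (Y.presheaf.stalk (f x))) ≤
      IsLocalRing.maximalIdeal (X.presheaf.stalk x) :=
    IsLocalRing.map_maximalIdeal_le (algebraMap (Y.presheaf.stalk (f x)) (X.presheaf.stalk x))
  have : Nontrivial (CF f x) := Ideal.Quotient.nontrivial_iff.2 (fun h => by
    rw [h] at hle
    exact (IsLocalRing.maximalIdeal.isMaximal _).ne_top (top_le_iff.1 hle))
  have : IsLocalRing (CF f x) :=
    IsLocalRing.of_surjective' (Ideal.Quotient.mk _) Ideal.Quotient.mk_surjective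
  exact gor_flat_abstract (Y.presheaf.stalk (f x)) (X.presheaf.stalk x) (CF f x)
    (Ideal.Quotient.mk _) Ideal.Quotient.mk_surjective Ideal.mk_ker

end Groth.Agent.Lib.Helper14.AS
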