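import Groth.Agent.Lib.Helper14.GorSp
import Groth.Agent.Lib.Helper14.GorFlat
import Groth.Agent.Lib.Helper14.FinDimFun
import Groth.Agent.Lib.Helper4.HzsNoethC

universe u
open CategoryTheory CategoryTheory.Limits AlgebraicGeometry Opposite Topology

namespace Groth.Agent.Lib.Helper14.AS
open AlgSp

variable {S : Scheme.{u}} {X Y : Sp S}

set_option backward.isDefEq.respectTransparency.types false in
/-- A chart diagram over a given etale chart of the target through given compatible points. -/
theorem exists_chart_diagram_over (hX : IsAlgSpace X) (hY : IsAlgSpace Y) (f : X ⟶ Y)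
    {V : Over S} (b : (yon S).obj V ⟶ Y) (hb : RepWith @Etale b) (x : Points X) (v : ↥V.left)
    (hv : Points.ofPt b v = Points.map f x) :
    ∃ (U : Over S) (a : (yon S).obj U ⟶ X) (h : U ⟶ V) (u : ↥U.left),
      RepWith @Etale a ∧ a ≫ f = (yon S).map h ≫ b ∧ Points.ofPt a u = x ∧ h.left u = v := by
  have sqP := IsPullback.of_hasPullback f b
  have hP : IsAlgSpace (pullback f b) :=
    isAlgSpace_of_isPullback (repDiag_of_isAlgSpace hY) hX (IsAlgSpace.yon_obj V) sqP
  obtain ⟨U, p, hpe, hps⟩ := hP.atlas
  obtain ⟨h, hh⟩ := (yon S).map_surjective (p ≫ pullback.snd f b)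
  have hq1 : RepWith @Etale (pullback.fst f b) := repWith_of_isPullback _ sqP.flip hb
  obtain ⟨z, hz1, hz2⟩ := points_exists_of_isPullback sqP x (Points.ofScheme V v)
    (by rw [← hv, Points.ofPt_eq_map_ofScheme])
  obtain ⟨u, hu⟩ := ofPt_surjective_of_repWith hps z
  refine ⟨U, p ≫ pullback.fst f b, h, u, repWith_comp @Etale hpe hq1, ?_, ?_, ?_⟩
  · rw [Category.assoc, pullback.condition, ← Category.assoc, hh]
  · rw [← Points.map_ofPt, hu, hz1]
  · apply (Points.schemeHomeo V).injective
    change Points.ofScheme V (h.left u) = Points.ofScheme V v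
    rw [← hz2, ← hu, Points.map_ofPt, ← hh]
    have := ofPt_yon_map_comp h (𝟙 ((yon S).obj V)) u
    rw [Category.comp_id] at this
    rw [this]

theorem gor_stalk_iff_of_etale {P U : Scheme.{u}} (p : P ⟶ U) [Etale p] [IsLocallyNoetherian U]
    (w : ↥P) : LocCoh.IsGorensteinLocalRing (P.presheaf.stalk w) ↔
      LocCoh.IsGorensteinLocalRing (U.presheaf.stalk (p w)) := by
  have : IsLocallyNoetherian P := LocallyOfFiniteType.isLocallyNoetherian p
  rw [gor_stalk_iff_of_flat p w (Flat.stalkMap p w)]
  exact ⟨fun h => h.1, fun h => ⟨h, (gorAt_of_etale p w).2⟩⟩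

set_option backward.isDefEq.respectTransparency.types false in
theorem isGorenstein_of_etale_over (hX : EtaleLocally Dual3.IsGorenstein X) {U : Over S}
    (a : (yon S).obj U ⟶ X) (ha : RepWith @Etale a) : Dual3.IsGorenstein U.left := by
  obtain ⟨U₀, p₀, hp0e, hp0s, hN, hG⟩ := hX
  have hUN : IsLocallyNoetherian U.left :=
    isLocallyNoetherian_of_etale_over ⟨U₀, p₀, hp0e, hp0s, hN⟩ a ha
  refine ⟨hUN, fun u => ?_⟩
  have sq := hp0e.rep.isPullback' a
  have h_snd_et : Etale (hp0e.rep.snd a).left := hp0e.property_snd a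
  have h_snd_surj : Surjective (hp0e.rep.snd a).left := hp0s.property _ _ _ sq
  have h_fst_et : Etale (hp0e.rep.fst' a).left := by
    have : RepWith @Etale ((yon S).map (hp0e.rep.fst' a)) :=
      repWith_of_isPullback _ sq.flip ha
    exact (repWith_yon_map_iff _ _).1 this
  obtain ⟨w, rfl⟩ := (hp0e.rep.snd a).left.surjective u
  rw [← gor_stalk_iff_of_etale (hp0e.rep.snd a).left w,
    gor_stalk_iff_of_etale (hp0e.rep.fst' a).left w]
  exact hG _

open Groth.Agent.Lib.Helper16.GorBC Groth.Agent.Lib.Helper2 Groth.Agent.Lib.Helper4.Hzs in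
/-- A strict henselization of a Noetherian local ring is Gorenstein iff the ring is. -/
theorem gor_strictHenselization_iff (A R : Type u) [CommRing A] [IsLocalRing A]
    [IsNoetherianRing A] [CommRing R] [IsLocalRing R] [Algebra A R]
    [IsLocalHom (algebraMap A R)] [Hensel.IsStrictHenselization A R] :
    LocCoh.IsGorensteinLocalRing R ↔ LocCoh.IsGorensteinLocalRing A := by
  have hN : IsNoetherianRing R := (isNoetherianRing_iff_of_isStrictHenselization A R).1 inferInstance
  have hff := faithfullyFlat_of_isStrictHenselization A R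
  have hm := map_maximalIdeal_of_isStrictHenselization A R
  have key := gor_flat_abstract A R (IsLocalRing.ResidueField R) (IsLocalRing.residue R)
    IsLocalRing.residue_surjective (by rw [IsLocalRing.ker_residue, hm])
  rw [key]
  exact ⟨fun h => h.1, fun h => ⟨h, GK.gor_of_isField _ (Field.toIsField _)⟩⟩

end Groth.Agent.Lib.Helper14.AS
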