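import Groth.Prelude.Def_AlgSpCov
import Groth.Agent.Lib.Helper14.FppfDesc3
import Groth.Agent.Lib.Helper14.GorSp2
import Groth.Agent.Lib.Helper14.AlgSpLocP2

universe u
set_option linter.style.haveILetI false
set_option linter.unusedSectionVars false
open CategoryTheory CategoryTheory.Limits AlgebraicGeometry Opposite Topology

namespace Groth.Agent.Lib.Helper14.AS
open AlgSp

variable {S : Scheme.{u}}

set_option backward.isDefEq.respectTransparency.types false in
/-- `LocP lfp` is fppf local on the source: jointly surjective family form -/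
theorem locP_lfp_of_fppf_family {ι : Type u} {X Y : Sp S} (hX : IsAlgSpace X)
    (Xi : ι → Sp S) (g : ∀ i, Xi i ⟶ X) (hXi : ∀ i, IsAlgSpace (Xi i))
    (hfl : ∀ i, LocP @Flat (g i)) (hfp : ∀ i, LocP @LocallyOfFinitePresentation (g i))
    (hsurj : ∀ x : Points X, ∃ i, x ∈ Set.range (Points.map (g i)))
    (f : X ⟶ Y) (H : ∀ i, LocP @LocallyOfFinitePresentation (g i ≫ f)) :
    LocP @LocallyOfFinitePresentation f := by
  intro U V a b h ha hb comm
  refine lfp_of_forall_exists_fppf h.left fun u => ?_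
  obtain ⟨i, xi, hxi⟩ := hsurj (Points.ofPt a u)
  obtain ⟨Ui, ai, hi, ui, hai, commi, -, hui⟩ :=
    exists_chart_diagram_over (hXi i) hX (g i) a ha xi u hxi.symm
  have comm' : ai ≫ (g i ≫ f) = (yon S).map (hi ≫ h) ≫ b := by
    rw [← Category.assoc, commi, Category.assoc, comm, ← Category.assoc, ← Functor.map_comp]
  refine ⟨Ui.left, hi.left, hfl i ai a hi hai ha commi, hfp i ai a hi hai ha commi, ?_,
    ⟨ui, hui⟩⟩
  have := H i ai b (hi ≫ h) hai hb comm'
  rwa [Over.comp_left] at this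

set_option backward.isDefEq.respectTransparency.types false in
/-- `LocP lft` is fppf local on the source: jointly surjective family form -/
theorem locP_lft_of_fppf_family {ι : Type u} {X Y : Sp S} (hX : IsAlgSpace X)
    (Xi : ι → Sp S) (g : ∀ i, Xi i ⟶ X) (hXi : ∀ i, IsAlgSpace (Xi i))
    (hfl : ∀ i, LocP @Flat (g i)) (hfp : ∀ i, LocP @LocallyOfFinitePresentation (g i))
    (hsurj : ∀ x : Points X, ∃ i, x ∈ Set.range (Points.map (g i)))
    (f : X ⟶ Y) (H : ∀ i, LocP @LocallyOfFiniteType (g i ≫ f)) :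
    LocP @LocallyOfFiniteType f := by
  intro U V a b h ha hb comm
  refine lft_of_forall_exists_fppf h.left fun u => ?_
  obtain ⟨i, xi, hxi⟩ := hsurj (Points.ofPt a u)
  obtain ⟨Ui, ai, hi, ui, hai, commi, -, hui⟩ :=
    exists_chart_diagram_over (hXi i) hX (g i) a ha xi u hxi.symm
  have comm' : ai ≫ (g i ≫ f) = (yon S).map (hi ≫ h) ≫ b := by
    rw [← Category.assoc, commi, Category.assoc, comm, ← Category.assoc, ← Functor.map_comp]
  refine ⟨Ui.left, hi.left, hfl i ai a hi hai ha commi, hfp i ai a hi hai ha commi, ?_,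
    ⟨ui, hui⟩⟩
  have := H i ai b (hi ≫ h) hai hb comm'
  rwa [Over.comp_left] at this

theorem locP_lft_of_locP_lfp {X Y : Sp S} (f : X ⟶ Y)
    (h : LocP @LocallyOfFinitePresentation f) : LocP @LocallyOfFiniteType f := by
  intro U V a b k ha hb comm
  have : LocallyOfFinitePresentation k.left := h a b k ha hb comm
  infer_instance

/-- S10549 -/
theorem isLocalOnSource_fppf_lfp (S : Scheme.{u}) :
    IsLocalOnSource (IsFppfCover (S := S)) (LocP @LocallyOfFinitePresentation) := by
  intro ι X Xi g hX hXi hcov Y f hY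
  obtain ⟨hP, hsurj⟩ := hcov
  constructor
  · intro hf i
    exact locP_comp etLocal_lfp (hXi i) hX hY (g i) f (hP i).2 hf
  · intro H
    exact locP_lfp_of_fppf_family hX Xi g hXi (fun i => (hP i).1) (fun i => (hP i).2) hsurj f H

/-- S10550 -/
theorem isLocalOnSource_fppf_lft (S : Scheme.{u}) :
    IsLocalOnSource (IsFppfCover (S := S)) (LocP @LocallyOfFiniteType) := by
  intro ι X Xi g hX hXi hcov Y f hY
  obtain ⟨hP, hsurj⟩ := hcov
  constructor
  · intro hf i
    exact locP_comp etLocal_lft (hXi i) hX hY (g i) f (locP_lft_of_locP_lfp _ (hP i).2) hf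
  · intro H
    exact locP_lft_of_fppf_family hX Xi g hXi (fun i => (hP i).1) (fun i => (hP i).2) hsurj f H

/-- S10558 -/
theorem locP_lfp_lft_of_fppf_comp {X Y B : Sp S} (hX : IsAlgSpace X) (hY : IsAlgSpace Y)
    (f : X ⟶ Y) (q : Y ⟶ B)
    (hs : IsSurjectiveMor f) (hfl : LocP @Flat f)
    (hfp : LocP @LocallyOfFinitePresentation f) :
    (LocP @LocallyOfFinitePresentation (f ≫ q) → LocP @LocallyOfFinitePresentation q) ∧
    (LocP @LocallyOfFiniteType (f ≫ q) → LocP @LocallyOfFiniteType q) := by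
  have hsurj : ∀ y : Points Y, ∃ _ : PUnit.{u+1}, y ∈ Set.range (Points.map f) :=
    fun y => ⟨PUnit.unit, hs y⟩
  exact ⟨fun H => locP_lfp_of_fppf_family (ι := PUnit.{u+1}) hY (Y := B)
      (fun _ => X) (fun _ => f) (fun _ => hX) (fun _ => hfl) (fun _ => hfp) hsurj q (fun _ => H),
    fun H => locP_lft_of_fppf_family (ι := PUnit.{u+1}) hY (Y := B)
      (fun _ => X) (fun _ => f) (fun _ => hX) (fun _ => hfl) (fun _ => hfp) hsurj q (fun _ => H)⟩

end Groth.Agent.Lib.Helper14.AS
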