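import Groth.Agent.Lib.Helper14.LqfLocus
import Groth.Agent.Lib.Helper14.AlgSpFibre
import Groth.Agent.Lib.Helper14.SchemeDim
import Groth.Agent.Lib.Helper21.FibDim12
import Groth.Agent.Lib.Helper21.FibDim3

universe u
open CategoryTheory CategoryTheory.Limits AlgebraicGeometry Opposite TopologicalSpace

namespace Groth.Agent.Lib.Helper14.AS

open AlgSp

section Sch

variable {T V : Scheme.{u}} (g : T ⟶ V)

theorem fibreDimAt_le_topologicalKrullDim (t : ↥T) :
    FlatMor.fibreDimAt g t ≤ topologicalKrullDim ↥T := by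
  refine (Groth.Agent.Lib.Helper18.TopDim.localDim_le_topologicalKrullDim _).trans ?_
  exact Topology.IsInducing.topologicalKrullDim_le (g.fiberι (g t)).isEmbedding.isInducing

/-- For a morphism locally of finite type to the spectrum of a field, the dimension of the
source is bounded by any bound on the local fibre dimensions. -/
theorem topologicalKrullDim_le_of_forall_fibreDimAt_le {k : Type u} [Field k]
    (g : T ⟶ Spec (CommRingCat.of k)) [LocallyOfFiniteType g] (d : ℕ)
    (h : ∀ t : ↥T, FlatMor.fibreDimAt g t ≤ (d : WithBot ℕ∞)) :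
    topologicalKrullDim ↥T ≤ (d : WithBot ℕ∞) := by
  rw [topologicalKrullDim_eq_iSup_stalk]
  refine iSup_le fun t => ?_
  obtain ⟨a, b, ha, hb, hab⟩ := Groth.Agent.Lib.Helper21.FibDim.exists_fibreDimAt_eq_add g t
  have h1 := Groth.Agent.Lib.Helper21.FibDim.ringKrullDim_stalk_le_add_fibre g t
  have h0 : ringKrullDim ((Spec (CommRingCat.of k)).presheaf.stalk (g t)) ≤ 0 := by
    rw [ringKrullDim_stalk_eq_coheight]
    have : Order.coheight (g t) = 0 := by
      rw [Order.coheight_eq_zero]
      intro b _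
      rw [Subsingleton.elim b (g t)]
    rw [this]
    rfl
  have h2 := h t
  rw [hab] at h2
  have hbd : b ≤ d := by
    have : a + b ≤ d := by exact_mod_cast h2
    omega
  calc ringKrullDim (T.presheaf.stalk t)
      ≤ ringKrullDim ((Spec (CommRingCat.of k)).presheaf.stalk (g t)) +
        ringKrullDim ((g.fiber (g t)).presheaf.stalk (g.asFiber t)) := h1
    _ ≤ 0 + (b : WithBot ℕ∞) := add_le_add h0 (le_of_eq hb)
    _ = (b : WithBot ℕ∞) := zero_add _
    _ ≤ (d : WithBot ℕ∞) := by exact_mod_cast hbd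

end Sch


variable {S : Scheme.{u}}

set_option backward.isDefEq.respectTransparency.types false in
/-- The dimension of a fibre in terms of the relative dimensions at the points of the fibre. -/
theorem dim_fibre_eq_sup_relDim {X Y : Sp S} (hX : IsAlgSpace X) (hY : IsAlgSpace Y) (f : X ⟶ Y)
    (hf : LocP @LocallyOfFiniteType f) (y : Points Y) (k : FieldPt Y) (hk : Points.mk k = y)
    (Xk : Sp S) (fst : Xk ⟶ X) (snd : Xk ⟶ (yon S).obj k.pt)
    (h : IsPullback fst snd f k.toHom) :
    (AlgSp.dim Xk = ⊥ ↔ y ∉ Set.range (Points.map f)) ∧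
      ∀ d : ℕ, (AlgSp.dim Xk ≤ d ↔
        ∀ x : Points X, Points.map f x = y →
          HasAtMor (fun _ _ h u => FlatMor.fibreDimAt h u ≤ (d : WithBot ℕ∞)) f x) := by
  have hK : IsAlgSpace ((yon S).obj k.pt) := IsAlgSpace.yon_obj _
  have hXk : IsAlgSpace Xk := isAlgSpace_of_isPullback (repDiag_of_isAlgSpace hY) hX hK h
  have hsnd : LocP @LocallyOfFiniteType snd :=
    locP_baseChange etLocal_lft hX hY hK f k.toHom fst snd h hf
  -- every point of the fibre lies over `y`
  have hover : ∀ z : Points Xk, Points.map f (Points.map fst z) = y := by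
    intro z
    rw [← Points.map_comp, h.w, Points.map_comp]
    obtain ⟨s, hs⟩ := (Points.schemeHomeo k.pt).surjective (Points.map snd z)
    rw [← hs]
    change Points.map k.toHom (Points.ofScheme k.pt s) = y
    rw [← Points.ofPt_eq_map_ofScheme, Points.ofPt_toHom, hk]
  -- every point over `y` lifts to the fibre
  have hlift : ∀ x : Points X, Points.map f x = y → ∃ z : Points Xk, Points.map fst z = x := by
    intro x hx
    obtain ⟨z, hz, -⟩ := points_exists_of_isPullback h x
      (Points.ofScheme k.pt (IsLocalRing.closedPoint k.K)) (by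
        rw [hx, ← Points.ofPt_eq_map_ofScheme, Points.ofPt_toHom, hk])
    exact ⟨z, hz⟩
  -- the dimension of a chart of the fibre
  have hchart : ∀ (T : Over S) (c : (yon S).obj T ⟶ Xk) (_ : RepWith @Etale c) (d : ℕ),
      (∀ t : ↥T.left, HasAtMor (fun _ _ h u => FlatMor.fibreDimAt h u ≤ (d : WithBot ℕ∞)) snd
        (Points.ofPt c t)) → topologicalKrullDim ↥T.left ≤ (d : WithBot ℕ∞) := by
    intro T c hce d hall
    obtain ⟨g, hg⟩ := (yon S).map_surjective (c ≫ snd)
    have hcomm : c ≫ snd = (yon S).map g ≫ 𝟙 _ := by rw [hg, Category.comp_id]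
    have hglft : LocallyOfFiniteType g.left := hsnd c (𝟙 _) g hce (repWith_id _ _) hcomm
    refine topologicalKrullDim_le_of_forall_fibreDimAt_le (k := k.K) g.left d fun t => ?_
    exact (hasAtMor_ofPt_iff (etSqInv_fibreDimAt (fun z => z ≤ (d : WithBot ℕ∞))) snd c (𝟙 _) g hce
      (repWith_id _ _) hcomm t).1 (hall t)
  constructor
  · constructor
    · intro hdim hy
      obtain ⟨x, hx⟩ := hy
      obtain ⟨z, -⟩ := hlift x hx
      obtain ⟨T, c, hce, hcs⟩ := hXk.atlas
      obtain ⟨t, -⟩ := ofPt_surjective_of_repWith hcs z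
      have : Nonempty ↥T.left := ⟨t⟩
      have h0 : (0 : WithBot ℕ∞) ≤ AlgSp.dim Xk :=
        (topologicalKrullDim_nonneg' ↥T.left).trans
          (le_iSup_of_le T (le_iSup_of_le c (le_iSup_of_le hce le_rfl)))
      rw [hdim] at h0
      exact absurd h0 (by decide)
    · intro hy
      unfold AlgSp.dim
      rw [eq_bot_iff]
      refine iSup_le fun T => iSup_le fun c => iSup_le fun hce => ?_
      have : IsEmpty ↥T.left := ⟨fun t => hy ⟨_, hover (Points.ofPt c t)⟩⟩
      have : IsEmpty (TopologicalSpace.IrreducibleCloseds ↥T.left) :=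
        ⟨fun Z => by obtain ⟨z, -⟩ := Z.2.1; exact this.elim z⟩
      unfold topologicalKrullDim
      rw [Order.krullDim_eq_bot]
  · intro d
    constructor
    · intro hdim x hx
      obtain ⟨z, rfl⟩ := hlift x hx
      rw [← hasAtMor_fibreDimAt_baseChange_iff hX hY hK f k.toHom fst snd h hf
        (fun e => e ≤ (d : WithBot ℕ∞)) z]
      obtain ⟨T, c, hce, hcs⟩ := hXk.atlas
      obtain ⟨t, rfl⟩ := ofPt_surjective_of_repWith hcs z
      obtain ⟨g, hg⟩ := (yon S).map_surjective (c ≫ snd)
      have hcomm : c ≫ snd = (yon S).map g ≫ 𝟙 _ := by rw [hg, Category.comp_id]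
      refine ⟨T, k.pt, c, 𝟙 _, g, t, hce, repWith_id _ _, hcomm, rfl, ?_⟩
      refine (fibreDimAt_le_topologicalKrullDim g.left t).trans (le_trans ?_ hdim)
      exact le_iSup_of_le T (le_iSup_of_le c (le_iSup_of_le hce le_rfl))
    · intro hall
      unfold AlgSp.dim
      refine iSup_le fun T => iSup_le fun c => iSup_le fun hce => ?_
      refine hchart T c hce d fun t => ?_
      rw [hasAtMor_fibreDimAt_baseChange_iff hX hY hK f k.toHom fst snd h hf
        (fun e => e ≤ (d : WithBot ℕ∞)) (Points.ofPt c t)]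
      exact hall _ (hover _)

end Groth.Agent.Lib.Helper14.AS
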