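import Groth.Agent.Lib.Helper14.AlgSpFibrePt
universe u
open CategoryTheory CategoryTheory.Limits AlgebraicGeometry Opposite
namespace Groth.Agent.Lib.Helper14.AS
variable {S : Scheme.{u}}
open AlgSp Groth.Agent.Lib.Helper14.AS

/-- In a discrete subset, specialization is equality. -/
theorem eq_of_specializes_of_isDiscrete {α : Type*} [TopologicalSpace α] {A : Set α}
    (hA : _root_.IsDiscrete A) {r r' : α} (hr : r ∈ A) (hr' : r' ∈ A) (h : r' ⤳ r) : r' = r := by
  have : DiscreteTopology ↥A := hA.to_subtype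
  have hop : IsOpen ({⟨r, hr⟩} : Set ↥A) := isOpen_discrete _
  obtain ⟨O, hO, hOe⟩ := isOpen_induced_iff.1 hop
  have hrO : r ∈ O := by
    have : (⟨r, hr⟩ : ↥A) ∈ Subtype.val ⁻¹' O := by rw [hOe]; rfl
    exact this
  have hr'O : r' ∈ O := h.mem_open hO hrO
  have : (⟨r', hr'⟩ : ↥A) ∈ Subtype.val ⁻¹' O := hr'O
  rw [hOe] at this
  exact congrArg Subtype.val this

/-- No nontrivial specializations in a finite fibre of an etale chart. -/
theorem eq_of_specializes_of_finite_fibre {X : Sp S} {U : Over S} (a : (yon S).obj U ⟶ X)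
    (ha : RepWith @Etale a) (x : Points X) (hfin : (Points.ofPt a ⁻¹' {x}).Finite)
    (u u' : ↥U.left) (hu : Points.ofPt a u = x) (hu' : Points.ofPt a u' = x) (hs : u' ⤳ u) :
    u = u' := by
  by_contra hne
  have sq := ha.rep.isPullback' a
  have hs_et : Etale (ha.rep.fst' a).left := by
    have : RepWith @Etale ((yon S).map (ha.rep.fst' a)) :=
      repWith_of_isPullback _ sq.flip ha
    exact (repWith_yon_map_iff _ _).1 this
  have ht_et : Etale (ha.rep.snd a).left := ha.property_snd a
  -- key step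
  have key : ∀ v ∈ Points.ofPt a ⁻¹' {x}, ∃ v' ∈ Points.ofPt a ⁻¹' {x}, v' ⤳ v ∧ v' ≠ v := by
    intro v hv
    obtain ⟨r, hr1, hr2⟩ := exists_point_of_isPullback_yon sq v u (by rw [hv, hu])
    have hflat : Flat (ha.rep.snd a).left := inferInstance
    obtain ⟨r', hr's, hr'⟩ := (Flat.generalizingMap (ha.rep.snd a).left) (hr2 ▸ hs)
    refine ⟨(ha.rep.fst' a).left r', ?_, ?_, ?_⟩
    · rw [Set.mem_preimage, Set.mem_singleton_iff, ← ofPt_yon_map_comp, sq.w, ofPt_yon_map_comp,
        hr', hu']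
    · rw [← hr1]
      exact hr's.map (ha.rep.fst' a).left.continuous
    · intro heq
      have hlqf : LocallyQuasiFinite (ha.rep.fst' a).left := etale_locallyQuasiFinite _
      have hd := (ha.rep.fst' a).left.isDiscrete_preimage_singleton v
      have : r' = r := eq_of_specializes_of_isDiscrete hd hr1 heq hr's
      apply hne
      rw [← hr2, ← hr', this]
  let _ : Preorder ↥U.left := specializationPreorder _
  obtain ⟨m, hm, hmax⟩ := hfin.exists_maximal ⟨u, hu⟩
  obtain ⟨v', hv', hv's, hv'ne⟩ := key m hm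
  have h1 : m ≤ v' := hv's
  have h2 : v' ≤ m := hmax hv' h1
  have : Inseparable v' m := hv's.antisymm h2
  exact hv'ne this.eq


set_option backward.isDefEq.respectTransparency.types false in
/-- Reduction to affine charts. -/
theorem eq_of_specializes_of_affine_finite {X : Sp S} (x : Points X)
    (hx : ∀ (V : Over S) (b : (yon S).obj V ⟶ X), IsAffine V.left → RepWith @Etale b →
      (Points.ofPt b ⁻¹' {x}).Finite)
    {U : Over S} (a : (yon S).obj U ⟶ X) (ha : RepWith @Etale a) (u u' : ↥U.left)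
    (hu : Points.ofPt a u = x) (hu' : Points.ofPt a u' = x) (hs : u' ⤳ u) : u = u' := by
  obtain ⟨N, hN, huN, -⟩ := exists_isAffineOpen_mem_and_subset (x := u) (U := ⊤) trivial
  have hu'N : u' ∈ N := hs.mem_open N.2 huN
  let V : Over S := Over.mk (N.ι ≫ U.hom)
  let ι : V ⟶ U := Over.homMk N.ι rfl
  have hb : RepWith @Etale ((yon S).map ι ≫ a) :=
    repWith_comp _ ((repWith_yon_map_iff _ _).2 (inferInstance : Etale N.ι)) ha
  have hfin := hx V ((yon S).map ι ≫ a) hN hb
  obtain ⟨n, hn⟩ : ∃ n : ↥V.left, ι.left n = u := ⟨⟨u, huN⟩, rfl⟩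
  obtain ⟨n', hn'⟩ : ∃ n : ↥V.left, ι.left n = u' := ⟨⟨u', hu'N⟩, rfl⟩
  have e1 : Points.ofPt ((yon S).map ι ≫ a) n = x := by
    rw [ofPt_yon_map_comp, hn]; exact hu
  have e2 : Points.ofPt ((yon S).map ι ≫ a) n' = x := by
    rw [ofPt_yon_map_comp, hn']; exact hu'
  have hs' : n' ⤳ n := by
    have hι : Topology.IsInducing ι.left := N.ι.isOpenEmbedding.isInducing
    rw [← hι.specializes_iff, hn, hn']
    exact hs
  have := eq_of_specializes_of_finite_fibre _ hb x hfin _ _ e1 e2 hs'
  rw [← hn, ← hn', this]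

/-- Decent spaces: fibres of affine etale charts are finite. -/
theorem finite_fibre_of_isDecent {X : Sp S} (hX : IsDecent X) (x : Points X)
    (V : Over S) (b : (yon S).obj V ⟶ X) (hV : IsAffine V.left) (hb : RepWith @Etale b) :
    (Points.ofPt b ⁻¹' {x}).Finite := by
  obtain ⟨p, rfl, -, hq⟩ := hX x
  have := fibre_chart_finite_inter b hb p hq ⊤ (by
    have : CompactSpace ↥V.left := inferInstance
    exact isCompact_univ)
  simpa using this


/-- The space of points of a decent algebraic space is Kolmogorov. -/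
theorem t0Space_points_of_isDecent {X : Sp S} (hX : IsAlgSpace X) (hd : IsDecent X) :
    T0Space (Points X) := by
  refine ⟨fun x x' h => ?_⟩
  obtain ⟨U, a, hae, has⟩ := hX.atlas
  obtain ⟨u, hu⟩ := ofPt_surjective_of_repWith has x
  obtain ⟨p', hp', -, hq'⟩ := hd x'
  obtain ⟨p, hp, -, hq⟩ := hd x
  have h1 : Points.mk p' ⤳ Points.ofPt a u := by rw [hp', hu]; exact h.specializes'
  obtain ⟨u', hu's, hu'⟩ := exists_generization_of_chart a hae p' hq' u h1
  have h2 : Points.mk p ⤳ Points.ofPt a u' := by rw [hp, hu', hp']; exact h.specializes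
  obtain ⟨u'', hu''s, hu''⟩ := exists_generization_of_chart a hae p hq u' h2
  have e : u = u'' := eq_of_specializes_of_affine_finite x (finite_fibre_of_isDecent hd x) a hae
    u u'' hu (by rw [hu'', hp]) (hu''s.trans hu's)
  have : u = u' := ((e ▸ hu''s : u ⤳ u').antisymm hu's).eq
  rw [← hu, this, hu', hp']

end Groth.Agent.Lib.Helper14.AS
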