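import Groth.Agent.Lib.Helper14.QfAt2
import Groth.Agent.Lib.Helper14.AlgSpFibrePt2

universe u
open CategoryTheory CategoryTheory.Limits AlgebraicGeometry Opposite TopologicalSpace

namespace Groth.Agent.Lib.Helper14.AS

open AlgSp

variable {S : Scheme.{u}}

/-- Generizations lift along etale charts of decent spaces. -/
theorem exists_generization_lift_of_isDecent {X : Sp S} (hd : IsDecent X) {U : Over S}
    (a : (yon S).obj U ⟶ X) (ha : RepWith @Etale a) {x : Points X} {u' : ↥U.left}
    (h : x ⤳ Points.ofPt a u') : ∃ u : ↥U.left, u ⤳ u' ∧ Points.ofPt a u = x := by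
  obtain ⟨p, hp, -, hq⟩ := hd x
  obtain ⟨u, hu, hu2⟩ := exists_generization_of_chart a ha p hq u' (hp ▸ h)
  exact ⟨u, hu, hu2.trans hp⟩

/-- No proper specializations inside a fibre of an etale chart of a decent space. -/
theorem eq_of_specializes_of_isDecent {X : Sp S} (hd : IsDecent X) {U : Over S}
    (a : (yon S).obj U ⟶ X) (ha : RepWith @Etale a) {u u' : ↥U.left}
    (he : Points.ofPt a u = Points.ofPt a u') (hs : u' ⤳ u) : u = u' :=
  eq_of_specializes_of_affine_finite _ (finite_fibre_of_isDecent hd _) a ha u u' rfl he.symm hs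

/-- The image of the generic point under a dominant morphism to a decent space is the generic
point. -/
theorem map_generic_eq {X Y : Sp S} (hY : IsAlgSpace Y) (hYd : IsDecent Y) (f : X ⟶ Y)
    (hdom : IsDominantMor f) {x : Points X} (hx : IsGenericPoint x (Set.univ : Set (Points X)))
    {y : Points Y} (hy : IsGenericPoint y (Set.univ : Set (Points Y))) : Points.map f x = y := by
  have := t0Space_points_of_isDecent hY hYd
  have h1 := hx.image (Points.continuous_map f)
  rw [Set.image_univ, hdom.closure_range] at h1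
  exact h1.eq hy

/-- A chart point over the generic point of a decent space has no proper generizations. -/
theorem eq_of_specializes_of_generic {X : Sp S} (hX : IsAlgSpace X) (hd : IsDecent X)
    {x : Points X} (hx : IsGenericPoint x (Set.univ : Set (Points X))) {U : Over S}
    (a : (yon S).obj U ⟶ X) (ha : RepWith @Etale a) {u ξ : ↥U.left} (hu : Points.ofPt a u = x)
    (hs : ξ ⤳ u) : ξ = u := by
  have := t0Space_points_of_isDecent hX hd
  have h1 : Points.ofPt a ξ ⤳ x := hu ▸ hs.map (Points.continuous_ofPt a)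
  have h2 : x ⤳ Points.ofPt a ξ := hx.specializes (Set.mem_univ _)
  have h3 : Points.ofPt a ξ = x := (h1.antisymm h2).eq
  exact (eq_of_specializes_of_isDecent hd a ha (hu.trans h3.symm) hs).symm

set_option backward.isDefEq.respectTransparency.types false in
/-- At the generic point, quasi-finiteness is algebraicity of the residue field extension. -/
theorem hasAtMor_qf_iff_resTrdeg_zero_of_generic {X Y : Sp S} (hX : IsAlgSpace X)
    (hY : IsAlgSpace Y) (hd : IsDecent X) (f : X ⟶ Y) (hf : LocP @LocallyOfFiniteType f)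
    {x : Points X} (hx : IsGenericPoint x (Set.univ : Set (Points X))) :
    HasAtMor (fun U _ h u => ∃ W : U.Opens, u ∈ W ∧ LocallyQuasiFinite (W.ι ≫ h) ∧
      LocallyOfFiniteType (W.ι ≫ h)) f x ↔
    HasAtMor (fun _ _ h u => Dual3.resTrdeg h u = 0) f x := by
  rw [hasAtMor_qf_iff f hf]
  obtain ⟨U, V, a, b, k, u, hae, hbe, comm, hu⟩ := exists_chart_diagram_at hX hY f x
  have hlft : LocallyOfFiniteType k.left := hf a b k hae hbe comm
  obtain ⟨n, hn, hrn⟩ := fibreDimAt_eq_resTrdeg_of_no_generization k.left u
    (fun ξ hξ _ => eq_of_specializes_of_generic hX hd hx a hae hu hξ)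
  rw [← hu, hasAtMor_ofPt_iff (etSqInv_fibreDimAt (fun z => z = 0)) f a b k hae hbe comm u,
    hasAtMor_ofPt_iff (etSqInv_resTrdeg (fun z => z = 0)) f a b k hae hbe comm u, hn, hrn]
  constructor
  · intro h0
    have : n = 0 := by exact_mod_cast h0
    rw [this]; rfl
  · intro h0
    have : n = 0 := by exact_mod_cast h0
    rw [this]; rfl

set_option backward.isDefEq.respectTransparency.types false in
/-- Algebraicity of the generic residue field extension is uniqueness of the point over the
generic point. -/
theorem resTrdeg_zero_generic_iff_unique {X Y : Sp S} (hX : IsAlgSpace X) (hY : IsAlgSpace Y)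
    (hXd : IsDecent X) (hYd : IsDecent Y) (f : X ⟶ Y) (hf : LocP @LocallyOfFiniteType f)
    (hdom : IsDominantMor f) {x : Points X} (hx : IsGenericPoint x (Set.univ : Set (Points X)))
    {y : Points Y} (hy : IsGenericPoint y (Set.univ : Set (Points Y))) :
    HasAtMor (fun _ _ h u => Dual3.resTrdeg h u = 0) f x ↔
      ∀ x' : Points X, Points.map f x' = y → x' = x := by
  have hfx : Points.map f x = y := map_generic_eq hY hYd f hdom hx hy
  have hpt : ∀ {U V : Over S} {a : (yon S).obj U ⟶ X} {b : (yon S).obj V ⟶ Y} {k : U ⟶ V}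
      (_ : a ≫ f = (yon S).map k ≫ b) (w : ↥U.left),
      Points.map f (Points.ofPt a w) = Points.ofPt b (k.left w) := by
    intro U V a b k comm w
    rw [Points.map_ofPt, comm, ofPt_yon_map_comp]
  constructor
  · intro h0 x' hx'
    obtain ⟨V, b, hbe, hbs⟩ := hY.atlas
    obtain ⟨U, a, k, hae, has, comm⟩ := exists_chart_diagram hX f b hbe hbs
    have hlft : LocallyOfFiniteType k.left := hf a b k hae hbe comm
    obtain ⟨u', rfl⟩ := ofPt_surjective_of_repWith has x'
    obtain ⟨u₁, hu₁s, hu₁⟩ := exists_generization_lift_of_isDecent hXd a hae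
      (hx.specializes (Set.mem_univ (Points.ofPt a u')))
    rw [← hu₁] at h0
    have hr := (hasAtMor_ofPt_iff (etSqInv_resTrdeg (fun z => z = 0)) f a b k hae hbe comm u₁).1 h0
    have hk : k.left u' = k.left u₁ := by
      refine eq_of_specializes_of_isDecent hYd b hbe ?_ (hu₁s.map k.left.continuous)
      rw [← hpt comm, ← hpt comm, hx', hu₁, hfx]
    have := eq_of_specializes_of_resTrdeg_eq_zero k.left hu₁s hk.symm hr
    rw [← this, hu₁]
  · intro huniq
    obtain ⟨U, V, a, b, k, u, hae, hbe, comm, hu⟩ := exists_chart_diagram_at hX hY f x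
    have hlft : LocallyOfFiniteType k.left := hf a b k hae hbe comm
    obtain ⟨z, hsp, hz, hz0⟩ := exists_specializes_resTrdeg_eq_zero k.left u
    have hz1 : Points.ofPt a z = x := by
      apply huniq
      rw [hpt comm, hz, ← hpt comm, hu, hfx]
    have hzu : z = u := eq_of_specializes_of_isDecent hXd a hae (hz1.trans hu.symm) hsp
    rw [hzu] at hz0
    exact ⟨U, V, a, b, k, u, hae, hbe, comm, hu, hz0⟩


set_option backward.isDefEq.respectTransparency.types false in
/-- `dim X ≤ dim Y + r` for a morphism locally of finite type from a decent space with a generic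
point of residual transcendence degree `r`. -/
theorem dim_le_dim_add_trdeg_of_generic {X Y : Sp S} (hY : IsAlgSpace Y)
    (hXd : IsDecent X) (f : X ⟶ Y) (hYN : IsLocNoethSp Y) (hf : LocP @LocallyOfFiniteType f)
    {x : Points X} (hx : IsGenericPoint x (Set.univ : Set (Points X))) (r : ℕ)
    (hr : HasAtMor (fun _ _ h u => Dual3.resTrdeg h u = (r : Cardinal.{u})) f x) :
    AlgSp.dim X ≤ AlgSp.dim Y + ((r : ℕ∞) : WithBot ℕ∞) := by
  have := dim_le_dim_add_of_lft hY f hYN hf (r : Cardinal.{u}) ?_
  · simpa using this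
  · rintro ξ ⟨U₁, a₁, η, ha₁, rfl, hη⟩ s hs
    obtain ⟨η', hη's, hη'⟩ := exists_generization_lift_of_isDecent hXd a₁ ha₁
      (hx.specializes (Set.mem_univ (Points.ofPt a₁ η)))
    have : η' = η := eq_of_specializes_of_stalkDim_zero hη hη's
    subst this
    rw [hη'] at hs
    obtain ⟨U, V, a, b, k, u, hae, hbe, comm, hu, hq⟩ := hs
    rw [← hu] at hr
    have := (hasAtMor_ofPt_iff (etSqInv_resTrdeg (fun z => z = (r : Cardinal.{u}))) f a b k hae hbe
      comm u).1 hr
    exact le_of_eq (hq.symm.trans this)

end Groth.Agent.Lib.Helper14.AS
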