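import Groth.Agent.Lib.Helper14.AlgSpFibrePt7
import Groth.Agent.Lib.Helper14.AlgSpQCMor
import Mathlib.AlgebraicGeometry.Noetherian
universe u
open CategoryTheory CategoryTheory.Limits AlgebraicGeometry Opposite
namespace Groth.Agent.Lib.Helper14.AS
variable {S : Scheme.{u}}
open AlgSp Groth.Agent.Lib.Helper14.AS

set_option backward.isDefEq.respectTransparency.types false in
/-- The projection `Z₀ ×_Y Spec L → Spec L` is locally quasi-finite when `Z₀ → Y` factors as a
locally quasi-finite morphism `Z₀ → V` followed by an etale chart `V → Y`. -/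
theorem lqf_fst'_of_chart {Y : Sp S} (hY : IsAlgSpace Y) (ζ : FieldPt Y) {Z₀ V : Over S}
    (c' : (yon S).obj Z₀ ⟶ Y) (b : (yon S).obj V ⟶ Y) (h : Z₀ ⟶ V) (hb : RepWith @Etale b)
    (comm : c' = (yon S).map h ≫ b) (hh : LocallyQuasiFinite h.left) :
    LocallyQuasiFinite ((hY.representable_from_yon ζ.toHom).fst' c').left := by
  have hrrep := hY.representable_from_yon ζ.toHom
  have sqZ' := hrrep.isPullback' c'
  have sqT := hb.rep.isPullback' ζ.toHom
  have ht₂ : Etale (hb.rep.snd ζ.toHom).left := hb.property_snd _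
  have cond' : (yon S).map (hrrep.snd c' ≫ h) ≫ b = (yon S).map (hrrep.fst' c') ≫ ζ.toHom := by
    rw [Functor.map_comp, Category.assoc, ← comm, sqZ'.w]
  obtain ⟨ℓ', hℓ'⟩ := (yon S).map_surjective (sqT.lift _ _ cond')
  have hℓ'1 : (yon S).map ℓ' ≫ (yon S).map (hb.rep.fst' ζ.toHom) =
      (yon S).map (hrrep.snd c') ≫ (yon S).map h := by
    rw [hℓ', sqT.lift_fst, Functor.map_comp]
  have hℓ'2 : (yon S).map ℓ' ≫ (yon S).map (hb.rep.snd ζ.toHom) = (yon S).map (hrrep.fst' c') := by
    rw [hℓ', sqT.lift_snd]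
  have sqA : IsPullback ((yon S).map (hrrep.snd c')) ((yon S).map ℓ') ((yon S).map h)
      ((yon S).map (hb.rep.fst' ζ.toHom)) := by
    refine IsPullback.of_bot ?_ hℓ'1.symm sqT
    rw [hℓ'2, ← comm]
    exact sqZ'.flip
  have sqA' : IsPullback (hrrep.snd c').left ℓ'.left h.left (hb.rep.fst' ζ.toHom).left :=
    (IsPullback.of_map_of_faithful (yon S) sqA).map (Over.forget S)
  have hℓ'lqf : LocallyQuasiFinite ℓ'.left :=
    MorphismProperty.of_isPullback (P := @LocallyQuasiFinite) sqA' hh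
  have e : (hrrep.fst' c') = ℓ' ≫ hb.rep.snd ζ.toHom :=
    (yon S).map_injective (by rw [Functor.map_comp, hℓ'2])
  rw [e, Over.comp_left]
  have : LocallyQuasiFinite (hb.rep.snd ζ.toHom).left := etale_locallyQuasiFinite _
  infer_instance

/-- In a Noetherian space, a surjection-preimage family of disjoint open sets is finite. -/
theorem finite_open_points_of_noetherian {α β : Type*} [TopologicalSpace α] [TopologicalSpace β]
    [TopologicalSpace.NoetherianSpace α] (a : α → β) (ha : Continuous a) (hs : Function.Surjective a) :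
    {π : β | IsOpen ({π} : Set β)}.Finite := by
  have hc : IsCompact (⋃ π ∈ {π : β | IsOpen ({π} : Set β)}, a ⁻¹' {π}) :=
    TopologicalSpace.NoetherianSpace.isCompact _
  obtain ⟨b', hb'sub, hb'fin, hb'cov⟩ := hc.elim_finite_subcover_image
    (b := {π : β | IsOpen ({π} : Set β)}) (c := fun π => a ⁻¹' {π})
    (fun π hπ => (hπ : IsOpen ({π} : Set β)).preimage ha) (le_refl _)
  refine hb'fin.subset ?_
  intro π hπ
  obtain ⟨u, rfl⟩ := hs π
  have : u ∈ ⋃ π ∈ {π : β | IsOpen ({π} : Set β)}, a ⁻¹' {π} :=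
    Set.mem_iUnion₂.2 ⟨a u, hπ, rfl⟩
  obtain ⟨π', hπ', hu⟩ := Set.mem_iUnion₂.1 (hb'cov this)
  have : a u = π' := hu
  rw [this]
  exact hπ'


set_option backward.isDefEq.respectTransparency.types false in
/-- Open points of a quasi-compact algebraic space locally of finite type over a field are finite
in number. -/
theorem finite_open_points_of_lft_field {Q : Sp S} (hqc : IsQuasiCompactSp Q)
    {L : Type u} [Field L] (str : Spec (CommRingCat.of L) ⟶ S)
    (sndQ : Q ⟶ (yon S).obj (Over.mk str)) (hl : LocP @LocallyOfFiniteType sndQ) :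
    {π : Points Q | IsOpen ({π} : Set (Points Q))}.Finite := by
  obtain ⟨U', a', ha'e, ha's, hU'c⟩ := hqc
  obtain ⟨φ, hφ⟩ := (yon S).map_surjective (a' ≫ sndQ)
  have hid : RepWith @Etale (𝟙 ((yon S).obj (Over.mk str))) := repWith_id _ _
  have hlft : LocallyOfFiniteType φ.left :=
    hl a' (𝟙 _) φ ha'e hid (by rw [hφ, Category.comp_id])
  have hN : IsLocallyNoetherian U'.left :=
    LocallyOfFiniteType.isLocallyNoetherian (Y := Spec (CommRingCat.of L)) φ.left
  have : CompactSpace ↥U'.left := hU'c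
  have hN' : IsNoetherian U'.left := ⟨⟩
  exact finite_open_points_of_noetherian (Points.ofPt a') (Points.continuous_ofPt a')
    (ofPt_surjective_of_repWith ha's)


set_option backward.isDefEq.respectTransparency.types false in
/-- A point at which `f` is quasi-finite gives an open point of the fibre over any field point
representing its image. -/
theorem exists_isOpen_point_of_quasiFiniteAt {X Y Q : Sp S} (hY : IsAlgSpace Y) {f : X ⟶ Y}
    (ζ : FieldPt Y) {fstQ : Q ⟶ X} {sndQ : Q ⟶ (yon S).obj ζ.pt}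
    (sqQ : IsPullback fstQ sndQ f ζ.toHom) (x : Points X) (hx : Points.map f x = Points.mk ζ)
    (hqf : HasAtMor (fun U _ h u => ∃ W : U.Opens, u ∈ W ∧ LocallyQuasiFinite (W.ι ≫ h) ∧
        LocallyOfFiniteType (W.ι ≫ h)) f x) :
    ∃ π : Points Q, Points.map fstQ π = x ∧ IsOpen ({π} : Set (Points Q)) := by
  obtain ⟨X₀', V, a', b, h', x₀', ha', hb, comm', hx₀', O, hO, hlqf, -⟩ := hqf
  let X₀ : Over S := Over.mk (O.ι ≫ X₀'.hom)
  let ι : X₀ ⟶ X₀' := Over.homMk O.ι rfl
  obtain ⟨x₀, hx₀⟩ : ∃ x₀ : ↥X₀.left, ι.left x₀ = x₀' := ⟨⟨x₀', hO⟩, rfl⟩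
  have ha : RepWith @Etale ((yon S).map ι ≫ a') :=
    repWith_comp _ ((repWith_yon_map_iff _ _).2 (inferInstance : Etale O.ι)) ha'
  have comm : ((yon S).map ι ≫ a') ≫ f = (yon S).map (ι ≫ h') ≫ b := by
    rw [Category.assoc, comm', Functor.map_comp, Category.assoc]
  have hrep := hY.representable_from_yon ζ.toHom
  have sqT := hrep.isPullback' (((yon S).map ι ≫ a') ≫ f)
  have hlqf₂ : LocallyQuasiFinite (hrep.fst' (((yon S).map ι ≫ a') ≫ f)).left :=
    lqf_fst'_of_chart hY ζ _ b (ι ≫ h') hb comm hlqf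
  -- discreteness
  have hdisc : DiscreteTopology ↥(hrep.pullback (((yon S).map ι ≫ a') ≫ f)).left := by
    have hd := (hrep.fst' (((yon S).map ι ≫ a') ≫ f)).left.isDiscrete_preimage_singleton
      (IsLocalRing.closedPoint ζ.K : ↥(Spec (CommRingCat.of ζ.K)))
    have huniv : (hrep.fst' (((yon S).map ι ≫ a') ≫ f)).left ⁻¹' {(IsLocalRing.closedPoint ζ.K :
        ↥(Spec (CommRingCat.of ζ.K)))} = Set.univ := by
      ext w
      have : Subsingleton ↥ζ.pt.left := subsingleton_spec_field ζ.K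
      simp only [Set.mem_preimage, Set.mem_univ, iff_true]
      exact Subsingleton.elim _ _
    have hd' : _root_.IsDiscrete (Set.univ :
        Set ↥(hrep.pullback (((yon S).map ι ≫ a') ≫ f)).left) := by
      convert hd
      exact huniv.symm
    exact isDiscrete_univ_iff.1 hd'
  -- the point τ
  obtain ⟨τ, -, hτ⟩ := exists_point_of_isPullback_yon sqT
    (IsLocalRing.closedPoint ζ.K : ↥(Spec (CommRingCat.of ζ.K))) x₀ (by
      rw [Points.ofPt_toHom, ← Points.map_ofPt, ofPt_yon_map_comp, hx₀, hx₀', hx])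
  -- the map to Q
  let m : (yon S).obj (hrep.pullback (((yon S).map ι ≫ a') ≫ f)) ⟶ Q :=
    sqQ.lift ((yon S).map (hrep.snd (((yon S).map ι ≫ a') ≫ f)) ≫ ((yon S).map ι ≫ a'))
      ((yon S).map (hrep.fst' (((yon S).map ι ≫ a') ≫ f)))
      ((Category.assoc _ _ _).trans sqT.w.symm)
  have sqM : IsPullback m ((yon S).map (hrep.snd (((yon S).map ι ≫ a') ≫ f))) fstQ
      ((yon S).map ι ≫ a') := by
    refine IsPullback.of_right ?_ (sqQ.lift_fst _ _ _) sqQ.flip
    rw [sqQ.lift_snd]
    exact sqT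
  have hm : RepWith @Etale m := repWith_of_isPullback _ sqM.flip ha
  refine ⟨Points.ofPt m τ, ?_, ?_⟩
  · rw [Points.map_ofPt, sqQ.lift_fst, ofPt_yon_map_comp, hτ, ofPt_yon_map_comp, hx₀, hx₀']
  · have := isOpenMap_ofPt m hm {τ} (isOpen_discrete _)
    rwa [Set.image_singleton] at this

set_option backward.isDefEq.respectTransparency.types false in
theorem finite_quasiFiniteAt_over_point {X Y : Sp S} (hX : IsAlgSpace X) (hY : IsAlgSpace Y)
    (f : X ⟶ Y) (hf : IsFiniteTypeMor f) (y : Points Y) :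
    {x : Points X | Points.map f x = y ∧
      HasAtMor (fun U _ h u => ∃ W : U.Opens, u ∈ W ∧ LocallyQuasiFinite (W.ι ≫ h) ∧
        LocallyOfFiniteType (W.ι ≫ h)) f x}.Finite := by
  induction y using Points.ind with
  | h ζ =>
  have sqQ := IsPullback.of_hasPullback f ζ.toHom
  have hQqc : IsQuasiCompactSp (pullback f ζ.toHom) :=
    hf.2 (IsAlgSpace.yon_obj ζ.pt) ((isQuasiCompactSp_yon_iff _).2
      (inferInstanceAs (CompactSpace ↥(Spec (CommRingCat.of ζ.K))))) ζ.toHom _ _ sqQ
  have hQl : LocP @LocallyOfFiniteType (pullback.snd f ζ.toHom) :=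
    locP_baseChange etLocal_lft hX hY (IsAlgSpace.yon_obj ζ.pt) f ζ.toHom _ _ sqQ hf.1
  have hfin := finite_open_points_of_lft_field hQqc ζ.str (pullback.snd f ζ.toHom) hQl
  refine (hfin.image (Points.map (pullback.fst f ζ.toHom))).subset ?_
  rintro x ⟨hx1, hx2⟩
  obtain ⟨π, hπ1, hπ2⟩ := exists_isOpen_point_of_quasiFiniteAt hY ζ sqQ x hx1 hx2
  exact ⟨π, hπ2, hπ1⟩

end Groth.Agent.Lib.Helper14.AS
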