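import Groth.Agent.Lib.Helper14.SchemeDim3
import Groth.Agent.Lib.Helper14.AlgSpFibrePt8
universe u
open CategoryTheory CategoryTheory.Limits AlgebraicGeometry Opposite
namespace Groth.Agent.Lib.Helper14.AS
variable {S : Scheme.{u}}
open AlgSp Groth.Agent.Lib.Helper14.AS

set_option backward.isDefEq.respectTransparency.types false in
/-- The dimension of the local ring of an etale chart at a point does not depend on the chart. -/
theorem ringKrullDim_stalk_chart_indep {X : Sp S} {U U' : Over S} (a : (yon S).obj U ⟶ X)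
    (ha : RepWith @Etale a) (a' : (yon S).obj U' ⟶ X) (ha' : RepWith @Etale a') (u : ↥U.left)
    (u' : ↥U'.left) (h : Points.ofPt a u = Points.ofPt a' u') :
    ringKrullDim (U.left.presheaf.stalk u) = ringKrullDim (U'.left.presheaf.stalk u') := by
  have sq := ha.rep.isPullback' a'
  have h1 : Etale (ha.rep.snd a').left := ha.property_snd a'
  have h2 : Etale (ha.rep.fst' a').left := by
    have : RepWith @Etale ((yon S).map (ha.rep.fst' a')) := repWith_of_isPullback _ sq.flip ha'
    exact (repWith_yon_map_iff _ _).1 this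
  have : LocallyQuasiFinite (ha.rep.snd a').left := etale_locallyQuasiFinite _
  have : LocallyQuasiFinite (ha.rep.fst' a').left := etale_locallyQuasiFinite _
  have : Flat (ha.rep.snd a').left := inferInstance
  have : Flat (ha.rep.fst' a').left := inferInstance
  obtain ⟨w, hw1, hw2⟩ := exists_point_of_isPullback_yon sq u u' h
  rw [← hw1, ← hw2, ← ringKrullDim_stalk_eq_of_flat_lqf, ← ringKrullDim_stalk_eq_of_flat_lqf]

theorem hasAt_ringKrullDim_iff_forall {X : Sp S} (hX : IsAlgSpace X) (x : Points X)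
    (d : WithBot ℕ∞) :
    HasAt (fun U u => ringKrullDim ↥(U.presheaf.stalk u) = d) X x ↔
      ∀ (U : Over S) (a : (yon S).obj U ⟶ X) (u : ↥U.left),
        RepWith @Etale a → Points.ofPt a u = x → ringKrullDim ↥(U.left.presheaf.stalk u) = d := by
  constructor
  · rintro ⟨U₀, a₀, u₀, ha₀, hu₀, hd⟩ U a u ha hu
    rw [← hd]
    exact ringKrullDim_stalk_chart_indep a ha a₀ ha₀ u u₀ (hu.trans hu₀.symm)
  · intro h
    obtain ⟨U, a, hae, has⟩ := hX.atlas
    obtain ⟨u, hu⟩ := ofPt_surjective_of_repWith has x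
    exact ⟨U, a, u, hae, hu, h U a u hae hu⟩


set_option backward.isDefEq.respectTransparency.types false in
/-- The local dimension of an etale chart at a point does not depend on the chart. -/
theorem localDim_chart_indep {X : Sp S} {U U' : Over S} (a : (yon S).obj U ⟶ X)
    (ha : RepWith @Etale a) (a' : (yon S).obj U' ⟶ X) (ha' : RepWith @Etale a') (u : ↥U.left)
    (u' : ↥U'.left) (h : Points.ofPt a u = Points.ofPt a' u') :
    FlatMor.localDim ↥U.left u = FlatMor.localDim ↥U'.left u' := by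
  have sq := ha.rep.isPullback' a'
  have h1 : Etale (ha.rep.snd a').left := ha.property_snd a'
  have h2 : Etale (ha.rep.fst' a').left := by
    have : RepWith @Etale ((yon S).map (ha.rep.fst' a')) := repWith_of_isPullback _ sq.flip ha'
    exact (repWith_yon_map_iff _ _).1 this
  have : LocallyQuasiFinite (ha.rep.snd a').left := etale_locallyQuasiFinite _
  have : LocallyQuasiFinite (ha.rep.fst' a').left := etale_locallyQuasiFinite _
  have : Flat (ha.rep.snd a').left := inferInstance
  have : Flat (ha.rep.fst' a').left := inferInstance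
  obtain ⟨w, hw1, hw2⟩ := exists_point_of_isPullback_yon sq u u' h
  rw [← hw1, ← hw2, ← localDim_eq_of_flat_lqf _ (ha.rep.fst' a').left.isOpenMap,
    ← localDim_eq_of_flat_lqf _ (ha.rep.snd a').left.isOpenMap]

/-- Chart-independent properties at a point are preserved and reflected by etale morphisms. -/
theorem hasAt_iff_of_isEtaleMor {Q : ∀ U : Scheme.{u}, ↥U → Prop}
    (hQ : ∀ {Y : Sp S} {U U' : Over S} (a : (yon S).obj U ⟶ Y) (_ : RepWith @Etale a)
      (a' : (yon S).obj U' ⟶ Y) (_ : RepWith @Etale a') (u : ↥U.left) (u' : ↥U'.left),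
      Points.ofPt a u = Points.ofPt a' u' → (Q U.left u ↔ Q U'.left u'))
    {X Y : Sp S} (hX : IsAlgSpace X) (f : X ⟶ Y) (hf : IsEtaleMor f) (x : Points X) :
    HasAt Q X x ↔ HasAt Q Y (Points.map f x) := by
  constructor
  · rintro ⟨U, a, u, ha, hu, hq⟩
    exact ⟨U, a ≫ f, u, hf a ha, by rw [← Points.map_ofPt, hu], hq⟩
  · rintro ⟨V, b, v, hb, hv, hq⟩
    obtain ⟨U, a, hae, has⟩ := hX.atlas
    obtain ⟨u, hu⟩ := ofPt_surjective_of_repWith has x
    refine ⟨U, a, u, hae, hu, ?_⟩
    refine (hQ (a ≫ f) (hf a hae) b hb u v ?_).2 hq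
    rw [← Points.map_ofPt, hu, hv]


set_option backward.isDefEq.respectTransparency.types false in
theorem dim_eq_of_isEtaleMor_of_isSurjectiveMor {X Y : Sp S} (hX : IsAlgSpace X) (f : X ⟶ Y)
    (hf : IsEtaleMor f) (hs : IsSurjectiveMor f) : AlgSp.dim X = AlgSp.dim Y := by
  unfold AlgSp.dim
  apply le_antisymm
  · refine iSup_le fun U => iSup_le fun a => iSup_le fun ha => ?_
    exact le_iSup_of_le U (le_iSup_of_le (a ≫ f) (le_iSup_of_le (hf a ha) le_rfl))
  · refine iSup_le fun V => iSup_le fun b => iSup_le fun hb => ?_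
    obtain ⟨U₀, a₀, ha₀e, ha₀s⟩ := hX.atlas
    have hc := hf a₀ ha₀e
    have sq := hc.rep.isPullback' b
    have h1 : Etale (hc.rep.snd b).left := hc.property_snd b
    have h2 : Etale (hc.rep.fst' b).left := by
      have : RepWith @Etale ((yon S).map (hc.rep.fst' b)) := repWith_of_isPullback _ sq.flip hb
      exact (repWith_yon_map_iff _ _).1 this
    have : LocallyQuasiFinite (hc.rep.snd b).left := etale_locallyQuasiFinite _
    have : Flat (hc.rep.snd b).left := inferInstance
    have hsurj : Surjective (hc.rep.snd b).left := by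
      refine ⟨fun v => ?_⟩
      obtain ⟨x, hx⟩ := hs (Points.ofPt b v)
      obtain ⟨u₀, hu₀⟩ := ofPt_surjective_of_repWith ha₀s x
      obtain ⟨w, -, hw⟩ := exists_point_of_isPullback_yon sq u₀ v
        (by rw [← Points.map_ofPt, hu₀, hx])
      exact ⟨w, hw⟩
    rw [← topologicalKrullDim_eq_of_flat_lqf_surjective (hc.rep.snd b).left]
    have hchart : RepWith @Etale ((yon S).map (hc.rep.fst' b) ≫ a₀) :=
      repWith_comp _ ((repWith_yon_map_iff _ _).2 h2) ha₀e
    exact le_iSup_of_le _ (le_iSup_of_le _ (le_iSup_of_le hchart le_rfl))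


set_option backward.isDefEq.respectTransparency.types false in
theorem ringKrullDim_stalk_le_of_locP_lqf {X Y : Sp S} (hY : IsAlgSpace Y) (f : X ⟶ Y)
    (hf : LocP (@LocallyQuasiFinite ⊓ @LocallyOfFiniteType) f) (x : Points X) (d e : WithBot ℕ∞)
    (hx : HasAt (fun U u => ringKrullDim ↥(U.presheaf.stalk u) = d) X x)
    (hy : HasAt (fun V v => ringKrullDim ↥(V.presheaf.stalk v) = e) Y (Points.map f x)) :
    d ≤ e := by
  obtain ⟨U, a, u, ha, hu, hd⟩ := hx
  obtain ⟨V, b, v, hb, hv, he⟩ := hy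
  have sq := hb.rep.isPullback' (a ≫ f)
  have h1 : Etale (hb.rep.snd (a ≫ f)).left := hb.property_snd _
  have : LocallyQuasiFinite (hb.rep.snd (a ≫ f)).left := etale_locallyQuasiFinite _
  have : Flat (hb.rep.snd (a ≫ f)).left := inferInstance
  have hchart : RepWith @Etale ((yon S).map (hb.rep.snd (a ≫ f)) ≫ a) :=
    repWith_comp _ ((repWith_yon_map_iff _ _).2 h1) ha
  have hlqf : LocallyQuasiFinite (hb.rep.fst' (a ≫ f)).left :=
    (hf ((yon S).map (hb.rep.snd (a ≫ f)) ≫ a) b (hb.rep.fst' (a ≫ f)) hchart hb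
      (by rw [Category.assoc, sq.w])).1
  obtain ⟨w, hw1, hw2⟩ := exists_point_of_isPullback_yon sq v u
    (by rw [hv, ← Points.map_ofPt, hu])
  rw [← hd, ← he, ← hw1, ← hw2, ← ringKrullDim_stalk_eq_of_flat_lqf]
  exact ringKrullDim_stalk_le_of_lqf _ w

set_option backward.isDefEq.respectTransparency.types false in
theorem dim_le_of_locP_lqf {X Y : Sp S} (hY : IsAlgSpace Y) (f : X ⟶ Y)
    (hf : LocP (@LocallyQuasiFinite ⊓ @LocallyOfFiniteType) f) : AlgSp.dim X ≤ AlgSp.dim Y := by
  unfold AlgSp.dim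
  refine iSup_le fun U => iSup_le fun a => iSup_le fun ha => ?_
  obtain ⟨V, b, hb, hbs⟩ := hY.atlas
  have sq := hb.rep.isPullback' (a ≫ f)
  have h1 : Etale (hb.rep.snd (a ≫ f)).left := hb.property_snd _
  have hs1 : Surjective (hb.rep.snd (a ≫ f)).left := hbs.property _ _ _ sq
  have : LocallyQuasiFinite (hb.rep.snd (a ≫ f)).left := etale_locallyQuasiFinite _
  have : Flat (hb.rep.snd (a ≫ f)).left := inferInstance
  have hchart : RepWith @Etale ((yon S).map (hb.rep.snd (a ≫ f)) ≫ a) :=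
    repWith_comp _ ((repWith_yon_map_iff _ _).2 h1) ha
  have hlqf : LocallyQuasiFinite (hb.rep.fst' (a ≫ f)).left :=
    (hf ((yon S).map (hb.rep.snd (a ≫ f)) ≫ a) b (hb.rep.fst' (a ≫ f)) hchart hb
      (by rw [Category.assoc, sq.w])).1
  rw [← topologicalKrullDim_eq_of_flat_lqf_surjective (hb.rep.snd (a ≫ f)).left]
  refine (topologicalKrullDim_le_of_lqf (hb.rep.fst' (a ≫ f)).left).trans ?_
  exact le_iSup_of_le V (le_iSup_of_le b (le_iSup_of_le hb le_rfl))

set_option backward.isDefEq.respectTransparency.types false in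
theorem codimZero_map_of_flat {X Y : Sp S} (hY : IsAlgSpace Y) (f : X ⟶ Y) (hf : LocP @Flat f)
    (x : Points X) (hx : HasAt (fun U u => ringKrullDim ↥(U.presheaf.stalk u) = 0) X x) :
    HasAt (fun U u => ringKrullDim ↥(U.presheaf.stalk u) = 0) Y (Points.map f x) := by
  obtain ⟨U, a, u, ha, hu, hd⟩ := hx
  obtain ⟨V, b, hb, hbs⟩ := hY.atlas
  have sq := hb.rep.isPullback' (a ≫ f)
  have h1 : Etale (hb.rep.snd (a ≫ f)).left := hb.property_snd _
  have hs1 : Surjective (hb.rep.snd (a ≫ f)).left := hbs.property _ _ _ sq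
  have : LocallyQuasiFinite (hb.rep.snd (a ≫ f)).left := etale_locallyQuasiFinite _
  have : Flat (hb.rep.snd (a ≫ f)).left := inferInstance
  have hchart : RepWith @Etale ((yon S).map (hb.rep.snd (a ≫ f)) ≫ a) :=
    repWith_comp _ ((repWith_yon_map_iff _ _).2 h1) ha
  have hflat : Flat (hb.rep.fst' (a ≫ f)).left :=
    hf ((yon S).map (hb.rep.snd (a ≫ f)) ≫ a) b (hb.rep.fst' (a ≫ f)) hchart hb
      (by rw [Category.assoc, sq.w])
  obtain ⟨w, hw⟩ := (hb.rep.snd (a ≫ f)).left.surjective u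
  refine ⟨V, b, (hb.rep.fst' (a ≫ f)).left w, hb, ?_, ?_⟩
  · rw [← ofPt_yon_map_comp, sq.w, ofPt_yon_map_comp, hw, ← Points.map_ofPt, hu]
  · apply le_antisymm
    · refine (ringKrullDim_stalk_le_of_flat _ w).trans ?_
      rw [ringKrullDim_stalk_eq_of_flat_lqf (hb.rep.snd (a ≫ f)).left w, hw, hd]
    · exact ringKrullDim_nonneg_of_nontrivial

theorem dense_codimZero_points {X : Sp S} (hX : IsAlgSpace X) :
    Dense {x : Points X | HasAt (fun U u => ringKrullDim ↥(U.presheaf.stalk u) = 0) X x} := by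
  rw [dense_iff_inter_open]
  intro O hO hne
  obtain ⟨U, a, hae, has⟩ := hX.atlas
  obtain ⟨x, hx⟩ := hne
  obtain ⟨u, rfl⟩ := ofPt_surjective_of_repWith has x
  obtain ⟨η, hη, hd⟩ := exists_generization_codimZero u
  have hηO : Points.ofPt a η ∈ O :=
    (hη.map (Points.continuous_ofPt a)).mem_open hO hx
  exact ⟨Points.ofPt a η, hηO, U, a, η, hae, rfl, hd⟩

end Groth.Agent.Lib.Helper14.AS
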