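import Groth.Agent.Lib.Helper14.AlgSpFibrePt8
import Groth.Agent.Lib.Helper14.NoethDescent
universe u
open CategoryTheory CategoryTheory.Limits AlgebraicGeometry Opposite
namespace Groth.Agent.Lib.Helper14.AS
variable {S : Scheme.{u}}
open AlgSp Groth.Agent.Lib.Helper14.AS

set_option backward.isDefEq.respectTransparency.types false in
/-- A scheme etale over a locally Noetherian space is locally Noetherian. -/
theorem isLocallyNoetherian_of_etale_over {X : Sp S} (hX : IsLocNoethSp X) {U : Over S}
    (a : (yon S).obj U ⟶ X) (ha : RepWith @Etale a) : IsLocallyNoetherian U.left := by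
  obtain ⟨U₀, p₀, hp0e, hp0s, hN⟩ := hX
  have sq := hp0e.rep.isPullback' a
  have h_snd_et : Etale (hp0e.rep.snd a).left := hp0e.property_snd a
  have h_snd_surj : Surjective (hp0e.rep.snd a).left := hp0s.property _ _ _ sq
  have h_fst_et : Etale (hp0e.rep.fst' a).left := by
    have : RepWith @Etale ((yon S).map (hp0e.rep.fst' a)) :=
      repWith_of_isPullback _ sq.flip ha
    exact (repWith_yon_map_iff _ _).1 this
  have hWN : IsLocallyNoetherian (hp0e.rep.pullback a).left :=
    LocallyOfFiniteType.isLocallyNoetherian (hp0e.rep.fst' a).left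
  exact isLocallyNoetherian_of_flat_surjective (hp0e.rep.snd a).left

theorem finite_irreducibleComponents_of_etale_over {X : Sp S} (hX : IsLocNoethSp X) {U : Over S}
    (a : (yon S).obj U ⟶ X) (ha : RepWith @Etale a) (W : U.left.Opens)
    (hW : IsCompact (W : Set ↥U.left)) : (irreducibleComponents ↥W).Finite := by
  have : IsLocallyNoetherian U.left := isLocallyNoetherian_of_etale_over hX a ha
  have : IsLocallyNoetherian W.toScheme := inferInstance
  have : CompactSpace ↥W.toScheme := isCompact_iff_compactSpace.1 hW
  have : IsNoetherian W.toScheme := ⟨⟩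
  have : TopologicalSpace.NoetherianSpace ↥W.toScheme := inferInstance
  exact TopologicalSpace.NoetherianSpace.finite_irreducibleComponents (α := ↥W.toScheme)

end Groth.Agent.Lib.Helper14.AS
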