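import Groth.Agent.Lib.Helper18.SchDim2
import Groth.Agent.Lib.Helper14.RelDimComp
import Groth.Agent.Lib.Helper14.AlgSpNoethChart
import Groth.Agent.Lib.Helper14.AlgSpDim

universe u
open CategoryTheory CategoryTheory.Limits AlgebraicGeometry Opposite TopologicalSpace

namespace Groth.Agent.Lib.Helper14.AS

open AlgSp

/-- The local ring at the generic point of an irreducible component has dimension zero. -/
theorem ringKrullDim_stalk_eq_zero_of_closure_mem {U : Scheme.{u}} (ξ : ↥U)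
    (h : closure {ξ} ∈ irreducibleComponents ↥U) : ringKrullDim (U.presheaf.stalk ξ) = 0 := by
  rw [ringKrullDim_stalk_eq_coheight]
  have : Order.coheight ξ = 0 := by
    rw [Order.coheight_eq_zero]
    intro b (hb : b ⤳ ξ)
    show ξ ⤳ b
    have hsub : closure {ξ} ⊆ closure {b} :=
      closure_minimal (Set.singleton_subset_iff.2 (specializes_iff_mem_closure.1 hb))
        isClosed_closure
    have := h.2 (isIrreducible_singleton.closure) hsub
    rw [specializes_iff_mem_closure]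
    exact this (subset_closure rfl)
  rw [this]
  rfl

variable {S : Scheme.{u}}

/-- The dimension inequality at a point, for algebraic spaces. -/
theorem dim_localRing_le_dimension_formula {X Y : Sp S} (hX : IsAlgSpace X) (hY : IsAlgSpace Y)
    (f : X ⟶ Y) (hYN : IsLocNoethSp Y) (hf : LocP @LocallyOfFiniteType f) (x : Points X)
    (E : Cardinal.{u})
    (hE : ∀ ξ : Points X, ξ ⤳ x → HasAt (fun U u => ringKrullDim ↥(U.presheaf.stalk u) = 0) X ξ →
      ∀ s : Cardinal.{u}, HasAtMor (fun _ _ h u => Dual3.resTrdeg h u = s) f ξ → s ≤ E)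
    (a b : WithBot ℕ∞) (r : Cardinal.{u})
    (ha : HasAt (fun U u => ringKrullDim ↥(U.presheaf.stalk u) = a) X x)
    (hb : HasAt (fun U u => ringKrullDim ↥(U.presheaf.stalk u) = b) Y (Points.map f x))
    (hr : HasAtMor (fun _ _ h u => Dual3.resTrdeg h u = r) f x) :
    a + ((Cardinal.toENat r : ℕ∞) : WithBot ℕ∞) ≤ b + ((Cardinal.toENat E : ℕ∞) : WithBot ℕ∞) := by
  obtain ⟨U, V, p, q, h, u, hpe, hqe, comm, rfl⟩ := exists_chart_diagram_at hX hY f x
  have hVN : IsLocallyNoetherian V.left := isLocallyNoetherian_of_etale_over hYN q hqe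
  have hlft : LocallyOfFiniteType h.left := hf p q h hpe hqe comm
  have hr' := (hasAtMor_ofPt_iff (etSqInv_resTrdeg (fun z => z = r)) f p q h hpe hqe comm u).1 hr
  obtain ⟨U₁, p₁, u₁, hp₁, hu₁, hda⟩ := ha
  obtain ⟨V₁, q₁, v₁, hq₁, hv₁, hdb⟩ := hb
  have hpt : Points.map f (Points.ofPt p u) = Points.ofPt q (h.left u) := by
    rw [Points.map_ofPt, comm, ofPt_yon_map_comp]
  have e1 : ringKrullDim (U.left.presheaf.stalk u) = a := by
    rw [← hda]
    exact ringKrullDim_stalk_chart_indep p hpe p₁ hp₁ u u₁ hu₁.symm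
  have e2 : ringKrullDim (V.left.presheaf.stalk (h.left u)) = b := by
    rw [← hdb]
    exact ringKrullDim_stalk_chart_indep q hqe q₁ hq₁ (h.left u) v₁ (hpt.symm.trans hv₁.symm)
  obtain ⟨n, hn⟩ := Groth.Agent.Lib.Helper18.SchDim.exists_nat_trdeg_residueField h.left u
  have hrn : r = (n : Cardinal.{u}) := hr'.symm.trans hn
  have hEgen : ∀ ξ : ↥U.left, closure {ξ} ∈ irreducibleComponents ↥U.left → ξ ⤳ u →
      Dual3.resTrdeg h.left ξ ≤ E := by
    intro ξ hξ hsp
    refine hE (Points.ofPt p ξ) (hsp.map (Points.continuous_ofPt p))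
      ⟨U, p, ξ, hpe, rfl, ringKrullDim_stalk_eq_zero_of_closure_mem ξ hξ⟩ _
      ⟨U, V, p, q, h, ξ, hpe, hqe, comm, rfl, rfl⟩
  rw [← e1, ← e2, hrn]
  simp only [Cardinal.toENat_nat]
  by_cases hEfin : E < Cardinal.aleph0
  · obtain ⟨E', rfl⟩ := Cardinal.lt_aleph0.1 hEfin
    simp only [Cardinal.toENat_nat]
    have := Groth.Agent.Lib.Helper18.SchDim.stalk_dim_inequality h.left u n E' hn
      (fun ξ hξ hsp => hEgen ξ hξ hsp)
    exact_mod_cast this
  · have hE' : Cardinal.toENat E = ⊤ := by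
      rw [Cardinal.toENat_eq_top]
      exact not_lt.1 hEfin
    rw [hE']
    have hnb : ringKrullDim (V.left.presheaf.stalk (h.left u)) ≠ ⊥ := by
      have : Nontrivial (V.left.presheaf.stalk (h.left u)) := inferInstance
      exact ringKrullDim_ne_bot
    obtain ⟨c, hc⟩ := WithBot.ne_bot_iff_exists.1 hnb
    rw [← hc]
    have : ((c : WithBot ℕ∞) + ((⊤ : ℕ∞) : WithBot ℕ∞)) = ((⊤ : ℕ∞) : WithBot ℕ∞) := by
      rw [← WithBot.coe_add, add_top]
    rw [this]
    exact le_top


set_option backward.isDefEq.respectTransparency.types false in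
/-- The global dimension inequality for algebraic spaces. -/
theorem dim_le_dim_add_of_lft {X Y : Sp S} (hY : IsAlgSpace Y)
    (f : X ⟶ Y) (hYN : IsLocNoethSp Y) (hf : LocP @LocallyOfFiniteType f) (E : Cardinal.{u})
    (hE : ∀ ξ : Points X, HasAt (fun U u => ringKrullDim ↥(U.presheaf.stalk u) = 0) X ξ →
      ∀ s : Cardinal.{u}, HasAtMor (fun _ _ h u => Dual3.resTrdeg h u = s) f ξ → s ≤ E) :
    AlgSp.dim X ≤ AlgSp.dim Y + ((Cardinal.toENat E : ℕ∞) : WithBot ℕ∞) := by
  unfold AlgSp.dim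
  refine iSup_le fun U => iSup_le fun a => iSup_le fun hae => ?_
  obtain ⟨V, b, hbe, hbs⟩ := hY.atlas
  have sq := hbe.rep.isPullback' (a ≫ f)
  have hπe : Etale (hbe.rep.snd (a ≫ f)).left := hbe.property_snd _
  have hπs : Surjective (hbe.rep.snd (a ≫ f)).left := hbs.property_snd _
  have ha' : RepWith @Etale ((yon S).map (hbe.rep.snd (a ≫ f)) ≫ a) :=
    repWith_comp _ ((repWith_yon_map_iff _ _).2 hπe) hae
  have comm : ((yon S).map (hbe.rep.snd (a ≫ f)) ≫ a) ≫ f =
      (yon S).map (hbe.rep.fst' (a ≫ f)) ≫ b := by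
    rw [Category.assoc]; exact sq.w.symm
  have hlft : LocallyOfFiniteType (hbe.rep.fst' (a ≫ f)).left := hf _ b _ ha' hbe comm
  have hVN : IsLocallyNoetherian V.left := isLocallyNoetherian_of_etale_over hYN b hbe
  have : LocallyQuasiFinite (hbe.rep.snd (a ≫ f)).left := etale_locallyQuasiFinite _
  have : Flat (hbe.rep.snd (a ≫ f)).left := inferInstance
  have hdimU : topologicalKrullDim ↥U.left = topologicalKrullDim ↥(hbe.rep.pullback (a ≫ f)).left :=
    (topologicalKrullDim_eq_of_flat_lqf_surjective (hbe.rep.snd (a ≫ f)).left).symm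
  have hdimV : topologicalKrullDim ↥V.left ≤
      ⨆ (U : Over S) (a : (yon S).obj U ⟶ Y) (_ : RepWith @Etale a), topologicalKrullDim ↥U.left :=
    le_iSup_of_le V (le_iSup_of_le b (le_iSup_of_le hbe le_rfl))
  have hEgen : ∀ ξ : ↥(hbe.rep.pullback (a ≫ f)).left,
      closure {ξ} ∈ irreducibleComponents ↥(hbe.rep.pullback (a ≫ f)).left →
      Dual3.resTrdeg (hbe.rep.fst' (a ≫ f)).left ξ ≤ E := by
    intro ξ hξ
    refine hE (Points.ofPt ((yon S).map (hbe.rep.snd (a ≫ f)) ≫ a) ξ)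
      ⟨_, _, ξ, ha', rfl, ringKrullDim_stalk_eq_zero_of_closure_mem ξ hξ⟩ _
      ⟨_, V, _, b, _, ξ, ha', hbe, comm, rfl, rfl⟩
  rw [hdimU]
  by_cases hEfin : E < Cardinal.aleph0
  · obtain ⟨E', rfl⟩ := Cardinal.lt_aleph0.1 hEfin
    simp only [Cardinal.toENat_nat]
    have := Groth.Agent.Lib.Helper18.SchDim.topologicalKrullDim_le_add
      (hbe.rep.fst' (a ≫ f)).left E' (fun ξ hξ => hEgen ξ hξ)
    refine this.trans (add_le_add hdimV ?_)
    exact le_of_eq (by norm_cast)
  · have hE' : Cardinal.toENat E = ⊤ := by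
      rw [Cardinal.toENat_eq_top]
      exact not_lt.1 hEfin
    rw [hE']
    by_cases hemp : IsEmpty ↥(hbe.rep.pullback (a ≫ f)).left
    · have : IsEmpty (IrreducibleCloseds ↥(hbe.rep.pullback (a ≫ f)).left) :=
        ⟨fun s => hemp.elim s.isIrreducible'.nonempty.some⟩
      rw [topologicalKrullDim, Order.krullDim_eq_bot]
      exact bot_le
    · rw [not_isEmpty_iff] at hemp
      obtain ⟨w⟩ := hemp
      have : Nonempty ↥V.left := ⟨(hbe.rep.fst' (a ≫ f)).left w⟩
      have hnb : topologicalKrullDim ↥V.left ≠ ⊥ := by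
        intro h0
        have := topologicalKrullDim_nonneg' ↥V.left
        rw [h0] at this
        exact absurd this (by decide)
      have hnb' : (⨆ (U : Over S) (a : (yon S).obj U ⟶ Y) (_ : RepWith @Etale a),
          topologicalKrullDim ↥U.left) ≠ ⊥ := fun h0 => hnb (le_bot_iff.1 (h0 ▸ hdimV))
      obtain ⟨c, hc⟩ := WithBot.ne_bot_iff_exists.1 hnb'
      rw [← hc]
      have : ((c : WithBot ℕ∞) + ((⊤ : ℕ∞) : WithBot ℕ∞)) = ((⊤ : ℕ∞) : WithBot ℕ∞) := by
        rw [← WithBot.coe_add, add_top]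
      rw [this]
      exact le_top

end Groth.Agent.Lib.Helper14.AS
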