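import Groth.Agent.Lib.Helper14.LqfLocus
import Groth.Agent.Lib.Helper14.DimFormula
import Groth.Agent.Lib.Helper21.FibDim14
import Groth.Agent.Lib.Helper21.FibDim5

universe u
open CategoryTheory CategoryTheory.Limits AlgebraicGeometry Opposite TopologicalSpace

namespace Groth.Agent.Lib.Helper14.AS

open AlgSp

section Sch

variable {U V : Scheme.{u}} (h : U ⟶ V) [LocallyOfFiniteType h]

/-- Quasi-finiteness at a point in the neighbourhood sense is vanishing of the local fibre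
dimension. -/
theorem qfAt_iff_fibreDimAt_eq_zero (u : ↥U) :
    (∃ W : U.Opens, u ∈ W ∧ LocallyQuasiFinite (W.ι ≫ h) ∧ LocallyOfFiniteType (W.ι ≫ h)) ↔
      FlatMor.fibreDimAt h u = 0 := by
  constructor
  · rintro ⟨W, huW, h1, h2⟩
    exact fibreDimAt_eq_zero_of_opens_lqf h W u huW h1 h2
  · intro h0
    exact exists_opens_lqf_of_fibreDimAt_le_zero h u (le_of_eq h0)

theorem resTrdeg_eq_zero_of_fibreDimAt_eq_zero (u : ↥U) (h0 : FlatMor.fibreDimAt h u = 0) :
    Dual3.resTrdeg h u = 0 := by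
  obtain ⟨a, b, ha, hb, hab⟩ := Groth.Agent.Lib.Helper21.FibDim.exists_fibreDimAt_eq_add h u
  rw [h0] at hab
  have : a + b = 0 := by exact_mod_cast hab.symm
  have ha0 : a = 0 := by omega
  unfold Dual3.resTrdeg
  rw [ha, ha0]
  rfl

/-- At a point without proper generizations in its fibre, the local fibre dimension is the
residual transcendence degree. -/
theorem fibreDimAt_eq_resTrdeg_of_no_generization (u : ↥U)
    (hu : ∀ ξ : ↥U, ξ ⤳ u → h ξ = h u → ξ = u) :
    ∃ n : ℕ, FlatMor.fibreDimAt h u = n ∧ Dual3.resTrdeg h u = n := by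
  obtain ⟨n, hn, ⟨ξ, hξ, hξh, hξn⟩, -⟩ :=
    Groth.Agent.Lib.Helper21.FibDim.exists_fibreDimAt_eq_trdeg h u
  have := hu ξ hξ hξh
  subst this
  exact ⟨n, hn, hξn⟩

theorem eq_of_specializes_of_resTrdeg_eq_zero {u z : ↥U} (hsp : u ⤳ z) (hz : h u = h z)
    (h0 : Dual3.resTrdeg h u = 0) : u = z := by
  by_contra hne
  have := Groth.Agent.Lib.Helper21.FibDim.trdeg_lt_of_specializes_of_ne h hsp hne hz
  unfold Dual3.resTrdeg at h0
  rw [h0] at this
  exact absurd this (not_lt.2 zero_le)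

theorem exists_specializes_resTrdeg_eq_zero (u : ↥U) :
    ∃ z : ↥U, u ⤳ z ∧ h z = h u ∧ Dual3.resTrdeg h z = 0 := by
  obtain ⟨z, -, hsp, hz, htr⟩ :=
    Groth.Agent.Lib.Helper21.FibDim.exists_mem_specializes_fiber_trdeg_eq_zero h ⊤ u trivial
  exact ⟨z, hsp, hz, htr⟩

end Sch

variable {S : Scheme.{u}}

/-- For morphisms locally of finite type, quasi-finiteness at a point is vanishing of the
relative dimension at the point. -/
theorem hasAtMor_qf_iff {X Y : Sp S} (f : X ⟶ Y) (hf : LocP @LocallyOfFiniteType f)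
    (x : Points X) :
    HasAtMor (fun U _ h u => ∃ W : U.Opens, u ∈ W ∧ LocallyQuasiFinite (W.ι ≫ h) ∧
      LocallyOfFiniteType (W.ι ≫ h)) f x ↔
    HasAtMor (fun _ _ h u => FlatMor.fibreDimAt h u = 0) f x := by
  constructor
  · rintro ⟨U, V, a, b, h, u, hae, hbe, comm, hu, hq⟩
    have : LocallyOfFiniteType h.left := hf a b h hae hbe comm
    exact ⟨U, V, a, b, h, u, hae, hbe, comm, hu, (qfAt_iff_fibreDimAt_eq_zero h.left u).1 hq⟩
  · rintro ⟨U, V, a, b, h, u, hae, hbe, comm, hu, hq⟩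
    have : LocallyOfFiniteType h.left := hf a b h hae hbe comm
    exact ⟨U, V, a, b, h, u, hae, hbe, comm, hu, (qfAt_iff_fibreDimAt_eq_zero h.left u).2 hq⟩


set_option backward.isDefEq.respectTransparency.types false in
/-- Over a point of codimension at most one of a locally Noetherian base, a morphism locally
of finite type whose codimension zero points above have algebraic residue field extensions is
quasi-finite at all points of the fibre. -/
theorem quasiFiniteAt_over_codim_le_one_of_trdeg_zero {X Y : Sp S} (hX : IsAlgSpace X)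
    (hY : IsAlgSpace Y) (f : X ⟶ Y) (hf : LocP @LocallyOfFiniteType f) (hYN : IsLocNoethSp Y)
    (y : Points Y) (hy : HasAt (fun U u => ringKrullDim ↥(U.presheaf.stalk u) ≤ 1) Y y)
    (h : ∀ x : Points X, HasAt (fun U u => ringKrullDim ↥(U.presheaf.stalk u) = 0) X x →
      Points.map f x ⤳ y → HasAtMor (fun _ _ h u => Dual3.resTrdeg h u = 0) f x)
    (x : Points X) (hx : Points.map f x = y) :
    HasAtMor (fun U _ h u => ∃ W : U.Opens, u ∈ W ∧ LocallyQuasiFinite (W.ι ≫ h) ∧
      LocallyOfFiniteType (W.ι ≫ h)) f x := by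
  rw [hasAtMor_qf_iff f hf]
  obtain ⟨U, V, a, b, k, u, hae, hbe, comm, rfl⟩ := exists_chart_diagram_at hX hY f x
  have hVN : IsLocallyNoetherian V.left := isLocallyNoetherian_of_etale_over hYN b hbe
  have hlft : LocallyOfFiniteType k.left := hf a b k hae hbe comm
  refine ⟨U, V, a, b, k, u, hae, hbe, comm, rfl, ?_⟩
  have hpt : ∀ w : ↥U.left, Points.map f (Points.ofPt a w) = Points.ofPt b (k.left w) := by
    intro w
    rw [Points.map_ofPt, comm, ofPt_yon_map_comp]
  obtain ⟨N, hN, ⟨ξ, hξu, hξk, hξN⟩, -⟩ :=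
    Groth.Agent.Lib.Helper21.FibDim.exists_fibreDimAt_eq_trdeg k.left u
  have hyξ : Points.ofPt b (k.left ξ) = y := by rw [hξk, ← hpt, hx]
  -- trdeg of codimension zero generizations
  have hgen : ∀ η : ↥U.left, ringKrullDim (U.left.presheaf.stalk η) = 0 → η ⤳ ξ →
      Dual3.resTrdeg k.left η = 0 := by
    intro η hη hsp
    have h1 : Points.map f (Points.ofPt a η) ⤳ y := by
      rw [hpt, ← hyξ]
      exact (hsp.map k.left.continuous).map (Points.continuous_ofPt b)
    exact (hasAtMor_ofPt_iff (etSqInv_resTrdeg (fun z => z = 0)) f a b k hae hbe comm η).1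
      (h _ ⟨U, a, η, hae, rfl, hη⟩ h1)
  have hineq := Groth.Agent.Lib.Helper18.SchDim.stalk_dim_inequality k.left ξ N 0 hξN
    (fun η hη hsp => by
      have := hgen η (ringKrullDim_stalk_eq_zero_of_closure_mem η hη) hsp
      unfold Dual3.resTrdeg at this
      rw [this]
      exact le_of_eq (by norm_cast))
  obtain ⟨V₁, b₁, v₁, hb₁, hv₁, hd₁⟩ := hy
  have hdimV : ringKrullDim (V.left.presheaf.stalk (k.left ξ)) ≤ 1 := by
    rw [ringKrullDim_stalk_chart_indep b hbe b₁ hb₁ (k.left ξ) v₁ (hyξ.trans hv₁.symm)]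
    exact hd₁
  change FlatMor.fibreDimAt k.left u = 0
  rw [hN]
  by_contra hN0
  have hN1 : 1 ≤ N := Nat.one_le_iff_ne_zero.2 (fun h0 => hN0 (by rw [h0]; rfl))
  have hD : ringKrullDim (U.left.presheaf.stalk ξ) ≤ 0 := by
    refine Groth.Agent.Lib.Helper21.FibDim.le_of_add_nat_le_add_nat _ _ 1 ?_
    calc ringKrullDim (U.left.presheaf.stalk ξ) + ((1 : ℕ) : WithBot ℕ∞)
        ≤ ringKrullDim (U.left.presheaf.stalk ξ) + (N : WithBot ℕ∞) :=
          add_le_add le_rfl (by exact_mod_cast hN1)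
      _ ≤ ringKrullDim (V.left.presheaf.stalk (k.left ξ)) + ((0 : ℕ) : WithBot ℕ∞) := hineq
      _ ≤ 1 + ((0 : ℕ) : WithBot ℕ∞) := add_le_add hdimV le_rfl
      _ = 0 + ((1 : ℕ) : WithBot ℕ∞) := by norm_num
  have hD0 : ringKrullDim (U.left.presheaf.stalk ξ) = 0 :=
    le_antisymm hD ringKrullDim_nonneg_of_nontrivial
  have := hgen ξ hD0 specializes_rfl
  unfold Dual3.resTrdeg at this
  rw [hξN] at this
  have : N = 0 := by exact_mod_cast this
  omega


theorem hasAtMor_resTrdeg_zero_of_qf {X Y : Sp S} (f : X ⟶ Y) (hf : LocP @LocallyOfFiniteType f)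
    (x : Points X)
    (h : HasAtMor (fun U _ h u => ∃ W : U.Opens, u ∈ W ∧ LocallyQuasiFinite (W.ι ≫ h) ∧
      LocallyOfFiniteType (W.ι ≫ h)) f x) :
    HasAtMor (fun _ _ h u => Dual3.resTrdeg h u = 0) f x := by
  obtain ⟨U, V, a, b, k, u, hae, hbe, comm, hu, hq⟩ := (hasAtMor_qf_iff f hf x).1 h
  have : LocallyOfFiniteType k.left := hf a b k hae hbe comm
  exact ⟨U, V, a, b, k, u, hae, hbe, comm, hu, resTrdeg_eq_zero_of_fibreDimAt_eq_zero k.left u hq⟩

end Groth.Agent.Lib.Helper14.AS
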