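import Groth.Agent.Lib.Helper14.LftField
import Groth.Agent.Lib.Helper14.QfAt
import Groth.Agent.Lib.Helper14.FibreDim
import Groth.Agent.Lib.Helper14.IntegralQf

universe u
open CategoryTheory CategoryTheory.Limits AlgebraicGeometry Opposite TopologicalSpace

namespace Groth.Agent.Lib.Helper14.AS

open AlgSp

section Sch

variable {U V : Scheme.{u}} (h : U ⟶ V) [LocallyOfFiniteType h]

set_option backward.isDefEq.respectTransparency.types false in
theorem isLocallyNoetherian_fiber (v : ↥V) : IsLocallyNoetherian (h.fiber v) := by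
  have : LocallyOfFiniteType (h.fiberToSpecResidueField v) :=
    MorphismProperty.pullback_snd _ _ inferInstance
  exact LocallyOfFiniteType.isLocallyNoetherian (h.fiberToSpecResidueField v)

/-- `fibreDimAt h u = 0` iff the point of the fibre is open. -/
theorem fibreDimAt_eq_zero_iff_isOpen_asFiber (u : ↥U) :
    FlatMor.fibreDimAt h u = 0 ↔ IsOpen ({h.asFiber u} : Set ↥(h.fiber (h u))) := by
  constructor
  · exact isOpen_singleton_asFiber_of_fibreDimAt h u
  · intro ho
    exact localDim_eq_zero_of_isOpen_singleton _ ho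

/-- If an open neighbourhood of `u` has no nontrivial specializations inside the fibre through
`u`, then `h` has fibre dimension `0` at `u`. -/
theorem fibreDimAt_eq_zero_of_no_specialization (u : ↥U) (O : Set ↥U) (hO : IsOpen O)
    (hu : u ∈ O)
    (hsp : ∀ u₁ ∈ O, ∀ u₂ ∈ O, h u₁ = h u → h u₂ = h u → u₁ ⤳ u₂ → u₁ = u₂) :
    FlatMor.fibreDimAt h u = 0 := by
  rw [fibreDimAt_eq_zero_iff_isOpen_asFiber]
  have := isLocallyNoetherian_fiber h (h u)
  let OT : (h.fiber (h u)).Opens := ⟨(h.fiberι (h u)) ⁻¹' O, hO.preimage (h.fiberι (h u)).continuous⟩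
  have hmem : ∀ t : ↥(h.fiber (h u)), h ((h.fiberι (h u)) t) = h u := by
    intro t
    have : (h.fiberι (h u)) t ∈ Set.range (h.fiberι (h u)) := ⟨t, rfl⟩
    rw [Scheme.Hom.range_fiberι] at this
    exact this
  refine isOpen_singleton_of_no_specialization OT ?_ ?_
  · intro w hw w' hw' hs
    have := hsp _ hw' _ hw (hmem w') (hmem w) (hs.map (h.fiberι (h u)).continuous)
    exact (h.fiberι (h u)).isEmbedding.injective this
  · change (h.fiberι (h u)) (h.asFiber u) ∈ O
    rw [Scheme.Hom.fiberι_asFiber]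
    exact hu

/-- If `h` has fibre dimension `0` at `u`, then `u` is isolated in its fibre. -/
theorem exists_isOpen_inter_fibre_eq_of_fibreDimAt_eq_zero (u : ↥U)
    (h0 : FlatMor.fibreDimAt h u = 0) :
    ∃ O : Set ↥U, IsOpen O ∧ u ∈ O ∧ ∀ u' ∈ O, h u' = h u → u' = u := by
  rw [fibreDimAt_eq_zero_iff_isOpen_asFiber] at h0
  obtain ⟨O, hO, hOe⟩ := (h.fiberι (h u)).isEmbedding.isInducing.isOpen_iff.1 h0
  refine ⟨O, hO, ?_, ?_⟩
  · have : h.asFiber u ∈ (h.fiberι (h u)) ⁻¹' O := by rw [hOe]; rfl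
    rwa [Set.mem_preimage, Scheme.Hom.fiberι_asFiber] at this
  · intro u' hu' he
    have : u' ∈ Set.range (h.fiberι (h u)) := by
      rw [Scheme.Hom.range_fiberι]; exact he
    obtain ⟨t, rfl⟩ := this
    have : t ∈ (h.fiberι (h u)) ⁻¹' O := hu'
    rw [hOe, Set.mem_singleton_iff] at this
    rw [this, Scheme.Hom.fiberι_asFiber]

/-- A subset of a fibre all of whose points have fibre dimension `0` is closed in the fibre. -/
theorem closure_inter_fibre_subset_of_fibreDimAt_eq_zero (v : ↥V) (Z : Set ↥U)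
    (hZv : ∀ z ∈ Z, h z = v) (hZ0 : ∀ z ∈ Z, FlatMor.fibreDimAt h z = 0) :
    ∀ u' ∈ closure Z, h u' = v → u' ∈ Z := by
  have := isLocallyNoetherian_fiber h v
  have hJ : JacobsonSpace ↥(h.fiber v) := inferInstance
  have hopen : ∀ t : ↥(h.fiber v), (h.fiberι v) t ∈ Z → IsOpen ({t} : Set ↥(h.fiber v)) := by
    intro t ht
    have hv : h ((h.fiberι v) t) = v := hZv _ ht
    have h0 := hZ0 _ ht
    obtain ⟨O, hO, huO, hOu⟩ := exists_isOpen_inter_fibre_eq_of_fibreDimAt_eq_zero h _ h0
    have : ({t} : Set ↥(h.fiber v)) = (h.fiberι v) ⁻¹' O := by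
      ext t'
      simp only [Set.mem_singleton_iff, Set.mem_preimage]
      constructor
      · rintro rfl; exact huO
      · intro ht'
        have hv' : h ((h.fiberι v) t') = v := by
          have : (h.fiberι v) t' ∈ Set.range (h.fiberι v) := ⟨t', rfl⟩
          rw [Scheme.Hom.range_fiberι] at this
          exact this
        exact (h.fiberι v).isEmbedding.injective (hOu _ ht' (hv'.trans hv.symm))
    rw [this]
    exact hO.preimage (h.fiberι v).continuous
  let ZT : (h.fiber v).Opens := ⟨(h.fiberι v) ⁻¹' Z, by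
    rw [isOpen_iff_forall_mem_open]
    intro t ht
    exact ⟨{t}, Set.singleton_subset_iff.2 ht, hopen t ht, rfl⟩⟩
  have hZTc : IsClosed (ZT : Set ↥(h.fiber v)) := by
    refine isClosed_of_isOpen_of_no_specialization ZT ?_
    intro w hw w' _ hs
    exact hs.mem_open (hopen w hw) rfl
  intro u' hu' hv'
  have : u' ∈ Set.range (h.fiberι v) := by
    rw [Scheme.Hom.range_fiberι]; exact hv'
  obtain ⟨t', rfl⟩ := this
  have hcl : t' ∈ closure (ZT : Set ↥(h.fiber v)) := by
    rw [(h.fiberι v).isEmbedding.isInducing.closure_eq_preimage_closure_image]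
    refine closure_mono ?_ hu'
    intro z hz
    have : z ∈ Set.range (h.fiberι v) := by
      rw [Scheme.Hom.range_fiberι]; exact hZv z hz
    obtain ⟨t, rfl⟩ := this
    exact ⟨t, hz, rfl⟩
  rw [hZTc.closure_eq] at hcl
  exact hcl

/-- A subset of a fibre that is closed in the fibre, stable under generization in the fibre and
has no nontrivial specializations consists of points of fibre dimension `0`. -/
theorem fibreDimAt_eq_zero_of_closed_stable (v : ↥V) (Z : Set ↥U)
    (hZv : ∀ z ∈ Z, h z = v)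
    (hcl : ∀ u' ∈ closure Z, h u' = v → u' ∈ Z)
    (hgen : ∀ z ∈ Z, ∀ u' : ↥U, u' ⤳ z → h u' = v → u' ∈ Z)
    (hsp : ∀ z₁ ∈ Z, ∀ z₂ ∈ Z, z₁ ⤳ z₂ → z₁ = z₂) :
    ∀ z ∈ Z, FlatMor.fibreDimAt h z = 0 := by
  have := isLocallyNoetherian_fiber h v
  have hmem : ∀ t : ↥(h.fiber v), h ((h.fiberι v) t) = v := by
    intro t
    have : (h.fiberι v) t ∈ Set.range (h.fiberι v) := ⟨t, rfl⟩
    rw [Scheme.Hom.range_fiberι] at this
    exact this
  have hZTc : IsClosed ((h.fiberι v) ⁻¹' Z) := by
    rw [← closure_subset_iff_isClosed]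
    intro t ht
    rw [(h.fiberι v).isEmbedding.isInducing.closure_eq_preimage_closure_image] at ht
    have h1 : (h.fiberι v) t ∈ closure Z := by
      refine closure_mono ?_ ht
      rintro _ ⟨t', ht', rfl⟩
      exact ht'
    exact hcl _ h1 (hmem t)
  have hZTg : StableUnderGeneralization ((h.fiberι v) ⁻¹' Z) := by
    intro t t' hs ht
    exact hgen _ ht _ (hs.map (h.fiberι v).continuous) (hmem t')
  have hZTo : IsOpen ((h.fiberι v) ⁻¹' Z) :=
    isOpen_of_isClosed_of_stableUnderGeneralization _ hZTc hZTg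
  intro z hz
  have hzv := hZv z hz
  subst hzv
  rw [fibreDimAt_eq_zero_iff_isOpen_asFiber]
  refine isOpen_singleton_of_no_specialization ⟨_, hZTo⟩ ?_ ?_
  · intro w hw w' hw' hs
    exact (h.fiberι (h z)).isEmbedding.injective
      (hsp _ hw' _ hw (hs.map (h.fiberι (h z)).continuous))
  · change (h.fiberι (h z)) (h.asFiber z) ∈ Z
    rw [Scheme.Hom.fiberι_asFiber]
    exact hz

end Sch


section Sp

variable {S : Scheme.{u}} {X Y : Sp S}

/-- `map f (ofPt a u) = ofPt b (h u)` for a chart diagram. -/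
theorem map_ofPt_chart (f : X ⟶ Y) {U V : Over S} (a : (yon S).obj U ⟶ X)
    (b : (yon S).obj V ⟶ Y) (h : U ⟶ V) (comm : a ≫ f = (yon S).map h ≫ b) (u : ↥U.left) :
    Points.map f (Points.ofPt a u) = Points.ofPt b (h.left u) := by
  rw [Points.map_ofPt, comm, ofPt_yon_map_comp]

/-- Two points of a chart in the same fibre of `h` and over the same point of `|X|`, one
specializing to the other, are equal. -/
theorem eq_of_specializes_of_chart_fibre (f : X ⟶ Y) {U V : Over S} (a : (yon S).obj U ⟶ X)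
    (b : (yon S).obj V ⟶ Y) (h : U ⟶ V) (ha : RepWith @Etale a) (hb : RepWith @Etale b)
    (comm : a ≫ f = (yon S).map h ≫ b) [LocallyOfFiniteType h.left] {u₁ u₂ : ↥U.left}
    (he : Points.ofPt a u₁ = Points.ofPt a u₂) (hv : h.left u₁ = h.left u₂) (hs : u₁ ⤳ u₂) :
    u₁ = u₂ := by
  by_contra hne
  have hlt := Groth.Agent.Lib.Helper21.FibDim.trdeg_lt_of_specializes_of_ne h.left hs hne hv
  have heq : Dual3.resTrdeg h.left u₁ = Dual3.resTrdeg h.left u₂ :=
    (Q_chart_indep (etSqInv_resTrdeg (fun c => c = Dual3.resTrdeg h.left u₂)) f a b h ha hb comm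
      a b h ha hb comm u₁ u₂ he).2 rfl
  unfold Dual3.resTrdeg at heq
  rw [heq] at hlt
  exact lt_irrefl _ hlt

set_option backward.isDefEq.respectTransparency.types false in
/-- In an etale chart of a decent space, every point is isolated in its fibre over `|Y|`. -/
theorem exists_isOpen_fibre_singleton_of_isDecent (hYd : IsDecent Y) {V : Over S}
    (b : (yon S).obj V ⟶ Y) (hb : RepWith @Etale b) (v : ↥V.left) :
    ∃ V' : Set ↥V.left, IsOpen V' ∧ v ∈ V' ∧
      ∀ v' ∈ V', Points.ofPt b v' = Points.ofPt b v → v' = v := by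
  obtain ⟨N, hNa, hvN, -⟩ := exists_isAffineOpen_mem_and_subset (x := v) (U := ⊤) trivial
  let V₁ : Over S := Over.mk (N.ι ≫ V.hom)
  let ι : V₁ ⟶ V := Over.homMk N.ι rfl
  have hb₁ : RepWith @Etale ((yon S).map ι ≫ b) :=
    repWith_comp _ ((repWith_yon_map_iff _ _).2 (inferInstance : Etale N.ι)) hb
  have hfin := finite_fibre_of_isDecent hYd (Points.ofPt b v) V₁ _ hNa hb₁
  let Fs : Set ↥V.left := ι.left '' (Points.ofPt ((yon S).map ι ≫ b) ⁻¹' {Points.ofPt b v})
  have hFs : Fs.Finite := hfin.image _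
  have hFs_mem : ∀ v' : ↥V.left, v' ∈ N → Points.ofPt b v' = Points.ofPt b v → v' ∈ Fs := by
    intro v' hv'N he
    refine ⟨⟨v', hv'N⟩, ?_, rfl⟩
    rw [Set.mem_preimage, Set.mem_singleton_iff, ofPt_yon_map_comp]
    exact he
  have hFs_fib : ∀ v' ∈ Fs, Points.ofPt b v' = Points.ofPt b v := by
    rintro _ ⟨n, hn, rfl⟩
    rw [Set.mem_preimage, Set.mem_singleton_iff, ofPt_yon_map_comp] at hn
    exact hn
  let C : Set ↥V.left := ⋃ w ∈ Fs \ {v}, closure {w}
  have hC : IsClosed C :=
    Set.Finite.isClosed_biUnion (hFs.subset Set.diff_subset) fun _ _ => isClosed_closure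
  refine ⟨(N : Set ↥V.left) ∩ Cᶜ, N.2.inter hC.isOpen_compl, ⟨hvN, ?_⟩, ?_⟩
  · intro hvC
    simp only [C, Set.mem_iUnion] at hvC
    obtain ⟨w, ⟨hw, hwv⟩, hcl⟩ := hvC
    have hs : w ⤳ v := specializes_iff_mem_closure.2 hcl
    have := eq_of_specializes_of_isDecent hYd b hb (hFs_fib w hw).symm hs
    exact hwv this.symm
  · rintro v' ⟨hv'N, hv'C⟩ he
    by_contra hne
    apply hv'C
    simp only [C, Set.mem_iUnion]
    exact ⟨v', ⟨hFs_mem v' hv'N he, hne⟩, subset_closure rfl⟩

/-- Quasi-finiteness at `x` makes `x` isolated in its fibre (for decent target). -/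
theorem exists_isOpen_inter_fibre_of_qf (hX : IsAlgSpace X) (hY : IsAlgSpace Y) (hYd : IsDecent Y)
    (f : X ⟶ Y) (hf : LocP @LocallyOfFiniteType f) (x : Points X)
    (hq : HasAtMor (fun _ _ h u => FlatMor.fibreDimAt h u = 0) f x) :
    ∃ W : Set (Points X), IsOpen W ∧ x ∈ W ∧
      ∀ x' ∈ W, Points.map f x' = Points.map f x → x' = x := by
  obtain ⟨U, V, a, b, h, u, hae, hbe, comm, rfl⟩ := exists_chart_diagram_at hX hY f x
  have : LocallyOfFiniteType h.left := hf a b h hae hbe comm
  have h0 : FlatMor.fibreDimAt h.left u = 0 :=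
    (hasAtMor_ofPt_iff (etSqInv_fibreDimAt (fun c => c = 0)) f a b h hae hbe comm u).1 hq
  obtain ⟨O, hO, huO, hOu⟩ := exists_isOpen_inter_fibre_eq_of_fibreDimAt_eq_zero h.left u h0
  obtain ⟨V', hV', hvV', hV'v⟩ := exists_isOpen_fibre_singleton_of_isDecent hYd b hbe (h.left u)
  refine ⟨Points.ofPt a '' (O ∩ h.left ⁻¹' V'),
    isOpenMap_ofPt a hae _ (hO.inter (hV'.preimage h.left.continuous)), ⟨u, ⟨huO, hvV'⟩, rfl⟩, ?_⟩
  rintro _ ⟨u', ⟨hu'O, hu'V'⟩, rfl⟩ he
  rw [map_ofPt_chart f a b h comm, map_ofPt_chart f a b h comm] at he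
  have hv : h.left u' = h.left u := hV'v _ hu'V' he
  rw [hOu u' hu'O hv]

/-- If a neighbourhood of `x` meets the fibre through `x` in a set without nontrivial
specializations, then `f` is quasi-finite at `x`. -/
theorem qf_of_no_specialization_nbhd (hX : IsAlgSpace X) (hY : IsAlgSpace Y)
    (f : X ⟶ Y) (hf : LocP @LocallyOfFiniteType f) (x : Points X) (W : Set (Points X))
    (hW : IsOpen W) (hxW : x ∈ W)
    (hsp : ∀ x₁ ∈ W, ∀ x₂ ∈ W, Points.map f x₁ = Points.map f x →
      Points.map f x₂ = Points.map f x → x₁ ⤳ x₂ → x₁ = x₂) :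
    HasAtMor (fun _ _ h u => FlatMor.fibreDimAt h u = 0) f x := by
  obtain ⟨U, V, a, b, h, u, hae, hbe, comm, rfl⟩ := exists_chart_diagram_at hX hY f x
  have : LocallyOfFiniteType h.left := hf a b h hae hbe comm
  refine ⟨U, V, a, b, h, u, hae, hbe, comm, rfl, ?_⟩
  refine fibreDimAt_eq_zero_of_no_specialization h.left u (Points.ofPt a ⁻¹' W)
    (hW.preimage (Points.continuous_ofPt a)) hxW ?_
  intro u₁ hu₁ u₂ hu₂ hv₁ hv₂ hs
  have e1 : Points.map f (Points.ofPt a u₁) = Points.map f (Points.ofPt a u) := by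
    rw [map_ofPt_chart f a b h comm, map_ofPt_chart f a b h comm, hv₁]
  have e2 : Points.map f (Points.ofPt a u₂) = Points.map f (Points.ofPt a u) := by
    rw [map_ofPt_chart f a b h comm, map_ofPt_chart f a b h comm, hv₂]
  have he := hsp _ hu₁ _ hu₂ e1 e2 (hs.map (Points.continuous_ofPt a))
  exact eq_of_specializes_of_chart_fibre f a b h hae hbe comm he (hv₁.trans hv₂.symm) hs

/-- If `x` is closed in its fibre and has no proper generization in its fibre, then `f` is
quasi-finite at `x`. -/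
theorem qf_of_closed_stable (hX : IsAlgSpace X) (hY : IsAlgSpace Y)
    (f : X ⟶ Y) (hf : LocP @LocallyOfFiniteType f) (x : Points X)
    (hcl : ∀ x' : Points X, Points.map f x' = Points.map f x → x ⤳ x' → x' = x)
    (hgen : ∀ x' : Points X, Points.map f x' = Points.map f x → x' ⤳ x → x' = x) :
    HasAtMor (fun _ _ h u => FlatMor.fibreDimAt h u = 0) f x := by
  obtain ⟨U, V, a, b, h, u, hae, hbe, comm, rfl⟩ := exists_chart_diagram_at hX hY f x
  have : LocallyOfFiniteType h.left := hf a b h hae hbe comm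
  refine ⟨U, V, a, b, h, u, hae, hbe, comm, rfl, ?_⟩
  let Z : Set ↥U.left := {z | h.left z = h.left u ∧ Points.ofPt a z = Points.ofPt a u}
  have hover : ∀ u' : ↥U.left, h.left u' = h.left u →
      Points.map f (Points.ofPt a u') = Points.map f (Points.ofPt a u) := by
    intro u' hu'
    rw [map_ofPt_chart f a b h comm, map_ofPt_chart f a b h comm, hu']
  refine fibreDimAt_eq_zero_of_closed_stable h.left (h.left u) Z (fun z hz => hz.1) ?_ ?_ ?_ u
    ⟨rfl, rfl⟩
  · intro u' hu' hv'
    refine ⟨hv', hcl _ (hover u' hv') ?_⟩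
    rw [specializes_iff_mem_closure]
    have h1 : Points.ofPt a u' ∈ closure (Points.ofPt a '' Z) :=
      image_closure_subset_closure_image (Points.continuous_ofPt a) ⟨u', hu', rfl⟩
    refine closure_mono ?_ h1
    rintro _ ⟨z, hz, rfl⟩
    exact hz.2
  · intro z hz u' hs hv'
    refine ⟨hv', hgen _ (hover u' hv') ?_⟩
    rw [← hz.2]
    exact hs.map (Points.continuous_ofPt a)
  · intro z₁ hz₁ z₂ hz₂ hs
    exact eq_of_specializes_of_chart_fibre f a b h hae hbe comm (hz₁.2.trans hz₂.2.symm)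
      (hz₁.1.trans hz₂.1.symm) hs

/-- Quasi-finiteness at `x` makes `x` closed in its fibre (for decent target). -/
theorem eq_of_specializes_of_qf (hX : IsAlgSpace X) (hY : IsAlgSpace Y) (hYd : IsDecent Y)
    (f : X ⟶ Y) (hf : LocP @LocallyOfFiniteType f) (x : Points X)
    (hq : HasAtMor (fun _ _ h u => FlatMor.fibreDimAt h u = 0) f x) (x' : Points X)
    (hx' : Points.map f x' = Points.map f x) (hs : x ⤳ x') : x' = x := by
  obtain ⟨U, V, a, b, h, u', hae, hbe, comm, rfl⟩ := exists_chart_diagram_at hX hY f x'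
  have : LocallyOfFiniteType h.left := hf a b h hae hbe comm
  obtain ⟨V', hV', hvV', hV'v⟩ := exists_isOpen_fibre_singleton_of_isDecent hYd b hbe (h.left u')
  let Z : Set ↥U.left := {z | h.left z = h.left u' ∧ Points.ofPt a z = x}
  have hZ0 : ∀ z ∈ Z, FlatMor.fibreDimAt h.left z = 0 := by
    intro z hz
    refine (hasAtMor_ofPt_iff (etSqInv_fibreDimAt (fun c => c = 0)) f a b h hae hbe comm z).1 ?_
    rw [hz.2]
    exact hq
  have hcl := closure_inter_fibre_subset_of_fibreDimAt_eq_zero h.left (h.left u') Z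
    (fun z hz => hz.1) hZ0
  have hu'cl : u' ∈ closure Z := by
    rw [mem_closure_iff]
    intro N hN hu'N
    have hopen : IsOpen (Points.ofPt a '' (N ∩ h.left ⁻¹' V')) :=
      isOpenMap_ofPt a hae _ (hN.inter (hV'.preimage h.left.continuous))
    have hxmem : x ∈ Points.ofPt a '' (N ∩ h.left ⁻¹' V') :=
      hs.mem_open hopen ⟨u', ⟨hu'N, hvV'⟩, rfl⟩
    obtain ⟨z, ⟨hzN, hzV'⟩, hzx⟩ := hxmem
    refine ⟨z, hzN, ?_, hzx⟩
    apply hV'v _ hzV'
    rw [← map_ofPt_chart f a b h comm, ← map_ofPt_chart f a b h comm, hzx, hx']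
  exact (hcl u' hu'cl rfl).2

set_option backward.isDefEq.respectTransparency.types false in
/-- Finite fibres are quasi-finite fibres (for decent source). -/
theorem qf_of_finite_fibre_of_isDecent (hX : IsAlgSpace X) (hY : IsAlgSpace Y) (hXd : IsDecent X)
    (f : X ⟶ Y) (hf : LocP @LocallyOfFiniteType f) (x : Points X)
    (hfin : (Points.map f ⁻¹' {Points.map f x}).Finite) :
    HasAtMor (fun _ _ h u => FlatMor.fibreDimAt h u = 0) f x := by
  obtain ⟨U, V, a, b, h, u, hae, hbe, comm, rfl⟩ := exists_chart_diagram_at hX hY f x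
  have : LocallyOfFiniteType h.left := hf a b h hae hbe comm
  refine ⟨U, V, a, b, h, u, hae, hbe, comm, rfl, ?_⟩
  obtain ⟨N, hNa, huN, -⟩ := exists_isAffineOpen_mem_and_subset (x := u) (U := ⊤) trivial
  let U₁ : Over S := Over.mk (N.ι ≫ U.hom)
  let ι : U₁ ⟶ U := Over.homMk N.ι rfl
  have ha₁ : RepWith @Etale ((yon S).map ι ≫ a) :=
    repWith_comp _ ((repWith_yon_map_iff _ _).2 (inferInstance : Etale N.ι)) hae
  -- the part of the fibre of `h` through `u` inside `N` is finite
  have hNfin : ((N : Set ↥U.left) ∩ h.left ⁻¹' {h.left u}).Finite := by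
    have hsub : (N : Set ↥U.left) ∩ h.left ⁻¹' {h.left u} ⊆
        ⋃ x' ∈ Points.map f ⁻¹' {Points.map f (Points.ofPt a u)},
          ι.left '' (Points.ofPt ((yon S).map ι ≫ a) ⁻¹' {x'}) := by
      rintro u' ⟨hu'N, hu'v⟩
      simp only [Set.mem_iUnion]
      refine ⟨Points.ofPt a u', ?_, ⟨u', hu'N⟩, ?_, rfl⟩
      · rw [Set.mem_preimage, Set.mem_singleton_iff, map_ofPt_chart f a b h comm,
          map_ofPt_chart f a b h comm]
        exact congrArg _ hu'v
      · rw [Set.mem_preimage, Set.mem_singleton_iff, ofPt_yon_map_comp]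
        rfl
    refine Set.Finite.subset (Set.Finite.biUnion hfin fun x' _ => ?_) hsub
    exact (finite_fibre_of_isDecent hXd x' U₁ _ hNa ha₁).image _
  -- transfer to the scheme fibre
  have hLN := isLocallyNoetherian_fiber h.left (h.left u)
  let NT : (h.left.fiber (h.left u)).Opens :=
    ⟨(h.left.fiberι (h.left u)) ⁻¹' N, N.2.preimage (h.left.fiberι (h.left u)).continuous⟩
  have hmem : ∀ t : ↥(h.left.fiber (h.left u)), h.left ((h.left.fiberι (h.left u)) t) = h.left u := by
    intro t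
    have : (h.left.fiberι (h.left u)) t ∈ Set.range (h.left.fiberι (h.left u)) := ⟨t, rfl⟩
    rw [Scheme.Hom.range_fiberι] at this
    exact this
  have hNTfin : Finite ↥(NT : Set ↥(h.left.fiber (h.left u))) := by
    have : (NT : Set ↥(h.left.fiber (h.left u))).Finite := by
      refine Set.Finite.of_finite_image (f := (h.left.fiberι (h.left u))) (hNfin.subset ?_)
        (h.left.fiberι (h.left u)).isEmbedding.injective.injOn
      rintro _ ⟨t, ht, rfl⟩
      exact ⟨ht, hmem t⟩
    exact this.to_subtype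
  have hJ : JacobsonSpace ↥(NT : Set ↥(h.left.fiber (h.left u))) :=
    JacobsonSpace.of_isOpenEmbedding NT.2.isOpenEmbedding_subtypeVal
  have hD : DiscreteTopology ↥(NT : Set ↥(h.left.fiber (h.left u))) := inferInstance
  rw [fibreDimAt_eq_zero_iff_isOpen_asFiber]
  have huNT : h.left.asFiber u ∈ NT := by
    change (h.left.fiberι (h.left u)) (h.left.asFiber u) ∈ N
    rw [Scheme.Hom.fiberι_asFiber]
    exact huN
  have h1 : IsOpen ({⟨h.left.asFiber u, huNT⟩} : Set ↥(NT : Set ↥(h.left.fiber (h.left u)))) :=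
    isOpen_discrete _
  have h2 := NT.2.isOpenMap_subtype_val _ h1
  simpa using h2

end Sp

end Groth.Agent.Lib.Helper14.AS
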