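import Groth.Agent.Lib.Helper14.RelDimComp
import Groth.Agent.Lib.Helper14.FibTop
import Groth.Agent.Lib.Helper16.GorMor
import Groth.Agent.Lib.Helper21.FibDim12

universe u
set_option linter.style.haveILetI false
open CategoryTheory CategoryTheory.Limits AlgebraicGeometry Opposite Topology IsLocalRing

namespace Groth.Agent.Lib.Helper14.AS
open AlgSp
open Groth.Agent.Lib.Helper16.GorMor Groth.Agent.Lib.Helper16

section alg

variable {A B C : Type u} [CommRing A] [CommRing B] [CommRing C] [IsLocalRing A] [IsLocalRing B]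
  [IsLocalRing C] (ψ : A →+* B) (φ : B →+* C) [IsLocalHom ψ] [IsLocalHom φ]

theorem dim_congr_ideal {T : Type u} [CommRing T] {𝔞 𝔟 : Ideal T} (h : 𝔞 = 𝔟) :
    ringKrullDim (T ⧸ 𝔞) = ringKrullDim (T ⧸ 𝔟) := by
  subst h
  rfl

/-- dimensions of closed fibres of a composite of local homomorphisms, `φ` flat -/
theorem dim_closedFibre_comp (hφ : φ.Flat)
    [IsNoetherianRing (B ⧸ (maximalIdeal A).map ψ)]
    [IsNoetherianRing (C ⧸ (maximalIdeal A).map (φ.comp ψ))] :
    ringKrullDim (C ⧸ (maximalIdeal A).map (φ.comp ψ)) =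
      ringKrullDim (B ⧸ (maximalIdeal A).map ψ) + ringKrullDim (C ⧸ (maximalIdeal B).map φ) := by
  letI := φ.toAlgebra
  haveI : Module.Flat B C := hφ
  haveI : IsLocalHom (algebraMap B C) := ‹IsLocalHom φ›
  have hIle : (maximalIdeal A).map ψ ≤ maximalIdeal B := IsLocalRing.map_maximalIdeal_le ψ
  have hIC : ((maximalIdeal A).map ψ).map (algebraMap B C) =
      (maximalIdeal A).map (φ.comp ψ) := by
    rw [Ideal.map_map]
    rfl
  haveI hN2 : IsNoetherianRing (C ⧸ ((maximalIdeal A).map ψ).map (algebraMap B C)) := by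
    rw [hIC]
    infer_instance
  obtain ⟨hlA, hlB, hloc, π₁, hπ₁, hk₁⟩ := quot_data' B C (C ⧸ (maximalIdeal B).map φ)
    (Ideal.Quotient.mk _) Ideal.Quotient.mk_surjective (by rw [Ideal.mk_ker]; rfl)
    ((maximalIdeal A).map ψ) hIle
  haveI := GorFlat.flat_quotient (A := B) (B := C) ((maximalIdeal A).map ψ)
  have h := GorFlat.ringKrullDim_eq_add (A := B ⧸ (maximalIdeal A).map ψ)
    (B := C ⧸ ((maximalIdeal A).map ψ).map (algebraMap B C)) π₁ hπ₁ hk₁
  rw [← h]
  exact dim_congr_ideal hIC.symm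

end alg

theorem ringKrullDim_CF_congr {X S : Scheme.{u}} (f : X ⟶ S) {x x' : X} (h : x' = x) :
    ringKrullDim (CF f x') = ringKrullDim (CF f x) := by
  subst h
  rfl

/-- the dimension of the local ring of the fibre is the dimension of the closed fibre ring -/
theorem ringKrullDim_fiber_stalk {X S : Scheme.{u}} (f : X ⟶ S) (x : X) :
    ringKrullDim ((f.fiber (f x)).presheaf.stalk (f.asFiber x)) = ringKrullDim (CF f x) := by
  obtain ⟨hs, hk⟩ := Groth.Agent.S9501.result f (f x) (f.asFiber x)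
  rw [← ringKrullDim_CF_congr f (f.fiberι_asFiber x)]
  have e : CF f ((f.fiberι (f x)) (f.asFiber x)) ≃+*
      (f.fiber (f x)).presheaf.stalk (f.asFiber x) :=
    (Ideal.quotEquivOfEq hk.symm).trans (RingHom.quotientKerEquivOfSurjective hs)
  exact (ringKrullDim_eq_of_ringEquiv e).symm

section scheme

variable {X Y Z : Scheme.{u}} (f : X ⟶ Y) (g : Y ⟶ Z) [LocallyOfFiniteType f]
  [LocallyOfFiniteType g]

theorem ringKrullDim_CF_comp (x : X) (hf : (f.stalkMap x).hom.Flat) :
    ringKrullDim (CF (f ≫ g) x) = ringKrullDim (CF g (f x)) + ringKrullDim (CF f x) := by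
  have := isLocallyNoetherian_fiber f (f x)
  have := isLocallyNoetherian_fiber g (g (f x))
  have := isLocallyNoetherian_fiber (f ≫ g) ((f ≫ g) x)
  have h1 := isNoetherianRing_CF f x
  have h2 := isNoetherianRing_CF g (f x)
  have h3 := isNoetherianRing_CF (f ≫ g) x
  have hc : ((f ≫ g).stalkMap x).hom = (f.stalkMap x).hom.comp (g.stalkMap (f x)).hom := by
    rw [Scheme.Hom.stalkMap_comp]
    rfl
  have h3' : IsNoetherianRing (X.presheaf.stalk x ⧸ Ideal.map
      ((f.stalkMap x).hom.comp (g.stalkMap (f x)).hom)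
      (maximalIdeal (Z.presheaf.stalk (g (f x))))) := by
    rw [← hc]
    exact h3
  have h := dim_closedFibre_comp (g.stalkMap (f x)).hom (f.stalkMap x).hom hf
  rw [← h]
  exact dim_congr_ideal (by rw [hc]; rfl)

/-- Additivity of the local fibre dimension for a composite, first morphism flat at the point. -/
theorem fibreDimAt_comp_eq (x : X) (hf : (f.stalkMap x).hom.Flat) :
    FlatMor.fibreDimAt (f ≫ g) x = FlatMor.fibreDimAt f x + FlatMor.fibreDimAt g (f x) := by
  obtain ⟨a₁, b₁, ha₁, hb₁, h₁⟩ := Groth.Agent.Lib.Helper21.FibDim.exists_fibreDimAt_eq_add f x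
  obtain ⟨a₂, b₂, ha₂, hb₂, h₂⟩ :=
    Groth.Agent.Lib.Helper21.FibDim.exists_fibreDimAt_eq_add g (f x)
  obtain ⟨a₃, b₃, ha₃, hb₃, h₃⟩ :=
    Groth.Agent.Lib.Helper21.FibDim.exists_fibreDimAt_eq_add (f ≫ g) x
  have ht := Groth.Agent.Lib.Helper21.FibDim.trdeg_comp f g x a₂ a₁ ha₂ ha₁
  rw [ha₃] at ht
  have hta : a₃ = a₂ + a₁ := by exact_mod_cast ht
  have hd := ringKrullDim_CF_comp f g x hf
  rw [← ringKrullDim_fiber_stalk, ← ringKrullDim_fiber_stalk, ← ringKrullDim_fiber_stalk,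
    hb₁, hb₂, hb₃] at hd
  have hdb : b₃ = b₂ + b₁ := by exact_mod_cast hd
  rw [h₁, h₂, h₃, hta, hdb]
  push_cast
  abel

end scheme

end Groth.Agent.Lib.Helper14.AS
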