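import Groth.Agent.Lib.Helper14.StalkFP
import Mathlib

universe u
set_option linter.style.haveILetI false
set_option linter.unusedSectionVars false
open IsLocalRing
open scoped TensorProduct

namespace Groth.Agent.Lib.Helper14.AS

section alg

variable {A A' B Bp : Type u} [CommRing A] [CommRing A'] [CommRing B] [CommRing Bp]
  [IsLocalRing A] [IsLocalRing A'] [IsLocalRing B] [IsLocalRing Bp]
  [Algebra A A'] [Algebra A B] [IsLocalHom (algebraMap A A')] [IsLocalHom (algebraMap A B)]
  (α : A' →+* Bp) (β : B →+* Bp) [IsLocalHom α] [IsLocalHom β]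
  (φ : A' ⊗[A] B →+* Bp) (hφ1 : ∀ a, φ (a ⊗ₜ 1) = α a) (hφ2 : ∀ b, φ (1 ⊗ₜ b) = β b)

/-- the closed fibre ring of `A → B` -/
abbrev CFa (A B : Type u) [CommRing A] [CommRing B] [IsLocalRing A] [Algebra A B] : Type u :=
  B ⧸ (maximalIdeal A).map (algebraMap A B)

/-- `κ(A) → B/m_A B` -/
noncomputable def cfResHom : ResidueField A →+* CFa A B :=
  Ideal.Quotient.lift (maximalIdeal A) ((Ideal.Quotient.mk _).comp (algebraMap A B)) (by
    intro a ha
    rw [RingHom.comp_apply, Ideal.Quotient.eq_zero_iff_mem]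
    exact Ideal.mem_map_of_mem _ ha)

noncomputable instance cfAlg : Algebra (ResidueField A) (CFa A B) := (cfResHom (A := A) (B := B)).toAlgebra

theorem cfAlg_residue (a : A) : algebraMap (ResidueField A) (CFa A B) (residue A a) =
    Ideal.Quotient.mk _ (algebraMap A B a) := rfl

include hφ1 hφ2 in
theorem alpha_beta (a : A) : α (algebraMap A A' a) = β (algebraMap A B a) := by
  rw [← hφ1, ← hφ2]
  congr 1
  rw [Algebra.algebraMap_eq_smul_one, Algebra.algebraMap_eq_smul_one, TensorProduct.smul_tmul]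

/-- the algebra structure of `C ⊗ k'` over `A` -/
noncomputable def cfDAlg : Algebra A (CFa A B ⊗[ResidueField A] ResidueField A') :=
  ((algebraMap (ResidueField A) (CFa A B ⊗[ResidueField A] ResidueField A')).comp
    (residue A)).toAlgebra

attribute [local instance] cfDAlg

theorem cfDAlg_apply (a : A) :
    algebraMap A (CFa A B ⊗[ResidueField A] ResidueField A') a =
      (Ideal.Quotient.mk _ (algebraMap A B a)) ⊗ₜ 1 := rfl

/-- `A' → C ⊗ k'` -/
noncomputable def cfFA : A' →ₐ[A] CFa A B ⊗[ResidueField A] ResidueField A' where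
  toRingHom := (Algebra.TensorProduct.includeRight :
      ResidueField A' →ₐ[ResidueField A] CFa A B ⊗[ResidueField A] ResidueField A').toRingHom.comp
    (residue A')
  commutes' a := by
    change (1 : CFa A B) ⊗ₜ[ResidueField A] (residue A' (algebraMap A A' a)) =
      (Ideal.Quotient.mk _ (algebraMap A B a)) ⊗ₜ 1
    rw [← ResidueField.algebraMap_residue, ← cfAlg_residue, Algebra.algebraMap_eq_smul_one,
      Algebra.algebraMap_eq_smul_one (R := ResidueField A) (A := CFa A B), TensorProduct.smul_tmul]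

/-- `B → C ⊗ k'` -/
noncomputable def cfFB : B →ₐ[A] CFa A B ⊗[ResidueField A] ResidueField A' where
  toRingHom := (Algebra.TensorProduct.includeLeftRingHom :
      CFa A B →+* CFa A B ⊗[ResidueField A] ResidueField A').comp (Ideal.Quotient.mk _)
  commutes' a := rfl

/-- `A' ⊗_A B → C ⊗_k k'` -/
noncomputable def cfρ : A' ⊗[A] B →+* CFa A B ⊗[ResidueField A] ResidueField A' :=
  (Algebra.TensorProduct.productMap (cfFA (A := A) (A' := A') (B := B))
    (cfFB (A := A) (A' := A') (B := B))).toRingHom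

theorem cfρ_tmul (a : A') (b : B) :
    cfρ (A := A) (a ⊗ₜ[A] b) = (Ideal.Quotient.mk _ b) ⊗ₜ[ResidueField A] (residue A' a) := by
  change cfFA (A := A) (B := B) a * cfFB (A := A) (A' := A') b = _
  change ((1 : CFa A B) ⊗ₜ[ResidueField A] (residue A' a)) *
    ((Ideal.Quotient.mk _ b) ⊗ₜ[ResidueField A] (1 : ResidueField A')) = _
  rw [Algebra.TensorProduct.tmul_mul_tmul, one_mul, mul_one]

theorem cfρ_surjective : Function.Surjective (cfρ (A := A) (A' := A') (B := B)) := by
  intro d
  induction d with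
  | zero => exact ⟨0, map_zero _⟩
  | add x y hx hy =>
    obtain ⟨x', rfl⟩ := hx
    obtain ⟨y', rfl⟩ := hy
    exact ⟨x' + y', map_add _ _ _⟩
  | tmul c r =>
    obtain ⟨b, rfl⟩ := Ideal.Quotient.mk_surjective c
    obtain ⟨a, rfl⟩ := residue_surjective r
    exact ⟨a ⊗ₜ b, cfρ_tmul a b⟩

/-- the closed fibre of `α` -/
abbrev CFp : Type u := Bp ⧸ (maximalIdeal A').map α

include hφ1 hφ2 in
theorem beta_mem (b : B) (hb : b ∈ (maximalIdeal A).map (algebraMap A B)) :
    β b ∈ (Ideal.map α (maximalIdeal A') : Ideal Bp) := by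
  have : (maximalIdeal A).map (algebraMap A B) ≤
      (Ideal.map α (maximalIdeal A') : Ideal Bp).comap β := by
    rw [Ideal.map_le_iff_le_comap]
    intro a ha
    change β (algebraMap A B a) ∈ (Ideal.map α (maximalIdeal A') : Ideal Bp)
    rw [← alpha_beta α β φ hφ1 hφ2]
    refine Ideal.mem_map_of_mem _ ?_
    rw [mem_maximalIdeal, mem_nonunits_iff]
    intro h
    exact (mem_maximalIdeal _).mp ha (IsLocalHom.map_nonunit a h)
  exact this hb

/-- `C → F'` -/
noncomputable def cfθC (h : ∀ b ∈ (maximalIdeal A).map (algebraMap A B),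
    β b ∈ (Ideal.map α (maximalIdeal A') : Ideal Bp)) : CFa A B →+* CFp α :=
  Ideal.Quotient.lift _ ((Ideal.Quotient.mk _).comp β) (by
    intro b hb
    rw [RingHom.comp_apply, Ideal.Quotient.eq_zero_iff_mem]
    exact h b hb)

/-- `k' → F'` -/
noncomputable def cfθk : ResidueField A' →+* CFp α :=
  Ideal.Quotient.lift (maximalIdeal A') ((Ideal.Quotient.mk _).comp α) (by
    intro a ha
    rw [RingHom.comp_apply, Ideal.Quotient.eq_zero_iff_mem]
    exact Ideal.mem_map_of_mem _ ha)

theorem cfθk_residue (a : A') : cfθk α (residue A' a) = Ideal.Quotient.mk _ (α a) := rfl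

theorem cfθC_mk (h : ∀ b ∈ (maximalIdeal A).map (algebraMap A B),
    β b ∈ (Ideal.map α (maximalIdeal A') : Ideal Bp)) (b : B) :
    cfθC α β h (Ideal.Quotient.mk _ b) = Ideal.Quotient.mk _ (β b) := rfl

/-- `C ⊗_k k' → F'` -/
noncomputable def cfθ (h : ∀ b ∈ (maximalIdeal A).map (algebraMap A B),
    β b ∈ (Ideal.map α (maximalIdeal A') : Ideal Bp))
    (hab : ∀ a : A, α (algebraMap A A' a) = β (algebraMap A B a)) :
    CFa A B ⊗[ResidueField A] ResidueField A' →+* CFp α :=
  letI : Algebra (ResidueField A) (CFp α) :=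
    ((cfθC α β h).comp (algebraMap (ResidueField A) (CFa A B))).toAlgebra
  (Algebra.TensorProduct.productMap (A := CFa A B) (B := ResidueField A')
    { toRingHom := cfθC α β h, commutes' := fun _ => rfl }
    { toRingHom := cfθk α
      commutes' := by
        intro r
        obtain ⟨a, rfl⟩ := residue_surjective r
        change cfθk α (residue A' (algebraMap A A' a)) =
          cfθC α β h (Ideal.Quotient.mk _ (algebraMap A B a))
        rw [cfθk_residue, cfθC_mk, hab] }).toRingHom

theorem cfθ_tmul (h : ∀ b ∈ (maximalIdeal A).map (algebraMap A B),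
    β b ∈ (Ideal.map α (maximalIdeal A') : Ideal Bp))
    (hab : ∀ a : A, α (algebraMap A A' a) = β (algebraMap A B a))
    (c : CFa A B) (r : ResidueField A') :
    cfθ α β h hab (c ⊗ₜ r) = cfθC α β h c * cfθk α r := rfl

include hφ1 hφ2 in
theorem cf_comm (h : ∀ b ∈ (maximalIdeal A).map (algebraMap A B),
    β b ∈ (Ideal.map α (maximalIdeal A') : Ideal Bp))
    (hab : ∀ a : A, α (algebraMap A A' a) = β (algebraMap A B a)) :
    (Ideal.Quotient.mk ((maximalIdeal A').map α)).comp φ = (cfθ α β h hab).comp cfρ := by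
  apply Algebra.TensorProduct.ringHom_ext
  · ext a
    change Ideal.Quotient.mk _ (φ (a ⊗ₜ 1)) = cfθ α β h hab (cfρ (a ⊗ₜ 1))
    rw [cfρ_tmul, cfθ_tmul, hφ1, cfθk_residue, map_one, map_one, one_mul]
  · ext b
    change Ideal.Quotient.mk _ (φ (1 ⊗ₜ b)) = cfθ α β h hab (cfρ (1 ⊗ₜ b))
    rw [cfρ_tmul, cfθ_tmul, hφ2, cfθC_mk, map_one, map_one, mul_one]

include hφ1 hφ2 in
theorem cf_isLocalization (h : ∀ b ∈ (maximalIdeal A).map (algebraMap A B),
    β b ∈ (Ideal.map α (maximalIdeal A') : Ideal Bp))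
    (hab : ∀ a : A, α (algebraMap A A' a) = β (algebraMap A B a))
    (hloc : letI := φ.toAlgebra; IsLocalization.AtPrime Bp (tpQ φ)) :
    letI := (cfθ α β h hab).toAlgebra
    IsLocalization ((tpQ φ).primeCompl.map (cfρ (A := A) (A' := A') (B := B))) (CFp α) := by
  letI := φ.toAlgebra
  letI := (cfθ α β h hab).toAlgebra
  haveI : IsLocalization (tpQ φ).primeCompl Bp := hloc
  refine IsLocalization.of_surjective (tpQ φ).primeCompl Bp cfρ cfρ_surjective
    (Ideal.Quotient.mk _) Ideal.Quotient.mk_surjective ?_ ?_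
  · exact cf_comm α β φ hφ1 hφ2 h hab
  · rw [Ideal.mk_ker, Ideal.map_le_iff_le_comap]
    intro a ha
    change α a ∈ (Ideal.map φ (RingHom.ker (cfρ (A := A) (A' := A') (B := B))) : Ideal Bp)
    rw [← hφ1]
    apply Ideal.mem_map_of_mem
    rw [RingHom.mem_ker, cfρ_tmul, (residue_eq_zero_iff a).mpr ha, TensorProduct.tmul_zero]

theorem cfp_ne_top : (Ideal.map α (maximalIdeal A') : Ideal Bp) ≠ ⊤ := by
  intro h
  have h1 : (Ideal.map α (maximalIdeal A') : Ideal Bp) ≤ maximalIdeal Bp := by
    rw [Ideal.map_le_iff_le_comap]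
    intro a ha
    rw [Ideal.mem_comap, mem_maximalIdeal, mem_nonunits_iff]
    intro hu
    exact (mem_maximalIdeal _).mp ha (IsLocalHom.map_nonunit a hu)
  rw [h] at h1
  exact (maximalIdeal.isMaximal Bp).ne_top (top_le_iff.mp h1)

instance cfp_local : IsLocalRing (CFp α) := by
  haveI : Nontrivial (CFp α) := Ideal.Quotient.nontrivial_iff.mpr (cfp_ne_top α)
  exact IsLocalRing.of_surjective' (Ideal.Quotient.mk _) Ideal.Quotient.mk_surjective

instance cfa_local : IsLocalRing (CFa A B) := cfp_local (algebraMap A B)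

instance cfp_mk_local : IsLocalHom (Ideal.Quotient.mk (Ideal.map α (maximalIdeal A') : Ideal Bp)) := by
  apply isLocalHom_of_le_jacobson_bot
  rw [jacobson_eq_maximalIdeal ⊥ bot_ne_top]
  exact le_maximalIdeal (cfp_ne_top α)

theorem cfθC_mem_iff (h : ∀ b ∈ (maximalIdeal A).map (algebraMap A B),
    β b ∈ (Ideal.map α (maximalIdeal A') : Ideal Bp)) (c : CFa A B) :
    cfθC α β h c ∈ maximalIdeal (CFp α) ↔ c ∈ maximalIdeal (CFa A B) := by
  obtain ⟨b, rfl⟩ := Ideal.Quotient.mk_surjective c
  rw [cfθC_mk, mem_maximalIdeal, mem_maximalIdeal, mem_nonunits_iff, mem_nonunits_iff, not_iff_not]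
  constructor
  · intro hu
    have h1 : IsUnit (β b) := IsLocalHom.map_nonunit (f := Ideal.Quotient.mk _) _ hu
    have h2 : IsUnit b := IsLocalHom.map_nonunit (f := β) _ h1
    exact h2.map _
  · intro hu
    have h2 : IsUnit b := IsLocalHom.map_nonunit (f := Ideal.Quotient.mk _) _ hu
    exact (h2.map β).map _

include hφ1 hφ2 in
/-- **Closed fibres under base change**: if `B'` is the localization of `A' ⊗_A B` at the prime
under its maximal ideal, then the closed fibre `B'/m_{A'}B'` is the localization of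
`(B/m_A B) ⊗_k k'` at a prime over the maximal ideal of `B/m_A B`. -/
theorem cf_localization (hloc : letI := φ.toAlgebra; IsLocalization.AtPrime Bp (tpQ φ)) :
    ∃ q : PrimeSpectrum (CFa A B ⊗[ResidueField A] ResidueField A'),
      q.asIdeal.comap (algebraMap (CFa A B) (CFa A B ⊗[ResidueField A] ResidueField A')) =
        maximalIdeal (CFa A B) ∧
      Nonempty (CFp α ≃+* Localization.AtPrime q.asIdeal) := by
  have h := beta_mem α β φ hφ1 hφ2
  have hab := alpha_beta α β φ hφ1 hφ2
  letI := (cfθ α β h hab).toAlgebra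
  have hL := cf_isLocalization α β φ hφ1 hφ2 h hab hloc
  let q : Ideal (CFa A B ⊗[ResidueField A] ResidueField A') :=
    Ideal.comap (cfθ α β h hab) (maximalIdeal (CFp α))
  have hq : q.IsPrime := Ideal.comap_isPrime _ _
  have hcomm : ∀ t, cfθ α β h hab (cfρ t) = Ideal.Quotient.mk _ (φ t) := fun t =>
    (congrArg (fun m => m t) (cf_comm α β φ hφ1 hφ2 h hab)).symm
  have hM : (tpQ φ).primeCompl.map (cfρ (A := A) (A' := A') (B := B)) = q.primeCompl := by
    ext d
    constructor
    · rintro ⟨t, ht, rfl⟩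
      change cfρ t ∉ q
      rw [Ideal.mem_comap, hcomm]
      intro hmem
      exact (mem_maximalIdeal _).mp hmem ((tp_unit φ ⟨t, ht⟩).map _)
    · intro hd
      obtain ⟨t, rfl⟩ := cfρ_surjective d
      refine ⟨t, ?_, rfl⟩
      change t ∉ tpQ φ
      intro ht
      apply hd
      change cfθ α β h hab (cfρ t) ∈ maximalIdeal _
      rw [hcomm, mem_maximalIdeal, mem_nonunits_iff]
      intro hu
      exact (mem_maximalIdeal _).mp ht (IsLocalHom.map_nonunit (f := Ideal.Quotient.mk _) _ hu)
  rw [hM] at hL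
  haveI : IsLocalization.AtPrime (CFp α) q := hL
  refine ⟨⟨q, hq⟩, ?_,
    ⟨(IsLocalization.algEquiv q.primeCompl (CFp α) (Localization.AtPrime q)).toRingEquiv⟩⟩
  ext c
  rw [Ideal.mem_comap]
  change cfθ α β h hab (c ⊗ₜ 1) ∈ maximalIdeal _ ↔ _
  rw [cfθ_tmul, map_one, mul_one, cfθC_mem_iff]

end alg

end Groth.Agent.Lib.Helper14.AS
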