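import Groth.Agent.Lib.Helper14.AlgSpDiag
import Groth.Agent.Lib.Helper14.FppfLocalInst
import Mathlib.AlgebraicGeometry.Morphisms.Separated

/-!
# Properties of the diagonal of an algebraic space (helper14)
-/

universe u
open CategoryTheory CategoryTheory.Limits AlgebraicGeometry Opposite

namespace Groth.Agent.Lib.Helper14.AS

open AlgSp

variable {S : Scheme.{u}}

theorem repWith_monomorphisms_of_mono {F G : Sp S} {f : F ⟶ G} (hf : Representable f) [Mono f] :
    RepWith (MorphismProperty.monomorphisms Scheme.{u}) f := by
  refine ⟨hf, fun T W g fst snd sq => ?_⟩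
  have h1 : Mono ((yon S).map snd) := sq.mono_snd_of_mono
  have h2 : Mono snd := (yon S).mono_of_mono_map h1
  change Mono snd.left
  infer_instance

theorem repWith_inf {P Q : MorphismProperty Scheme.{u}} {F G : Sp S} {f : F ⟶ G}
    (hP : RepWith P f) (hQ : RepWith Q f) : RepWith (P ⊓ Q) f :=
  ⟨hP.rep, fun _ _ g fst snd sq => ⟨hP.property g fst snd sq, hQ.property g fst snd sq⟩⟩

theorem mono_le_isSeparated :
    MorphismProperty.monomorphisms Scheme.{u} ≤ (@IsSeparated : MorphismProperty Scheme.{u}) :=
  fun _ _ f hf => by
    have : Mono f := hf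
    infer_instance

theorem mono_inf_lft_le_lqf :
    MorphismProperty.monomorphisms Scheme.{u} ⊓ (@LocallyOfFiniteType : MorphismProperty Scheme.{u})
      ≤ (@LocallyQuasiFinite : MorphismProperty Scheme.{u}) :=
  fun _ _ f hf => by
    have : Mono f := hf.1
    have : LocallyOfFiniteType f := hf.2
    infer_instance

instance mono_diag {C : Type*} [Category C] [HasBinaryProducts C] (X : C) :
    Mono (Limits.diag X) := by
  constructor
  intro Z a b h
  have := congrArg (· ≫ prod.fst) h
  simpa only [Category.assoc, Limits.diag, prod.lift_fst, Category.comp_id] using this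

set_option backward.isDefEq.respectTransparency.types false in
/-- The diagonal of an algebraic space is locally of finite type, a monomorphism, separated and
locally quasi-finite. -/
theorem repWith_diag_properties {X : Sp S} (hX : IsAlgSpace X) :
    RepWith @LocallyOfFiniteType (Limits.diag X) ∧
      RepWith (MorphismProperty.monomorphisms Scheme.{u}) (Limits.diag X) ∧
      RepWith @IsSeparated (Limits.diag X) ∧
      RepWith @LocallyQuasiFinite (Limits.diag X) := by
  obtain ⟨A, p, hpe, hps⟩ := hX.atlas
  have rep : Representable p := repDiag_of_isAlgSpace hX p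
  have sq := rep.isPullback' p
  have ht : Etale (rep.fst' p).left := hpe.property p _ _ sq.flip
  have hlft : LocallyOfFiniteType (prod.lift (rep.fst' p) (rep.snd p)).left := by
    have e : (prod.lift (rep.fst' p) (rep.snd p)).left ≫ (prod.fst : A ⨯ A ⟶ A).left =
        (rep.fst' p).left := by
      rw [← Over.comp_left, prod.lift_fst]
    have : LocallyOfFiniteType ((prod.lift (rep.fst' p) (rep.snd p)).left ≫
        (prod.fst : A ⨯ A ⟶ A).left) := by rw [e]; infer_instance
    exact locallyOfFiniteType_of_comp _ (prod.fst : A ⨯ A ⟶ A).left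
  have h1 : RepWith @LocallyOfFiniteType (Limits.diag X) :=
    (repWith_diag_iff_of_chart hX.diag hpe hps sq @LocallyOfFiniteType).2 hlft
  have h2 : RepWith (MorphismProperty.monomorphisms Scheme.{u}) (Limits.diag X) :=
    repWith_monomorphisms_of_mono hX.diag
  exact ⟨h1, h2, repWith_mono mono_le_isSeparated h2,
    repWith_mono mono_inf_lft_le_lqf (repWith_inf h2 h1)⟩

end Groth.Agent.Lib.Helper14.AS
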