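import Groth.Prelude.Def_AlgSpDec
import Groth.Agent.Lib.Helper14.AlgSpPoints
import Groth.Agent.Lib.Helper14.AlgSpBasic2
import Groth.Agent.Lib.Helper14.AlgSpFibre

/-!
# Decent spaces: formal permanence properties (helper14)
-/

universe u
open CategoryTheory CategoryTheory.Limits AlgebraicGeometry Opposite Topology

namespace Groth.Agent.Lib.Helper14.AS

open AlgSp

variable {S : Scheme.{u}}

/-- A field valued point whose morphism is a monomorphism (and, if `b`, representable
quasi-compact). -/
def GoodPt (b : Prop) {F : Sp S} (p : FieldPt F) : Prop :=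
  Mono p.toHom ∧ (b → RepWith @QuasiCompact p.toHom)

theorem isDecent_iff_goodPt {F : Sp S} :
    IsDecent F ↔ ∀ x : Points F, ∃ p : FieldPt F, Points.mk p = x ∧ GoodPt True p :=
  forall_congr' fun _ => exists_congr fun _ => and_congr_right fun _ =>
    and_congr_right fun _ => ⟨fun h _ => h, fun h => h trivial⟩

theorem mono_iff_goodPt_false {F : Sp S} (p : FieldPt F) : Mono p.toHom ↔ GoodPt False p :=
  ⟨fun h => ⟨h, fun h' => h'.elim⟩, fun h => h.1⟩

theorem quasiCompact_of_subsingleton {X Y : Scheme.{u}} (f : X ⟶ Y) [Subsingleton X] :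
    QuasiCompact f := by
  rw [quasiCompact_iff]
  intro U _ _
  exact (Set.subsingleton_of_subsingleton).isCompact

theorem subsingleton_spec_field (K : Type u) [Field K] :
    Subsingleton ↥(Spec (CommRingCat.of K)) :=
  inferInstanceAs (Subsingleton (PrimeSpectrum K))

theorem mono_yon_map {U V : Over S} (φ : U ⟶ V) [Mono φ] : Mono ((yon S).map φ) := by
  have h := (IsKernelPair.id_of_mono φ).map (yon S)
  have : IsIso ((yon S).map (𝟙 U)) := inferInstance
  exact IsKernelPair.mono_of_isIso_fst h

set_option backward.isDefEq.respectTransparency.types false in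
/-- The residue field point of a chart which is a monomorphism (and quasi-compact) is good. -/
theorem goodPt_ofPt (b : Prop) {W : Over S} {F : Sp S} (c : (yon S).obj W ⟶ F) (hm : Mono c)
    (hc : b → RepWith @QuasiCompact c) (w : ↥W.left) : GoodPt b (FieldPt.ofPt c w) := by
  rw [GoodPt, FieldPt.toHom_ofPt]
  have h1 : Mono (Over.homMk (W.left.fromSpecResidueField w) rfl :
      Over.mk (W.left.fromSpecResidueField w ≫ W.hom) ⟶ W) :=
    Over.mono_of_mono_left _
  have h2 : Mono ((yon S).map (Over.homMk (W.left.fromSpecResidueField w) rfl :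
      Over.mk (W.left.fromSpecResidueField w ≫ W.hom) ⟶ W)) := mono_yon_map _
  refine ⟨@mono_comp _ _ _ _ _ _ h2 _ hm, fun hb => ?_⟩
  refine repWith_comp _ ((repWith_yon_map_iff _ _).2 ?_) (hc hb)
  have : Subsingleton ↥(Spec (CommRingCat.of ↥(W.left.residueField w))) :=
    subsingleton_spec_field _
  exact @quasiCompact_of_subsingleton _ _ _ this

set_option backward.isDefEq.respectTransparency.types false in
/-- Points of `X` over a good point `q` of `Y` are good as soon as the points of the fibre of
`X` over `q` are good. -/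
theorem exists_goodPt_of_fibre (b : Prop) {X Y F' : Sp S} (f : X ⟶ Y) (q : FieldPt Y)
    (hq : GoodPt b q) {fst : F' ⟶ X} {snd : F' ⟶ (yon S).obj q.pt}
    (sq : IsPullback fst snd f q.toHom)
    (hF' : ∀ z : Points F', ∃ p' : FieldPt F', Points.mk p' = z ∧ GoodPt b p')
    (x : Points X) (hx : Points.map f x = Points.mk q) :
    ∃ p : FieldPt X, Points.mk p = x ∧ GoodPt b p := by
  have e : Points.map q.toHom (Points.ofScheme q.pt (IsLocalRing.closedPoint q.K)) =
      Points.mk q := by
    rw [← Points.ofPt_eq_map_ofScheme, Points.ofPt_toHom]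
  obtain ⟨z, hz1, -⟩ := points_exists_of_isPullback sq x
    (Points.ofScheme q.pt (IsLocalRing.closedPoint q.K)) (hx.trans e.symm)
  obtain ⟨p', hp', hm', hq'⟩ := hF' z
  have hfm : Mono fst := sq.mono_fst_of_mono hq.1
  refine ⟨p'.map fst, ?_, ?_, ?_⟩
  · rw [← Points.map_mk, hp', hz1]
  · rw [FieldPt.toHom_map]
    exact @mono_comp _ _ _ _ _ _ hm' _ hfm
  · intro hb
    rw [FieldPt.toHom_map]
    refine repWith_comp _ (hq' hb) ?_
    exact MorphismProperty.of_isPullback (P := RepWith @QuasiCompact) sq.flip (hq.2 hb)

/-- An isomorphism of sheaves is representable with any property containing identities. -/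
theorem repWith_of_isIso' (P : MorphismProperty Scheme.{u}) [P.IsStableUnderBaseChange]
    [P.ContainsIdentities] {F G : Sp S} (e : F ⟶ G) [IsIso e] : RepWith P e := by
  refine MorphismProperty.relative.of_exists fun T g => ?_
  refine ⟨T, g ≫ inv e, 𝟙 T, ?_, P.id_mem _⟩
  rw [(yon S).map_id]
  exact IsPullback.of_vert_isIso ⟨by simp⟩

set_option backward.isDefEq.respectTransparency.types false in
/-- All points of a representable sheaf are good. -/
theorem exists_goodPt_yon (b : Prop) (W : Over S) (z : Points ((yon S).obj W)) :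
    ∃ p : FieldPt ((yon S).obj W), Points.mk p = z ∧ GoodPt b p := by
  obtain ⟨w, rfl⟩ := (Points.schemeHomeo W).surjective z
  exact ⟨FieldPt.ofPt (𝟙 _) w, rfl, goodPt_ofPt b (𝟙 _) inferInstance
    (fun _ => repWith_id _ _) w⟩

set_option backward.isDefEq.respectTransparency.types false in
/-- All points of a sheaf isomorphic to a representable sheaf are good. -/
theorem exists_goodPt_of_iso (b : Prop) {W : Over S} {F : Sp S} (e : (yon S).obj W ≅ F)
    (z : Points F) : ∃ p : FieldPt F, Points.mk p = z ∧ GoodPt b p := by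
  obtain ⟨w, hw⟩ := (Points.schemeHomeo W).surjective (Points.map e.inv z)
  refine ⟨FieldPt.ofPt e.hom w, ?_, goodPt_ofPt b e.hom inferInstance
    (fun _ => repWith_of_isIso' _ e.hom) w⟩
  change Points.ofPt e.hom w = z
  rw [Points.ofPt_eq_map_ofScheme]
  have : Points.ofScheme W w = Points.map e.inv z := hw
  rw [this, ← Points.map_comp, e.inv_hom_id, Points.map_id]

/-- Good points lift along representable morphisms. -/
theorem exists_goodPt_of_representable (b : Prop) {X Y : Sp S} (f : X ⟶ Y)
    (hf : Representable f)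
    (hY : ∀ y : Points Y, ∃ q : FieldPt Y, Points.mk q = y ∧ GoodPt b q) (x : Points X) :
    ∃ p : FieldPt X, Points.mk p = x ∧ GoodPt b p := by
  obtain ⟨q, hq1, hq2⟩ := hY (Points.map f x)
  exact exists_goodPt_of_fibre b f q hq2 (hf.isPullback q.toHom) (exists_goodPt_yon b _) x
    hq1.symm

/-- The source of a representable morphism to a decent space is decent. -/
theorem isDecent_of_representable {X Y : Sp S} (f : X ⟶ Y) (hf : Representable f)
    (hY : IsDecent Y) : IsDecent X :=
  isDecent_iff_goodPt.2 (exists_goodPt_of_representable True f hf (isDecent_iff_goodPt.1 hY))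

/-- The source of a decent morphism to a decent space is decent. -/
theorem isDecent_of_isDecentMor {X Y : Sp S} (f : X ⟶ Y) (hf : IsDecentMor f)
    (hY : IsDecent Y) : IsDecent X := by
  rw [isDecent_iff_goodPt]
  intro x
  obtain ⟨q, hq1, hq2⟩ := isDecent_iff_goodPt.1 hY (Points.map f x)
  have sq := IsPullback.of_hasPullback f q.toHom
  exact exists_goodPt_of_fibre True f q hq2 sq
    (isDecent_iff_goodPt.1 (hf q.toHom _ _ sq)) x hq1.symm

/-- A morphism from a decent space to an algebraic space is a decent morphism. -/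
theorem isDecentMor_of_isDecent {X Y : Sp S} (hY : IsAlgSpace Y) (f : X ⟶ Y)
    (hX : IsDecent X) : IsDecentMor f := by
  intro T F' g fst snd sq
  have hg : Representable g := hY.representable_from_yon g
  have hfst : Representable fst := MorphismProperty.of_isPullback sq.flip hg
  exact isDecent_of_representable fst hfst hX

/-- Decent morphisms are stable under composition. -/
theorem isDecentMor_comp {X Y Z : Sp S} (f : X ⟶ Y) (g : Y ⟶ Z) (hf : IsDecentMor f)
    (hg : IsDecentMor g) : IsDecentMor (f ≫ g) := by
  intro T F' t fst snd sq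
  have sqY := IsPullback.of_hasPullback g t
  have hYT : IsDecent (pullback g t) := hg t _ _ sqY
  have hw : (fst ≫ f) ≫ g = snd ≫ t := by rw [Category.assoc]; exact sq.w
  have sqφ : IsPullback fst (sqY.lift (fst ≫ f) snd hw) f (pullback.fst g t) :=
    IsPullback.of_bot (by rw [sqY.lift_snd]; exact sq) (sqY.lift_fst _ _ _).symm sqY
  rw [isDecent_iff_goodPt]
  intro z
  obtain ⟨q, hq1, hq2⟩ := isDecent_iff_goodPt.1 hYT (Points.map (sqY.lift (fst ≫ f) snd hw) z)
  have sqF := IsPullback.of_hasPullback (sqY.lift (fst ≫ f) snd hw) q.toHom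
  have big := sqF.paste_horiz sqφ
  exact exists_goodPt_of_fibre True _ q hq2 sqF
    (isDecent_iff_goodPt.1 (hf _ _ _ big)) z hq1.symm

/-- A fibre product of decent spaces over an algebraic space is decent. -/
theorem isDecent_of_isPullback {X Y Z P : Sp S} (hY : IsAlgSpace Y) {f : X ⟶ Y} {g : Z ⟶ Y}
    {fst : P ⟶ X} {snd : P ⟶ Z} (h : IsPullback fst snd f g) (hX : IsDecent X)
    (hZ : IsDecent Z) : IsDecent P := by
  rw [isDecent_iff_goodPt]
  intro z
  obtain ⟨q, hq1, hq2⟩ := isDecent_iff_goodPt.1 hX (Points.map fst z)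
  have sqF := IsPullback.of_hasPullback fst q.toHom
  have big := sqF.paste_horiz h.flip
  have hrep : Representable (q.toHom ≫ f) := hY.representable_from_yon _
  have hrep' : Representable (pullback.fst fst q.toHom ≫ snd) :=
    MorphismProperty.of_isPullback big.flip hrep
  exact exists_goodPt_of_fibre True fst q hq2 sqF
    (exists_goodPt_of_representable True _ hrep' (isDecent_iff_goodPt.1 hZ)) z hq1.symm

end Groth.Agent.Lib.Helper14.AS
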