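import Groth.Agent.Lib.Helper14.AlgSpImm
import Groth.Agent.Lib.Helper14.AlgSpInj2

/-!
# Topology of immersions of algebraic spaces (helper14)
-/

universe u
open CategoryTheory CategoryTheory.Limits AlgebraicGeometry Opposite Topology

namespace Groth.Agent.Lib.Helper14.AS

open AlgSp

variable {S : Scheme.{u}}

/-- Local closedness descends along open continuous surjections. -/
theorem isLocallyClosed_of_preimage {A B : Type*} [TopologicalSpace A] [TopologicalSpace B]
    {p : A → B} (hpo : IsOpenMap p) (hpc : Continuous p) (hps : Function.Surjective p)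
    {s : Set B} (h : IsLocallyClosed (p ⁻¹' s)) : IsLocallyClosed s := by
  obtain ⟨O, C, hO, hC, e⟩ := h
  have h1 : p ⁻¹' s = O ∩ p ⁻¹' (closure s) := by
    rw [hpo.preimage_closure_eq_closure_preimage hpc]
    apply Set.Subset.antisymm
    · intro a ha
      exact ⟨(e ▸ ha : a ∈ O ∩ C).1, subset_closure ha⟩
    · rintro a ⟨haO, hac⟩
      rw [e]
      refine ⟨haO, ?_⟩
      have : closure (p ⁻¹' s) ⊆ C := by
        rw [e]
        exact closure_minimal Set.inter_subset_right hC
      exact this hac
  refine ⟨p '' O, closure s, hpo O hO, isClosed_closure, ?_⟩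
  rw [← Set.image_inter_preimage, ← h1, Set.image_preimage_eq _ hps]

theorem fieldInj_of_mono {X Y : Sp S} (f : X ⟶ Y) [Mono f] : FieldInj f := by
  intro K _ str a a' h
  exact (cancel_mono f).1 h

set_option backward.isDefEq.respectTransparency.types false in
/-- An immersion of algebraic spaces is a topological embedding with locally closed image. -/
theorem isEmbedding_points_of_repWith_isImmersion {Z X : Sp S} (hX : IsAlgSpace X) {i : Z ⟶ X}
    (hi : RepWith @IsImmersion i) :
    IsEmbedding (Points.map i) ∧ IsLocallyClosed (Set.range (Points.map i)) := by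
  obtain ⟨U, p, hpe, hps⟩ := hX.atlas
  have sq := hi.rep.isPullback p
  have hj : IsImmersion (hi.rep.snd p).left := hi.property_snd p
  have hfe : RepWith @Etale (hi.rep.fst p) := repWith_of_isPullback _ sq.flip hpe
  have hfs : RepWith @Surjective (hi.rep.fst p) := repWith_of_isPullback _ sq.flip hps
  have hmono : Mono i := mono_of_repWith_mono (repWith_mono immersion_le_mono hi)
  have hinj : Function.Injective (Points.map i) := (fieldInj_of_mono i).injective_points
  have hcomm : ∀ w, Points.map i (Points.ofPt (hi.rep.fst p) w) =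
      Points.ofPt p ((hi.rep.snd p).left w) := by
    intro w
    rw [Points.map_ofPt, sq.w, ofPt_yon_map_comp]
  refine ⟨⟨⟨le_antisymm (continuous_iff_le_induced.1 (Points.continuous_map i)) ?_⟩, hinj⟩, ?_⟩
  · intro W hW
    have hW' : IsOpen (Points.ofPt (hi.rep.fst p) ⁻¹' W) :=
      hW.preimage (Points.continuous_ofPt _)
    obtain ⟨O, hO, hOeq⟩ :=
      (hi.rep.snd p).left.isEmbedding.isInducing.isOpen_iff.1 hW'
    refine isOpen_induced_iff.2 ⟨Points.ofPt p '' O, isOpenMap_ofPt p hpe O hO, ?_⟩
    ext z
    constructor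
    · rintro ⟨o, ho, e⟩
      rw [Points.ofPt_eq_map_ofScheme p] at e
      obtain ⟨ζ, hζ1, hζ2⟩ := points_exists_of_isPullback sq z _ e.symm
      obtain ⟨w, rfl⟩ := (Points.schemeHomeo (hi.rep.pullback p)).surjective ζ
      rw [Points.map_yon_map_apply] at hζ2
      have hw : (hi.rep.snd p).left w = o := (Points.schemeHomeo U).injective hζ2
      have hwO : w ∈ (hi.rep.snd p).left ⁻¹' O := by
        rw [Set.mem_preimage, hw]; exact ho
      rw [hOeq] at hwO
      rw [← hζ1]
      have := hwO
      rwa [Set.mem_preimage, Points.ofPt_eq_map_ofScheme] at this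
    · intro hz
      obtain ⟨w, rfl⟩ := ofPt_surjective_of_repWith hfs z
      have hwO : w ∈ (hi.rep.snd p).left ⁻¹' O := by rw [hOeq]; exact hz
      exact ⟨(hi.rep.snd p).left w, hwO, (hcomm w).symm⟩
  · refine isLocallyClosed_of_preimage (isOpenMap_ofPt p hpe) (Points.continuous_ofPt p)
      (ofPt_surjective_of_repWith hps) ?_
    rw [← range_snd_eq_preimage sq]
    exact (hi.rep.snd p).left.isLocallyClosed_range

end Groth.Agent.Lib.Helper14.AS
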