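import Groth.Agent.Lib.Helper14.AlgSpMonoPt
import Groth.Agent.Lib.Helper14.AlgSpImm

open CategoryTheory CategoryTheory.Limits AlgebraicGeometry Opposite AlgSp
open CategoryTheory.Functor Groth.Agent.Lib.Helper14.AS

universe u

noncomputable section

namespace Groth.Agent.Lib.Helper14.AS

variable {S : Scheme.{u}}

set_option backward.isDefEq.respectTransparency.types false in
/-- (3) ⇔ (4) of the characterization of points represented by monomorphisms. -/
theorem exists_mono_point_iff_etale_qc_kernel_pair {X : Sp S} (hX : IsAlgSpace X)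
    (x : Points X) :
    (∃ p : FieldPt X, Points.mk p = x ∧ Mono p.toHom) ↔
      ∃ q : FieldPt X, Points.mk q = x ∧
        ∀ (P : Sp S) (fst snd : P ⟶ (yon S).obj q.pt), IsPullback fst snd q.toHom q.toHom →
          RepWith @Etale fst ∧ RepWith @QuasiCompact fst := by
  constructor
  · rintro ⟨p, hp, hm⟩
    refine ⟨p, hp, fun P fst snd sq => ?_⟩
    have : IsIso fst := PullbackCone.isIso_fst_of_mono_of_isLimit sq.isLimit
    exact ⟨repWith_of_isIso _ _, repWith_of_isIso _ _⟩
  · rintro ⟨q, hq, H⟩
    have hrep : Representable q.toHom := repDiag_of_isAlgSpace hX _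
    have sqR := hrep.isPullback' q.toHom
    obtain ⟨h1, h2⟩ := H _ _ _ sqR
    have het : Etale (hrep.fst' q.toHom).left := (repWith_yon_map_iff _ _).1 h1
    have hqc : QuasiCompact (hrep.fst' q.toHom).left := (repWith_yon_map_iff _ _).1 h2
    have hlqf : LocallyQuasiFinite (hrep.fst' q.toHom).left := etale_locallyQuasiFinite _
    have hart : IsLocallyArtinian (Over.mk q.str).left :=
      inferInstanceAs (IsLocallyArtinian (Spec (CommRingCat.of q.K)))
    have hfin : IsFinite (hrep.fst' q.toHom).left := IsFinite.of_locallyQuasiFinite _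
    obtain ⟨P, π, -, hPm, hPq⟩ := exists_mono_point_of_finite_kernel_pair q _ _ sqR hfin
    exact ⟨P, hPq.trans hq, hPm⟩


/-- If a point is represented by a monomorphism and has finite fibre in an etale chart `U`,
then it has finite fibre in `U ×_X U`. -/
theorem finite_relation_fibres_of_mono_point {X : Sp S} (hX : IsAlgSpace X) (p : FieldPt X)
    (hm : Mono p.toHom) {U : Over S} (φ : (yon S).obj U ⟶ X) (hφ : RepWith @Etale φ)
    (fin1 : (Points.ofPt φ ⁻¹' {Points.mk p}).Finite)
    (R : Over S) (s t : R ⟶ U) (sq : IsPullback ((yon S).map t) ((yon S).map s) φ φ) :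
    (Points.ofPt ((yon S).map t ≫ φ) ⁻¹' {Points.mk p}).Finite := by
  have hfin : (⋃ u ∈ Points.ofPt φ ⁻¹' {Points.mk p}, ⋃ u' ∈ Points.ofPt φ ⁻¹' {Points.mk p},
      {r : ↥R.left | s.left r = u ∧ t.left r = u'}).Finite := by
    refine fin1.biUnion fun u hu => fin1.biUnion fun u' hu' => ?_
    exact finite_relation_fibre_of_mono_point hX (Points.mk p) ⟨p, rfl, hm⟩ φ hφ u u' hu hu'
      R s t sq
  refine hfin.subset ?_
  intro r hr
  have ht : Points.ofPt φ (t.left r) = Points.mk p := by
    rw [← ofPt_yon_map_comp]; exact hr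
  have hs : Points.ofPt φ (s.left r) = Points.mk p := by
    rw [← ofPt_yon_map_comp, ← sq.w]; exact hr
  simp only [Set.mem_iUnion]
  exact ⟨s.left r, hs, t.left r, ht, rfl, rfl⟩

set_option backward.isDefEq.respectTransparency.types false in
/-- Finite fibres in a chart versus a monomorphic point with finite pullback to the chart. -/
theorem finite_fibres_chart_iff_mono_point_finite_pullback {X : Sp S} (hX : IsAlgSpace X)
    (x : Points X) {U : Over S} (φ : (yon S).obj U ⟶ X) (hφ : RepWith @Etale φ) :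
    (x ∈ Set.range (Points.ofPt φ) ∧ (Points.ofPt φ ⁻¹' {x}).Finite ∧
        ∀ (R : Over S) (s t : R ⟶ U), IsPullback ((yon S).map t) ((yon S).map s) φ φ →
          (Points.ofPt ((yon S).map t ≫ φ) ⁻¹' {x}).Finite) ↔
      ∃ p : FieldPt X, Points.mk p = x ∧ Mono p.toHom ∧
        ∀ (T : Over S) (c : T ⟶ p.pt) (snd : (yon S).obj T ⟶ (yon S).obj U),
          IsPullback ((yon S).map c) snd p.toHom φ → Nonempty ↥T.left ∧ IsFinite c.left := by
  constructor
  · rintro ⟨⟨u, rfl⟩, fin1, finR⟩
    have sq0 := hφ.rep.isPullback' φ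
    obtain ⟨p, hp, hm⟩ := exists_mono_point_of_finite_fibre hX φ hφ u _ _ sq0 (finR _ _ _ sq0)
    refine ⟨p, hp, hm, fun T c snd sq => ?_⟩
    obtain ⟨snd', rfl⟩ := (yon S).map_surjective snd
    have het : Etale c.left := hφ.property p.toHom _ c sq.flip
    have hmono : Mono ((yon S).map snd') :=
      (MorphismProperty.monomorphisms _).of_isPullback sq hm
    have hm2 : Mono snd' := (yon S).mono_of_mono_map hmono
    have hm3 : Mono snd'.left := inferInstance
    have hinj : Function.Injective snd'.left := snd'.left.injective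
    have himg : ∀ τ, snd'.left τ ∈ Points.ofPt φ ⁻¹' {Points.ofPt φ u} := by
      intro τ
      rw [Set.mem_preimage, Set.mem_singleton_iff, ← ofPt_yon_map_comp, ← sq.w, ofPt_yon_map_comp,
        Points.ofPt_toHom, hp]
    have hfinT : Finite ↥T.left := by
      have := fin1.to_subtype
      exact Finite.of_injective (fun τ => (⟨snd'.left τ, himg τ⟩ :
        ↥(Points.ofPt φ ⁻¹' {Points.ofPt φ u})))
        (fun a b hab => hinj (Subtype.ext_iff.1 hab))
    refine ⟨?_, isFinite_of_etale_of_finite_carrier (K := p.K) c.left⟩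
    obtain ⟨τ, -, -⟩ := exists_point_of_isPullback_yon sq
      (IsLocalRing.closedPoint p.K : ↥(Spec (CommRingCat.of p.K))) u
      (by rw [Points.ofPt_toHom, hp])
    exact ⟨τ⟩
  · rintro ⟨p, rfl, hm, H⟩
    have sqT := hφ.rep.isPullback' p.toHom
    obtain ⟨⟨τ⟩, hfin⟩ := H _ _ _ sqT.flip
    obtain ⟨hr, -⟩ := fibre_chart_of_mono φ hφ p
    have hfinK : Finite ↥(Over.mk p.str).left :=
      inferInstanceAs (Finite ↥(Spec (CommRingCat.of p.K)))
    have hfinT : Finite ↥(hφ.rep.pullback p.toHom).left :=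
      finite_carrier_of_isFinite (hφ.rep.snd p.toHom).left
    have fin1 : (Points.ofPt φ ⁻¹' {Points.mk p}).Finite := by
      rw [← hr]; exact Set.finite_range _
    refine ⟨⟨(hφ.rep.fst' p.toHom).left τ, ?_⟩, fin1, fun R s t sq =>
      finite_relation_fibres_of_mono_point hX p hm φ hφ fin1 R s t sq⟩
    have : (hφ.rep.fst' p.toHom).left τ ∈ Set.range (hφ.rep.fst' p.toHom).left := ⟨τ, rfl⟩
    rw [hr] at this
    exact this

end Groth.Agent.Lib.Helper14.AS
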