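import Groth.Agent.Lib.Helper14.AlgSpQSDecent
import Groth.Agent.Lib.Helper14.AlgSpDecent
import Groth.Agent.Lib.Helper14.AlgSpMonoPt2
import Groth.Agent.Lib.Helper14.AlgSpImmTop
import Groth.Agent.Lib.Helper14.FpqcBase4
import Groth.Prelude.Def_AlgSpCov

open CategoryTheory CategoryTheory.Limits AlgebraicGeometry Opposite AlgSp
open CategoryTheory.Functor Groth.Agent.Lib.Helper14.AS

universe u

noncomputable section

namespace Groth.Agent.Lib.Helper14.AS

variable {S : Scheme.{u}}

section Magic

variable {C : Type*} [Category C] [HasPullbacks C] {F T A B W Q : C}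

/-- The relative magic square: `A ×_F B → A ×_T B` is the pullback of the diagonal of
`h : F ⟶ T`. -/
theorem isPullback_diagonal_rel_of_isPullback {a : A ⟶ F} {b : B ⟶ F} {p1 : W ⟶ A} {p2 : W ⟶ B}
    (sq : IsPullback p1 p2 a b) (h : F ⟶ T) {q1 : Q ⟶ A} {q2 : Q ⟶ B}
    (sqQ : IsPullback q1 q2 (a ≫ h) (b ≫ h)) (l : W ⟶ Q) (hl1 : l ≫ q1 = p1) (hl2 : l ≫ q2 = p2)
    (k : Q ⟶ pullback h h) (hk1 : k ≫ pullback.fst h h = q1 ≫ a)
    (hk2 : k ≫ pullback.snd h h = q2 ≫ b) :
    IsPullback (p1 ≫ a) l (pullback.diagonal h) k := by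
  refine isPullback_of_exists_unique ?_ ?_ ?_
  · apply pullback.hom_ext
    · rw [Category.assoc, pullback.diagonal_fst, Category.comp_id, Category.assoc, hk1,
        ← Category.assoc, hl1]
    · rw [Category.assoc, pullback.diagonal_snd, Category.comp_id, Category.assoc, hk2,
        ← Category.assoc, hl2, sq.w]
  · intro Z x y hxy
    have h1 : x = (y ≫ q1) ≫ a := by
      have := congrArg (· ≫ pullback.fst h h) hxy
      simpa only [Category.assoc, pullback.diagonal_fst, Category.comp_id, hk1] using this
    have h2 : x = (y ≫ q2) ≫ b := by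
      have := congrArg (· ≫ pullback.snd h h) hxy
      simpa only [Category.assoc, pullback.diagonal_snd, Category.comp_id, hk2] using this
    refine ⟨sq.lift (y ≫ q1) (y ≫ q2) (by rw [← h1, ← h2]), ?_, ?_⟩
    · rw [← Category.assoc, sq.lift_fst, ← h1]
    · apply sqQ.hom_ext
      · rw [Category.assoc, hl1, sq.lift_fst]
      · rw [Category.assoc, hl2, sq.lift_snd]
  · intro Z z z' _ hzz
    apply sq.hom_ext
    · have := congrArg (· ≫ q1) hzz
      simpa only [Category.assoc, hl1] using this
    · have := congrArg (· ≫ q2) hzz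
      simpa only [Category.assoc, hl2] using this

end Magic

set_option backward.isDefEq.respectTransparency.types false in
/-- Over a sheaf quasi-separated over a scheme `T`, a representable morphism from a scheme that is
quasi-compact over `T` is quasi-compact. -/
theorem repWith_quasiCompact_of_isQuasiSeparatedMor {X : Sp S} {T : Over S}
    (h : X ⟶ (yon S).obj T) (hqs : IsQuasiSeparatedMor h) {A : Over S} (c : (yon S).obj A ⟶ X)
    (a : A ⟶ T) (hca : c ≫ h = (yon S).map a) (hA : QuasiCompact a.left)
    (hc : Representable c) : RepWith @QuasiCompact c := by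
  refine MorphismProperty.relative_of_snd hc fun Z g => ?_
  change QuasiCompact (hc.snd g).left
  have sq := hc.isPullback' g
  obtain ⟨z, hz⟩ := (yon S).map_surjective (g ≫ h)
  have sqQ₀ := IsPullback.of_hasPullback a z
  have sqQ : IsPullback ((yon S).map (pullback.fst a z)) ((yon S).map (pullback.snd a z))
      (c ≫ h) (g ≫ h) := by
    rw [hca, ← hz]
    exact sqQ₀.map (yon S)
  have hw : (yon S).map (hc.fst' g) ≫ c ≫ h = (yon S).map (hc.snd g) ≫ g ≫ h := by
    rw [← Category.assoc, ← Category.assoc, sq.w]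
  obtain ⟨l, hl⟩ := (yon S).map_surjective (sqQ.lift _ _ hw)
  have hl1 : (yon S).map l ≫ (yon S).map (pullback.fst a z) = (yon S).map (hc.fst' g) := by
    rw [hl, sqQ.lift_fst]
  have hl2 : (yon S).map l ≫ (yon S).map (pullback.snd a z) = (yon S).map (hc.snd g) := by
    rw [hl, sqQ.lift_snd]
  have magic := isPullback_diagonal_rel_of_isPullback sq h sqQ ((yon S).map l) hl1 hl2
    (pullback.lift ((yon S).map (pullback.fst a z) ≫ c) ((yon S).map (pullback.snd a z) ≫ g)
      (by rw [Category.assoc, Category.assoc]; exact sqQ.w))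
    (pullback.lift_fst _ _ _) (pullback.lift_snd _ _ _)
  have hΓ : RepWith @QuasiCompact ((yon S).map l) := repWith_of_isPullback _ magic hqs
  have h1 : QuasiCompact l.left := (repWith_yon_map_iff _ _).1 hΓ
  have sqQ' := sqQ₀.map (Over.forget S)
  have h2 : QuasiCompact (pullback.snd a z).left :=
    MorphismProperty.of_isPullback (P := @QuasiCompact) sqQ' hA
  have h3 : (hc.snd g).left = l.left ≫ (pullback.snd a z).left := by
    rw [← Over.comp_left]
    congr 1
    apply (yon S).map_injective
    rw [Functor.map_comp, hl2]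
  rw [h3]
  infer_instance


set_option backward.isDefEq.respectTransparency.types false in
/-- An algebraic space quasi-separated over a scheme is decent. -/
theorem isDecent_of_isQuasiSeparatedMor_to_yon {X : Sp S} (hX : IsAlgSpace X) {T : Over S}
    (h : X ⟶ (yon S).obj T) (hqs : IsQuasiSeparatedMor h) : IsDecent X := by
  intro x
  induction x using Points.ind with
  | h q =>
  obtain ⟨a, ha⟩ := (yon S).map_surjective (q.toHom ≫ h)
  have hqa : QuasiCompact a.left := by
    have : Subsingleton ↥q.pt.left := subsingleton_spec_field q.K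
    exact quasiCompact_of_subsingleton _
  exact exists_mono_qc_point_of_qc hX q
    (repWith_quasiCompact_of_isQuasiSeparatedMor h hqs q.toHom a ha.symm hqa
      (repDiag_of_isAlgSpace hX _))

/-- A quasi-separated morphism of algebraic spaces is decent. -/
theorem isDecentMor_of_isQuasiSeparatedMor {X Y : Sp S} (hX : IsAlgSpace X) (hY : IsAlgSpace Y)
    (f : X ⟶ Y) (hf : IsQuasiSeparatedMor f) : IsDecentMor f := by
  intro T F' g fst snd sq
  have hF' : IsAlgSpace F' :=
    isAlgSpace_of_isPullback (repDiag_of_isAlgSpace hY) hX (IsAlgSpace.yon_obj T) sq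
  have i1 : (RepWith (S := S) @QuasiCompact).IsStableUnderBaseChange :=
    AlgSp.repWith_isStableUnderBaseChange _
  have hsnd : IsQuasiSeparatedMor snd :=
    MorphismProperty.of_isPullback (P := (RepWith @QuasiCompact).diagonal) sq hf
  exact isDecent_of_isQuasiSeparatedMor_to_yon hF' snd hsnd

/-- A representable sheaf is decent. -/
theorem isDecent_yon (T : Over S) : IsDecent ((yon S).obj T) :=
  isDecent_iff_goodPt.2 (exists_goodPt_yon True T)

/-- A representable morphism is decent. -/
theorem isDecentMor_of_representable {X Y : Sp S} (f : X ⟶ Y) (hf : Representable f) :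
    IsDecentMor f := by
  intro T F' g fst snd sq
  have hsnd : Representable snd := MorphismProperty.of_isPullback sq hf
  exact isDecent_of_representable snd hsnd (isDecent_yon T)


set_option backward.isDefEq.respectTransparency.types false in
/-- The source of an etale morphism to a decent algebraic space is decent. -/
theorem isDecent_of_isEtaleMor {X Y : Sp S} (hX : IsAlgSpace X) (hY : IsAlgSpace Y) (f : X ⟶ Y)
    (hf : IsEtaleMor f) (hYd : IsDecent Y) : IsDecent X := by
  intro x
  apply exists_mono_qc_point_of_finite_fibres hX x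
  intro U φ hU hφ R s t sq
  have hψ : RepWith @Etale (φ ≫ f) := hf φ hφ
  obtain ⟨p, hp, hm, hq⟩ := hYd (Points.map f x)
  have sqY := hψ.rep.isPullback' (φ ≫ f)
  obtain ⟨finY1, finY2⟩ :=
    finite_fibres_of_mono_qc_point hY p hm hq U (φ ≫ f) hU hψ _ _ _ sqY
  constructor
  · refine finY1.subset ?_
    intro u hu
    rw [Set.mem_preimage, Set.mem_singleton_iff] at hu ⊢
    rw [hp, ← hu, Points.map_ofPt]
  · have cond : (yon S).map t ≫ (φ ≫ f) = (yon S).map s ≫ (φ ≫ f) := by
      rw [← Category.assoc, sq.w, Category.assoc]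
    obtain ⟨m, hm'⟩ := (yon S).map_surjective (sqY.lift _ _ cond)
    have hmt : m ≫ hψ.rep.fst' (φ ≫ f) = t :=
      (yon S).map_injective (by rw [Functor.map_comp, hm', sqY.lift_fst])
    have hms : m ≫ hψ.rep.snd (φ ≫ f) = s :=
      (yon S).map_injective (by rw [Functor.map_comp, hm', sqY.lift_snd])
    have hmm : Mono m := by
      constructor
      intro Z a b hab
      have e1 : a ≫ t = b ≫ t := by rw [← hmt, ← Category.assoc, ← Category.assoc, hab]
      have e2 : a ≫ s = b ≫ s := by rw [← hms, ← Category.assoc, ← Category.assoc, hab]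
      apply (yon S).map_injective
      apply sq.hom_ext
      · rw [← Functor.map_comp, ← Functor.map_comp, e1]
      · rw [← Functor.map_comp, ← Functor.map_comp, e2]
    have hmm' : Mono m.left := inferInstance
    have hinj : Function.Injective m.left := m.left.injective
    refine (finY2.preimage (hinj.injOn (s := _))).subset ?_
    intro r hr
    rw [Set.mem_preimage, Set.mem_singleton_iff] at hr
    rw [Set.mem_preimage, Set.mem_preimage, Set.mem_singleton_iff, ← ofPt_yon_map_comp,
      ← Category.assoc, ← Functor.map_comp, hmt, ← Category.assoc, ← Points.map_ofPt, hr, hp]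


set_option backward.isDefEq.respectTransparency.types false in
/-- An algebraic space with a Zariski covering by decent open subspaces is decent. -/
theorem isDecent_of_isZarCover {X : Sp S} (hX : IsAlgSpace X) {ι : Type u} (Xi : ι → Sp S)
    (hXi : ∀ i, IsAlgSpace (Xi i)) (j : ∀ i, Xi i ⟶ X) (hj : IsZarCover Xi j)
    (hd : ∀ i, IsDecent (Xi i)) : IsDecent X := by
  intro x
  obtain ⟨hjo, hjs⟩ := hj
  have hje : ∀ i, RepWith @Etale (j i) := fun i => repWith_mono isOpenImmersion_le_etale (hjo i)
  have hjm : ∀ i, Mono (j i) := fun i =>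
    mono_of_repWith_mono (repWith_mono isOpenImmersion_le_mono (hjo i))
  obtain ⟨i, xi, rfl⟩ := hjs x
  obtain ⟨p, rfl, hm, hq⟩ := hd i xi
  have hPm : Mono (p.map (j i)).toHom := by
    rw [FieldPt.toHom_map]
    exact @mono_comp _ _ _ _ _ _ hm _ (hjm i)
  refine ⟨p.map (j i), rfl, hPm, repWith_quasiCompact_of_mono_of_finite_fibres hX _ hPm ?_⟩
  intro V b hV hb
  choose U a hae has using fun i' => (hXi i').atlas
  let I : Type u := Σ i' : ι, {N : (U i').left.Opens // IsAffineOpen N}
  let UU : I → Over S := fun k => Over.mk (k.2.1.ι ≫ (U k.1).hom)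
  let ιN : ∀ k : I, UU k ⟶ U k.1 := fun k => Over.homMk k.2.1.ι rfl
  let ψ : ∀ k : I, (yon S).obj (UU k) ⟶ Xi k.1 := fun k => (yon S).map (ιN k) ≫ a k.1
  have hψ : ∀ k, RepWith @Etale (ψ k) := fun k =>
    repWith_comp _ ((repWith_yon_map_iff _ _).2 (inferInstance : Etale k.2.1.ι)) (hae k.1)
  let φ : ∀ k : I, (yon S).obj (UU k) ⟶ X := fun k => ψ k ≫ j k.1
  have hφ : ∀ k, RepWith @Etale (φ k) := fun k => repWith_comp _ (hψ k) (hje k.1)
  have hsurj : ∀ y : Points X, ∃ (k : I) (v : ↥(UU k).left), Points.ofPt (φ k) v = y := by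
    intro y
    obtain ⟨i', y', rfl⟩ := hjs y
    obtain ⟨u', rfl⟩ := ofPt_surjective_of_repWith (has i') y'
    obtain ⟨N, hN, hu'N, -⟩ := exists_isAffineOpen_mem_and_subset (x := u') (U := ⊤) trivial
    refine ⟨⟨i', N, hN⟩, ⟨u', hu'N⟩, ?_⟩
    change Points.ofPt (((yon S).map _ ≫ a i') ≫ j i') _ = _
    rw [← Points.map_ofPt, ofPt_yon_map_comp]
    rfl
  have hfin : ∀ k, (Points.ofPt (φ k) ⁻¹' {Points.mk (p.map (j i))}).Finite := by
    intro k
    by_cases hex : ∃ x' : Points (Xi k.1), Points.map (j k.1) x' = Points.mk (p.map (j i))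
    · obtain ⟨x', hx'⟩ := hex
      have hinj : Function.Injective (Points.map (j k.1)) :=
        have := hjm k.1
        (fieldInj_of_mono (j k.1)).injective_points
      have hfin' := finite_fibre_of_isDecent (hd k.1) x' (UU k) (ψ k) k.2.2 (hψ k)
      refine hfin'.subset ?_
      intro v hv
      rw [Set.mem_preimage, Set.mem_singleton_iff] at hv ⊢
      apply hinj
      rw [hx', ← hv, Points.map_ofPt]
    · convert Set.finite_empty
      rw [Set.eq_empty_iff_forall_notMem]
      intro v hv
      rw [Set.mem_preimage, Set.mem_singleton_iff] at hv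
      exact hex ⟨Points.ofPt (ψ k) v, by rw [Points.map_ofPt]; exact hv⟩
  have : IsAffine V.left := hV
  exact finite_fibre_affine_of_cover _ UU φ hφ hsurj hfin b hb

end Groth.Agent.Lib.Helper14.AS
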