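import Groth.Agent.Lib.Helper14.AlgSpFibrePt4
import Groth.Agent.Lib.Helper14.AlgSpFieldPts
universe u
open CategoryTheory CategoryTheory.Limits AlgebraicGeometry Opposite
namespace Groth.Agent.Lib.Helper14.AS
variable {S : Scheme.{u}}
open AlgSp Groth.Agent.Lib.Helper14.AS

set_option backward.isDefEq.respectTransparency.types false in
/-- A field point in the class of a representable monomorphic field point factors through it. -/
theorem factors_through_mono_point {X : Sp S} (p q : FieldPt X) (hm : Mono p.toHom)
    (hrep : Representable p.toHom) (h : Points.mk q = Points.mk p) :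
    ∃ j : q.pt ⟶ p.pt, (yon S).map j ≫ p.toHom = q.toHom := by
  have sq := hrep.isPullback' q.toHom
  have hmono : Mono ((yon S).map (hrep.snd q.toHom)) :=
    (MorphismProperty.monomorphisms _).of_isPullback sq (.infer_property _)
  have hm2 : Mono (hrep.snd q.toHom) := (yon S).mono_of_mono_map hmono
  have hm3 : Mono (hrep.snd q.toHom).left := inferInstance
  obtain ⟨e, -, -⟩ := exists_point_of_isPullback_yon sq
    (IsLocalRing.closedPoint p.K : ↥(Spec (CommRingCat.of p.K)))
    (IsLocalRing.closedPoint q.K : ↥(Spec (CommRingCat.of q.K)))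
    (by rw [Points.ofPt_toHom, Points.ofPt_toHom, h])
  have : Nonempty ↥(hrep.pullback q.toHom).left := ⟨e⟩
  have hiso : IsIso (hrep.snd q.toHom).left :=
    isIso_of_mono_to_field (K := q.K) (hrep.snd q.toHom).left
  have hiso2 : IsIso (hrep.snd q.toHom) :=
    have : IsIso ((Over.forget S).map (hrep.snd q.toHom)) := hiso
    isIso_of_reflects_iso _ (Over.forget S)
  refine ⟨inv (hrep.snd q.toHom) ≫ hrep.fst' q.toHom, ?_⟩
  rw [Functor.map_comp, Category.assoc, sq.w, ← Category.assoc, ← Functor.map_comp,
    IsIso.inv_hom_id, CategoryTheory.Functor.map_id, Category.id_comp]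


set_option backward.isDefEq.respectTransparency.types false in
theorem repWith_quasiCompact_of_mk_eq {X : Sp S} (p q : FieldPt X) (hm : Mono p.toHom)
    (hp : RepWith @QuasiCompact p.toHom) (h : Points.mk q = Points.mk p) :
    RepWith @QuasiCompact q.toHom := by
  obtain ⟨j, hj⟩ := factors_through_mono_point p q hm hp.rep h
  rw [← hj]
  have : QuasiCompact j.left :=
    inferInstanceAs (QuasiCompact (X := Spec (CommRingCat.of q.K)) (Y := Spec (CommRingCat.of p.K)) j.left)
  exact repWith_comp _ ((repWith_yon_map_iff _ _).2 this) hp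

end Groth.Agent.Lib.Helper14.AS
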