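import Mathlib
import Groth.Agent.Lib.Helper14.SchemeDim

open CategoryTheory AlgebraicGeometry

universe u

namespace Groth.Agent.Lib.Helper14.AS

/-- Target of a flat local homomorphism into a field is a field (ring version). -/
theorem isField_of_flat_isLocalHom {A B : Type u} [CommRing A] [CommRing B] [IsLocalRing A]
    (hB : IsField B) (φ : A →+* B) (hloc : IsLocalHom φ) (hfl : φ.Flat) : IsField A := by
  algebraize [φ]
  have : IsLocalRing B := by
    let := hB.toField
    infer_instance
  have : IsLocalHom (algebraMap A B) := hloc
  have hff : Module.FaithfullyFlat A B := Module.FaithfullyFlat.of_flat_of_isLocalHom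
  have hinj : Function.Injective (algebraMap A B) := FaithfulSMul.algebraMap_injective A B
  rw [IsLocalRing.isField_iff_maximalIdeal_eq, eq_bot_iff]
  intro a ha
  have hnu : ¬ IsUnit (algebraMap A B a) := fun h => ha (hloc.map_nonunit a h)
  have h0 : algebraMap A B a = 0 := by
    by_contra hne
    obtain ⟨b, hb⟩ := hB.mul_inv_cancel hne
    exact hnu (IsUnit.of_mul_eq_one _ hb)
  exact hinj (by rw [h0, map_zero])

/-- F2: the target of a flat morphism has a field as local ring wherever the source does. -/
theorem isField_stalk_of_flat {W V : Scheme.{u}} (f : W ⟶ V) [Flat f] (w : ↥W)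
    (h : IsField (W.presheaf.stalk w)) : IsField (V.presheaf.stalk (f w)) :=
  isField_of_flat_isLocalHom h (f.stalkMap w).hom (f.toLRSHom.prop w) (Flat.stalkMap f w)

/-- An essentially finite type, formally unramified local algebra over a field is a field. -/
theorem isField_of_unramified_of_isField {K B : Type u} [CommRing K] [CommRing B] [IsLocalRing B]
    (hK : IsField K) (φ : K →+* B) (h1 : φ.EssFiniteType) (h2 : φ.FormallyUnramified) :
    IsField B := by
  let _ := hK.toField
  algebraize [φ]
  have : Algebra.EssFiniteType K B := by
    rw [← RingHom.essFiniteType_algebraMap, RingHom.algebraMap_toAlgebra]; exact h1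
  have : Algebra.FormallyUnramified K B := by
    rw [← RingHom.formallyUnramified_algebraMap, RingHom.algebraMap_toAlgebra]; exact h2
  have := Algebra.FormallyUnramified.finite_of_free K B
  have := IsArtinianRing.of_finite K B
  have := Algebra.FormallyUnramified.isReduced_of_field K B
  exact IsArtinianRing.isField_of_isReduced_of_isLocalRing B

/-- F1: a scheme unramified over a scheme has a field as local ring over a point where the
base does. -/
theorem isField_stalk_of_unramified {W Y : Scheme.{u}} (f : W ⟶ Y) [LocallyOfFiniteType f]
    [FormallyUnramified f] (w : ↥W) (h : IsField (Y.presheaf.stalk (f w))) :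
    IsField (W.presheaf.stalk w) :=
  isField_of_unramified_of_isField h (f.stalkMap w).hom (LocallyOfFiniteType.stalkMap f w)
    (FormallyUnramified.stalkMap f w)


/-- Any ring map out of a field is flat. -/
theorem ringHom_flat_of_isField {A B : Type u} [CommRing A] [CommRing B] (hA : IsField A)
    (φ : A →+* B) : φ.Flat := by
  let _ := hA.toField
  algebraize [φ]
  change Module.Flat A B
  infer_instance

/-- F3: a morphism is flat if the local rings of the target at image points are fields. -/
theorem flat_of_isField_stalk {U V : Scheme.{u}} (h : U ⟶ V)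
    (hV : ∀ x : ↥U, IsField (V.presheaf.stalk (h x))) : Flat h :=
  Flat.of_stalkMap h fun x => ringHom_flat_of_isField (hV x) _

/-- The local ring of the spectrum of a field is a field. -/
theorem isField_stalk_Spec_field (K : Type u) [Field K] (x : ↥(Spec (CommRingCat.of K))) :
    IsField ((Spec (CommRingCat.of K)).presheaf.stalk x) := by
  let k : Algebra K ↑((Spec (CommRingCat.of K)).presheaf.stalk x) :=
    StructureSheaf.stalkAlgebra K x
  have hpr : x.asIdeal.IsPrime := x.isPrime
  have : IsLocalization.AtPrime (↑((Spec (CommRingCat.of K)).presheaf.stalk x)) x.asIdeal :=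
    StructureSheaf.IsLocalization.to_stalk K x
  have hle : x.asIdeal.primeCompl ≤ IsUnit.submonoid K := by
    intro a ha
    have : a ≠ 0 := by
      rintro rfl
      exact ha (Ideal.zero_mem _)
    exact isUnit_iff_ne_zero.2 this
  have e := IsLocalization.atUnits K x.asIdeal.primeCompl
    (S := ↑((Spec (CommRingCat.of K)).presheaf.stalk x)) hle
  exact e.symm.toMulEquiv.isField (Field.toIsField K)

/-- If all local rings of a scheme are fields then all its points are closed. -/
theorem isClosed_singleton_of_isField_stalk {V : Scheme.{u}}
    (hV : ∀ v : ↥V, IsField (V.presheaf.stalk v)) (v : ↥V) : IsClosed ({v} : Set ↥V) := by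
  rw [← closure_subset_iff_isClosed]
  intro v' hv'
  have hs : v ⤳ v' := specializes_iff_mem_closure.2 hv'
  by_contra hne
  have hne' : v' ≠ v := hne
  have hlt : v' < v := by
    refine lt_of_le_not_ge hs ?_
    intro (h2 : v' ⤳ v)
    exact hne' (hs.antisymm h2).eq.symm
  have h1 : ringKrullDim (V.presheaf.stalk v') = 0 := by
    let _ := (hV v').toField
    exact ringKrullDim_eq_zero_of_field _
  rw [ringKrullDim_stalk_eq_coheight] at h1
  have h2 : Order.coheight v' ≠ 0 := by
    rw [Ne, Order.coheight_eq_zero]
    intro hmax
    exact (hmax.not_lt hlt)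
  exact h2 (by exact_mod_cast h1)


set_option backward.isDefEq.respectTransparency.types false in
/-- (M1) A monomorphism into a discrete scheme all of whose local rings are fields is an open
immersion. -/
theorem isOpenImmersion_of_mono_of_discrete {Q W : Scheme.{u}} (j : Q ⟶ W) [Mono j]
    [DiscreteTopology ↥W] (hW : ∀ w : ↥W, IsField (W.presheaf.stalk w)) : IsOpenImmersion j := by
  have hflat : Flat j := flat_of_isField_stalk j (fun _ => hW _)
  let U : W.Opens := ⟨Set.range j, isOpen_discrete _⟩
  have hU : IsOpenImmersion U.ι := U.instIsOpenImmersionι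
  let j' := hU.lift U.ι j (by simp [U])
  have heq : j = j' ≫ U.ι := by simp [j']
  have hflat' : Flat j' :=
    MorphismProperty.of_postcomp (W := @Flat) j' U.ι hU (by rwa [← heq])
  have hmono : Mono j' := mono_of_mono_fac heq.symm
  have hsurj : Surjective j' := ⟨fun ⟨x, ⟨y, hy⟩⟩ ↦
    ⟨y, by apply U.ι.injective; simp [← Scheme.Hom.comp_apply, j', hy]⟩⟩
  have hqc : QuasiCompact j' := by
    refine ⟨fun V hV hc => ?_⟩
    have : DiscreteTopology ↥(U : Scheme.{u}) :=
      DiscreteTopology.of_continuous_injective U.ι.continuous U.ι.injective
    have hfin : V.Finite := hc.finite_of_discrete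
    exact (hfin.preimage (j'.injective.injOn)).isCompact
  have := Flat.isIso_of_surjective_of_mono j'
  rw [heq]
  infer_instance


/-- (M2) A scheme locally quasi-finite over the spectrum of a field is discrete. -/
theorem discreteTopology_of_lqf_field {W : Scheme.{u}} {K : Type u} [Field K]
    (s : W ⟶ Spec (CommRingCat.of K)) [LocallyQuasiFinite s] : DiscreteTopology ↥W := by
  rw [← isDiscrete_univ_iff]
  cases isEmpty_or_nonempty ↥W with
  | inl h =>
    rw [isDiscrete_univ_iff]
    infer_instance
  | inr h =>
    obtain ⟨w⟩ := h
    have := s.isDiscrete_preimage_singleton (s w)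
    have h2 : s ⁻¹' {s w} = Set.univ := by
      ext x
      simp only [Set.mem_preimage, Set.mem_singleton_iff, Set.mem_univ, iff_true]
      exact Subsingleton.elim (α := ↥(Spec (CommRingCat.of K))) _ _
    rwa [h2] at this

end Groth.Agent.Lib.Helper14.AS
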