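import Groth.Agent.Lib.Helper14.AlgSpRedFactor2
import Groth.Agent.Lib.Helper14.AlgSpFibrePt5
import Groth.Agent.Lib.Helper14.AlgSpDecent2
import Groth.Agent.Lib.Helper14.SchemeFieldStalk
import Groth.Agent.Lib.Helper14.FpqcBase4
import Mathlib.AlgebraicGeometry.Limits

open CategoryTheory CategoryTheory.Limits AlgebraicGeometry Opposite AlgSp Topology
open CategoryTheory.Functor Groth.Agent.Lib.Helper14.AS

universe u

noncomputable section

namespace Groth.Agent.Lib.Helper14.AS

variable {S : Scheme.{u}}

/-- The coproduct of a family of schemes over `S`. -/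
def sigmaOver {ι : Type u} (T : ι → Over S) : Over S :=
  Over.mk (Sigma.desc fun i => (T i).hom)

/-- The coprojections. -/
def sigmaOverι {ι : Type u} (T : ι → Over S) (i : ι) : T i ⟶ sigmaOver T :=
  Over.homMk (Sigma.ι (fun i => (T i).left) i) (by simp [sigmaOver])

/-- Morphisms out of the coproduct. -/
def sigmaOverDesc {ι : Type u} (T : ι → Over S) {Z : Over S} (f : ∀ i, T i ⟶ Z) :
    sigmaOver T ⟶ Z :=
  Over.homMk (Sigma.desc fun i => (f i).left) (by
    apply Sigma.hom_ext
    intro i
    simp [sigmaOver])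

@[simp]
theorem sigmaOverι_desc {ι : Type u} (T : ι → Over S) {Z : Over S} (f : ∀ i, T i ⟶ Z) (i : ι) :
    sigmaOverι T i ≫ sigmaOverDesc T f = f i := by
  ext1
  change Sigma.ι (fun i => (T i).left) i ≫ (Sigma.desc fun i => (f i).left) = (f i).left
  simp

theorem sigmaOverι_mem_KS {ι : Type u} (T : ι → Over S) :
    Presieve.ofArrows T (sigmaOverι T) ∈ KS S (sigmaOver T) := by
  refine ofArrows_mem_KS T (sigmaOverι T) (fun i => ?_) (fun x => ?_)
  · have : IsOpenImmersion (sigmaOverι T i).left :=
      inferInstanceAs (IsOpenImmersion (Sigma.ι (fun i => (T i).left) i))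
    exact ⟨inferInstance, inferInstance⟩
  · obtain ⟨⟨i, y⟩, rfl⟩ := (sigmaMk (fun i => (T i).left)).surjective x
    exact ⟨i, y, (sigmaMk_mk (fun i => (T i).left) i y).symm⟩


/-- The sheaf condition for an fppf covering family. -/
theorem isSheafFor_of_mem_KS (F : Sp S) {U : Over S} (R : Presieve U) (hR : R ∈ KS S U) :
    Presieve.IsSheafFor F.obj R := by
  rw [Presieve.isSheafFor_iff_generate]
  exact (isSheaf_iff_isSheaf_of_type _ _).1 F.property _
    ((mem_J_iff _).2 ⟨R, hR, Sieve.le_generate R⟩)

/-- Sections of a sheaf over an empty scheme form a subsingleton. -/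
theorem subsingleton_sections_of_isEmpty (F : Sp S) (W : Over S) [IsEmpty ↥W.left] :
    Subsingleton (F.obj.obj (op W)) := by
  have hR : Presieve.ofArrows (fun i : PEmpty.{u + 1} => (PEmpty.elim i : Over S))
      (fun i => PEmpty.elim i) ∈ KS S W :=
    ofArrows_mem_KS _ _ (fun i => PEmpty.elim i) (fun x => (IsEmpty.false x).elim)
  have hsh := isSheafFor_of_mem_KS F _ hR
  rw [Presieve.isSheafFor_arrows_iff] at hsh
  obtain ⟨t, -, ht⟩ := hsh (fun i => PEmpty.elim i) (fun i => PEmpty.elim i)
  exact ⟨fun a b => (ht a (fun i => PEmpty.elim i)).trans (ht b (fun i => PEmpty.elim i)).symm⟩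

/-- (COP) Morphisms from the sheaf of a coproduct of schemes are families of morphisms. -/
theorem existsUnique_desc_yon_sigmaOver {F : Sp S} {ι : Type u} (T : ι → Over S)
    (c : ∀ i, (yon S).obj (T i) ⟶ F) :
    ∃! d : (yon S).obj (sigmaOver T) ⟶ F, ∀ i, (yon S).map (sigmaOverι T i) ≫ d = c i := by
  have hsh := isSheafFor_of_mem_KS F _ (sigmaOverι_mem_KS T)
  rw [Presieve.isSheafFor_arrows_iff] at hsh
  have hcompat : Presieve.Arrows.Compatible F.obj (sigmaOverι T) (fun i => yEquiv (c i)) := by
    intro i j W gi gj hij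
    by_cases h : i = j
    · subst h
      have hm : Mono (sigmaOverι T i) := by
        have : Mono (sigmaOverι T i).left :=
          inferInstanceAs (Mono (Sigma.ι (fun i => (T i).left) i))
        exact (Over.forget S).mono_of_mono_map this
      rw [(cancel_mono (sigmaOverι T i)).1 hij]
    · have hempty : IsEmpty ↥W.left := by
        refine isEmpty_of_commSq_sigmaι_of_ne (g := fun i => (T i).left) (a := gi.left)
          (b := gj.left) ⟨?_⟩ h
        exact congrArg Over.Hom.left hij
      have := subsingleton_sections_of_isEmpty F W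
      exact Subsingleton.elim _ _
  obtain ⟨t, ht, htu⟩ := hsh _ hcompat
  refine ⟨yEquiv.symm t, fun i => ?_, fun d hd => ?_⟩
  · apply yEquiv.injective
    rw [← ht i]
    have h1 := (AlgSp.J S).uliftYonedaEquiv_naturality (yEquiv.symm t) (sigmaOverι T i)
    have h2 : yEquiv (yEquiv.symm t) = t := Equiv.apply_symm_apply _ _
    rw [h2] at h1
    exact h1.symm
  · apply yEquiv.injective
    rw [Equiv.apply_symm_apply]
    apply htu
    intro i
    rw [← hd i]
    exact ((AlgSp.J S).uliftYonedaEquiv_naturality d (sigmaOverι T i))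


/-- A morphism of sheaves that is injective on scheme-valued points is a monomorphism. -/
theorem mono_of_yon_test {F G : Sp S} (f : F ⟶ G)
    (h : ∀ (T : Over S) (p p' : (yon S).obj T ⟶ F), p ≫ f = p' ≫ f → p = p') : Mono f := by
  constructor
  intro W x y hxy
  apply GrothendieckTopology.hom_ext_uliftYoneda.{u + 1} (AlgSp.J S)
  intro T p
  exact h T (p ≫ x) (p ≫ y) (by rw [Category.assoc, Category.assoc, hxy])

/-- Morphisms of schemes over `S` that agree locally on the source are equal. -/
theorem over_hom_ext_of_locally {W Z : Over S} (s t : W ⟶ Z)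
    (h : ∀ w : ↥W.left, ∃ O : W.left.Opens, w ∈ O ∧ O.ι ≫ s.left = O.ι ≫ t.left) : s = t := by
  choose O hwO hO using h
  ext1
  have hcov : TopologicalSpace.IsOpenCover O := by
    rw [TopologicalSpace.IsOpenCover, eq_top_iff]
    intro w _
    exact TopologicalSpace.Opens.mem_iSup.2 ⟨w, hwO w⟩
  refine (W.left.openCoverOfIsOpenCover O hcov).hom_ext _ _ fun w => ?_
  exact hO w


set_option backward.isDefEq.respectTransparency.types false in
/-- A morphism out of the sheaf of a coproduct of schemes is a monomorphism when its components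
are monomorphisms with pairwise disjoint images. -/
theorem mono_of_sigmaOver {F : Sp S} {ι : Type u} (T : ι → Over S)
    (d : (yon S).obj (sigmaOver T) ⟶ F)
    (hm : ∀ i, Mono ((yon S).map (sigmaOverι T i) ≫ d))
    (hdisj : ∀ (i j : ι) (W : Over S) (s : W ⟶ T i) (t : W ⟶ T j),
      (yon S).map (s ≫ sigmaOverι T i) ≫ d = (yon S).map (t ≫ sigmaOverι T j) ≫ d →
        Nonempty ↥W.left → i = j) : Mono d := by
  refine mono_of_yon_test d fun W s t hst => ?_
  obtain ⟨s, rfl⟩ := (yon S).map_surjective s
  obtain ⟨t, rfl⟩ := (yon S).map_surjective t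
  congr 1
  refine over_hom_ext_of_locally s t fun w => ?_
  obtain ⟨⟨i, y⟩, hy⟩ := (sigmaMk (fun i => (T i).left)).surjective (s.left w)
  obtain ⟨⟨j, y'⟩, hy'⟩ := (sigmaMk (fun i => (T i).left)).surjective (t.left w)
  rw [sigmaMk_mk] at hy hy'
  let ιi : (T i).left ⟶ (sigmaOver T).left := Sigma.ι (fun i => (T i).left) i
  let ιj : (T j).left ⟶ (sigmaOver T).left := Sigma.ι (fun i => (T i).left) j
  have hoi : IsOpenImmersion ιi := inferInstanceAs (IsOpenImmersion (Sigma.ι (fun i => (T i).left) i))
  have hoj : IsOpenImmersion ιj := inferInstanceAs (IsOpenImmersion (Sigma.ι (fun i => (T i).left) j))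
  let O : W.left.Opens := s.left ⁻¹ᵁ ιi.opensRange ⊓ t.left ⁻¹ᵁ ιj.opensRange
  have hwO : w ∈ O := ⟨⟨y, hy⟩, ⟨y', hy'⟩⟩
  have hrs : Set.range (O.ι ≫ s.left) ⊆ Set.range ιi := by
    rintro _ ⟨o, rfl⟩
    exact o.2.1
  have hrt : Set.range (O.ι ≫ t.left) ⊆ Set.range ιj := by
    rintro _ ⟨o, rfl⟩
    exact o.2.2
  let s₁ : O.toScheme ⟶ (T i).left := IsOpenImmersion.lift ιi (O.ι ≫ s.left) hrs
  let t₁ : O.toScheme ⟶ (T j).left := IsOpenImmersion.lift ιj (O.ι ≫ t.left) hrt
  have hs₁ : s₁ ≫ ιi = O.ι ≫ s.left := IsOpenImmersion.lift_fac _ _ _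
  have ht₁ : t₁ ≫ ιj = O.ι ≫ t.left := IsOpenImmersion.lift_fac _ _ _
  have hιi : ιi ≫ (sigmaOver T).hom = (T i).hom := Over.w (sigmaOverι T i)
  have hιj : ιj ≫ (sigmaOver T).hom = (T j).hom := Over.w (sigmaOverι T j)
  let s₂ : openSub W O ⟶ T i := Over.homMk s₁ (by
    change s₁ ≫ (T i).hom = O.ι ≫ W.hom
    rw [← hιi, ← Category.assoc, hs₁, Category.assoc, Over.w s])
  let t₂ : openSub W O ⟶ T j := Over.homMk t₁ (by
    change t₁ ≫ (T j).hom = O.ι ≫ W.hom
    rw [← hιj, ← Category.assoc, ht₁, Category.assoc, Over.w t])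
  have hs₂ : s₂ ≫ sigmaOverι T i = openSubι W O ≫ s := by
    ext1
    exact hs₁
  have ht₂ : t₂ ≫ sigmaOverι T j = openSubι W O ≫ t := by
    ext1
    exact ht₁
  have hne : Nonempty ↥(openSub W O).left := ⟨⟨w, hwO⟩⟩
  have hij : i = j := by
    refine hdisj i j _ s₂ t₂ ?_ hne
    rw [hs₂, ht₂, Functor.map_comp, Functor.map_comp, Category.assoc, Category.assoc, hst]
  subst hij
  refine ⟨O, hwO, ?_⟩
  have h2 : (yon S).map s₂ = (yon S).map t₂ := by
    have := hm i
    rw [← cancel_mono ((yon S).map (sigmaOverι T i) ≫ d), ← Category.assoc, ← Category.assoc,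
      ← Functor.map_comp, ← Functor.map_comp, hs₂, ht₂, Functor.map_comp, Functor.map_comp,
      Category.assoc, Category.assoc, hst]
  have h3 : s₂ = t₂ := (yon S).map_injective h2
  have h4 : s₁ = t₁ := congrArg Over.Hom.left h3
  rw [← hs₁, ← ht₁, h4]


/-- The residue points of a scheme over `S`, as schemes over `S`. -/
def resPt (U : Over S) (u : ↥U.left) : Over S :=
  Over.mk (U.left.fromSpecResidueField u ≫ U.hom)

/-- The inclusion of a residue point. -/
def resPtι (U : Over S) (u : ↥U.left) : resPt U u ⟶ U :=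
  Over.homMk (U.left.fromSpecResidueField u) rfl

open scoped Function in
/-- A discrete scheme whose local rings are fields is the coproduct of its residue points. -/
theorem isIso_sigmaOverDesc_resPt (U : Over S) [DiscreteTopology ↥U.left]
    (hU : ∀ u : ↥U.left, IsField (U.left.presheaf.stalk u)) :
    IsIso (sigmaOverDesc (resPt U) (resPtι U)) := by
  have hoi : ∀ u : ↥U.left, IsOpenImmersion (U.left.fromSpecResidueField u) := fun u =>
    isOpenImmersion_of_mono_of_discrete _ hU
  have h1 : IsOpenImmersion (Sigma.desc fun u : ↥U.left => U.left.fromSpecResidueField u) := by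
    refine isOpenImmersion_sigmaDesc _ _ fun u u' huu' => ?_
    rw [Function.onFun_apply, Scheme.range_fromSpecResidueField, Scheme.range_fromSpecResidueField]
    exact Set.disjoint_singleton.2 huu'
  have h2 : IsIso (Sigma.desc fun u : ↥U.left => U.left.fromSpecResidueField u) := by
    apply isIso_of_isOpenImmersion_of_opensRange_eq_top
    rw [eq_top_iff]
    intro u _
    have : u ∈ Set.range (U.left.fromSpecResidueField u) := by
      rw [Scheme.range_fromSpecResidueField]; rfl
    obtain ⟨y, hy⟩ := this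
    refine ⟨Sigma.ι (fun u : ↥U.left => Spec (U.left.residueField u)) u y, ?_⟩
    rw [← Scheme.Hom.comp_apply, Sigma.ι_desc]
    exact hy
  have h3 : IsIso ((Over.forget S).map (sigmaOverDesc (resPt U) (resPtι U))) := h2
  exact isIso_of_reflects_iso _ (Over.forget S)


theorem ofPt_comp_toHom {X : Sp S} (p : FieldPt X) {W : Over S} (s : W ⟶ p.pt) (w : ↥W.left) :
    Points.ofPt ((yon S).map s ≫ p.toHom) w = Points.mk p := by
  rw [ofPt_yon_map_comp]
  exact Points.ofPt_toHom p _

set_option backward.isDefEq.respectTransparency.types false in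
/-- An algebraic space with an etale atlas that is a discrete scheme with fields as local rings,
all of whose points are represented by monomorphisms, is a scheme. -/
theorem isRepresentable_of_discrete_atlas {X : Sp S} (hX : IsAlgSpace X) {U : Over S}
    (a : (yon S).obj U ⟶ X) (hae : RepWith @Etale a) (has : RepWith @Surjective a)
    [DiscreteTopology ↥U.left] (hU : ∀ u : ↥U.left, IsField (U.left.presheaf.stalk u))
    (hXm : ∀ x : Points X, ∃ p : FieldPt X, Points.mk p = x ∧ Mono p.toHom) :
    X.obj.IsRepresentable := by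
  let ι : Type u := Quotient (Setoid.ker (Points.ofPt a))
  choose p hp hm using fun i : ι => hXm (Setoid.kerLift (Points.ofPt a) i)
  let T : ι → Over S := fun i => (p i).pt
  obtain ⟨d, hd, -⟩ := existsUnique_desc_yon_sigmaOver T (fun i => (p i).toHom)
  -- mono
  have hdm : Mono d := by
    refine mono_of_sigmaOver T d (fun i => by rw [hd i]; exact hm i) ?_
    rintro i j W s t h ⟨w⟩
    apply Setoid.kerLift_injective (Points.ofPt a)
    rw [← hp i, ← hp j, ← ofPt_comp_toHom (p i) s w, ← ofPt_comp_toHom (p j) t w, ← hd i, ← hd j,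
      ← Category.assoc, ← Category.assoc, ← Functor.map_comp, ← Functor.map_comp, h]
  -- epi
  have hde : Epi d := by
    let e := sigmaOverDesc (resPt U) (resPtι U)
    have he : IsIso e := isIso_sigmaOverDesc_resPt U hU
    let q : ∀ u : ↥U.left, FieldPt X := fun u => FieldPt.ofPt a u
    have hq : ∀ u, (q u).toHom = (yon S).map (resPtι U u) ≫ a := fun u => FieldPt.toHom_ofPt a u
    let i : ↥U.left → ι := fun u => Quotient.mk _ u
    have key : ∀ u : ↥U.left, ∃ j : (q u).pt ⟶ (p (i u)).pt,
        (yon S).map j ≫ (p (i u)).toHom = (q u).toHom := fun u =>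
      factors_through_mono_point (p (i u)) (q u) (hm _) (repDiag_of_isAlgSpace hX _)
        ((hp (i u)).trans (Setoid.kerLift_mk (Points.ofPt a) u)).symm
    choose j hj using key
    let l : sigmaOver (resPt U) ⟶ sigmaOver T :=
      sigmaOverDesc (resPt U) (fun u => j u ≫ sigmaOverι T (i u))
    have hfac : (yon S).map l ≫ d = (yon S).map e ≫ a := by
      refine (existsUnique_desc_yon_sigmaOver (resPt U) (fun u => (q u).toHom)).unique
        (fun u => ?_) (fun u => ?_)
      · rw [← Category.assoc, ← Functor.map_comp, sigmaOverι_desc, Functor.map_comp,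
          Category.assoc, hd]
        exact hj u
      · rw [← Category.assoc, ← Functor.map_comp, sigmaOverι_desc, hq]
    have hea : Epi a := epi_of_etale_surjective a hae has
    have : Epi ((yon S).map e ≫ a) := epi_comp _ _
    exact epi_of_epi_fac hfac
  have : IsIso d := isIso_of_mono_of_epi d
  exact (representableByOfIso (asIso d)).isRepresentable

end Groth.Agent.Lib.Helper14.AS
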