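import Mathlib
import Groth.Agent.Lib.Helper14.PushEt1b
import Groth.Agent.Lib.Helper14.InfNbhd2
import Groth.Agent.Lib.Helper14.AlgSpUnram
import Groth.Agent.Lib.Helper14.FpqcBase4
import Groth.Agent.Lib.Helper14.FpqcCover2
import Groth.Agent.Lib.Helper14.AlgSpRepTo
import Groth.Agent.Lib.Helper14.AlgSpFieldPts
import Groth.Agent.Lib.Helper24.RepLocal
import Groth.Agent.Lib.Helper24.Boot9
import Groth.Agent.Lib.Helper24.QuotAtlas
import Groth.Agent.Lib.Helper24.DescSubsheaf
import Groth.Agent.S10544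

/-!
# Jointly locally surjective pairs of morphisms of sheaves: general lemmas (helper14)
-/

set_option autoImplicit false
universe u
open CategoryTheory CategoryTheory.Limits AlgebraicGeometry Opposite Topology

namespace Groth.Agent.Lib.Helper14.AS

open AlgSp Groth.Agent.Lib.Helper14.AS

variable {S : Scheme.{u}}

/-- A covering sieve has a flat, locally finitely presented member through any given point. -/
theorem exists_flat_lfp_mem_of_mem_J {T : Over S} (R : Sieve T) (hR : R ∈ AlgSp.J S T)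
    (x : T.left) :
    ∃ (W : Over S) (w : W ⟶ T), R w ∧ Flat w.left ∧ LocallyOfFinitePresentation w.left ∧
      x ∈ Set.range w.left := by
  obtain ⟨R', hR', hle⟩ := (mem_J_iff R).1 hR
  obtain ⟨W, w, hw, hx⟩ :=
    Groth.Agent.Lib.Helper24.DescSubsheaf.exists_mem_range_of_mem_KS R' hR' x
  obtain ⟨h1, h2⟩ := Groth.Agent.Lib.Helper24.QuotAtlas.prop_of_mem_KS R' hR' w hw
  exact ⟨W, w, hle _ _ hw, h1, h2, hx⟩

theorem JLS.symm {U V W : Sp S} {j : U ⟶ W} {f : V ⟶ W} (h : JLS j f) : JLS f j := by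
  intro T w
  obtain ⟨R, hR, hl⟩ := h T w
  exact ⟨R, hR, fun T' t ht => (hl t ht).symm⟩

/-- A jointly locally surjective pair is jointly surjective on points. -/
theorem JLS.points {U V W : Sp S} {j : U ⟶ W} {f : V ⟶ W} (h : JLS j f) (y : Points W) :
    y ∈ Set.range (Points.map j) ∨ y ∈ Set.range (Points.map f) := by
  obtain ⟨K, _, strK, b, rfl⟩ := exists_fpt_eq y
  obtain ⟨R, hR, hl⟩ := h _ b
  obtain ⟨W', w, hw, -, -, w₀, -⟩ := exists_flat_lfp_mem_of_mem_J R hR (IsLocalRing.closedPoint K)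
  let Ω := W'.left.residueField w₀
  let ι : Spec (CommRingCat.of Ω) ⟶ W'.left := W'.left.fromSpecResidueField w₀
  let i : Over.mk (ι ≫ W'.hom) ⟶ W' := Over.homMk ι rfl
  let k : Over.mk (ι ≫ W'.hom) ⟶ Over.mk strK := i ≫ w
  rcases hl w hw with ⟨l, hl'⟩ | ⟨l, hl'⟩
  · refine Or.inl ⟨fpt ((yon S).map i ≫ l), ?_⟩
    rw [map_fpt, Category.assoc, hl', ← Category.assoc, ← Functor.map_comp]
    exact fpt_comp_eq k b
  · refine Or.inr ⟨fpt ((yon S).map i ≫ l), ?_⟩
    rw [map_fpt, Category.assoc, hl', ← Category.assoc, ← Functor.map_comp]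
    exact fpt_comp_eq k b

/-- Base-changed form of `JLS.points`. -/
theorem JLS.points_pullback {U V W : Sp S} {j : U ⟶ W} {f : V ⟶ W} (h : JLS j f)
    {T : Sp S} (ξ : T ⟶ W) (x : Points T) :
    x ∈ Set.range (Points.map (pullback.snd j ξ)) ∨
      x ∈ Set.range (Points.map (pullback.snd f ξ)) := by
  rcases h.points (Points.map ξ x) with ⟨α, hα⟩ | ⟨α, hα⟩
  · obtain ⟨z, -, hz⟩ := points_exists_of_isPullback (IsPullback.of_hasPullback j ξ) α x hα
    exact Or.inl ⟨z, hz⟩
  · obtain ⟨z, -, hz⟩ := points_exists_of_isPullback (IsPullback.of_hasPullback f ξ) α x hα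
    exact Or.inr ⟨z, hz⟩

set_option backward.isDefEq.respectTransparency.types false in
/-- If `a` is a monomorphism, `(a, b)` is jointly locally surjective and the base change of `a`
along `b` is an open immersion, then `a` is an open immersion. -/
theorem repWith_isOpenImmersion_of_JLS {A B X P : Sp S} {a : A ⟶ X} {b : B ⟶ X} [Mono a]
    (h : JLS a b) {p : P ⟶ A} {q : P ⟶ B} (sq : IsPullback p q a b)
    (hq : RepWith @IsOpenImmersion q) : RepWith @IsOpenImmersion a := by
  refine Groth.Agent.Lib.Helper24.RepLocal.repWith_of_locally @IsOpenImmersion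
    (fun X Y f hf => ⟨inferInstance, inferInstance, inferInstance⟩) a ?_
  intro T g₀ x
  obtain ⟨R, hR, hl⟩ := h T g₀
  obtain ⟨W, w, hw, hF, hL, hx⟩ := exists_flat_lfp_mem_of_mem_J R hR x
  rcases hl w hw with ⟨α, hα⟩ | ⟨β, hβ⟩
  · refine ⟨W, W, w, 𝟙 W, α, ?_, hF, hL, hx, ?_⟩
    · rw [← hα, (yon S).map_id]
      exact isPullback_of_mono' a α
    · exact inferInstanceAs (IsOpenImmersion (𝟙 W.left))
  · refine ⟨W, hq.rep.pullback β, w, hq.rep.snd β, hq.rep.fst β ≫ p, ?_, hF, hL, hx,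
      hq.property_snd β⟩
    rw [← hβ]
    exact (hq.rep.isPullback β).paste_horiz sq

/-- A sheaf covered (jointly locally surjectively) by two open subsheaves which are algebraic
spaces is an algebraic space. -/
theorem isAlgSpace_of_JLS_open {A B X : Sp S} {a : A ⟶ X} {b : B ⟶ X} (h : JLS a b)
    (hA : IsAlgSpace A) (hB : IsAlgSpace B) (ha : RepWith @IsOpenImmersion a)
    (hb : RepWith @IsOpenImmersion b) : IsAlgSpace X := by
  let Pi : ULift.{u} Bool → Sp S := fun i => cond i.down A B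
  let f : ∀ i, Pi i ⟶ X := fun i => match i with
    | ⟨true⟩ => a
    | ⟨false⟩ => b
  refine Groth.Agent.Lib.Helper24.Boot9.isAlgSpace_of_open_cover Pi f ?_ ?_ ?_
  · rintro ⟨_ | _⟩
    · exact hB
    · exact hA
  · rintro ⟨_ | _⟩
    · exact hb
    · exact ha
  · intro T y
    obtain ⟨R, hR, hl⟩ := h T y
    refine ⟨R, hR, fun W w hw => ?_⟩
    rcases hl w hw with ⟨x, hx⟩ | ⟨x, hx⟩
    · exact ⟨⟨true⟩, x, hx⟩
    · exact ⟨⟨false⟩, x, hx⟩

end Groth.Agent.Lib.Helper14.AS
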