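import Groth.Agent.Lib.Helper14.SchemeDim2
universe u
open CategoryTheory CategoryTheory.Limits AlgebraicGeometry Opposite
namespace Groth.Agent.Lib.Helper14.AS
open Groth.Agent.Lib.Helper14.AS

/-- Flat morphisms do not increase the dimension of the local ring at the image point. -/
theorem ringKrullDim_stalk_le_of_flat {W V : Scheme.{u}} (g : W ⟶ V) [Flat g] (w : ↥W) :
    ringKrullDim (V.presheaf.stalk (g w)) ≤ ringKrullDim (W.presheaf.stalk w) := by
  rw [ringKrullDim_stalk_eq_coheight, ringKrullDim_stalk_eq_coheight]
  refine WithBot.coe_le_coe.2 ?_
  refine Order.coheight_le_iff'.mpr ?_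
  intro p hp
  obtain ⟨q, hq1, hq2⟩ := exists_ltSeries_of_generalizingMap g g.continuous
    (Flat.generalizingMap g) p w hp.symm
  rw [← hq2, ← hq1]
  exact Order.length_le_coheight_head

/-- Every point of a scheme has a generization of codimension zero. -/
theorem exists_generization_codimZero {U : Scheme.{u}} (u : ↥U) :
    ∃ η : ↥U, η ⤳ u ∧ ringKrullDim (U.presheaf.stalk η) = 0 := by
  have hirr : IsIrreducible (irreducibleComponent u) := isIrreducible_irreducibleComponent
  have hcl : IsClosed (irreducibleComponent u) := isClosed_irreducibleComponent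
  obtain ⟨η, hη⟩ := QuasiSober.sober hirr hcl
  refine ⟨η, ?_, ?_⟩
  · rw [specializes_iff_mem_closure, hη.def]
    exact mem_irreducibleComponent
  · rw [ringKrullDim_stalk_eq_coheight]
    have : Order.coheight η = 0 := by
      rw [Order.coheight_eq_zero]
      intro b (hb : b ⤳ η)
      show η ⤳ b
      have hsub : irreducibleComponent u ⊆ closure {b} := by
        rw [← hη.def]
        exact closure_minimal (Set.singleton_subset_iff.2 (specializes_iff_mem_closure.1 hb))
          isClosed_closure
      have := eq_irreducibleComponent (isIrreducible_singleton.closure).isPreirreducible hsub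
      rw [specializes_iff_mem_closure, hη.def, ← this]
      exact subset_closure rfl
    rw [this]
    rfl

end Groth.Agent.Lib.Helper14.AS
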