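import Groth.Agent.Lib.Helper14.AlgSpMonoField
import Groth.Agent.Lib.Helper14.AlgSpLocP3
import Groth.Agent.Lib.Helper14.AlgSpPoints2
import Groth.Agent.Lib.Helper14.AlgSpFibre
import Groth.Agent.Lib.Helper14.SchemeFieldStalk
import Groth.Agent.Lib.Helper14.SchemeDim3
import Groth.Agent.Lib.Helper14.ReducedEtale
import Groth.Agent.Lib.Helper14.NoethDescent

open CategoryTheory CategoryTheory.Limits AlgebraicGeometry Opposite AlgSp
open CategoryTheory.Functor Groth.Agent.Lib.Helper14.AS

universe u

noncomputable section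

namespace Groth.Agent.Lib.Helper14.AS

variable {S : Scheme.{u}}

/-- An fppf morphism from a scheme to an algebraic space is an epimorphism of sheaves. -/
theorem epi_of_fppf_cover {Z : Sp S} (hZ : IsAlgSpace Z) {T : Over S} (p : (yon S).obj T ⟶ Z)
    (h1 : LocP @LocallyOfFinitePresentation p) (h2 : LocP @Flat p) (h3 : IsSurjectiveMor p) :
    Epi p := by
  have hrep : Representable p := repDiag_of_isAlgSpace hZ p
  have hl : Sheaf.IsLocallySurjective p :=
    isLocallySurjective_of_repWith p (repWith_of_locP_of_representable etLocal_flat hZ hrep h2)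
      (repWith_of_locP_of_representable etLocal_lfp hZ hrep h1)
      (repWith_surjective_of_isSurjectiveMor hrep h3)
  exact (Sheaf.isLocallySurjective_iff_epi _).1 hl

/-- A monomorphism from a nonempty algebraic space into a space with an fppf cover by the
spectrum of a field is an isomorphism. -/
theorem isIso_of_mono_of_fppf_field_cover {Z' Z : Sp S} (hZ' : IsAlgSpace Z') (hZ : IsAlgSpace Z)
    (f : Z' ⟶ Z) [Mono f] {k : Type u} [Field k] (str : Spec (CommRingCat.of k) ⟶ S)
    (p : (yon S).obj (Over.mk str) ⟶ Z) (h1 : LocP @LocallyOfFinitePresentation p)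
    (h2 : LocP @Flat p) (h3 : IsSurjectiveMor p) (hne : Nonempty (Points Z')) : IsIso f := by
  have hepi : Epi p := epi_of_fppf_cover hZ p h1 h2 h3
  have sq : IsPullback (pullback.fst f p) (pullback.snd f p) f p := IsPullback.of_hasPullback f p
  have hP : IsAlgSpace (pullback f p) :=
    isAlgSpace_of_isPullback (repDiag_of_isAlgSpace hZ) hZ' (IsAlgSpace.yon_obj _) sq
  have hneP : Nonempty (Points (pullback f p)) := by
    obtain ⟨z'⟩ := hne
    obtain ⟨y, hy⟩ := h3 (Points.map f z')
    obtain ⟨w, -, -⟩ := points_exists_of_isPullback sq z' y hy.symm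
    exact ⟨w⟩
  have : Mono (pullback.snd f p) := inferInstance
  have hiso : IsIso (pullback.snd f p) := isIso_of_mono_to_field_sp str hP _ hneP
  have hfac : (inv (pullback.snd f p) ≫ pullback.fst f p) ≫ f = p := by
    rw [Category.assoc, sq.w, IsIso.inv_hom_id_assoc]
  have : Epi ((inv (pullback.snd f p) ≫ pullback.fst f p) ≫ f) := by rw [hfac]; exact hepi
  have : Epi f := epi_of_epi (inv (pullback.snd f p) ≫ pullback.fst f p) f
  exact isIso_of_mono_of_epi f


/-- Two monomorphisms into `X` with the same one-point image, whose sources have fppf covers by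
spectra of fields, are isomorphic over `X`. -/
theorem exists_iso_of_mono_one_point {X Z Z' : Sp S} (hX : IsAlgSpace X) (hZ : IsAlgSpace Z)
    (hZ' : IsAlgSpace Z') (i : Z ⟶ X) (i' : Z' ⟶ X) [Mono i] [Mono i'] (x : Points X)
    (hi : Set.range (Points.map i) = {x}) (hi' : Set.range (Points.map i') = {x})
    {k : Type u} [Field k] (str : Spec (CommRingCat.of k) ⟶ S)
    (p : (yon S).obj (Over.mk str) ⟶ Z) (h1 : LocP @LocallyOfFinitePresentation p)
    (h2 : LocP @Flat p) (h3 : IsSurjectiveMor p)
    {k' : Type u} [Field k'] (str' : Spec (CommRingCat.of k') ⟶ S)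
    (p' : (yon S).obj (Over.mk str') ⟶ Z') (h1' : LocP @LocallyOfFinitePresentation p')
    (h2' : LocP @Flat p') (h3' : IsSurjectiveMor p') :
    ∃ e : Z' ≅ Z, e.hom ≫ i = i' := by
  have sq : IsPullback (pullback.fst i i') (pullback.snd i i') i i' := IsPullback.of_hasPullback i i'
  have hP : IsAlgSpace (pullback i i') :=
    isAlgSpace_of_isPullback (repDiag_of_isAlgSpace hX) hZ hZ' sq
  have hne : Nonempty (Points (pullback i i')) := by
    obtain ⟨z, hz⟩ : x ∈ Set.range (Points.map i) := by rw [hi]; rfl
    obtain ⟨z', hz'⟩ : x ∈ Set.range (Points.map i') := by rw [hi']; rfl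
    obtain ⟨w, -, -⟩ := points_exists_of_isPullback sq z z' (hz.trans hz'.symm)
    exact ⟨w⟩
  have : Mono (pullback.fst i i') := inferInstance
  have : Mono (pullback.snd i i') := inferInstance
  have hf : IsIso (pullback.fst i i') :=
    isIso_of_mono_of_fppf_field_cover hP hZ _ str p h1 h2 h3 hne
  have hs : IsIso (pullback.snd i i') :=
    isIso_of_mono_of_fppf_field_cover hP hZ' _ str' p' h1' h2' h3' hne
  refine ⟨(asIso (pullback.snd i i')).symm ≪≫ asIso (pullback.fst i i'), ?_⟩
  simp only [Iso.trans_hom, Iso.symm_hom, asIso_inv, asIso_hom, Category.assoc]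
  rw [sq.w, IsIso.inv_hom_id_assoc]


/-- If `Z` has a flat surjective morphism from the spectrum of a field, then all local rings of
schemes etale over `Z` are fields. -/
theorem isField_stalk_of_flat_field_cover {Z : Sp S} {k : Type u} [Field k]
    (str : Spec (CommRingCat.of k) ⟶ S) (p : (yon S).obj (Over.mk str) ⟶ Z)
    (hpf : LocP @Flat p) (hps : IsSurjectiveMor p) {V : Over S} (b : (yon S).obj V ⟶ Z)
    (hb : RepWith @Etale b) (v : ↥V.left) : IsField (V.left.presheaf.stalk v) := by
  have sq := hb.rep.isPullback' p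
  have hsnd : Etale (hb.rep.snd p).left := hb.property_snd p
  have hfst : Flat (hb.rep.fst' p).left :=
    hpf ((yon S).map (hb.rep.snd p)) b (hb.rep.fst' p)
      ((repWith_yon_map_iff _ _).2 hsnd) hb sq.w.symm
  obtain ⟨y, hy⟩ := hps (Points.ofPt b v)
  obtain ⟨t, rfl⟩ := (Points.schemeHomeo (Over.mk str)).surjective y
  have e : Points.ofPt b v = Points.ofPt p t := by
    rw [Points.ofPt_eq_map_ofScheme p t]; exact hy.symm
  obtain ⟨w, hw1, hw2⟩ := exists_point_of_isPullback_yon sq v t e
  have h1 : IsField ((hb.rep.pullback p).left.presheaf.stalk w) :=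
    isField_stalk_of_unramified (hb.rep.snd p).left w (isField_stalk_Spec_field k _)
  have h2 := isField_stalk_of_flat (hb.rep.fst' p).left w h1
  rwa [hw1] at h2


theorem subsingleton_points_yon_field {k : Type u} [Field k] (str : Spec (CommRingCat.of k) ⟶ S) :
    Subsingleton (Points ((yon S).obj (Over.mk str))) := by
  have : Subsingleton ↥(Over.mk str).left :=
    inferInstanceAs (Subsingleton ↥(Spec (CommRingCat.of k)))
  exact (Points.schemeHomeo (Over.mk str)).symm.injective.subsingleton

theorem nonempty_points_yon_field {k : Type u} [Field k] (str : Spec (CommRingCat.of k) ⟶ S) :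
    Nonempty (Points ((yon S).obj (Over.mk str))) := by
  have : Nonempty ↥(Over.mk str).left :=
    inferInstanceAs (Nonempty ↥(Spec (CommRingCat.of k)))
  exact ⟨Points.schemeHomeo (Over.mk str) (Classical.arbitrary _)⟩

/-- A sheaf with a surjective morphism from the spectrum of a field has a single point. -/
theorem subsingleton_points_of_field_cover {Z : Sp S} {k : Type u} [Field k]
    (str : Spec (CommRingCat.of k) ⟶ S) (p : (yon S).obj (Over.mk str) ⟶ Z)
    (hps : IsSurjectiveMor p) : Subsingleton (Points Z) := by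
  have := subsingleton_points_yon_field str
  exact hps.subsingleton

/-- Any morphism from the spectrum of a field to a one-point sheaf is surjective. -/
theorem isSurjectiveMor_of_subsingleton {Z : Sp S} (hZ : Subsingleton (Points Z))
    {k : Type u} [Field k] (str : Spec (CommRingCat.of k) ⟶ S)
    (q : (yon S).obj (Over.mk str) ⟶ Z) : IsSurjectiveMor q := by
  intro z
  obtain ⟨y⟩ := nonempty_points_yon_field str
  exact ⟨y, Subsingleton.elim _ _⟩

/-- Any morphism to a sheaf with a flat surjective morphism from the spectrum of a field is flat,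
when the source is a scheme. -/
theorem locP_flat_of_flat_field_cover {Z : Sp S} {k : Type u} [Field k]
    (str : Spec (CommRingCat.of k) ⟶ S) (p : (yon S).obj (Over.mk str) ⟶ Z)
    (hpf : LocP @Flat p) (hps : IsSurjectiveMor p) {X : Sp S} (q : X ⟶ Z) : LocP @Flat q := by
  intro U V a b h ha hb comm
  exact flat_of_isField_stalk h.left
    (fun x => isField_stalk_of_flat_field_cover str p hpf hps b hb _)


set_option backward.isDefEq.respectTransparency.types false in
/-- (2) ⇒ (3): a flat surjective morphism from the spectrum of a field can be chosen locally of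
finite type. -/
theorem exists_lft_flat_field_cover {Z : Sp S} (hZ : IsAlgSpace Z) {k : Type u} [Field k]
    (str : Spec (CommRingCat.of k) ⟶ S) (p : (yon S).obj (Over.mk str) ⟶ Z)
    (hpf : LocP @Flat p) (hps : IsSurjectiveMor p) :
    ∃ (k' : Type u) (_ : Field k') (str' : Spec (CommRingCat.of k') ⟶ S)
      (q : (yon S).obj (Over.mk str') ⟶ Z),
      LocP @LocallyOfFiniteType q ∧ LocP @Flat q ∧ IsSurjectiveMor q := by
  obtain ⟨V, b, hbe, hbs⟩ := hZ.atlas
  obtain ⟨y⟩ := nonempty_points_yon_field str
  obtain ⟨v, -⟩ := ofPt_surjective_of_repWith hbs (Points.map p y)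
  have hF : ∀ v : ↥V.left, IsField (V.left.presheaf.stalk v) := fun v =>
    isField_stalk_of_flat_field_cover str p hpf hps b hbe v
  have hcl : IsClosed ({v} : Set ↥V.left) := isClosed_singleton_of_isField_stalk hF v
  have hci : IsClosedImmersion (V.left.fromSpecResidueField v) :=
    isClosed_singleton_iff_isClosedImmersion.1 hcl
  let g₀ : Spec (V.left.residueField v) ⟶ V.left := V.left.fromSpecResidueField v
  have hg₀ : LocallyOfFiniteType g₀ := inferInstance
  let g : Over.mk (g₀ ≫ V.hom) ⟶ V := Over.homMk g₀ rfl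
  refine ⟨↑(V.left.residueField v), inferInstance, g₀ ≫ V.hom, (yon S).map g ≫ b, ?_, ?_, ?_⟩
  · refine locP_of_repWith etale_le_lft (repWith_comp _ ?_ (repWith_mono etale_le_lft hbe))
    rw [repWith_yon_map_iff]
    exact hg₀
  · exact locP_flat_of_flat_field_cover str p hpf hps _
  · exact isSurjectiveMor_of_subsingleton (subsingleton_points_of_field_cover str p hps) _ _


/-- A scheme all of whose local rings are fields is reduced. -/
theorem isReduced_of_isField_stalk {V : Scheme.{u}}
    (hV : ∀ v : ↥V, IsField (V.presheaf.stalk v)) : IsReduced V := by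
  apply +allowSynthFailures isReduced_of_isReduced_stalk
  intro v
  let _ := (hV v).toField
  infer_instance

/-- (2) ⇒ (1). -/
theorem reduced_one_point_of_flat_field_cover {Z : Sp S} (hZ : IsAlgSpace Z) {k : Type u}
    [Field k] (str : Spec (CommRingCat.of k) ⟶ S) (p : (yon S).obj (Over.mk str) ⟶ Z)
    (hpf : LocP @Flat p) (hps : IsSurjectiveMor p) :
    EtaleLocally (fun U => IsReduced U) Z ∧ Nonempty (Points Z) ∧ Subsingleton (Points Z) := by
  obtain ⟨V, b, hbe, hbs⟩ := hZ.atlas
  refine ⟨⟨V, b, hbe, hbs, isReduced_of_isField_stalk fun v =>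
    isField_stalk_of_flat_field_cover str p hpf hps b hbe v⟩, ?_,
    subsingleton_points_of_field_cover str p hps⟩
  obtain ⟨y⟩ := nonempty_points_yon_field str
  exact ⟨Points.map p y⟩

set_option backward.isDefEq.respectTransparency.types false in
/-- (1) ⇒ (2), in the form: a point of a reduced etale chart whose local ring is a field gives
a flat morphism. -/
theorem exists_flat_field_cover_of_reduced {Z : Sp S}
    (hred : EtaleLocally (fun U => IsReduced U) Z) (hne : Nonempty (Points Z))
    (hsub : Subsingleton (Points Z)) :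
    ∃ (k : Type u) (_ : Field k) (str : Spec (CommRingCat.of k) ⟶ S)
      (p : (yon S).obj (Over.mk str) ⟶ Z), LocP @Flat p ∧ IsSurjectiveMor p := by
  obtain ⟨V, b, hbe, hbs, hV⟩ := hred
  obtain ⟨z⟩ := hne
  obtain ⟨v, -⟩ := ofPt_surjective_of_repWith hbs z
  obtain ⟨η, -, hη⟩ := exists_generization_codimZero v
  have : IsReduced V.left := hV
  have hfield : IsField (V.left.presheaf.stalk η) := by
    have : Ring.KrullDimLE 0 (V.left.presheaf.stalk η) := by
      rw [Ring.krullDimLE_iff, hη]; rfl
    exact Ring.KrullDimLE.isField_of_isReduced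
  let g₀ : Spec (V.left.residueField η) ⟶ V.left := V.left.fromSpecResidueField η
  have hg₀ : Flat g₀ := flat_of_isField_stalk g₀ (fun x => by
    rw [Scheme.fromSpecResidueField_apply]; exact hfield)
  let g : Over.mk (g₀ ≫ V.hom) ⟶ V := Over.homMk g₀ rfl
  refine ⟨↑(V.left.residueField η), inferInstance, g₀ ≫ V.hom, (yon S).map g ≫ b, ?_, ?_⟩
  · refine locP_of_repWith etale_le_flat (repWith_comp _ ?_ (repWith_mono etale_le_flat hbe))
    rw [repWith_yon_map_iff]
    exact hg₀
  · exact isSurjectiveMor_of_subsingleton hsub _ _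


/-- Reducedness of etale charts does not depend on the chart. -/
theorem isReduced_of_etale_chart {Z : Sp S} (hred : EtaleLocally (fun U => IsReduced U) Z)
    {V : Over S} (b : (yon S).obj V ⟶ Z) (hb : RepWith @Etale b) : IsReduced V.left := by
  obtain ⟨V₁, b₁, hb₁e, hb₁s, hV₁⟩ := hred
  have sq := hb₁e.rep.isPullback' b
  have hsnd : Etale (hb₁e.rep.snd b).left := hb₁e.property_snd b
  have hsnds : Surjective (hb₁e.rep.snd b).left := hb₁s.property _ _ _ sq
  have hfst : Etale (hb₁e.rep.fst' b).left := by
    have : RepWith @Etale ((yon S).map (hb₁e.rep.fst' b)) :=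
      repWith_of_isPullback _ sq.flip hb
    exact (repWith_yon_map_iff _ _).1 this
  have : IsReduced V₁.left := hV₁
  have : IsReduced (hb₁e.rep.pullback b).left :=
    Groth.Agent.Lib.Helper14.isReduced_of_etale_scheme (hb₁e.rep.fst' b).left
  exact Groth.Agent.Lib.Helper14.isReduced_of_flat_surjective (hb₁e.rep.snd b).left

/-- Locally Noetherian descends to a sheaf with an fppf cover by the spectrum of a field. -/
theorem isLocNoethSp_of_fppf_field_cover {Z : Sp S} (hZ : IsAlgSpace Z) {k : Type u}
    [Field k] (str : Spec (CommRingCat.of k) ⟶ S) (p : (yon S).obj (Over.mk str) ⟶ Z)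
    (hpp : LocP @LocallyOfFinitePresentation p) (hpf : LocP @Flat p) (hps : IsSurjectiveMor p) :
    IsLocNoethSp Z := by
  obtain ⟨V, b, hbe, hbs⟩ := hZ.atlas
  refine ⟨V, b, hbe, hbs, ?_⟩
  have sq := hbe.rep.isPullback' p
  have hsnd : Etale (hbe.rep.snd p).left := hbe.property_snd p
  have hfst : Flat (hbe.rep.fst' p).left :=
    hpf ((yon S).map (hbe.rep.snd p)) b (hbe.rep.fst' p)
      ((repWith_yon_map_iff _ _).2 hsnd) hbe sq.w.symm
  have hfst2 : LocallyOfFinitePresentation (hbe.rep.fst' p).left :=
    hpp ((yon S).map (hbe.rep.snd p)) b (hbe.rep.fst' p)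
      ((repWith_yon_map_iff _ _).2 hsnd) hbe sq.w.symm
  have hfst3 : Surjective (hbe.rep.fst' p).left := by
    refine ⟨fun v => ?_⟩
    obtain ⟨y, hy⟩ := hps (Points.ofPt b v)
    obtain ⟨t, rfl⟩ := (Points.schemeHomeo (Over.mk str)).surjective y
    have e : Points.ofPt b v = Points.ofPt p t := by
      rw [Points.ofPt_eq_map_ofScheme p t]; exact hy.symm
    obtain ⟨w, hw1, hw2⟩ := exists_point_of_isPullback_yon sq v t e
    exact ⟨w, hw1⟩
  have : IsLocallyNoetherian (Spec (CommRingCat.of k)) := inferInstance
  have : IsLocallyNoetherian (hbe.rep.pullback p).left :=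
    LocallyOfFiniteType.isLocallyNoetherian (Y := Spec (CommRingCat.of k)) (hbe.rep.snd p).left
  exact isLocallyNoetherian_of_flat_surjective (hbe.rep.fst' p).left


set_option backward.isDefEq.respectTransparency.types false in
/-- A reduced, locally Noetherian, one-point algebraic space has an fppf cover by the spectrum
of a field. -/
theorem exists_fppf_field_cover_of_reduced_noeth {Z : Sp S}
    (hred : EtaleLocally (fun U => IsReduced U) Z) (hnoeth : IsLocNoethSp Z)
    (hne : Nonempty (Points Z)) (hsub : Subsingleton (Points Z)) :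
    ∃ (k : Type u) (_ : Field k) (str : Spec (CommRingCat.of k) ⟶ S)
      (p : (yon S).obj (Over.mk str) ⟶ Z),
      LocP @LocallyOfFinitePresentation p ∧ LocP @Flat p ∧ IsSurjectiveMor p := by
  obtain ⟨k₀, _, str₀, p₀, hp₀f, hp₀s⟩ := exists_flat_field_cover_of_reduced hred hne hsub
  obtain ⟨V, b, hbe, hbs, hV⟩ := hnoeth
  obtain ⟨z⟩ := hne
  obtain ⟨v, -⟩ := ofPt_surjective_of_repWith hbs z
  have hF : ∀ v : ↥V.left, IsField (V.left.presheaf.stalk v) := fun v =>
    isField_stalk_of_flat_field_cover str₀ p₀ hp₀f hp₀s b hbe v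
  have hcl : IsClosed ({v} : Set ↥V.left) := isClosed_singleton_of_isField_stalk hF v
  have hci : IsClosedImmersion (V.left.fromSpecResidueField v) :=
    isClosed_singleton_iff_isClosedImmersion.1 hcl
  let g₀ : Spec (V.left.residueField v) ⟶ V.left := V.left.fromSpecResidueField v
  have : IsLocallyNoetherian V.left := hV
  have hg₀ : LocallyOfFiniteType g₀ := inferInstance
  have hg₀' : LocallyOfFinitePresentation g₀ := inferInstance
  let g : Over.mk (g₀ ≫ V.hom) ⟶ V := Over.homMk g₀ rfl
  refine ⟨↑(V.left.residueField v), inferInstance, g₀ ≫ V.hom, (yon S).map g ≫ b, ?_, ?_, ?_⟩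
  · refine locP_of_repWith etale_le_lfp (repWith_comp _ ?_ (repWith_mono etale_le_lfp hbe))
    rw [repWith_yon_map_iff]
    exact hg₀'
  · exact locP_flat_of_flat_field_cover str₀ p₀ hp₀f hp₀s _
  · exact isSurjectiveMor_of_subsingleton hsub _ _

end Groth.Agent.Lib.Helper14.AS
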