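import Mathlib
import Groth.Agent.Lib.Helper18.FlG

set_option autoImplicit false
set_option linter.unusedSectionVars false
set_option linter.style.haveILetI false
universe u
open TensorProduct Function MvPolynomial CategoryTheory

namespace Groth.Agent.Lib.Helper14.AS
open Groth.Agent.Lib.Helper18.Fl


/-- localizing a module over `S` at a prime of `S` or at its preimage under a surjection `P → S`
gives the same thing, as far as `R`-flatness is concerned (extracted from helper18's FlF). -/
theorem flat_localizedModule_comap_iff {R P S M : Type u} [CommRing R] [CommRing P] [CommRing S]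
    [Algebra R P] [Algebra R S] [Algebra P S] [IsScalarTower R P S] [AddCommGroup M] [Module R M]
    [Module P M] [Module S M] [IsScalarTower R P M] [IsScalarTower P S M] [IsScalarTower R S M]
    (hsurj : Surjective (algebraMap P S)) (q : Ideal S) [q.IsPrime] :
    Module.Flat R (LocalizedModule q.primeCompl M) ↔
      Module.Flat R (LocalizedModule (q.comap (algebraMap P S)).primeCompl M) := by
  have hsub : Algebra.algebraMapSubmonoid S (q.comap (algebraMap P S)).primeCompl =
      q.primeCompl := by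
    ext x
    constructor
    · rintro ⟨y, hy, rfl⟩
      exact hy
    · intro hx
      obtain ⟨y, rfl⟩ := hsurj x
      exact ⟨y, hx, rfl⟩
  haveI : IsLocalizedModule (Algebra.algebraMapSubmonoid S
      (q.comap (algebraMap P S)).primeCompl)
      (LocalizedModule.mkLinearMap q.primeCompl M) := by
    rw [hsub]; infer_instance
  haveI : IsLocalizedModule (q.comap (algebraMap P S)).primeCompl
      ((LocalizedModule.mkLinearMap q.primeCompl M).restrictScalars P) :=
    IsLocalizedModule.restrictScalars _ _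
  have e' := IsLocalizedModule.iso (q.comap (algebraMap P S)).primeCompl
    ((LocalizedModule.mkLinearMap q.primeCompl M).restrictScalars P)
  exact ⟨fun h => Module.Flat.of_linearEquiv (e'.restrictScalars R),
    fun h => Module.Flat.of_linearEquiv (e'.restrictScalars R).symm⟩

/-- flatness of localized modules transfers along a linear equivalence -/
theorem flat_localizedModule_congr {R P M N : Type u} [CommRing R] [CommRing P] [Algebra R P]
    [AddCommGroup M] [Module R M] [Module P M] [IsScalarTower R P M]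
    [AddCommGroup N] [Module R N] [Module P N] [IsScalarTower R P N]
    (e : M ≃ₗ[P] N) (T : Submonoid P) :
    Module.Flat R (LocalizedModule T M) ↔ Module.Flat R (LocalizedModule T N) := by
  haveI : IsLocalizedModule T ((LocalizedModule.mkLinearMap T N) ∘ₗ e.toLinearMap) := inferInstance
  have e' := IsLocalizedModule.iso T ((LocalizedModule.mkLinearMap T N) ∘ₗ e.toLinearMap)
  exact ⟨fun h => Module.Flat.of_linearEquiv (e'.restrictScalars R).symm,
    fun h => Module.Flat.of_linearEquiv (e'.restrictScalars R)⟩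

/-- a surjective algebra with prescribed kernel: flatness at a prime in quotient form -/
theorem flat_localizedModule_quot_of_surjective {R B : Type u} [CommRing R] [CommRing B]
    [Algebra R B] {ι : Type} (π : MvPolynomial ι R →ₐ[R] B) (hπ : Surjective π)
    (I : Ideal (MvPolynomial ι R)) (hI : I = RingHom.ker π) (q : Ideal B) [q.IsPrime]
    (hfl : Module.Flat R (LocalizedModule q.primeCompl B)) :
    Module.Flat R (LocalizedModule (q.comap π).primeCompl (MvPolynomial ι R ⧸ I)) := by
  letI : Algebra (MvPolynomial ι R) B := π.toRingHom.toAlgebra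
  haveI : IsScalarTower R (MvPolynomial ι R) B :=
    IsScalarTower.of_algebraMap_eq (fun x => (π.commutes x).symm)
  have h1 := (flat_localizedModule_comap_iff (R := R) (P := MvPolynomial ι R) (S := B) (M := B)
    hπ q).1 hfl
  have hker : I = LinearMap.ker (Algebra.linearMap (MvPolynomial ι R) B) := by
    rw [hI]; ext x; rfl
  let e : (MvPolynomial ι R ⧸ I) ≃ₗ[MvPolynomial ι R] B :=
    (Submodule.quotEquivOfEq I _ hker).trans
      (LinearMap.quotKerEquivOfSurjective (Algebra.linearMap (MvPolynomial ι R) B) hπ)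
  exact (flat_localizedModule_congr e _).2 h1

/-- `P^1 / span (g_i)` is `P / (g_i)` -/
noncomputable def funUniqueQuotEquiv {P : Type u} [CommRing P] {m : ℕ} (rel : Fin m → P) :
    ((Fin 1 → P) ⧸ Submodule.span P (Set.range (fun i (_ : Fin 1) => rel i))) ≃ₗ[P]
      (P ⧸ Ideal.span (Set.range rel)) :=
  Submodule.Quotient.equiv _ _ (LinearEquiv.funUnique (Fin 1) P P) (by
    rw [Submodule.map_span, ← Set.range_comp]
    rfl)

variable {R : Type u} [CommRing R] {ι : Type} [Finite ι] {m : ℕ}

set_option synthInstance.maxHeartbeats 400000 in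
set_option maxHeartbeats 1000000 in
theorem exists_flat_level_quot (rel : Fin m → MvPolynomial ι R) (T : Set R) (hT : T.Finite)
    (q : Ideal (MvPolynomial ι R)) [q.IsPrime]
    (hflat : Module.Flat R (LocalizedModule q.primeCompl
      (MvPolynomial ι R ⧸ Ideal.span (Set.range rel)))) :
    ∃ (S₁ : Subalgebra ℤ R) (rel₁ : Fin m → MvPolynomial ι S₁), S₁.FG ∧ T ⊆ S₁ ∧
      (∀ i, MvPolynomial.map (inc S₁) (rel₁ i) = rel i) ∧
      Module.Flat S₁ (LocalizedModule (q.comap (MvPolynomial.map (inc S₁))).primeCompl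
        (MvPolynomial ι S₁ ⧸ Ideal.span (Set.range rel₁))) := by
  classical
  obtain ⟨T', hT'def⟩ : ∃ T' : Set R, T' = T ∪ ⋃ i, ((rel i).coeffs : Set R) := ⟨_, rfl⟩
  have hT' : T'.Finite := by
    rw [hT'def]
    exact hT.union (Set.finite_iUnion fun i => Finset.finite_toSet _)
  obtain ⟨S₀, hS₀def⟩ : ∃ S₀ : Subalgebra ℤ R, S₀ = Algebra.adjoin ℤ T' := ⟨_, rfl⟩
  have hS₀ : S₀.FG := by rw [hS₀def]; exact Subalgebra.fg_def.2 ⟨T', hT', rfl⟩
  have hTS₀ : T ⊆ S₀ := fun x hx => by
    rw [hS₀def]; exact Algebra.subset_adjoin (by rw [hT'def]; exact Or.inl hx)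
  have hgT : ∀ i, ((rel i).coeffs : Set R) ⊆ S₀ := fun i x hx => by
    rw [hS₀def]
    exact Algebra.subset_adjoin (by rw [hT'def]; exact Or.inr (Set.mem_iUnion.mpr ⟨i, hx⟩))
  choose rel₀ hrel₀ using fun i => exists_map_eq_of_coeffs_subset S₀ (rel i) (hgT i)
  let g : Fin m → Fin 1 → MvPolynomial ι R := fun i _ => rel i
  let g₀ : Fin m → Fin 1 → MvPolynomial ι S₀ := fun i _ => rel₀ i
  have hg₀ : ∀ i, mapVec (inc S₀) (g₀ i) = g i := fun i => funext fun k => hrel₀ i
  have hflat' : Module.Flat R (LocalizedModule q.primeCompl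
      ((Fin 1 → MvPolynomial ι R) ⧸ Kspan g)) :=
    (flat_localizedModule_congr (funUniqueQuotEquiv rel) q.primeCompl).2 hflat
  obtain ⟨S₁, h01, hS₁, hfl⟩ := exists_flat_level g S₀ hS₀ g₀ hg₀ q hflat'
  refine ⟨S₁, fun i => MvPolynomial.map (incl h01) (rel₀ i), hS₁, hTS₀.trans h01, ?_, ?_⟩
  · intro i
    rw [MvPolynomial.map_map, inc_comp_incl, hrel₀]
  · have hfl' : Module.Flat S₁ (LocalizedModule
        (q.comap (MvPolynomial.map (inc S₁))).primeCompl ((Fin 1 → MvPolynomial ι S₁) ⧸
          Submodule.span (MvPolynomial ι S₁)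
            (Set.range (fun i (_ : Fin 1) => MvPolynomial.map (incl h01) (rel₀ i))))) := hfl
    exact (flat_localizedModule_congr
      (funUniqueQuotEquiv (fun i => MvPolynomial.map (incl h01) (rel₀ i))) _).1 hfl'


variable {R₀ A₀ B₀ : Type u} [CommRing R₀] [CommRing A₀] [CommRing B₀] [Algebra R₀ A₀] [Algebra A₀ B₀]
    [Algebra R₀ B₀] [IsScalarTower R₀ A₀ B₀]

theorem isPushout_model {R S : Type u} [CommRing R] [CommRing S] [Algebra R S] {ι σ : Type}
    (P : Algebra.Presentation R S ι σ) (Λ : Subalgebra ℤ R) [P.HasCoeffs Λ] :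
    ∃ β : P.ModelOfHasCoeffs Λ →+* S,
      (∀ x : MvPolynomial ι Λ, β (Ideal.Quotient.mk _ x) = aeval P.val x) ∧
      IsPushout (CommRingCat.ofHom (algebraMap Λ R))
        (CommRingCat.ofHom (algebraMap Λ (P.ModelOfHasCoeffs Λ)))
        (CommRingCat.ofHom (algebraMap R S)) (CommRingCat.ofHom β) := by
  let e := P.tensorModelOfHasCoeffsEquiv Λ
  refine ⟨(e : _ →+* S).comp (Algebra.TensorProduct.includeRight (R := Λ) (A := R)
    (B := P.ModelOfHasCoeffs Λ)).toRingHom, ?_, ?_⟩
  · intro x
    simp [e]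
  · refine (CommRingCat.isPushout_tensorProduct Λ R (P.ModelOfHasCoeffs Λ)).of_iso (Iso.refl _)
      (Iso.refl _) (Iso.refl _) e.toRingEquiv.toCommRingCatIso ?_ ?_ ?_ ?_
    · simp
    · simp
    · ext x
      simp only [Iso.refl_hom, CommRingCat.hom_comp, CommRingCat.hom_ofHom, RingHom.coe_comp,
        Function.comp_apply, Category.id_comp]
      exact e.commutes x
    · rw [Iso.refl_hom, Category.id_comp]
      rfl

theorem exists_model_map {ιA σA ιB σB : Type} [Finite ιA] [Finite σA] [Finite ιB] [Finite σB]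
    (PA : Algebra.Presentation R₀ A₀ ιA σA)
    (PB : Algebra.Presentation A₀ B₀ ιB σB)
    (Λ : Subalgebra ℤ R₀) [hA : PA.HasCoeffs Λ] [hQ : (PB.comp PA).HasCoeffs Λ]
    (α : PA.ModelOfHasCoeffs Λ →+* A₀)
    (hα : ∀ x : MvPolynomial ιA Λ, α (Ideal.Quotient.mk _ x) = aeval PA.val x)
    (β : (PB.comp PA).ModelOfHasCoeffs Λ →+* B₀)
    (hβ : ∀ x : MvPolynomial (ιB ⊕ ιA) Λ, β (Ideal.Quotient.mk _ x) = aeval (PB.comp PA).val x) :
    ∃ (g₁ : PA.ModelOfHasCoeffs Λ →+* (PB.comp PA).ModelOfHasCoeffs Λ),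
      g₁.comp (algebraMap Λ (PA.ModelOfHasCoeffs Λ)) =
        algebraMap Λ ((PB.comp PA).ModelOfHasCoeffs Λ) ∧
      β.comp g₁ = (algebraMap A₀ B₀).comp α ∧ g₁.FiniteType := by
  have hinj : Function.Injective (MvPolynomial.map (σ := ιB ⊕ ιA) (algebraMap Λ R₀)) :=
    MvPolynomial.map_injective _ Subtype.val_injective
  have hrel : ∀ r : σA, rename Sum.inr (PA.relationOfHasCoeffs Λ r) =
      (PB.comp PA).relationOfHasCoeffs Λ (Sum.inr r) := by
    intro r
    apply hinj
    rw [MvPolynomial.map_rename, Algebra.Presentation.map_relationOfHasCoeffs,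
      Algebra.Presentation.map_relationOfHasCoeffs, Algebra.Presentation.comp_relation_inr]
  let g₁ : PA.ModelOfHasCoeffs Λ →+* (PB.comp PA).ModelOfHasCoeffs Λ :=
    Ideal.Quotient.lift _ ((Ideal.Quotient.mk _).comp
      (rename (R := Λ) (Sum.inr : ιA → ιB ⊕ ιA)).toRingHom) (by
      intro a ha
      have : Ideal.span (Set.range (PA.relationOfHasCoeffs Λ)) ≤
          RingHom.ker ((Ideal.Quotient.mk (Ideal.span
            (Set.range ((PB.comp PA).relationOfHasCoeffs Λ)))).comp
            (rename (R := Λ) (Sum.inr : ιA → ιB ⊕ ιA)).toRingHom) := by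
        rw [Ideal.span_le]
        rintro _ ⟨r, rfl⟩
        rw [SetLike.mem_coe, RingHom.mem_ker, RingHom.comp_apply]
        change Ideal.Quotient.mk _ (rename Sum.inr (PA.relationOfHasCoeffs Λ r)) = 0
        rw [hrel, Ideal.Quotient.eq_zero_iff_mem]
        exact Ideal.subset_span ⟨_, rfl⟩
      exact this ha)
  refine ⟨g₁, ?_, ?_, ?_⟩
  · ext x
    change g₁ (Ideal.Quotient.mk _ (C x)) = Ideal.Quotient.mk _ (C x)
    simp only [g₁, Ideal.Quotient.lift_mk, RingHom.comp_apply, AlgHom.toRingHom_eq_coe,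
      RingHom.coe_coe, rename_C]
  · apply Ideal.Quotient.ringHom_ext
    apply MvPolynomial.ringHom_ext
    · intro a
      simp only [RingHom.comp_apply, g₁, Ideal.Quotient.lift_mk, AlgHom.toRingHom_eq_coe,
        RingHom.coe_coe, rename_C, hα, hβ, aeval_C]
      exact IsScalarTower.algebraMap_apply R₀ A₀ B₀ (a : R₀)
    · intro i
      simp only [RingHom.comp_apply, g₁, Ideal.Quotient.lift_mk, AlgHom.toRingHom_eq_coe,
        RingHom.coe_coe, rename_X, hα, hβ, aeval_X]
      exact Algebra.Generators.comp_val _ _ _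
  · have h1 : (algebraMap Λ ((PB.comp PA).ModelOfHasCoeffs Λ)).FiniteType := by
      rw [RingHom.finiteType_algebraMap]
      infer_instance
    have h2 : (g₁.comp (algebraMap Λ (PA.ModelOfHasCoeffs Λ))).FiniteType := by
      have : g₁.comp (algebraMap Λ (PA.ModelOfHasCoeffs Λ)) =
          algebraMap Λ ((PB.comp PA).ModelOfHasCoeffs Λ) := by
        ext x
        change g₁ (Ideal.Quotient.mk _ (C x)) = Ideal.Quotient.mk _ (C x)
        simp only [g₁, Ideal.Quotient.lift_mk, RingHom.comp_apply, AlgHom.toRingHom_eq_coe,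
          RingHom.coe_coe, rename_C]
      rw [this]; exact h1
    exact RingHom.FiniteType.of_comp_finiteType h2


set_option synthInstance.maxHeartbeats 400000 in
set_option maxHeartbeats 1000000 in
theorem exists_noeth_model
    [Algebra.FinitePresentation R₀ A₀] [Algebra.FinitePresentation R₀ B₀]
    (q : Ideal B₀) [q.IsPrime] (hfl : Module.Flat R₀ (LocalizedModule q.primeCompl B₀)) :
    ∃ (Λ A₁ B₁ : Type u) (_ : CommRing Λ) (_ : CommRing A₁) (_ : CommRing B₁)
      (ρ : Λ →+* R₀) (α : A₁ →+* A₀) (β : B₁ →+* B₀) (f₁ : Λ →+* A₁) (g₁ : A₁ →+* B₁),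
      IsNoetherianRing Λ ∧ f₁.FiniteType ∧ g₁.FiniteType ∧
      IsPushout (CommRingCat.ofHom ρ) (CommRingCat.ofHom f₁)
        (CommRingCat.ofHom (algebraMap R₀ A₀)) (CommRingCat.ofHom α) ∧
      IsPushout (CommRingCat.ofHom ρ) (CommRingCat.ofHom (g₁.comp f₁))
        (CommRingCat.ofHom (algebraMap R₀ B₀)) (CommRingCat.ofHom β) ∧
      β.comp g₁ = (algebraMap A₀ B₀).comp α ∧
      (Localization.localRingHom ((q.comap β).comap (g₁.comp f₁)) (q.comap β)
        (g₁.comp f₁) rfl).Flat := by
  classical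
  haveI : Algebra.FinitePresentation A₀ B₀ :=
    Algebra.FinitePresentation.of_restrict_scalars_finitePresentation R₀ A₀ B₀
  let PA := Algebra.Presentation.ofFinitePresentation R₀ A₀
  let PB := Algebra.Presentation.ofFinitePresentation A₀ B₀
  let Q := PB.comp PA
  let e : Fin (Algebra.Presentation.ofFinitePresentationRels A₀ B₀ +
      Algebra.Presentation.ofFinitePresentationRels R₀ A₀) ≃ _ := finSumFinEquiv.symm
  let rel := fun i => Q.relation (e i)
  let π : MvPolynomial _ R₀ →ₐ[R₀] B₀ := aeval Q.val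
  have hπ : Surjective π := Q.toGenerators.aeval_val_surjective
  have hI : Ideal.span (Set.range rel) = RingHom.ker π := by
    have : Set.range rel = Set.range Q.relation := e.surjective.range_comp _
    rw [this, Q.span_range_relation_eq_ker, Algebra.Generators.ker_eq_ker_aeval_val]
  have hflat := flat_localizedModule_quot_of_surjective π hπ _ hI q hfl
  have hT : (Q.coeffs ∪ PA.coeffs).Finite := Q.finite_coeffs.union PA.finite_coeffs
  obtain ⟨S₁, rel₁, hFG, hTS, hmap, hfl₁⟩ :=
    exists_flat_level_quot rel (Q.coeffs ∪ PA.coeffs) hT (q.comap π) hflat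
  haveI : Q.HasCoeffs S₁ := ⟨fun x hx => ⟨⟨x, hTS (Or.inl hx)⟩, rfl⟩⟩
  haveI : PA.HasCoeffs S₁ := ⟨fun x hx => ⟨⟨x, hTS (Or.inr hx)⟩, rfl⟩⟩
  obtain ⟨α, hα, poA⟩ := isPushout_model PA S₁
  obtain ⟨β, hβ, poB⟩ := isPushout_model Q S₁
  obtain ⟨g₁, hg₁, hcomm, hft⟩ := exists_model_map PA PB S₁ α hα β hβ
  refine ⟨S₁, PA.ModelOfHasCoeffs S₁, Q.ModelOfHasCoeffs S₁, inferInstance, inferInstance,
    inferInstance, algebraMap S₁ R₀, α, β, algebraMap S₁ _, g₁, isNoetherianRing_of_fg S₁ hFG,
    ?_, hft, poA, ?_, hcomm, ?_⟩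
  · rw [RingHom.finiteType_algebraMap]; infer_instance
  · rw [hg₁]; exact poB
  · have hinj : Function.Injective (MvPolynomial.map
        (σ := Fin (Algebra.Presentation.ofFinitePresentationVars A₀ B₀) ⊕
          Fin (Algebra.Presentation.ofFinitePresentationVars R₀ A₀)) (algebraMap S₁ R₀)) :=
      MvPolynomial.map_injective _ Subtype.val_injective
    have hrel : ∀ i, Q.relationOfHasCoeffs S₁ (e i) = rel₁ i := by
      intro i
      apply hinj
      rw [Algebra.Presentation.map_relationOfHasCoeffs]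
      exact (hmap i).symm
    have hspan : Ideal.span (Set.range (Q.relationOfHasCoeffs S₁)) =
        Ideal.span (Set.range rel₁) := by
      congr 1
      rw [← e.surjective.range_comp (Q.relationOfHasCoeffs S₁)]
      congr 1
      funext i
      exact hrel i
    rw [← hspan] at hfl₁
    have hprime : (q.comap β).comap (algebraMap (MvPolynomial _ S₁) (Q.ModelOfHasCoeffs S₁)) =
        (q.comap π).comap (MvPolynomial.map (inc S₁)) := by
      ext x
      simp only [Ideal.mem_comap]
      rw [show algebraMap (MvPolynomial _ S₁) (Q.ModelOfHasCoeffs S₁) x =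
        Ideal.Quotient.mk _ x from rfl, hβ]
      rw [show π (MvPolynomial.map (inc S₁) x) = aeval Q.val x from
        aeval_map_algebraMap R₀ Q.val x]
    have h2 := flat_congr_prime hprime.symm hfl₁
    have h3 := (flat_localizedModule_comap_iff (R := S₁) (P := MvPolynomial _ S₁)
      (S := Q.ModelOfHasCoeffs S₁) (M := Q.ModelOfHasCoeffs S₁)
      Ideal.Quotient.mk_surjective (q.comap β)).2 h2
    rw [hg₁]
    exact (localRingHom_flat_iff (q.comap β) _ rfl).2 h3

end Groth.Agent.Lib.Helper14.AS
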