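import Mathlib
import Groth.Agent.S0392
import Groth.Agent.Lib.Helper16.RegSeqFlat
import Groth.Agent.Lib.Helper10.FibreProductStalk
import Groth.Agent.S9501

universe u
set_option linter.style.haveILetI false
set_option linter.unusedSectionVars false
open CategoryTheory CategoryTheory.Limits AlgebraicGeometry Opposite Topology IsLocalRing
open scoped TensorProduct

namespace Groth.Agent.Lib.Helper14.AS

/-- fibrewise flatness criterion, Noetherian local form, with the fibre rings given abstractly -/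
theorem flat_of_fibre_flat {R S B A' Bp : Type u} [CommRing R] [CommRing S] [CommRing B]
    [CommRing A'] [CommRing Bp]
    [IsLocalRing R] [IsLocalRing S] [IsLocalRing B]
    [IsNoetherianRing R] [IsNoetherianRing S] [IsNoetherianRing B]
    [Algebra R S] [Algebra S B] [Algebra R B] [IsScalarTower R S B]
    [IsLocalHom (algebraMap R S)] [IsLocalHom (algebraMap S B)] [Module.Flat R B]
    (σV : S →+* A') (hσV : Function.Surjective σV)
    (hkV : RingHom.ker σV = (maximalIdeal R).map (algebraMap R S))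
    (σU : B →+* Bp) (hσU : Function.Surjective σU)
    (hkU : RingHom.ker σU = (maximalIdeal R).map (algebraMap R B))
    (ψ : A' →+* Bp) (hψ : ψ.Flat) (hcomm : ψ.comp σV = σU.comp (algebraMap S B)) :
    Module.Flat R S ∧ Module.Flat S B := by
  -- the iso `S/I ≃ A'`
  let eA : S ⧸ (maximalIdeal R).map (algebraMap R S) →+* A' :=
    Ideal.Quotient.lift ((maximalIdeal R).map (algebraMap R S)) σV (fun s hs => by
    rw [← RingHom.mem_ker, hkV]; exact hs)
  have heA : Function.Bijective eA := by
    constructor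
    · rw [injective_iff_map_eq_zero]
      intro c hc
      obtain ⟨s, rfl⟩ := Ideal.Quotient.mk_surjective c
      rw [Ideal.Quotient.eq_zero_iff_mem, ← hkV, RingHom.mem_ker]
      exact hc
    · intro a
      obtain ⟨s, rfl⟩ := hσV a
      exact ⟨Ideal.Quotient.mk _ s, rfl⟩
  let ψ' : S ⧸ (maximalIdeal R).map (algebraMap R S) →+* Bp := ψ.comp eA
  have hψ' : ψ'.Flat := RingHom.Flat.comp (RingHom.Flat.of_bijective heA) hψ
  letI : Algebra (S ⧸ (maximalIdeal R).map (algebraMap R S)) Bp := ψ'.toAlgebra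
  letI : Algebra S Bp := (ψ'.comp (Ideal.Quotient.mk _)).toAlgebra
  haveI : IsScalarTower S (S ⧸ (maximalIdeal R).map (algebraMap R S)) Bp :=
    IsScalarTower.of_algebraMap_eq (fun _ => rfl)
  have hflatC : Module.Flat (S ⧸ (maximalIdeal R).map (algebraMap R S)) Bp := hψ'
  have hsmul : ∀ (s : S) (b : B), σU (s • b) = s • σU b := by
    intro s b
    rw [Algebra.smul_def, Algebra.smul_def, map_mul]
    congr 1
    exact (congrArg (fun m => m s) hcomm).symm
  let g : B →ₗ[S] Bp :=
    { toFun := σU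
      map_add' := map_add σU
      map_smul' := hsmul }
  have hg : Function.Surjective g := hσU
  have hker : LinearMap.ker g =
      RingHom.ker (algebraMap S (S ⧸ (maximalIdeal R).map (algebraMap R S))) •
        (⊤ : Submodule S B) := by
    have h1 : RingHom.ker (algebraMap S (S ⧸ (maximalIdeal R).map (algebraMap R S))) =
        (maximalIdeal R).map (algebraMap R S) := Ideal.mk_ker
    rw [h1, Ideal.smul_top_eq_map]
    ext b
    rw [LinearMap.mem_ker, Submodule.restrictScalars_mem]
    change σU b = 0 ↔ _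
    rw [← RingHom.mem_ker, hkU, Ideal.map_map, ← IsScalarTower.algebraMap_eq]
  have e := Groth.Agent.Lib.Helper16.RegSeqFlat.tensorEquivOfSurjective
    (B := S) (C := S ⧸ (maximalIdeal R).map (algebraMap R S)) Ideal.Quotient.mk_surjective g hg hker
  have hflat1 : Module.Flat (S ⧸ (maximalIdeal R).map (algebraMap R S))
      ((S ⧸ (maximalIdeal R).map (algebraMap R S)) ⊗[S] B) := Module.Flat.of_linearEquiv e
  exact Groth.Agent.S0392.result (R := R) (S := S) (S' := B) (M := B) hflat1

section sch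

open Groth.Agent.Lib.Helper10.FibreProductStalk

/-- the local ring of a fibre, for an arbitrary pullback square over the residue field point -/
theorem stalkMap_fibre_surjective_ker {X S P : Scheme.{u}} (f : X ⟶ S) (s : S) (i : P ⟶ X)
    (π : P ⟶ Spec (S.residueField s)) (sq : IsPullback i π f (S.fromSpecResidueField s)) (t : P) :
    Function.Surjective (i.stalkMap t).hom ∧
      RingHom.ker (i.stalkMap t).hom = Ideal.map (f.stalkMap (i t)).hom
        (maximalIdeal (S.presheaf.stalk (f (i t)))) := by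
  obtain ⟨e, he⟩ : ∃ e : P ≅ f.fiber s, e.hom ≫ f.fiberι s = i :=
    ⟨sq.isoPullback, sq.isoPullback_hom_fst⟩
  subst he
  obtain ⟨hs, hk⟩ := Groth.Agent.S9501.result f s (e.hom t)
  have hcomp : ((e.hom ≫ f.fiberι s).stalkMap t).hom =
      (e.hom.stalkMap t).hom.comp ((f.fiberι s).stalkMap (e.hom t)).hom := by
    rw [Scheme.Hom.stalkMap_comp]
    rfl
  have hbij : Function.Bijective (e.hom.stalkMap t).hom :=
    ConcreteCategory.bijective_of_isIso (e.hom.stalkMap t)
  rw [hcomp]
  refine ⟨hbij.2.comp hs, ?_⟩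
  exact (RingHom.ker_comp_of_injective ((f.fiberι s).stalkMap (e.hom t)).hom hbij.1).trans hk

theorem ker_stalkCongr_comp {V W : Scheme.{u}} (q : V ⟶ W) {v₁ v₂ : V} (e : v₂ = v₁)
    {T : CommRingCat.{u}} (σ : V.presheaf.stalk v₁ ⟶ T)
    (hs : Function.Surjective σ.hom)
    (hk : RingHom.ker σ.hom = Ideal.map (q.stalkMap v₁).hom
      (maximalIdeal (W.presheaf.stalk (q v₁)))) :
    Function.Surjective ((V.presheaf.stalkCongr (.of_eq e)).hom ≫ σ).hom ∧
    RingHom.ker ((V.presheaf.stalkCongr (.of_eq e)).hom ≫ σ).hom =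
      Ideal.map (q.stalkMap v₂).hom (maximalIdeal (W.presheaf.stalk (q v₂))) := by
  subst e
  have : (V.presheaf.stalkCongr (.of_eq (rfl : v₂ = v₂))).hom = 𝟙 _ := by
    simp [TopCat.Presheaf.stalkCongr]
  rw [this, Category.id_comp]
  exact ⟨hs, hk⟩

set_option backward.isDefEq.respectTransparency.types false in
/-- fibrewise flatness criterion for locally Noetherian schemes, at a point of the fibre -/
theorem flat_of_fibre_flat_sch {U V W : Scheme.{u}} (p : U ⟶ V) (q : V ⟶ W)
    [IsLocallyNoetherian U] [IsLocallyNoetherian V] [IsLocallyNoetherian W]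
    (w : W) {Uw Vw : Scheme.{u}} (iU : Uw ⟶ U) (πU : Uw ⟶ Spec (W.residueField w))
    (iV : Vw ⟶ V) (πV : Vw ⟶ Spec (W.residueField w))
    (sqU : IsPullback iU πU (p ≫ q) (W.fromSpecResidueField w))
    (sqV : IsPullback iV πV q (W.fromSpecResidueField w))
    (φ : Uw ⟶ Vw) (h1 : φ ≫ iV = iU ≫ p) (h2 : φ ≫ πV = πU) (t : Uw)
    (hfl : ((p ≫ q).stalkMap (iU t)).hom.Flat) (hφ : (φ.stalkMap t).hom.Flat) :
    (q.stalkMap (p (iU t))).hom.Flat ∧ (p.stalkMap (iU t)).hom.Flat := by
  have hc : IsPullback iU φ p iV := by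
    refine IsPullback.of_bot ?_ h1.symm sqV
    rw [h2]
    exact sqU
  letI : Algebra (W.presheaf.stalk (q (p (iU t)))) (V.presheaf.stalk (p (iU t))) :=
    (q.stalkMap (p (iU t))).hom.toAlgebra
  letI : Algebra (V.presheaf.stalk (p (iU t))) (U.presheaf.stalk (iU t)) :=
    (p.stalkMap (iU t)).hom.toAlgebra
  letI : Algebra (W.presheaf.stalk (q (p (iU t)))) (U.presheaf.stalk (iU t)) :=
    ((p ≫ q).stalkMap (iU t)).hom.toAlgebra
  haveI : IsScalarTower (W.presheaf.stalk (q (p (iU t)))) (V.presheaf.stalk (p (iU t)))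
      (U.presheaf.stalk (iU t)) := by
    refine IsScalarTower.of_algebraMap_eq fun r => ?_
    change ((p ≫ q).stalkMap (iU t)).hom r = (p.stalkMap (iU t)).hom ((q.stalkMap (p (iU t))).hom r)
    rw [Scheme.Hom.stalkMap_comp]
    rfl
  haveI : IsLocalHom (algebraMap (W.presheaf.stalk (q (p (iU t)))) (V.presheaf.stalk (p (iU t)))) :=
    inferInstanceAs (IsLocalHom (q.stalkMap (p (iU t))).hom)
  haveI : IsLocalHom (algebraMap (V.presheaf.stalk (p (iU t))) (U.presheaf.stalk (iU t))) :=
    inferInstanceAs (IsLocalHom (p.stalkMap (iU t)).hom)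
  haveI : Module.Flat (W.presheaf.stalk (q (p (iU t)))) (U.presheaf.stalk (iU t)) := hfl
  obtain ⟨hsU, hkU⟩ := stalkMap_fibre_surjective_ker (p ≫ q) w iU πU sqU t
  obtain ⟨hsV0, hkV0⟩ := stalkMap_fibre_surjective_ker q w iV πV sqV (φ t)
  obtain ⟨hsV, hkV⟩ := ker_stalkCongr_comp q (base_eq hc t) (iV.stalkMap (φ t)) hsV0 hkV0
  have hcomm : (φ.stalkMap t).hom.comp (baseStalkMap hc t).hom =
      (iU.stalkMap t).hom.comp (p.stalkMap (iU t)).hom := by
    rw [← CommRingCat.hom_comp, ← CommRingCat.hom_comp, stalkMap_comp_eq hc t]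
  exact flat_of_fibre_flat (baseStalkMap hc t).hom hsV hkV (iU.stalkMap t).hom hsU hkU
    (φ.stalkMap t).hom hφ hcomm

end sch

end Groth.Agent.Lib.Helper14.AS
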