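import Groth.Agent.Lib.Helper10.FibreProductStalk
import Groth.Agent.Lib.Helper4.EtNbhd8
import Groth.Agent.S9782
import Groth.Agent.Lib.Helper14.HasAtMorChart
import Groth.Prelude.Def_AlgSpMor5

universe u
open CategoryTheory CategoryTheory.Limits AlgebraicGeometry Opposite Topology
open scoped TensorProduct

namespace Groth.Agent.Lib.Helper14.AS
open AlgSp

/-- Along a flat local homomorphism the number of minimal primes does not decrease. -/
theorem encard_minimalPrimes_le_of_flat {A B : Type u} [CommRing A] [CommRing B] [IsLocalRing A]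
    [IsLocalRing B] (φ : A →+* B) [IsLocalHom φ] (hφ : φ.Flat) :
    (minimalPrimes A).encard ≤ (minimalPrimes B).encard := by
  algebraize [φ]
  have : IsLocalHom (algebraMap A B) := ‹IsLocalHom φ›
  have hff : Module.FaithfullyFlat A B := Module.FaithfullyFlat.of_flat_of_isLocalHom
  have key : ∀ p ∈ minimalPrimes A, ∃ q ∈ minimalPrimes B, q.comap (algebraMap A B) = p := by
    intro p hp
    have hpp : p.IsPrime := hp.1.1
    obtain ⟨Q, hQ, hQp⟩ := Ideal.exists_isPrime_liesOver_of_faithfullyFlat (B := B) p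
    obtain ⟨q, hq, hqQ⟩ := Ideal.exists_minimalPrimes_le (I := (⊥ : Ideal B)) (J := Q) bot_le
    refine ⟨q, hq, ?_⟩
    have hqp : q.IsPrime := hq.1.1
    have hle : q.comap (algebraMap A B) ≤ p := by
      rw [hQp.over]
      exact Ideal.comap_mono hqQ
    exact le_antisymm hle (hp.2 ⟨inferInstance, bot_le⟩ hle)
  choose! g hg1 hg2 using key
  have hinj : Set.InjOn g (minimalPrimes A) := by
    intro p hp p' hp' h
    rw [← hg2 p hp, ← hg2 p' hp', h]
  calc (minimalPrimes A).encard = (g '' minimalPrimes A).encard := hinj.encard_image.symm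
    _ ≤ (minimalPrimes B).encard := Set.encard_le_encard (by
        rintro _ ⟨p, hp, rfl⟩
        exact hg1 p hp)

open Groth.Agent.Lib.Helper10.FibreProductStalk in
/-- Flatness of a stalk map is stable under base change (pointwise form). -/
theorem flat_stalkMap_baseChange {X S X' S' : Scheme.{u}} {f : X ⟶ S} {f' : X' ⟶ S'}
    {g' : X' ⟶ X} {g : S' ⟶ S} (hc : IsPullback g' f' f g) (x' : X')
    (h : (f.stalkMap (g'.base x')).hom.Flat) : (f'.stalkMap x').hom.Flat := by
  let _ : Algebra (S.presheaf.stalk (f.base (g'.base x'))) (X.presheaf.stalk (g'.base x')) :=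
    (f.stalkMap (g'.base x')).hom.toAlgebra
  let _ : Algebra (S.presheaf.stalk (f.base (g'.base x'))) (S'.presheaf.stalk (f'.base x')) :=
    (baseStalkMap hc x').hom.toAlgebra
  let _ : Algebra (X.presheaf.stalk (g'.base x')) (X'.presheaf.stalk x') :=
    (g'.stalkMap x').hom.toAlgebra
  let _ : Algebra (S'.presheaf.stalk (f'.base x')) (X'.presheaf.stalk x') :=
    (f'.stalkMap x').hom.toAlgebra
  let _ : Algebra (S.presheaf.stalk (f.base (g'.base x'))) (X'.presheaf.stalk x') :=
    (f.stalkMap (g'.base x') ≫ g'.stalkMap x').hom.toAlgebra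
  have : IsScalarTower (S.presheaf.stalk (f.base (g'.base x'))) (X.presheaf.stalk (g'.base x'))
      (X'.presheaf.stalk x') := IsScalarTower.of_algebraMap_eq fun a => rfl
  have : IsScalarTower (S.presheaf.stalk (f.base (g'.base x'))) (S'.presheaf.stalk (f'.base x'))
      (X'.presheaf.stalk x') := by
    refine IsScalarTower.of_algebraMap_eq fun a => ?_
    change (f.stalkMap (g'.base x') ≫ g'.stalkMap x').hom a =
      (baseStalkMap hc x' ≫ f'.stalkMap x').hom a
    rw [stalkMap_comp_eq hc x']
  have hN : Module.Flat (S.presheaf.stalk (f.base (g'.base x'))) (X.presheaf.stalk (g'.base x')) := h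
  have hφ := flat_of_comp_include hc x'
    (Algebra.TensorProduct.productMap
      (IsScalarTower.toAlgHom (S.presheaf.stalk (f.base (g'.base x')))
        (S'.presheaf.stalk (f'.base x')) (X'.presheaf.stalk x'))
      (IsScalarTower.toAlgHom (S.presheaf.stalk (f.base (g'.base x')))
        (X.presheaf.stalk (g'.base x')) (X'.presheaf.stalk x'))).toRingHom
    (fun a => by simp; rfl) (fun b => by simp; rfl)
  have hfl := flat_baseChange_of_flat_productMap (S.presheaf.stalk (f.base (g'.base x')))
    (S'.presheaf.stalk (f'.base x')) (X.presheaf.stalk (g'.base x')) (X'.presheaf.stalk x')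
    (X.presheaf.stalk (g'.base x')) hφ
  have e := TensorProduct.AlgebraTensorModule.rid (X.presheaf.stalk (g'.base x'))
    (X'.presheaf.stalk x') (X'.presheaf.stalk x')
  exact Module.Flat.of_linearEquiv (e.restrictScalars (S'.presheaf.stalk (f'.base x'))).symm

open Groth.Agent.Lib.Helper4.EtNbhd in
/-- Geometric unibranchness descends along a morphism flat at the point. -/
theorem isGeomUnibranch_of_flat_stalkMap {U V : Scheme.{u}} (h : U ⟶ V) (u : U)
    (hfl : (h.stalkMap u).hom.Flat) (hU : CAlg2.IsGeomUnibranch (U.presheaf.stalk u)) :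
    CAlg2.IsGeomUnibranch (V.presheaf.stalk (h u)) := by
  rw [Groth.Agent.S9782.result] at hU ⊢
  intro V' g v' hg hv'
  obtain ⟨u', hu'1, hu'2⟩ :=
    Scheme.Pullback.exists_preimage_pullback (f := h) (g := g) u v' hv'.symm
  subst hu'1
  subst hu'2
  have hc : IsPullback (pullback.fst h g) (pullback.snd h g) h g := IsPullback.of_hasPullback _ _
  have h1 := hU (pullback h g) (pullback.fst h g) u' inferInstance rfl
  rw [encard_components_eq] at h1 ⊢
  have hfl' : ((pullback.snd h g).stalkMap u').hom.Flat := flat_stalkMap_baseChange hc u' hfl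
  have h2 := encard_minimalPrimes_le_of_flat ((pullback.snd h g).stalkMap u').hom hfl'
  rw [h1] at h2
  exact le_antisymm h2 (one_le_encard_minimalPrimes _)

variable {S : Scheme.{u}}

set_option backward.isDefEq.respectTransparency.types false in
theorem isGeomUnibranch_of_isFlatAtMor {X Y : Sp S} (hX : IsAlgSpace X) (f : X ⟶ Y)
    (x : Points X) (hf : IsFlatAtMor f x)
    (hXu : ∀ (U : Over S) (a : (yon S).obj U ⟶ X) (v : ↥U.left), RepWith @Etale a →
      Points.ofPt a v = x → CAlg2.IsGeomUnibranch ↥(U.left.presheaf.stalk v))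
    (V : Over S) (b : (yon S).obj V ⟶ Y) (w : ↥V.left) (hb : RepWith @Etale b)
    (hw : Points.ofPt b w = Points.map f x) : CAlg2.IsGeomUnibranch ↥(V.left.presheaf.stalk w) := by
  obtain ⟨U0, a0, ha0e, ha0s⟩ := hX.atlas
  obtain ⟨u0, rfl⟩ := ofPt_surjective_of_repWith ha0s x
  have sqU := hb.rep.isPullback (a0 ≫ f)
  obtain ⟨h, hh⟩ := (yon S).map_surjective (hb.rep.fst (a0 ≫ f))
  rw [← hh] at sqU
  have he : RepWith @Etale ((yon S).map (hb.rep.snd (a0 ≫ f))) :=
    (repWith_yon_map_iff _ _).2 (hb.property_snd _)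
  obtain ⟨u, hu1, hu2⟩ := exists_point_of_isPullback_yon sqU w u0 hw
  have comm : ((yon S).map (hb.rep.snd (a0 ≫ f)) ≫ a0) ≫ f = (yon S).map h ≫ b := by
    rw [Category.assoc]
    exact sqU.w.symm
  have hpt : Points.ofPt ((yon S).map (hb.rep.snd (a0 ≫ f)) ≫ a0) u = Points.ofPt a0 u0 := by
    rw [ofPt_yon_map_comp, hu2]
  have hflat := hf _ b h u (repWith_comp _ he ha0e) hb comm hpt
  have hgu := hXu _ _ u (repWith_comp _ he ha0e) hpt
  have key := isGeomUnibranch_of_flat_stalkMap h.left u hflat hgu
  rw [hu1] at key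
  exact key

end Groth.Agent.Lib.Helper14.AS
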