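import Mathlib
import Groth.Agent.Lib.Helper14.CFBC
import Groth.Agent.Lib.Helper14.GUFlat
import Groth.Agent.Lib.Helper16.GorMor
import Groth.Agent.S1760

universe u
set_option linter.style.haveILetI false
set_option linter.unusedSectionVars false
open CategoryTheory CategoryTheory.Limits AlgebraicGeometry Opposite Topology IsLocalRing
open scoped TensorProduct

namespace Groth.Agent.Lib.Helper14.AS
open Groth.Agent.Lib.Helper10.FibreProductStalk Groth.Agent.Lib.Helper16.GorMor
open Groth.Agent.Lib.Helper2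

section alg

variable {A A' B Bp : Type u} [CommRing A] [CommRing A'] [CommRing B] [CommRing Bp]
  [IsLocalRing A] [IsLocalRing A'] [IsLocalRing B] [IsLocalRing Bp]
  [Algebra A A'] [Algebra A B] [IsLocalHom (algebraMap A A')] [IsLocalHom (algebraMap A B)]
  (α : A' →+* Bp) (β : B →+* Bp) [IsLocalHom α] [IsLocalHom β]
  (φ : A' ⊗[A] B →+* Bp) (hφ1 : ∀ a, φ (a ⊗ₜ 1) = α a) (hφ2 : ∀ b, φ (1 ⊗ₜ b) = β b)

theorem fg_residue_of_essFiniteType [Algebra.EssFiniteType A A'] :
    ∃ s : Finset (ResidueField A'),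
      IntermediateField.adjoin (ResidueField A) (s : Set (ResidueField A')) = ⊤ := by
  have : Algebra.EssFiniteType A (ResidueField A') := .comp _ A' _
  have : Algebra.EssFiniteType (ResidueField A) (ResidueField A') := .of_comp A _ _
  exact IntermediateField.fg_top _ _

include hφ1 hφ2 in
theorem gor_cf_iff (hloc : letI := φ.toAlgebra; IsLocalization.AtPrime Bp (tpQ φ))
    [IsNoetherianRing (CFa A B)] [Algebra.EssFiniteType A A'] :
    LocCoh.IsGorensteinLocalRing (CFa A B) ↔ LocCoh.IsGorensteinLocalRing (CFp α) := by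
  obtain ⟨q, hq, ⟨e⟩⟩ := cf_localization α β φ hφ1 hφ2 hloc
  have h1 := Groth.Agent.S1760.result (ResidueField A) (ResidueField A')
    fg_residue_of_essFiniteType (CFa A B) q hq
  rw [h1]
  exact ⟨fun h => GK.gor_of_ringEquiv e.symm h, fun h => GK.gor_of_ringEquiv e h⟩

end alg

section sch

variable {X S X' S' : Scheme.{u}} {f : X ⟶ S} {f' : X' ⟶ S'} {g' : X' ⟶ X} {g : S' ⟶ S}

theorem isLocalHom_baseStalkMap (hc : IsPullback g' f' f g) (x' : X') :
    IsLocalHom (baseStalkMap hc x').hom := by
  unfold baseStalkMap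
  rw [CommRingCat.hom_comp]
  haveI : IsLocalHom (S.presheaf.stalkCongr (.of_eq (base_eq hc x'))).hom.hom :=
    isLocalHom_of_isIso _
  exact RingHom.isLocalHom_comp _ _

theorem flat_baseStalkMap (hc : IsPullback g' f' f g) (x' : X')
    (h : (g.stalkMap (f' x')).hom.Flat) : (baseStalkMap hc x').hom.Flat := by
  unfold baseStalkMap
  rw [CommRingCat.hom_comp]
  refine RingHom.Flat.comp (RingHom.Flat.of_bijective ?_) h
  exact ConcreteCategory.bijective_of_isIso (S.presheaf.stalkCongr (.of_eq (base_eq hc x'))).hom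

theorem essFiniteType_baseStalkMap (hc : IsPullback g' f' f g) (x' : X')
    [LocallyOfFiniteType g] : (baseStalkMap hc x').hom.EssFiniteType := by
  unfold baseStalkMap
  rw [CommRingCat.hom_comp]
  refine RingHom.EssFiniteType.comp ?_ (LocallyOfFiniteType.stalkMap g (f' x'))
  exact (RingHom.FiniteType.of_surjective _ (ConcreteCategory.bijective_of_isIso
    (S.presheaf.stalkCongr (.of_eq (base_eq hc x'))).hom).2).essFiniteType

set_option backward.isDefEq.respectTransparency.types false in
/-- closed fibre rings of stalk maps under base change along a locally finite type morphism -/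
theorem gor_CF_baseChange_iff (hc : IsPullback g' f' f g) [LocallyOfFiniteType g] (x' : X')
    [IsLocallyNoetherian (f.fiber (f (g' x')))] :
    LocCoh.IsGorensteinLocalRing (CF f (g' x')) ↔ LocCoh.IsGorensteinLocalRing (CF f' x') := by
  letI : Algebra (S.presheaf.stalk (f.base (g'.base x'))) (X.presheaf.stalk (g'.base x')) :=
    (f.stalkMap (g'.base x')).hom.toAlgebra
  letI : Algebra (S.presheaf.stalk (f.base (g'.base x'))) (S'.presheaf.stalk (f'.base x')) :=
    (baseStalkMap hc x').hom.toAlgebra
  letI : Algebra (X.presheaf.stalk (g'.base x')) (X'.presheaf.stalk x') :=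
    (g'.stalkMap x').hom.toAlgebra
  letI : Algebra (S'.presheaf.stalk (f'.base x')) (X'.presheaf.stalk x') :=
    (f'.stalkMap x').hom.toAlgebra
  letI : Algebra (S.presheaf.stalk (f.base (g'.base x'))) (X'.presheaf.stalk x') :=
    (f.stalkMap (g'.base x') ≫ g'.stalkMap x').hom.toAlgebra
  have : IsScalarTower (S.presheaf.stalk (f.base (g'.base x'))) (X.presheaf.stalk (g'.base x'))
      (X'.presheaf.stalk x') := IsScalarTower.of_algebraMap_eq fun a => rfl
  have : IsScalarTower (S.presheaf.stalk (f.base (g'.base x'))) (S'.presheaf.stalk (f'.base x'))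
      (X'.presheaf.stalk x') := by
    refine IsScalarTower.of_algebraMap_eq fun a => ?_
    change (f.stalkMap (g'.base x') ≫ g'.stalkMap x').hom a =
      (baseStalkMap hc x' ≫ f'.stalkMap x').hom a
    rw [stalkMap_comp_eq hc x']
  haveI : IsLocalHom (algebraMap (S.presheaf.stalk (f.base (g'.base x')))
      (S'.presheaf.stalk (f'.base x'))) := isLocalHom_baseStalkMap hc x'
  haveI : IsLocalHom (algebraMap (S.presheaf.stalk (f.base (g'.base x')))
      (X.presheaf.stalk (g'.base x'))) :=
    inferInstanceAs (IsLocalHom (f.stalkMap (g'.base x')).hom)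
  haveI : Algebra.EssFiniteType (S.presheaf.stalk (f.base (g'.base x')))
      (S'.presheaf.stalk (f'.base x')) := essFiniteType_baseStalkMap hc x'
  haveI : IsNoetherianRing (CFa (S.presheaf.stalk (f.base (g'.base x')))
      (X.presheaf.stalk (g'.base x'))) := isNoetherianRing_CF f (g' x')
  let φ := (Algebra.TensorProduct.productMap
      (IsScalarTower.toAlgHom (S.presheaf.stalk (f.base (g'.base x')))
        (S'.presheaf.stalk (f'.base x')) (X'.presheaf.stalk x'))
      (IsScalarTower.toAlgHom (S.presheaf.stalk (f.base (g'.base x')))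
        (X.presheaf.stalk (g'.base x')) (X'.presheaf.stalk x'))).toRingHom
  have hφ1 : ∀ a, φ (a ⊗ₜ 1) = (f'.stalkMap x').hom a := fun a => by simp [φ]; rfl
  have hφ2 : ∀ b, φ (1 ⊗ₜ b) = (g'.stalkMap x').hom b := fun b => by simp [φ]; rfl
  have hloc := isLocalization_stalk_pullback hc x' φ hφ1 hφ2
  exact gor_cf_iff (f'.stalkMap x').hom (g'.stalkMap x').hom φ hφ1 hφ2 hloc

/-- descent of flatness of the stalk map along a base change flat at the point -/
theorem flat_stalkMap_of_baseChange_of_flat (hc : IsPullback g' f' f g) (x' : X')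
    (hg : (g.stalkMap (f' x')).hom.Flat) (hf' : (f'.stalkMap x').hom.Flat) :
    (f.stalkMap (g' x')).hom.Flat := by
  have hg' : (g'.stalkMap x').hom.Flat := flat_stalkMap_baseChange hc.flip x' hg
  refine flat_of_comp_of_flat_local (f.stalkMap (g' x')).hom (g'.stalkMap x').hom hg' ?_
  have h1 : (g'.stalkMap x').hom.comp (f.stalkMap (g' x')).hom =
      (f'.stalkMap x').hom.comp (baseStalkMap hc x').hom := by
    rw [← CommRingCat.hom_comp, ← CommRingCat.hom_comp, stalkMap_comp_eq hc x']
  rw [h1]
  exact RingHom.Flat.comp (flat_baseStalkMap hc x' hg) hf'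

theorem gorAt_baseChange (hc : IsPullback g' f' f g) (hfibf : ∀ y, IsLocallyNoetherian (f.fiber y))
    [LocallyOfFiniteType g] (x' : X') :
    (Dual3.IsGorensteinAt f (g' x') → Dual3.IsGorensteinAt f' x') ∧
    ((f.stalkMap (g' x')).hom.Flat → Dual3.IsGorensteinAt f' x' → Dual3.IsGorensteinAt f (g' x')) ∧
    ((g.stalkMap (f' x')).hom.Flat → Dual3.IsGorensteinAt f' x' →
      Dual3.IsGorensteinAt f (g' x')) := by
  haveI := hfibf (f (g' x'))
  have key := gor_CF_baseChange_iff hc x'
  refine ⟨fun h => ⟨flat_stalkMap_baseChange hc x' h.1, ?_⟩, fun hfl h => ⟨hfl, ?_⟩,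
    fun hg h => ⟨flat_stalkMap_of_baseChange_of_flat hc x' hg h.1, ?_⟩⟩
  · exact (gor_fiber_stalk_iff f' x').mpr (key.mp ((gor_fiber_stalk_iff f (g' x')).mp h.2))
  · exact (gor_fiber_stalk_iff f (g' x')).mpr (key.mpr ((gor_fiber_stalk_iff f' x').mp h.2))
  · exact (gor_fiber_stalk_iff f (g' x')).mpr (key.mpr ((gor_fiber_stalk_iff f' x').mp h.2))

end sch

end Groth.Agent.Lib.Helper14.AS
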