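import Mathlib
import Groth.Agent.Lib.Helper14.FibCrit
import Groth.Agent.Lib.Helper14.GorBCSch
import Groth.Agent.Lib.Helper14.FPFib1

universe u
set_option linter.style.haveILetI false
set_option linter.unusedSectionVars false
open CategoryTheory CategoryTheory.Limits AlgebraicGeometry Opposite Topology IsLocalRing

namespace Groth.Agent.Lib.Helper14.AS

theorem flat_stalkMap_pt {U V : Scheme.{u}} (h : U ⟶ V) {x x' : ↥U} (e : x = x')
    (hx : (h.stalkMap x).hom.Flat) : (h.stalkMap x').hom.Flat := by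
  subst e
  exact hx

section transport
variable {U V W U' V' W' : Scheme.{u}} (p : U ⟶ V) (q : V ⟶ W) (p' : U' ⟶ V') (q' : V' ⟶ W')
  (gU : U ⟶ U') (gV : V ⟶ V') (gW : W ⟶ W')
  (w : W) {Uw Vw U'w V'w : Scheme.{u}}
  (iU : Uw ⟶ U) (πU : Uw ⟶ Spec (W.residueField w))
  (iV : Vw ⟶ V) (πV : Vw ⟶ Spec (W.residueField w))
  (iU' : U'w ⟶ U') (πU' : U'w ⟶ Spec (W'.residueField (gW w)))
  (iV' : V'w ⟶ V') (πV' : V'w ⟶ Spec (W'.residueField (gW w)))

/-- the fibre of a base change is the base change of the fibre along the residue field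
extension -/
theorem isPullback_fibre_of_isPullback
    (sqU : IsPullback iU πU (p ≫ q) (W.fromSpecResidueField w))
    (sqU' : IsPullback iU' πU' (p' ≫ q') (W'.fromSpecResidueField (gW w)))
    (hU : IsPullback gU (p ≫ q) (p' ≫ q') gW)
    (aU : Uw ⟶ U'w) (ha1 : aU ≫ iU' = iU ≫ gU)
    (ha2 : aU ≫ πU' = πU ≫ Spec.map (gW.residueFieldMap w)) :
    IsPullback aU πU πU' (Spec.map (gW.residueFieldMap w)) := by
  have h1 := sqU.paste_horiz hU
  rw [← Scheme.Hom.SpecMap_residueFieldMap_fromSpecResidueField, ← ha1] at h1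
  exact IsPullback.of_right h1 ha2 sqU'

theorem isPullback_fibreMap_of_isPullback
    (sqU : IsPullback iU πU (p ≫ q) (W.fromSpecResidueField w))
    (sqV : IsPullback iV πV q (W.fromSpecResidueField w))
    (sqU' : IsPullback iU' πU' (p' ≫ q') (W'.fromSpecResidueField (gW w)))
    (sqV' : IsPullback iV' πV' q' (W'.fromSpecResidueField (gW w)))
    (hU : IsPullback gU (p ≫ q) (p' ≫ q') gW) (hV : IsPullback gV q q' gW)
    (cU : gU ≫ p' = p ≫ gV)
    (φ : Uw ⟶ Vw) (h1 : φ ≫ iV = iU ≫ p) (h2 : φ ≫ πV = πU)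
    (φ' : U'w ⟶ V'w) (h1' : φ' ≫ iV' = iU' ≫ p') (h2' : φ' ≫ πV' = πU')
    (aU : Uw ⟶ U'w) (ha1 : aU ≫ iU' = iU ≫ gU)
    (ha2 : aU ≫ πU' = πU ≫ Spec.map (gW.residueFieldMap w))
    (aV : Vw ⟶ V'w) (hb1 : aV ≫ iV' = iV ≫ gV)
    (hb2 : aV ≫ πV' = πV ≫ Spec.map (gW.residueFieldMap w)) :
    IsPullback aU φ φ' aV ∧ Flat aV := by
  have hUf := isPullback_fibre_of_isPullback p q p' q' gU gW w iU πU iU' πU' sqU sqU' hU aU ha1 ha2
  have hVf : IsPullback aV πV πV' (Spec.map (gW.residueFieldMap w)) := by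
    have := isPullback_fibre_of_isPullback (𝟙 V) q (𝟙 V') q' gV gW w iV πV iV' πV'
      (by simpa using sqV) (by simpa using sqV') (by simpa using hV) aV hb1 hb2
    exact this
  have hcomm : aU ≫ φ' = φ ≫ aV := by
    apply sqV'.hom_ext
    · rw [Category.assoc, h1', reassoc_of% ha1, cU, Category.assoc, hb1, reassoc_of% h1]
    · rw [Category.assoc, h2', ha2, Category.assoc, hb2, reassoc_of% h2]
  refine ⟨IsPullback.of_bot ?_ hcomm hVf, ?_⟩
  · rw [h2, h2']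
    exact hUf
  · have : Flat (Spec.map (gW.residueFieldMap w)) := by
      rw [HasRingHomProperty.Spec_iff (P := @Flat)]
 
      letI : Algebra (W'.residueField (gW w)) (W.residueField w) :=
        (gW.residueFieldMap w).hom.toAlgebra
      exact (inferInstance : Module.Flat (W'.residueField (gW w)) (W.residueField w))
    exact MorphismProperty.of_isPullback hVf.flip this

end transport



section affine
open Groth.Agent.Lib.Helper18.Fl

set_option maxHeartbeats 1000000 in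
theorem flat_of_fibre_flat_Spec_fp {R₀ A₀ B₀ : CommRingCat.{u}} (f : R₀ ⟶ A₀) (g : A₀ ⟶ B₀)
    (hf : f.hom.FinitePresentation) (hfg : (f ≫ g).hom.FinitePresentation)
    (w : Spec R₀) {Uw Vw : Scheme.{u}} (iU : Uw ⟶ Spec B₀)
    (πU : Uw ⟶ Spec ((Spec R₀).residueField w))
    (iV : Vw ⟶ Spec A₀) (πV : Vw ⟶ Spec ((Spec R₀).residueField w))
    (sqU : IsPullback iU πU (Spec.map g ≫ Spec.map f) ((Spec R₀).fromSpecResidueField w))
    (sqV : IsPullback iV πV (Spec.map f) ((Spec R₀).fromSpecResidueField w))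
    (φ : Uw ⟶ Vw) (h1 : φ ≫ iV = iU ≫ Spec.map g) (h2 : φ ≫ πV = πU) (t : Uw)
    (hfl : ((Spec.map g ≫ Spec.map f).stalkMap (iU t)).hom.Flat)
    (hφ : (φ.stalkMap t).hom.Flat) :
    ((Spec.map f).stalkMap (Spec.map g (iU t))).hom.Flat ∧
      ((Spec.map g).stalkMap (iU t)).hom.Flat := by
  letI : Algebra R₀ A₀ := f.hom.toAlgebra
  letI : Algebra A₀ B₀ := g.hom.toAlgebra
  letI : Algebra R₀ B₀ := (f ≫ g).hom.toAlgebra
  haveI : IsScalarTower R₀ A₀ B₀ := .of_algebraMap_eq fun x => rfl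
  haveI : Algebra.FinitePresentation R₀ A₀ := hf
  haveI : Algebra.FinitePresentation R₀ B₀ := hfg
  obtain ⟨x, hx⟩ : ∃ x, x = iU t := ⟨_, rfl⟩
  haveI : x.asIdeal.IsPrime := x.isPrime
  have hflx : Module.Flat R₀ (LocalizedModule x.asIdeal.primeCompl B₀) := by
    have h0 : ((Spec.map (f ≫ g)).stalkMap x).hom.Flat := by
      rw [hx]
      have : Spec.map (f ≫ g) = Spec.map g ≫ Spec.map f := Spec.map_comp f g
      rw [this]; exact hfl
    have := (RingHom.Flat.respectsIso.arrow_mk_iso_iff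
      (Scheme.arrowStalkMapSpecIso (f ≫ g) x)).1 h0
    exact (localRingHom_flat_iff (A := R₀) (B := B₀) x.asIdeal _ rfl).1 this
  obtain ⟨Λ, A₁, B₁, _, _, _, ρ, α, β, f₁, g₁, hN, hf₁, hg₁, poA, poB, hcomm, hfl₁⟩ :=
    exists_noeth_model (R₀ := R₀) (A₀ := A₀) (B₀ := B₀) x.asIdeal hflx
  -- Noetherianity of the models
  haveI : IsNoetherianRing Λ := hN
  haveI : IsNoetherianRing A₁ := by
    letI := f₁.toAlgebra
    haveI : Algebra.FiniteType Λ A₁ := hf₁
    exact Algebra.FiniteType.isNoetherianRing Λ A₁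
  haveI : IsNoetherianRing B₁ := by
    letI := g₁.toAlgebra
    haveI : Algebra.FiniteType A₁ B₁ := hg₁
    exact Algebra.FiniteType.isNoetherianRing A₁ B₁
  -- the schemes
  obtain ⟨q₁, hq₁⟩ : ∃ q₁ : Spec (.of A₁) ⟶ Spec (.of Λ), q₁ = Spec.map (CommRingCat.ofHom f₁) :=
    ⟨_, rfl⟩
  obtain ⟨p₁, hp₁⟩ : ∃ p₁ : Spec (.of B₁) ⟶ Spec (.of A₁), p₁ = Spec.map (CommRingCat.ofHom g₁) :=
    ⟨_, rfl⟩
  obtain ⟨gW, hgW⟩ : ∃ gW : Spec R₀ ⟶ Spec (.of Λ), gW = Spec.map (CommRingCat.ofHom ρ) :=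
    ⟨_, rfl⟩
  obtain ⟨gV, hgV⟩ : ∃ gV : Spec A₀ ⟶ Spec (.of A₁), gV = Spec.map (CommRingCat.ofHom α) :=
    ⟨_, rfl⟩
  obtain ⟨gU, hgU⟩ : ∃ gU : Spec B₀ ⟶ Spec (.of B₁), gU = Spec.map (CommRingCat.ofHom β) :=
    ⟨_, rfl⟩
  have hV : IsPullback gV (Spec.map f) q₁ gW := by
    rw [hgV, hq₁, hgW]
    exact (isPullback_SpecMap_of_isPushout _ _ _ _ poA).flip
  have hU : IsPullback gU (Spec.map g ≫ Spec.map f) (p₁ ≫ q₁) gW := by
    have := (isPullback_SpecMap_of_isPushout _ _ _ _ poB).flip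
    rw [hgU, hp₁, hq₁, hgW, ← Spec.map_comp, ← Spec.map_comp]
    exact this
  have cU : gU ≫ p₁ = Spec.map g ≫ gV := by
    rw [hgU, hp₁, hgV, ← Spec.map_comp, ← Spec.map_comp]
    congr 1
    ext a
    exact congrArg (fun k => k a) hcomm
  have hUV : IsPullback gU (Spec.map g) p₁ gV := IsPullback.of_bot hU cU hV
  -- fibres at level 1
  have sqU' := IsPullback.of_hasPullback (p₁ ≫ q₁) ((Spec (.of Λ)).fromSpecResidueField (gW w))
  have sqV' := IsPullback.of_hasPullback q₁ ((Spec (.of Λ)).fromSpecResidueField (gW w))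
  obtain ⟨φ', h1', h2'⟩ : ∃ φ' : pullback (p₁ ≫ q₁) ((Spec (.of Λ)).fromSpecResidueField (gW w)) ⟶
      pullback q₁ ((Spec (.of Λ)).fromSpecResidueField (gW w)),
      φ' ≫ pullback.fst _ _ = pullback.fst _ _ ≫ p₁ ∧ φ' ≫ pullback.snd _ _ = pullback.snd _ _ :=
    ⟨pullback.lift (pullback.fst _ _ ≫ p₁) (pullback.snd _ _)
      (by rw [Category.assoc]; exact pullback.condition), pullback.lift_fst _ _ _,
      pullback.lift_snd _ _ _⟩
  have wU : (iU ≫ gU) ≫ (p₁ ≫ q₁) = (πU ≫ Spec.map (gW.residueFieldMap w)) ≫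
      (Spec (.of Λ)).fromSpecResidueField (gW w) := by
    rw [Category.assoc, hU.w, ← Category.assoc iU, sqU.w, Category.assoc, Category.assoc,
      Scheme.Hom.SpecMap_residueFieldMap_fromSpecResidueField]
  have wV : (iV ≫ gV) ≫ q₁ = (πV ≫ Spec.map (gW.residueFieldMap w)) ≫
      (Spec (.of Λ)).fromSpecResidueField (gW w) := by
    rw [Category.assoc, hV.w, ← Category.assoc iV, sqV.w, Category.assoc, Category.assoc,
      Scheme.Hom.SpecMap_residueFieldMap_fromSpecResidueField]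
  obtain ⟨aU, ha1, ha2⟩ : ∃ aU : Uw ⟶ pullback (p₁ ≫ q₁)
      ((Spec (.of Λ)).fromSpecResidueField (gW w)), aU ≫ pullback.fst _ _ = iU ≫ gU ∧
      aU ≫ pullback.snd _ _ = πU ≫ Spec.map (gW.residueFieldMap w) :=
    ⟨pullback.lift _ _ wU, pullback.lift_fst _ _ _, pullback.lift_snd _ _ _⟩
  obtain ⟨aV, hb1, hb2⟩ : ∃ aV : Vw ⟶ pullback q₁
      ((Spec (.of Λ)).fromSpecResidueField (gW w)), aV ≫ pullback.fst _ _ = iV ≫ gV ∧
      aV ≫ pullback.snd _ _ = πV ≫ Spec.map (gW.residueFieldMap w) :=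
    ⟨pullback.lift _ _ wV, pullback.lift_fst _ _ _, pullback.lift_snd _ _ _⟩
  obtain ⟨hsq, haVfl⟩ := isPullback_fibreMap_of_isPullback (Spec.map g) (Spec.map f) p₁ q₁ gU gV gW w
    iU πU iV πV _ _ _ _ sqU sqV sqU' sqV' hU hV cU φ h1 h2 φ' h1' h2' aU ha1 ha2 aV hb1 hb2
  -- fibre flatness at level 1
  have hφ' : (φ'.stalkMap (aU t)).hom.Flat :=
    flat_stalkMap_of_baseChange_of_flat hsq t (Flat.stalkMap aV (φ t)) hφ
  have hpt : (pullback.fst (p₁ ≫ q₁) ((Spec (.of Λ)).fromSpecResidueField (gW w))) (aU t) =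
      gU x := by
    rw [← Scheme.Hom.comp_apply, ha1, Scheme.Hom.comp_apply, hx]
  have hfl₁' : ((p₁ ≫ q₁).stalkMap (gU x)).hom.Flat := by
    have e1 : Spec.map (CommRingCat.ofHom (g₁.comp f₁)) = p₁ ≫ q₁ := by
      rw [hp₁, hq₁, ← Spec.map_comp]; rfl
    have h0 : ((Spec.map (CommRingCat.ofHom (g₁.comp f₁))).stalkMap (gU x)).hom.Flat := by
      rw [RingHom.Flat.respectsIso.arrow_mk_iso_iff
        (Scheme.arrowStalkMapSpecIso (CommRingCat.ofHom (g₁.comp f₁)) (gU x))]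
      subst hgU
      exact hfl₁
    exact e1 ▸ h0
  obtain ⟨hq₁fl, hp₁fl⟩ := flat_of_fibre_flat_sch p₁ q₁ (gW w) _ _ _ _ sqU' sqV' φ' h1' h2' (aU t)
    (flat_stalkMap_pt _ hpt.symm hfl₁') hφ'
  constructor
  · have hpt2 : gV ((Spec.map g) x) = p₁ (gU x) := by
      rw [← Scheme.Hom.comp_apply, ← cU, Scheme.Hom.comp_apply]
    have := flat_stalkMap_baseChange hV ((Spec.map g) x) (flat_stalkMap_pt _
      (by rw [hpt2, hpt]) hq₁fl)
    rw [← hx]; exact this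
  · have := flat_stalkMap_baseChange hUV x (flat_stalkMap_pt _ hpt hp₁fl)
    rw [← hx]; exact this

end affine

end Groth.Agent.Lib.Helper14.AS
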