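import Mathlib
import Groth.Agent.Lib.Helper14.FPFib2

universe u
set_option linter.style.haveILetI false
set_option linter.unusedSectionVars false
open CategoryTheory CategoryTheory.Limits AlgebraicGeometry Opposite Topology IsLocalRing

namespace Groth.Agent.Lib.Helper14.AS

theorem exists_finset_kills {R₀ κ : Type u} [CommRing R₀] [CommRing κ] [IsNoetherianRing κ]
    (ev : R₀ →+* κ) {n : ℕ} (I : Ideal (MvPolynomial (Fin n) R₀)) :
    ∃ T : Finset (MvPolynomial (Fin n) R₀), (T : Set (MvPolynomial (Fin n) R₀)) ⊆ I ∧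
      ∀ (C : Type u) [CommRing C] (θ : MvPolynomial (Fin n) R₀ →+* C) (χ : κ →+* C),
        θ.comp MvPolynomial.C = χ.comp ev → (∀ t ∈ T, θ t = 0) → ∀ f ∈ I, θ f = 0 := by
  classical
  let ψ : MvPolynomial (Fin n) R₀ →+* MvPolynomial (Fin n) κ := MvPolynomial.map ev
  have hfg : (Ideal.span (ψ '' (I : Set (MvPolynomial (Fin n) R₀)))).FG :=
    IsNoetherian.noetherian _
  obtain ⟨T', hT'sub, hT'⟩ := (Submodule.fg_span_iff_fg_span_finset_subset _).1 hfg
  obtain ⟨T, hTI, hTT'⟩ := Finset.subset_set_image_iff.1 hT'sub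
  refine ⟨T, hTI, ?_⟩
  intro C _ θ χ hθ hT f hf
  let Θ : MvPolynomial (Fin n) κ →+* C := MvPolynomial.eval₂Hom χ (fun i => θ (MvPolynomial.X i))
  have hΘ : θ = Θ.comp ψ := by
    apply MvPolynomial.ringHom_ext
    · intro a
      simp only [RingHom.comp_apply, ψ, Θ, MvPolynomial.map_C, MvPolynomial.coe_eval₂Hom,
        MvPolynomial.eval₂_C]
      exact congrArg (fun k => k a) hθ
    · intro i
      simp [ψ, Θ]
  have h1 : ψ f ∈ Ideal.span (ψ '' (I : Set (MvPolynomial (Fin n) R₀))) :=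
    Ideal.subset_span ⟨f, hf, rfl⟩
  have h2 : Ideal.span (ψ '' (I : Set (MvPolynomial (Fin n) R₀))) ≤ RingHom.ker Θ := by
    change Submodule.span _ _ ≤ _
    rw [hT', ← hTT']
    change Ideal.span _ ≤ _
    rw [Ideal.span_le]
    intro y hy
    rw [Finset.coe_image] at hy
    obtain ⟨t, ht, rfl⟩ := hy
    rw [SetLike.mem_coe, RingHom.mem_ker, ← RingHom.comp_apply, ← hΘ]
    exact hT t ht
  rw [hΘ, RingHom.comp_apply]
  exact h2 h1



/-- every morphism to an affine scheme comes from a ring map to global sections -/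
theorem hom_Spec_eq {T : Scheme.{u}} {A : CommRingCat.{u}} (a : T ⟶ Spec A) :
    a = T.toSpecΓ ≫ Spec.map ((Scheme.ΓSpecIso A).inv ≫ a.appTop) := by
  rw [Spec.map_comp, ← Category.assoc, ← Scheme.toSpecΓ_naturality, Category.assoc,
    toSpecΓ_SpecMap_ΓSpecIso_inv, Category.comp_id]

theorem ΓSpecIso_inv_appTop_comp {T : Scheme.{u}} {A A' : CommRingCat.{u}} (a : T ⟶ Spec A')
    (k : A ⟶ A') :
    (Scheme.ΓSpecIso A).inv ≫ (a ≫ Spec.map k).appTop = k ≫ (Scheme.ΓSpecIso A').inv ≫ a.appTop := by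
  rw [Scheme.Hom.comp_appTop, ← Category.assoc, ← Scheme.ΓSpecIso_inv_naturality, Category.assoc]

/-- a morphism to `Spec A'` whose ring map kills the kernel of a surjection `A' → A` factors
through `Spec A`. -/
theorem exists_factor_Spec_of_kills {T : Scheme.{u}} {A A' : CommRingCat.{u}} (j : A' ⟶ A)
    (hj : Function.Surjective j.hom) (a : T ⟶ Spec A')
    (h : ∀ x, j.hom x = 0 → ((Scheme.ΓSpecIso A').inv ≫ a.appTop).hom x = 0) :
    ∃ a' : T ⟶ Spec A, a' ≫ Spec.map j = a := by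
  let θ : A' →+* Γ(T, ⊤) := ((Scheme.ΓSpecIso A').inv ≫ a.appTop).hom
  have hker : RingHom.ker j.hom ≤ RingHom.ker θ := fun x hx => h x hx
  let θ' : A →+* Γ(T, ⊤) := RingHom.liftOfSurjective j.hom hj ⟨θ, hker⟩
  have hθ' : θ'.comp j.hom = θ := RingHom.liftOfRightInverse_comp _ _ _ _
  refine ⟨T.toSpecΓ ≫ Spec.map (CommRingCat.ofHom θ'), ?_⟩
  rw [Category.assoc, ← Spec.map_comp]
  conv_rhs => rw [hom_Spec_eq a]
  congr 2
  ext x
  exact congrArg (fun k => k x) hθ'



theorem isPullback_of_exists_unique_sch {C : Type*} [Category C] {P X Y Z : C} {fst : P ⟶ X}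
    {snd : P ⟶ Y} {f : X ⟶ Z} {g : Y ⟶ Z} (w : fst ≫ f = snd ≫ g)
    (hex : ∀ (T : C) (x : T ⟶ X) (y : T ⟶ Y), x ≫ f = y ≫ g → ∃ z : T ⟶ P, z ≫ fst = x ∧ z ≫ snd = y)
    (huniq : ∀ (T : C) (z z' : T ⟶ P), z ≫ fst = z' ≫ fst → z ≫ snd = z' ≫ snd → z = z') :
    IsPullback fst snd f g := by
  refine ⟨⟨w⟩, ⟨PullbackCone.IsLimit.mk w
    (fun s => (hex s.pt s.fst s.snd s.condition).choose)
    (fun s => (hex s.pt s.fst s.snd s.condition).choose_spec.1)
    (fun s => (hex s.pt s.fst s.snd s.condition).choose_spec.2) ?_⟩⟩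
  intro s m h1 h2
  apply huniq
  · rw [h1, (hex s.pt s.fst s.snd s.condition).choose_spec.1]
  · rw [h2, (hex s.pt s.fst s.snd s.condition).choose_spec.2]

/-- the fibre of `Spec A → Spec R₀` is also the fibre of `Spec A' → Spec R₀` for a surjection
`A' → A` whose kernel dies on all "fibre-valued points" -/
theorem isPullback_fibre_of_surjective {R₀ A A' : CommRingCat.{u}} (f' : R₀ ⟶ A') (j : A' ⟶ A)
    (hj : Function.Surjective j.hom) (w : Spec R₀) {Vw : Scheme.{u}} (iV : Vw ⟶ Spec A)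
    (πV : Vw ⟶ Spec ((Spec R₀).residueField w))
    (sqV : IsPullback iV πV (Spec.map (f' ≫ j)) ((Spec R₀).fromSpecResidueField w))
    (K : ∀ (T : Scheme.{u}) (a : T ⟶ Spec A') (b : T ⟶ Spec ((Spec R₀).residueField w)),
      a ≫ Spec.map f' = b ≫ (Spec R₀).fromSpecResidueField w →
      ∀ x, j.hom x = 0 → ((Scheme.ΓSpecIso A').inv ≫ a.appTop).hom x = 0) :
    IsPullback (iV ≫ Spec.map j) πV (Spec.map f') ((Spec R₀).fromSpecResidueField w) := by
  haveI : IsClosedImmersion (Spec.map j) := IsClosedImmersion.spec_of_surjective j hj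
  haveI : Mono (Spec.map j) := inferInstance
  refine isPullback_of_exists_unique_sch ?_ ?_ ?_
  · rw [Category.assoc, ← Spec.map_comp]; exact sqV.w
  · intro T a b hab
    obtain ⟨a', ha'⟩ := exists_factor_Spec_of_kills j hj a (K T a b hab)
    have : a' ≫ Spec.map (f' ≫ j) = b ≫ (Spec R₀).fromSpecResidueField w := by
      rw [Spec.map_comp, ← Category.assoc, ha', hab]
    exact ⟨sqV.lift a' b this, by rw [← Category.assoc, sqV.lift_fst, ha'], sqV.lift_snd _ _ _⟩
  · intro T z z' h1 h2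
    apply sqV.hom_ext
    · rw [← cancel_mono (Spec.map j), Category.assoc, Category.assoc]; exact h1
    · exact h2



theorem isPullback_id_comp_mono {C : Type*} [Category C] {X Y Z : C} (p : X ⟶ Y) (m : Y ⟶ Z)
    [Mono m] : IsPullback (𝟙 X) p (p ≫ m) m := by
  refine isPullback_of_exists_unique_sch (by simp) ?_ ?_
  · intro T x y h
    refine ⟨x, by simp, ?_⟩
    rw [← cancel_mono m, Category.assoc]; exact h
  · intro T z z' h1 _
    simpa using h1

open Groth.Agent.Lib.Helper16.GorMor in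
set_option maxHeartbeats 1000000 in
theorem flat_of_fibre_flat_Spec {R₀ A₀ B₀ : CommRingCat.{u}} (f : R₀ ⟶ A₀) (g : A₀ ⟶ B₀)
    (hf : f.hom.FiniteType) (hfg : (f ≫ g).hom.FinitePresentation)
    (w : Spec R₀) {Uw Vw : Scheme.{u}} (iU : Uw ⟶ Spec B₀)
    (πU : Uw ⟶ Spec ((Spec R₀).residueField w))
    (iV : Vw ⟶ Spec A₀) (πV : Vw ⟶ Spec ((Spec R₀).residueField w))
    (sqU : IsPullback iU πU (Spec.map g ≫ Spec.map f) ((Spec R₀).fromSpecResidueField w))
    (sqV : IsPullback iV πV (Spec.map f) ((Spec R₀).fromSpecResidueField w))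
    (φ : Uw ⟶ Vw) (h1 : φ ≫ iV = iU ≫ Spec.map g) (h2 : φ ≫ πV = πU) (t : Uw)
    (hfl : ((Spec.map g ≫ Spec.map f).stalkMap (iU t)).hom.Flat)
    (hφ : (φ.stalkMap t).hom.Flat) :
    ((Spec.map f).stalkMap (Spec.map g (iU t))).hom.Flat ∧
      ((Spec.map g).stalkMap (iU t)).hom.Flat := by
  letI : Algebra R₀ A₀ := f.hom.toAlgebra
  haveI : Algebra.FiniteType R₀ A₀ := hf
  obtain ⟨n, π, hπ⟩ := Algebra.FiniteType.iff_quotient_mvPolynomial''.1 ‹Algebra.FiniteType R₀ A₀›
  obtain ⟨ev, hev⟩ : ∃ ev : R₀ ⟶ (Spec R₀).residueField w, ev = (Scheme.ΓSpecIso R₀).inv ≫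
      ((Spec R₀).fromSpecResidueField w).appTop ≫ (Scheme.ΓSpecIso _).hom := ⟨_, rfl⟩
  obtain ⟨T, hTI, hT⟩ := exists_finset_kills ev.hom (RingHom.ker π.toRingHom)
  have hle : Ideal.span (T : Set (MvPolynomial (Fin n) R₀)) ≤ RingHom.ker π.toRingHom :=
    Ideal.span_le.2 hTI
  obtain ⟨f', hf'def⟩ : ∃ f' : R₀ ⟶ CommRingCat.of (MvPolynomial (Fin n) R₀ ⧸
      Ideal.span (T : Set (MvPolynomial (Fin n) R₀))), f' = CommRingCat.ofHom (algebraMap _ _) :=
    ⟨_, rfl⟩
  obtain ⟨j, hjdef⟩ : ∃ j : CommRingCat.of (MvPolynomial (Fin n) R₀ ⧸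
      Ideal.span (T : Set (MvPolynomial (Fin n) R₀))) ⟶ A₀,
      j = CommRingCat.ofHom (Ideal.Quotient.lift _ π.toRingHom (fun a ha => hle ha)) := ⟨_, rfl⟩
  have hj : Function.Surjective j.hom := by
    rw [hjdef]
    exact Ideal.Quotient.lift_surjective_of_surjective _ _ hπ
  have hfj : f' ≫ j = f := by
    rw [hf'def, hjdef]
    ext r
    exact π.commutes r
  have hf'fp : f'.hom.FinitePresentation := by
    rw [hf'def]
    change (algebraMap R₀ (MvPolynomial (Fin n) R₀ ⧸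
      Ideal.span (T : Set (MvPolynomial (Fin n) R₀)))).FinitePresentation
    rw [RingHom.finitePresentation_algebraMap]
    exact Algebra.FinitePresentation.quotient ⟨T, rfl⟩
  -- the key vanishing
  have K : ∀ (T' : Scheme.{u}) (a : T' ⟶ Spec (CommRingCat.of (MvPolynomial (Fin n) R₀ ⧸
      Ideal.span (T : Set (MvPolynomial (Fin n) R₀)))))
      (b : T' ⟶ Spec ((Spec R₀).residueField w)),
      a ≫ Spec.map f' = b ≫ (Spec R₀).fromSpecResidueField w →
      ∀ x, j.hom x = 0 → ((Scheme.ΓSpecIso _).inv ≫ a.appTop).hom x = 0 := by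
    intro T' a b hab x hx
    obtain ⟨y, rfl⟩ := Ideal.Quotient.mk_surjective x
    have hy : y ∈ RingHom.ker π.toRingHom := by
      rw [RingHom.mem_ker]
      rw [hjdef] at hx
      exact hx
    have hcomp : f' ≫ (Scheme.ΓSpecIso _).inv ≫ a.appTop =
        ev ≫ (Scheme.ΓSpecIso _).inv ≫ b.appTop := by
      rw [← ΓSpecIso_inv_appTop_comp, hab, hev, Scheme.Hom.comp_appTop]
      simp only [Category.assoc, Iso.hom_inv_id_assoc]
    refine hT Γ(T', ⊤) (((Scheme.ΓSpecIso _).inv ≫ a.appTop).hom.comp (Ideal.Quotient.mk _))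
      ((Scheme.ΓSpecIso _).inv ≫ b.appTop).hom ?_ ?_ y hy
    · ext r
      have := congrArg (fun k => k.hom r) hcomp
      rw [hf'def] at this
      exact this
    · intro t ht
      rw [RingHom.comp_apply, Ideal.Quotient.eq_zero_iff_mem.2 (Ideal.subset_span ht), map_zero]
  subst hfj
  have sqV' := isPullback_fibre_of_surjective f' j hj w iV πV sqV K
  have e1 : Spec.map (j ≫ g) ≫ Spec.map f' = Spec.map g ≫ Spec.map (f' ≫ j) := by
    rw [Spec.map_comp, Spec.map_comp, Category.assoc]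
  have key := flat_of_fibre_flat_Spec_fp f' (j ≫ g) hf'fp (by rw [← Category.assoc]; exact hfg) w
    iU πU (iV ≫ Spec.map j) πV (by rw [e1]; exact sqU) sqV' φ
    (by rw [← Category.assoc, h1, Category.assoc, ← Spec.map_comp]) h2 t
    (by
      have : Spec.map (j ≫ g) ≫ Spec.map f' = Spec.map g ≫ Spec.map (f' ≫ j) := e1
      rw [this]; exact hfl) hφ
  have hp : ((Spec.map g).stalkMap (iU t)).hom.Flat := by
    haveI : IsClosedImmersion (Spec.map j) := IsClosedImmersion.spec_of_surjective j hj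
    have hc : IsPullback (𝟙 _) (Spec.map g) (Spec.map (j ≫ g)) (Spec.map j) := by
      rw [Spec.map_comp]
      exact isPullback_id_comp_mono _ _
    exact flat_stalkMap_baseChange hc (iU t) key.2
  refine ⟨?_, hp⟩
  have hfl' := hfl
  rw [Scheme.Hom.stalkMap_comp] at hfl'
  exact flat_of_comp_of_flat_local _ _ hp hfl'

end Groth.Agent.Lib.Helper14.AS
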