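import Mathlib
import Groth.Agent.Lib.Helper14.FPFib3

universe u
set_option linter.style.haveILetI false
set_option linter.unusedSectionVars false
open CategoryTheory CategoryTheory.Limits AlgebraicGeometry Opposite Topology IsLocalRing

namespace Groth.Agent.Lib.Helper14.AS

/-- pulling back along a mono and adjusting by an iso -/
theorem isPullback_comp_mono_iso {C : Type*} [Category C] {P X K K' Z Z' : C} {a : P ⟶ X}
    {b : P ⟶ K} {f : X ⟶ Z} {c₀ : K ⟶ Z} (sq : IsPullback a b f c₀) (m : Z ⟶ Z') [Mono m]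
    (r : K ⟶ K') [IsIso r] (c : K' ⟶ Z') (hc : r ≫ c = c₀ ≫ m) :
    IsPullback a (b ≫ r) (f ≫ m) c := by
  refine isPullback_of_exists_unique_sch ?_ ?_ ?_
  · rw [Category.assoc, hc, ← Category.assoc, sq.w, Category.assoc]
  · intro T x y h
    have h' : x ≫ f = (y ≫ inv r) ≫ c₀ := by
      rw [← cancel_mono m, Category.assoc, h, Category.assoc, Category.assoc, ← hc,
        IsIso.inv_hom_id_assoc]
    refine ⟨sq.lift x (y ≫ inv r) h', sq.lift_fst _ _ _, ?_⟩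
    rw [← Category.assoc, sq.lift_snd, Category.assoc, IsIso.inv_hom_id, Category.comp_id]
  · intro T z z' h1 h2
    apply sq.hom_ext h1
    rw [← cancel_mono r, Category.assoc, Category.assoc]
    exact h2

theorem flat_stalkMap_comp_openImm_right {U' V' V : Scheme.{u}} (h' : U' ⟶ V') (b : V' ⟶ V)
    [IsOpenImmersion b] (k : U' ⟶ V) (hk : k = h' ≫ b) (u' : U') :
    (k.stalkMap u').hom.Flat ↔ (h'.stalkMap u').hom.Flat := by
  subst hk
  rw [Scheme.Hom.stalkMap_comp]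
  exact RingHom.Flat.respectsIso.cancel_left_isIso (b.stalkMap (h' u')) (h'.stalkMap u')

theorem flat_stalkMap_comp_openImm_left {U' U V : Scheme.{u}} (a : U' ⟶ U) (h : U ⟶ V)
    [IsOpenImmersion a] (k : U' ⟶ V) (hk : k = a ≫ h) (u' : U') :
    (k.stalkMap u').hom.Flat ↔ (h.stalkMap (a u')).hom.Flat := by
  subst hk
  rw [Scheme.Hom.stalkMap_comp]
  exact RingHom.Flat.respectsIso.cancel_right_isIso (h.stalkMap (a u')) (a.stalkMap u')

/-- flatness at a point is insensitive to open immersions on source and target -/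
theorem flat_stalkMap_openImm_iff {U V U' V' : Scheme.{u}} (h : U ⟶ V) (h' : U' ⟶ V')
    (a : U' ⟶ U) (b : V' ⟶ V) [IsOpenImmersion a] [IsOpenImmersion b]
    (comm : h' ≫ b = a ≫ h) (u' : U') :
    (h'.stalkMap u').hom.Flat ↔ (h.stalkMap (a u')).hom.Flat :=
  (flat_stalkMap_comp_openImm_right h' b _ rfl u').symm.trans
    (flat_stalkMap_comp_openImm_left a h _ comm u')



theorem exists_pt_of_isPullback {P X Y Z : Scheme.{u}} {fst : P ⟶ X} {snd : P ⟶ Y}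
    {f : X ⟶ Z} {g : Y ⟶ Z} (sq : IsPullback fst snd f g) (x : X) (y : Y)
    (h : f x = g y) : ∃ z : P, fst z = x ∧ snd z = y := by
  obtain ⟨z, hz1, hz2⟩ := Scheme.Pullback.exists_preimage_pullback x y h
  refine ⟨sq.isoPullback.inv z, ?_, ?_⟩
  · rw [← hz1, ← Scheme.Hom.comp_apply, sq.isoPullback_inv_fst]
  · rw [← hz2, ← Scheme.Hom.comp_apply, sq.isoPullback_inv_snd]

set_option maxHeartbeats 1000000 in
/-- **Critère de platitude par fibres**, finite presentation case (no Noetherian hypotheses). -/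
theorem flat_of_fibre_flat_fp {U V W : Scheme.{u}} (p : U ⟶ V) (q : V ⟶ W)
    [LocallyOfFinitePresentation (p ≫ q)] [LocallyOfFiniteType q]
    (w : W) {Uw Vw : Scheme.{u}} (iU : Uw ⟶ U) (πU : Uw ⟶ Spec (W.residueField w))
    (iV : Vw ⟶ V) (πV : Vw ⟶ Spec (W.residueField w))
    (sqU : IsPullback iU πU (p ≫ q) (W.fromSpecResidueField w))
    (sqV : IsPullback iV πV q (W.fromSpecResidueField w))
    (φ : Uw ⟶ Vw) (h1 : φ ≫ iV = iU ≫ p) (h2 : φ ≫ πV = πU) (t : Uw)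
    (hfl : ((p ≫ q).stalkMap (iU t)).hom.Flat) (hφ : (φ.stalkMap t).hom.Flat) :
    (q.stalkMap (p (iU t))).hom.Flat ∧ (p.stalkMap (iU t)).hom.Flat := by
  have hw : q (p (iU t)) = w := by
    have := congrArg (fun k : Uw ⟶ W => k t) sqU.w
    simp only [Scheme.Hom.comp_apply, Scheme.fromSpecResidueField_apply] at this
    exact this
  obtain ⟨W₀, hW₀, hwW₀⟩ : ∃ W₀ : W.Opens, IsAffineOpen W₀ ∧ w ∈ W₀ := by
    obtain ⟨_, ⟨W₀, hW₀ : IsAffineOpen W₀, rfl⟩, hx, -⟩ :=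
      W.isBasis_affineOpens.exists_subset_of_mem_open (Set.mem_univ w) isOpen_univ
    exact ⟨W₀, hW₀, hx⟩
  obtain ⟨V₀, hV₀, hyV₀, hVW⟩ : ∃ V₀ : V.Opens, IsAffineOpen V₀ ∧ p (iU t) ∈ V₀ ∧
      V₀ ≤ q ⁻¹ᵁ W₀ := by
    obtain ⟨_, ⟨V₀, hV₀ : IsAffineOpen V₀, rfl⟩, hx, hsub⟩ :=
      V.isBasis_affineOpens.exists_subset_of_mem_open
        (show p (iU t) ∈ (q ⁻¹ᵁ W₀ : Set V) by
          change q (p (iU t)) ∈ W₀
          rw [hw]; exact hwW₀) (q ⁻¹ᵁ W₀).isOpen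
    exact ⟨V₀, hV₀, hx, hsub⟩
  obtain ⟨U₀, hU₀, hxU₀, hUV⟩ : ∃ U₀ : U.Opens, IsAffineOpen U₀ ∧ iU t ∈ U₀ ∧
      U₀ ≤ p ⁻¹ᵁ V₀ := by
    obtain ⟨_, ⟨U₀, hU₀ : IsAffineOpen U₀, rfl⟩, hx, hsub⟩ :=
      U.isBasis_affineOpens.exists_subset_of_mem_open
        (show iU t ∈ (p ⁻¹ᵁ V₀ : Set U) from hyV₀) (p ⁻¹ᵁ V₀).isOpen
    exact ⟨U₀, hU₀, hx, hsub⟩
  obtain ⟨f, hfdef⟩ : ∃ f : Γ(W, W₀) ⟶ Γ(V, V₀), f = q.appLE W₀ V₀ hVW := ⟨_, rfl⟩
  obtain ⟨g, hgdef⟩ : ∃ g : Γ(V, V₀) ⟶ Γ(U, U₀), g = p.appLE V₀ U₀ hUV := ⟨_, rfl⟩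
  have hf : f.hom.FiniteType := by
    rw [hfdef]
    exact HasRingHomProperty.appLE (P := @LocallyOfFiniteType) q inferInstance ⟨W₀, hW₀⟩
      ⟨V₀, hV₀⟩ hVW
  have hfg : (f ≫ g).hom.FinitePresentation := by
    rw [hfdef, hgdef, Scheme.Hom.appLE_comp_appLE]
    exact HasRingHomProperty.appLE (P := @LocallyOfFinitePresentation) (p ≫ q) inferInstance
      ⟨W₀, hW₀⟩ ⟨U₀, hU₀⟩ _
  have cV : Spec.map f ≫ hW₀.fromSpec = hV₀.fromSpec ≫ q := by
    rw [hfdef]; exact hW₀.SpecMap_appLE_fromSpec q hV₀ hVW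
  have cU : Spec.map g ≫ hV₀.fromSpec = hU₀.fromSpec ≫ p := by
    rw [hgdef]; exact hV₀.SpecMap_appLE_fromSpec p hU₀ hUV
  obtain ⟨w₀, hw₀⟩ : ∃ w₀, hW₀.fromSpec w₀ = w := by
    have : w ∈ Set.range hW₀.fromSpec := by rw [hW₀.range_fromSpec]; exact hwW₀
    exact this
  subst hw₀
  obtain ⟨x₀, hx₀⟩ : ∃ x₀, hU₀.fromSpec x₀ = iU t := by
    have : iU t ∈ Set.range hU₀.fromSpec := by rw [hU₀.range_fromSpec]; exact hxU₀
    exact this
  -- canonical fibres of the affine charts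
  have sq₀U := IsPullback.of_hasPullback (Spec.map g ≫ Spec.map f)
    ((Spec Γ(W, W₀)).fromSpecResidueField w₀)
  have sq₀V := IsPullback.of_hasPullback (Spec.map f) ((Spec Γ(W, W₀)).fromSpecResidueField w₀)
  obtain ⟨φ₀, h1₀, h2₀⟩ : ∃ φ₀ : pullback (Spec.map g ≫ Spec.map f)
      ((Spec Γ(W, W₀)).fromSpecResidueField w₀) ⟶
      pullback (Spec.map f) ((Spec Γ(W, W₀)).fromSpecResidueField w₀),
      φ₀ ≫ pullback.fst _ _ = pullback.fst _ _ ≫ Spec.map g ∧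
      φ₀ ≫ pullback.snd _ _ = pullback.snd _ _ :=
    ⟨pullback.lift (pullback.fst _ _ ≫ Spec.map g) (pullback.snd _ _)
      (by rw [Category.assoc]; exact pullback.condition), pullback.lift_fst _ _ _,
      pullback.lift_snd _ _ _⟩
  have hr : Spec.map (hW₀.fromSpec.residueFieldMap w₀) ≫
      W.fromSpecResidueField (hW₀.fromSpec w₀) =
      (Spec Γ(W, W₀)).fromSpecResidueField w₀ ≫ hW₀.fromSpec :=
    Scheme.Hom.SpecMap_residueFieldMap_fromSpecResidueField _ _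
  have outerU := isPullback_comp_mono_iso sq₀U hW₀.fromSpec
    (Spec.map (hW₀.fromSpec.residueFieldMap w₀)) _ hr
  have outerV := isPullback_comp_mono_iso sq₀V hW₀.fromSpec
    (Spec.map (hW₀.fromSpec.residueFieldMap w₀)) _ hr
  have eU : (Spec.map g ≫ Spec.map f) ≫ hW₀.fromSpec = hU₀.fromSpec ≫ p ≫ q := by
    rw [Category.assoc, cV, ← Category.assoc, cU, Category.assoc]
  rw [eU] at outerU
  rw [cV] at outerV
  obtain ⟨aU, haU1, haU2⟩ : ∃ aU : pullback (Spec.map g ≫ Spec.map f)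
      ((Spec Γ(W, W₀)).fromSpecResidueField w₀) ⟶ Uw,
      aU ≫ iU = pullback.fst _ _ ≫ hU₀.fromSpec ∧
      aU ≫ πU = pullback.snd _ _ ≫ Spec.map (hW₀.fromSpec.residueFieldMap w₀) :=
    ⟨sqU.lift _ _ (by rw [Category.assoc]; exact outerU.w), sqU.lift_fst _ _ _, sqU.lift_snd _ _ _⟩
  obtain ⟨aV, haV1, haV2⟩ : ∃ aV : pullback (Spec.map f)
      ((Spec Γ(W, W₀)).fromSpecResidueField w₀) ⟶ Vw,
      aV ≫ iV = pullback.fst _ _ ≫ hV₀.fromSpec ∧
      aV ≫ πV = pullback.snd _ _ ≫ Spec.map (hW₀.fromSpec.residueFieldMap w₀) :=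
    ⟨sqV.lift _ _ (by rw [Category.assoc]; exact outerV.w), sqV.lift_fst _ _ _, sqV.lift_snd _ _ _⟩
  have topU : IsPullback (pullback.fst (Spec.map g ≫ Spec.map f)
      ((Spec Γ(W, W₀)).fromSpecResidueField w₀)) aU hU₀.fromSpec iU :=
    IsPullback.of_bot (by rw [haU2]; exact outerU) haU1.symm sqU
  have topV : IsPullback (pullback.fst (Spec.map f)
      ((Spec Γ(W, W₀)).fromSpecResidueField w₀)) aV hV₀.fromSpec iV :=
    IsPullback.of_bot (by rw [haV2]; exact outerV) haV1.symm sqV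
  haveI : IsOpenImmersion aU := MorphismProperty.of_isPullback (P := @IsOpenImmersion) topU
    inferInstance
  haveI : IsOpenImmersion aV := MorphismProperty.of_isPullback (P := @IsOpenImmersion) topV
    inferInstance
  have hsq : φ₀ ≫ aV = aU ≫ φ := by
    apply sqV.hom_ext
    · rw [Category.assoc, haV1, ← Category.assoc, h1₀, Category.assoc, cU, Category.assoc, h1,
        ← Category.assoc aU, haU1, Category.assoc]
    · rw [Category.assoc, haV2, ← Category.assoc, h2₀, Category.assoc, h2, haU2]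
  obtain ⟨t₀, ht₀1, ht₀2⟩ := exists_pt_of_isPullback topU x₀ t hx₀
  -- hypotheses for the affine charts
  have hfl₀ : ((Spec.map g ≫ Spec.map f).stalkMap (pullback.fst (Spec.map g ≫ Spec.map f)
      ((Spec Γ(W, W₀)).fromSpecResidueField w₀) t₀)).hom.Flat := by
    rw [ht₀1]
    rw [flat_stalkMap_openImm_iff (p ≫ q) (Spec.map g ≫ Spec.map f) hU₀.fromSpec hW₀.fromSpec eU x₀,
      hx₀]
    exact hfl
  have hφ₀ : (φ₀.stalkMap t₀).hom.Flat := by
    rw [flat_stalkMap_openImm_iff φ φ₀ aU aV hsq t₀, ht₀2]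
    exact hφ
  obtain ⟨hq₀, hp₀⟩ := flat_of_fibre_flat_Spec f g hf hfg w₀ _ _ _ _ sq₀U sq₀V φ₀ h1₀ h2₀ t₀ hfl₀ hφ₀
  rw [ht₀1] at hq₀ hp₀
  constructor
  · have := (flat_stalkMap_openImm_iff q (Spec.map f) hV₀.fromSpec hW₀.fromSpec cV
      (Spec.map g x₀)).1 hq₀
    have e : hV₀.fromSpec (Spec.map g x₀) = p (iU t) := by
      rw [← Scheme.Hom.comp_apply, cU, Scheme.Hom.comp_apply, hx₀]
    exact flat_stalkMap_pt q e this
  · have := (flat_stalkMap_openImm_iff p (Spec.map g) hU₀.fromSpec hV₀.fromSpec cU x₀).1 hp₀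
    exact flat_stalkMap_pt p hx₀ this

end Groth.Agent.Lib.Helper14.AS
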