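import Groth.Agent.Lib.Helper14.RedInd

/-!
# The scheme theoretic image of a reduced space is the reduced induced structure (helper14)
-/

universe u
open CategoryTheory CategoryTheory.Limits AlgebraicGeometry Opposite Topology

namespace Groth.Agent.Lib.Helper14.AS

open AlgSp Groth.Agent.Lib.Helper14.AS
open Scheme.IdealSheafData

variable {S : Scheme.{u}}

set_option backward.isDefEq.respectTransparency.types false in
/-- A point of a chart factors through a closed subspace as soon as the ideal of the pullback of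
the closed subspace kills it. -/
theorem factors_of_ker_le {Y Z' : Sp S} (i' : Z' ⟶ Y) (hi' : RepWith @IsClosedImmersion i')
    {V T : Over S} (b : (yon S).obj V ⟶ Y) (t : T ⟶ V)
    (h : (hi'.rep.snd b).left.ker ≤ t.left.ker) :
    ∃ l : (yon S).obj T ⟶ Z', l ≫ i' = (yon S).map t ≫ b := by
  have sq := hi'.rep.isPullback b
  have hc : IsClosedImmersion (hi'.rep.snd b).left := hi'.property_snd b
  let k₀ : T.left ⟶ (hi'.rep.pullback b).left :=
    IsClosedImmersion.lift (hi'.rep.snd b).left t.left h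
  have hk₀ : k₀ ≫ (hi'.rep.snd b).left = t.left := IsClosedImmersion.lift_fac _ _ _
  let k : T ⟶ hi'.rep.pullback b := Over.homMk k₀ (by
    rw [← Over.w (hi'.rep.snd b), ← Category.assoc, hk₀, Over.w])
  have hk : k ≫ hi'.rep.snd b = t := by
    apply Over.OverMorphism.ext
    exact hk₀
  refine ⟨(yon S).map k ≫ hi'.rep.fst b, ?_⟩
  rw [Category.assoc, sq.w, ← Functor.map_comp_assoc, hk]

set_option backward.isDefEq.respectTransparency.types false in
/-- A morphism from a reduced space factors through the reduced induced structure on any closed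
set containing its image. -/
theorem factors_redFam_of_reduced {X Y : Sp S} (hX : IsReducedSp X) (f : X ⟶ Y)
    (T : Set (Points Y)) (hT : IsClosed T) (hfT : Set.range (Points.map f) ⊆ T) :
    ∃ f' : X ⟶ (redFam T hT).pred.sheaf, f' ≫ (redFam T hT).pred.ι = f := by
  obtain ⟨U₀, p₀, hp₀e, hp₀s, hU₀⟩ := hX
  have : Sheaf.IsLocallySurjective p₀ := isLocallySurjective_of_etale_surjective p₀ hp₀e hp₀s
  rw [(redFam T hT).pred.factors_iff]
  intro T' x V _ b hb T'' t v hv
  -- the reduced scheme `E = U₀ ×_Y V`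
  have sqE := hb.rep.isPullback' (p₀ ≫ f)
  have hEe : Etale (hb.rep.snd (p₀ ≫ f)).left := hb.property_snd (p₀ ≫ f)
  have hEred : IsReduced (hb.rep.pullback (p₀ ≫ f)).left :=
    Groth.Agent.Lib.Helper14.isReduced_of_etale_scheme (hb.rep.snd (p₀ ≫ f)).left
  have hK : (redFam T hT).K b ≤ (hb.rep.fst' (p₀ ≫ f)).left.ker := by
    rw [Groth.Agent.Lib.Helper16.ker_eq_vanishingIdeal_of_isReduced]
    apply Scheme.IdealSheafData.vanishingIdeal_antimono
    change closure (Set.range (hb.rep.fst' (p₀ ≫ f)).left) ⊆ Points.ofPt b ⁻¹' T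
    refine closure_minimal ?_ (hT.preimage (Points.continuous_ofPt b))
    rintro _ ⟨e, rfl⟩
    apply hfT
    refine ⟨Points.ofPt ((yon S).map (hb.rep.snd (p₀ ≫ f)) ≫ p₀) e, ?_⟩
    rw [Points.map_ofPt, Category.assoc, ← sqE.w, ofPt_yon_map_comp]
  obtain ⟨R, hR, hl⟩ := exists_cover_lift p₀ ((yon S).map t ≫ x)
  refine le_ker_of_locally _ v (Sieve.generate R) ((mem_J_iff _).2 ⟨R, hR, Sieve.le_generate R⟩) ?_
  rintro W w ⟨W', a, r, hr, rfl⟩
  obtain ⟨l, hl⟩ := hl r hr
  obtain ⟨ε, hε⟩ := (yon S).map_surjective (sqE.lift ((yon S).map (r ≫ v)) l (by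
    rw [← Category.assoc l, hl, Category.assoc, Category.assoc, hv, Functor.map_comp,
      Category.assoc]))
  have h1 : ε ≫ hb.rep.fst' (p₀ ≫ f) = r ≫ v := by
    apply (yon S).map_injective
    rw [Functor.map_comp, hε, sqE.lift_fst]
  rw [Category.assoc, ← h1, Over.comp_left, Over.comp_left]
  exact hK.trans ((Scheme.Hom.le_ker_comp _ _).trans (Scheme.Hom.le_ker_comp _ _))

set_option backward.isDefEq.respectTransparency.types false in
/-- The reduced induced structure on a closed set is contained in every closed subspace whose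
points contain the set. -/
theorem redFam_le_of_closed {Y Z : Sp S} (hY : IsAlgSpace Y) (i : Z ⟶ Y)
    (hi : RepWith @IsClosedImmersion i) (T : Set (Points Y)) (hT : IsClosed T)
    (hTi : T ⊆ Set.range (Points.map i)) :
    ∃ k : (redFam T hT).pred.sheaf ⟶ Z, k ≫ i = (redFam T hT).pred.ι := by
  have : Mono i := mono_of_repWith_isClosedImmersion hi
  apply exists_lift_of_points i (redFam T hT).pred.ι
  intro T' x
  have hP : (redFam T hT).pred.P (x ≫ (redFam T hT).pred.ι) :=
    ((redFam T hT).pred.P_iff _).2 ⟨x, rfl⟩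
  refine exists_lift_of_pointwise i _ fun y => ?_
  obtain ⟨W, V₀, hV₀, w, t₀, b₀, hb₀, hwe, hyw, hcomm⟩ :=
    (redFam T hT).exists_chart_at hY (x ≫ (redFam T hT).pred.ι) y
  refine ⟨W, w, inferInstance, inferInstance, hyw, ?_⟩
  rw [hcomm]
  apply factors_of_ker_le i hi
  have hK : (redFam T hT).K b₀ ≤ t₀.left.ker := by
    rw [← (redFam T hT).pred_iff hV₀ b₀ hb₀, ← hcomm]
    exact (redFam T hT).pred.comp _ _ hP
  refine le_trans ?_ hK
  have hc : IsClosedImmersion (hi.rep.snd b₀).left := hi.property_snd b₀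
  refine (Scheme.IdealSheafData.le_radical _).trans ?_
  rw [← Scheme.IdealSheafData.vanishingIdeal_support]
  apply Scheme.IdealSheafData.vanishingIdeal_antimono
  change Points.ofPt b₀ ⁻¹' T ⊆ ((hi.rep.snd b₀).left.ker.support : Set _)
  rw [Scheme.Hom.support_ker, range_snd_eq_preimage (hi.rep.isPullback b₀)]
  exact subset_closure.trans' (Set.preimage_mono hTi)

/-- The scheme theoretic image of a morphism from a reduced space is the reduced induced
structure on the closure of the image. -/
theorem isRedInduced_of_isSchImage_of_reduced {X Y Z : Sp S} (hY : IsAlgSpace Y)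
    (hX : IsReducedSp X) (f : X ⟶ Y) (i : Z ⟶ Y) (hZ : IsSchImage f i) :
    IsRedInduced (closure (Set.range (Points.map f))) i := by
  have hT : IsClosed (closure (Set.range (Points.map f))) := isClosed_closure
  obtain ⟨hZr, hred1, hred2, hred3⟩ := isRedInduced_redFam hY _ hT
  obtain ⟨f', hf'⟩ := factors_redFam_of_reduced hX f _ hT subset_closure
  obtain ⟨k', hk'⟩ := hZ.2.2 (redFam _ hT).pred.ι hZr hred1 ⟨f', hf'⟩
  have hcl : IsClosed (Set.range (Points.map i)) :=
    (isClosedMap_points_of_repWith_universallyClosed hY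
      (repWith_mono isClosedImmersion_le_universallyClosed hZ.1)).isClosed_range
  obtain ⟨f₀, hf₀⟩ := hZ.2.1
  have hTi : closure (Set.range (Points.map f)) ⊆ Set.range (Points.map i) := by
    refine closure_minimal ?_ hcl
    rintro _ ⟨x, rfl⟩
    exact ⟨Points.map f₀ x, by rw [← Points.map_comp, hf₀]⟩
  obtain ⟨k, hk⟩ := redFam_le_of_closed hY i hZ.1 _ hT hTi
  have : Mono i := mono_of_repWith_isClosedImmersion hZ.1
  have : Mono (redFam _ hT).pred.ι := mono_of_repWith_isClosedImmersion hred1
  have h1 : k' ≫ k = 𝟙 Z := by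
    rw [← cancel_mono i, Category.assoc, hk, hk', Category.id_comp]
  have h2 : k ≫ k' = 𝟙 _ := by
    rw [← cancel_mono (redFam _ hT).pred.ι, Category.assoc, hk', hk, Category.id_comp]
  have : IsIso k := ⟨k', h2, h1⟩
  refine ⟨hZ.1, ?_, ?_⟩
  · apply Set.Subset.antisymm _ hTi
    rintro _ ⟨z, rfl⟩
    rw [← hred2, ← hk', Points.map_comp]
    exact ⟨_, rfl⟩
  · obtain ⟨U, p, hpe, hps, hU⟩ := hred3
    exact ⟨U, p ≫ k, MorphismProperty.RespectsIso.postcomp _ k p hpe,
      MorphismProperty.RespectsIso.postcomp _ k p hps, hU⟩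

end Groth.Agent.Lib.Helper14.AS
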