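import Groth.Agent.Lib.Helper14.SchImg9
import Groth.Agent.Lib.Helper14.RedInd2
import Groth.Agent.Lib.Helper1.IdealSheafComap
import Groth.Prelude.Def_AlgSpModX

/-!
# The kernel ideal sheaf of a quasi-compact representable morphism (helper14)
-/

universe u
open CategoryTheory CategoryTheory.Limits AlgebraicGeometry Opposite Topology

namespace Groth.Agent.Lib.Helper14.AS

open AlgSp Groth.Agent.Lib.Helper14.AS
open Groth.Agent.Lib.Helper25.ClosedDescent

variable {S : Scheme.{u}}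

theorem ker_appTop_eq_ideal_top {W V : Scheme.{u}} [IsAffine V] (u : W ⟶ V) [QuasiCompact u] :
    RingHom.ker u.appTop.hom = u.ker.ideal ⟨⊤, isAffineOpen_top V⟩ :=
  (Scheme.Hom.ker_apply u ⟨⊤, isAffineOpen_top V⟩).symm

theorem ker_eq_of_ker_appTop_eq {W W' V : Scheme.{u}} [IsAffine V] (u : W ⟶ V) (r : W' ⟶ V)
    [QuasiCompact u] [QuasiCompact r] (h : RingHom.ker r.appTop.hom = RingHom.ker u.appTop.hom) :
    r.ker = u.ker := by
  apply Scheme.IdealSheafData.ext_of_isAffine
  rw [← ker_appTop_eq_ideal_top, ← ker_appTop_eq_ideal_top, h]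

set_option backward.isDefEq.respectTransparency.types false in
/-- The ideal of the pullback of the scheme theoretic image to a chart. -/
theorem ker_snd_eq_imgKer {X Y Z : Sp S} (hY : IsAlgSpace Y) {f : X ⟶ Y}
    (hq : IsQuasiCompactMor f) (i : Z ⟶ Y) (hZ : IsSchImage f i) {V : Over S}
    (b : (yon S).obj V ⟶ Y) (hb : RepWith @Etale b) :
    (hZ.1.rep.snd b).left.ker = imgKer f b := by
  have sq := hZ.1.rep.isPullback b
  apply le_antisymm
  · obtain ⟨l, hl⟩ := (isSchImage_factors_iff' hY hq i hZ b hb (subOverι (imgKer f b))).2 (by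
      change imgKer f b ≤ (imgKer f b).subschemeι.ker
      rw [Scheme.IdealSheafData.ker_subschemeι])
    obtain ⟨t', ht'⟩ := (yon S).map_surjective (sq.lift l ((yon S).map (subOverι (imgKer f b))) hl)
    have : t' ≫ hZ.1.rep.snd b = subOverι (imgKer f b) := by
      apply (yon S).map_injective
      rw [Functor.map_comp, ht', sq.lift_snd]
    have h2 : (hZ.1.rep.snd b).left.ker ≤ (subOverι (imgKer f b)).left.ker := by
      rw [← this, Over.comp_left]
      exact Scheme.Hom.le_ker_comp _ _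
    refine h2.trans ?_
    change (imgKer f b).subschemeι.ker ≤ _
    rw [Scheme.IdealSheafData.ker_subschemeι]
  · exact (isSchImage_factors_iff' hY hq i hZ b hb (hZ.1.rep.snd b)).1 ⟨hZ.1.rep.fst b, sq.w⟩

set_option backward.isDefEq.respectTransparency.types false in
theorem ker_appTop_le_map_of_isPullback {W' W V' V : Scheme.{u}} [IsAffine V] [IsAffine V']
    {g' : W' ⟶ W} {u' : W' ⟶ V'} {u : W ⟶ V} {w : V' ⟶ V} (H : IsPullback g' u' u w) [Flat w]
    [QuasiCompact u] [QuasiCompact u'] :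
    RingHom.ker u'.appTop.hom ≤ (RingHom.ker u.appTop.hom).map w.appTop.hom := by
  have h1 := comap_map_eq_of_isPullback H ⊥
  rw [Scheme.IdealSheafData.map_bot, (Scheme.IdealSheafData.map_gc _).l_bot,
    Scheme.IdealSheafData.map_bot] at h1
  rw [ker_appTop_eq_ideal_top, ker_appTop_eq_ideal_top, ← h1,
    Groth.Agent.Lib.Helper1.ideal_comap _ w ⟨⊤, isAffineOpen_top _⟩
      ⟨⊤, isAffineOpen_top _⟩ le_rfl]
  have : w.appLE ⊤ ⊤ le_rfl = w.appTop := Scheme.Hom.appLE_eq_app w
  exact le_of_eq (by rw [← this])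

set_option backward.isDefEq.respectTransparency.types false in
theorem idealOfRep_isQCoh {X Y : Sp S} {f : X ⟶ Y} (hf : Representable f)
    (hqc : IsQuasiCompactMor f) : (idealOfRep hf).IsQCoh := by
  intro E E' g hE hE'
  have hqcR := repWith_quasiCompact_of_isQuasiCompactMor hf hqc
  have hu : QuasiCompact (hf.snd E.obj.hom).left :=
    hqcR.property E.obj.hom _ _ (hf.isPullback E.obj.hom)
  have hu' : QuasiCompact (hf.snd E'.obj.hom).left :=
    hqcR.property E'.obj.hom _ _ (hf.isPullback E'.obj.hom)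
  have hw : Etale g.hom.left.left := EtOver.etale_left g
  have hpb := EtOver.isPullback_bcMap_left hf g
  exact @ker_appTop_le_map_of_isPullback _ _ _ _ hE hE' _ _ _ _ hpb inferInstance hu hu'

set_option backward.isDefEq.respectTransparency.types false in
theorem imgKer_eq_ker_snd {X Y : Sp S} {f : X ⟶ Y} (hf : Representable f) {V : Over S}
    (b : (yon S).obj V ⟶ Y) : imgKer f b = (hf.snd b).left.ker :=
  (ImgChart.ofIsPullback (hf.isPullback b)).imgKer_eq

set_option backward.isDefEq.respectTransparency.types false in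
theorem isCutOutBy_of_isSchImage {X Y Z : Sp S} (hY : IsAlgSpace Y) {f : X ⟶ Y}
    (hf : Representable f) (hqc : IsQuasiCompactMor f) (i : Z ⟶ Y) (hZ : IsSchImage f i) :
    IsCutOutBy (idealOfRep hf) i := by
  refine ⟨hZ.1, ?_⟩
  apply IdealEt.ext
  funext E hE
  have hqcR := repWith_quasiCompact_of_isQuasiCompactMor hf hqc
  have hu : QuasiCompact (hf.snd E.obj.hom).left :=
    hqcR.property E.obj.hom _ _ (hf.isPullback E.obj.hom)
  have hc : IsClosedImmersion (hZ.1.rep.snd E.obj.hom).left := hZ.1.property_snd E.obj.hom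
  change RingHom.ker (hZ.1.rep.snd E.obj.hom).left.appTop.hom =
    RingHom.ker (hf.snd E.obj.hom).left.appTop.hom
  rw [ker_appTop_eq_ideal_top, ker_appTop_eq_ideal_top,
    ker_snd_eq_imgKer hY hqc i hZ E.obj.hom E.property, imgKer_eq_ker_snd hf]

set_option backward.isDefEq.respectTransparency.types false in
theorem isSchImage_of_isCutOutBy {X Y Z : Sp S} (hY : IsAlgSpace Y) {f : X ⟶ Y}
    (hf : Representable f) (hqc : IsQuasiCompactMor f) (i : Z ⟶ Y)
    (hZ : IsCutOutBy (idealOfRep hf) i) : IsSchImage f i := by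
  obtain ⟨hi, heq⟩ := hZ
  have hqcR := repWith_quasiCompact_of_isQuasiCompactMor hf hqc
  -- on affine etale charts the ideal of `Z` is the scheme theoretic image ideal
  have key : ∀ (V₀ : Over S) (_ : IsAffine V₀.left) (b₀ : (yon S).obj V₀ ⟶ Y)
      (_ : RepWith @Etale b₀), (hi.rep.snd b₀).left.ker = imgKer f b₀ := by
    intro V₀ hV₀ b₀ hb₀
    have hu : QuasiCompact (hf.snd b₀).left := hqcR.property b₀ _ _ (hf.isPullback b₀)
    have hc : IsClosedImmersion (hi.rep.snd b₀).left := hi.property_snd b₀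
    rw [imgKer_eq_ker_snd hf]
    apply ker_eq_of_ker_appTop_eq
    exact congrArg (fun I : IdealEt Y => I.ideal (EtOver.mk b₀ hb₀) hV₀) heq
  obtain ⟨hZ', hι⟩ := isSchImage_qcImgPred hY hqc
  have : Mono i := mono_of_repWith_isClosedImmersion hi
  have : Mono (qcImgPred f).ι := mono_of_repWith_isClosedImmersion hι.1
  -- `Z ⊆ Z°`
  have h1 : ∃ k₁ : Z ⟶ (qcImgPred f).sheaf, k₁ ≫ (qcImgPred f).ι = i := by
    apply exists_lift_of_points (qcImgPred f).ι i
    intro T z
    refine exists_lift_of_pointwise (qcImgPred f).ι _ fun y => ?_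
    obtain ⟨W, V₀, hV₀, w, t₀, b₀, hb₀, hwe, hyw, hcomm⟩ := exists_affine_chart_at hY (z ≫ i) y
    refine ⟨W, w, inferInstance, inferInstance, hyw, ?_⟩
    rw [hcomm, isSchImage_factors_iff hY hqc _ hι b₀ hb₀, ← key V₀ hV₀ b₀ hb₀]
    have sq := hi.rep.isPullback b₀
    obtain ⟨l, hl⟩ := (yon S).map_surjective (sq.lift ((yon S).map w ≫ z) ((yon S).map t₀)
      (by rw [Category.assoc, hcomm]))
    have : l ≫ hi.rep.snd b₀ = t₀ := by
      apply (yon S).map_injective
      rw [Functor.map_comp, hl, sq.lift_snd]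
    rw [← this, Over.comp_left]
    exact Scheme.Hom.le_ker_comp _ _
  -- `Z° ⊆ Z`
  have h2 : ∃ k₂ : (qcImgPred f).sheaf ⟶ Z, k₂ ≫ i = (qcImgPred f).ι := by
    apply exists_lift_of_points i (qcImgPred f).ι
    intro T z
    refine exists_lift_of_pointwise i _ fun y => ?_
    obtain ⟨W, V₀, hV₀, w, t₀, b₀, hb₀, hwe, hyw, hcomm⟩ :=
      exists_affine_chart_at hY (z ≫ (qcImgPred f).ι) y
    refine ⟨W, w, inferInstance, inferInstance, hyw, ?_⟩
    rw [hcomm]
    apply factors_of_ker_le i hi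
    rw [key V₀ hV₀ b₀ hb₀, ← isSchImage_factors_iff hY hqc _ hι b₀ hb₀, ← hcomm]
    exact ⟨(yon S).map w ≫ z, by rw [Category.assoc]⟩
  obtain ⟨k₁, hk₁⟩ := h1
  obtain ⟨k₂, hk₂⟩ := h2
  obtain ⟨f₀, hf₀⟩ := hι.2.1
  refine ⟨hi, ⟨f₀ ≫ k₂, by rw [Category.assoc, hk₂, hf₀]⟩, ?_⟩
  intro Z' i' hZ'a hi' hfac
  obtain ⟨k', hk'⟩ := hι.2.2 i' hZ'a hi' hfac
  exact ⟨k₁ ≫ k', by rw [Category.assoc, hk', hk₁]⟩

end Groth.Agent.Lib.Helper14.AS
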