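import Groth.Agent.Lib.Helper14.FlatClosure1
import Groth.Agent.Lib.Helper14.SchImg10
import Groth.Agent.Lib.Helper14.AlgSpLocP3
import Groth.Prelude.Def_Neron

/-!
# Flat closure over a Dedekind domain for algebraic spaces (helper14)
-/

universe u
open CategoryTheory CategoryTheory.Limits AlgebraicGeometry Opposite Topology

namespace Groth.Agent.Lib.Helper14.AS

open AlgSp Groth.Agent.Lib.Helper14.AS

theorem hom_ext_terminal {S : Scheme.{u}} {F : Sp S}
    (a b : F ⟶ (yon S).obj (Over.mk (𝟙 S))) : a = b :=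
  (IsTerminal.isTerminalObj (yon S) _ Over.mkIdTerminal).hom_ext a b

/-- Scheme-level flatness of the scheme theoretic image of a scheme over the fraction field. -/
theorem flat_of_ker_eq_over_dedekind {R : Type u} [CommRing R] [IsDedekindDomain R]
    {V W Z : Scheme.{u}} (sV : V ⟶ Spec (CommRingCat.of R)) (u : W ⟶ V) [QuasiCompact u]
    (ι : Z ⟶ V) [IsClosedImmersion ι] (hker : ι.ker = u.ker)
    (c : W ⟶ Spec (CommRingCat.of (FractionRing R))) (hc : c ≫ Neron.genPt R = u ≫ sV) :
    Flat (ι ≫ sV) := by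
  obtain ⟨v, hv⟩ : ∃ v : W ⟶ Z, v ≫ ι = u :=
    ⟨IsClosedImmersion.lift ι u hker.le, IsClosedImmersion.lift_fac _ _ _⟩
  have hdom : IsSchemeTheoreticallyDominant v :=
    isSchemeTheoreticallyDominant_lift_of_ker_eq u ι v hv hker.ge
  have hqc : QuasiCompact v := by
    have : QuasiCompact (v ≫ ι) := by rw [hv]; infer_instance
    exact QuasiCompact.of_comp v ι
  refine flat_of_dominant_over_fractionField_dedekind (K := FractionRing R) (ι ≫ sV) v c ?_
  rw [← Category.assoc, hv]
  exact hc.symm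

section

variable {R : Type u} [CommRing R] [IsDedekindDomain R]

set_option backward.isDefEq.respectTransparency.types false in
/-- The scheme theoretic image in `Y` of a space over the fraction field is flat over the
Dedekind base. -/
theorem locP_flat_schImage_of_generic {Y H Z : Sp (Spec (CommRingCat.of R))} (hY : IsAlgSpace Y)
    (pY : Y ⟶ (yon (Spec (CommRingCat.of R))).obj (Over.mk (𝟙 _)))
    (g : H ⟶ Y) (hg : Representable g) (hqc : IsQuasiCompactMor g)
    (qH : H ⟶ (yon (Spec (CommRingCat.of R))).obj (Over.mk (Neron.genPt R)))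
    (i : Z ⟶ Y) (hZ : IsSchImage g i) : LocP @Flat (i ≫ pY) := by
  obtain ⟨Y₀, b, hbe, hbs⟩ := hY.atlas
  have sqZ := hZ.1.rep.isPullback b
  have hc : IsClosedImmersion (hZ.1.rep.snd b).left := hZ.1.property_snd b
  have hk1 : (hZ.1.rep.snd b).left.ker = imgKer g b := ker_snd_eq_imgKer hY hqc i hZ b hbe
  have hk2 : imgKer g b = (hg.snd b).left.ker := imgKer_eq_ker_snd hg b
  have hqcR := repWith_quasiCompact_of_isQuasiCompactMor hg hqc
  have hu : QuasiCompact (hg.snd b).left := hqcR.property b _ _ (hg.isPullback b)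
  obtain ⟨c', hc'⟩ := (yon _).map_surjective (hg.fst b ≫ qH)
  have hflat : Flat ((hZ.1.rep.snd b).left ≫ Y₀.hom) :=
    flat_of_ker_eq_over_dedekind Y₀.hom (hg.snd b).left (hZ.1.rep.snd b).left (hk1.trans hk2)
      c'.left (by
        rw [Over.w (hg.snd b)]
        exact Over.w c')
  rw [Over.w] at hflat
  refine locP_of_chart etLocal_flat (i ≫ pY) (hZ.1.rep.fst b) (𝟙 _)
    (Over.homMk (hZ.1.rep.pullback b).hom (by simp)) ?_ ?_ (repWith_id _ _)
    (hom_ext_terminal _ _) hflat
  · exact repWith_of_isPullback _ sqZ.flip hbe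
  · exact repWith_of_isPullback _ sqZ.flip hbs

theorem flat_genPt : Flat (Neron.genPt R) := by
  rw [HasRingHomProperty.Spec_iff (P := @Flat)]
  rw [CommRingCat.hom_ofHom, RingHom.flat_algebraMap_iff]
  exact IsLocalization.flat (FractionRing R) (nonZeroDivisors R)

theorem isSchemeTheoreticallyDominant_genPt : IsSchemeTheoreticallyDominant (Neron.genPt R) := by
  have : IsReduced (Spec (CommRingCat.of R)) := inferInstance
  have hd : IsDominant (Neron.genPt R) := by
    apply isDominant_of_of_appTop_injective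
    have h1 : (Neron.genPt R).appTop =
        (Scheme.ΓSpecIso (CommRingCat.of R)).hom ≫
          CommRingCat.ofHom (algebraMap R (FractionRing R)) ≫
          (Scheme.ΓSpecIso (CommRingCat.of (FractionRing R))).inv := by
      rw [Scheme.ΓSpecIso_inv_naturality, Iso.hom_inv_id_assoc]
    rw [h1]
    simp only [CommRingCat.hom_comp, RingHom.coe_comp]
    refine Function.Injective.comp ?_ (ConcreteCategory.bijective_of_isIso _).1
    refine Function.Injective.comp (ConcreteCategory.bijective_of_isIso _).1 ?_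
    exact IsFractionRing.injective R (FractionRing R)
  exact IsSchemeTheoreticallyDominant.of_isDominant _

theorem mono_genPt : Mono (Neron.genPt R) := by
  have : Epi (CommRingCat.ofHom (algebraMap R (FractionRing R))) := by
    constructor
    intro Z f₁ f₂ h
    ext1
    apply IsLocalization.ringHom_ext (nonZeroDivisors R)
    exact congrArg CommRingCat.Hom.hom h
  have h1 : Mono (CommRingCat.ofHom (algebraMap R (FractionRing R))).op := inferInstance
  exact (inferInstance : Mono (Scheme.Spec.map (CommRingCat.ofHom (algebraMap R (FractionRing R))).op))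

end

section General

variable {S : Scheme.{u}}

/-- The generic fibre of the scheme theoretic image of a closed subspace of the "generic fibre"
`YK` of `Y` is that closed subspace (for `pr : YK ⟶ Y` a flat monomorphism). -/
theorem isPullback_schImage_of_flat_mono {Y YK H Z : Sp S} (hY : IsAlgSpace Y)
    (hYK : IsAlgSpace YK) (hH : IsAlgSpace H) (pr : YK ⟶ Y) [Mono pr] (hpr : LocP @Flat pr)
    (k : H ⟶ YK) (hk : RepWith @IsClosedImmersion k) (hqc : IsQuasiCompactMor (k ≫ pr))
    (i : Z ⟶ Y) (hZ : IsSchImage (k ≫ pr) i) :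
    ∃ m : H ⟶ Z, m ≫ i = k ≫ pr ∧ IsPullback m k i pr := by
  have sqV : IsPullback (𝟙 H) k (k ≫ pr) pr := by
    rw [isPullback_iff_yon]
    refine ⟨Category.id_comp _, fun T x y hxy => ⟨x, ⟨Category.comp_id _, ?_⟩, ?_⟩⟩
    · rw [← cancel_mono pr, Category.assoc, hxy]
    · rintro z ⟨h1, -⟩
      rw [← h1, Category.comp_id]
  have sqZ := IsPullback.of_hasPullback i pr
  have hS : IsSchImage k (pullback.snd i pr) :=
    isSchImage_flat_baseChange hYK hY hpr hqc hZ sqV sqZ
  obtain ⟨f', hf'⟩ := hS.2.1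
  obtain ⟨l, hl⟩ := hS.2.2 k hH hk ⟨𝟙 H, Category.id_comp _⟩
  have : Mono k := mono_of_repWith_isClosedImmersion hk
  have : Mono (pullback.snd i pr) := mono_of_repWith_isClosedImmersion hS.1
  have h1 : f' ≫ l = 𝟙 H := by
    rw [← cancel_mono k, Category.assoc, hl, hf', Category.id_comp]
  have h2 : l ≫ f' = 𝟙 _ := by
    rw [← cancel_mono (pullback.snd i pr), Category.assoc, hf', hl, Category.id_comp]
  have hw : (f' ≫ pullback.fst i pr) ≫ i = k ≫ pr := by
    rw [Category.assoc, pullback.condition, ← Category.assoc, hf']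
  exact ⟨f' ≫ pullback.fst i pr, hw,
    IsPullback.of_iso_pullback ⟨hw⟩ ⟨f', l, h1, h2⟩ rfl hf'⟩

end General

section

variable {R : Type u} [CommRing R] [IsDedekindDomain R]

set_option backward.isDefEq.respectTransparency.types false in
/-- A closed subspace of `Y`, flat over the Dedekind base, is contained in the scheme theoretic
image of its generic fibre. -/
theorem exists_lift_flat_closed_of_generic {Y YK H Z Z' : Sp (Spec (CommRingCat.of R))}
    (hY : IsAlgSpace Y)
    (pY : Y ⟶ (yon (Spec (CommRingCat.of R))).obj (Over.mk (𝟙 _)))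
    (pr : YK ⟶ Y) (qK : YK ⟶ (yon (Spec (CommRingCat.of R))).obj (Over.mk (Neron.genPt R)))
    (ε : (yon (Spec (CommRingCat.of R))).obj (Over.mk (Neron.genPt R)) ⟶
      (yon (Spec (CommRingCat.of R))).obj (Over.mk (𝟙 _)))
    (hYK : IsPullback pr qK pY ε)
    (k : H ⟶ YK) (hqc : IsQuasiCompactMor (k ≫ pr)) (i : Z ⟶ Y) (hZ : IsSchImage (k ≫ pr) i)
    (i' : Z' ⟶ Y) (hi' : RepWith @IsClosedImmersion i') (hfl : LocP @Flat (i' ≫ pY))
    (m' : H ⟶ Z') (sq' : IsPullback m' k i' pr) : ∃ l : Z' ⟶ Z, l ≫ i = i' := by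
  have : Mono i := mono_of_repWith_isClosedImmersion hZ.1
  apply exists_lift_of_points i i'
  intro T z
  refine exists_lift_of_pointwise i _ fun y => ?_
  obtain ⟨W, V₁, hV₁, w, t₁, b₁, hb₁, hwe, hyw, hcomm⟩ := exists_affine_chart_at hY (z ≫ i') y
  refine ⟨W, w, inferInstance, inferInstance, hyw, ?_⟩
  rw [hcomm, isSchImage_factors_iff' hY hqc i hZ b₁ hb₁ t₁]
  have sq₁ := hi'.rep.isPullback b₁
  have hcl : IsClosedImmersion (hi'.rep.snd b₁).left := hi'.property_snd b₁
  obtain ⟨l₀, hl₀⟩ := (yon _).map_surjective (sq₁.lift ((yon _).map w ≫ z) ((yon _).map t₁)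
    (by rw [Category.assoc, hcomm]))
  have ht₁ : l₀ ≫ hi'.rep.snd b₁ = t₁ :=
    (yon _).map_injective (by rw [Functor.map_comp, hl₀, sq₁.lift_snd])
  rw [← ht₁, Over.comp_left]
  refine le_trans ?_ (Scheme.Hom.le_ker_comp _ _)
  -- flatness of the chart of `Z'`
  have hfst : RepWith @Etale (hi'.rep.fst b₁) := repWith_of_isPullback _ sq₁.flip hb₁
  have hflat : Flat (hi'.rep.pullback b₁).hom :=
    hfl (hi'.rep.fst b₁) (𝟙 _) (Over.homMk (hi'.rep.pullback b₁).hom (by simp)) hfst
      (repWith_id _ _) (hom_ext_terminal _ _)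
  -- the generic fibre of the chart
  have hdomK := isSchemeTheoreticallyDominant_genPt (R := R)
  have hsqK := IsPullback.of_hasPullback (hi'.rep.pullback b₁).hom (Neron.genPt R)
  have hdom : IsSchemeTheoreticallyDominant
      (pullback.fst (hi'.rep.pullback b₁).hom (Neron.genPt R)) :=
    IsSchemeTheoreticallyDominant.of_isPullback hsqK.flip
  let TKo : Over (Spec (CommRingCat.of R)) :=
    Over.mk (pullback.fst (hi'.rep.pullback b₁).hom (Neron.genPt R) ≫ (hi'.rep.pullback b₁).hom)
  let πo : TKo ⟶ hi'.rep.pullback b₁ := Over.homMk (pullback.fst _ _) rfl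
  let cKo : TKo ⟶ Over.mk (Neron.genPt R) := Over.homMk (pullback.snd _ _) pullback.condition.symm
  have hker : (πo ≫ hi'.rep.snd b₁).left.ker = (hi'.rep.snd b₁).left.ker := by
    rw [Over.comp_left, Scheme.Hom.ker_comp]
    change (Scheme.Hom.ker (pullback.fst (hi'.rep.pullback b₁).hom (Neron.genPt R))).map _ = _
    rw [Scheme.Hom.ker_eq_bot, Scheme.IdealSheafData.map_bot]
  rw [← hker]
  let y₀ : (yon _).obj TKo ⟶ YK := hYK.lift ((yon _).map πo ≫ hi'.rep.fst b₁ ≫ i')
    ((yon _).map cKo) (hom_ext_terminal _ _)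
  let x : (yon _).obj TKo ⟶ H := sq'.lift ((yon _).map πo ≫ hi'.rep.fst b₁) y₀ (by
    rw [Category.assoc]
    exact (hYK.lift_fst _ _ _).symm)
  refine imgKer_le (k ≫ pr) b₁ (πo ≫ hi'.rep.snd b₁) x ?_
  rw [← sq'.w, ← Category.assoc, sq'.lift_fst, Category.assoc, sq₁.w, Functor.map_comp,
    Category.assoc]

end

end Groth.Agent.Lib.Helper14.AS
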