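import Mathlib

/-!
# Extending a morphism from the generic fibre by fpqc descent (helper14)
-/

set_option autoImplicit false

universe u

namespace Groth.Agent.Lib.Helper14.GenExt

open CategoryTheory CategoryTheory.Limits AlgebraicGeometry TopologicalSpace Opposite

theorem exists_equalizer_closedImmersion {W X Y Z : Scheme.{u}} {f g : X ⟶ Y} (s : Y ⟶ Z)
    [IsSeparated s] (h : f ≫ s = g ≫ s) (ι : W ⟶ X) (hU : ι ≫ f = ι ≫ g) :
    ∃ (E : Scheme.{u}) (e : E ⟶ X) (l : W ⟶ E), IsClosedImmersion e ∧ l ≫ e = ι ∧
      e ≫ f = e ≫ g := by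
  let X' : Over Z := Over.mk (f ≫ s)
  let Y' : Over Z := Over.mk s
  let U' : Over Z := Over.mk (ι ≫ f ≫ s)
  let f' : X' ⟶ Y' := Over.homMk f
  let g' : X' ⟶ Y' := Over.homMk g h.symm
  let ι' : U' ⟶ X' := Over.homMk ι
  have hsep : IsSeparated Y'.hom := by assumption
  refine ⟨_, (equalizer.ι f' g').left,
    (equalizer.lift ι' (by ext; exact hU) : U' ⟶ equalizer f' g').left, inferInstance, ?_, ?_⟩
  · rw [← Over.comp_left, equalizer.lift_ι]
    rfl
  · exact congrArg CommaMorphism.left (equalizer.condition f' g')

/-- Two morphisms into a separated `Z`-scheme which agree on a scheme-theoretically dominant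
morphism are equal. -/
theorem ext_of_schDominant {W X Y Z : Scheme.{u}} {f g : X ⟶ Y} (s : Y ⟶ Z) [IsSeparated s]
    (h : f ≫ s = g ≫ s) (ι : W ⟶ X) [IsSchemeTheoreticallyDominant ι] (hU : ι ≫ f = ι ≫ g) :
    f = g := by
  obtain ⟨E, e, l, hcl, hfac, hcond⟩ := exists_equalizer_closedImmersion s h ι hU
  have hker : e.ker = ⊥ := by
    have h1 : ι.ker = ⊥ := IsSchemeTheoreticallyDominant.ker_eq_bot ι
    have h2 : ι.ker = l.ker.map e := by rw [← hfac, Scheme.Hom.ker_comp]
    have h3 : e.ker ≤ l.ker.map e := by
      rw [← Scheme.IdealSheafData.map_bot]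
      exact (Scheme.IdealSheafData.map_gc e).monotone_u bot_le
    rw [eq_bot_iff, ← h1, h2]
    exact h3
  have hiso : IsIso e := IsClosedImmersion.isIso_iff_ker_eq_bot.mpr hker
  rw [← cancel_epi e]
  exact hcond

/-- The generic point of an integral scheme, as a morphism from the spectrum of the function
field, is quasi-compact. -/
instance quasiCompact_fromSpecStalk_genericPoint (T : Scheme.{u}) [IsIntegral T] :
    QuasiCompact (T.fromSpecStalk (genericPoint T)) := by
  let _ : Field (T.presheaf.stalk (genericPoint T)) := inferInstanceAs (Field T.functionField)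
  constructor
  intro U _ _
  exact (Set.toFinite _).isCompact

instance isDominant_fromSpecStalk_genericPoint (T : Scheme.{u}) [IsIntegral T] :
    IsDominant (T.fromSpecStalk (genericPoint T)) := by
  rw [isDominant_iff, DenseRange, dense_iff_closure_eq, Scheme.range_fromSpecStalk]
  have h1 : closure {genericPoint T} = Set.univ := genericPoint_spec T
  rw [← Set.univ_subset_iff, ← h1]
  apply closure_mono
  rintro _ rfl
  exact specializes_rfl

instance schDominant_fromSpecStalk_genericPoint (T : Scheme.{u}) [IsIntegral T] :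
    IsSchemeTheoreticallyDominant (T.fromSpecStalk (genericPoint T)) :=
  IsSchemeTheoreticallyDominant.of_isDominant _

end Groth.Agent.Lib.Helper14.GenExt
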