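import Groth.Agent.Lib.Helper14.DvrFib2

/-!
# Fibres of `X ⟶ Spec Γ(X)`: the principal closed case (helper14)
-/

set_option autoImplicit false
universe u
open CategoryTheory CategoryTheory.Limits AlgebraicGeometry Opposite TopologicalSpace

namespace Groth.Agent.Lib.Helper14.DvrFib

open Groth.Agent.Lib.Helper14.Normal

/-- regularity of the image of a non-zero-divisor on sections over affine opens of a flat
scheme. -/
theorem regular_affine {X S : Scheme.{u}} [IsAffine S] (f : X ⟶ S) [Flat f] (ϖ : Γ(S, ⊤))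
    (hreg : ϖ ∈ nonZeroDivisors Γ(S, ⊤)) (V : X.Opens) (hV : IsAffineOpen V) (u v : Γ(X, V))
    (h : resTop X V (f.appTop.hom ϖ) * u = resTop X V (f.appTop.hom ϖ) * v) : u = v := by
  have hfl : (f.appLE ⊤ V le_top).hom.Flat := f.flat_appLE (isAffineOpen_top S) hV _
  have e : resTop X V (f.appTop.hom ϖ) = (f.appLE ⊤ V le_top).hom ϖ := rfl
  rw [e] at h
  algebraize [(f.appLE ⊤ V le_top).hom]
  have hsm : IsSMulRegular Γ(X, V) ϖ := Module.Flat.isSMulRegular_of_nonZeroDivisors hreg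
  apply hsm
  change ϖ • u = ϖ • v
  rw [Algebra.smul_def, Algebra.smul_def]
  exact h

set_option backward.isDefEq.respectTransparency.types false in
/-- local divisibility. -/
theorem locally_dvd {X S T : Scheme.{u}} [IsAffine S] [IsAffine T] (f : X ⟶ S) (ρ : T ⟶ S)
    (hρ : Function.Surjective ρ.appTop.hom) (ϖ : Γ(S, ⊤))
    (hker : RingHom.ker ρ.appTop.hom = Ideal.span {ϖ}) (b : Γ(X, ⊤))
    (hb : (pullback.fst f ρ).appTop.hom b = 0) (U : X.Opens) (hU : IsAffineOpen U) :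
    ∃ s : Γ(X, U), resTop X U (f.appTop.hom ϖ) * s = resTop X U b := by
  have H : IsPullback (pullback.fst f ρ) (pullback.snd f ρ) f ρ := IsPullback.of_hasPullback f ρ
  have hUST : (⊤ : T.Opens) ≤ ρ ⁻¹ᵁ ⊤ := le_top
  have hUSX : U ≤ f ⁻¹ᵁ ⊤ := le_top
  have iso := isIso_pushoutSection_of_isAffineOpen H hUST hUSX rfl (isAffineOpen_top S)
    (isAffineOpen_top T) hU
  have po := (isIso_pushoutSection_iff H hUST hUSX rfl).1 iso
  have e0 : ρ.appLE ⊤ ⊤ hUST = ρ.appTop := by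
    rw [Scheme.Hom.appTop, Scheme.Hom.app_eq_appLE]
    rfl
  have hρ' : Function.Surjective (ρ.appLE ⊤ ⊤ hUST).hom := by rw [e0]; exact hρ
  have hker' : RingHom.ker (ρ.appLE ⊤ ⊤ hUST).hom = Ideal.span {ϖ} := by rw [e0]; exact hker
  have hle := ker_inl_le_of_isPushout po hρ' ϖ hker'
  have hmem : resTop X U b ∈ RingHom.ker ((pullback.fst f ρ).appLE U
      (pullback.fst f ρ ⁻¹ᵁ U ⊓ pullback.snd f ρ ⁻¹ᵁ ⊤) (by simp)).hom := by
    rw [RingHom.mem_ker]
    have e1 : ((pullback.fst f ρ).appLE U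
        (pullback.fst f ρ ⁻¹ᵁ U ⊓ pullback.snd f ρ ⁻¹ᵁ ⊤) (by simp)).hom (resTop X U b) =
        ((pullback f ρ).presheaf.map (homOfLE (le_top :
          pullback.fst f ρ ⁻¹ᵁ U ⊓ pullback.snd f ρ ⁻¹ᵁ ⊤ ≤ ⊤)).op).hom
          ((pullback.fst f ρ).appTop.hom b) := by
      change (X.presheaf.map (homOfLE (le_top : U ≤ ⊤)).op ≫ (pullback.fst f ρ).appLE U
        (pullback.fst f ρ ⁻¹ᵁ U ⊓ pullback.snd f ρ ⁻¹ᵁ ⊤) (by simp)).hom b = _
      rw [Scheme.Hom.map_appLE]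
      rfl
    rw [e1, hb, map_zero]
  obtain ⟨a, ha⟩ := Ideal.mem_span_singleton'.1 (hle hmem)
  refine ⟨a, ?_⟩
  rw [mul_comm]
  exact ha

end Groth.Agent.Lib.Helper14.DvrFib
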