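import Mathlib

/-!
# Spectra of the residue field and fraction field of a local ring / DVR (helper14)
-/

universe u
open CategoryTheory CategoryTheory.Limits AlgebraicGeometry Opposite Topology TopologicalSpace
open IsLocalRing

namespace Groth.Agent.Lib.Helper14.AS

/-- The canonical morphism from the spectrum of the residue field of `Spec R` at the closed point
is, up to an isomorphism of the source, `Spec` of the residue map. -/
theorem exists_iso_fromSpecResidueField_closedPoint (R : Type u) [CommRing R] [IsLocalRing R] :
    ∃ (E : Spec ((Spec (CommRingCat.of R)).residueField (closedPoint R)) ⟶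
        Spec (CommRingCat.of (ResidueField R))) (_ : IsIso E),
      (Spec (CommRingCat.of R)).fromSpecResidueField (closedPoint R) =
        E ≫ Spec.map (CommRingCat.ofHom (IsLocalRing.residue R)) := by
  have hψ := Ideal.bijective_algebraMap_quotient_residueField (maximalIdeal R)
  let eψ : (R ⧸ maximalIdeal R) ≃+* (maximalIdeal R).ResidueField := RingEquiv.ofBijective _ hψ
  have h1 := Scheme.Spec.map_residueFieldIso_inv_eq_fromSpecResidueField (CommRingCat.of R)
    (closedPoint R)
  have h2 : CommRingCat.ofHom (algebraMap R (maximalIdeal R).ResidueField) =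
      CommRingCat.ofHom (IsLocalRing.residue R) ≫ CommRingCat.ofHom eψ.toRingHom := by
    ext r
    rfl
  refine ⟨Spec.map (Scheme.Spec.residueFieldIso (CommRingCat.of R) (closedPoint R)).inv ≫
    Spec.map (CommRingCat.ofHom eψ.toRingHom), ?_, ?_⟩
  · have i0 : IsIso (CommRingCat.ofHom eψ.toRingHom) :=
      (eψ.toCommRingCatIso).isIso_hom
    have i1 : IsIso (Spec.map (CommRingCat.ofHom eψ.toRingHom)) :=
      inferInstanceAs (IsIso (Scheme.Spec.map (CommRingCat.ofHom eψ.toRingHom).op))
    have i2 : IsIso (Spec.map
        (Scheme.Spec.residueFieldIso (CommRingCat.of R) (closedPoint R)).inv) :=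
      inferInstanceAs (IsIso (Scheme.Spec.map
        (Scheme.Spec.residueFieldIso (CommRingCat.of R) (closedPoint R)).inv.op))
    exact @IsIso.comp_isIso _ _ _ _ _ _ _ i2 i1
  · have h3 : Spec.map (CommRingCat.ofHom (algebraMap (↑(CommRingCat.of R))
        (closedPoint R).asIdeal.ResidueField)) =
        Spec.map (CommRingCat.ofHom eψ.toRingHom) ≫
          Spec.map (CommRingCat.ofHom (IsLocalRing.residue R)) := by
      rw [← Spec.map_comp]
      exact congrArg Spec.map h2
    rw [← h1, h3]
    rfl

theorem isLocalizationAway_fractionRing_of_dvr (R : Type u) [CommRing R] [IsDomain R]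
    [IsDiscreteValuationRing R] {π : R} (hπ : Irreducible π) :
    IsLocalization.Away π (FractionRing R) := by
  have h1 : IsLocalization (nonZeroDivisors R) (Localization.Away π) := by
    refine IsLocalization.of_le_of_exists_dvd (Submonoid.powers π) (nonZeroDivisors R) ?_ ?_
    · rintro _ ⟨n, rfl⟩
      exact pow_mem (mem_nonZeroDivisors_of_ne_zero hπ.ne_zero) n
    · intro x hx
      obtain ⟨n, hn⟩ := IsDiscreteValuationRing.associated_pow_irreducible
        (nonZeroDivisors.ne_zero hx) hπ
      exact ⟨π ^ n, ⟨n, rfl⟩, hn.dvd⟩
  have e : Localization.Away π ≃ₐ[R] FractionRing R :=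
    IsLocalization.algEquiv (nonZeroDivisors R) _ _
  exact IsLocalization.isLocalization_of_algEquiv (Submonoid.powers π) e

theorem isOpenImmersion_Spec_map_fractionRing_of_dvr (R : Type u) [CommRing R] [IsDomain R]
    [IsDiscreteValuationRing R] :
    IsOpenImmersion (Spec.map (CommRingCat.ofHom (algebraMap R (FractionRing R)))) := by
  obtain ⟨π, hπ⟩ := IsDiscreteValuationRing.exists_irreducible R
  have := isLocalizationAway_fractionRing_of_dvr R hπ
  exact IsOpenImmersion.of_isLocalization π

end Groth.Agent.Lib.Helper14.AS
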