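import Mathlib
import Groth.Agent.Lib.Helper14.FppfDesc3
import Groth.Agent.Lib.Helper25.RegularSepSmooth
import Groth.Agent.Lib.Helper25.RegularSmooth
import Groth.Agent.Lib.Helper18.SerreReg2
import Groth.Agent.Lib.Helper23.FieldSep

universe u
set_option linter.style.haveILetI false
set_option linter.unusedSectionVars false
open CategoryTheory CategoryTheory.Limits AlgebraicGeometry TensorProduct IsLocalRing

namespace Groth.Agent.Lib.Helper14.AS

set_option maxHeartbeats 1000000 in
/-- smoothness descends along a faithfully flat finitely presented map, perfect field case -/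
theorem smooth_of_faithfullyFlat_fp_perfectField (K A B : Type u) [Field K] [PerfectField K]
    [CommRing A] [CommRing B] [Algebra K A] [Algebra A B] [Algebra K B] [IsScalarTower K A B]
    [Module.FaithfullyFlat A B] [Algebra.FinitePresentation A B] [Algebra.Smooth K B] :
    Algebra.Smooth K A := by
  haveI : Algebra.FinitePresentation K B := Algebra.Smooth.finitePresentation
  haveI fp : Algebra.FinitePresentation K A := finitePresentation_of_faithfullyFlat_fp K A B
  refine ⟨?_, fp⟩
  rw [← Algebra.smoothLocus_eq_univ_iff]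
  ext q
  simp only [Set.mem_univ, iff_true]
  change Algebra.FormallySmooth K (Localization.AtPrime q.asIdeal)
  obtain ⟨r, hr⟩ := PrimeSpectrum.comap_surjective_of_faithfullyFlat (A := A) (B := B) q
  haveI hlo : r.asIdeal.LiesOver q.asIdeal := ⟨by rw [← hr]; rfl⟩
  letI := Localization.AtPrime.algebraOfLiesOver q.asIdeal r.asIdeal
  haveI : IsLocalHom (algebraMap (Localization.AtPrime q.asIdeal)
      (Localization.AtPrime r.asIdeal)) := by
    rw [RingHom.algebraMap_toAlgebra]
    exact Localization.isLocalHom_localRingHom q.asIdeal r.asIdeal (algebraMap A B)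
      Ideal.LiesOver.over
  haveI : Module.Flat (Localization.AtPrime q.asIdeal) (Localization.AtPrime r.asIdeal) :=
    inferInstance
  haveI : IsNoetherianRing A := Algebra.FiniteType.isNoetherianRing K A
  haveI : IsNoetherianRing (Localization.AtPrime q.asIdeal) := inferInstance
  -- B_r is regular
  haveI hbot : r.asIdeal.LiesOver (⊥ : Ideal K) := ⟨(Ideal.eq_bot_of_prime _).symm⟩
  haveI : IsRegularLocalRing (Localization.AtPrime (⊥ : Ideal K)) := by
    have hu : ∀ m ∈ (⊥ : Ideal K).primeCompl, IsUnit m := by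
      intro m hm
      have h0 : m ≠ 0 := fun h => hm (by rw [h]; exact Ideal.zero_mem _)
      exact h0.isUnit
    exact IsRegularLocalRing.of_ringEquiv
      (IsLocalization.atUnits K (⊥ : Ideal K).primeCompl
        (S := Localization.AtPrime (⊥ : Ideal K)) hu).toRingEquiv
  haveI regB : IsRegularLocalRing (Localization.AtPrime r.asIdeal) :=
    Groth.Agent.Lib.Helper25.RegularSmooth.isRegularLocalRing_of_smooth (A := K) (B := B) ⊥
      r.asIdeal
  haveI regA : IsRegularLocalRing (Localization.AtPrime q.asIdeal) :=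
    Groth.Agent.Lib.Helper18.SerreReg.isRegularLocalRing_of_flat_of_isLocalHom
      (Localization.AtPrime q.asIdeal) (Localization.AtPrime r.asIdeal)
  haveI : Algebra.EssFiniteType K (ResidueField (Localization.AtPrime q.asIdeal)) := by
    haveI : Algebra.FiniteType (Localization.AtPrime q.asIdeal)
        (ResidueField (Localization.AtPrime q.asIdeal)) :=
      inferInstanceAs (Algebra.FiniteType (Localization.AtPrime q.asIdeal)
        (Localization.AtPrime q.asIdeal ⧸ maximalIdeal (Localization.AtPrime q.asIdeal)))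
    exact Algebra.EssFiniteType.comp K (Localization.AtPrime q.asIdeal) _
  haveI : Algebra.IsGeometricallyReduced K (ResidueField (Localization.AtPrime q.asIdeal)) :=
    (Groth.Agent.Lib.Helper23.FieldSep.formallySmooth_iff_isGeometricallyReduced K _).1
      inferInstance
  exact Groth.Agent.Lib.Helper25.RegularSepSmooth.formallySmooth_of_regular K
    (Localization.AtPrime q.asIdeal)

attribute [local instance] Algebra.TensorProduct.rightAlgebra

section TBC
variable (R A B R' : Type u) [CommRing R] [CommRing A] [CommRing B] [CommRing R']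
  [Algebra R A] [Algebra A B] [Algebra R B] [IsScalarTower R A B] [Algebra R R']

/-- the algebra structure `A ⊗[R] R' → B ⊗[R] R'` for a tower `R → A → B`. -/
@[reducible] noncomputable def tbcAlgebra : Algebra (A ⊗[R] R') (B ⊗[R] R') :=
  (Algebra.TensorProduct.map (IsScalarTower.toAlgHom R A B) (AlgHom.id R R')).toRingHom.toAlgebra

theorem tbc_algebraMap_tmul (a : A) (r : R') :
    letI := tbcAlgebra R A B R'
    algebraMap (A ⊗[R] R') (B ⊗[R] R') (a ⊗ₜ r) = algebraMap A B a ⊗ₜ r := by
  letI := tbcAlgebra R A B R'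
  rfl

theorem tbc_towerA :
    letI := tbcAlgebra R A B R'
    IsScalarTower A (A ⊗[R] R') (B ⊗[R] R') := by
  letI := tbcAlgebra R A B R'
  refine .of_algebraMap_eq' ?_
  ext a
  simp only [RingHom.comp_apply, Algebra.TensorProduct.algebraMap_apply]
  exact (tbc_algebraMap_tmul R A B R' _ _).symm

theorem tbc_towerR' :
    letI := tbcAlgebra R A B R'
    IsScalarTower R' (A ⊗[R] R') (B ⊗[R] R') := by
  letI := tbcAlgebra R A B R'
  refine .of_algebraMap_eq' ?_
  ext a
  simp only [RingHom.comp_apply, Algebra.TensorProduct.right_algebraMap_apply]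
  rw [tbc_algebraMap_tmul R A B R', map_one]

theorem tbc_isPushout :
    letI := tbcAlgebra R A B R'
    haveI := tbc_towerA R A B R'
    Algebra.IsPushout A B (A ⊗[R] R') (B ⊗[R] R') := by
  letI := tbcAlgebra R A B R'
  haveI := tbc_towerA R A B R'
  refine Algebra.IsPushout.tensorProduct_tensorProduct R R' A B ?_
  ext a
  simp only [AlgHom.toRingHom_eq_coe, RingHom.coe_comp, RingHom.coe_coe, Function.comp_apply,
    Algebra.TensorProduct.includeRight_apply]
  rw [tbc_algebraMap_tmul R A B R', map_one]

theorem tbc_faithfullyFlat [Module.FaithfullyFlat A B] :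
    letI := tbcAlgebra R A B R'
    Module.FaithfullyFlat (A ⊗[R] R') (B ⊗[R] R') := by
  letI := tbcAlgebra R A B R'
  haveI := tbc_towerA R A B R'
  haveI := tbc_isPushout R A B R'
  rw [← RingHom.faithfullyFlat_algebraMap_iff]
  exact RingHom.FaithfullyFlat.isStableUnderBaseChange A B (A ⊗[R] R') (B ⊗[R] R')
    (RingHom.faithfullyFlat_algebraMap_iff.2 inferInstance)

theorem tbc_finitePresentation [Algebra.FinitePresentation A B] :
    letI := tbcAlgebra R A B R'
    Algebra.FinitePresentation (A ⊗[R] R') (B ⊗[R] R') := by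
  letI := tbcAlgebra R A B R'
  haveI := tbc_towerA R A B R'
  haveI := tbc_isPushout R A B R'
  rw [← RingHom.finitePresentation_algebraMap]
  exact RingHom.finitePresentation_isStableUnderBaseChange A B (A ⊗[R] R') (B ⊗[R] R')
    (RingHom.finitePresentation_algebraMap.2 inferInstance)

theorem tbc_smooth [Algebra.Smooth R B] : Algebra.Smooth R' (B ⊗[R] R') := by
  rw [← RingHom.smooth_algebraMap]
  exact RingHom.Smooth.isStableUnderBaseChange R B R' (B ⊗[R] R')
    (RingHom.smooth_algebraMap.2 inferInstance)

end TBC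


/-- smoothness descends along a faithfully flat finitely presented map, field case -/
theorem smooth_of_faithfullyFlat_fp_field (k A B : Type u) [Field k]
    [CommRing A] [CommRing B] [Algebra k A] [Algebra A B] [Algebra k B] [IsScalarTower k A B]
    [Module.FaithfullyFlat A B] [Algebra.FinitePresentation A B] [Algebra.Smooth k B] :
    Algebra.Smooth k A := by
  let K := AlgebraicClosure k
  letI := tbcAlgebra k A B K
  haveI := tbc_towerR' k A B K
  haveI := tbc_faithfullyFlat k A B K
  haveI := tbc_finitePresentation k A B K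
  haveI := tbc_smooth k B K
  haveI : Algebra.Smooth K (A ⊗[k] K) :=
    smooth_of_faithfullyFlat_fp_perfectField K (A ⊗[k] K) (B ⊗[k] K)
  rw [← RingHom.smooth_algebraMap]
  refine RingHom.Smooth.codescendsAlong_faithfullyFlat (R := k) (S := A) (R' := K)
    (S' := A ⊗[k] K) (RingHom.faithfullyFlat_algebraMap_iff.2 inferInstance)
    (RingHom.smooth_algebraMap.2 inferInstance)

/-- smoothness descends along a faithfully flat finitely presented map -/
theorem smooth_of_faithfullyFlat_fp (R A B : Type u) [CommRing R]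
    [CommRing A] [CommRing B] [Algebra R A] [Algebra A B] [Algebra R B] [IsScalarTower R A B]
    [Module.FaithfullyFlat A B] [Algebra.FinitePresentation A B] [Algebra.Smooth R B] :
    Algebra.Smooth R A := by
  haveI : Algebra.FinitePresentation R B := Algebra.Smooth.finitePresentation
  haveI fp : Algebra.FinitePresentation R A := finitePresentation_of_faithfullyFlat_fp R A B
  haveI : Module.Flat R B := inferInstance
  haveI : Module.Flat R A :=
    Groth.Agent.Lib.Helper18.FibBridge.flat_of_faithfullyFlat_comp R A B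
  refine Algebra.Smooth.of_formallySmooth_fiber fun I hI => ?_
  let κ := I.ResidueField
  letI := tbcAlgebra R A B κ
  haveI := tbc_towerR' R A B κ
  haveI := tbc_faithfullyFlat R A B κ
  haveI := tbc_finitePresentation R A B κ
  haveI := tbc_smooth R B κ
  haveI : Algebra.Smooth κ (A ⊗[R] κ) :=
    smooth_of_faithfullyFlat_fp_field κ (A ⊗[R] κ) (B ⊗[R] κ)
  let e : A ⊗[R] κ ≃ₐ[κ] κ ⊗[R] A :=
    { __ := Algebra.TensorProduct.comm R A κ, commutes' _ := rfl }
  exact Algebra.FormallySmooth.of_equiv e


theorem ringHom_smooth_of_faithfullyFlat_fp {R A B : Type u} [CommRing R] [CommRing A]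
    [CommRing B] (φ₁ : R →+* A) (φ₂ : A →+* B) (h : (φ₂.comp φ₁).Smooth)
    (hff : φ₂.FaithfullyFlat) (hfp : φ₂.FinitePresentation) : φ₁.Smooth := by
  algebraize [φ₁, φ₂, φ₂.comp φ₁]
  exact (RingHom.smooth_algebraMap).2 (smooth_of_faithfullyFlat_fp R A B)

set_option maxHeartbeats 1000000 in
/-- smoothness is fppf local on the source, pointwise form -/
theorem smooth_of_forall_exists_fppf {X Y : Scheme.{u}} (f : X ⟶ Y)
    (H : ∀ x : X, ∃ (X' : Scheme.{u}) (g : X' ⟶ X), Flat g ∧ LocallyOfFinitePresentation g ∧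
      Smooth (g ≫ f) ∧ x ∈ Set.range g) :
    Smooth f := by
  rw [HasRingHomProperty.iff_exists_appLE (P := @Smooth)
    (RingHom.Smooth.stableUnderComposition.stableUnderCompositionWithLocalizationAway
      RingHom.Smooth.holdsForLocalizationAway).left]
  intro x
  obtain ⟨X', g, hfl, hfp, hcomp, z, rfl⟩ := H x
  obtain ⟨W₀, hW₀, hxW₀⟩ : ∃ W₀ : Y.Opens, IsAffineOpen W₀ ∧ f (g z) ∈ W₀ := by
    obtain ⟨_, ⟨W₀, hW₀ : IsAffineOpen W₀, rfl⟩, hx, -⟩ :=
      Y.isBasis_affineOpens.exists_subset_of_mem_open (Set.mem_univ (f (g z))) isOpen_univ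
    exact ⟨W₀, hW₀, hx⟩
  obtain ⟨V, hV, U, hU, e, hVW, hxV, hff, hfp'⟩ := exists_affine_fppf_chart g z (f ⁻¹ᵁ W₀) hxW₀
  refine ⟨⟨W₀, hW₀⟩, ⟨V, hV⟩, hxV, hVW, ?_⟩
  refine ringHom_smooth_of_faithfullyFlat_fp (f.appLE W₀ V hVW).hom
    (g.appLE V U e).hom ?_ hff hfp'
  rw [← CommRingCat.hom_comp, Scheme.Hom.appLE_comp_appLE]
  exact HasRingHomProperty.appLE (P := @Smooth) (g ≫ f) hcomp
    ⟨W₀, hW₀⟩ ⟨U, hU⟩ _

/-- smoothness descends along an fppf cover of the source -/
theorem smooth_of_fppf_comp {X Y S : Scheme.{u}} (f : X ⟶ Y) (q : Y ⟶ S) [Surjective f] [Flat f]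
    [LocallyOfFinitePresentation f] [Smooth (f ≫ q)] : Smooth q := by
  refine smooth_of_forall_exists_fppf q fun y => ?_
  obtain ⟨x, rfl⟩ := f.surjective y
  exact ⟨X, f, inferInstance, inferInstance, inferInstance, ⟨x, rfl⟩⟩

end Groth.Agent.Lib.Helper14.AS
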