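import Mathlib
import Groth.Agent.Lib.Helper14.SmoothDesc1

universe u
set_option linter.style.haveILetI false
set_option linter.unusedSectionVars false
open CategoryTheory CategoryTheory.Limits AlgebraicGeometry TensorProduct IsLocalRing

namespace Groth.Agent.Lib.Helper14.AS

attribute [local instance] Algebra.TensorProduct.rightAlgebra

/-- a flat quotient has idempotent kernel -/
theorem isIdempotentElem_ker_of_flat_of_surjective (C A : Type u) [CommRing C] [CommRing A]
    [Algebra C A] [Module.Flat C A] (hs : Function.Surjective (algebraMap C A)) :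
    IsIdempotentElem (RingHom.ker (algebraMap C A)) := by
  set I := RingHom.ker (algebraMap C A) with hI
  let e : (C ⧸ I) ≃ₐ[C] A := Ideal.quotientKerAlgEquivOfSurjective (f := Algebra.ofId C A) hs
  haveI : Module.Flat C (C ⧸ I) := Module.Flat.of_linearEquiv e.toLinearEquiv
  rw [← Ideal.cotangent_subsingleton_iff]
  have inj := Module.Flat.lTensor_preserves_injective_linearMap (M := C ⧸ I) (Submodule.subtype I)
    Subtype.val_injective
  have hz : (Submodule.subtype I).lTensor (C ⧸ I) = 0 := by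
    refine TensorProduct.ext' fun c x => ?_
    obtain ⟨c, rfl⟩ := Ideal.Quotient.mk_surjective c
    simp only [LinearMap.lTensor_tmul, Submodule.subtype_apply, LinearMap.zero_apply]
    have : (Ideal.Quotient.mk I c) ⊗ₜ[C] (x : C) = ((x : C) • Ideal.Quotient.mk I c) ⊗ₜ[C] (1 : C) := by
      rw [TensorProduct.smul_tmul, smul_eq_mul, mul_one]
    rw [this, Algebra.smul_def, Ideal.Quotient.algebraMap_eq,
      Ideal.Quotient.eq_zero_iff_mem.2 x.2, zero_mul, TensorProduct.zero_tmul]
  haveI : Subsingleton ((C ⧸ I) ⊗[C] I) := ⟨fun x y => inj (by simp [hz])⟩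
  exact (TensorProduct.quotTensorEquivQuotSMul (↥I) I).symm.toEquiv.subsingleton


/-- the diagonal of an unramified algebra is flat -/
theorem flat_lmul'_of_formallyUnramified (R B : Type u) [CommRing R] [CommRing B] [Algebra R B]
    [Algebra.EssFiniteType R B] [Algebra.FormallyUnramified R B] :
    (Algebra.TensorProduct.lmul' (S := B) R).toRingHom.Flat := by
  obtain ⟨e, he, hsp⟩ : ∃ e, IsIdempotentElem e ∧ KaehlerDifferential.ideal R B = B ⊗[R] B ∙ e :=
    (Ideal.isIdempotentElem_iff_of_fg _ (KaehlerDifferential.ideal_fg R B)).mp <|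
      (Ideal.cotangent_subsingleton_iff _).mp <| inferInstanceAs <| Subsingleton Ω[B⁄R]
  letI : Algebra (B ⊗[R] B) B := (Algebra.TensorProduct.lmul' (S := B) R).toRingHom.toAlgebra
  have hs : Function.Surjective (algebraMap (B ⊗[R] B) B) := fun b => ⟨b ⊗ₜ 1, by
    simp [RingHom.algebraMap_toAlgebra]⟩
  have hk : RingHom.ker (algebraMap (B ⊗[R] B) B) = Ideal.span {1 - (1 - e)} := by
    rw [sub_sub_cancel]
    exact hsp
  haveI : IsLocalization.Away (1 - e) B := IsLocalization.away_of_isIdempotentElem he.one_sub hk hs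
  have : Module.Flat (B ⊗[R] B) B := IsLocalization.flat B (Submonoid.powers (1 - e))
  exact this

theorem flat_map_id_right (R S A B : Type u) [CommRing R] [CommRing S] [CommRing A] [CommRing B]
    [Algebra R S] [Algebra R A] [Algebra A B] [Algebra R B] [IsScalarTower R A B]
    [Module.Flat A B] :
    (Algebra.TensorProduct.map (IsScalarTower.toAlgHom R A B) (AlgHom.id R S)).toRingHom.Flat := by
  letI := tbcAlgebra R A B S
  haveI := tbc_towerA R A B S
  haveI := tbc_isPushout R A B S
  exact RingHom.Flat.isStableUnderBaseChange A B (A ⊗[R] S) (B ⊗[R] S)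
    (RingHom.flat_algebraMap_iff.2 inferInstance)

theorem flat_map_id_left (R S A B : Type u) [CommRing R] [CommRing S] [CommRing A] [CommRing B]
    [Algebra R S] [Algebra R A] [Algebra A B] [Algebra R B] [IsScalarTower R A B]
    [Module.Flat A B] :
    (Algebra.TensorProduct.map (AlgHom.id R S) (IsScalarTower.toAlgHom R A B)).toRingHom.Flat := by
  letI : Algebra (S ⊗[R] A) (S ⊗[R] B) :=
    (Algebra.TensorProduct.map (AlgHom.id R S) (IsScalarTower.toAlgHom R A B)).toRingHom.toAlgebra
  have H : (algebraMap (S ⊗[R] A) (S ⊗[R] B)).comp Algebra.TensorProduct.includeRight.toRingHom =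
      Algebra.TensorProduct.includeRight.toRingHom.comp (algebraMap A B) := by
    ext; simp [RingHom.algebraMap_toAlgebra]
  haveI : IsScalarTower S (S ⊗[R] A) (S ⊗[R] B) :=
    .of_algebraMap_eq <| by intro; simp [RingHom.algebraMap_toAlgebra]
  let : Algebra A (S ⊗[R] B) := .compHom _ (algebraMap A B)
  have : IsScalarTower A (S ⊗[R] A) (S ⊗[R] B) := .of_algebraMap_eq' H.symm
  have : IsScalarTower R A (S ⊗[R] B) :=
    .of_algebraMap_eq' <| by
      rw [Algebra.compHom_algebraMap_eq, RingHom.comp_assoc, ← IsScalarTower.algebraMap_eq,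
        IsScalarTower.algebraMap_eq R B]
  have : IsScalarTower R (S ⊗[R] A) (S ⊗[R] B) := .to₁₃₄ _ A _ _
  have : IsScalarTower A B (S ⊗[R] B) := .of_algebraMap_eq' rfl
  have : Algebra.IsPushout A B (S ⊗[R] A) (S ⊗[R] B) := by
    rw [← Algebra.IsPushout.comp_iff R _ S]
    infer_instance
  exact RingHom.Flat.isStableUnderBaseChange A B (S ⊗[R] A) (S ⊗[R] B)
    (RingHom.flat_algebraMap_iff.2 inferInstance)


set_option maxHeartbeats 1000000 in
/-- the diagonal `A ⊗[R] A → A` is flat if `A → B` is faithfully flat and `R → B` is unramified -/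
theorem flat_lmul'_of_faithfullyFlat (R A B : Type u) [CommRing R] [CommRing A] [CommRing B]
    [Algebra R A] [Algebra A B] [Algebra R B] [IsScalarTower R A B]
    [Module.FaithfullyFlat A B] [Algebra.EssFiniteType R B] [Algebra.FormallyUnramified R B] :
    (Algebra.TensorProduct.lmul' (S := A) R).toRingHom.Flat := by
  let f : A →ₐ[R] B := IsScalarTower.toAlgHom R A B
  let ψ1 : A ⊗[R] A →+* B ⊗[R] A := (Algebra.TensorProduct.map f (AlgHom.id R A)).toRingHom
  let ψ2 : B ⊗[R] A →+* B ⊗[R] B := (Algebra.TensorProduct.map (AlgHom.id R B) f).toRingHom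
  let ψ3 : B ⊗[R] B →+* B := (Algebra.TensorProduct.lmul' (S := B) R).toRingHom
  let δ : A ⊗[R] A →+* A := (Algebra.TensorProduct.lmul' (S := A) R).toRingHom
  have hcomp : ψ3.comp (ψ2.comp ψ1) = (algebraMap A B).comp δ := by
    ext x <;> simp [ψ1, ψ2, ψ3, δ, f]
  have h1 : ψ1.Flat := flat_map_id_right R A A B
  have h2 : ψ2.Flat := flat_map_id_left R B A B
  have h3 : ψ3.Flat := flat_lmul'_of_formallyUnramified R B
  have h : ((algebraMap A B).comp δ).Flat := hcomp ▸ (h1.comp h2).comp h3
  letI : Algebra (A ⊗[R] A) A := δ.toAlgebra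
  letI : Algebra (A ⊗[R] A) B := ((algebraMap A B).comp δ).toAlgebra
  haveI : IsScalarTower (A ⊗[R] A) A B := .of_algebraMap_eq' rfl
  haveI : Module.Flat (A ⊗[R] A) B := h
  exact Groth.Agent.Lib.Helper18.FibBridge.flat_of_faithfullyFlat_comp (A ⊗[R] A) A B

/-- unramifiedness descends along a faithfully flat map of finite type algebras -/
theorem formallyUnramified_of_faithfullyFlat (R A B : Type u) [CommRing R] [CommRing A]
    [CommRing B] [Algebra R A] [Algebra A B] [Algebra R B] [IsScalarTower R A B]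
    [Module.FaithfullyFlat A B] [Algebra.EssFiniteType R B] [Algebra.FormallyUnramified R B] :
    Algebra.FormallyUnramified R A := by
  have h := flat_lmul'_of_faithfullyFlat R A B
  letI : Algebra (A ⊗[R] A) A := (Algebra.TensorProduct.lmul' (S := A) R).toRingHom.toAlgebra
  haveI : Module.Flat (A ⊗[R] A) A := h
  have hs : Function.Surjective (algebraMap (A ⊗[R] A) A) := fun b => ⟨b ⊗ₜ 1, by
    simp [RingHom.algebraMap_toAlgebra]⟩
  have := isIdempotentElem_ker_of_flat_of_surjective (A ⊗[R] A) A hs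
  constructor
  exact (Ideal.cotangent_subsingleton_iff (KaehlerDifferential.ideal R A)).2 this

/-- étaleness descends along faithfully flat finitely presented maps -/
theorem etale_of_faithfullyFlat_fp (R A B : Type u) [CommRing R] [CommRing A]
    [CommRing B] [Algebra R A] [Algebra A B] [Algebra R B] [IsScalarTower R A B]
    [Module.FaithfullyFlat A B] [Algebra.FinitePresentation A B] [Algebra.Etale R B] :
    Algebra.Etale R A := by
  haveI : Algebra.Smooth R A := smooth_of_faithfullyFlat_fp R A B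
  haveI : Algebra.FinitePresentation R A := Algebra.Smooth.finitePresentation
  haveI : Algebra.FormallyUnramified R A := formallyUnramified_of_faithfullyFlat R A B
  haveI : Algebra.FormallySmooth R A := Algebra.Smooth.formallySmooth
  exact ⟨Algebra.FormallyEtale.of_formallyUnramified_and_formallySmooth, inferInstance⟩

theorem ringHom_etale_of_faithfullyFlat_fp {R A B : Type u} [CommRing R] [CommRing A]
    [CommRing B] (φ₁ : R →+* A) (φ₂ : A →+* B) (h : (φ₂.comp φ₁).Etale)
    (hff : φ₂.FaithfullyFlat) (hfp : φ₂.FinitePresentation) : φ₁.Etale := by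
  algebraize [φ₁, φ₂, φ₂.comp φ₁]
  exact (RingHom.etale_algebraMap).2 (etale_of_faithfullyFlat_fp R A B)


set_option maxHeartbeats 1000000 in
/-- étaleness is fppf local on the source, pointwise form -/
theorem etale_of_forall_exists_fppf {X Y : Scheme.{u}} (f : X ⟶ Y)
    (H : ∀ x : X, ∃ (X' : Scheme.{u}) (g : X' ⟶ X), Flat g ∧ LocallyOfFinitePresentation g ∧
      Etale (g ≫ f) ∧ x ∈ Set.range g) :
    Etale f := by
  rw [HasRingHomProperty.iff_exists_appLE (P := @Etale)
    etale_stableUnderCompositionWithLocalizationAwaySource]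
  intro x
  obtain ⟨X', g, hfl, hfp, hcomp, z, rfl⟩ := H x
  obtain ⟨W₀, hW₀, hxW₀⟩ : ∃ W₀ : Y.Opens, IsAffineOpen W₀ ∧ f (g z) ∈ W₀ := by
    obtain ⟨_, ⟨W₀, hW₀ : IsAffineOpen W₀, rfl⟩, hx, -⟩ :=
      Y.isBasis_affineOpens.exists_subset_of_mem_open (Set.mem_univ (f (g z))) isOpen_univ
    exact ⟨W₀, hW₀, hx⟩
  obtain ⟨V, hV, U, hU, e, hVW, hxV, hff, hfp'⟩ := exists_affine_fppf_chart g z (f ⁻¹ᵁ W₀) hxW₀
  refine ⟨⟨W₀, hW₀⟩, ⟨V, hV⟩, hxV, hVW, ?_⟩
  refine ringHom_etale_of_faithfullyFlat_fp (f.appLE W₀ V hVW).hom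
    (g.appLE V U e).hom ?_ hff hfp'
  rw [← CommRingCat.hom_comp, Scheme.Hom.appLE_comp_appLE]
  exact HasRingHomProperty.appLE (P := @Etale) (g ≫ f) hcomp
    ⟨W₀, hW₀⟩ ⟨U, hU⟩ _

/-- étaleness descends along an fppf cover of the source -/
theorem etale_of_fppf_comp {X Y S : Scheme.{u}} (f : X ⟶ Y) (q : Y ⟶ S) [Surjective f] [Flat f]
    [LocallyOfFinitePresentation f] [Etale (f ≫ q)] : Etale q := by
  refine etale_of_forall_exists_fppf q fun y => ?_
  obtain ⟨x, rfl⟩ := f.surjective y
  exact ⟨X, f, inferInstance, inferInstance, inferInstance, ⟨x, rfl⟩⟩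

end Groth.Agent.Lib.Helper14.AS
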