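import Groth.Agent.Lib.Helper14.SepVal3
import Mathlib.RingTheory.Flat.TorsionFree

open CategoryTheory CategoryTheory.Limits AlgebraicGeometry Opposite AlgSp
open CategoryTheory.Functor Groth.Agent.Lib.Helper14.AS

universe u

noncomputable section

namespace Groth.Agent.Lib.Helper14.AS

/-- A ring over a valuation ring `A` that injects into an algebra over the fraction field of `A`
is flat over `A`. -/
theorem ringHom_flat_of_injective_of_fractionRing {A K B C : Type u} [CommRing A] [IsDomain A]
    [ValuationRing A] [Field K] [Algebra A K] [IsFractionRing A K] [CommRing B] [CommRing C]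
    (φ : A →+* B) (ρ : B →+* C) (κ : K →+* C) (hρ : Function.Injective ρ)
    (h : ρ.comp φ = κ.comp (algebraMap A K)) : φ.Flat := by
  algebraize [φ]
  change Module.Flat A B
  rw [Module.Flat.flat_iff_torsion_eq_bot_of_isBezout, eq_bot_iff]
  intro x hx
  rw [Submodule.mem_torsion_iff] at hx
  obtain ⟨a, ha⟩ := hx
  rw [Submodule.mem_bot]
  apply hρ
  rw [map_zero]
  have h1 : ρ (a • x) = 0 := by rw [ha, map_zero]
  have h2 : (a : A) • x = φ a * x := by
    rw [Algebra.smul_def]; rfl
  have h3 : a • x = (a : A) • x := rfl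
  rw [h3, h2, map_mul] at h1
  have h4 : ρ (φ a) = κ (algebraMap A K a) := congrArg (fun f => f (a : A)) h
  have h5 : IsUnit (algebraMap A K (a : A)) := by
    rw [isUnit_iff_ne_zero]
    exact IsFractionRing.to_map_ne_zero_of_mem_nonZeroDivisors a.2
  have h6 : IsUnit (ρ (φ a)) := by rw [h4]; exact h5.map κ
  exact (h6.mul_right_eq_zero).1 h1

end Groth.Agent.Lib.Helper14.AS

namespace Groth.Agent.Lib.Helper14.AS

section ValRing

variable {A K : Type u} [CommRing A] [IsDomain A] [ValuationRing A] [Field K] [Algebra A K]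
  [IsFractionRing A K]

/-- Scheme version: an affine scheme over the spectrum of a valuation ring `A` which receives a
scheme-theoretically dominant morphism from a scheme over the fraction field is flat over `A`. -/
theorem flat_of_dominant_over_fractionField {Vs Ps : Scheme.{u}} [IsAffine Vs]
    (γVs : Vs ⟶ Spec (CommRingCat.of A)) (θs : Ps ⟶ Vs) (pKs : Ps ⟶ Spec (CommRingCat.of K))
    (hcomm : θs ≫ γVs = pKs ≫ Spec.map (CommRingCat.ofHom (algebraMap A K)))
    [IsSchemeTheoreticallyDominant θs] [QuasiCompact θs] : Flat γVs := by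
  rw [HasRingHomProperty.iff_of_isAffine (P := @Flat)]
  let φ' : A →+* Γ(Vs, ⊤) := (γVs.appTop).hom.comp (Scheme.ΓSpecIso (CommRingCat.of A)).inv.hom
  let ρ : Γ(Vs, ⊤) →+* Γ(Ps, ⊤) := (θs.appTop).hom
  let κ : K →+* Γ(Ps, ⊤) := (pKs.appTop).hom.comp (Scheme.ΓSpecIso (CommRingCat.of K)).inv.hom
  have hρ : Function.Injective ρ := θs.app_injective ⊤
  have hc : γVs.appTop ≫ θs.appTop =
      (Spec.map (CommRingCat.ofHom (algebraMap A K))).appTop ≫ pKs.appTop := by
    rw [← Scheme.Hom.comp_appTop, ← Scheme.Hom.comp_appTop, hcomm]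
  have h : ρ.comp φ' = κ.comp (algebraMap A K) := by
    have h1 : (Scheme.ΓSpecIso (CommRingCat.of A)).inv ≫ γVs.appTop ≫ θs.appTop =
        CommRingCat.ofHom (algebraMap A K) ≫ (Scheme.ΓSpecIso (CommRingCat.of K)).inv ≫
          pKs.appTop := by
      rw [hc, ← Category.assoc, ← Category.assoc, Scheme.ΓSpecIso_inv_naturality]
    exact congrArg CommRingCat.Hom.hom h1
  have hφ' : φ'.Flat := ringHom_flat_of_injective_of_fractionRing φ' ρ κ hρ h
  have hiso : (Scheme.ΓSpecIso (CommRingCat.of A)).hom.hom.Flat :=
    RingHom.Flat.of_bijective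
      (ConcreteCategory.bijective_of_isIso (Scheme.ΓSpecIso (CommRingCat.of A)).hom)
  have heq : (γVs.appTop).hom = φ'.comp (Scheme.ΓSpecIso (CommRingCat.of A)).hom.hom := by
    have h2 : γVs.appTop = (Scheme.ΓSpecIso (CommRingCat.of A)).hom ≫
        (Scheme.ΓSpecIso (CommRingCat.of A)).inv ≫ γVs.appTop := by
      rw [Iso.hom_inv_id_assoc]
    exact congrArg CommRingCat.Hom.hom h2
  rw [heq]
  exact hiso.comp hφ'

instance flat_spec_fractionRing :
    Flat (Spec.map (CommRingCat.ofHom (algebraMap A K))) := by
  rw [HasRingHomProperty.Spec_iff (P := @Flat)]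
  rw [CommRingCat.hom_ofHom, RingHom.flat_algebraMap_iff]
  exact IsLocalization.flat K (nonZeroDivisors A)

instance isSchemeTheoreticallyDominant_spec_fractionRing :
    IsSchemeTheoreticallyDominant (Spec.map (CommRingCat.ofHom (algebraMap A K))) := by
  have : IsReduced (Spec (CommRingCat.of A)) := inferInstance
  have hd : IsDominant (Spec.map (CommRingCat.ofHom (algebraMap A K))) := by
    apply isDominant_of_of_appTop_injective
    have h1 : (Spec.map (CommRingCat.ofHom (algebraMap A K))).appTop =
        (Scheme.ΓSpecIso (CommRingCat.of A)).hom ≫ CommRingCat.ofHom (algebraMap A K) ≫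
          (Scheme.ΓSpecIso (CommRingCat.of K)).inv := by
      rw [Scheme.ΓSpecIso_inv_naturality, Iso.hom_inv_id_assoc]
    rw [h1]
    simp only [CommRingCat.hom_comp, RingHom.coe_comp]
    refine Function.Injective.comp ?_ (ConcreteCategory.bijective_of_isIso _).1
    refine Function.Injective.comp (ConcreteCategory.bijective_of_isIso _).1 ?_
    exact IsFractionRing.injective A K
  exact IsSchemeTheoreticallyDominant.of_isDominant _

instance mono_spec_fractionRing : Mono (Spec.map (CommRingCat.ofHom (algebraMap A K))) := by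
  have : Epi (CommRingCat.ofHom (algebraMap A K)) := by
    constructor
    intro Z f₁ f₂ h
    ext1
    apply IsLocalization.ringHom_ext (nonZeroDivisors A)
    exact congrArg CommRingCat.Hom.hom h
  have h1 : Mono (CommRingCat.ofHom (algebraMap A K)).op := inferInstance
  exact (inferInstance : Mono (Scheme.Spec.map (CommRingCat.ofHom (algebraMap A K)).op))

end ValRing

end Groth.Agent.Lib.Helper14.AS
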