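import Mathlib
import Groth.Agent.Lib.Helper14.CFBC
import Groth.Agent.Lib.Helper23.CMAscent
import Groth.Agent.Lib.Helper18.FlatLocal
import Groth.Agent.Lib.Helper18.CMOpen
import Groth.Agent.Lib.Helper18.SerreReg2
import Groth.Agent.Lib.Helper18.CM2

universe u
set_option linter.style.haveILetI false
set_option linter.unusedSectionVars false
open IsLocalRing
open scoped TensorProduct

namespace Groth.Agent.Lib.Helper14.AS

theorem exists_depth_eq_nat (R : Type u) [CommRing R] [IsLocalRing R] [IsNoetherianRing R] :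
    ∃ (d e : ℕ), ringKrullDim R = d ∧ LocCoh.depth R R = e ∧ e ≤ d := by
  obtain ⟨d, hd⟩ := Groth.Agent.Lib.Helper18.SerreReg.exists_ringKrullDim_eq_nat R
  have h1 := Groth.Agent.Lib.Helper18.CM.depth_le_supportDim (R := R) R
  rw [Module.supportDim_self_eq_ringKrullDim, hd] at h1
  have h2 : LocCoh.depth R R ≤ (d : ℕ∞) := by exact_mod_cast h1
  obtain ⟨e, he⟩ := ENat.ne_top_iff_exists.mp (ne_top_of_le_ne_top (ENat.coe_ne_top d) h2)
  refine ⟨d, e, hd, he.symm, ?_⟩
  rw [← he] at h2
  exact_mod_cast h2

/-- Cohen–Macaulayness along a flat local homomorphism of Noetherian local rings -/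
theorem cm_flat_local_iff (A B : Type u) [CommRing A] [CommRing B] [IsLocalRing A] [IsLocalRing B]
    [IsNoetherianRing A] [IsNoetherianRing B] [Algebra A B] [IsLocalHom (algebraMap A B)]
    [Module.Flat A B] :
    LocCoh.IsCohenMacaulayLocalRing B ↔ (LocCoh.IsCohenMacaulayLocalRing A ∧
      LocCoh.IsCohenMacaulayLocalRing (B ⧸ (maximalIdeal A).map (algebraMap A B))) := by
  haveI : IsLocalRing (B ⧸ (maximalIdeal A).map (algebraMap A B)) := cfp_local (algebraMap A B)
  have hdim := Groth.Agent.Lib.Helper18.FlatLocal.ringKrullDim_eq_add_fibre_of_flat A B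
  have hdepth := Groth.Agent.Lib.Helper18.FlatLocal.depth_eq_add_fibre_of_flat A B
  obtain ⟨a, a', ha, ha', haa⟩ := exists_depth_eq_nat A
  obtain ⟨c, c', hc, hc', hcc⟩ := exists_depth_eq_nat (B ⧸ (maximalIdeal A).map (algebraMap A B))
  rw [ha, hc] at hdim
  rw [ha', hc'] at hdepth
  constructor
  · intro h
    have h1 := h.supportDim_eq_depth
    rw [Module.supportDim_self_eq_ringKrullDim, hdim, hdepth] at h1
    have h2 : a + c = a' + c' := by exact_mod_cast h1
    have h3 : a = a' := by omega
    have h4 : c = c' := by omega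
    refine ⟨⟨?_⟩, ⟨?_⟩⟩
    · rw [Module.supportDim_self_eq_ringKrullDim, ha, ha', h3]
      rfl
    · rw [Module.supportDim_self_eq_ringKrullDim, hc, hc', h4]
      rfl
  · rintro ⟨hA, hF⟩
    have h1 := hA.supportDim_eq_depth
    have h2 := hF.supportDim_eq_depth
    rw [Module.supportDim_self_eq_ringKrullDim, ha, ha'] at h1
    rw [Module.supportDim_self_eq_ringKrullDim, hc, hc'] at h2
    have h3 : a = a' := by exact_mod_cast h1
    have h4 : c = c' := by exact_mod_cast h2
    refine ⟨?_⟩
    rw [Module.supportDim_self_eq_ringKrullDim, hdim, hdepth, h3, h4]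
    push_cast
    rfl

open Groth.Agent.Lib.Helper18.FibQuot in
/-- Cohen–Macaulay analogue of the Gorenstein base field extension statement: for a finitely
generated field extension `k'/k`, a Noetherian local `k`-algebra `C` and a prime `q` of
`C ⊗_k k'` over the maximal ideal, `C` is CM iff `(C ⊗_k k')_q` is. -/
theorem cm_tensor_localization (k k' : Type u) [Field k] [Field k'] [Algebra k k']
    [Algebra.EssFiniteType k k'] (C : Type u) [CommRing C] [IsLocalRing C] [IsNoetherianRing C]
    [Algebra k C] (q : Ideal (C ⊗[k] k')) [q.IsPrime]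
    (hq : q.comap (algebraMap C (C ⊗[k] k')) = maximalIdeal C) :
    LocCoh.IsCohenMacaulayLocalRing C ↔
      LocCoh.IsCohenMacaulayLocalRing (Localization.AtPrime q) := by
  constructor
  · intro hC
    haveI : LocCoh.IsCohenMacaulayRing C :=
      Groth.Agent.Lib.Helper18.CMOpen.isCohenMacaulayRing_of_isCohenMacaulayModule C
        hC.supportDim_eq_depth
    haveI := Groth.Agent.Lib.Helper23.CMAscent.isCohenMacaulayRing_tensor_of_essFiniteType' k k' C
    haveI : LocCoh.IsCohenMacaulayRing (C ⊗[k] k') :=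
      isCohenMacaulayRing_of_ringEquiv (Algebra.TensorProduct.comm k k' C).toRingEquiv
    exact LocCoh.IsCohenMacaulayRing.isCohenMacaulayLocalRing_localization q
  · intro hD
    haveI : Module.Flat C (Localization.AtPrime q) :=
      Module.Flat.trans C (C ⊗[k] k') (Localization.AtPrime q)
    haveI : IsLocalHom (algebraMap C (Localization.AtPrime q)) := by
      refine ⟨fun c hc => ?_⟩
      rw [IsScalarTower.algebraMap_apply C (C ⊗[k] k') (Localization.AtPrime q),
        IsLocalization.AtPrime.isUnit_to_map_iff (Localization.AtPrime q) q] at hc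
      have h1 : c ∉ maximalIdeal C := by
        rw [← hq]
        exact hc
      exact IsLocalRing.notMem_maximalIdeal.mp h1
    exact ((cm_flat_local_iff C (Localization.AtPrime q)).mp hD).1

section alg

variable {A A' B Bp : Type u} [CommRing A] [CommRing A'] [CommRing B] [CommRing Bp]
  [IsLocalRing A] [IsLocalRing A'] [IsLocalRing B] [IsLocalRing Bp]
  [Algebra A A'] [Algebra A B] [IsLocalHom (algebraMap A A')] [IsLocalHom (algebraMap A B)]
  (α : A' →+* Bp) (β : B →+* Bp) [IsLocalHom α] [IsLocalHom β]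
  (φ : A' ⊗[A] B →+* Bp) (hφ1 : ∀ a, φ (a ⊗ₜ 1) = α a) (hφ2 : ∀ b, φ (1 ⊗ₜ b) = β b)

open Groth.Agent.Lib.Helper18.FibQuot in
include hφ1 hφ2 in
theorem cm_cf_iff (hloc : letI := φ.toAlgebra; IsLocalization.AtPrime Bp (tpQ φ))
    [IsNoetherianRing (CFa A B)] [Algebra.EssFiniteType A A'] :
    LocCoh.IsCohenMacaulayLocalRing (CFa A B) ↔ LocCoh.IsCohenMacaulayLocalRing (CFp α) := by
  obtain ⟨q, hq, ⟨e⟩⟩ := cf_localization α β φ hφ1 hφ2 hloc
  have : Algebra.EssFiniteType A (ResidueField A') := .comp _ A' _
  have : Algebra.EssFiniteType (ResidueField A) (ResidueField A') := .of_comp A _ _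
  have h1 := cm_tensor_localization (ResidueField A) (ResidueField A') (CFa A B) q.asIdeal hq
  rw [h1]
  constructor
  · intro h
    haveI := h
    exact isCohenMacaulayLocalRing_of_ringEquiv (R := Localization.AtPrime q.asIdeal)
      (S := CFp α) e.symm
  · intro h
    haveI := h
    exact isCohenMacaulayLocalRing_of_ringEquiv (S := Localization.AtPrime q.asIdeal)
      (R := CFp α) e

end alg

end Groth.Agent.Lib.Helper14.AS
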