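import Mathlib
import Groth.Agent.Lib.Helper14.CMBC
import Groth.Agent.Lib.Helper14.GorBCSch
import Groth.Prelude.Def_MoreMor

universe u
set_option linter.style.haveILetI false
set_option linter.unusedSectionVars false
open CategoryTheory CategoryTheory.Limits AlgebraicGeometry Opposite Topology IsLocalRing
open scoped TensorProduct

namespace Groth.Agent.Lib.Helper14.AS
open Groth.Agent.Lib.Helper10.FibreProductStalk Groth.Agent.Lib.Helper16.GorMor
open Groth.Agent.Lib.Helper18.FibQuot

section sch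

variable {X S X' S' : Scheme.{u}} {f : X ⟶ S} {f' : X' ⟶ S'} {g' : X' ⟶ X} {g : S' ⟶ S}

theorem cm_CF_congr {X S : Scheme.{u}} (f : X ⟶ S) {x x' : X} (h : x' = x) :
    LocCoh.IsCohenMacaulayLocalRing (CF f x') ↔ LocCoh.IsCohenMacaulayLocalRing (CF f x) := by
  subst h
  rfl

/-- the local ring of the fibre at `x` is CM iff the closed fibre ring of the stalk map is -/
theorem cm_fiber_stalk_iff {X S : Scheme.{u}} (f : X ⟶ S) (x : X) :
    LocCoh.IsCohenMacaulayLocalRing ((f.fiber (f x)).presheaf.stalk (f.asFiber x)) ↔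
      LocCoh.IsCohenMacaulayLocalRing (CF f x) := by
  obtain ⟨hs, hk⟩ := Groth.Agent.S9501.result f (f x) (f.asFiber x)
  rw [← cm_CF_congr f (f.fiberι_asFiber x)]
  have e : CF f ((f.fiberι (f x)) (f.asFiber x)) ≃+*
      (f.fiber (f x)).presheaf.stalk (f.asFiber x) :=
    (Ideal.quotEquivOfEq hk.symm).trans (RingHom.quotientKerEquivOfSurjective hs)
  constructor
  · intro h
    haveI := h
    exact isCohenMacaulayLocalRing_of_ringEquiv e.symm
  · intro h
    haveI := h
    exact isCohenMacaulayLocalRing_of_ringEquiv e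

set_option backward.isDefEq.respectTransparency.types false in
/-- closed fibre rings of stalk maps under base change along a locally finite type morphism -/
theorem cm_CF_baseChange_iff (hc : IsPullback g' f' f g) [LocallyOfFiniteType g] (x' : X')
    [IsLocallyNoetherian (f.fiber (f (g' x')))] :
    LocCoh.IsCohenMacaulayLocalRing (CF f (g' x')) ↔
      LocCoh.IsCohenMacaulayLocalRing (CF f' x') := by
  letI : Algebra (S.presheaf.stalk (f.base (g'.base x'))) (X.presheaf.stalk (g'.base x')) :=
    (f.stalkMap (g'.base x')).hom.toAlgebra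
  letI : Algebra (S.presheaf.stalk (f.base (g'.base x'))) (S'.presheaf.stalk (f'.base x')) :=
    (baseStalkMap hc x').hom.toAlgebra
  letI : Algebra (X.presheaf.stalk (g'.base x')) (X'.presheaf.stalk x') :=
    (g'.stalkMap x').hom.toAlgebra
  letI : Algebra (S'.presheaf.stalk (f'.base x')) (X'.presheaf.stalk x') :=
    (f'.stalkMap x').hom.toAlgebra
  letI : Algebra (S.presheaf.stalk (f.base (g'.base x'))) (X'.presheaf.stalk x') :=
    (f.stalkMap (g'.base x') ≫ g'.stalkMap x').hom.toAlgebra
  have : IsScalarTower (S.presheaf.stalk (f.base (g'.base x'))) (X.presheaf.stalk (g'.base x'))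
      (X'.presheaf.stalk x') := IsScalarTower.of_algebraMap_eq fun a => rfl
  have : IsScalarTower (S.presheaf.stalk (f.base (g'.base x'))) (S'.presheaf.stalk (f'.base x'))
      (X'.presheaf.stalk x') := by
    refine IsScalarTower.of_algebraMap_eq fun a => ?_
    change (f.stalkMap (g'.base x') ≫ g'.stalkMap x').hom a =
      (baseStalkMap hc x' ≫ f'.stalkMap x').hom a
    rw [stalkMap_comp_eq hc x']
  haveI : IsLocalHom (algebraMap (S.presheaf.stalk (f.base (g'.base x')))
      (S'.presheaf.stalk (f'.base x'))) := isLocalHom_baseStalkMap hc x'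
  haveI : IsLocalHom (algebraMap (S.presheaf.stalk (f.base (g'.base x')))
      (X.presheaf.stalk (g'.base x'))) :=
    inferInstanceAs (IsLocalHom (f.stalkMap (g'.base x')).hom)
  haveI : Algebra.EssFiniteType (S.presheaf.stalk (f.base (g'.base x')))
      (S'.presheaf.stalk (f'.base x')) := essFiniteType_baseStalkMap hc x'
  haveI : IsNoetherianRing (CFa (S.presheaf.stalk (f.base (g'.base x')))
      (X.presheaf.stalk (g'.base x'))) := isNoetherianRing_CF f (g' x')
  let φ := (Algebra.TensorProduct.productMap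
      (IsScalarTower.toAlgHom (S.presheaf.stalk (f.base (g'.base x')))
        (S'.presheaf.stalk (f'.base x')) (X'.presheaf.stalk x'))
      (IsScalarTower.toAlgHom (S.presheaf.stalk (f.base (g'.base x')))
        (X.presheaf.stalk (g'.base x')) (X'.presheaf.stalk x'))).toRingHom
  have hφ1 : ∀ a, φ (a ⊗ₜ 1) = (f'.stalkMap x').hom a := fun a => by simp [φ]; rfl
  have hφ2 : ∀ b, φ (1 ⊗ₜ b) = (g'.stalkMap x').hom b := fun b => by simp [φ]; rfl
  have hloc := isLocalization_stalk_pullback hc x' φ hφ1 hφ2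
  exact cm_cf_iff (f'.stalkMap x').hom (g'.stalkMap x').hom φ hφ1 hφ2 hloc

theorem cmAt_baseChange (hc : IsPullback g' f' f g) (hfibf : ∀ y, IsLocallyNoetherian (f.fiber y))
    [LocallyOfFiniteType g] (x' : X') :
    (MoreMor.IsCMAt f (g' x') → MoreMor.IsCMAt f' x') ∧
    ((f.stalkMap (g' x')).hom.Flat → MoreMor.IsCMAt f' x' → MoreMor.IsCMAt f (g' x')) ∧
    ((g.stalkMap (f' x')).hom.Flat → MoreMor.IsCMAt f' x' → MoreMor.IsCMAt f (g' x')) := by
  haveI := hfibf (f (g' x'))
  have key := cm_CF_baseChange_iff hc x'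
  refine ⟨fun h => ⟨flat_stalkMap_baseChange hc x' h.1, ?_⟩, fun hfl h => ⟨hfl, ?_⟩,
    fun hg h => ⟨flat_stalkMap_of_baseChange_of_flat hc x' hg h.1, ?_⟩⟩
  · exact (cm_fiber_stalk_iff f' x').mpr (key.mp ((cm_fiber_stalk_iff f (g' x')).mp h.2))
  · exact (cm_fiber_stalk_iff f (g' x')).mpr (key.mpr ((cm_fiber_stalk_iff f' x').mp h.2))
  · exact (cm_fiber_stalk_iff f (g' x')).mpr (key.mpr ((cm_fiber_stalk_iff f' x').mp h.2))

end sch

end Groth.Agent.Lib.Helper14.AS
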