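import Mathlib
import Groth.Agent.Lib.Helper14.CMBCSch
import Groth.Agent.Lib.Helper14.GorSp2
import Groth.Agent.Lib.Helper18.FibBridge

universe u
set_option linter.style.haveILetI false
set_option linter.unusedSectionVars false
open CategoryTheory CategoryTheory.Limits AlgebraicGeometry Opposite Topology IsLocalRing
open scoped TensorProduct

namespace Groth.Agent.Lib.Helper14.AS
open Groth.Agent.Lib.Helper16.GorMor Groth.Agent.Lib.Helper2
open Groth.Agent.Lib.Helper18.FibQuot

/-- all local rings of `V` are fields -/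
def StalksFields (V : Scheme.{u}) : Prop := ∀ v : V, maximalIdeal (V.presheaf.stalk v) = ⊥

theorem stalksFields_spec_field (k : Type u) [Field k] :
    StalksFields (Spec (CommRingCat.of k)) := by
  intro y
  let y' : PrimeSpectrum k := y
  haveI : y'.asIdeal.IsPrime := y'.isPrime
  let _ : Algebra k ((Spec (CommRingCat.of k)).presheaf.stalk y) :=
    StructureSheaf.stalkAlgebra k y'
  have : IsLocalization.AtPrime ((Spec (CommRingCat.of k)).presheaf.stalk y) y'.asIdeal :=
    StructureSheaf.IsLocalization.to_stalk k y'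
  rw [← IsLocalization.AtPrime.map_eq_maximalIdeal y'.asIdeal
    ((Spec (CommRingCat.of k)).presheaf.stalk y)]
  have h0 : y'.asIdeal = ⊥ := by
    rcases Ideal.eq_bot_or_top y'.asIdeal with h | h
    · exact h
    · exact absurd h y'.isPrime.ne_top
  rw [h0, Ideal.map_bot]

theorem stalksFields_of_etale {V W : Scheme.{u}} (b : V ⟶ W) [Etale b] (hW : StalksFields W) :
    StalksFields V := by
  intro v
  algebraize [(b.stalkMap v).hom]
  have : IsLocalHom (algebraMap (W.presheaf.stalk (b v)) (V.presheaf.stalk v)) :=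
    inferInstanceAs <| IsLocalHom (b.stalkMap v).hom
  have : Algebra.EssFiniteType (W.presheaf.stalk (b v)) (V.presheaf.stalk v) := by
    rw [← RingHom.essFiniteType_algebraMap, RingHom.algebraMap_toAlgebra]
    exact LocallyOfFiniteType.stalkMap b v
  have : Algebra.FormallyUnramified (W.presheaf.stalk (b v)) (V.presheaf.stalk v) := by
    rw [← RingHom.formallyUnramified_algebraMap, RingHom.algebraMap_toAlgebra]
    exact FormallyUnramified.stalkMap b v
  rw [← Algebra.FormallyUnramified.map_maximalIdeal (R := W.presheaf.stalk (b v)), hW,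
    Ideal.map_bot]

theorem cf_equiv_of_bot {U V : Scheme.{u}} (h : U ⟶ V) (u : U)
    (hV : maximalIdeal (V.presheaf.stalk (h u)) = ⊥) :
    Nonempty (CF h u ≃+* U.presheaf.stalk u) := by
  have h0 : Ideal.map (h.stalkMap u).hom (maximalIdeal (V.presheaf.stalk (h u))) = ⊥ := by
    rw [hV, Ideal.map_bot]
  exact ⟨(Ideal.quotEquivOfEq h0).trans (RingEquiv.quotientBot _)⟩

theorem flat_stalkMap_of_bot {U V : Scheme.{u}} (h : U ⟶ V) (u : U)
    (hV : maximalIdeal (V.presheaf.stalk (h u)) = ⊥) : (h.stalkMap u).hom.Flat :=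
  RingHom.Flat.of_isField (isField_iff_maximalIdeal_eq.mpr hV) _

theorem cmAt_iff_of_stalksFields {U V : Scheme.{u}} (h : U ⟶ V) (hV : StalksFields V) (u : U) :
    MoreMor.IsCMAt h u ↔ LocCoh.IsCohenMacaulayLocalRing (U.presheaf.stalk u) := by
  obtain ⟨e⟩ := cf_equiv_of_bot h u (hV _)
  unfold MoreMor.IsCMAt
  rw [cm_fiber_stalk_iff]
  constructor
  · rintro ⟨_, hc⟩
    haveI := hc
    exact isCohenMacaulayLocalRing_of_ringEquiv e
  · intro hc
    haveI := hc
    exact ⟨flat_stalkMap_of_bot h u (hV _), isCohenMacaulayLocalRing_of_ringEquiv e.symm⟩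

theorem gorAt_iff_of_stalksFields {U V : Scheme.{u}} (h : U ⟶ V) (hV : StalksFields V) (u : U) :
    Dual3.IsGorensteinAt h u ↔ LocCoh.IsGorensteinLocalRing (U.presheaf.stalk u) := by
  obtain ⟨e⟩ := cf_equiv_of_bot h u (hV _)
  unfold Dual3.IsGorensteinAt
  rw [gor_fiber_stalk_iff]
  constructor
  · rintro ⟨_, hc⟩
    exact GK.gor_of_ringEquiv e hc
  · intro hc
    exact ⟨flat_stalkMap_of_bot h u (hV _), GK.gor_of_ringEquiv e.symm hc⟩

theorem cm_of_isField (R : Type u) [CommRing R] (hR : IsField R) :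
    LocCoh.IsCohenMacaulayLocalRing R := by
  letI := hR.toField
  have hdim : ringKrullDim R = 0 := ringKrullDim_eq_zero_of_isField hR
  refine { supportDim_eq_depth := ?_ }
  rw [Module.supportDim_self_eq_ringKrullDim, hdim,
    Groth.Agent.Lib.Helper18.FibBridge.depth_eq_zero_of_ringKrullDim_eq_zero R hdim]
  rfl

theorem cm_stalk_iff_of_etale {P U : Scheme.{u}} (p : P ⟶ U) [Etale p] [IsLocallyNoetherian U]
    (w : ↥P) : LocCoh.IsCohenMacaulayLocalRing (P.presheaf.stalk w) ↔
      LocCoh.IsCohenMacaulayLocalRing (U.presheaf.stalk (p w)) := by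
  have : IsLocallyNoetherian P := LocallyOfFiniteType.isLocallyNoetherian p
  algebraize [(p.stalkMap w).hom]
  have : IsLocalHom (algebraMap (U.presheaf.stalk (p w)) (P.presheaf.stalk w)) :=
    inferInstanceAs <| IsLocalHom (p.stalkMap w).hom
  have : Algebra.EssFiniteType (U.presheaf.stalk (p w)) (P.presheaf.stalk w) := by
    rw [← RingHom.essFiniteType_algebraMap, RingHom.algebraMap_toAlgebra]
    exact LocallyOfFiniteType.stalkMap p w
  have : Algebra.FormallyUnramified (U.presheaf.stalk (p w)) (P.presheaf.stalk w) := by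
    rw [← RingHom.formallyUnramified_algebraMap, RingHom.algebraMap_toAlgebra]
    exact FormallyUnramified.stalkMap p w
  have : Module.Flat (U.presheaf.stalk (p w)) (P.presheaf.stalk w) := Flat.stalkMap p w
  rw [cm_flat_local_iff (U.presheaf.stalk (p w)) (P.presheaf.stalk w)]
  have hF := Algebra.FormallyUnramified.isField_quotient_map_maximalIdeal
    (R := U.presheaf.stalk (p w)) (S := P.presheaf.stalk w)
  exact ⟨fun h => h.1, fun h => ⟨h, cm_of_isField _ hF⟩⟩

open AlgSp in
set_option backward.isDefEq.respectTransparency.types false in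
theorem locP_field_iff {S : Scheme.{u}} (k : Type u) [Field k] (t : Spec (CommRingCat.of k) ⟶ S)
    (X : Scheme.{u}) (p : X ⟶ Spec (CommRingCat.of k)) [LocallyOfFiniteType p]
    (Q : ∀ {U V : Scheme.{u}}, (U ⟶ V) → ↥U → Prop) (R : ∀ (U : Scheme.{u}), ↥U → Prop)
    (hQR : ∀ {U V : Scheme.{u}} (h : U ⟶ V), StalksFields V → ∀ u, Q h u ↔ R U u)
    (hRet : ∀ {P U : Scheme.{u}} (a : P ⟶ U) [Etale a] [IsLocallyNoetherian U] (w : ↥P),
      R P w ↔ R U (a w)) :
    LocP (fun _ _ g => ∀ x, Q g x)
      ((yon S).map (Over.homMk p rfl : Over.mk (p ≫ t) ⟶ Over.mk t)) ↔ ∀ x : ↥X, R X x := by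
  have hXN : IsLocallyNoetherian X := LocallyOfFiniteType.isLocallyNoetherian p
  constructor
  · intro H x
    have h1 := H (𝟙 _) (𝟙 _) (Over.homMk p rfl : Over.mk (p ≫ t) ⟶ Over.mk t)
      (repWith_id _ _) (repWith_id _ _) (by simp) x
    exact (hQR p (stalksFields_spec_field k) x).mp h1
  · intro H U V a b h ha hb comm u
    obtain ⟨a₀, rfl⟩ := (yon S).map_surjective a
    obtain ⟨b₀, rfl⟩ := (yon S).map_surjective b
    haveI : Etale a₀.left := (repWith_yon_map_iff _ _).1 ha
    haveI : Etale b₀.left := (repWith_yon_map_iff _ _).1 hb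
    have hV : StalksFields V.left := stalksFields_of_etale b₀.left (stalksFields_spec_field k)
    exact (hQR h.left hV u).mpr ((hRet (U := X) a₀.left u).mpr (H _))

end Groth.Agent.Lib.Helper14.AS
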