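import Groth.Prelude.Def_AlgSp2
import Groth.Prelude.Def_AlgSp3
import Groth.Agent.S4991
import Groth.Agent.Lib.Helper14.AlgSpBase

universe u
open CategoryTheory CategoryTheory.Limits AlgebraicGeometry Opposite

namespace Groth.Agent.Lib.Helper14.AS
open AlgSp

theorem isRegularLocalRing_stalk_spec_field (k : Type u) [Field k]
    (x : ↥(Spec (CommRingCat.of k))) :
    IsRegularLocalRing ↑((Spec (CommRingCat.of k)).presheaf.stalk x) := by
  have hA : IsAffineOpen (⊤ : (Spec (CommRingCat.of k)).Opens) := isAffineOpen_top _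
  let x' : (⊤ : (Spec (CommRingCat.of k)).Opens) := ⟨x, trivial⟩
  let _ := (Spec (CommRingCat.of k)).presheaf.algebra_section_stalk x'
  have hloc := hA.isLocalization_stalk x'
  let e₀ : Γ(Spec (CommRingCat.of k), ⊤) ≃+* k :=
    (Scheme.ΓSpecIso (CommRingCat.of k)).commRingCatIsoToRingEquiv
  have hu : ∀ m ∈ (hA.primeIdealOf x').asIdeal.primeCompl, IsUnit m := by
    intro m hm
    have h0 : m ≠ 0 := fun h => hm (by rw [h]; exact Ideal.zero_mem _)
    have h1 : e₀ m ≠ 0 := fun h => h0 (e₀.injective (by rw [h, map_zero]))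
    have h2 : IsUnit (e₀ m) := h1.isUnit
    have := h2.map e₀.symm
    rwa [RingEquiv.symm_apply_apply] at this
  let e := IsLocalization.atUnits Γ(Spec (CommRingCat.of k), ⊤)
    (hA.primeIdealOf x').asIdeal.primeCompl
    (S := ↑((Spec (CommRingCat.of k)).presheaf.stalk x)) hu
  exact IsRegularLocalRing.of_ringEquiv (e₀.symm.trans e.toRingEquiv)

variable {k : Type u} [Field k]

set_option backward.isDefEq.respectTransparency.types false in
theorem etaleLocally_regular_of_smooth_field (X : Space (Spec (CommRingCat.of k)))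
    (p : X.obj ⟶ (yon (Spec (CommRingCat.of k))).obj (Over.mk (𝟙 _))) (hp : LocP @Smooth p) :
    EtaleLocally (fun U => IsLocallyNoetherian U ∧
      ∀ u : ↥U, IsRegularLocalRing ↥(U.presheaf.stalk u)) X.obj := by
  obtain ⟨U, a, hae, has⟩ := X.property.atlas
  refine ⟨U, a, hae, has, ?_⟩
  obtain ⟨h, hh⟩ := (yon _).map_surjective (a ≫ p)
  have hsm : Smooth h.left :=
    hp a (𝟙 _) h hae (repWith_id _ _) (by rw [hh, Category.comp_id])
  have hk : IsLocallyNoetherian (Over.mk (𝟙 (Spec (CommRingCat.of k)))).left :=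
    (inferInstance : IsLocallyNoetherian (Spec (CommRingCat.of k)))
  have hN : IsLocallyNoetherian U.left := LocallyOfFiniteType.isLocallyNoetherian h.left
  refine ⟨hN, fun u => ?_⟩
  rw [Groth.Agent.S4991.result h.left u ⟨⊤, trivial, inferInstance⟩]
  exact isRegularLocalRing_stalk_spec_field k _

end Groth.Agent.Lib.Helper14.AS
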