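import Groth.Prelude.Def_HTop3
import Groth.Agent.Lib.Helper1.IdealSheafComap
import Groth.Agent.Lib.Helper25.BlowUpDense
import Mathlib

/-!
# Almost blow up squares: locally principal ideals and sections supported on them (helper14)
-/

set_option autoImplicit false

universe u

namespace Groth.Agent.Lib.Helper14.ABU

open CategoryTheory CategoryTheory.Limits AlgebraicGeometry TopologicalSpace Opposite

variable {X : Scheme.{u}}

/-- A locally principal ideal stays principal on smaller affine opens. -/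
theorem principal_of_le (𝓙 : X.IdealSheafData) {U V : X.affineOpens} (h : V ≤ U) (f : Γ(X, U.1))
    (hI : 𝓙.ideal U = Ideal.span {f}) :
    𝓙.ideal V = Ideal.span {(X.presheaf.map (homOfLE h).op).hom f} := by
  rw [← 𝓙.map_ideal h, hI, Ideal.map_span, Set.image_singleton]

/-- Pullbacks of locally principal ideals are locally principal. -/
theorem isLocPrincipal_comap {Y : Scheme.{u}} (f : Y ⟶ X) (𝓔 : X.IdealSheafData)
    (h : HTop.IsLocPrincipal 𝓔) : HTop.IsLocPrincipal (𝓔.comap f) := by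
  intro y
  obtain ⟨U, hyU, t, ht⟩ := h (f y)
  obtain ⟨_, ⟨V, hV, rfl⟩, hyV, hVU⟩ := (Y.isBasis_affineOpens).exists_subset_of_mem_open
    (show y ∈ ((f ⁻¹ᵁ U.1 : Y.Opens) : Set Y) from hyU) (f ⁻¹ᵁ U.1).isOpen
  refine ⟨⟨V, hV⟩, hyV, (f.appLE U.1 V hVU).hom t, ?_⟩
  rw [Groth.Agent.Lib.Helper1.ideal_comap 𝓔 f ⟨V, hV⟩ U hVU, ht, Ideal.map_span,
    Set.image_singleton]

/-- On an affine open where the ideal is generated by `t`, the complement of the support is the
basic open of `t`. -/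
theorem awayFrom_inf_eq_basicOpen (𝓔 : X.IdealSheafData) (U : X.affineOpens) (t : Γ(X, U.1))
    (ht : 𝓔.ideal U = Ideal.span {t}) : HTop.awayFrom 𝓔 ⊓ U.1 = X.basicOpen t := by
  ext x
  constructor
  · rintro ⟨hx1, hx2⟩
    have hx1' : x ∉ 𝓔.support := hx1
    rw [Scheme.IdealSheafData.mem_support_iff_of_mem hx2, ht] at hx1'
    by_contra hx3
    apply hx1'
    rw [Scheme.mem_zeroLocus_iff]
    intro s hs
    obtain ⟨a, rfl⟩ := Ideal.mem_span_singleton'.mp hs
    intro hx4
    rw [Scheme.basicOpen_mul] at hx4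
    exact hx3 hx4.2
  · intro hx
    have hx2 : x ∈ U.1 := X.basicOpen_le t hx
    refine ⟨?_, hx2⟩
    change x ∉ 𝓔.support
    rw [Scheme.IdealSheafData.mem_support_iff_of_mem hx2, ht, Scheme.mem_zeroLocus_iff]
    intro h
    exact h t (Ideal.mem_span_singleton_self t) hx

/-- The complement of the support of a locally principal ideal is retrocompact. -/
theorem quasiCompact_awayFrom_ι (𝓔 : X.IdealSheafData) (h : HTop.IsLocPrincipal 𝓔) :
    QuasiCompact (HTop.awayFrom 𝓔).ι := by
  choose U hxU t ht using h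
  have hcov : ⨆ x, ((U x : X.affineOpens) : X.Opens) = ⊤ := by
    rw [eq_top_iff]
    intro x _
    exact Opens.mem_iSup.mpr ⟨x, hxU x⟩
  rw [HasAffineProperty.iff_of_iSup_eq_top (P := @QuasiCompact) U hcov]
  intro x
  set W : X.Opens := HTop.awayFrom 𝓔 with hW
  change CompactSpace ↥(W.ι ⁻¹ᵁ (U x).1)
  refine isCompact_iff_compactSpace.mp ?_
  rw [W.ι.isOpenEmbedding.isInducing.isCompact_iff]
  have himg : (W.ι '' ((W.ι ⁻¹ᵁ (U x).1 : W.toScheme.Opens) : Set W.toScheme)) =
      ((X.basicOpen (t x) : X.Opens) : Set X) := by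
    rw [← awayFrom_inf_eq_basicOpen 𝓔 (U x) (t x) (ht x)]
    ext z
    constructor
    · rintro ⟨w, hw, rfl⟩
      exact ⟨w.2, hw⟩
    · rintro ⟨hz1, hz2⟩
      exact ⟨⟨z, hz1⟩, hz2, rfl⟩
  rw [himg]
  exact ((U x).2.basicOpen (t x)).isCompact

/-- The sections supported on a locally principal ideal, on an affine open where the ideal is
generated by `t`: multiplication by `t` is injective modulo them. -/
theorem mem_supportedOn_of_mul_mem (𝓔 : X.IdealSheafData) (h : HTop.IsLocPrincipal 𝓔)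
    (U : X.affineOpens) (t : Γ(X, U.1)) (ht : 𝓔.ideal U = Ideal.span {t}) (a : Γ(X, U.1))
    (ha : t * a ∈ (HTop.supportedOn 𝓔).ideal U) : a ∈ (HTop.supportedOn 𝓔).ideal U := by
  have := quasiCompact_awayFrom_ι 𝓔 h
  set W : X.Opens := HTop.awayFrom 𝓔 with hW
  change a ∈ W.ι.ker.ideal U
  have ha' : t * a ∈ W.ι.ker.ideal U := ha
  rw [Scheme.Hom.ker_apply, RingHom.mem_ker] at ha' ⊢
  rw [map_mul] at ha'
  have hb : W.toScheme.basicOpen ((W.ι.app U.1).hom t) = W.ι ⁻¹ᵁ U.1 := by
    rw [← Scheme.preimage_basicOpen, ← awayFrom_inf_eq_basicOpen 𝓔 U t ht]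
    ext w
    constructor
    · intro hw
      exact hw.2
    · intro hw
      exact ⟨w.2, hw⟩
  have hunit : IsUnit ((W.ι.app U.1).hom t) := by
    apply RingedSpace.isUnit_of_isUnit_germ W.toScheme.toLocallyRingedSpace.toRingedSpace
    intro w hw
    have hw' : w ∈ W.toScheme.basicOpen ((W.ι.app U.1).hom t) := by rw [hb]; exact hw
    exact (W.toScheme.mem_basicOpen _ w hw).mp hw'
  exact (hunit.mul_right_eq_zero).mp ha'

end Groth.Agent.Lib.Helper14.ABU
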