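import Groth.Agent.Lib.Helper14.ABU1

/-!
# Almost blow up squares: the strict part of a locally principal subscheme (helper14)
-/

set_option autoImplicit false

universe u

namespace Groth.Agent.Lib.Helper14.ABU

open CategoryTheory CategoryTheory.Limits AlgebraicGeometry TopologicalSpace Opposite

variable {X : Scheme.{u}}

/-- On the closed subscheme cut out by the sections supported on a locally principal ideal, the
ideal becomes effective Cartier. -/
theorem isEffCartierIdeal_comap_subschemeι (𝓔 : X.IdealSheafData) (h : HTop.IsLocPrincipal 𝓔) :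
    BlowUp.IsEffCartierIdeal (𝓔.comap (HTop.supportedOn 𝓔).subschemeι) := by
  set 𝓚 := HTop.supportedOn 𝓔 with h𝓚
  intro x
  obtain ⟨U, hxU, t, ht⟩ := h (𝓚.subschemeι x)
  have hV : IsAffineOpen (𝓚.subschemeι ⁻¹ᵁ U.1) := U.2.preimage 𝓚.subschemeι
  refine ⟨⟨_, hV⟩, hxU, (𝓚.subschemeι.app U.1).hom t, ?_, ?_⟩
  · rw [mem_nonZeroDivisors_iff_left]
    intro b hb
    obtain ⟨a, rfl⟩ := 𝓚.subschemeι_app_surjective U b
    have h1 : (𝓚.subschemeι.app U.1).hom (t * a) = 0 := by rw [map_mul]; exact hb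
    have h2 : t * a ∈ 𝓚.ideal U := by
      rw [← 𝓚.ker_subschemeι_app U, RingHom.mem_ker]; exact h1
    have h3 : a ∈ 𝓚.ideal U := mem_supportedOn_of_mul_mem 𝓔 h U t ht a h2
    rw [← 𝓚.ker_subschemeι_app U, RingHom.mem_ker] at h3
    exact h3
  · rw [Groth.Agent.Lib.Helper1.ideal_comap 𝓔 𝓚.subschemeι ⟨_, hV⟩ U le_rfl, ht, Ideal.map_span,
      Set.image_singleton]
    congr 2
    have : 𝓚.subschemeι.appLE U.1 (𝓚.subschemeι ⁻¹ᵁ U.1) le_rfl = 𝓚.subschemeι.app U.1 := by
      simp [Scheme.Hom.appLE]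
    exact congrArg (fun φ => φ.hom t) this

/-- If the pullback of `𝓔` along `t` is effective Cartier, then `t` kills the sections supported
on `𝓔`. -/
theorem supportedOn_le_ker {T : Scheme.{u}} (𝓔 : X.IdealSheafData) (t : T ⟶ X)
    (h : BlowUp.IsEffCartierIdeal (𝓔.comap t)) : HTop.supportedOn 𝓔 ≤ t.ker := by
  have h1 := Groth.Agent.Lib.Helper25.BlowUpUP.isSchemeTheoreticallyDominant_ι_complSupport _ h
  rw [Groth.Agent.Lib.Helper25.BlowUpUP.complSupport_comap] at h1
  set W : X.Opens := HTop.awayFrom 𝓔 with hW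
  have h2 : (t ⁻¹ᵁ W).ι.ker = ⊥ := h1.ker_eq_bot
  have h3 : t.ker = ((t ⁻¹ᵁ W).ι ≫ t).ker := by
    rw [Scheme.Hom.ker_comp, h2, Scheme.IdealSheafData.map_bot]
  rw [h3, ← morphismRestrict_ι t W]
  exact Scheme.Hom.le_ker_comp _ _

end Groth.Agent.Lib.Helper14.ABU
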