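import Groth.Agent.Lib.Helper14.ABU2

/-!
# Base change of almost blow up squares (helper14)
-/

set_option autoImplicit false

universe u

namespace Groth.Agent.Lib.Helper14.ABU

open CategoryTheory CategoryTheory.Limits AlgebraicGeometry TopologicalSpace Opposite

/-- The kernel of the base change of a closed immersion is the inverse image of the kernel. -/
theorem ker_of_isPullback {P X Z Y : Scheme.{u}} {fst : P ⟶ X} {snd : P ⟶ Z} {f : X ⟶ Y}
    {i : Z ⟶ Y} [IsClosedImmersion i] (h : IsPullback fst snd f i) : fst.ker = i.ker.comap f := by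
  rw [← h.isoPullback_hom_fst, Scheme.Hom.ker_comp_of_isIso,
    Scheme.IdealSheafData.ker_fst_of_isClosedImmersion]

/-- Universal property of the strict part: a morphism to `X'` along which `𝓔` pulls back to an
effective Cartier ideal factors uniquely through the closed subscheme of sections supported on
`𝓔`. -/
theorem exists_lift_supportedOn {X' T : Scheme.{u}} (𝓔 : X'.IdealSheafData) (t : T ⟶ X')
    (h : BlowUp.IsEffCartierIdeal (𝓔.comap t)) :
    ∃ s : T ⟶ (HTop.supportedOn 𝓔).subscheme, s ≫ (HTop.supportedOn 𝓔).subschemeι = t := by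
  have hle : (HTop.supportedOn 𝓔).subschemeι.ker ≤ t.ker := by
    rw [Scheme.IdealSheafData.ker_subschemeι]
    exact supportedOn_le_ker 𝓔 t h
  exact ⟨IsClosedImmersion.lift _ t hle, IsClosedImmersion.lift_fac _ t hle⟩

theorem isAlmostBlowUpSquare_of_isPullback
    {E Z X' X Y E₁ Z₁ X₁ : Scheme.{u}} {e : E ⟶ X'} {π : E ⟶ Z} {b : X' ⟶ X} {i : Z ⟶ X}
    (h : HTop.IsAlmostBlowUpSquare e π b i) (g : Y ⟶ X) {b₁ : X₁ ⟶ Y} {gX : X₁ ⟶ X'}
    (hX : IsPullback gX b₁ b g) {i₁ : Z₁ ⟶ Y} {gZ : Z₁ ⟶ Z} (hZ : IsPullback gZ i₁ i g)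
    {e₁ : E₁ ⟶ X₁} {gE : E₁ ⟶ E} (hE : IsPullback gE e₁ e gX) {π₁ : E₁ ⟶ Z₁}
    (hπ : π₁ ≫ i₁ = e₁ ≫ b₁) : HTop.IsAlmostBlowUpSquare e₁ π₁ b₁ i₁ := by
  have hci := h.isClosedImmersion
  have hci₁ : IsClosedImmersion i₁ := MorphismProperty.of_isPullback hZ h.isClosedImmersion
  have hker : i₁.ker = i.ker.comap g := ker_of_isPullback hZ.flip
  have hE₁ : i₁.ker.comap b₁ = (i.ker.comap b).comap gX := by
    rw [hker, ← Scheme.IdealSheafData.comap_comp, ← Scheme.IdealSheafData.comap_comp, hX.w]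
  have hloc : HTop.IsLocPrincipal (i₁.ker.comap b₁) := by
    rw [hE₁]
    exact isLocPrincipal_comap gX _ h.locPrincipal
  have hcompat : π₁ ≫ gZ = gE ≫ π := by
    rw [← cancel_mono i, Category.assoc, Category.assoc, hZ.w, reassoc_of% hπ, ← hX.w,
      ← h.isPullback.w, hE.w_assoc]
  refine ⟨hci₁, MorphismProperty.of_isPullback hZ h.finitePresentation_base, ?_, hloc,
    MorphismProperty.of_isPullback hX h.isProper,
    MorphismProperty.of_isPullback hX h.finitePresentation, ?_⟩
  · -- the fibre square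
    have h1 : IsPullback e₁ (gE ≫ π) (gX ≫ b) i := hE.flip.paste_vert h.isPullback
    have h2 : IsPullback e₁ (π₁ ≫ gZ) (b₁ ≫ g) i := by
      rw [hcompat, ← hX.w]; exact h1
    exact IsPullback.of_bot h2 hπ.symm hZ.flip
  · -- the blow up property
    set 𝓔 := i.ker.comap b with h𝓔
    set 𝓔₁ := i₁.ker.comap b₁ with h𝓔₁
    refine ⟨?_, ?_⟩
    · rw [Scheme.IdealSheafData.comap_comp]
      exact isEffCartierIdeal_comap_subschemeι 𝓔₁ hloc
    · intro T q hq
      -- `q : T ⟶ Y` with `i₁.ker.comap q` Cartier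
      have hq' : BlowUp.IsEffCartierIdeal (i.ker.comap (q ≫ g)) := by
        rw [Scheme.IdealSheafData.comap_comp, ← hker]; exact hq
      obtain ⟨s, hs, hsu⟩ := h.isBlowUp.2 T (q ≫ g) hq'
      -- the morphism `T ⟶ X₁`
      have hs' : (s ≫ (HTop.supportedOn 𝓔).subschemeι) ≫ b = q ≫ g := by
        rw [Category.assoc]; exact hs
      set t : T ⟶ X₁ := hX.lift (s ≫ (HTop.supportedOn 𝓔).subschemeι) q hs' with ht
      have ht1 : t ≫ gX = s ≫ (HTop.supportedOn 𝓔).subschemeι := hX.lift_fst _ _ _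
      have ht2 : t ≫ b₁ = q := hX.lift_snd _ _ _
      have htC : BlowUp.IsEffCartierIdeal (𝓔₁.comap t) := by
        rw [h𝓔₁, ← Scheme.IdealSheafData.comap_comp, ht2]; exact hq
      obtain ⟨r, hr⟩ := exists_lift_supportedOn 𝓔₁ t htC
      refine ⟨r, ?_, ?_⟩
      · change r ≫ (HTop.supportedOn 𝓔₁).subschemeι ≫ b₁ = q
        rw [reassoc_of% hr, ht2]
      · intro r' hr'
        have hr'' : (r' ≫ (HTop.supportedOn 𝓔₁).subschemeι) ≫ b₁ = q := by
          rw [Category.assoc]; exact hr'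
        rw [← cancel_mono (HTop.supportedOn 𝓔₁).subschemeι, hr]
        -- `u := r' ≫ ι₁ : T ⟶ X₁`
        set u : T ⟶ X₁ := r' ≫ (HTop.supportedOn 𝓔₁).subschemeι with hu
        apply hX.hom_ext
        · -- `u ≫ gX` factors through the strict part by Cartier-ness
          have huC : BlowUp.IsEffCartierIdeal (𝓔.comap (u ≫ gX)) := by
            rw [Scheme.IdealSheafData.comap_comp, ← hE₁, h𝓔₁,
              ← Scheme.IdealSheafData.comap_comp, hr'']
            exact hq
          obtain ⟨s', hs''⟩ := exists_lift_supportedOn 𝓔 (u ≫ gX) huC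
          have hs'eq : s' = s := by
            apply hsu
            change s' ≫ (HTop.supportedOn 𝓔).subschemeι ≫ b = q ≫ g
            rw [reassoc_of% hs'', hX.w, reassoc_of% hr'']
          rw [ht1, ← hs'', hs'eq]
        · rw [ht2, hr'']

end Groth.Agent.Lib.Helper14.ABU
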