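import Groth.Agent.Lib.Helper14.ABU3
import Groth.Agent.Lib.Helper25.ReesBlowUp
import Groth.Agent.Lib.Helper25.BlowUpLocal
import Groth.Agent.S4418

/-!
# Honest blow up squares are almost blow up squares; existence over Noetherian schemes (helper14)
-/

set_option autoImplicit false

universe u

namespace Groth.Agent.Lib.Helper14.ABU

open CategoryTheory CategoryTheory.Limits AlgebraicGeometry TopologicalSpace Opposite

/-- For an effective Cartier ideal there are no nonzero sections supported on it. -/
theorem supportedOn_eq_bot {X : Scheme.{u}} (𝓔 : X.IdealSheafData)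
    (h : BlowUp.IsEffCartierIdeal 𝓔) : HTop.supportedOn 𝓔 = ⊥ :=
  (Groth.Agent.Lib.Helper25.BlowUpUP.isSchemeTheoreticallyDominant_ι_complSupport 𝓔 h).ker_eq_bot

theorem isLocPrincipal_of_isEffCartierIdeal {X : Scheme.{u}} (𝓔 : X.IdealSheafData)
    (h : BlowUp.IsEffCartierIdeal 𝓔) : HTop.IsLocPrincipal 𝓔 := by
  intro x
  obtain ⟨U, hx, f, -, hf⟩ := h x
  exact ⟨U, hx, f, hf⟩

/-- An honest blow up square with proper finitely presented blow up morphism is an almost blow up
square. -/
theorem isAlmostBlowUpSquare_of_isBlowUp {E Z X' X : Scheme.{u}} {e : E ⟶ X'} {π : E ⟶ Z}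
    {b : X' ⟶ X} {i : Z ⟶ X} [IsClosedImmersion i] [LocallyOfFinitePresentation i]
    (hsq : IsPullback e π b i) [IsProper b] [LocallyOfFinitePresentation b]
    (hb : BlowUp.IsBlowUp b i.ker) : HTop.IsAlmostBlowUpSquare e π b i := by
  refine ⟨inferInstance, inferInstance, hsq, isLocPrincipal_of_isEffCartierIdeal _ hb.1,
    inferInstance, inferInstance, ?_⟩
  have h0 : HTop.supportedOn (i.ker.comap b) = ⊥ := supportedOn_eq_bot _ hb.1
  have hiso : IsIso (HTop.supportedOn (i.ker.comap b)).subschemeι := by
    rw [AlgebraicGeometry.Scheme.isIso_subschemeι_iff_eq_bot]; exact h0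
  exact Groth.Agent.Lib.Helper25.BlowUpUP.isBlowUp_iso_comp b i.ker
    (asIso (HTop.supportedOn (i.ker.comap b)).subschemeι) hb

/-- Over a locally Noetherian scheme, every closed subscheme is the centre of an almost blow up
square. -/
theorem exists_isAlmostBlowUpSquare_of_isLocallyNoetherian {Z X : Scheme.{u}}
    [IsLocallyNoetherian X] (i : Z ⟶ X) [IsClosedImmersion i] [LocallyOfFinitePresentation i] :
    ∃ (E X' : Scheme.{u}) (e : E ⟶ X') (π : E ⟶ Z) (b : X' ⟶ X),
      HTop.IsAlmostBlowUpSquare e π b i := by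
  obtain ⟨X', b, hb⟩ := Groth.Agent.Lib.Helper25.BlowUpUP.exists_isBlowUp X i.ker
  have h𝓘 : BlowUp.IsFiniteTypeIdeal i.ker := by
    intro U
    have : IsNoetherianRing Γ(X, U.1) := IsLocallyNoetherian.component_noetherian U
    exact (isNoetherianRing_iff_ideal_fg _).1 inferInstance _
  have hproj := Groth.Agent.Lib.Helper25.ReesQC.isProjective_of_isBlowUp i.ker h𝓘 b hb
  obtain ⟨⟨hlft, hqc, -⟩, hprop⟩ := Groth.Agent.S4418.result b hproj
  have : IsProper b := hprop
  have : LocallyOfFinitePresentation b := by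
    constructor
    intro U hU V hV e
    have : IsNoetherianRing Γ(X, U) := IsLocallyNoetherian.component_noetherian ⟨U, hU⟩
    exact RingHom.FinitePresentation.of_finiteType.1 (b.finiteType_appLE hU hV e)
  exact ⟨pullback b i, X', pullback.fst b i, pullback.snd b i, b,
    isAlmostBlowUpSquare_of_isBlowUp (IsPullback.of_hasPullback b i) hb⟩

end Groth.Agent.Lib.Helper14.ABU
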