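import Groth.Agent.Lib.Helper14.ABU4
import Groth.Agent.S0590
import Groth.Agent.S0591
import Groth.Agent.S9189

/-!
# Existence of almost blow up squares over quasi-compact quasi-separated schemes (helper14)
-/

set_option autoImplicit false

universe u

namespace Groth.Agent.Lib.Helper14.ABU

open CategoryTheory CategoryTheory.Limits AlgebraicGeometry TopologicalSpace Opposite

/-- Every finitely presented closed immersion into a quasi-compact quasi-separated scheme is the
base change of a closed immersion into a locally Noetherian scheme. -/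
theorem exists_noetherian_model {Z X : Scheme.{u}} [CompactSpace X] [QuasiSeparatedSpace X]
    (i : Z ⟶ X) [IsClosedImmersion i] [LocallyOfFinitePresentation i] :
    ∃ (Z₀ X₀ : Scheme.{u}) (i₀ : Z₀ ⟶ X₀) (g : X ⟶ X₀) (gZ : Z ⟶ Z₀),
      IsLocallyNoetherian X₀ ∧ IsClosedImmersion i₀ ∧ LocallyOfFinitePresentation i₀ ∧
        IsPullback gZ i i₀ g := by
  obtain ⟨I, _, _, _, D, c₀, hc₀, hD, hst, ⟨e⟩⟩ := Groth.Agent.S0590.result X
  have : IsFiltered I := isFiltered_of_directed_le_nonempty I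
  have : IsCofiltered Iᵒᵖ := inferInstance
  have hD' : ∀ (i j : Iᵒᵖ) (f : i ⟶ j), IsAffineHom (D.map f) := fun i j f => hD i j f
  have hcomp : ∀ i, CompactSpace (D.obj i) := fun i => (hst i).1
  have : IsNoetherianRing (ULift.{u} ℤ) := isNoetherianRing_of_ringEquiv ℤ ULift.ringEquiv.symm
  have hnoeth : ∀ i, IsLocallyNoetherian (D.obj i) := fun i => by
    have := (hst i).2
    exact LocallyOfFiniteType.isLocallyNoetherian
      (Limits.IsTerminal.from specULiftZIsTerminal (D.obj i))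
  have hqs : ∀ i, QuasiSeparatedSpace (D.obj i) := fun i => inferInstance
  -- a limit cone with point `X`
  let c : Cone D := c₀.extend e.inv
  have hc : IsLimit c := hc₀.extendIso e.inv
  let i' : Z ⟶ c.pt := i
  have hi'1 : IsClosedImmersion i' := ‹IsClosedImmersion i›
  have hi'2 : LocallyOfFinitePresentation i' := ‹LocallyOfFinitePresentation i›
  obtain ⟨j₀, Z₀, f₀, gZ, hlfp, hqc, hqsf, hpb⟩ := Groth.Agent.S0591.result D c hc Z i'
  have hZ₀c : CompactSpace Z₀ := QuasiCompact.compactSpace_of_compactSpace f₀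
  have hZ₀n : IsLocallyNoetherian Z₀ := LocallyOfFiniteType.isLocallyNoetherian f₀
  have hZ₀q : QuasiSeparatedSpace Z₀ := inferInstance
  have hY : IsPullback (c.π.app j₀) (𝟙 c.pt) (𝟙 (D.obj j₀)) (c.π.app j₀) := IsPullback.id_vert _
  obtain ⟨j, φ, Zj, Yj, fj, gj, pY, pX, h1, h2, hcl⟩ :=
    Groth.Agent.S9189.result D c hc j₀ f₀ (𝟙 (D.obj j₀)) i' (𝟙 c.pt) (c.π.app j₀) gZ hY hpb
  have hgj : IsIso gj := h1.isIso_snd_of_isIso
  have hpY : pY = gj ≫ D.map φ := by
    have := h1.w
    rw [Category.comp_id] at this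
    exact this
  have hYn : IsLocallyNoetherian Yj := isLocallyNoetherian_of_isOpenImmersion gj
  have hfj : LocallyOfFinitePresentation fj := MorphismProperty.of_isPullback h2 hlfp
  let g : X ⟶ Yj := c.π.app j ≫ inv gj
  have hg : g ≫ pY = c.π.app j₀ := by
    rw [hpY, Category.assoc, IsIso.inv_hom_id_assoc]
    exact c.w φ
  have hcomm : gZ ≫ f₀ = (i ≫ g) ≫ pY := by
    rw [Category.assoc, hg]
    exact hpb.w
  let gZ' : Z ⟶ Zj := h2.lift gZ (i ≫ g) hcomm
  have hgZ'1 : gZ' ≫ pX = gZ := h2.lift_fst _ _ _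
  have hgZ'2 : gZ' ≫ fj = i ≫ g := h2.lift_snd _ _ _
  refine ⟨Zj, Yj, fj, g, gZ', hYn, hcl, hfj, ?_⟩
  refine IsPullback.of_right ?_ hgZ'2 h2
  rw [hgZ'1, hg]
  exact hpb

/-- Over a quasi-compact quasi-separated scheme, every finitely presented closed subscheme is the
centre of an almost blow up square. -/
theorem exists_isAlmostBlowUpSquare {Z X : Scheme.{u}} [CompactSpace X] [QuasiSeparatedSpace X]
    (i : Z ⟶ X) [IsClosedImmersion i] [LocallyOfFinitePresentation i] :
    ∃ (E X' : Scheme.{u}) (e : E ⟶ X') (π : E ⟶ Z) (b : X' ⟶ X),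
      HTop.IsAlmostBlowUpSquare e π b i := by
  obtain ⟨Z₀, X₀, i₀, g, gZ, hn, hcl, hfp, hpb⟩ := exists_noetherian_model i
  obtain ⟨E₀, X₀', e₀, π₀, b₀, h⟩ := exists_isAlmostBlowUpSquare_of_isLocallyNoetherian i₀
  have hX : IsPullback (pullback.fst b₀ g) (pullback.snd b₀ g) b₀ g := IsPullback.of_hasPullback _ _
  have hE : IsPullback (pullback.fst e₀ (pullback.fst b₀ g)) (pullback.snd e₀ (pullback.fst b₀ g))
      e₀ (pullback.fst b₀ g) := IsPullback.of_hasPullback _ _
  have hcomm : (pullback.fst e₀ (pullback.fst b₀ g) ≫ π₀) ≫ i₀ =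
      (pullback.snd e₀ (pullback.fst b₀ g) ≫ pullback.snd b₀ g) ≫ g := by
    rw [Category.assoc, ← h.isPullback.w, hE.w_assoc, Category.assoc, hX.w]
  refine ⟨_, _, pullback.snd e₀ (pullback.fst b₀ g), hpb.lift _ _ hcomm, pullback.snd b₀ g,
    isAlmostBlowUpSquare_of_isPullback h g hX hpb hE ?_⟩
  exact hpb.lift_snd _ _ _

end Groth.Agent.Lib.Helper14.ABU
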