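import Groth.Agent.Lib.Helper14.ABU4

/-!
# Shrinking the top right corner of an almost blow up square (helper14)
-/

set_option autoImplicit false

universe u

namespace Groth.Agent.Lib.Helper14.ABU

open CategoryTheory CategoryTheory.Limits AlgebraicGeometry TopologicalSpace Opposite

theorem isAlmostBlowUpSquare_closed_iff {E Z X' X W EW : Scheme.{u}} {e : E ⟶ X'} {π : E ⟶ Z}
    {b : X' ⟶ X} {i : Z ⟶ X} (h : HTop.IsAlmostBlowUpSquare e π b i) (w : W ⟶ X')
    [IsClosedImmersion w] [LocallyOfFinitePresentation w] {eW : EW ⟶ W} {gE : EW ⟶ E}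
    (hEW : IsPullback gE eW e w) :
    w.ker ≤ HTop.supportedOn (i.ker.comap b) ↔
      HTop.IsAlmostBlowUpSquare eW (gE ≫ π) (w ≫ b) i := by
  have hci := h.isClosedImmersion
  have hfpi := h.finitePresentation_base
  have hpr := h.isProper
  have hfp := h.finitePresentation
  set 𝓔 := i.ker.comap b with h𝓔
  have h𝓔W : i.ker.comap (w ≫ b) = 𝓔.comap w := Scheme.IdealSheafData.comap_comp _ _ _
  have hlocW : HTop.IsLocPrincipal (i.ker.comap (w ≫ b)) := by
    rw [h𝓔W]; exact isLocPrincipal_comap w 𝓔 h.locPrincipal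
  -- the strict part of `W` maps into the strict part of `X'`
  have hCW : BlowUp.IsEffCartierIdeal
      (𝓔.comap ((HTop.supportedOn (i.ker.comap (w ≫ b))).subschemeι ≫ w)) := by
    have e1 : 𝓔.comap ((HTop.supportedOn (i.ker.comap (w ≫ b))).subschemeι ≫ w) =
        (i.ker.comap (w ≫ b)).comap (HTop.supportedOn (i.ker.comap (w ≫ b))).subschemeι := by
      rw [h𝓔W]; exact Scheme.IdealSheafData.comap_comp _ _ _
    rw [e1]
    exact isEffCartierIdeal_comap_subschemeι _ hlocW
  obtain ⟨ψ, hψ⟩ := exists_lift_supportedOn 𝓔 _ hCW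
  constructor
  · intro hle
    refine ⟨hci, hfpi, hEW.flip.paste_vert h.isPullback, hlocW, inferInstance, inferInstance, ?_, ?_⟩
    · have e1 : i.ker.comap ((HTop.supportedOn (i.ker.comap (w ≫ b))).subschemeι ≫ w ≫ b) =
          (i.ker.comap (w ≫ b)).comap (HTop.supportedOn (i.ker.comap (w ≫ b))).subschemeι :=
        Scheme.IdealSheafData.comap_comp _ _ _
      rw [e1]
      exact isEffCartierIdeal_comap_subschemeι _ hlocW
    · intro T q hq
      obtain ⟨s, hs, hsu⟩ := h.isBlowUp.2 T q hq
      -- the strict part of `X'` is contained in `W`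
      have hle' : w.ker ≤ (HTop.supportedOn 𝓔).subschemeι.ker := by
        rw [Scheme.IdealSheafData.ker_subschemeι]; exact hle
      set c : (HTop.supportedOn 𝓔).subscheme ⟶ W :=
        IsClosedImmersion.lift w (HTop.supportedOn 𝓔).subschemeι hle' with hc
      have hcw : c ≫ w = (HTop.supportedOn 𝓔).subschemeι := IsClosedImmersion.lift_fac _ _ _
      have hC : BlowUp.IsEffCartierIdeal ((i.ker.comap (w ≫ b)).comap (s ≫ c)) := by
        rw [← Scheme.IdealSheafData.comap_comp, Category.assoc, reassoc_of% hcw, hs]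
        exact hq
      obtain ⟨r, hr⟩ := exists_lift_supportedOn (i.ker.comap (w ≫ b)) (s ≫ c) hC
      refine ⟨r, ?_, ?_⟩
      · change r ≫ (HTop.supportedOn (i.ker.comap (w ≫ b))).subschemeι ≫ w ≫ b = q
        rw [reassoc_of% hr, reassoc_of% hcw]
        exact hs
      · intro r' hr'
        have hr'' : r' ≫ (HTop.supportedOn (i.ker.comap (w ≫ b))).subschemeι ≫ w ≫ b = q := hr'
        rw [← cancel_mono (HTop.supportedOn (i.ker.comap (w ≫ b))).subschemeι, hr,
          ← cancel_mono w, Category.assoc, Category.assoc, hcw]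
        have h1 : (r' ≫ ψ) = s := by
          apply hsu
          change (r' ≫ ψ) ≫ (HTop.supportedOn 𝓔).subschemeι ≫ b = q
          rw [Category.assoc, reassoc_of% hψ]
          simpa only [Category.assoc] using hr''
        rw [← h1, Category.assoc, hψ]
  · intro hW
    -- `ψ` is a morphism of blow ups, hence an isomorphism
    have hψb : ψ ≫ (HTop.supportedOn 𝓔).subschemeι ≫ b =
        (HTop.supportedOn (i.ker.comap (w ≫ b))).subschemeι ≫ w ≫ b := by
      rw [reassoc_of% hψ]
    have hiso : IsIso ψ := Groth.Agent.Lib.Helper25.BlowUpUP.isIso_of_isBlowUp _ _ i.ker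
      hW.isBlowUp h.isBlowUp ψ hψb
    have h2 : (HTop.supportedOn 𝓔).subschemeι =
        (inv ψ ≫ (HTop.supportedOn (i.ker.comap (w ≫ b))).subschemeι) ≫ w := by
      rw [Category.assoc, ← hψ, IsIso.inv_hom_id_assoc]
    calc w.ker ≤ ((inv ψ ≫ (HTop.supportedOn (i.ker.comap (w ≫ b))).subschemeι) ≫ w).ker :=
          Scheme.Hom.le_ker_comp _ _
      _ = (HTop.supportedOn 𝓔).subschemeι.ker := by rw [← h2]
      _ = HTop.supportedOn 𝓔 := Scheme.IdealSheafData.ker_subschemeι _

end Groth.Agent.Lib.Helper14.ABU
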