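import Groth.Agent.Lib.Helper14.ABU6
import Groth.Agent.Lib.Helper1.ISLim3

/-!
# Directed systems of closed subschemes and morphisms to finitely presented schemes (helper14)
-/

set_option autoImplicit false

universe u

namespace Groth.Agent.Lib.Helper14.ABU

open CategoryTheory CategoryTheory.Limits AlgebraicGeometry TopologicalSpace Opposite
open Scheme.IdealSheafData Groth.Agent.Lib.Helper1.NA

theorem isClosedImmersion_inclusion {Y : Scheme.{u}} {I J : Y.IdealSheafData} (h : I ≤ J) :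
    IsClosedImmersion (inclusion h) := by
  have : IsClosedImmersion (inclusion h ≫ I.subschemeι) := by
    rw [inclusion_subschemeι]; infer_instance
  exact IsClosedImmersion.of_comp (inclusion h) I.subschemeι

section System

variable {I : Type u} [Preorder I] [IsDirected I (fun a b => a ≤ b)] [Nonempty I]
  {Y X : Scheme.{u}} [CompactSpace Y] [QuasiSeparatedSpace Y]
  (J : I → Y.IdealSheafData) (hJ : Monotone J) (p : Y ⟶ X)

/-- The diagram of closed subschemes, in schemes. -/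
noncomputable def sysD : Iᵒᵖ ⥤ Scheme.{u} := subDiag J hJ ⋙ Over.forget Y

/-- The limit cone. -/
noncomputable def sysCone : Cone (sysD J hJ) :=
  (Over.forget Y).mapCone (subCone J hJ (⨆ b, J b) (le_iSup J))

noncomputable def isLimitSysCone : IsLimit (sysCone J hJ) := by
  have : IsCofiltered Iᵒᵖ := inferInstance
  have : IsConnected Iᵒᵖ := IsCofiltered.isConnected Iᵒᵖ
  exact isLimitOfPreserves (Over.forget Y) (isLimitSubCone J hJ)

/-- The structure morphisms to `X`. -/
noncomputable def sysT : sysD J hJ ⟶ (Functor.const Iᵒᵖ).obj X where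
  app b := (J b.unop).subschemeι ≫ p
  naturality b b' a := by
    change inclusion (hJ (leOfHom a.unop)) ≫ (J b'.unop).subschemeι ≫ p =
      ((J b.unop).subschemeι ≫ p) ≫ 𝟙 X
    rw [Category.comp_id, ← Category.assoc, inclusion_subschemeι]

omit [IsDirected I fun a b => a ≤ b] [Nonempty I] [CompactSpace ↥Y] [QuasiSeparatedSpace ↥Y] in
theorem sysD_map {b b' : Iᵒᵖ} (a : b ⟶ b') :
    (sysD J hJ).map a = inclusion (hJ (leOfHom a.unop)) := rfl

omit [IsDirected I fun a b => a ≤ b] [Nonempty I] [CompactSpace ↥Y] [QuasiSeparatedSpace ↥Y] in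
theorem sysCone_π_app (b : Iᵒᵖ) : (sysCone J hJ).π.app b = inclusion (le_iSup J b.unop) := rfl

instance sysD_isAffineHom {b b' : Iᵒᵖ} (a : b ⟶ b') : IsAffineHom ((sysD J hJ).map a) := by
  have := isClosedImmersion_inclusion (hJ (leOfHom a.unop))
  exact (inferInstance : IsAffineHom (inclusion (hJ (leOfHom a.unop))))

instance sysD_compactSpace (b : Iᵒᵖ) : CompactSpace ((sysD J hJ).obj b) :=
  (QuasiCompact.compactSpace_of_compactSpace (J b.unop).subschemeι :
    CompactSpace ↥(J b.unop).subscheme)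

instance sysD_quasiSeparatedSpace (b : Iᵒᵖ) : QuasiSeparatedSpace ((sysD J hJ).obj b) :=
  (quasiSeparatedSpace_of_quasiSeparated (J b.unop).subschemeι :
    QuasiSeparatedSpace ↥(J b.unop).subscheme)

include hJ in
/-- A morphism from the intersection of the family to a finitely presented `X`-scheme extends to
a member of the family. -/
theorem exists_factor {T : Scheme.{u}} (f : T ⟶ X) [LocallyOfFinitePresentation f]
    (a : (⨆ b, J b).subscheme ⟶ T) (ha : a ≫ f = (⨆ b, J b).subschemeι ≫ p) :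
    ∃ (k : I) (g : (J k).subscheme ⟶ T),
      inclusion (le_iSup J k) ≫ g = a ∧ g ≫ f = (J k).subschemeι ≫ p := by
  have : IsCofiltered Iᵒᵖ := inferInstance
  have hnat : (sysCone J hJ).π ≫ sysT J hJ p = (Functor.const _).map (a ≫ f) := by
    ext b
    change inclusion (le_iSup J b.unop) ≫ (J b.unop).subschemeι ≫ p = a ≫ f
    rw [← Category.assoc, inclusion_subschemeι, ha]
  obtain ⟨k, g, hg1, hg2⟩ := Scheme.exists_π_app_comp_eq_of_locallyOfFinitePresentation
    (sysD J hJ) (sysT J hJ p) f (sysCone J hJ) (isLimitSysCone J hJ) a hnat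
  exact ⟨k.unop, g, hg1, hg2⟩

omit [QuasiSeparatedSpace ↥Y] in
/-- Two extensions agree on a smaller member of the family. -/
theorem exists_eq_of_factor {T : Scheme.{u}} (f : T ⟶ X) [LocallyOfFiniteType f] (k : I)
    (g g' : (J k).subscheme ⟶ T) (hg : g ≫ f = (J k).subschemeι ≫ p)
    (hg' : g' ≫ f = (J k).subschemeι ≫ p)
    (h : inclusion (le_iSup J k) ≫ g = inclusion (le_iSup J k) ≫ g') :
    ∃ (k' : I) (hk : k ≤ k'), inclusion (hJ hk) ≫ g = inclusion (hJ hk) ≫ g' := by
  have : IsCofiltered Iᵒᵖ := inferInstance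
  obtain ⟨k', hik, heq⟩ := Scheme.exists_hom_comp_eq_comp_of_locallyOfFiniteType
    (sysD J hJ) (sysT J hJ p) f (sysCone J hJ) (isLimitSysCone J hJ) (i := op k) g g'
    hg.symm hg'.symm h
  exact ⟨k'.unop, leOfHom hik.unop, heq⟩

end System

/-- Two directed systems of finitely presented closed subschemes (of two finitely presented
`X`-schemes) with `X`-isomorphic intersections: some member of the second embeds as a closed
subscheme, over `X`, into some member of the first. -/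
theorem exists_closedImmersion_between
    {I₁ I₂ : Type u} [Preorder I₁] [IsDirected I₁ (fun a b => a ≤ b)] [Nonempty I₁]
    [Preorder I₂] [IsDirected I₂ (fun a b => a ≤ b)] [Nonempty I₂]
    {X X₁ X₂ : Scheme.{u}} [CompactSpace X₁] [QuasiSeparatedSpace X₁] [CompactSpace X₂]
    [QuasiSeparatedSpace X₂] (b₁ : X₁ ⟶ X) (b₂ : X₂ ⟶ X) [LocallyOfFinitePresentation b₁]
    [LocallyOfFinitePresentation b₂] [IsSeparated b₁]
    (J₁ : I₁ → X₁.IdealSheafData) (hJ₁ : Monotone J₁)
    (hfp₁ : ∀ k, LocallyOfFinitePresentation (J₁ k).subschemeι)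
    (J₂ : I₂ → X₂.IdealSheafData) (hJ₂ : Monotone J₂)
    (hfp₂ : ∀ k, LocallyOfFinitePresentation (J₂ k).subschemeι)
    (θ : (⨆ k, J₁ k).subscheme ≅ (⨆ k, J₂ k).subscheme)
    (hθ : θ.hom ≫ (⨆ k, J₂ k).subschemeι ≫ b₂ = (⨆ k, J₁ k).subschemeι ≫ b₁) :
    ∃ (k₁ : I₁) (k₂ : I₂) (h : (J₂ k₂).subscheme ⟶ (J₁ k₁).subscheme),
      IsClosedImmersion h ∧ h ≫ (J₁ k₁).subschemeι ≫ b₁ = (J₂ k₂).subschemeι ≫ b₂ := by
  obtain ⟨m0⟩ := ‹Nonempty I₂›
  have := hfp₂ m0
  -- first factorization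
  have ha₁ : (θ.hom ≫ inclusion (le_iSup J₂ m0)) ≫ (J₂ m0).subschemeι ≫ b₂ =
      (⨆ k, J₁ k).subschemeι ≫ b₁ := by
    rw [Category.assoc, ← Category.assoc (inclusion _), inclusion_subschemeι, hθ]
  obtain ⟨l, g, hg1, hg2⟩ := exists_factor J₁ hJ₁ b₁ ((J₂ m0).subschemeι ≫ b₂)
    (θ.hom ≫ inclusion (le_iSup J₂ m0)) ha₁
  have := hfp₁ l
  -- second factorization
  have ha₂ : (θ.inv ≫ inclusion (le_iSup J₁ l)) ≫ (J₁ l).subschemeι ≫ b₁ =
      (⨆ k, J₂ k).subschemeι ≫ b₂ := by
    rw [Category.assoc, ← Category.assoc (inclusion _), inclusion_subschemeι, ← hθ,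
      Iso.inv_hom_id_assoc]
  obtain ⟨m1, g', hg'1, hg'2⟩ := exists_factor J₂ hJ₂ b₂ ((J₁ l).subschemeι ≫ b₁)
    (θ.inv ≫ inclusion (le_iSup J₁ l)) ha₂
  obtain ⟨m2, h02, h12⟩ := exists_ge_ge m0 m1
  -- the two morphisms to compare
  have hu : inclusion (hJ₂ h02) ≫ (J₂ m0).subschemeι ≫ b₂ = (J₂ m2).subschemeι ≫ b₂ := by
    rw [← Category.assoc, inclusion_subschemeι]
  have hv : (inclusion (hJ₂ h12) ≫ g' ≫ g) ≫ (J₂ m0).subschemeι ≫ b₂ =
      (J₂ m2).subschemeι ≫ b₂ := by
    rw [Category.assoc, Category.assoc, hg2, hg'2, ← Category.assoc, inclusion_subschemeι]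
  have huv : inclusion (le_iSup J₂ m2) ≫ inclusion (hJ₂ h02) =
      inclusion (le_iSup J₂ m2) ≫ inclusion (hJ₂ h12) ≫ g' ≫ g := by
    rw [inclusion_comp, ← Category.assoc, inclusion_comp, reassoc_of% hg'1, hg1,
      Iso.inv_hom_id_assoc]
  obtain ⟨m3, h23, heq⟩ := exists_eq_of_factor J₂ hJ₂ b₂ ((J₂ m0).subschemeι ≫ b₂) m2
    (inclusion (hJ₂ h02)) (inclusion (hJ₂ h12) ≫ g' ≫ g) hu hv huv
  refine ⟨l, m3, inclusion (hJ₂ (h12.trans h23)) ≫ g', ?_, ?_⟩
  · have hsep : IsSeparated g := by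
      have : IsSeparated (g ≫ (J₂ m0).subschemeι ≫ b₂) := by rw [hg2]; infer_instance
      exact IsSeparated.of_comp g ((J₂ m0).subschemeι ≫ b₂)
    have hcomp : (inclusion (hJ₂ (h12.trans h23)) ≫ g') ≫ g =
        inclusion (hJ₂ (h02.trans h23)) := by
      rw [← inclusion_comp (hJ₂ h12) (hJ₂ h23), ← inclusion_comp (hJ₂ h02) (hJ₂ h23), heq]
      simp only [Category.assoc]
    have : IsClosedImmersion ((inclusion (hJ₂ (h12.trans h23)) ≫ g') ≫ g) := by
      rw [hcomp]; exact isClosedImmersion_inclusion _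
    exact IsClosedImmersion.of_comp _ g
  · rw [Category.assoc, hg'2, ← Category.assoc, inclusion_subschemeι]

end Groth.Agent.Lib.Helper14.ABU
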