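import Groth.Agent.Lib.Helper14.ABU7

/-!
# Two almost blow up squares are dominated by a third (helper14)
-/

set_option autoImplicit false

universe u

namespace Groth.Agent.Lib.Helper14.ABU

open CategoryTheory CategoryTheory.Limits AlgebraicGeometry TopologicalSpace Opposite
open Scheme.IdealSheafData Groth.Agent.Lib.Helper1.NA

theorem exists_common_isAlmostBlowUpSquare {Z X E₁ X₁ E₂ X₂ : Scheme.{u}} [CompactSpace X]
    [QuasiSeparatedSpace X] (i : Z ⟶ X) [IsClosedImmersion i] [LocallyOfFinitePresentation i]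
    {e₁ : E₁ ⟶ X₁} {π₁ : E₁ ⟶ Z} {b₁ : X₁ ⟶ X} (h₁ : HTop.IsAlmostBlowUpSquare e₁ π₁ b₁ i)
    {e₂ : E₂ ⟶ X₂} {π₂ : E₂ ⟶ Z} {b₂ : X₂ ⟶ X} (h₂ : HTop.IsAlmostBlowUpSquare e₂ π₂ b₂ i) :
    ∃ (E X' : Scheme.{u}) (e : E ⟶ X') (π : E ⟶ Z) (b : X' ⟶ X) (j₁ : X' ⟶ X₁) (j₂ : X' ⟶ X₂),
      HTop.IsAlmostBlowUpSquare e π b i ∧ IsClosedImmersion j₁ ∧ IsClosedImmersion j₂ ∧
        j₁ ≫ b₁ = b ∧ j₂ ≫ b₂ = b := by
  have hp₁ := h₁.isProper
  have hp₂ := h₂.isProper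
  have hf₁ := h₁.finitePresentation
  have hf₂ := h₂.finitePresentation
  have : CompactSpace X₁ := QuasiCompact.compactSpace_of_compactSpace b₁
  have : CompactSpace X₂ := QuasiCompact.compactSpace_of_compactSpace b₂
  have : QuasiSeparatedSpace X₁ := quasiSeparatedSpace_of_quasiSeparated b₁
  have : QuasiSeparatedSpace X₂ := quasiSeparatedSpace_of_quasiSeparated b₂
  obtain ⟨I₁, _, _, _, J₁, hJ₁, hsup₁, hfp₁⟩ :=
    exists_closed_fp_family (HTop.supportedOn (i.ker.comap b₁)).subschemeι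
  obtain ⟨I₂, _, _, _, J₂, hJ₂, hsup₂, hfp₂⟩ :=
    exists_closed_fp_family (HTop.supportedOn (i.ker.comap b₂)).subschemeι
  rw [ker_subschemeι] at hsup₁ hsup₂
  have hbl₁ : BlowUp.IsBlowUp ((⨆ k, J₁ k).subschemeι ≫ b₁) i.ker := by
    rw [hsup₁]; exact h₁.isBlowUp
  have hbl₂ : BlowUp.IsBlowUp ((⨆ k, J₂ k).subschemeι ≫ b₂) i.ker := by
    rw [hsup₂]; exact h₂.isBlowUp
  obtain ⟨θ, hθ⟩ := Groth.Agent.Lib.Helper25.BlowUpUP.exists_iso_of_isBlowUp _ _ i.ker hbl₁ hbl₂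
  obtain ⟨k₁, k₂, h, hcl, hcomm⟩ :=
    exists_closedImmersion_between b₁ b₂ J₁ hJ₁ hfp₁ J₂ hJ₂ hfp₂ θ hθ
  have := hfp₂ k₂
  have hle : (J₂ k₂).subschemeι.ker ≤ HTop.supportedOn (i.ker.comap b₂) := by
    rw [ker_subschemeι, ← hsup₂]; exact le_iSup J₂ k₂
  have hsq := (isAlmostBlowUpSquare_closed_iff h₂ (J₂ k₂).subschemeι
    (IsPullback.of_hasPullback e₂ (J₂ k₂).subschemeι)).1 hle
  refine ⟨_, _, _, _, _, h ≫ (J₁ k₁).subschemeι, (J₂ k₂).subschemeι, hsq, inferInstance,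
    inferInstance, ?_, rfl⟩
  rw [Category.assoc]; exact hcomm

end Groth.Agent.Lib.Helper14.ABU
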