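import Groth.Prelude.Def_BlowUp2
import Groth.Agent.Lib.Helper1.ISLim3
import Groth.Agent.Lib.Helper25.StrictClosed
import Mathlib

/-!
# Extending finite type ideal sheaves from quasi-compact opens (helper14)
-/

set_option autoImplicit false

universe u

namespace Groth.Agent.Lib.Helper14.AdmExt

open CategoryTheory CategoryTheory.Limits AlgebraicGeometry TopologicalSpace Opposite
open Scheme.IdealSheafData

/-- The kernel of a quasi-compact morphism commutes with open base change. -/
theorem ker_eq_comap_of_isPullback {X Y U V : Scheme.{u}} (f : X ⟶ Y) (f' : U ⟶ V) (iU : U ⟶ X)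
    (iV : V ⟶ Y) [IsOpenImmersion iV] [QuasiCompact f] (H : IsPullback f' iU iV f) :
    f'.ker = f.ker.comap iV := by
  ext W : 2
  rw [Scheme.ker_ideal_of_isPullback_of_isOpenImmersion f f' iU iV H W,
    ideal_comap_of_isOpenImmersion]

/-- The scheme theoretic closure restricts back to the original ideal along a quasi-compact open
immersion. -/
theorem comap_map_of_isOpenImmersion {V X : Scheme.{u}} (j : V ⟶ X) [IsOpenImmersion j]
    [QuasiCompact j] (𝓘 : V.IdealSheafData) : (𝓘.map j).comap j = 𝓘 := by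
  have H : IsPullback 𝓘.subschemeι (𝟙 𝓘.subscheme) j (𝓘.subschemeι ≫ j) := by
    have h1 := (IsPullback.id_vert 𝓘.subschemeι).paste_horiz (IsKernelPair.id_of_mono j)
    simpa using h1
  have h2 := ker_eq_comap_of_isPullback (𝓘.subschemeι ≫ j) 𝓘.subschemeι (𝟙 _) j H
  rw [ker_subschemeι] at h2
  exact h2.symm

/-- A finite type ideal sheaf on a quasi-compact scheme below a directed supremum is below one
of the members. -/
theorem exists_le_of_le_iSup {Y : Scheme.{u}} [CompactSpace Y] {I : Type*} [Preorder I]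
    [IsDirected I (fun a b => a ≤ b)] [Nonempty I] (𝓐 : Y.IdealSheafData)
    (h𝓐 : BlowUp.IsFiniteTypeIdeal 𝓐) (B : I → Y.IdealSheafData) (hB : Monotone B)
    (h : 𝓐 ≤ ⨆ b, B b) : ∃ b, 𝓐 ≤ B b := by
  classical
  obtain ⟨s, hs, hcov⟩ := (AlgebraicGeometry.isCompact_iff_finite_and_eq_biUnion_affineOpens
    (U := (⊤ : Y.Opens))).mp isCompact_univ
  -- on each affine open of the cover
  have key : ∀ W : Y.affineOpens, ∃ b, 𝓐.ideal W ≤ (B b).ideal W := by
    intro W
    have hc := (Submodule.fg_iff_compact _).mp (h𝓐 W)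
    rw [CompleteLattice.isCompactElement_iff_le_of_directed_sSup_le] at hc
    have hle : 𝓐.ideal W ≤ sSup (Set.range fun b => (B b).ideal W) := by
      have := h W
      rw [ideal_iSup, iSup_apply] at this
      exact this
    have hdir : DirectedOn (fun a b => a ≤ b) (Set.range fun b => (B b).ideal W) := by
      rintro _ ⟨b₁, rfl⟩ _ ⟨b₂, rfl⟩
      obtain ⟨b₃, h1, h2⟩ := exists_ge_ge b₁ b₂
      exact ⟨_, ⟨b₃, rfl⟩, hB h1 W, hB h2 W⟩
    obtain ⟨_, ⟨b, rfl⟩, hb⟩ := hc _ (Set.range_nonempty _) hdir hle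
    exact ⟨b, hb⟩
  choose β hβ using key
  obtain ⟨b, hb⟩ := (hs.toFinset.image β).exists_le
  refine ⟨b, ?_⟩
  refine le_of_iSup_eq_top (fun W : s => (W.1 : Y.affineOpens)) ?_ ?_
  · rw [hcov, iSup_subtype']
  · rintro ⟨W, hW⟩
    have h1 : β W ≤ b := hb _ (Finset.mem_image_of_mem β (hs.mem_toFinset.mpr hW))
    exact (hβ W).trans (hB h1 W)

/-- The ideal of a finitely presented closed subscheme is of finite type. -/
theorem isFiniteTypeIdeal_of_lfp {X : Scheme.{u}} (J : X.IdealSheafData)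
    [LocallyOfFinitePresentation J.subschemeι] : BlowUp.IsFiniteTypeIdeal J := by
  intro U
  have hV : IsAffineOpen (J.subschemeι ⁻¹ᵁ U.1) := U.2.preimage J.subschemeι
  have hfp : (J.subschemeι.appLE U.1 (J.subschemeι ⁻¹ᵁ U.1) le_rfl).hom.FinitePresentation :=
    HasRingHomProperty.appLE (P := @LocallyOfFinitePresentation) J.subschemeι inferInstance
      U ⟨_, hV⟩ le_rfl
  have happ : J.subschemeι.appLE U.1 (J.subschemeι ⁻¹ᵁ U.1) le_rfl = J.subschemeι.app U.1 := by
    simp [Scheme.Hom.appLE]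
  rw [happ] at hfp
  rw [← J.ker_subschemeι_app U]
  have hsurj := J.subschemeι_app_surjective U
  algebraize [(J.subschemeι.app U.1).hom]
  have : Algebra.FinitePresentation Γ(X, U.1) Γ(J.subscheme, J.subschemeι ⁻¹ᵁ U.1) := hfp
  have := Algebra.FinitePresentation.ker_fG_of_surjective
    (Algebra.ofId Γ(X, U.1) Γ(J.subscheme, J.subschemeι ⁻¹ᵁ U.1)) hsurj
  exact this

end Groth.Agent.Lib.Helper14.AdmExt
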