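import Groth.Agent.Lib.Helper14.AdmExt1

/-!
# Extending admissible blow ups from quasi-compact opens (helper14)
-/

set_option autoImplicit false

universe u

namespace Groth.Agent.Lib.Helper14.AdmExt

open CategoryTheory CategoryTheory.Limits AlgebraicGeometry TopologicalSpace Opposite
open Scheme.IdealSheafData Groth.Agent.Lib.Helper1.NA

theorem isFiniteTypeIdeal_top {Y : Scheme.{u}} :
    BlowUp.IsFiniteTypeIdeal (⊤ : Y.IdealSheafData) := by
  intro W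
  rw [ideal_top, Pi.top_apply]
  exact ⟨{1}, by simp⟩

theorem exists_admissible_extension (X : Scheme.{u}) [CompactSpace X] [QuasiSeparatedSpace X]
    (U V : X.Opens) (hU : IsCompact (U : Set X)) (hV : IsCompact (V : Set X))
    (𝓘 : (V : Scheme.{u}).IdealSheafData) (h𝓘 : BlowUp.IsAdmissibleFor (V.ι ⁻¹ᵁ U) 𝓘) :
    ∃ 𝓙 : X.IdealSheafData, BlowUp.IsAdmissibleFor U 𝓙 ∧ 𝓙.comap V.ι = 𝓘 := by
  have : CompactSpace V := isCompact_iff_compactSpace.mp hV
  have : CompactSpace U := isCompact_iff_compactSpace.mp hU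
  have hK1 : (𝓘.map V.ι).comap V.ι = 𝓘 := comap_map_of_isOpenImmersion V.ι 𝓘
  have hdisj : Disjoint ((𝓘.map V.ι).support : Set X) (U : Set X) := by
    rw [support_map]
    refine Disjoint.closure_left ?_ U.isOpen
    rw [Set.disjoint_left]
    rintro _ ⟨z, hz, rfl⟩ hzU
    exact Set.disjoint_left.mp h𝓘.2 hz hzU
  have hK2 : (𝓘.map V.ι).comap U.ι = ⊤ := by
    rw [← support_eq_bot_iff, support_comap]
    ext x
    simp only [Closeds.coe_preimage, Set.mem_preimage, SetLike.mem_coe, Closeds.coe_bot,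
      Set.mem_empty_iff_false, iff_false]
    intro hx
    exact Set.disjoint_left.mp hdisj hx x.2
  obtain ⟨I, _, _, _, J, hJ, hsup, hfp⟩ := exists_closed_fp_family (𝓘.map V.ι).subschemeι
  rw [ker_subschemeι] at hsup
  have h1 : 𝓘 ≤ ⨆ b, (J b).comap V.ι := by
    rw [← (map_gc V.ι).l_iSup, hsup, hK1]
  obtain ⟨b₁, hb₁⟩ := exists_le_of_le_iSup 𝓘 h𝓘.1 (fun b => (J b).comap V.ι)
    (fun a b h => comap_mono V.ι (hJ h)) h1
  have h2 : (⊤ : U.toScheme.IdealSheafData) ≤ ⨆ b, (J b).comap U.ι := by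
    rw [← (map_gc U.ι).l_iSup, hsup, hK2]
  obtain ⟨b₂, hb₂⟩ := exists_le_of_le_iSup ⊤ isFiniteTypeIdeal_top (fun b => (J b).comap U.ι)
    (fun a b h => comap_mono U.ι (hJ h)) h2
  obtain ⟨b, hb1, hb2⟩ := exists_ge_ge b₁ b₂
  have := hfp b
  refine ⟨J b, ⟨isFiniteTypeIdeal_of_lfp (J b), ?_⟩, ?_⟩
  · have h3 : (J b).comap U.ι = ⊤ := top_le_iff.mp (hb₂.trans (comap_mono U.ι (hJ hb2)))
    rw [← support_eq_bot_iff, support_comap] at h3
    rw [Set.disjoint_left]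
    intro x hx hxU
    have h4 : (⟨x, hxU⟩ : U) ∈ (((J b).support.preimage U.ι.continuous : Closeds U) : Set U) := hx
    rw [h3] at h4
    exact h4
  · apply le_antisymm
    · calc (J b).comap V.ι ≤ (𝓘.map V.ι).comap V.ι :=
            comap_mono V.ι (hsup ▸ le_iSup J b)
        _ = 𝓘 := hK1
    · exact hb₁.trans (comap_mono V.ι (hJ hb1))

theorem admissible_extension_blowUp (X : Scheme.{u}) [CompactSpace X] [QuasiSeparatedSpace X]
    (U V : X.Opens) (hU : IsCompact (U : Set X)) (hV : IsCompact (V : Set X))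
    (𝓘 : (V : Scheme.{u}).IdealSheafData) (h𝓘 : BlowUp.IsAdmissibleFor (V.ι ⁻¹ᵁ U) 𝓘) :
    ∃ 𝓙 : X.IdealSheafData, BlowUp.IsAdmissibleFor U 𝓙 ∧ 𝓙.comap V.ι = 𝓘 ∧
      ∀ (X' : Scheme.{u}) (c : X' ⟶ X), BlowUp.IsBlowUp c 𝓙 → BlowUp.IsBlowUp (c ∣_ V) 𝓘 := by
  obtain ⟨𝓙, h1, h2⟩ := exists_admissible_extension X U V hU hV 𝓘 h𝓘
  refine ⟨𝓙, h1, h2, fun X' c hc => ?_⟩
  have := Groth.Agent.Lib.Helper25.BlowUpUP.isBlowUp_morphismRestrict 𝓙 c hc V
  rwa [h2] at this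

end Groth.Agent.Lib.Helper14.AdmExt
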