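import Groth.Agent.Lib.Helper14.SchImg6
import Groth.Agent.Lib.Helper14.AlgSpQCMor
import Groth.Agent.Lib.Helper14.AlgSpQCMor2

/-!
# Scheme theoretic density and scheme theoretic images (helper14)
-/

universe u
open CategoryTheory CategoryTheory.Limits AlgebraicGeometry Opposite Topology

namespace Groth.Agent.Lib.Helper14.AS

open AlgSp Groth.Agent.Lib.Helper14.AS

variable {S : Scheme.{u}}

/-- A schematically dense open has trivial kernel. -/
theorem ker_ι_eq_bot_of_isSchematicallyDense {V : Scheme.{u}} (W : V.Opens)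
    (hW : CInt.IsSchematicallyDense W) : W.ι.ker = ⊥ := by
  rw [eq_bot_iff]
  intro O s hs
  have hs' := W.ι.ideal_ker_le O hs
  rw [RingHom.mem_ker, Scheme.Opens.ι_app] at hs'
  have hle : O.1 ⊓ W ≤ W.ι ''ᵁ (W.ι ⁻¹ᵁ O.1) := by
    rw [Scheme.Hom.image_preimage_eq_opensRange_inf, Scheme.Opens.opensRange_ι, inf_comm]
  have h0 : V.presheaf.map (homOfLE (inf_le_left : O.1 ⊓ W ≤ O.1)).op s = 0 := by
    have h1 : V.presheaf.map (homOfLE (inf_le_left : O.1 ⊓ W ≤ O.1)).op s =
        V.presheaf.map (homOfLE hle).op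
          (V.presheaf.map (homOfLE (W.ι.image_preimage_le O.1)).op s) := by
      rw [← CommRingCat.comp_apply, ← Functor.map_comp]
      rfl
    rw [h1]
    erw [hs']
    exact map_zero _
  have := hW O.1 (h0.trans (map_zero _).symm)
  simpa using this

/-- A quasi-compact open with trivial kernel is schematically dense. -/
theorem isSchematicallyDense_of_ker_ι_eq_bot {V : Scheme.{u}} (W : V.Opens)
    [QuasiCompact W.ι] (hW : W.ι.ker = ⊥) : CInt.IsSchematicallyDense W := by
  have : IsSchemeTheoreticallyDominant W.ι := ⟨hW⟩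
  intro O
  rw [injective_iff_map_eq_zero]
  intro s hs
  apply W.ι.app_injective O
  rw [map_zero, Scheme.Opens.ι_app]
  have hle : W.ι ''ᵁ (W.ι ⁻¹ᵁ O) ≤ O ⊓ W := by
    rw [Scheme.Hom.image_preimage_eq_opensRange_inf, Scheme.Opens.opensRange_ι, inf_comm]
  have h1 : V.presheaf.map (homOfLE (W.ι.image_preimage_le O)).op s =
      V.presheaf.map (homOfLE hle).op
        (V.presheaf.map (homOfLE (inf_le_left : O ⊓ W ≤ O)).op s) := by
    rw [← CommRingCat.comp_apply, ← Functor.map_comp]
    rfl
  erw [h1, hs]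
  exact map_zero _

/-- The scheme theoretic image on a chart restricts along any morphism of charts. -/
theorem imgKer_le_comp_of_le {X Y : Sp S} (f : X ⟶ Y) {V V' : Over S} (b : (yon S).obj V ⟶ Y)
    (w : V' ⟶ V) {T : Over S} (t : T ⟶ V')
    (h : imgKer f ((yon S).map w ≫ b) ≤ t.left.ker) : imgKer f b ≤ (t ≫ w).left.ker := by
  have h1 : (imgKer f b).comap w.left ≤ imgKer f ((yon S).map w ≫ b) := by
    apply le_imgKer
    intro T' t' x hx
    rw [← Scheme.IdealSheafData.map_bot, ← Scheme.IdealSheafData.le_map_iff_comap_le,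
      ← Scheme.IdealSheafData.map_comp, Scheme.IdealSheafData.map_bot]
    exact imgKer_le f b (t' ≫ w) x (by rw [hx, Functor.map_comp, Category.assoc])
  rw [Over.comp_left, ← Scheme.IdealSheafData.map_bot, Scheme.IdealSheafData.map_comp,
    Scheme.IdealSheafData.le_map_iff_comap_le, Scheme.IdealSheafData.map_bot]
  exact h1.trans h

/-- A representing square gives a chart. -/
noncomputable def ImgChart.ofIsPullback {X Y : Sp S} {f : X ⟶ Y} {V U : Over S}
    {b : (yon S).obj V ⟶ Y} {u : U ⟶ V} {q : (yon S).obj U ⟶ X}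
    (sq : IsPullback q ((yon S).map u) f b) : ImgChart f b where
  U := U
  u := u
  q := q
  w := sq.w
  cov T t x hx := ⟨⊤, (AlgSp.J S).top_mem T, fun W w _ => by
    obtain ⟨s, hs⟩ := (yon S).map_surjective (sq.lift ((yon S).map w ≫ x) ((yon S).map (w ≫ t))
      (by rw [Category.assoc, hx, Functor.map_comp, Category.assoc]))
    exact ⟨s, by rw [hs, sq.lift_fst], (yon S).map_injective
      (by rw [Functor.map_comp, hs, sq.lift_snd])⟩⟩

set_option backward.isDefEq.respectTransparency.types false in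
/-- Restriction of a morphism to the preimage of an open. -/
theorem exists_restrict {T V : Over S} (t : T ⟶ V) (O : V.left.Opens) :
    ∃ tO : openSub T (t.left ⁻¹ᵁ O) ⟶ openSub V O,
      tO ≫ openSubι V O = openSubι T (t.left ⁻¹ᵁ O) ≫ t := by
  have hrange : Set.range ((openSubι T (t.left ⁻¹ᵁ O)).left ≫ t.left) ⊆
      Set.range (openSubι V O).left := by
    rintro _ ⟨z, rfl⟩
    rw [range_openSubι]
    exact z.2
  let t₀' : (openSub T (t.left ⁻¹ᵁ O)).left ⟶ (openSub V O).left :=
    IsOpenImmersion.lift (openSubι V O).left ((openSubι T (t.left ⁻¹ᵁ O)).left ≫ t.left) hrange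
  have ht₀' : t₀' ≫ (openSubι V O).left = (openSubι T (t.left ⁻¹ᵁ O)).left ≫ t.left :=
    IsOpenImmersion.lift_fac _ _ _
  refine ⟨Over.homMk t₀' (by
    rw [← Over.w (openSubι V O), ← Category.assoc, ht₀', Category.assoc, Over.w, Over.w]), ?_⟩
  apply Over.OverMorphism.ext
  exact ht₀'

set_option backward.isDefEq.respectTransparency.types false in
/-- Chart description of the scheme theoretic image of a quasi-compact morphism, for arbitrary
etale scheme charts. -/
theorem isSchImage_factors_iff' {X Y Z : Sp S} (hY : IsAlgSpace Y) {f : X ⟶ Y}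
    (hq : IsQuasiCompactMor f) (i : Z ⟶ Y) (hZ : IsSchImage f i) {V : Over S}
    (b : (yon S).obj V ⟶ Y) (hb : RepWith @Etale b) {T : Over S} (t : T ⟶ V) :
    (∃ l : (yon S).obj T ⟶ Z, l ≫ i = (yon S).map t ≫ b) ↔ imgKer f b ≤ t.left.ker := by
  constructor
  · rintro ⟨l, hl⟩
    have key : ∀ x : T.left, ∃ (W : Over S) (w : W ⟶ T), IsOpenImmersion w.left ∧
        x ∈ Set.range w.left ∧ imgKer f b ≤ (w ≫ t).left.ker := by
      intro x
      obtain ⟨O, hO, hxO, -⟩ := exists_isAffineOpen_mem_and_subset (x := t.left x)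
        (U := (⊤ : V.left.Opens)) trivial
      obtain ⟨tO, htO⟩ := exists_restrict t O
      have hOaff : IsAffine (openSub V O).left := hO
      refine ⟨openSub T (t.left ⁻¹ᵁ O), openSubι T _, inferInstance, ?_, ?_⟩
      · rw [range_openSubι]
        exact hxO
      · rw [← htO]
        apply imgKer_le_comp_of_le
        rw [← isSchImage_factors_iff hY hq i hZ ((yon S).map (openSubι V O) ≫ b)
          (repWith_etale_restrict hb O) tO]
        refine ⟨(yon S).map (openSubι T _) ≫ l, ?_⟩
        rw [Category.assoc, hl, ← Category.assoc, ← Functor.map_comp, ← htO, Functor.map_comp,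
          Category.assoc]
    choose W w h1 h2 h3 using key
    refine le_ker_of_locally _ t (Sieve.generate (Presieve.ofArrows W w))
      ((mem_J_iff _).2 ⟨_, ofArrows_mem_KS W w (fun x => ⟨by have := h1 x; infer_instance,
        by have := h1 x; infer_instance⟩) (fun x => ⟨x, h2 x⟩), Sieve.le_generate _⟩) ?_
    rintro W' w' ⟨_, a, _, ⟨x⟩, rfl⟩
    rw [Category.assoc]
    exact imgKer_le_comp f b a (w x ≫ t) (h3 x)
  · exact factors_of_imgKer_le f i hZ.1 hZ.2.1 b t

set_option backward.isDefEq.respectTransparency.types false in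
/-- The pullback of a representable open immersion to a scheme is an open subscheme. -/
theorem exists_opens_of_repWith_isOpenImmersion {U X : Sp S} {j : U ⟶ X}
    (hj : RepWith @IsOpenImmersion j) {V : Over S} (φ : (yon S).obj V ⟶ X) :
    ∃ (W : V.left.Opens) (fst : (yon S).obj (openSub V W) ⟶ U),
      IsPullback fst ((yon S).map (openSubι V W)) j φ := by
  have sq := hj.rep.isPullback φ
  have ho : IsOpenImmersion (hj.rep.snd φ).left := hj.property_snd φ
  let W : V.left.Opens := (hj.rep.snd φ).left.opensRange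
  let e₀ : (hj.rep.pullback φ).left ≅ (W : Scheme.{u}) :=
    IsOpenImmersion.isoOfRangeEq (hj.rep.snd φ).left W.ι (by
      rw [Scheme.Opens.range_ι]
      rfl)
  have he₀ : e₀.hom ≫ W.ι = (hj.rep.snd φ).left := IsOpenImmersion.isoOfRangeEq_hom_fac _ _ _
  let e : hj.rep.pullback φ ≅ openSub V W := Over.isoMk e₀ (by
    change e₀.hom ≫ W.ι ≫ V.hom = _
    rw [← Category.assoc, he₀, Over.w])
  have he : e.hom ≫ openSubι V W = hj.rep.snd φ := by
    apply Over.OverMorphism.ext
    exact he₀
  refine ⟨W, (yon S).map e.inv ≫ hj.rep.fst φ, ?_⟩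
  refine IsPullback.of_iso sq ((yon S).mapIso e) (Iso.refl _) (Iso.refl _) (Iso.refl _) ?_ ?_
    (by simp) (by simp)
  · simp only [Iso.refl_hom, Category.comp_id, Functor.mapIso_hom, ← Category.assoc,
      ← Functor.map_comp, Iso.hom_inv_id, CategoryTheory.Functor.map_id, Category.id_comp]
  · simp only [Iso.refl_hom, Category.comp_id, Functor.mapIso_hom, ← Functor.map_comp, he]

/-- A scheme theoretically dense open subspace has scheme theoretic closure everything. -/
theorem isSchImage_id_of_isSchDense {U X : Sp S} {j : U ⟶ X} (hj : IsSchDense j) :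
    IsSchImage j (𝟙 X) := by
  obtain ⟨-, V, φ, W, fst, hφe, hφs, sq, hd⟩ := hj
  have : MorphismProperty.ContainsIdentities @IsClosedImmersion.{u} :=
    ⟨fun X => inferInstance⟩
  refine ⟨repWith_of_isIso _ _, ⟨j, Category.comp_id _⟩, ?_⟩
  intro Z' i' _ hi' ⟨f'', hf''⟩
  have : Mono i' := mono_of_repWith_isClosedImmersion hi'
  -- the chart factors through `Z'`
  have hφ : ∃ l : (yon S).obj V ⟶ Z', l ≫ i' = φ := by
    have sq' := hi'.rep.isPullback φ
    have hc : IsClosedImmersion (hi'.rep.snd φ).left := hi'.property_snd φ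
    obtain ⟨l, hl⟩ := (yon S).map_surjective (sq'.lift (fst ≫ f'')
      ((yon S).map (Over.homMk W.ι rfl : Over.mk (W.ι ≫ V.hom) ⟶ V))
      (by rw [Category.assoc, hf'', sq.w]))
    have hl' : l ≫ hi'.rep.snd φ = (Over.homMk W.ι rfl : Over.mk (W.ι ≫ V.hom) ⟶ V) := by
      apply (yon S).map_injective
      rw [Functor.map_comp, hl, sq'.lift_snd]
    have hker : (hi'.rep.snd φ).left.ker = ⊥ := by
      rw [eq_bot_iff, ← ker_ι_eq_bot_of_isSchematicallyDense W hd]
      have : W.ι = l.left ≫ (hi'.rep.snd φ).left := by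
        rw [← Over.comp_left, hl']
        rfl
      rw [this]
      exact Scheme.Hom.le_ker_comp _ _
    have : IsIso (hi'.rep.snd φ).left := IsClosedImmersion.isIso_iff_ker_eq_bot.2 hker
    have : IsIso ((Over.forget S).map (hi'.rep.snd φ)) := this
    have : IsIso (hi'.rep.snd φ) := isIso_of_reflects_iso _ (Over.forget S)
    refine ⟨(yon S).map (inv (hi'.rep.snd φ)) ≫ hi'.rep.fst φ, ?_⟩
    rw [Category.assoc, sq'.w, ← Functor.map_comp_assoc, IsIso.inv_hom_id,
      CategoryTheory.Functor.map_id, Category.id_comp]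
  obtain ⟨lφ, hlφ⟩ := hφ
  have : Sheaf.IsLocallySurjective φ := isLocallySurjective_of_etale_surjective φ hφe hφs
  refine exists_lift_of_locally i' (𝟙 X) fun T x => ?_
  obtain ⟨R, hR, hl⟩ := exists_cover_lift φ x
  refine ⟨Sieve.generate R, (mem_J_iff _).2 ⟨R, hR, Sieve.le_generate R⟩, ?_⟩
  rintro W' w' ⟨W'', a, r, hr, rfl⟩
  obtain ⟨l, hl⟩ := hl r hr
  refine ⟨(yon S).map a ≫ l ≫ lφ, ?_⟩
  rw [Category.assoc, Category.assoc, hlφ, hl, Category.comp_id, Functor.map_comp,
    Category.assoc]

set_option backward.isDefEq.respectTransparency.types false in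
/-- A quasi-compact open subspace whose scheme theoretic closure is everything is scheme
theoretically dense. -/
theorem isSchDense_of_isSchImage_id {U X : Sp S} (hX : IsAlgSpace X) {j : U ⟶ X}
    (hj : RepWith @IsOpenImmersion j) (hq : IsQuasiCompactMor j) (h : IsSchImage j (𝟙 X)) :
    IsSchDense j := by
  obtain ⟨V, φ, hφe, hφs⟩ := hX.atlas
  obtain ⟨W, fst, sq⟩ := exists_opens_of_repWith_isOpenImmersion hj φ
  refine ⟨hj, V, φ, W, fst, hφe, hφs, sq, ?_⟩
  have hqc : QuasiCompact W.ι :=
    (repWith_quasiCompact_of_isQuasiCompactMor hj.rep hq).property φ _ _ sq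
  apply isSchematicallyDense_of_ker_ι_eq_bot
  have h1 : imgKer j φ ≤ (𝟙 V : V ⟶ V).left.ker :=
    (isSchImage_factors_iff' hX hq (𝟙 X) h φ hφe (𝟙 V)).1
      ⟨(yon S).map (𝟙 V) ≫ φ, Category.comp_id _⟩
  rw [(ImgChart.ofIsPullback sq).imgKer_eq] at h1
  rw [eq_bot_iff]
  refine h1.trans ?_
  change (𝟙 V.left : V.left ⟶ V.left).ker ≤ ⊥
  rw [Scheme.Hom.ker_eq_bot_of_isIso]

/-- Characterisation of scheme theoretic density of a quasi-compact open subspace. -/
theorem isSchDense_iff_isSchImage_id {U X : Sp S} (hX : IsAlgSpace X) {j : U ⟶ X}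
    (hj : RepWith @IsOpenImmersion j) (hq : IsQuasiCompactMor j) :
    IsSchDense j ↔ IsSchImage j (𝟙 X) :=
  ⟨isSchImage_id_of_isSchDense, isSchDense_of_isSchImage_id hX hj hq⟩

/-- Flat pullback of a quasi-compact scheme theoretically dense open subspace. -/
theorem isSchDense_of_flat_baseChange {X Y V V' : Sp S} (hX : IsAlgSpace X) (hY : IsAlgSpace Y)
    {f : X ⟶ Y} (hf : LocP @Flat f) {j : V ⟶ Y} (hj : IsSchDense j) (hjq : IsQuasiCompactMor j)
    {fst : V' ⟶ V} {jX : V' ⟶ X} (sq : IsPullback fst jX j f) : IsSchDense jX := by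
  have h1 : IsSchImage j (𝟙 Y) := isSchImage_id_of_isSchDense hj
  have h2 : IsSchImage jX (𝟙 X) :=
    isSchImage_flat_baseChange hX hY hf hjq h1 sq
      (IsPullback.of_vert_isIso ⟨by simp⟩ : IsPullback f (𝟙 X) (𝟙 Y) f)
  exact isSchDense_of_isSchImage_id hX (repWith_of_isPullback _ sq hj.1)
    (isQuasiCompactMor_of_isPullback sq hjq) h2

end Groth.Agent.Lib.Helper14.AS
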