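import Groth.Prelude.Def_AlgSpSub
import Groth.Agent.Lib.Helper14.SchImg7
import Groth.Agent.Lib.Helper14.AlgSpLocP2
import Groth.Agent.Lib.Helper14.AlgSpOnePt
import Groth.Agent.Lib.Helper14.AlgSpSepDescent
import Groth.Agent.Lib.Helper14.AlgSpRepTo
import Mathlib.CategoryTheory.Sites.RegularEpi
universe u
open CategoryTheory CategoryTheory.Limits AlgebraicGeometry Opposite
namespace Groth.Agent.Lib.Helper14.AS
variable {S : Scheme.{u}}
open AlgSp

/-- An fppf surjective morphism of algebraic spaces is an epimorphism of sheaves. -/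
theorem epi_of_fppf_surjective {X Z : Sp S} (hX : IsAlgSpace X) (hZ : IsAlgSpace Z) (g : X ⟶ Z)
    (hgs : IsSurjectiveMor g) (hgf : LocP @Flat g) (hgp : LocP @LocallyOfFinitePresentation g) :
    Epi g := by
  obtain ⟨U, a, hae, has⟩ := hX.atlas
  have hU := IsAlgSpace.yon_obj (S := S) U
  have h1 : LocP @LocallyOfFinitePresentation (a ≫ g) :=
    locP_comp etLocal_lfp hU hX hZ a g (locP_of_repWith etale_le_lfp (repWith_mono etale_le_lfp hae)) hgp
  have h2 : LocP @Flat (a ≫ g) :=
    locP_comp etLocal_flat hU hX hZ a g (locP_of_repWith etale_le_flat (repWith_mono etale_le_flat hae)) hgf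
  have h3 : IsSurjectiveMor (a ≫ g) :=
    isSurjectiveMor_comp (points_map_surjective_of_repWith has) hgs
  have := epi_of_fppf_cover hZ (a ≫ g) h1 h2 h3
  exact epi_of_epi a g

/-- Descent of a morphism along an epimorphism of sheaves. -/
theorem exists_desc_of_epi {X Z Y : Sp S} (g : X ⟶ Z) [Epi g] (f : X ⟶ Y)
    (h : pullback.fst g g ≫ f = pullback.snd g g ≫ f) : ∃ k : Z ⟶ Y, g ≫ k = f := by
  have : IsRegularEpi g := IsRegularEpiCategory.regularEpiOfEpi g
  have : EffectiveEpi g := inferInstance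
  have key : ∀ {W : Sp S} (g₁ g₂ : W ⟶ X), g₁ ≫ g = g₂ ≫ g → g₁ ≫ f = g₂ ≫ f := by
    intro W g₁ g₂ hg
    have e1 : pullback.lift g₁ g₂ hg ≫ pullback.fst g g = g₁ := pullback.lift_fst _ _ _
    have e2 : pullback.lift g₁ g₂ hg ≫ pullback.snd g g = g₂ := pullback.lift_snd _ _ _
    calc g₁ ≫ f = (pullback.lift g₁ g₂ hg ≫ pullback.fst g g) ≫ f := by rw [e1]
      _ = (pullback.lift g₁ g₂ hg ≫ pullback.snd g g) ≫ f := by
        rw [Category.assoc, Category.assoc, h]
      _ = g₂ ≫ f := by rw [e2]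
  exact ⟨EffectiveEpi.desc g f key, EffectiveEpi.fac g f key⟩


set_option backward.isDefEq.respectTransparency.types false in
theorem factor_of_dense {B X Y Z : Sp S} (hX : IsAlgSpace X)
    (hZ : IsAlgSpace Z) (pX : X ⟶ B) (pY : Y ⟶ B) (pZ : Z ⟶ B)
    (f : X ⟶ Y) (g : X ⟶ Z) (hf : f ≫ pY = pX) (hg : g ≫ pZ = pX)
    (hY : IsSeparatedMor pY)
    (hgs : IsSurjectiveMor g) (hgf : LocP @Flat g) (hgp : LocP @LocallyOfFinitePresentation g)
    {V : Sp S} (v : V ⟶ Z) (hv : IsSchDense v) (hvq : IsQuasiCompactMor v)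
    (hfac : ∃ φ : V ⟶ Y, pullback.fst g v ≫ f = pullback.snd g v ≫ φ) :
    ∃ h : Z ⟶ Y, g ≫ h = f := by
  obtain ⟨φ, hφ⟩ := hfac
  have : Epi g := epi_of_fppf_surjective hX hZ g hgs hgf hgp
  apply exists_desc_of_epi g f
  have sqR := IsPullback.of_hasPullback g g
  have hR : IsAlgSpace (pullback g g) :=
    isAlgSpace_of_isPullback (repDiag_of_isAlgSpace hZ) hX hX sqR
  have hp1 : LocP @Flat (pullback.fst g g) :=
    locP_baseChange etLocal_flat hX hZ hX g g (pullback.snd g g) (pullback.fst g g) sqR.flip hgf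
  have hq : LocP @Flat (pullback.fst g g ≫ g) := locP_comp etLocal_flat hR hX hZ _ _ hp1 hgf
  obtain ⟨VR, a, j, sqV⟩ : ∃ (VR : Sp S) (a : VR ⟶ V) (j : VR ⟶ pullback g g),
      IsPullback a j v (pullback.fst g g ≫ g) :=
    ⟨_, _, _, IsPullback.of_hasPullback v (pullback.fst g g ≫ g)⟩
  have hjR : IsSchDense j := isSchDense_of_flat_baseChange hR hZ hq hv hvq sqV
  have himg := isSchImage_id_of_isSchDense hjR
  -- the equalizer as a base change of the diagonal
  have hδ : (pullback.fst g g ≫ f) ≫ pY = (pullback.snd g g ≫ f) ≫ pY := by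
    rw [Category.assoc, Category.assoc, hf, ← hg, ← Category.assoc, ← Category.assoc,
      pullback.condition]
  obtain ⟨δ, hδ1, hδ2⟩ : ∃ δ : pullback g g ⟶ pullback pY pY,
      δ ≫ pullback.fst pY pY = pullback.fst g g ≫ f ∧
      δ ≫ pullback.snd pY pY = pullback.snd g g ≫ f :=
    ⟨pullback.lift _ _ hδ, pullback.lift_fst _ _ _, pullback.lift_snd _ _ _⟩
  have sqE := IsPullback.of_hasPullback δ (pullback.diagonal pY)
  have hi' : RepWith @IsClosedImmersion (pullback.fst δ (pullback.diagonal pY)) :=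
    repWith_of_isPullback _ sqE.flip hY
  have hE : IsAlgSpace (pullback δ (pullback.diagonal pY)) :=
    isAlgSpace_of_representable_to hR _ hi'.rep
  -- the dense open factors through the equalizer
  have hfac : ∀ (p : pullback g g ⟶ X), p ≫ g = pullback.fst g g ≫ g →
      j ≫ p ≫ f = a ≫ φ := by
    intro p hp
    have e : pullback.lift (j ≫ p) a (by rw [Category.assoc, hp, sqV.w]) ≫ pullback.fst g v =
        j ≫ p := pullback.lift_fst _ _ _
    rw [← Category.assoc, ← e, Category.assoc, hφ, ← Category.assoc, pullback.lift_snd]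
  have h1 := hfac (pullback.fst g g) rfl
  have h2 := hfac (pullback.snd g g) pullback.condition.symm
  have hcomm : j ≫ δ = (a ≫ φ) ≫ pullback.diagonal pY := by
    apply pullback.hom_ext
    · rw [Category.assoc, hδ1, Category.assoc, pullback.diagonal_fst, Category.comp_id, h1]
    · rw [Category.assoc, hδ2, Category.assoc, pullback.diagonal_snd, Category.comp_id, h2]
  obtain ⟨k, hk⟩ := himg.2.2 _ hE hi' ⟨pullback.lift _ _ hcomm, pullback.lift_fst _ _ _⟩
  have hkδ : δ = k ≫ pullback.snd δ (pullback.diagonal pY) ≫ pullback.diagonal pY := by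
    rw [← pullback.condition, ← Category.assoc, hk, Category.id_comp]
  rw [← hδ1, ← hδ2, hkδ]
  simp only [Category.assoc, pullback.diagonal_fst, pullback.diagonal_snd]

end Groth.Agent.Lib.Helper14.AS
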