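import Mathlib.CategoryTheory.Limits.Constructions.Over.Connected
import Mathlib.CategoryTheory.Comma.Over.Pullback
import Mathlib.CategoryTheory.Limits.Shapes.Pullback.IsPullback.Basic
import Groth.Agent.Lib.Helper14.AlgSpSect
universe u
open CategoryTheory CategoryTheory.Limits
namespace Groth.Agent.Lib.Helper14.AS

section PB

variable {C : Type*} [Category C] [HasPullbacks C] {J : Type*} [Category J]
variable (D : J ⥤ C) {Y Z : C} (t : ∀ j, D.obj j ⟶ Y)
  (ht : ∀ {j j' : J} (φ : j ⟶ j'), D.map φ ≫ t j' = t j) (h : Z ⟶ Y)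

/-- the system `j ↦ D j ×_Y Z` -/
noncomputable def pbDiag : J ⥤ C := D.toOver Y t ht ⋙ Over.pullback h ⋙ Over.forget Z

theorem pbDiag_obj (j : J) : (pbDiag D t ht h).obj j = pullback (t j) h := rfl

/-- transition maps of the system, with explicit types -/
noncomputable def pbMap {j j' : J} (φ : j ⟶ j') : pullback (t j) h ⟶ pullback (t j') h :=
  (pbDiag D t ht h).map φ

theorem pbMap_fst {j j' : J} (φ : j ⟶ j') :
    pbMap D t ht h φ ≫ pullback.fst (t j') h = pullback.fst (t j) h ≫ D.map φ :=
  pullback.lift_fst _ _ _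

theorem pbMap_snd {j j' : J} (φ : j ⟶ j') :
    pbMap D t ht h φ ≫ pullback.snd (t j') h = pullback.snd (t j) h :=
  pullback.lift_snd _ _ _

/-- the transition maps of the system are base changes of the original ones -/
theorem isPullback_pbMap {j j' : J} (φ : j ⟶ j') :
    IsPullback (pullback.fst (t j) h) (pbMap D t ht h φ) (D.map φ)
      (pullback.fst (t j') h) := by
  have big : IsPullback (pullback.fst (t j) h)
      (pbMap D t ht h φ ≫ pullback.snd (t j') h) (D.map φ ≫ t j') h := by
    rw [pbMap_snd, ht]
    exact IsPullback.of_hasPullback _ _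
  exact IsPullback.of_bot big (pbMap_fst D t ht h φ).symm (IsPullback.of_hasPullback _ _)

variable (c : Cone D) (g : c.pt ⟶ Y) (hg : ∀ j, c.π.app j ≫ t j = g)

/-- the cone over `Y` -/
def pbConeOver : Cone (D.toOver Y t ht) where
  pt := Over.mk g
  π :=
    { app := fun j => Over.homMk (c.π.app j) (hg j)
      naturality := fun j j' φ => by
        apply Over.OverMorphism.ext
        change 𝟙 _ ≫ c.π.app j' = c.π.app j ≫ D.map φ
        rw [Category.id_comp, c.w] }

/-- the cone `X ×_Y Z` -/
noncomputable def pbCone : Cone (pbDiag D t ht h) :=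
  (Over.pullback h ⋙ Over.forget Z).mapCone (pbConeOver D t ht c g hg)

theorem pbCone_pt : (pbCone D t ht h c g hg).pt = pullback g h := rfl

/-- legs of the cone, with explicit types -/
noncomputable def pbLeg (j : J) : pullback g h ⟶ pullback (t j) h :=
  (pbCone D t ht h c g hg).π.app j

theorem pbLeg_fst (j : J) :
    pbLeg D t ht h c g hg j ≫ pullback.fst (t j) h = pullback.fst g h ≫ c.π.app j :=
  pullback.lift_fst _ _ _

theorem pbLeg_snd (j : J) :
    pbLeg D t ht h c g hg j ≫ pullback.snd (t j) h = pullback.snd g h :=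
  pullback.lift_snd _ _ _

/-- base change of a connected limit is a limit -/
noncomputable def isLimitPbCone [IsConnected J] (hc : IsLimit c) :
    IsLimit (pbCone D t ht h c g hg) := by
  have h1 : IsLimit ((Over.forget Y).mapCone (pbConeOver D t ht c g hg)) :=
    hc.ofIsoLimit (Cones.ext (Iso.refl _) (fun j => (Category.id_comp _).symm))
  have h2 : IsLimit (pbConeOver D t ht c g hg) := isLimitOfReflects (Over.forget Y) h1
  exact isLimitOfPreserves (Over.pullback h ⋙ Over.forget Z) h2

end PB

section Graph

variable {C : Type*} [Category C] [HasPullbacks C]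

/-- graphs are compatible with base change -/
theorem isPullback_graph_map {A A' E Y : C} {tA : A ⟶ Y} {tA' : A' ⟶ Y} {tE : E ⟶ Y}
    (a : A ⟶ A') (u : A' ⟶ E)
    (ΓA : A ⟶ pullback tA tE) (h1 : ΓA ≫ pullback.fst tA tE = 𝟙 A)
    (h2 : ΓA ≫ pullback.snd tA tE = a ≫ u)
    (ΓA' : A' ⟶ pullback tA' tE) (h1' : ΓA' ≫ pullback.fst tA' tE = 𝟙 A')
    (h2' : ΓA' ≫ pullback.snd tA' tE = u)
    (m : pullback tA tE ⟶ pullback tA' tE)
    (hm1 : m ≫ pullback.fst tA' tE = pullback.fst tA tE ≫ a)
    (hm2 : m ≫ pullback.snd tA' tE = pullback.snd tA tE) :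
    IsPullback a ΓA ΓA' m := by
  refine isPullback_of_exists_unique ?_ ?_ ?_
  · apply pullback.hom_ext
    · rw [Category.assoc, h1', Category.comp_id, Category.assoc, hm1, ← Category.assoc, h1,
        Category.id_comp]
    · rw [Category.assoc, h2', Category.assoc, hm2, h2]
  · intro T x y hxy
    have e1 : x = (y ≫ pullback.fst tA tE) ≫ a := by
      have := congrArg (· ≫ pullback.fst tA' tE) hxy
      simpa only [Category.assoc, h1', Category.comp_id, hm1] using this
    have e2 : x ≫ u = y ≫ pullback.snd tA tE := by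
      have := congrArg (· ≫ pullback.snd tA' tE) hxy
      simpa only [Category.assoc, h2', hm2] using this
    refine ⟨y ≫ pullback.fst tA tE, e1.symm, ?_⟩
    apply pullback.hom_ext
    · rw [Category.assoc, h1, Category.comp_id]
    · rw [Category.assoc, h2, ← Category.assoc, ← e1, e2]
  · intro T z z' _ hz
    have := congrArg (· ≫ pullback.fst tA tE) hz
    simpa only [Category.assoc, h1, Category.comp_id] using this

/-- changing the second factor of a fibre product is a base change -/
theorem isPullback_map_snd_factor {X A A' Y : C} (f : X ⟶ Y) (g : A ⟶ Y) (g' : A' ⟶ Y)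
    (v : A ⟶ A') (hv : v ≫ g' = g)
    (b : pullback f g ⟶ pullback f g')
    (hb1 : b ≫ pullback.fst f g' = pullback.fst f g)
    (hb2 : b ≫ pullback.snd f g' = pullback.snd f g ≫ v) :
    IsPullback (pullback.snd f g) b v (pullback.snd f g') := by
  subst hv
  have big : IsPullback (b ≫ pullback.fst f g') (pullback.snd f (v ≫ g')) f (v ≫ g') := by
    rw [hb1]
    exact IsPullback.of_hasPullback _ _
  exact (IsPullback.of_right big hb2 (IsPullback.of_hasPullback f g')).flip

end Graph

end Groth.Agent.Lib.Helper14.AS
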