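import Groth.Agent.Lib.Helper14.AlgSpDiag3

/-!
# Separation conditions for representable morphisms (helper14)
-/

universe u
open CategoryTheory CategoryTheory.Limits AlgebraicGeometry Opposite

namespace Groth.Agent.Lib.Helper14.AS

open AlgSp

variable {S : Scheme.{u}}

set_option backward.isDefEq.respectTransparency false in
/-- The diagonal of a base change is the base change of the diagonal. -/
theorem isPullback_diagonal_of_isPullback {C : Type*} [Category C] [HasPullbacks C]
    {X Y T XT : C} {f : X ⟶ Y} {x : T ⟶ Y} {pr : XT ⟶ X} {fT : XT ⟶ T}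
    (sq : IsPullback pr fT f x) :
    IsPullback pr (pullback.diagonal fT) (pullback.diagonal f)
      (pullback.map fT fT f f pr pr x sq.w.symm sq.w.symm) := by
  refine isPullback_of_exists_unique ?_ ?_ ?_
  · apply pullback.hom_ext <;> simp
  · intro W a b hab
    have h1 : a = b ≫ pullback.fst fT fT ≫ pr := by
      have := congrArg (· ≫ pullback.fst f f) hab
      simpa using this
    have h2 : a = b ≫ pullback.snd fT fT ≫ pr := by
      have := congrArg (· ≫ pullback.snd f f) hab
      simpa using this
    have hc : b ≫ pullback.fst fT fT = b ≫ pullback.snd fT fT := by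
      apply sq.hom_ext
      · rw [Category.assoc, Category.assoc, ← h1, ← h2]
      · rw [Category.assoc, Category.assoc, pullback.condition]
    refine ⟨b ≫ pullback.fst fT fT, ?_, ?_⟩
    · rw [Category.assoc, ← h1]
    · apply pullback.hom_ext
      · simp
      · simp [hc]
  · intro W z z' h _
    have := congrArg (· ≫ pullback.fst fT fT) ‹z ≫ pullback.diagonal fT = z' ≫ pullback.diagonal fT›
    simpa using this

/-- To check `RepWith P` for the diagonal of a representable morphism, it suffices to check it for
the diagonals of the base changes to schemes. -/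
theorem repWith_diagonal_of_base_changes (P : MorphismProperty Scheme.{u}) {X Y : Sp S} {f : X ⟶ Y}
    (hf : Representable f) (hΔ : Representable (pullback.diagonal f))
    (h : ∀ ⦃T : Over S⦄ (x : (yon S).obj T ⟶ Y),
      RepWith P (pullback.diagonal ((yon S).map (hf.snd x)))) :
    RepWith P (pullback.diagonal f) := by
  refine ⟨hΔ, fun T W z a0 b0 sq0 => ?_⟩
  let x : (yon S).obj T ⟶ Y := z ≫ pullback.fst f f ≫ f
  have sq := hf.isPullback x
  have c1 : (z ≫ pullback.fst f f) ≫ f = 𝟙 _ ≫ x := by simp [x]
  have c2 : (z ≫ pullback.snd f f) ≫ f = 𝟙 _ ≫ x := by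
    simp only [x, Category.assoc, Category.id_comp, pullback.condition]
  let σ1 := sq.lift (z ≫ pullback.fst f f) (𝟙 _) c1
  let σ2 := sq.lift (z ≫ pullback.snd f f) (𝟙 _) c2
  have hσ : σ1 ≫ (yon S).map (hf.snd x) = σ2 ≫ (yon S).map (hf.snd x) := by
    rw [sq.lift_snd, sq.lift_snd]
  let z' : (yon S).obj T ⟶ pullback ((yon S).map (hf.snd x)) ((yon S).map (hf.snd x)) :=
    pullback.lift σ1 σ2 hσ
  have sqΔ := isPullback_diagonal_of_isPullback sq
  have hz : z' ≫ pullback.map _ _ f f (hf.fst x) (hf.fst x) x sq.w.symm sq.w.symm = z := by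
    apply pullback.hom_ext
    · simp only [z', σ1, Category.assoc, pullback.lift_fst, pullback.lift_fst_assoc,
        IsPullback.lift_fst]
    · simp only [z', σ2, Category.assoc, pullback.lift_snd, pullback.lift_snd_assoc,
        IsPullback.lift_fst]
  have big : IsPullback a0 ((yon S).map b0) (pullback.diagonal f)
      (z' ≫ pullback.map _ _ f f (hf.fst x) (hf.fst x) x sq.w.symm sq.w.symm) := by
    rw [hz]; exact sq0
  have cl : a0 ≫ pullback.diagonal f = ((yon S).map b0 ≫ z') ≫
      pullback.map _ _ f f (hf.fst x) (hf.fst x) x sq.w.symm sq.w.symm := by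
    rw [Category.assoc]; exact big.w
  have key := IsPullback.of_right (h₁₁ := sqΔ.lift a0 ((yon S).map b0 ≫ z') cl)
    (by rw [sqΔ.lift_fst]; exact big) (sqΔ.lift_snd _ _ _) sqΔ
  exact (h x).property z' _ b0 key

set_option backward.isDefEq.respectTransparency.types false in
theorem isSeparatedMor_iff_of_representable {X Y : Sp S} (hX : IsAlgSpace X) {f : X ⟶ Y}
    (hf : Representable f) :
    (IsSeparatedMor f ↔ RepWith @IsSeparated f) ∧
    (IsQuasiSeparatedMor f ↔ RepWith @QuasiSeparated f) := by
  have hΔ : Representable (pullback.diagonal f) := representable_diagonal f hX.diag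
  refine ⟨⟨fun h => ⟨hf, fun T W x fst g sq => ?_⟩, fun h => ?_⟩,
    ⟨fun h => ⟨hf, fun T W x fst g sq => ?_⟩, fun h => ?_⟩⟩
  · have : (RepWith (S := S) @IsClosedImmersion).diagonal ((yon S).map g) :=
      MorphismProperty.of_isPullback (P := (RepWith (S := S) @IsClosedImmersion).diagonal) sq h
    exact (isSeparatedMor_yon_map_iff g).1 this
  · exact repWith_diagonal_of_base_changes _ hf hΔ fun T x =>
      (isSeparatedMor_yon_map_iff (hf.snd x)).2 (h.property_snd x)
  · have : (RepWith (S := S) @QuasiCompact).diagonal ((yon S).map g) :=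
      MorphismProperty.of_isPullback (P := (RepWith (S := S) @QuasiCompact).diagonal) sq h
    exact (isQuasiSeparatedMor_yon_map_iff g).1 this
  · exact repWith_diagonal_of_base_changes _ hf hΔ fun T x =>
      (isQuasiSeparatedMor_yon_map_iff (hf.snd x)).2 (h.property_snd x)

end Groth.Agent.Lib.Helper14.AS
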