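import Groth.Agent.Lib.Helper14.AlgSpGpd2
import Groth.Agent.Lib.Helper14.AlgSpDiag3
import Groth.Agent.Lib.Helper14.AlgSpQCMor
import Groth.Agent.Lib.Helper14.AlgSpSep
universe u
open CategoryTheory CategoryTheory.Limits AlgebraicGeometry
namespace Groth.Agent.Lib.Helper14.AS
variable {S : Scheme.{u}}
open AlgSp Groth.Agent.Lib.Helper14.AS

variable {B : Sp S} (G : GroupoidSp B)

theorem gpd_e_j : G.e ≫ G.j = G.diag := by
  apply pullback.hom_ext
  · rw [Category.assoc, G.j_fst, G.e_t, GroupoidSp.diag, pullback.lift_fst]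
  · rw [Category.assoc, G.j_snd, G.e_s, GroupoidSp.diag, pullback.lift_snd]

instance gpd_mono_diag : Mono G.diag := by
  refine ⟨fun a b h => ?_⟩
  have : a ≫ G.diag ≫ pullback.fst _ _ = b ≫ G.diag ≫ pullback.fst _ _ := by
    rw [← Category.assoc, h, Category.assoc]
  rw [GroupoidSp.diag, pullback.lift_fst, Category.comp_id, Category.comp_id] at this
  exact this

instance gpd_mono_stabilizerι : Mono G.stabilizerι := by
  unfold GroupoidSp.stabilizerι
  have := gpd_mono_diag G
  exact pullback.fst_of_mono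

theorem gpd_eG_section (eG : G.U ⟶ G.stabilizer) (heG : eG ≫ G.stabilizerι = G.e) :
    eG ≫ G.stabilizerToU = 𝟙 G.U := by
  rw [← cancel_mono G.diag, Category.assoc, Category.id_comp]
  have : G.stabilizerι ≫ G.j = G.stabilizerToU ≫ G.diag := pullback.condition
  rw [← this, reassoc_of% heG, gpd_e_j]

/-- `(α, β) ↦ α⁻¹ ∘ β` from `R ×_{U ×_B U} R` to `R`. -/
noncomputable def gpd_divR : pullback G.j G.j ⟶ G.R :=
  pullback.lift (pullback.fst G.j G.j ≫ G.i) (pullback.snd G.j G.j) (by
    rw [Category.assoc, G.i_s, ← G.j_fst, ← Category.assoc, pullback.condition, Category.assoc]) ≫ G.c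

theorem gpd_divR_s : gpd_divR G ≫ G.s = pullback.snd G.j G.j ≫ G.s := by
  unfold gpd_divR
  rw [G.comp_s]

theorem gpd_divR_t : gpd_divR G ≫ G.t = pullback.snd G.j G.j ≫ G.s := by
  unfold gpd_divR
  rw [G.comp_t, Category.assoc, G.i_t, ← G.j_snd, ← Category.assoc, pullback.condition, Category.assoc]

/-- `(α, β) ↦ α⁻¹ ∘ β` from `R ×_{U ×_B U} R` to the stabilizer. -/
noncomputable def gpd_div : pullback G.j G.j ⟶ G.stabilizer :=
  pullback.lift (gpd_divR G) (pullback.snd G.j G.j ≫ G.s) (by
    apply pullback.hom_ext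
    · rw [Category.assoc, G.j_fst, gpd_divR_t, Category.assoc, GroupoidSp.diag, pullback.lift_fst,
        Category.comp_id]
    · rw [Category.assoc, G.j_snd, gpd_divR_s, Category.assoc, GroupoidSp.diag, pullback.lift_snd,
        Category.comp_id])

theorem gpd_div_ι : gpd_div G ≫ G.stabilizerι = gpd_divR G := pullback.lift_fst _ _ _

theorem gpd_div_toU : gpd_div G ≫ G.stabilizerToU = pullback.snd G.j G.j ≫ G.s :=
  pullback.lift_snd _ _ _

theorem gpd_comp_divR {T : Sp S} (x : T ⟶ pullback G.j G.j) :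
    x ≫ gpd_divR G = pullback.lift ((x ≫ pullback.fst G.j G.j) ≫ G.i) (x ≫ pullback.snd G.j G.j) (by
      rw [Category.assoc, Category.assoc, G.i_s, ← G.j_fst, ← Category.assoc (pullback.fst _ _),
        pullback.condition, Category.assoc, Category.assoc]) ≫ G.c := by
  unfold gpd_divR
  rw [← Category.assoc]
  congr 1
  apply pullback.hom_ext
  · rw [Category.assoc, pullback.lift_fst, pullback.lift_fst, Category.assoc]
  · rw [Category.assoc, pullback.lift_snd, pullback.lift_snd]

/-- The diagonal of `j` is the base change of the unit section of the stabilizer. -/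
theorem gpd_isPullback_diagonal_j (eG : G.U ⟶ G.stabilizer) (heG : eG ≫ G.stabilizerι = G.e) :
    IsPullback (pullback.diagonal G.j) G.s (gpd_div G) eG := by
  refine isPullback_of_exists_unique ?_ ?_ ?_
  · rw [← cancel_mono G.stabilizerι, Category.assoc, Category.assoc, gpd_div_ι, heG, gpd_comp_divR]
    refine (congrArg (· ≫ G.c) (pullback_lift_congr _ ?_ ?_)).trans
      ((G.i_comp (𝟙 G.R)).trans (Category.id_comp _))
    · rw [pullback.diagonal_fst]
    · rw [pullback.diagonal_snd]
  · intro T x y hxy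
    have hy : y = (x ≫ pullback.snd G.j G.j) ≫ G.s := by
      have := congrArg (· ≫ G.stabilizerToU) hxy
      simp only [Category.assoc, gpd_div_toU, gpd_eG_section G eG heG, Category.comp_id] at this
      rw [Category.assoc]; exact this.symm
    have ht : (x ≫ pullback.fst G.j G.j) ≫ G.t = (x ≫ pullback.snd G.j G.j) ≫ G.t := by
      rw [← G.j_fst, Category.assoc, ← Category.assoc (pullback.fst _ _), pullback.condition,
        Category.assoc, Category.assoc]
    have hs : (x ≫ pullback.fst G.j G.j) ≫ G.s = (x ≫ pullback.snd G.j G.j) ≫ G.s := by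
      rw [← G.j_snd, Category.assoc, ← Category.assoc (pullback.fst _ _), pullback.condition,
        Category.assoc, Category.assoc]
    have h1 : x ≫ gpd_divR G = y ≫ G.e := by
      rw [← gpd_div_ι, ← Category.assoc, hxy, Category.assoc, heG]
    have h2 := gpd_comp_inv_comp G (x ≫ pullback.fst G.j G.j) (x ≫ pullback.snd G.j G.j) ht
    have h3 : x ≫ pullback.fst G.j G.j = x ≫ pullback.snd G.j G.j := by
      rw [← h2]
      have := G.comp_e (x ≫ pullback.fst G.j G.j)
      conv_lhs => rw [← this]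
      congr 1
      apply pullback_lift_congr _ rfl
      rw [← gpd_comp_divR, h1, hy, ← hs]
      simp only [Category.assoc]
    refine ⟨x ≫ pullback.fst G.j G.j, ?_, ?_⟩
    · apply pullback.hom_ext
      · rw [Category.assoc, pullback.diagonal_fst, Category.comp_id]
      · rw [Category.assoc, pullback.diagonal_snd, Category.comp_id, h3]
    · rw [hy, hs]
  · intro T z z' h _
    have := congrArg (· ≫ pullback.fst G.j G.j) h
    simpa using this

end Groth.Agent.Lib.Helper14.AS

namespace Groth.Agent.Lib.Helper14.AS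
variable {S : Scheme.{u}}
open AlgSp Groth.Agent.Lib.Helper14.AS
variable {B : Sp S} (G : GroupoidSp B)

theorem gpd_diag_cycle (P : MorphismProperty Scheme.{u}) (eG : G.U ⟶ G.stabilizer)
    (heG : eG ≫ G.stabilizerι = G.e) :
    (RepWith P (pullback.diagonal G.j) → RepWith P (pullback.diagonal G.stabilizerToU)) ∧
    (RepWith P (pullback.diagonal G.stabilizerToU) → RepWith P eG) ∧
    (RepWith P eG → RepWith P (pullback.diagonal G.j)) := by
  refine ⟨fun h => ?_, fun h => ?_, fun h => ?_⟩
  · exact repWith_of_isPullback P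
      (isPullback_diagonal_of_isPullback (IsPullback.of_hasPullback G.j G.diag)) h
  · exact repWith_section P G.stabilizerToU eG (gpd_eG_section G eG heG) h
  · exact repWith_of_isPullback P (gpd_isPullback_diagonal_j G eG heG).flip h

theorem gpd_separated_iff (hB : IsAlgSpace B) (hU : AlgSp.IsAlgSpace G.U) (hR : AlgSp.IsAlgSpace G.R)
    (eG : G.U ⟶ G.stabilizer) (heG : eG ≫ G.stabilizerι = G.e) :
    ((AlgSp.IsSeparatedMor G.j ↔ AlgSp.IsSeparatedMor G.stabilizerToU) ∧
        (AlgSp.IsSeparatedMor G.j ↔ AlgSp.RepWith @IsClosedImmersion eG)) ∧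
      ((AlgSp.IsQuasiSeparatedMor G.j ↔ AlgSp.IsQuasiSeparatedMor G.stabilizerToU) ∧
        (AlgSp.IsQuasiSeparatedMor G.j ↔ AlgSp.IsQuasiCompactMor eG)) ∧
      ((AlgSp.IsLocallySeparatedMor G.j → AlgSp.RepWith @IsImmersion eG) ∧
        (AlgSp.IsLocallySeparatedMor G.stabilizerToU → AlgSp.RepWith @IsImmersion eG)) := by
  obtain ⟨a1, a2, a3⟩ := gpd_diag_cycle G @IsClosedImmersion eG heG
  obtain ⟨b1, b2, b3⟩ := gpd_diag_cycle G @QuasiCompact eG heG
  obtain ⟨c1, c2, c3⟩ := gpd_diag_cycle G @IsImmersion eG heG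
  have hUU : IsAlgSpace (pullback G.pU G.pU) :=
    isAlgSpace_of_isPullback (repDiag_of_isAlgSpace hB) hU hU (IsPullback.of_hasPullback _ _)
  have hGs : IsAlgSpace G.stabilizer :=
    isAlgSpace_of_isPullback (repDiag_of_isAlgSpace hUU) hR hU (IsPullback.of_hasPullback G.j G.diag)
  have hrep : Representable eG :=
    representable_section G.stabilizerToU eG (gpd_eG_section G eG heG)
      (representable_diagonal G.stabilizerToU hGs.diag)
  refine ⟨⟨⟨a1, fun h => a3 (a2 h)⟩, ⟨fun h => a2 (a1 h), a3⟩⟩,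
    ⟨⟨b1, fun h => b3 (b2 h)⟩, ⟨fun h => isQuasiCompactMor_of_repWith (b2 (b1 h)),
      fun h => b3 (repWith_quasiCompact_of_isQuasiCompactMor hrep h)⟩⟩,
    ⟨fun h => c2 (c1 h), c2⟩⟩

end Groth.Agent.Lib.Helper14.AS
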