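import Groth.Agent.Lib.Helper14.AlgSpClosed
import Groth.Agent.Lib.Helper14.AlgSpQCMor2
import Mathlib.AlgebraicGeometry.Morphisms.UniversallyClosed

/-!
# Universally closed morphisms of algebraic spaces are quasi-compact (helper14)
-/

universe u
open CategoryTheory CategoryTheory.Limits AlgebraicGeometry Opposite Topology

namespace Groth.Agent.Lib.Helper14.AS

open AlgSp

variable {S : Scheme.{u}}

theorem subsingleton_points_field {K : Type u} [Field K] (str : Spec (CommRingCat.of K) ⟶ S) :
    Subsingleton (Points ((yon S).obj (Over.mk str))) := by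
  have : Subsingleton ↥(Over.mk str).left :=
    inferInstanceAs (Subsingleton ↥(Spec (CommRingCat.of K)))
  exact (Points.schemeHomeo (Over.mk str)).symm.injective.subsingleton

open PrimeSpectrum MvPolynomial in
set_option backward.isDefEq.respectTransparency.types false in
/-- An algebraic space universally closed over a field is quasi-compact. -/
theorem compactSpace_points_of_isUnivClosedMor_to_field {K : Type u} [Field K]
    (str : Spec (CommRingCat.of K) ⟶ S) {W : Sp S} (hW : IsAlgSpace W)
    (g : W ⟶ (yon S).obj (Over.mk str)) (hg : IsUnivClosedMor g) : CompactSpace (Points W) := by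
  classical
  obtain ⟨U, p, hpe, hps⟩ := hW.atlas
  let 𝒰 : U.left.OpenCover := U.left.affineCover
  let Uo (i : 𝒰.I₀) : U.left.Opens := (𝒰.f i).opensRange
  let Ui (i : 𝒰.I₀) : Set (Points W) := Points.ofPt p '' (Uo i : Set U.left)
  have hUiopen : ∀ i, IsOpen (Ui i) := fun i => isOpenMap_ofPt p hpe _ (Uo i).isOpen
  have hUicompact : ∀ i, IsCompact (Ui i) := fun i =>
    (isCompact_range (𝒰.f i).continuous).image (Points.continuous_ofPt p)
  have hUicover : ∀ x : Points W, ∃ i, x ∈ Ui i := by
    intro x
    obtain ⟨u, rfl⟩ := ofPt_surjective_of_repWith hps x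
    exact ⟨𝒰.idx u, u, 𝒰.covers u, rfl⟩
  let R := MvPolynomial 𝒰.I₀ K
  let q : Spec (CommRingCat.of R) ⟶ Spec (CommRingCat.of K) :=
    Spec.map (CommRingCat.ofHom MvPolynomial.C)
  let T : Over S := Over.mk (q ≫ str)
  let qO : T ⟶ Over.mk str := Over.homMk q rfl
  have sqT := IsPullback.of_hasPullback g ((yon S).map qO)
  have hclosed : IsClosedMap (Points.map (pullback.snd g ((yon S).map qO))) :=
    hg (IsAlgSpace.yon_obj T) _ _ _ sqT
  let τ : Points (pullback g ((yon S).map qO)) → PrimeSpectrum R :=
    fun z => (Points.schemeHomeo T).symm (Points.map (pullback.snd g ((yon S).map qO)) z)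
  have hτc : Continuous τ :=
    (Points.schemeHomeo T).symm.continuous.comp (Points.continuous_map _)
  have hτcl : IsClosedMap τ := (Points.schemeHomeo T).symm.isClosedMap.comp hclosed
  let π : Points (pullback g ((yon S).map qO)) → Points W :=
    Points.map (pullback.fst g ((yon S).map qO))
  have hπc : Continuous π := Points.continuous_map _
  let Ti (i : 𝒰.I₀) : Set (PrimeSpectrum R) := PrimeSpectrum.basicOpen (MvPolynomial.X i : R)
  let Z : Set (Points (pullback g ((yon S).map qO))) := (⋃ i, τ ⁻¹' (Ti i) ∩ π ⁻¹' (Ui i))ᶜ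
  have hZ : IsClosed Z := by
    rw [isClosed_compl_iff]
    exact isOpen_iUnion fun i =>
      ((PrimeSpectrum.basicOpen (MvPolynomial.X i : R)).isOpen.preimage hτc).inter
        ((hUiopen i).preimage hπc)
  have hZcopen : IsOpen (τ '' Z)ᶜ := (hτcl _ hZ).isOpen_compl
  let ψ : R →ₐ[K] K := MvPolynomial.aeval (fun _ ↦ 1)
  let t0 : PrimeSpectrum K := default
  let t : PrimeSpectrum R := PrimeSpectrum.comap ψ.toRingHom t0
  have ht (i : 𝒰.I₀) : t ∈ Ti i := show ψ (.X i) ∉ t0.asIdeal by
    have h1 : ψ (.X i) = 1 := MvPolynomial.aeval_X (fun _ => (1 : K)) i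
    rw [h1]
    exact fun h => t0.isPrime.ne_top ((Ideal.eq_top_iff_one _).2 h)
  have htZc : t ∈ (τ '' Z)ᶜ := by
    rintro ⟨z, hz, hzt⟩
    apply hz
    obtain ⟨i, hi⟩ := hUicover (π z)
    exact Set.mem_iUnion.2 ⟨i, by rw [Set.mem_preimage, hzt]; exact ht i, hi⟩
  obtain ⟨v, ⟨g0, rfl⟩, htv, hvle⟩ :=
    PrimeSpectrum.isTopologicalBasis_basic_opens.exists_subset_of_mem_open htZc hZcopen
  let σ : Finset 𝒰.I₀ := MvPolynomial.vars g0
  let φ : R →+* R :=
    (MvPolynomial.aeval fun i : 𝒰.I₀ ↦ if i ∈ σ then (MvPolynomial.X i : R) else 0).toRingHom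
  let t' : PrimeSpectrum R := PrimeSpectrum.comap φ t
  have ht'g : t' ∈ (PrimeSpectrum.basicOpen g0 : Set (PrimeSpectrum R)) :=
    show φ g0 ∉ t.asIdeal from (show φ g0 = g0 from aeval_ite_mem_eq_self g0 subset_rfl).symm ▸ htv
  have h : t' ∉ τ '' Z := hvle ht'g
  have hcov : ⋃ i ∈ σ, Ui i = Set.univ := by
    rw [Set.iUnion₂_eq_univ_iff]
    by_contra hcon
    push Not at hcon
    obtain ⟨x, hx⟩ := hcon
    have := subsingleton_points_field str
    obtain ⟨z, hz1, hz2⟩ := points_exists_of_isPullback sqT x (Points.schemeHomeo T t')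
      (Subsingleton.elim _ _)
    apply h
    refine ⟨z, ?_, ?_⟩
    · intro hzmem
      obtain ⟨i, hi1, hi2⟩ := Set.mem_iUnion.1 hzmem
      have hτz : τ z = t' := by
        change (Points.schemeHomeo T).symm _ = t'
        rw [hz2, Homeomorph.symm_apply_apply]
      rw [Set.mem_preimage, hτz] at hi1
      have hiσ : i ∈ σ := by
        by_contra hiσ
        have : φ (MvPolynomial.X i) = 0 := by
          change (MvPolynomial.aeval fun i : 𝒰.I₀ ↦ if i ∈ σ then (MvPolynomial.X i : R) else 0)
            (MvPolynomial.X i) = 0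
          rw [MvPolynomial.aeval_X, if_neg hiσ]
        have hi1' : φ (MvPolynomial.X i) ∉ t.asIdeal := hi1
        rw [this] at hi1'
        exact hi1' (Ideal.zero_mem _)
      exact hx i hiσ (by rw [← hz1]; exact hi2)
    · change (Points.schemeHomeo T).symm _ = t'
      rw [hz2, Homeomorph.symm_apply_apply]
  refine ⟨?_⟩
  rw [← hcov]
  exact σ.finite_toSet.isCompact_biUnion fun i _ => hUicompact i

theorem univSp_of_isPullback (Q : MorphismProperty (Sp S)) {X Y T T' : Sp S} {f : X ⟶ Y}
    {t : T ⟶ Y} {a : T' ⟶ X} {b : T' ⟶ T} (sq : IsPullback a b f t) (hf : UnivSp Q f) :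
    UnivSp Q b := by
  intro Z Z' hZ z fst snd sqz
  exact hf hZ (z ≫ t) (fst ≫ a) snd (sqz.paste_horiz sq)

/-- The points of the source of a universally closed morphism to an affine scheme form a
compact space. -/
theorem compactSpace_points_of_isUnivClosedMor_to_compact {P : Sp S} (hP : IsAlgSpace P)
    {Z : Over S} [CompactSpace ↥Z.left] (b : P ⟶ (yon S).obj Z) (hb : IsUnivClosedMor b) :
    CompactSpace (Points P) := by
  have hcl : IsClosedMap (Points.map b) :=
    hb (IsAlgSpace.yon_obj Z) (𝟙 _) (𝟙 _) b (IsPullback.of_horiz_isIso ⟨by simp⟩)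
  have hfib : ∀ y : Points ((yon S).obj Z), IsCompact (Points.map b ⁻¹' {y}) := by
    intro y
    obtain ⟨z, rfl⟩ := (Points.schemeHomeo Z).surjective y
    let κ : Over S := Over.mk (Z.left.fromSpecResidueField z ≫ Z.hom)
    let ι : κ ⟶ Z := Over.homMk (Z.left.fromSpecResidueField z) rfl
    have sqz := IsPullback.of_hasPullback b ((yon S).map ι)
    have hPz : IsAlgSpace (pullback b ((yon S).map ι)) :=
      isAlgSpace_of_isPullback (repDiag_of_isAlgSpace (IsAlgSpace.yon_obj Z)) hP
        (IsAlgSpace.yon_obj κ) sqz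
    have hc : CompactSpace (Points (pullback b ((yon S).map ι))) :=
      compactSpace_points_of_isUnivClosedMor_to_field
        (Z.left.fromSpecResidueField z ≫ Z.hom) hPz (pullback.snd b ((yon S).map ι))
        (univSp_of_isPullback _ sqz hb)
    have himg : Points.map b ⁻¹' {Points.schemeHomeo Z z} =
        Set.range (Points.map (pullback.fst b ((yon S).map ι))) := by
      ext x
      constructor
      · intro hx
        have hx' : Points.map b x = Points.schemeHomeo Z z := hx
        have hz : Points.schemeHomeo Z z = Points.map ((yon S).map ι)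
            (Points.schemeHomeo κ (IsLocalRing.closedPoint _)) := by
          rw [Points.map_yon_map_apply]
          congr 1
          exact (Scheme.fromSpecResidueField_apply _ _).symm
        obtain ⟨w, hw1, -⟩ := points_exists_of_isPullback sqz x _ (hx'.trans hz)
        exact ⟨w, hw1⟩
      · rintro ⟨w, rfl⟩
        change Points.map b (Points.map _ w) = _
        rw [← Points.map_comp, sqz.w, Points.map_comp]
        obtain ⟨k, hk⟩ := (Points.schemeHomeo κ).surjective
          (Points.map (pullback.snd b ((yon S).map ι)) w)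
        rw [← hk, Points.map_yon_map_apply]
        congr 1
        have : k = IsLocalRing.closedPoint _ :=
          Subsingleton.elim (α := ↥(Spec (Z.left.residueField z))) _ _
        rw [this]
        exact Scheme.fromSpecResidueField_apply _ _
    rw [himg]
    exact isCompact_range (Points.continuous_map _)
  have hproper : IsProperMap (Points.map b) :=
    isProperMap_iff_isClosedMap_and_compact_fibers.2 ⟨Points.continuous_map b, hcl, hfib⟩
  have : CompactSpace (Points ((yon S).obj Z)) := (Points.schemeHomeo Z).compactSpace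
  have := hproper.isCompact_preimage isCompact_univ
  rw [Set.preimage_univ] at this
  exact ⟨this⟩

/-- A universally closed morphism of algebraic spaces is quasi-compact. -/
theorem isQuasiCompactMor_of_isUnivClosedMor {X Y : Sp S} (hX : IsAlgSpace X) (hY : IsAlgSpace Y)
    {f : X ⟶ Y} (hf : IsUnivClosedMor f) : IsQuasiCompactMor f := by
  rw [isQuasiCompactMor_iff_affine hX hY]
  intro Z hZ g P fst snd sq
  have hP : IsAlgSpace P :=
    isAlgSpace_of_isPullback (repDiag_of_isAlgSpace hY) hX (IsAlgSpace.yon_obj Z) sq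
  rw [isQuasiCompactSp_iff_compactSpace hP]
  exact compactSpace_points_of_isUnivClosedMor_to_compact hP snd (univSp_of_isPullback _ sq hf)

end Groth.Agent.Lib.Helper14.AS
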