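import Mathlib
import Groth.Prelude.Def_AlgSpCov
import Groth.Agent.Lib.Helper14.AlgSpLocP2
import Groth.Agent.Lib.Helper14.AlgSpUCQC

/-!
# fppf locality on the source for open and universally open morphisms (helper14)
-/

universe u
open CategoryTheory CategoryTheory.Limits AlgebraicGeometry Opposite Topology

namespace Groth.Agent.Lib.Helper14.AS

open AlgSp

variable {S : Scheme.{u}}

theorem isOpenMor_of_isUnivOpenMor {X Y : Sp S} (hY : IsAlgSpace Y) {f : X ⟶ Y}
    (h : IsUnivOpenMor f) : IsOpenMor f :=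
  h hY (𝟙 _) (𝟙 _) f (IsPullback.of_horiz_isIso ⟨by simp⟩)

theorem isOpenMor_comp {X Y Z : Sp S} {f : X ⟶ Y} {g : Y ⟶ Z} (hf : IsOpenMor f)
    (hg : IsOpenMor g) : IsOpenMor (f ≫ g) := by
  have e : Points.map (f ≫ g) = Points.map g ∘ Points.map f := funext (Points.map_comp f g)
  change IsOpenMap (Points.map (f ≫ g))
  rw [e]
  exact IsOpenMap.comp hg hf

/-- Openness of `f` can be checked on a jointly surjective family of open morphisms. -/
theorem isOpenMor_of_family {ι : Type*} {X Y : Sp S} (Xi : ι → Sp S) (g : ∀ i, Xi i ⟶ X)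
    (hs : ∀ x : Points X, ∃ i, x ∈ Set.range (Points.map (g i))) (f : X ⟶ Y)
    (H : ∀ i, IsOpenMor (g i ≫ f)) : IsOpenMor f := by
  intro A hA
  have e : Points.map f '' A = ⋃ i, Points.map (g i ≫ f) '' (Points.map (g i) ⁻¹' A) := by
    ext y
    simp only [Set.mem_image, Set.mem_iUnion, Set.mem_preimage]
    constructor
    · rintro ⟨x, hx, rfl⟩
      obtain ⟨i, x', rfl⟩ := hs x
      exact ⟨i, x', hx, Points.map_comp _ _ _⟩
    · rintro ⟨i, x', hx', rfl⟩
      exact ⟨_, hx', (Points.map_comp _ _ _).symm⟩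
  rw [e]
  exact isOpen_iUnion fun i => H i _ (hA.preimage (Points.continuous_map _))

theorem isLocalOnSource_fppf_isOpenMor :
    IsLocalOnSource (IsFppfCover (S := S)) IsOpenMor := by
  intro ι X Xi g hX hXi hcov Y f hY
  constructor
  · intro hf i
    exact isOpenMor_comp (isOpenMor_of_isUnivOpenMor hX
      (isUnivOpenMor_of_flat_lfp (hXi i) hX (g i) (hcov.1 i).1 (hcov.1 i).2)) hf
  · intro H
    exact isOpenMor_of_family Xi g hcov.2 f H


theorem univSp_comp {Q : MorphismProperty (Sp S)}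
    (hQ : ∀ ⦃A B C : Sp S⦄ (f : A ⟶ B) (g : B ⟶ C), Q f → Q g → Q (f ≫ g))
    {X Y Z : Sp S} (hY : IsAlgSpace Y) (hZ : RepDiag Z) {f : X ⟶ Y}
    {g : Y ⟶ Z} (hf : UnivSp Q f) (hg : UnivSp Q g) : UnivSp Q (f ≫ g) := by
  intro T T' hT t a b sq
  have sqY := IsPullback.of_hasPullback g t
  have hYT : IsAlgSpace (pullback g t) := isAlgSpace_of_isPullback hZ hY hT sqY
  have hc : (a ≫ f) ≫ g = b ≫ t := by rw [Category.assoc]; exact sq.w
  have key : IsPullback a (sqY.lift (a ≫ f) b hc) f (pullback.fst g t) := by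
    refine IsPullback.of_bot ?_ (sqY.lift_fst _ _ _).symm sqY
    rw [sqY.lift_snd]
    exact sq
  have h1 : Q (sqY.lift (a ≫ f) b hc) := hf hYT _ _ _ key
  have h2 : Q (pullback.snd g t) := hg hT _ _ _ sqY
  have := hQ _ _ h1 h2
  rwa [sqY.lift_snd] at this

theorem isLocalOnSource_fppf_isUnivOpenMor :
    IsLocalOnSource (IsFppfCover (S := S)) IsUnivOpenMor := by
  intro ι X Xi g hX hXi hcov Y f hY
  constructor
  · intro hf i
    exact univSp_comp (Q := IsOpenMor) (fun _ _ _ _ _ h1 h2 => isOpenMor_comp h1 h2) hX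
      (repDiag_of_isAlgSpace hY)
      (isUnivOpenMor_of_flat_lfp (hXi i) hX (g i) (hcov.1 i).1 (hcov.1 i).2) hf
  · intro H T T' hT t a b sq
    refine isOpenMor_of_family (fun i => pullback (g i) a) (fun i => pullback.snd (g i) a)
      (fun x' => ?_) b fun i => ?_
    · obtain ⟨i, xi, hxi⟩ := hcov.2 (Points.map a x')
      obtain ⟨z, -, hz⟩ := points_exists_of_isPullback (IsPullback.of_hasPullback (g i) a) xi x' hxi
      exact ⟨i, z, hz⟩
    · exact H i hT t _ _ ((IsPullback.of_hasPullback (g i) a).paste_vert sq)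

end Groth.Agent.Lib.Helper14.AS
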