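import Groth.Agent.Lib.Helper14.AlgSpGpd4
import Groth.Agent.Lib.Helper14.AlgSpAffineMor
import Groth.Agent.Lib.Helper14.AlgSpSepDescent
import Groth.Agent.Lib.Helper14.FppfSrc
universe u
open CategoryTheory CategoryTheory.Limits AlgebraicGeometry
namespace Groth.Agent.Lib.Helper14.AS
variable {S : Scheme.{u}}
open AlgSp Groth.Agent.Lib.Helper14.AS

theorem isOpenMor_comp' {X Y Z : Sp S} (f : X ⟶ Y) (g : Y ⟶ Z) (hf : IsOpenMor f) (hg : IsOpenMor g) :
    IsOpenMor (f ≫ g) := by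
  have : Points.map (f ≫ g) = Points.map g ∘ Points.map f := funext (Points.map_comp f g)
  change IsOpenMap (Points.map (f ≫ g))
  rw [this]
  exact hg.comp hf

theorem isUnivOpenMor_comp' {X Y Z : Sp S} (hY : IsAlgSpace Y) (hZ : IsAlgSpace Z) {f : X ⟶ Y}
    {g : Y ⟶ Z} (hf : IsUnivOpenMor f) (hg : IsUnivOpenMor g) : IsUnivOpenMor (f ≫ g) :=
  univSp_comp (fun _ _ _ f g hf hg => isOpenMor_comp' f g hf hg) hY (repDiag_of_isAlgSpace hZ) hf hg

theorem isSurjectiveMor_of_section {X Y : Sp S} (f : X ⟶ Y) (e : Y ⟶ X) (h : e ≫ f = 𝟙 Y) :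
    IsSurjectiveMor f := by
  intro y
  exact ⟨Points.map e y, by rw [← Points.map_comp, h, Points.map_id]⟩

theorem subsingleton_points_of_iso_field {U : Sp S} {k : Type u} [Field k]
    (σ : Spec (CommRingCat.of k) ⟶ S) (eU : U ≅ (yon S).obj (Over.mk σ)) :
    Subsingleton (Points U) := by
  have h1 : Subsingleton ↥(Over.mk σ).left := subsingleton_spec_field k
  have h2 : Subsingleton (Points ((yon S).obj (Over.mk σ))) :=
    (Points.schemeHomeo (Over.mk σ)).symm.injective.subsingleton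
  refine ⟨fun a b => ?_⟩
  have := h2.elim (Points.map eU.hom a) (Points.map eU.hom b)
  have h3 := congrArg (Points.map eU.inv) this
  rwa [← Points.map_comp, ← Points.map_comp, eU.hom_inv_id, Points.map_id, Points.map_id] at h3

theorem nonempty_points_of_iso_field {U : Sp S} {k : Type u} [Field k]
    (σ : Spec (CommRingCat.of k) ⟶ S) (eU : U ≅ (yon S).obj (Over.mk σ)) :
    Nonempty (Points U) := by
  have h1 : Nonempty ↥(Over.mk σ).left := inferInstanceAs (Nonempty (PrimeSpectrum k))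
  obtain ⟨x⟩ := h1
  exact ⟨Points.map eU.inv (Points.schemeHomeo (Over.mk σ) x)⟩

end Groth.Agent.Lib.Helper14.AS

namespace Groth.Agent.Lib.Helper14.AS
variable {S : Scheme.{u}}
open AlgSp Groth.Agent.Lib.Helper14.AS

set_option backward.isDefEq.respectTransparency.types false in
theorem restr_field (B : AlgSp.Sp S)
    (G G' : AlgSp.GroupoidSp B) (hR : AlgSp.IsAlgSpace G.R) (hR' : AlgSp.IsAlgSpace G'.R)
    (k k' : Type u) [Field k] [Field k'] [Algebra k k'] (σ : Spec (CommRingCat.of k) ⟶ S)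
    (eU : G.U ≅ ((AlgSp.yon S).obj (Over.mk σ)))
    (eU' : G'.U ≅ ((AlgSp.yon S).obj (Over.mk (Spec.map (CommRingCat.ofHom (algebraMap k k')) ≫ σ))))
    (φ : AlgSp.GroupoidSp.Hom G' G) (hφ : φ.IsRestriction)
    (hfU : φ.fU = eU'.hom ≫ (AlgSp.yon S).map (Over.homMk (Spec.map (CommRingCat.ofHom (algebraMap k k'))) rfl :
      Over.mk (Spec.map (CommRingCat.ofHom (algebraMap k k')) ≫ σ) ⟶ Over.mk σ) ≫ eU.inv) :
    (∀ f ∈ [G.s, G.t], AlgSp.IsSurjectiveMor f ∧ AlgSp.LocP @Flat f ∧ AlgSp.IsUnivOpenMor f) ∧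
      (∀ f ∈ [G'.s, G'.t], AlgSp.IsSurjectiveMor f ∧ AlgSp.LocP @Flat f ∧ AlgSp.IsUnivOpenMor f) ∧
      (AlgSp.IsSurjectiveMor φ.fU ∧ AlgSp.LocP @Flat φ.fU ∧ AlgSp.IsUnivOpenMor φ.fU) ∧
      (AlgSp.IsSurjectiveMor φ.fR ∧ AlgSp.LocP @Flat φ.fR ∧ AlgSp.IsUnivOpenMor φ.fR ∧ AlgSp.IsAffineMor φ.fR) := by
  have hU : IsAlgSpace G.U := (IsAlgSpace.yon_obj _).of_iso eU.symm
  have hU' : IsAlgSpace G'.U := (IsAlgSpace.yon_obj _).of_iso eU'.symm
  have hfUg : IsSurjectiveMor φ.fU ∧ LocP @Flat φ.fU ∧ IsUnivOpenMor φ.fU := by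
    refine ⟨fun y => ?_, locP_flat_to_field hU' σ eU φ.fU, isUnivOpenMor_to_field' hU' σ eU φ.fU⟩
    obtain ⟨x⟩ := nonempty_points_of_iso_field _ eU'
    have := subsingleton_points_of_iso_field σ eU
    exact ⟨x, Subsingleton.elim _ _⟩
  have hfUa : IsAffineMor φ.fU := by
    rw [hfU]
    apply isAffineMor_of_repWith
    refine repWith_comp _ (repWith_of_isIso' _ eU'.hom) (repWith_comp _ ?_ (repWith_of_isIso' _ eU.inv))
    rw [repWith_yon_map_iff]
    change IsAffineHom (Spec.map (CommRingCat.ofHom (algebraMap k k')))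
    infer_instance
  refine ⟨?_, ?_, hfUg, ?_⟩
  · intro f hf
    simp only [List.mem_cons, List.not_mem_nil, or_false] at hf
    rcases hf with rfl | rfl
    · exact ⟨isSurjectiveMor_of_section G.s G.e G.e_s, locP_flat_to_field hR σ eU G.s,
        isUnivOpenMor_to_field' hR σ eU G.s⟩
    · exact ⟨isSurjectiveMor_of_section G.t G.e G.e_t, locP_flat_to_field hR σ eU G.t,
        isUnivOpenMor_to_field' hR σ eU G.t⟩
  · intro f hf
    simp only [List.mem_cons, List.not_mem_nil, or_false] at hf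
    rcases hf with rfl | rfl
    · exact ⟨isSurjectiveMor_of_section G'.s G'.e G'.e_s, locP_flat_to_field hR' _ eU' G'.s,
        isUnivOpenMor_to_field' hR' _ eU' G'.s⟩
    · exact ⟨isSurjectiveMor_of_section G'.t G'.e G'.e_t, locP_flat_to_field hR' _ eU' G'.t,
        isUnivOpenMor_to_field' hR' _ eU' G'.t⟩
  · have sq1 := restr_aux φ.fU G.s G.t G'.s G'.t φ.fR φ.comm_t
      (fun T ρ a b ha hb => restr_exists φ hφ T ρ a b ha hb)
      (fun T z z' h1 h2 h3 => restr_unique φ hφ T z z' h1 h2 h3) φ.comm_s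
    have sq2 := IsPullback.of_hasPullback φ.fU G.t
    have hQ : IsAlgSpace (pullback φ.fU G.t) :=
      isAlgSpace_of_isPullback (repDiag_of_isAlgSpace hU) hU' hR sq2
    have e : φ.fR = pullback.lift G'.t φ.fR φ.comm_t.symm ≫ pullback.snd φ.fU G.t := by
      rw [pullback.lift_snd]
    rw [e]
    refine ⟨isSurjectiveMor_comp (isSurjectiveMor_of_isPullback sq1.flip hfUg.1)
        (isSurjectiveMor_of_isPullback sq2 hfUg.1),
      locP_comp etLocal_flat hR' hQ hR _ _
        (locP_baseChange etLocal_flat hU' hU hQ φ.fU _ _ _ sq1.flip hfUg.2.1)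
        (locP_baseChange etLocal_flat hU' hU hR φ.fU _ _ _ sq2 hfUg.2.1),
      isUnivOpenMor_comp' hQ hR (univSp_of_isPullback _ sq1.flip hfUg.2.2)
        (univSp_of_isPullback _ sq2 hfUg.2.2),
      isAffineMor_comp (isAffineMor_of_isPullback sq1.flip hfUa)
        (isAffineMor_of_isPullback sq2 hfUa)⟩

end Groth.Agent.Lib.Helper14.AS
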