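import Groth.Agent.Lib.Helper14.GrpSep
import Groth.Agent.Lib.Helper14.AlgSpGpd3
import Groth.Agent.Lib.Helper14.AlgSpGpd5

universe u
set_option linter.style.haveILetI false
set_option linter.unusedSectionVars false
open CategoryTheory CategoryTheory.Limits AlgebraicGeometry Opposite Topology

namespace Groth.Agent.Lib.Helper14.AS
open AlgSp

variable {S : Scheme.{u}}

set_option backward.isDefEq.respectTransparency.types false in
/-- A field point of a decent algebraic space `X` with a morphism `π : X ⟶ h_{Spec k}`, whose
field is integral over `k`, is a closed point. -/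
theorem isClosed_point_of_integral_over_field {X : Sp S} (hX : IsAlgSpace X)
    (hd : IsDecent X) {k : Type u} [Field k] (σ : Spec (CommRingCat.of k) ⟶ S)
    (π : X ⟶ (yon S).obj (Over.mk σ)) (q : FieldPt X) (ψ : q.pt ⟶ Over.mk σ)
    (hψ : q.toHom ≫ π = (yon S).map ψ) (hint : IsIntegralHom ψ.left) :
    IsClosed ({Points.mk q} : Set (Points X)) := by
  obtain ⟨U, a, hae, has⟩ := hX.atlas
  obtain ⟨g, hg⟩ := (yon S).map_surjective (a ≫ π)
  rw [← (isQuotientMap_ofPt a hae has).isClosed_preimage]
  apply isClosed_of_locally_finite_of_closed_points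
  · intro u hu
    have sq := hae.rep.isPullback' q.toHom
    obtain ⟨hr, hdisc⟩ := fibre_chart_of_mono a hae q
    rw [← hr] at hu
    obtain ⟨τ, rfl⟩ := hu
    have hsnd_et : Etale (hae.rep.snd q.toHom).left := hae.property_snd _
    have hfield : ∀ w : ↥(hae.rep.pullback q.toHom).left,
        IsField ((hae.rep.pullback q.toHom).left.presheaf.stalk w) := fun w =>
      isField_stalk_of_unramified (hae.rep.snd q.toHom).left w (isField_stalk_Spec_field q.K _)
    have hoi : IsOpenImmersion ((hae.rep.pullback q.toHom).left.fromSpecResidueField τ) :=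
      isOpenImmersion_of_mono_of_discrete _ hfield
    have hfinC : Finite ↥(Spec (CommRingCat.of
        ↑((hae.rep.pullback q.toHom).left.residueField τ))) := inferInstance
    have hfin : IsFinite ((hae.rep.pullback q.toHom).left.fromSpecResidueField τ ≫
        (hae.rep.snd q.toHom).left) :=
      isFinite_of_etale_of_finite_carrier (K := q.K)
        (R := Spec (CommRingCat.of ↑((hae.rep.pullback q.toHom).left.residueField τ))) _
    have hw : hae.rep.fst' q.toHom ≫ g = hae.rep.snd q.toHom ≫ ψ := by
      apply (yon S).map_injective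
      rw [Functor.map_comp, Functor.map_comp, hg, ← hψ, ← Category.assoc, sq.w, Category.assoc]
    have hcomp : ((hae.rep.pullback q.toHom).left.fromSpecResidueField τ ≫
        (hae.rep.fst' q.toHom).left) ≫ g.left =
        ((hae.rep.pullback q.toHom).left.fromSpecResidueField τ ≫ (hae.rep.snd q.toHom).left) ≫
          ψ.left := by
      rw [Category.assoc, Category.assoc, ← Over.comp_left, ← Over.comp_left, hw]
    have huc : UniversallyClosed
        (((hae.rep.pullback q.toHom).left.fromSpecResidueField τ ≫
          (hae.rep.fst' q.toHom).left) ≫ g.left) := by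
      rw [hcomp]; infer_instance
    have := isClosed_image_of_universallyClosed_comp
      (L := ↑((hae.rep.pullback q.toHom).left.residueField τ)) g.left
      ((hae.rep.pullback q.toHom).left.fromSpecResidueField τ ≫ (hae.rep.fst' q.toHom).left)
      (IsLocalRing.closedPoint _)
    rw [Scheme.Hom.comp_apply, Scheme.fromSpecResidueField_apply] at this
    exact this
  · intro N hN
    obtain ⟨pt, hpt, -, hqc⟩ := hd (Points.mk q)
    rw [← hpt]
    exact fibre_chart_finite_inter a hae pt hqc N hN.isCompact


set_option backward.isDefEq.respectTransparency.types false in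
/-- a section of a morphism to the spectrum of a field, out of a decent algebraic space, is a
closed immersion -/
theorem repWith_isClosedImmersion_section_over_field {X : Sp S} (hX : IsAlgSpace X)
    (hd : IsDecent X) {k : Type u} [Field k] (σ : Spec (CommRingCat.of k) ⟶ S)
    (π : X ⟶ (yon S).obj (Over.mk σ)) (e : (yon S).obj (Over.mk σ) ⟶ X) (he : e ≫ π = 𝟙 _) :
    RepWith @IsClosedImmersion e := by
  let q : FieldPt X := ⟨k, σ, (J S).uliftYonedaEquiv e⟩
  have hq : q.toHom = e := Equiv.symm_apply_apply _ _
  have hm : Mono e := by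
    refine ⟨fun {Z} a b hab => ?_⟩
    have := congrArg (· ≫ π) hab
    simp only [Category.assoc] at this
    rw [he] at this
    simpa using this
  rw [← hq] at hm ⊢
  obtain ⟨pt, hpt, hptm, hqc⟩ := hd (Points.mk q)
  have hqc' : RepWith @QuasiCompact q.toHom := repWith_quasiCompact_of_mk_eq pt q hptm hqc hpt.symm
  refine repWith_isClosedImmersion_of_isClosed_point hX q hm hqc' ?_
  refine isClosed_point_of_integral_over_field hX hd σ π q (𝟙 _) ?_ ?_
  · rw [hq, he]; exact ((yon S).map_id _).symm
  · change IsIntegralHom (𝟙 (Spec (CommRingCat.of k)))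
    infer_instance

/-- the relative diagonal over a subterminal base from the absolute one -/
theorem repWith_diagonal_of_diag_subterminal (P : MorphismProperty Scheme.{u})
    [P.IsStableUnderBaseChange]
    {X T : Sp S} (f : X ⟶ T)
    (hT : ∀ {Z : Sp S} (a b : Z ⟶ T), a = b) (h : RepWith P (Limits.diag X)) :
    RepWith P (pullback.diagonal f) := by
  have hiso : IsIso (prod.lift (pullback.fst f f) (pullback.snd f f)) :=
    ⟨pullback.lift prod.fst prod.snd (hT _ _), by
      apply pullback.hom_ext
      · rw [Category.assoc, pullback.lift_fst, prod.lift_fst, Category.id_comp]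
      · rw [Category.assoc, pullback.lift_snd, prod.lift_snd, Category.id_comp], by
      apply Limits.prod.hom_ext
      · rw [Category.assoc, prod.lift_fst, pullback.lift_fst, Category.id_comp]
      · rw [Category.assoc, prod.lift_snd, pullback.lift_snd, Category.id_comp]⟩
  have : Limits.diag X = pullback.diagonal f ≫ prod.lift (pullback.fst f f) (pullback.snd f f) := by
    apply Limits.prod.hom_ext <;> simp [Limits.diag]
  rw [this] at h
  exact (MorphismProperty.cancel_right_of_respectsIso (RepWith P) _ _).1 h

set_option backward.isDefEq.respectTransparency.types false in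
/-- the source of a separated morphism to a separated space is separated -/
theorem isSeparatedSp_of_isSeparatedMor {X Y : Sp S} (f : X ⟶ Y) (hf : IsSeparatedMor f)
    (hY : IsSeparatedSp Y) : IsSeparatedSp X := by
  have hT : ∀ {Z : Sp S} (a b : Z ⟶ ⊤_ (Sp S)), a = b := fun a b => Subsingleton.elim a b
  have h1 : RepWith @IsClosedImmersion (pullback.diagonal (terminal.from Y)) :=
    repWith_diagonal_of_diag_subterminal _ _ hT hY
  have h2 := repWith_diagonal_comp @IsClosedImmersion f (terminal.from Y) hf h1
  exact repWith_diag_of_diagonal_subterminal _ (f ≫ terminal.from Y) hT h2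

set_option backward.isDefEq.respectTransparency.types false in
/-- S10128 -/
theorem gpd_isSeparatedSp_R_of_field_of_isDecent (B : AlgSp.Sp S) (hB : AlgSp.IsAlgSpace B)
    (G : AlgSp.GroupoidSp B) (hR : AlgSp.IsAlgSpace G.R) (k : Type u) [Field k]
    (σ : Spec (CommRingCat.of k) ⟶ S) (eU : G.U ≅ (AlgSp.yon S).obj (Over.mk σ))
    (hd : AlgSp.IsDecent G.R) : AlgSp.IsSeparatedSp G.R := by
  have hU : IsAlgSpace G.U := (IsAlgSpace.yon_obj _).of_iso eU.symm
  have hUd : IsDecent G.U := (isDecent_yon _).of_iso eU.symm
  have hUU : IsAlgSpace (pullback G.pU G.pU) :=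
    isAlgSpace_of_isPullback (repDiag_of_isAlgSpace hB) hU hU (IsPullback.of_hasPullback _ _)
  have hGs : IsAlgSpace G.stabilizer :=
    isAlgSpace_of_isPullback (repDiag_of_isAlgSpace hUU) hR hU (IsPullback.of_hasPullback G.j G.diag)
  have hGd : IsDecent G.stabilizer :=
    isDecent_of_isPullback hUU (IsPullback.of_hasPullback G.j G.diag) hd hUd
  -- the unit section of the stabilizer
  let eG : G.U ⟶ G.stabilizer := pullback.lift G.e (𝟙 G.U) (by rw [gpd_e_j, Category.id_comp])
  have heG : eG ≫ G.stabilizerι = G.e := pullback.lift_fst _ _ _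
  have heG2 : eG ≫ G.stabilizerToU = 𝟙 G.U := pullback.lift_snd _ _ _
  have hcl : RepWith @IsClosedImmersion (eU.inv ≫ eG) :=
    repWith_isClosedImmersion_section_over_field hGs hGd σ (G.stabilizerToU ≫ eU.hom)
      (eU.inv ≫ eG) (by rw [Category.assoc, ← Category.assoc eG, heG2, Category.id_comp,
        eU.inv_hom_id])
  have hcl' : RepWith @IsClosedImmersion eG :=
    (MorphismProperty.cancel_left_of_respectsIso (RepWith @IsClosedImmersion) eU.inv eG).1 hcl
  have hj : IsSeparatedMor G.j := ((gpd_separated_iff G hB hU hR eG heG).1.2).2 hcl'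
  -- `U` is separated
  have hσ : IsSeparated σ := isSeparated_of_isAffine σ
  have hUs' : IsSeparatedSp ((yon S).obj (Over.mk σ)) :=
    (repWith_diag_yon_iff @IsClosedImmersion (Over.mk σ)).2 hσ.diagonal_isClosedImmersion
  have hUs : IsSeparatedSp G.U := repWith_diag_of_mono _ eU.hom hUs'
  have hTs : IsSeparatedSp (pullback G.pU G.pU) :=
    repWith_diag_of_isPullback _ (IsPullback.of_hasPullback G.pU G.pU) hUs hUs
  exact isSeparatedSp_of_isSeparatedMor G.j hj hTs

end Groth.Agent.Lib.Helper14.AS
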