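import Groth.Agent.Lib.Helper14.AlgSpGrp1
import Groth.Agent.Lib.Helper14.AlgSpDiag3
import Groth.Agent.Lib.Helper14.AlgSpQCMor
universe u
open CategoryTheory CategoryTheory.Limits AlgebraicGeometry MonoidalCategory CartesianMonoidalCategory MonObj
namespace Groth.Agent.Lib.Helper14.AS
variable {S : Scheme.{u}}
open AlgSp Groth.Agent.Lib.Helper14.AS

/-- The diagonal of a group object is the base change of the unit along `(g, h) ↦ g⁻¹ h`. -/
theorem grpObj_isPullback_diag {C : Type*} [Category C] [CartesianMonoidalCategory C] (G : C) [GrpObj G] :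
    IsPullback (lift (𝟙 G) (𝟙 G)) (toUnit G) ((fst G G)⁻¹ * snd G G) η[G] := by
  have e : ∀ {T : C} (w : T ⟶ G ⊗ G), w ≫ ((fst G G)⁻¹ * snd G G) = (w ≫ fst G G)⁻¹ * (w ≫ snd G G) := by
    intro T w
    rw [MonObj.comp_mul, GrpObj.comp_inv]
  refine isPullback_of_exists_unique ?_ ?_ ?_
  · rw [e, lift_fst, lift_snd, inv_mul_cancel, Hom.one_def]
  · intro T x y hxy
    have h1 : (x ≫ fst G G)⁻¹ * (x ≫ snd G G) = 1 := by
      rw [← e, hxy, Hom.one_def]
      congr 1
      exact toUnit_unique _ _
    have h2 : x ≫ fst G G = x ≫ snd G G := by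
      rw [inv_mul_eq_one] at h1
      exact h1
    refine ⟨x ≫ fst G G, ?_, toUnit_unique _ _⟩
    apply CartesianMonoidalCategory.hom_ext
    · simp
    · simp [h2]
  · intro T z z' h _
    have := congrArg (· ≫ fst G G) h
    simpa using this

theorem grpObj_isPullback_diag_left {B : Sp S} (G : Over B) [GrpObj G] :
    IsPullback (pullback.diagonal G.hom) G.hom ((fst G G)⁻¹ * snd G G).left (η[G]).left := by
  have := (grpObj_isPullback_diag G).map (Over.forget B)
  simp at this
  exact this

end Groth.Agent.Lib.Helper14.AS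

namespace Groth.Agent.Lib.Helper14.AS
variable {S : Scheme.{u}}
open AlgSp Groth.Agent.Lib.Helper14.AS

theorem grp_unit_section {B : Sp S} (G : Over B) [GrpObj G] : (η[G]).left ≫ G.hom = 𝟙 B := by
  have := Over.w η[G]
  simpa using this

theorem grp_separated_iff (B : AlgSp.Sp S)
    (G : Over B) [GrpObj G] (hG : AlgSp.IsAlgSpace G.left) :
    (AlgSp.IsSeparatedMor G.hom ↔ AlgSp.RepWith @IsClosedImmersion (η[G]).left) ∧
      (AlgSp.IsQuasiSeparatedMor G.hom ↔ AlgSp.IsQuasiCompactMor (η[G]).left) ∧
      (AlgSp.IsLocallySeparatedMor G.hom → AlgSp.RepWith @IsImmersion (η[G]).left) := by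
  have sq := grpObj_isPullback_diag_left G
  have hs := grp_unit_section G
  have hrep : Representable (η[G]).left :=
    representable_section G.hom _ hs (representable_diagonal G.hom hG.diag)
  refine ⟨⟨fun h => repWith_section _ G.hom _ hs h, fun h => repWith_of_isPullback _ sq.flip h⟩,
    ⟨fun h => isQuasiCompactMor_of_repWith (repWith_section _ G.hom _ hs h), fun h => ?_⟩,
    fun h => repWith_section _ G.hom _ hs h⟩
  exact repWith_of_isPullback _ sq.flip (repWith_quasiCompact_of_isQuasiCompactMor hrep h)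

end Groth.Agent.Lib.Helper14.AS
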