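import Groth.Agent.Lib.Helper14.WhereUI
import Groth.Agent.Lib.Helper14.AlgSpGrp2

universe u
set_option linter.style.haveILetI false
set_option linter.unusedSectionVars false
open CategoryTheory CategoryTheory.Limits AlgebraicGeometry Opposite Topology MonoidalCategory
  CartesianMonoidalCategory MonObj

namespace Groth.Agent.Lib.Helper14.AS
open AlgSp

variable {S : Scheme.{u}}

/-- scheme-level base change compatibility of a "near" property, for lft morphisms -/
def NearBC (P : MorphismProperty Scheme.{u}) : Prop :=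
  ∀ ⦃U V U' V' : Scheme.{u}⦄ (h : U ⟶ V) (_ : LocallyOfFiniteType h) (β : V' ⟶ V) (α : U' ⟶ U)
    (h' : U' ⟶ V') (_ : IsPullback α h' h β) (u' : ↥U'),
    Near P U' V' h' u' ↔ Near P U V h (α u')

theorem nearBC_lft_fu : NearBC (@LocallyOfFiniteType.{u} ⊓ @FormallyUnramified) := by
  intro U V U' V' h hh β α h' sq u'
  haveI := hh
  haveI : LocallyOfFiniteType h' := MorphismProperty.of_isPullback (P := @LocallyOfFiniteType) sq hh
  rw [near_lft_fu_iff, near_lft_fu_iff]
  exact near_fu_baseChange h β α h' sq u'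

theorem near_lqf_lft_iff {U V : Scheme.{u}} (h : U ⟶ V) [LocallyOfFiniteType h] (u : ↥U) :
    Near (@LocallyQuasiFinite ⊓ @LocallyOfFiniteType) U V h u ↔ FlatMor.fibreDimAt h u ≤ 0 := by
  constructor
  · rintro ⟨W, hW, h1, h2⟩
    exact le_of_eq (fibreDimAt_eq_zero_of_opens_lqf h W u hW h1 h2)
  · intro hu
    obtain ⟨W, hW, h1, h2⟩ := exists_opens_lqf_of_fibreDimAt_le_zero h u hu
    exact ⟨W, hW, h1, h2⟩

theorem nearBC_lqf_lft : NearBC (@LocallyQuasiFinite.{u} ⊓ @LocallyOfFiniteType) := by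
  intro U V U' V' h hh β α h' sq u'
  haveI := hh
  haveI : LocallyOfFiniteType h' := MorphismProperty.of_isPullback (P := @LocallyOfFiniteType) sq hh
  rw [near_lqf_lft_iff, near_lqf_lft_iff,
    Groth.Agent.Lib.Helper21.BaseChg.fibreDimAt_eq_of_isPullback sq u']

set_option backward.isDefEq.respectTransparency.types false in
theorem hasAtMor_near_baseChange_iff {P : MorphismProperty Scheme.{u}} (hP : EtLocal P)
    (hbc : NearBC P) {X Y Y' X' : Sp S} (hX : IsAlgSpace X)
    (hY : IsAlgSpace Y) (hY' : IsAlgSpace Y') (f : X ⟶ Y) (g : Y' ⟶ Y) (g' : X' ⟶ X)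
    (f' : X' ⟶ Y') (sq : IsPullback g' f' f g) (hf : LocP @LocallyOfFiniteType f)
    (x' : Points X') :
    HasAtMor (Near P) f' x' ↔ HasAtMor (Near P) f (Points.map g' x') := by
  obtain ⟨U, V, U', V', a, b, a', b', h, h', α, β, hae, has, hbe, hbs, ha'e, ha's, hb'e, hb's, comm,
    comm', ca, cb, sqS⟩ := exists_bc_chart hX hY hY' f g g' f' sq
  obtain ⟨u', rfl⟩ := ofPt_surjective_of_repWith ha's x'
  have hlft : LocallyOfFiniteType h.left := hf a b h hae hbe comm
  have e1 : Points.map g' (Points.ofPt a' u') = Points.ofPt a (α.left u') := by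
    rw [Points.map_ofPt, ca, ofPt_yon_map_comp]
  have sqL : IsPullback α.left h'.left h.left β.left := sqS.map (Over.forget S)
  rw [e1, hasAtMor_ofPt_iff (etSqInv_near hP) f a b h hae hbe comm (α.left u'),
    hasAtMor_ofPt_iff (etSqInv_near hP) f' a' b' h' ha'e hb'e comm' u']
  exact hbc h.left hlft β.left α.left h'.left sqL u'

set_option backward.isDefEq.respectTransparency.types false in
theorem isEtaleMor_of_isIso {F G : Sp S} (j : F ⟶ G) [IsIso j] : IsEtaleMor j :=
  fun _ _ hφ => repWith_comp _ hφ (repWith_of_isIso _ j)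


section Transl

theorem isPullback_fst_snd_cart {C : Type*} [Category C] [CartesianMonoidalCategory C] (X Y : C) :
    IsPullback (fst X Y) (snd X Y) (toUnit X) (toUnit Y) := by
  refine isPullback_of_exists_unique (toUnit_unique _ _) ?_ ?_
  · intro T x y _
    exact ⟨lift x y, lift_fst _ _, lift_snd _ _⟩
  · intro T z z' h1 h2
    exact CartesianMonoidalCategory.hom_ext _ _ h1 h2

variable {B : Sp S}

theorem isPullback_fst_snd_left (X Y : Over B) :
    IsPullback (fst X Y).left (snd X Y).left X.hom Y.hom := by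
  have := (isPullback_fst_snd_cart X Y).map (Over.forget B)
  simpa using this

variable (G : Over B) [GrpObj G]

/-- translation of `G ⊗ X` by a section `g : X ⟶ G` -/
noncomputable def transl {X : Over B} (g : X ⟶ G) : G ⊗ X ⟶ G ⊗ X :=
  lift ((snd G X ≫ g) * fst G X) (snd G X)

theorem transl_snd {X : Over B} (g : X ⟶ G) : transl G g ≫ snd G X = snd G X := lift_snd _ _

theorem transl_fst {X : Over B} (g : X ⟶ G) :
    transl G g ≫ fst G X = (snd G X ≫ g) * fst G X := lift_fst _ _

theorem transl_comp {X : Over B} (g g' : X ⟶ G) :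
    transl G g ≫ transl G g' = transl G (g' * g) := by
  apply CartesianMonoidalCategory.hom_ext
  · rw [Category.assoc, transl_fst, MonObj.comp_mul, ← Category.assoc, transl_snd, transl_fst,
      transl_fst, MonObj.comp_mul, _root_.mul_assoc]
  · rw [Category.assoc, transl_snd, transl_snd, transl_snd]

theorem transl_one {X : Over B} : transl G (1 : X ⟶ G) = 𝟙 _ := by
  apply CartesianMonoidalCategory.hom_ext
  · rw [transl_fst, MonObj.comp_one, _root_.one_mul, Category.id_comp]
  · rw [transl_snd, Category.id_comp]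

instance isIso_transl {X : Over B} (g : X ⟶ G) : IsIso (transl G g) :=
  ⟨transl G g⁻¹, by rw [transl_comp, inv_mul_cancel, transl_one],
    by rw [transl_comp, mul_inv_cancel, transl_one]⟩

end Transl


set_option backward.isDefEq.respectTransparency.types false in
theorem grp_hasAtMor_iff_unit {P : MorphismProperty Scheme.{u}} (hP : EtLocal P) (hbc : NearBC P)
    {B : Sp S} (hB : IsAlgSpace B) (G : Over B) [GrpObj G] (hG : IsAlgSpace G.left)
    (hlft : LocP @LocallyOfFiniteType G.hom) (x : Points G.left) :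
    HasAtMor (Near P) G.hom x ↔
      HasAtMor (Near P) G.hom (Points.map (η[G]).left (Points.map G.hom x)) := by
  obtain ⟨K, _, str, g₀, hg₀⟩ := exists_fieldHom_of_point x
  obtain ⟨s⟩ : Nonempty ↥(Spec (CommRingCat.of K)) := inferInstance
  obtain ⟨X, hX⟩ : ∃ X : Over B, X = Over.mk (g₀ ≫ G.hom) := ⟨_, rfl⟩
  obtain ⟨g, hg⟩ : ∃ g : Over.mk (g₀ ≫ G.hom) ⟶ G, g.left = g₀ := ⟨Over.homMk g₀ rfl, rfl⟩
  subst hX
  have sq := isPullback_fst_snd_left G (Over.mk (g₀ ≫ G.hom))
  have hT : IsAlgSpace (Over.mk (g₀ ≫ G.hom)).left := IsAlgSpace.yon_obj _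
  have hGX : IsAlgSpace (G ⊗ Over.mk (g₀ ≫ G.hom)).left :=
    isAlgSpace_of_isPullback (repDiag_of_isAlgSpace hB) hG hT sq
  have bc : ∀ y, HasAtMor (Near P) (snd G (Over.mk (g₀ ≫ G.hom))).left y ↔
      HasAtMor (Near P) G.hom (Points.map (fst G (Over.mk (g₀ ≫ G.hom))).left y) := fun y =>
    hasAtMor_near_baseChange_iff hP hbc hG hB hT G.hom (Over.mk (g₀ ≫ G.hom)).hom
      (fst G _).left (snd G _).left sq hlft y
  haveI : IsIso (transl G g).left :=
    inferInstanceAs (IsIso ((Over.forget B).map (transl G g)))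
  have hτ : ∀ y, HasAtMor (Near P) (snd G (Over.mk (g₀ ≫ G.hom))).left
      (Points.map (transl G g).left y) ↔
      HasAtMor (Near P) (snd G (Over.mk (g₀ ≫ G.hom))).left y := by
    intro y
    rw [← hasAtMor_comp_isEtaleMor_iff (etSqInv_near hP) hGX hT (transl G g).left
      (isEtaleMor_of_isIso _) (snd G _).left y, ← Over.comp_left, transl_snd]
  have hεγ : lift (1 : Over.mk (g₀ ≫ G.hom) ⟶ G) (𝟙 _) ≫ transl G g = lift g (𝟙 _) := by
    apply CartesianMonoidalCategory.hom_ext
    · rw [Category.assoc, transl_fst, MonObj.comp_mul, ← Category.assoc, lift_snd, lift_fst,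
        Category.id_comp, _root_.mul_one, lift_fst]
    · rw [Category.assoc, transl_snd, lift_snd, lift_snd]
  have h1 : Points.map (fst G (Over.mk (g₀ ≫ G.hom))).left
      (Points.ofPt (lift g (𝟙 _)).left s) = x := by
    rw [Points.map_ofPt, ← Over.comp_left, lift_fst, hg]
    exact hg₀ s
  have h2 : Points.map (fst G (Over.mk (g₀ ≫ G.hom))).left
      (Points.ofPt (lift (1 : Over.mk (g₀ ≫ G.hom) ⟶ G) (𝟙 _)).left s) =
      Points.map (η[G]).left (Points.map G.hom x) := by
    rw [Points.map_ofPt, ← Over.comp_left, lift_fst, Hom.one_def, Over.comp_left, ← hg₀ s,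
      Points.map_ofPt, Points.map_ofPt]
    congr 1
  have h3 : Points.map (transl G g).left
      (Points.ofPt (lift (1 : Over.mk (g₀ ≫ G.hom) ⟶ G) (𝟙 _)).left s) =
      Points.ofPt (lift g (𝟙 _)).left s := by
    rw [Points.map_ofPt, ← Over.comp_left, hεγ]
  have k1 : HasAtMor (Near P) G.hom x ↔ HasAtMor (Near P) (snd G (Over.mk (g₀ ≫ G.hom))).left
      (Points.ofPt (lift g (𝟙 _)).left s) := by rw [bc, h1]
  have k2 : HasAtMor (Near P) (snd G (Over.mk (g₀ ≫ G.hom))).left
      (Points.ofPt (lift g (𝟙 _)).left s) ↔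
      HasAtMor (Near P) (snd G (Over.mk (g₀ ≫ G.hom))).left
      (Points.ofPt (lift (1 : Over.mk (g₀ ≫ G.hom) ⟶ G) (𝟙 _)).left s) := by rw [← h3, hτ]
  have k3 : HasAtMor (Near P) (snd G (Over.mk (g₀ ≫ G.hom))).left
      (Points.ofPt (lift (1 : Over.mk (g₀ ≫ G.hom) ⟶ G) (𝟙 _)).left s) ↔
      HasAtMor (Near P) G.hom (Points.map (η[G]).left (Points.map G.hom x)) := by rw [bc, h2]
  exact k1.trans (k2.trans k3)


set_option backward.isDefEq.respectTransparency.types false in
theorem grp_locP_iff_unit {P : MorphismProperty Scheme.{u}} [IsZariskiLocalAtSource P]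
    (hP : EtLocal P) (hbc : NearBC P)
    {B : Sp S} (hB : IsAlgSpace B) (G : Over B) [GrpObj G] (hG : IsAlgSpace G.left)
    (hlft : LocP @LocallyOfFiniteType G.hom) :
    LocP P G.hom ↔ ∀ b : Points B, HasAtMor (Near P) G.hom (Points.map (η[G]).left b) := by
  constructor
  · intro h b
    exact hasAtMor_near_of_locP hP hG hB G.hom h _
  · intro H
    exact locP_of_forall_hasAtMor_near hP G.hom fun x =>
      (grp_hasAtMor_iff_unit hP hbc hB G hG hlft x).2 (H _)

set_option backward.isDefEq.respectTransparency.types false in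
/-- Claim A: the property for a base change of a group space is read off on the base -/
theorem grp_locP_baseChange_iff {P : MorphismProperty Scheme.{u}} [IsZariskiLocalAtSource P]
    (hP : EtLocal P) (hbc : NearBC P)
    {B : Sp S} (hB : IsAlgSpace B) (G : Over B) [GrpObj G] (hG : IsAlgSpace G.left)
    (hlft : LocP @LocallyOfFiniteType G.hom) {B₁ G₁ : Sp S} (hB₁ : IsAlgSpace B₁) (h : B₁ ⟶ B)
    (fst₁ : G₁ ⟶ G.left) (snd₁ : G₁ ⟶ B₁) (sq : IsPullback fst₁ snd₁ G.hom h) :
    LocP P snd₁ ↔ ∀ b₁ : Points B₁, Points.map h b₁ ∈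
      Points.map (η[G]).left ⁻¹' {x | HasAtMor (Near P) G.hom x} := by
  have hG₁ : IsAlgSpace G₁ := isAlgSpace_of_isPullback (repDiag_of_isAlgSpace hB) hG hB₁ sq
  have key : ∀ x₁ : Points G₁, HasAtMor (Near P) snd₁ x₁ ↔
      Points.map h (Points.map snd₁ x₁) ∈
        Points.map (η[G]).left ⁻¹' {x | HasAtMor (Near P) G.hom x} := by
    intro x₁
    rw [hasAtMor_near_baseChange_iff hP hbc hG hB hB₁ G.hom h fst₁ snd₁ sq hlft x₁,
      grp_hasAtMor_iff_unit hP hbc hB G hG hlft, ← Points.map_comp fst₁ G.hom, sq.w,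
      Points.map_comp]
    rfl
  constructor
  · intro hl b₁
    have hs := grp_unit_section G
    obtain ⟨x₁, -, hx₁⟩ := points_exists_of_isPullback sq
      (Points.map (η[G]).left (Points.map h b₁)) b₁ (by
        rw [← Points.map_comp, hs]; exact Points.map_id _)
    rw [← hx₁]
    exact (key x₁).1 (hasAtMor_near_of_locP hP hG₁ hB₁ snd₁ hl x₁)
  · intro H
    exact locP_of_forall_hasAtMor_near hP snd₁ fun x₁ => (key x₁).2 (H _)


set_option backward.isDefEq.respectTransparency.types false in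
theorem grp_largest_open {P : MorphismProperty Scheme.{u}} [IsZariskiLocalAtSource P]
    (hP : EtLocal P) (hbc : NearBC P)
    (B : Sp S) (hB : IsAlgSpace B) (G : Over B) [GrpObj G] (hG : IsAlgSpace G.left)
    (hlft : LocP @LocallyOfFiniteType G.hom) :
    ∃ (W : Sp S) (w : W ⟶ B), RepWith @IsOpenImmersion w ∧
      (∀ (W' : Sp S) (w' : W' ⟶ B), RepWith @IsOpenImmersion w' →
        (LocP P (pullback.snd G.hom w') ↔ ∃ k : W' ⟶ W, k ≫ w = w')) ∧
      (∀ (B' : Sp S), IsAlgSpace B' → ∀ (f : B' ⟶ B) (W'' : Sp S) (w'' : W'' ⟶ B'),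
        RepWith @IsOpenImmersion w'' →
        (LocP P (pullback.snd (pullback.snd G.hom f) w'') ↔
          ∃ k : W'' ⟶ pullback w f, k ≫ pullback.snd w f = w'')) := by
  have hO : IsOpen {x : Points G.left | HasAtMor (Near P) G.hom x} :=
    isOpen_hasAtMor_near hP hG hB G.hom
  have hE := hO.preimage (Points.continuous_map (η[G]).left)
  obtain ⟨W, w, hw, hwr⟩ :=
    Groth.Agent.Lib.Helper8.AlgSpOpenSub.exists_openSubspace ⟨B, hB⟩ _ hE
  refine ⟨W.obj, w.hom, hw, ?_, ?_⟩
  · intro W' w' hw'
    have hW' : IsAlgSpace W' := isAlgSpace_of_representable_to hB w' ((repWith_iff _ _).1 hw').1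
    rw [grp_locP_baseChange_iff hP hbc hB G hG hlft hW' w' _ _
      (IsPullback.of_hasPullback G.hom w')]
    constructor
    · intro H
      exact Groth.Agent.Lib.Helper8.AlgSpOpen.exists_factor_of_range_subset w.hom hw w'
        (by rintro _ ⟨b', rfl⟩; rw [hwr]; exact H b')
    · rintro ⟨k, rfl⟩ b'
      have : Points.map (k ≫ w.hom) b' ∈ Set.range (Points.map w.hom) :=
        ⟨Points.map k b', (Points.map_comp _ _ _).symm⟩
      rw [hwr] at this
      exact this
  · intro B' hB' f W'' w'' hw''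
    have hW'' : IsAlgSpace W'' :=
      isAlgSpace_of_representable_to hB' w'' ((repWith_iff _ _).1 hw'').1
    have sq1 := IsPullback.of_hasPullback G.hom f
    have sq2 := IsPullback.of_hasPullback (pullback.snd G.hom f) w''
    have big := sq2.paste_horiz sq1
    rw [grp_locP_baseChange_iff hP hbc hB G hG hlft hW'' (w'' ≫ f) _ _ big]
    have sqw := IsPullback.of_hasPullback w.hom f
    have hwf : RepWith @IsOpenImmersion (pullback.snd w.hom f) := repWith_of_isPullback _ sqw hw
    have hrange : ∀ b' : Points B', b' ∈ Set.range (Points.map (pullback.snd w.hom f)) ↔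
        Points.map f b' ∈ Points.map (η[G]).left ⁻¹' {x | HasAtMor (Near P) G.hom x} := by
      intro b'
      rw [← hwr]
      constructor
      · rintro ⟨z, rfl⟩
        exact ⟨Points.map (pullback.fst w.hom f) z, by
          rw [← Points.map_comp, ← Points.map_comp, pullback.condition]⟩
      · rintro ⟨z, hz⟩
        obtain ⟨y, -, hy⟩ := points_exists_of_isPullback sqw z b' hz
        exact ⟨y, hy⟩
    constructor
    · intro H
      exact Groth.Agent.Lib.Helper8.AlgSpOpen.exists_factor_of_range_subset _ hwf w''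
        (by
          rintro _ ⟨b'', rfl⟩
          rw [hrange, ← Points.map_comp]
          exact H b'')
    · rintro ⟨k, rfl⟩ b''
      rw [Points.map_comp]
      exact (hrange _).1 ⟨Points.map k b'', (Points.map_comp _ _ _).symm⟩

end Groth.Agent.Lib.Helper14.AS
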