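import Groth.Agent.Lib.Helper14.AlgSpFibreEmb
import Groth.Agent.Lib.Helper14.FppfLocalInst2

open CategoryTheory CategoryTheory.Limits AlgebraicGeometry Opposite AlgSp Topology
open CategoryTheory.Functor Groth.Agent.Lib.Helper14.AS

universe u

noncomputable section

namespace Groth.Agent.Lib.Helper14.AS

variable {S : Scheme.{u}}

set_option backward.isDefEq.respectTransparency.types false in
/-- A quasi-compact monomorphic point whose class is a closed point is a closed immersion. -/
theorem repWith_isClosedImmersion_of_isClosed_point {X : Sp S} (hX : IsAlgSpace X) (p : FieldPt X)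
    (hm : Mono p.toHom) (hq : RepWith @QuasiCompact p.toHom)
    (hx : IsClosed ({Points.mk p} : Set (Points X))) : RepWith @IsClosedImmersion p.toHom := by
  obtain ⟨U, a, hae, has⟩ := hX.atlas
  have hrep : Representable p.toHom := repDiag_of_isAlgSpace hX _
  have sq := hae.rep.isPullback' p.toHom
  have hls : Sheaf.IsLocallySurjective a :=
    isLocallySurjective_of_repWith a (repWith_mono etale_le_flat hae)
      (repWith_mono etale_le_lfp hae) has
  rw [repWith_iff_of_chart hrep a sq.flip @IsClosedImmersion]
  have hpre : IsPreimmersion (hae.rep.fst' p.toHom).left :=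
    isPreimmersion_fibre_chart hX p hm hq a hae
  refine IsClosedImmersion.of_isPreimmersion _ ?_
  rw [(fibre_chart_of_mono a hae p).1]
  exact hx.preimage (Points.continuous_ofPt a)

/-- On a decent algebraic space every closed point is represented by a closed immersion from the
spectrum of a field. -/
theorem exists_closedImmersion_fieldPt_of_isClosed {X : Sp S} (hX : IsAlgSpace X)
    (hd : IsDecent X) (x : Points X) (hx : IsClosed ({x} : Set (Points X))) :
    ∃ p : FieldPt X, Points.mk p = x ∧ RepWith @IsClosedImmersion p.toHom := by
  obtain ⟨p, rfl, hm, hq⟩ := hd x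
  exact ⟨p, rfl, repWith_isClosedImmersion_of_isClosed_point hX p hm hq hx⟩

end Groth.Agent.Lib.Helper14.AS
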