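import Mathlib
import Groth.Agent.Lib.Helper14.SchemeDim

open CategoryTheory AlgebraicGeometry

universe u

namespace Groth.Agent.Lib.Helper14.AS

/-- Every nonempty locally closed subset of a scheme contains a locally closed point. -/
theorem exists_isLocallyClosed_singleton (X : Scheme.{u}) {Z : Set ↥X} (hne : Z.Nonempty)
    (hZ : IsLocallyClosed Z) : ∃ s ∈ Z, IsLocallyClosed ({s} : Set ↥X) := by
  obtain ⟨O, C, hO, hC, rfl⟩ := hZ
  obtain ⟨z, hzO, hzC⟩ := hne
  obtain ⟨V, hV, hzV, hVO⟩ :=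
    (X.isBasis_affineOpens).exists_subset_of_mem_open hzO hO
  obtain ⟨V, rfl⟩ : ∃ V' : X.Opens, (V' : Set ↥X) = V := by
    obtain ⟨V', hV', rfl⟩ := hV
    exact ⟨V', rfl⟩
  have hVa : IsAffineOpen V := by
    obtain ⟨V', hV', h⟩ := hV
    have : V' = V := SetLike.coe_injective h
    exact this ▸ hV'
  have : CompactSpace ↥V := isCompact_iff_compactSpace.1 hVa.isCompact
  obtain ⟨s, hs, hsc⟩ := IsClosed.exists_closed_singleton (X := ↥V)
    (S := Subtype.val ⁻¹' C) (hC.preimage continuous_subtype_val) ⟨⟨z, hzV⟩, hzC⟩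
  refine ⟨s.1, ⟨hVO s.2, hs⟩, ?_⟩
  have := hsc.isLocallyClosed.image (f := (Subtype.val : ↥V → ↥X))
    Topology.IsInducing.subtypeVal (by rw [Subtype.range_coe]; exact V.2.isLocallyClosed)
  simpa using this

/-- Jacobson descends along surjective flat locally quasi-finite morphisms. -/
theorem jacobsonSpace_of_flat_lqf_surjective {A B : Scheme.{u}} (f : A ⟶ B) [Flat f]
    [LocallyQuasiFinite f] [Surjective f] [JacobsonSpace ↥A] : JacobsonSpace ↥B := by
  rw [jacobsonSpace_iff_locallyClosed]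
  intro Z hne hZ
  obtain ⟨s, hsZ, hs⟩ := exists_isLocallyClosed_singleton B hne hZ
  refine ⟨s, hsZ, ?_⟩
  change IsClosed {s}
  rw [← closure_eq_iff_isClosed]
  refine subset_antisymm ?_ subset_closure
  intro t ht
  have hst : s ⤳ t := specializes_iff_mem_closure.2 ht
  obtain ⟨t', rfl⟩ := f.surjective t
  obtain ⟨s'', hs''t, hs''⟩ := Flat.generalizingMap f hst
  -- `{s''}` is locally closed in `A`
  have hd := f.isDiscrete_preimage_singleton s
  have : DiscreteTopology ↥(f ⁻¹' {s}) := hd.to_subtype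
  have hop : IsOpen ({⟨s'', hs''⟩} : Set ↥(f ⁻¹' {s})) := isOpen_discrete _
  obtain ⟨O, hO, hOe⟩ := isOpen_induced_iff.1 hop
  have hs''O : s'' ∈ O := by
    have : (⟨s'', hs''⟩ : ↥(f ⁻¹' {s})) ∈ Subtype.val ⁻¹' O := by rw [hOe]; rfl
    exact this
  have hlc : IsLocallyClosed ({s''} : Set ↥A) := by
    have h1 : IsLocallyClosed (f ⁻¹' {s}) := hs.preimage f.continuous
    have h2 : IsLocallyClosed (f ⁻¹' {s} ∩ O) := h1.inter hO.isLocallyClosed
    have h3 : f ⁻¹' {s} ∩ O = {s''} := by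
      ext y
      constructor
      · rintro ⟨hy1, hy2⟩
        have : (⟨y, hy1⟩ : ↥(f ⁻¹' {s})) ∈ Subtype.val ⁻¹' O := hy2
        rw [hOe] at this
        exact congrArg Subtype.val this
      · rintro rfl
        exact ⟨hs'', hs''O⟩
    rwa [h3] at h2
  have hcl : IsClosed ({s''} : Set ↥A) := isClosed_singleton_of_isLocallyClosed_singleton hlc
  have : t' ∈ ({s''} : Set ↥A) := by
    have := hs''t.mem_closed hcl rfl
    exact this
  have : t' = s'' := this
  rw [this]
  exact hs''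

end Groth.Agent.Lib.Helper14.AS
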