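import Groth.Agent.Lib.Helper14.AlgSpFibrePt2
import Groth.Agent.Lib.Helper14.AlgSpLocP
import Groth.Agent.Lib.Helper14.SchemeJacobson
import Groth.Agent.Lib.Helper14.EtaleLQF

open CategoryTheory CategoryTheory.Limits AlgebraicGeometry Opposite AlgSp
open CategoryTheory.Functor Groth.Agent.Lib.Helper14.AS

universe u

noncomputable section

namespace Groth.Agent.Lib.Helper14.AS

variable {S : Scheme.{u}}

/-- A scheme locally of finite type over a Jacobson sheaf is Jacobson. -/
theorem jacobsonSpace_of_locP_lft {X : Sp S}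
    (hX : EtaleLocally (fun U => JacobsonSpace ↥U) X) {W : Over S} (g : (yon S).obj W ⟶ X)
    (hg : LocP @LocallyOfFiniteType g) : JacobsonSpace ↥W.left := by
  obtain ⟨U', p, hpe, hps, hU'⟩ := hX
  have sq := hpe.rep.isPullback' g
  have hsnd : Etale (hpe.rep.snd g).left := hpe.property_snd g
  have hsnds : Surjective (hpe.rep.snd g).left := hps.property _ _ _ sq
  have hfst : LocallyOfFiniteType (hpe.rep.fst' g).left :=
    hg ((yon S).map (hpe.rep.snd g)) p (hpe.rep.fst' g)
      ((repWith_yon_map_iff _ _).2 hsnd) hpe sq.w.symm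
  have : JacobsonSpace ↥U'.left := hU'
  have : JacobsonSpace ↥(hpe.rep.pullback g).left :=
    LocallyOfFiniteType.jacobsonSpace (hpe.rep.fst' g).left
  have : LocallyQuasiFinite (hpe.rep.snd g).left :=
    Groth.Agent.Lib.Helper14.AS.etale_locallyQuasiFinite _
  exact Groth.Agent.Lib.Helper14.AS.jacobsonSpace_of_flat_lqf_surjective (hpe.rep.snd g).left


/-- A scheme etale over a Jacobson sheaf is Jacobson. -/
theorem jacobsonSpace_of_etale_chart {X : Sp S}
    (hX : EtaleLocally (fun U => JacobsonSpace ↥U) X) {W : Over S} (g : (yon S).obj W ⟶ X)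
    (hg : RepWith @Etale g) : JacobsonSpace ↥W.left :=
  jacobsonSpace_of_locP_lft hX g (locP_of_repWith etale_le_lft (repWith_mono etale_le_lft hg))

/-- Over a finite type point of a Jacobson sheaf, a locally finite type morphism from a scheme
has a closed point in the fibre (if nonempty). -/
theorem exists_closed_point_over {X : Sp S}
    (hX : EtaleLocally (fun U => JacobsonSpace ↥U) X) (x : Points X)
    (hx : HasAt (fun U u => IsClosed ({u} : Set ↥U)) X x) {W : Over S}
    (g : (yon S).obj W ⟶ X) (hg : LocP @LocallyOfFiniteType g)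
    (hxW : x ∈ Set.range (Points.ofPt g)) :
    ∃ w : ↥W.left, IsClosed ({w} : Set ↥W.left) ∧ Points.ofPt g w = x := by
  obtain ⟨U, a, u, ha, hu, hcl⟩ := hx
  obtain ⟨w₀, hw₀⟩ := hxW
  have hW : JacobsonSpace ↥W.left := jacobsonSpace_of_locP_lft hX g hg
  have sq := ha.rep.isPullback' g
  have hsnd : Etale (ha.rep.snd g).left := ha.property_snd g
  have hfst : LocallyOfFiniteType (ha.rep.fst' g).left :=
    hg ((yon S).map (ha.rep.snd g)) a (ha.rep.fst' g)
      ((repWith_yon_map_iff _ _).2 hsnd) ha sq.w.symm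
  have hP : JacobsonSpace ↥(ha.rep.pullback g).left :=
    LocallyOfFiniteType.jacobsonSpace (ha.rep.snd g).left
  obtain ⟨q, hq1, hq2⟩ := exists_point_of_isPullback_yon sq u w₀ (hu.trans hw₀.symm)
  have hZ : IsClosed ((ha.rep.fst' g).left ⁻¹' {u}) := hcl.preimage (ha.rep.fst' g).left.continuous
  obtain ⟨q', hq'Z, hq'c⟩ := nonempty_inter_closedPoints ⟨q, hq1⟩ hZ.isLocallyClosed
  refine ⟨(ha.rep.snd g).left q', ?_, ?_⟩
  · exact (ha.rep.snd g).left.closePoints_subset_preimage_closedPoints hq'c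
  · have h1 := ofPt_yon_map_comp (ha.rep.snd g) g q'
    have h2 := ofPt_yon_map_comp (ha.rep.fst' g) a q'
    rw [← h1, ← sq.w, h2]
    have : (ha.rep.fst' g).left q' = u := hq'Z
    rw [this, hu]


/-- In a Jacobson scheme locally quasi-finite over `U`, points over closed points are closed. -/
theorem isClosed_singleton_of_lqf {Q U : Scheme.{u}} (f : Q ⟶ U) [LocallyQuasiFinite f]
    [JacobsonSpace ↥Q] (q : ↥Q) (hcl : IsClosed ({f q} : Set ↥U)) : IsClosed ({q} : Set ↥Q) := by
  apply isClosed_singleton_of_isLocallyClosed_singleton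
  have hd := f.isDiscrete_preimage_singleton (f q)
  have : DiscreteTopology ↥(f ⁻¹' {f q}) := hd.to_subtype
  have hop : IsOpen ({⟨q, rfl⟩} : Set ↥(f ⁻¹' {f q})) := isOpen_discrete _
  obtain ⟨O, hO, hOe⟩ := isOpen_induced_iff.1 hop
  have hqO : q ∈ O := by
    have : (⟨q, rfl⟩ : ↥(f ⁻¹' {f q})) ∈ Subtype.val ⁻¹' O := by rw [hOe]; rfl
    exact this
  have h1 : IsLocallyClosed (f ⁻¹' {f q}) := (hcl.preimage f.continuous).isLocallyClosed
  have h2 : IsLocallyClosed (f ⁻¹' {f q} ∩ O) := h1.inter hO.isLocallyClosed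
  have h3 : f ⁻¹' {f q} ∩ O = {q} := by
    ext y
    constructor
    · rintro ⟨hy1, hy2⟩
      have : (⟨y, hy1⟩ : ↥(f ⁻¹' {f q})) ∈ Subtype.val ⁻¹' O := hy2
      rw [hOe] at this
      exact congrArg Subtype.val this
    · rintro rfl
      exact ⟨rfl, hqO⟩
  rwa [h3] at h2

/-- Over a finite type point of a Jacobson sheaf, every point of every etale chart is closed. -/
theorem isClosed_of_hasAt_closed {X : Sp S}
    (hX : EtaleLocally (fun U => JacobsonSpace ↥U) X) (x : Points X)
    (hx : HasAt (fun U u => IsClosed ({u} : Set ↥U)) X x) {V : Over S}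
    (b : (yon S).obj V ⟶ X) (hb : RepWith @Etale b) (v : ↥V.left) (hv : Points.ofPt b v = x) :
    IsClosed ({v} : Set ↥V.left) := by
  obtain ⟨U, a, u, ha, hu, hcl⟩ := hx
  have hV : JacobsonSpace ↥V.left := jacobsonSpace_of_etale_chart hX b hb
  have sq := ha.rep.isPullback' b
  have hsnd : Etale (ha.rep.snd b).left := ha.property_snd b
  have hfst : Etale (ha.rep.fst' b).left := by
    have : RepWith @Etale ((yon S).map (ha.rep.fst' b)) :=
      repWith_of_isPullback _ sq.flip hb
    exact (repWith_yon_map_iff _ _).1 this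
  have hQ : JacobsonSpace ↥(ha.rep.pullback b).left :=
    LocallyOfFiniteType.jacobsonSpace (ha.rep.snd b).left
  obtain ⟨q, hq1, hq2⟩ := exists_point_of_isPullback_yon sq u v (hu.trans hv.symm)
  have : LocallyQuasiFinite (ha.rep.fst' b).left := etale_locallyQuasiFinite _
  have hqc : IsClosed ({q} : Set ↥(ha.rep.pullback b).left) :=
    isClosed_singleton_of_lqf (ha.rep.fst' b).left q (by rw [hq1]; exact hcl)
  have := (ha.rep.snd b).left.closePoints_subset_preimage_closedPoints hqc
  rw [← hq2]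
  exact this

/-- A locally finite set of closed points of a scheme is closed. -/
theorem isClosed_of_locally_finite_of_closed_points {U : Scheme.{u}} (T : Set ↥U)
    (hT : ∀ t ∈ T, IsClosed ({t} : Set ↥U))
    (hfin : ∀ N : U.Opens, IsAffineOpen N → (T ∩ (N : Set ↥U)).Finite) : IsClosed T := by
  rw [← closure_subset_iff_isClosed]
  intro y hy
  obtain ⟨N, hN, hyN, -⟩ := exists_isAffineOpen_mem_and_subset (x := y) (U := ⊤) trivial
  have h1 : y ∈ closure ((N : Set ↥U) ∩ T) := N.2.inter_closure ⟨hyN, hy⟩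
  have h2 : IsClosed ((N : Set ↥U) ∩ T) := by
    have hf : ((N : Set ↥U) ∩ T).Finite := by rw [Set.inter_comm]; exact hfin N hN
    have : (N : Set ↥U) ∩ T = ⋃ t ∈ ((N : Set ↥U) ∩ T), {t} :=
      (Set.biUnion_of_singleton _).symm
    rw [this]
    exact hf.isClosed_biUnion fun t ht => hT t ht.2
  rw [h2.closure_eq] at h1
  exact h1.2


/-- In a Jacobson sheaf with an etale atlas, closed points are finite type points. -/
theorem hasAt_closed_of_isClosed {X : Sp S} (hXa : IsAlgSpace X)
    (hX : EtaleLocally (fun U => JacobsonSpace ↥U) X) (x : Points X)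
    (hx : IsClosed ({x} : Set (Points X))) :
    HasAt (fun U u => IsClosed ({u} : Set ↥U)) X x := by
  obtain ⟨U', p, hpe, hps⟩ := hXa.atlas
  have hU' : JacobsonSpace ↥U'.left := jacobsonSpace_of_etale_chart hX p hpe
  have hT : IsClosed (Points.ofPt p ⁻¹' {x}) := hx.preimage (Points.continuous_ofPt p)
  obtain ⟨u₀, hu₀⟩ := ofPt_surjective_of_repWith hps x
  obtain ⟨u', hu'T, hu'c⟩ := nonempty_inter_closedPoints ⟨u₀, hu₀⟩ hT.isLocallyClosed
  exact ⟨U', p, u', hpe, hu'T, hu'c⟩

/-- In a decent Jacobson algebraic space, finite type points are closed. -/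
theorem isClosed_of_hasAt_closed_of_isDecent {X : Sp S} (hXa : IsAlgSpace X) (hd : IsDecent X)
    (hX : EtaleLocally (fun U => JacobsonSpace ↥U) X) (x : Points X)
    (hx : HasAt (fun U u => IsClosed ({u} : Set ↥U)) X x) :
    IsClosed ({x} : Set (Points X)) := by
  obtain ⟨U', p, hpe, hps⟩ := hXa.atlas
  rw [← (isQuotientMap_ofPt p hpe hps).isClosed_preimage]
  apply isClosed_of_locally_finite_of_closed_points
  · intro t ht
    exact isClosed_of_hasAt_closed hX x hx p hpe t ht
  · intro N hN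
    obtain ⟨pt, rfl, -, hq⟩ := hd x
    exact fibre_chart_finite_inter p hpe pt hq N hN.isCompact

/-- For a decent algebraic space, Jacobson etale locally implies `|X|` Jacobson. -/
theorem jacobsonSpace_points_of_isDecent {X : Sp S} (hXa : IsAlgSpace X) (hd : IsDecent X)
    (hX : EtaleLocally (fun U => JacobsonSpace ↥U) X) : JacobsonSpace (Points X) := by
  rw [jacobsonSpace_iff_locallyClosed]
  intro Z hne hZ
  obtain ⟨U', p, hpe, hps⟩ := hXa.atlas
  have hU' : JacobsonSpace ↥U'.left := jacobsonSpace_of_etale_chart hX p hpe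
  obtain ⟨z, hz⟩ := hne
  obtain ⟨u₀, hu₀⟩ := ofPt_surjective_of_repWith hps z
  obtain ⟨u', hu'Z, hu'c⟩ := nonempty_inter_closedPoints (Z := Points.ofPt p ⁻¹' Z)
    ⟨u₀, by rw [Set.mem_preimage, hu₀]; exact hz⟩ (hZ.preimage (Points.continuous_ofPt p))
  refine ⟨Points.ofPt p u', hu'Z, ?_⟩
  exact isClosed_of_hasAt_closed_of_isDecent hXa hd hX _ ⟨U', p, u', hpe, rfl, hu'c⟩


/-- For a decent algebraic space, `|X|` Jacobson implies Jacobson etale locally. -/
theorem jacobson_of_jacobsonSpace_points {X : Sp S} (hXa : IsAlgSpace X) (hd : IsDecent X)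
    (hJ : JacobsonSpace (Points X)) : EtaleLocally (fun U => JacobsonSpace ↥U) X := by
  obtain ⟨U', p, hpe, hps⟩ := hXa.atlas
  refine ⟨U', p, hpe, hps, ?_⟩
  change JacobsonSpace ↥U'.left
  rw [jacobsonSpace_iff_locallyClosed]
  intro Z hne hZ
  obtain ⟨s, hsZ, hs⟩ := exists_isLocallyClosed_singleton U'.left hne hZ
  refine ⟨s, hsZ, ?_⟩
  change IsClosed {s}
  have hnospec : ∀ v t : ↥U'.left, Points.ofPt p v = Points.ofPt p s →
      Points.ofPt p t = Points.ofPt p s → t ⤳ v → v = t := fun v t hv ht h =>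
    eq_of_specializes_of_affine_finite (Points.ofPt p s)
      (fun V b hV hb => finite_fibre_of_isDecent hd _ V b hV hb) p hpe v t hv ht h
  -- Step A: `{x}` is locally closed
  have hx : IsLocallyClosed ({Points.ofPt p s} : Set (Points X)) := by
    obtain ⟨O, C, hO, hC, hOC⟩ := hs
    have hsO : s ∈ O := (hOC ▸ (Set.mem_singleton s) : s ∈ O ∩ C).1
    have hsC : s ∈ C := (hOC ▸ (Set.mem_singleton s) : s ∈ O ∩ C).2
    obtain ⟨N, hN, hsN, hNO⟩ := exists_isAffineOpen_mem_and_subset (x := s) (U := ⟨O, hO⟩) hsO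
    have hNs : (N : Set ↥U'.left) ∩ closure {s} = {s} := by
      apply subset_antisymm
      · rintro y ⟨hyN, hyc⟩
        have : y ∈ O ∩ C := ⟨hNO hyN, (hC.closure_subset_iff.2 (by simpa using hsC)) hyc⟩
        rwa [← hOC] at this
      · rintro y rfl
        exact ⟨hsN, subset_closure rfl⟩
    obtain ⟨pt, hpt, -, hq⟩ := hd (Points.ofPt p s)
    have hfin : ((Points.ofPt p ⁻¹' {Points.ofPt p s}) ∩ (N : Set ↥U'.left)).Finite := by
      have := fibre_chart_finite_inter p hpe pt hq N hN.isCompact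
      rwa [hpt] at this
    set T := ((Points.ofPt p ⁻¹' {Points.ofPt p s}) ∩ (N : Set ↥U'.left)) \ {s} with hTdef
    have hTfin : T.Finite := hfin.subset Set.sdiff_subset
    have hBcl : IsClosed (⋃ t ∈ T, closure ({t} : Set ↥U'.left)) :=
      hTfin.isClosed_biUnion fun t _ => isClosed_closure
    set N' : Set ↥U'.left := (N : Set ↥U'.left) ∩ (⋃ t ∈ T, closure ({t} : Set ↥U'.left))ᶜ
      with hN'def
    have hN'o : IsOpen N' := N.2.inter hBcl.isOpen_compl
    have hsN' : s ∈ N' := by
      refine ⟨hsN, ?_⟩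
      intro hmem
      simp only [Set.mem_iUnion] at hmem
      obtain ⟨t, htT, hts⟩ := hmem
      have h1 : t ⤳ s := specializes_iff_mem_closure.2 hts
      have := hnospec s t rfl htT.1.1 h1
      exact htT.2 this.symm
    have hN''o : IsOpen (N' ∩ (closure ({s} : Set ↥U'.left))ᶜ) :=
      hN'o.inter isClosed_closure.isOpen_compl
    have hop := isOpenMap_ofPt p hpe
    refine ⟨Points.ofPt p '' N', (Points.ofPt p '' (N' ∩ (closure ({s} : Set ↥U'.left))ᶜ))ᶜ,
      hop _ hN'o, (hop _ hN''o).isClosed_compl, ?_⟩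
    apply subset_antisymm
    · rintro y rfl
      refine ⟨⟨s, hsN', rfl⟩, ?_⟩
      rintro ⟨t, ⟨htN', htc⟩, hts⟩
      have hts' : t ≠ s := by
        rintro rfl
        exact htc (subset_closure rfl)
      have htT : t ∈ T := ⟨⟨hts, htN'.1⟩, hts'⟩
      apply htN'.2
      simp only [Set.mem_iUnion]
      exact ⟨t, htT, subset_closure rfl⟩
    · rintro y ⟨⟨t, htN', rfl⟩, hy2⟩
      have : t ∈ closure ({s} : Set ↥U'.left) := by
        by_contra hh
        exact hy2 ⟨t, ⟨htN', hh⟩, rfl⟩
      have : t ∈ (N : Set ↥U'.left) ∩ closure {s} := ⟨htN'.1, this⟩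
      rw [hNs] at this
      rw [this]
      rfl
  have hxc : IsClosed ({Points.ofPt p s} : Set (Points X)) :=
    isClosed_singleton_of_isLocallyClosed_singleton hx
  rw [← closure_subset_iff_isClosed]
  intro v hv
  have hF : IsClosed (Points.ofPt p ⁻¹' {Points.ofPt p s}) :=
    hxc.preimage (Points.continuous_ofPt p)
  have hvF : v ∈ Points.ofPt p ⁻¹' {Points.ofPt p s} :=
    (hF.closure_subset_iff.2 (by simp)) hv
  have h1 : s ⤳ v := specializes_iff_mem_closure.2 hv
  exact hnospec v s hvF rfl h1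

end Groth.Agent.Lib.Helper14.AS
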