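import Groth.Agent.Lib.Helper14.AlgSpClosedPt
import Groth.Agent.Lib.Helper14.AlgSpJacobson
import Mathlib.AlgebraicGeometry.Morphisms.Proper
import Mathlib.AlgebraicGeometry.Morphisms.Integral

open CategoryTheory CategoryTheory.Limits AlgebraicGeometry Opposite AlgSp Topology
open CategoryTheory.Functor Groth.Agent.Lib.Helper14.AS

universe u

noncomputable section

namespace Groth.Agent.Lib.Helper14.AS

variable {S : Scheme.{u}}

/-- Any morphism out of an affine scheme is separated. -/
theorem isSeparated_of_isAffine {N T : Scheme.{u}} [IsAffine N] (f : N ⟶ T) : IsSeparated f := by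
  have h : IsSeparated (f ≫ terminal.from T) := by
    have : f ≫ terminal.from T = terminal.from N := Subsingleton.elim _ _
    rw [this]
    infer_instance
  exact IsSeparated.of_comp f (terminal.from T)

set_option backward.isDefEq.respectTransparency.types false in
/-- (SC3) If `Spec L → W → S` is universally closed, then the image point of `Spec L` in `W` is
closed. -/
theorem isClosed_image_of_universallyClosed_comp {W T : Scheme.{u}} (g : W ⟶ T) {L : Type u}
    [Field L] (τ : Spec (CommRingCat.of L) ⟶ W) [UniversallyClosed (τ ≫ g)]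
    (pt : ↥(Spec (CommRingCat.of L))) : IsClosed ({τ pt} : Set ↥W) := by
  rw [← closure_subset_iff_isClosed]
  intro w' hw'
  obtain ⟨N, hN, hw'N, -⟩ := exists_isAffineOpen_mem_and_subset (x := w') (U := ⊤) trivial
  have hspec : τ pt ⤳ w' := specializes_iff_mem_closure.2 hw'
  have hwN : τ pt ∈ N := hspec.mem_open N.2 hw'N
  have hrange : Set.range τ ⊆ Set.range N.ι := by
    rintro _ ⟨pt', rfl⟩
    rw [Scheme.Opens.range_ι]
    have : pt' = pt := Subsingleton.elim (α := ↥(Spec (CommRingCat.of L))) _ _
    rw [this]; exact hwN
  let τN : Spec (CommRingCat.of L) ⟶ N.toScheme := IsOpenImmersion.lift N.ι τ hrange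
  have hτN : τN ≫ N.ι = τ := IsOpenImmersion.lift_fac _ _ _
  have haff : IsAffine N.toScheme := hN
  have hsep : IsSeparated (N.ι ≫ g) := isSeparated_of_isAffine _
  have huc : UniversallyClosed (τN ≫ (N.ι ≫ g)) := by
    rw [← Category.assoc, hτN]; infer_instance
  have huc' : UniversallyClosed τN := UniversallyClosed.of_comp_of_isSeparated τN (N.ι ≫ g)
  have hcl : IsClosed (Set.range τN) := τN.isClosedMap.isClosed_range
  have hr : Set.range τN = {τN pt} := by
    ext z
    constructor
    · rintro ⟨pt', rfl⟩
      have : pt' = pt := Subsingleton.elim (α := ↥(Spec (CommRingCat.of L))) _ _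
      rw [this]; rfl
    · rintro rfl; exact ⟨pt, rfl⟩
  rw [hr] at hcl
  -- specialization inside `N`
  have hval : N.ι (τN pt) = τ pt := by rw [← Scheme.Hom.comp_apply, hτN]
  have hspecN : τN pt ⤳ (⟨w', hw'N⟩ : ↥N) := by
    rw [← N.ι.isOpenEmbedding.isInducing.specializes_iff, hval]
    exact hspec
  have : (⟨w', hw'N⟩ : ↥N) ∈ closure ({τN pt} : Set ↥N) := specializes_iff_mem_closure.1 hspecN
  have h2 : (⟨w', hw'N⟩ : ↥N) = τN pt := Set.mem_singleton_iff.1 (hcl.closure_subset this)
  rw [Set.mem_singleton_iff, ← hval, ← h2]
  rfl


set_option backward.isDefEq.respectTransparency.types false in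
/-- The residue field inclusion of a closed point is a closed immersion. -/
theorem isClosedImmersion_fromSpecResidueField (T : Scheme.{u}) (s : ↥T)
    (hs : IsClosed ({s} : Set ↥T)) : IsClosedImmersion (T.fromSpecResidueField s) :=
  IsClosedImmersion.of_isPreimmersion _ (by rw [Scheme.range_fromSpecResidueField]; exact hs)

set_option backward.isDefEq.respectTransparency.types false in
/-- A field point of a decent algebraic space over `S` lying over a closed point `s` of `S`, with
field algebraic over `κ(s)`, is a closed point. -/
theorem isClosed_point_of_algebraic_over_closedPoint {X : Sp S} (hX : IsAlgSpace X)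
    (hd : IsDecent X) (s : ↥S) (hs : IsClosed ({s} : Set ↥S)) (k : Type u) [Field k]
    (φ : S.residueField s ⟶ CommRingCat.of k) (hφ : φ.hom.IsIntegral)
    (p : (yon S).obj (Over.mk (Spec.map φ ≫ S.fromSpecResidueField s)) ⟶ X)
    (t : ↥(Spec (CommRingCat.of k))) :
    IsClosed ({Points.ofPt p t} : Set (Points X)) := by
  let q : FieldPt X := ⟨k, Spec.map φ ≫ S.fromSpecResidueField s, (J S).uliftYonedaEquiv p⟩
  have hq : q.toHom = p := Equiv.symm_apply_apply _ _
  have hx : Points.ofPt p t = Points.mk q := by
    rw [← hq]; exact Points.ofPt_toHom q t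
  rw [hx]
  obtain ⟨U, a, hae, has⟩ := hX.atlas
  rw [← (isQuotientMap_ofPt a hae has).isClosed_preimage]
  apply isClosed_of_locally_finite_of_closed_points
  · intro u hu
    have sq := hae.rep.isPullback' q.toHom
    obtain ⟨hr, hdisc⟩ := fibre_chart_of_mono a hae q
    rw [← hr] at hu
    obtain ⟨τ, rfl⟩ := hu
    have hsnd_et : Etale (hae.rep.snd q.toHom).left := hae.property_snd _
    have hfield : ∀ w : ↥(hae.rep.pullback q.toHom).left,
        IsField ((hae.rep.pullback q.toHom).left.presheaf.stalk w) := fun w =>
      isField_stalk_of_unramified (hae.rep.snd q.toHom).left w (isField_stalk_Spec_field k _)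
    have hoi : IsOpenImmersion ((hae.rep.pullback q.toHom).left.fromSpecResidueField τ) :=
      isOpenImmersion_of_mono_of_discrete _ hfield
    have hfinC : Finite ↥(Spec (CommRingCat.of
        ↑((hae.rep.pullback q.toHom).left.residueField τ))) := inferInstance
    have hfin : IsFinite ((hae.rep.pullback q.toHom).left.fromSpecResidueField τ ≫
        (hae.rep.snd q.toHom).left) :=
      isFinite_of_etale_of_finite_carrier (K := k)
        (R := Spec (CommRingCat.of ↑((hae.rep.pullback q.toHom).left.residueField τ))) _
    have hci := isClosedImmersion_fromSpecResidueField S s hs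
    have hint : IsIntegralHom (Spec.map φ) := IsIntegralHom.SpecMap_iff.2 hφ
    have hcomp : ((hae.rep.pullback q.toHom).left.fromSpecResidueField τ ≫
        (hae.rep.fst' q.toHom).left) ≫ U.hom =
        ((hae.rep.pullback q.toHom).left.fromSpecResidueField τ ≫ (hae.rep.snd q.toHom).left) ≫
          Spec.map φ ≫ S.fromSpecResidueField s := by
      rw [Category.assoc, Category.assoc, Over.w (hae.rep.fst' q.toHom)]
      congr 1
      exact (Over.w (hae.rep.snd q.toHom)).symm
    have huc : UniversallyClosed
        (((hae.rep.pullback q.toHom).left.fromSpecResidueField τ ≫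
          (hae.rep.fst' q.toHom).left) ≫ U.hom) := by
      rw [hcomp]; infer_instance
    have := isClosed_image_of_universallyClosed_comp
      (L := ↑((hae.rep.pullback q.toHom).left.residueField τ)) U.hom
      ((hae.rep.pullback q.toHom).left.fromSpecResidueField τ ≫ (hae.rep.fst' q.toHom).left)
      (IsLocalRing.closedPoint _)
    rw [Scheme.Hom.comp_apply, Scheme.fromSpecResidueField_apply] at this
    exact this
  · intro N hN
    obtain ⟨pt, hpt, -, hqc⟩ := hd (Points.mk q)
    rw [← hpt]
    exact fibre_chart_finite_inter a hae pt hqc N hN.isCompact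


theorem isClosedImmersion_le_isFinite' :
    (@IsClosedImmersion : MorphismProperty Scheme.{u}) ≤ @IsFinite :=
  fun _ _ _ h => by have := h; infer_instance

set_option backward.isDefEq.respectTransparency.types false in
/-- A field point of a decent algebraic space lying over a closed point `s` of `S` with field
finite over `κ(s)` is finite, and a closed immersion if the field is `κ(s)`. -/
theorem repWith_isFinite_fieldPt_of_finite_over_closedPoint {X : Sp S} (hX : IsAlgSpace X)
    (hd : IsDecent X) (s : ↥S) (hs : IsClosed ({s} : Set ↥S)) (k : Type u) [Field k]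
    (φ : S.residueField s ⟶ CommRingCat.of k) (hφ : φ.hom.Finite)
    (p : (yon S).obj (Over.mk (Spec.map φ ≫ S.fromSpecResidueField s)) ⟶ X) :
    RepWith @IsFinite p ∧ (Function.Bijective φ.hom → RepWith @IsClosedImmersion p) := by
  let q : FieldPt X := ⟨k, Spec.map φ ≫ S.fromSpecResidueField s, (J S).uliftYonedaEquiv p⟩
  have hq : q.toHom = p := Equiv.symm_apply_apply _ _
  have hcl : IsClosed ({Points.mk q} : Set (Points X)) := by
    have := isClosed_point_of_algebraic_over_closedPoint hX hd s hs k φ hφ.to_isIntegral p
      (IsLocalRing.closedPoint k)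
    rw [← hq] at this
    rwa [Points.ofPt_toHom q] at this
  obtain ⟨p', hp', hm, hqc⟩ := hd (Points.mk q)
  have hci : RepWith @IsClosedImmersion p'.toHom :=
    repWith_isClosedImmersion_of_isClosed_point hX p' hm hqc (by rw [hp']; exact hcl)
  obtain ⟨j, hj⟩ := factors_through_mono_point p' q hm (repDiag_of_isAlgSpace hX _) hp'.symm
  have hsep : IsSeparated p'.str := by
    have : IsAffine (Spec (CommRingCat.of p'.K)) := inferInstance
    exact isSeparated_of_isAffine _
  have hw : j.left ≫ p'.str = Spec.map φ ≫ S.fromSpecResidueField s := Over.w j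
  have hcis := isClosedImmersion_fromSpecResidueField S s hs
  have hfinφ : IsFinite (Spec.map φ) := (IsFinite.SpecMap_iff φ).2 hφ
  have hjfin : IsFinite j.left := by
    have : IsFinite (j.left ≫ p'.str) := by rw [hw]; infer_instance
    exact IsFinite.of_comp j.left p'.str
  rw [← hq, ← hj]
  refine ⟨repWith_comp _ ((repWith_yon_map_iff _ _).2 hjfin)
    (repWith_mono isClosedImmersion_le_isFinite' hci), fun hbij => ?_⟩
  have hciφ : IsClosedImmersion (Spec.map φ) := IsClosedImmersion.spec_of_surjective φ hbij.2
  have hjci : IsClosedImmersion j.left := by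
    have : IsClosedImmersion (j.left ≫ p'.str) := by rw [hw]; infer_instance
    exact IsClosedImmersion.of_comp j.left p'.str
  exact repWith_comp _ ((repWith_yon_map_iff _ _).2 hjci) hci

end Groth.Agent.Lib.Helper14.AS
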