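import Groth.Agent.Lib.Helper14.AlgSpGrp2
import Groth.Agent.Lib.Helper14.AlgSpClosedPt
import Groth.Agent.Lib.Helper14.AlgSpClosedPt2
import Groth.Agent.Lib.Helper14.AlgSpFibrePt5
import Groth.Prelude.Def_AlgSpDec
import Groth.Prelude.Def_AlgSpGpd

universe u
set_option linter.style.haveILetI false
set_option linter.unusedSectionVars false
open CategoryTheory CategoryTheory.Limits AlgebraicGeometry Opposite Topology MonoidalCategory
  CartesianMonoidalCategory MonObj

namespace Groth.Agent.Lib.Helper14.AS
open AlgSp

variable {S : Scheme.{u}}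

/-- absolute diagonal from the relative one over a subterminal base -/
theorem repWith_diag_of_diagonal_subterminal (P : MorphismProperty Scheme.{u})
    [P.IsStableUnderBaseChange]
    {X T : Sp S} (f : X ⟶ T)
    (hT : ∀ {Z : Sp S} (a b : Z ⟶ T), a = b) (h : RepWith P (pullback.diagonal f)) :
    RepWith P (Limits.diag X) := by
  have hiso : IsIso (prod.lift (pullback.fst f f) (pullback.snd f f)) :=
    ⟨pullback.lift prod.fst prod.snd (hT _ _), by
      apply pullback.hom_ext
      · rw [Category.assoc, pullback.lift_fst, prod.lift_fst, Category.id_comp]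
      · rw [Category.assoc, pullback.lift_snd, prod.lift_snd, Category.id_comp], by
      apply Limits.prod.hom_ext
      · rw [Category.assoc, prod.lift_fst, pullback.lift_fst, Category.id_comp]
      · rw [Category.assoc, prod.lift_snd, pullback.lift_snd, Category.id_comp]⟩
  have : Limits.diag X = pullback.diagonal f ≫ prod.lift (pullback.fst f f) (pullback.snd f f) := by
    apply Limits.prod.hom_ext <;> simp [Limits.diag]
  rw [this]
  exact MorphismProperty.RespectsIso.postcomp _ _ _ h

theorem yon_terminal_subterminal {Z : Sp S} (a b : Z ⟶ (yon S).obj (Over.mk (𝟙 S))) : a = b := by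
  apply Sheaf.hom_ext
  ext Y z
  apply ULift.ext
  exact Over.mkIdTerminal.hom_ext _ _

set_option backward.isDefEq.respectTransparency.types false in
/-- a section `e` of a morphism to `h_S` over a field `S = Spec k`: its point is closed -/
theorem repWith_isClosedImmersion_section_field (k : Type u) [Field k]
    {X : Sp (Spec (CommRingCat.of k))} (hX : IsAlgSpace X) (hd : IsDecent X)
    (e : (yon (Spec (CommRingCat.of k))).obj (Over.mk (𝟙 _)) ⟶ X) (hm : Mono e) :
    RepWith @IsClosedImmersion e := by
  let q : FieldPt X := ⟨k, 𝟙 (Spec (CommRingCat.of k)), (J (Spec (CommRingCat.of k))).uliftYonedaEquiv e⟩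
  have hq : q.toHom = e := Equiv.symm_apply_apply _ _
  rw [← hq] at hm ⊢
  obtain ⟨pt, hpt, hptm, hqc⟩ := hd (Points.mk q)
  have hqc' : RepWith @QuasiCompact q.toHom := repWith_quasiCompact_of_mk_eq pt q hptm hqc hpt.symm
  refine repWith_isClosedImmersion_of_isClosed_point hX q hm hqc' ?_
  -- closedness
  let s : ↥(Spec (CommRingCat.of k)) := IsLocalRing.closedPoint k
  have hs : IsClosed ({s} : Set ↥(Spec (CommRingCat.of k))) := by
    have : Subsingleton ↥(Spec (CommRingCat.of k)) := inferInstance
    have : ({s} : Set ↥(Spec (CommRingCat.of k))) = Set.univ := by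
      ext y; simp [Subsingleton.elim y s]
    rw [this]; exact isClosed_univ
  have key := isClosed_point_of_algebraic_over_closedPoint hX hd s hs
    ((Spec (CommRingCat.of k)).residueField s) (𝟙 _) (by
      intro z; exact isIntegral_algebraMap)
    ((yon _).map (Over.homMk (Spec.map (𝟙 _) ≫ (Spec (CommRingCat.of k)).fromSpecResidueField s) (by simp; exact Category.comp_id _)) ≫ q.toHom)
    (IsLocalRing.closedPoint _)
  rw [ofPt_yon_map_comp, Points.ofPt_toHom] at key
  exact key

theorem grpObj_field_isSeparatedSp_of_isDecent (k : Type u) [Field k]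
    (G : Over ((AlgSp.yon (Spec (CommRingCat.of k))).obj (Over.mk (𝟙 _)))) [GrpObj G]
    (hG : AlgSp.IsAlgSpace G.left) (hd : AlgSp.IsDecent G.left) : AlgSp.IsSeparatedSp G.left := by
  apply repWith_diag_of_diagonal_subterminal _ G.hom (fun a b => yon_terminal_subterminal a b)
  have h1 := (grp_separated_iff _ G hG).1
  apply h1.2
  have hm : Mono (η[G]).left := by
    have hs := grp_unit_section G
    refine ⟨fun {Z} a b hab => ?_⟩
    have := congrArg (· ≫ G.hom) hab
    simp only [Category.assoc] at this
    rw [hs] at this
    simpa using this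
  exact repWith_isClosedImmersion_section_field k hG hd (η[G]).left hm

end Groth.Agent.Lib.Helper14.AS
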