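import Groth.Prelude.Def_AlgSp4
import Groth.Agent.Lib.Helper14.AlgSpSect
import Mathlib.CategoryTheory.Filtered.Connected
import Mathlib.CategoryTheory.Filtered.Final
universe u
open CategoryTheory CategoryTheory.Limits AlgebraicGeometry Opposite
namespace Groth.Agent.Lib.Helper14.AS
variable {S : Scheme.{u}}
open AlgSp

section Affine

variable {J : Type u} [SmallCategory J] (G : J ⥤ Over S)

/-- a diagram of affine schemes over `S` indexed by a connected category has a limit -/
theorem hasLimit_of_forall_isAffine [IsConnected J] (h : ∀ j, IsAffine (G.obj j).left) :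
    HasLimit G ∧ ∀ (c : Cone G), IsLimit c → IsAffine c.pt.left := by
  let G₁ : J ⥤ AffineScheme := ObjectProperty.lift _ (G ⋙ Over.forget S)
    (fun j => essImage_Spec.2 (h j))
  have e : G₁ ⋙ AffineScheme.forgetToScheme ≅ G ⋙ Over.forget S :=
    ObjectProperty.liftCompιIso _ _ _
  have h1 : HasLimit (G₁ ⋙ AffineScheme.forgetToScheme) := inferInstance
  have h2 : HasLimit (G ⋙ Over.forget S) := hasLimit_of_iso e
  have h3 : HasLimit G := hasLimit_of_created G (Over.forget S)
  refine ⟨h3, fun c hc => ?_⟩
  have hc' : IsLimit ((Over.forget S).mapCone c) := isLimitOfPreserves (Over.forget S) hc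
  have hl : IsLimit (AffineScheme.forgetToScheme.mapCone (limit.cone G₁)) :=
    isLimitOfPreserves _ (limit.isLimit G₁)
  have hl' := (IsLimit.postcomposeHomEquiv e _).symm hl
  have : IsAffine (AffineScheme.forgetToScheme.mapCone (limit.cone G₁)).pt :=
    inferInstanceAs (IsAffine (limit G₁).obj)
  have hi : IsIso (hc'.conePointUniqueUpToIso hl').hom := inferInstance
  exact @IsAffine.of_isIso _ _ (hc'.conePointUniqueUpToIso hl').hom hi this

end Affine


namespace LimChart
section Main

variable {J : Type u} [SmallCategory J] (D : J ⥤ Sp S) {j₀ : J} (hT : IsTerminal j₀)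
  {Z : Over S} (g : (yon S).obj Z ⟶ D.obj j₀)
  (W : J → Over S) (ι : ∀ j, W j ⟶ Z) (fst : ∀ j, (yon S).obj (W j) ⟶ D.obj j)
  (sq : ∀ j, IsPullback (fst j) ((yon S).map (ι j)) (D.map (hT.from j)) g)

include sq in
theorem chartMap_cond {j j' : J} (h : j ⟶ j') :
    (fst j ≫ D.map h) ≫ D.map (hT.from j') = (yon S).map (ι j) ≫ g := by
  rw [Category.assoc, ← D.map_comp, hT.hom_ext (h ≫ hT.from j') (hT.from j), (sq j).w]

/-- transition maps between the charts -/
noncomputable def chartMap {j j' : J} (h : j ⟶ j') : W j ⟶ W j' :=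
  (yon S).preimage ((sq j').lift (fst j ≫ D.map h) ((yon S).map (ι j))
    (chartMap_cond D hT g W ι fst sq h))

theorem chartMap_fst {j j' : J} (h : j ⟶ j') :
    (yon S).map (chartMap D hT g W ι fst sq h) ≫ fst j' = fst j ≫ D.map h := by
  rw [chartMap, Functor.map_preimage, (sq j').lift_fst]

theorem chartMap_ι {j j' : J} (h : j ⟶ j') :
    chartMap D hT g W ι fst sq h ≫ ι j' = ι j := by
  apply (yon S).map_injective
  rw [CategoryTheory.Functor.map_comp, chartMap, Functor.map_preimage, (sq j').lift_snd]

include sq in
theorem chart_hom_ext {j : J} {T : Over S} (a b : T ⟶ W j)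
    (h1 : (yon S).map a ≫ fst j = (yon S).map b ≫ fst j) (h2 : a ≫ ι j = b ≫ ι j) : a = b := by
  apply (yon S).map_injective
  apply (sq j).hom_ext h1
  rw [← Functor.map_comp, ← Functor.map_comp, h2]

/-- the diagram of charts -/
noncomputable def chartDiagram : J ⥤ Over S where
  obj := W
  map h := chartMap D hT g W ι fst sq h
  map_id j := by
    apply chart_hom_ext D hT g W ι fst sq
    · rw [chartMap_fst, CategoryTheory.Functor.map_id, CategoryTheory.Functor.map_id,
        Category.comp_id, Category.id_comp]
    · rw [chartMap_ι, Category.id_comp]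
  map_comp {j j' j''} h h' := by
    apply chart_hom_ext D hT g W ι fst sq
    · rw [chartMap_fst, (yon S).map_comp, Category.assoc, chartMap_fst,
        ← Category.assoc, chartMap_fst, Category.assoc, D.map_comp]
    · rw [chartMap_ι, Category.assoc, chartMap_ι, chartMap_ι]


variable (c : Cone D) (hc : IsLimit c) (cG : Cone (chartDiagram D hT g W ι fst sq))
  (hcG : IsLimit cG)

/-- projections of the limit cone of charts, with codomain `W j` -/
def coneπ (j : J) : cG.pt ⟶ W j := cG.π.app j

theorem coneπ_w {j j' : J} (h : j ⟶ j') :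
    coneπ D hT g W ι fst sq cG j ≫ chartMap D hT g W ι fst sq h = coneπ D hT g W ι fst sq cG j' :=
  cG.w h

theorem cG_ι (j : J) :
    coneπ D hT g W ι fst sq cG j ≫ ι j = coneπ D hT g W ι fst sq cG j₀ ≫ ι j₀ := by
  rw [← coneπ_w D hT g W ι fst sq cG (hT.from j), Category.assoc, chartMap_ι]

/-- the cone over `D` with apex the limit of the charts -/
noncomputable def chartCone : Cone D where
  pt := (yon S).obj cG.pt
  π :=
    { app := fun j => (yon S).map (coneπ D hT g W ι fst sq cG j) ≫ fst j
      naturality := fun j j' h => by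
        simp only [Functor.const_obj_obj, Functor.const_obj_map, Category.id_comp]
        rw [← coneπ_w D hT g W ι fst sq cG h, (yon S).map_comp, Category.assoc, chartMap_fst,
          Category.assoc] }

/-- the map from the limit of the charts to the limit -/
noncomputable def chartLift : (yon S).obj cG.pt ⟶ c.pt :=
  hc.lift (chartCone D hT g W ι fst sq cG)

theorem chartLift_π (j : J) : chartLift D hT g W ι fst sq c hc cG ≫ c.π.app j =
    (yon S).map (coneπ D hT g W ι fst sq cG j) ≫ fst j := hc.fac _ j

include hcG in
/-- the limit of the charts is the base change of the limit -/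
theorem isPullback_chart_limit :
    IsPullback (chartLift D hT g W ι fst sq c hc cG)
      ((yon S).map (coneπ D hT g W ι fst sq cG j₀ ≫ ι j₀)) (c.π.app j₀) g := by
  have hfac := chartLift_π D hT g W ι fst sq c hc cG
  refine isPullback_iff_yon.2 ⟨?_, fun T x z hxz => ?_⟩
  · rw [hfac, (yon S).map_comp, Category.assoc, ← (sq j₀).w, hT.hom_ext (hT.from j₀) (𝟙 j₀),
      D.map_id, Category.comp_id]
  · obtain ⟨z', rfl⟩ := (yon S).map_surjective z
    -- the induced maps to the charts
    have hcond : ∀ j, (x ≫ c.π.app j) ≫ D.map (hT.from j) = (yon S).map z' ≫ g := by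
      intro j
      rw [Category.assoc, c.w, hxz]
    let w : ∀ j, T ⟶ W j := fun j =>
      (yon S).preimage ((sq j).lift (x ≫ c.π.app j) ((yon S).map z') (hcond j))
    have hw1 : ∀ j, (yon S).map (w j) ≫ fst j = x ≫ c.π.app j := fun j => by
      rw [Functor.map_preimage, (sq j).lift_fst]
    have hw2 : ∀ j, w j ≫ ι j = z' := fun j => by
      apply (yon S).map_injective
      rw [(yon S).map_comp, Functor.map_preimage, (sq j).lift_snd]
    have hwnat : ∀ {j j' : J} (h : j ⟶ j'), w j ≫ chartMap D hT g W ι fst sq h = w j' := by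
      intro j j' h
      apply chart_hom_ext D hT g W ι fst sq
      · rw [hw1, (yon S).map_comp, Category.assoc, chartMap_fst, ← Category.assoc, hw1,
          Category.assoc, c.w]
      · rw [hw2, Category.assoc, chartMap_ι, hw2]
    let s : Cone (chartDiagram D hT g W ι fst sq) :=
      { pt := T
        π :=
          { app := w
            naturality := fun j j' h => by
              simp only [Functor.const_obj_obj, Functor.const_obj_map]
              exact (hwnat h).symm } }
    have hs : ∀ j, hcG.lift s ≫ coneπ D hT g W ι fst sq cG j = w j := fun j => hcG.fac s j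
    refine ⟨(yon S).map (hcG.lift s), ⟨?_, ?_⟩, ?_⟩
    · apply hc.hom_ext
      intro j
      rw [Category.assoc, hfac, ← Category.assoc, ← (yon S).map_comp, hs, hw1]
    · rw [← (yon S).map_comp, ← Category.assoc, hs, hw2]
    · rintro u ⟨hu1, hu2⟩
      obtain ⟨u', rfl⟩ := (yon S).map_surjective u
      congr 1
      apply hcG.hom_ext
      intro j
      change u' ≫ coneπ D hT g W ι fst sq cG j = hcG.lift s ≫ coneπ D hT g W ι fst sq cG j
      rw [hs]
      apply chart_hom_ext D hT g W ι fst sq
      · rw [(yon S).map_comp, Category.assoc, ← hfac, ← Category.assoc, hu1, hw1]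
      · rw [hw2, Category.assoc, cG_ι]
        apply (yon S).map_injective
        rw [← hu2, ← (yon S).map_comp]

end Main
end LimChart

end Groth.Agent.Lib.Helper14.AS
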