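import Groth.Prelude.Def_AlgSp4
import Groth.Agent.Lib.Helper14.LimA
import Groth.Agent.Lib.Helper14.AlgSpRepTo
import Groth.Agent.Lib.Helper24.ZarGlue
import Groth.Agent.Lib.Helper24.ZarGlueAff
universe u
open CategoryTheory CategoryTheory.Limits AlgebraicGeometry Opposite
namespace Groth.Agent.Lib.Helper14.AS
variable {S : Scheme.{u}}
open AlgSp
open Groth.Agent.Lib.Helper24.ZarGlue Groth.Agent.Lib.Helper24.ZarGlueAff LimChart

/-- an affine morphism of sheaves is representable by affine morphisms (no algebraicity needed) -/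
theorem repWith_isAffineHom_of_isAffineMor' {X Y : Sp S} (f : X ⟶ Y)
    (hf : AlgSp.IsAffineMor f) : AlgSp.RepWith @IsAffineHom f := by
  have : MorphismProperty.RespectsIso @IsAffineHom :=
    MorphismProperty.IsStableUnderBaseChange.respectsIso
  have : (MorphismProperty.inverseImage (@IsAffineHom) (Over.forget S)).RespectsIso :=
    MorphismProperty.RespectsIso.inverseImage _ _
  refine MorphismProperty.relative.of_exists fun T t => ?_
  let E : Sp S := pullback f t
  let π : E ⟶ (yon S).obj T := pullback.snd f t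
  obtain ⟨U, ρ, e, he, hloc⟩ := exists_rep_of_locally π
    (fun O X _ => IsAffineOpen O ∧ IsAffine X.left) (by
    intro w
    obtain ⟨O, hO, hwO, -⟩ := exists_isAffineOpen_mem_and_subset (x := w) (U := ⊤) trivial
    have hZ : IsAffine (resOpen T O).left := hO
    obtain ⟨W', i, fstW, sqW, hW'⟩ := hf hZ ((yon S).map (resOpenι T O) ≫ t)
    let fst' : (yon S).obj W' ⟶ E := pullback.lift fstW ((yon S).map i ≫ (yon S).map (resOpenι T O))
      (by rw [Category.assoc]; exact sqW.w)
    refine ⟨O, hwO, W', i, fst', ?_, hO, hW'⟩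
    refine IsPullback.of_right ?_ (pullback.lift_snd _ _ _) (IsPullback.of_hasPullback f t)
    rw [pullback.lift_fst]
    exact sqW)
  refine ⟨U, e.hom ≫ pullback.fst f t, ρ, ?_, ?_⟩
  · refine IsPullback.of_iso (IsPullback.of_hasPullback f t) e.symm (Iso.refl _) (Iso.refl _)
      (Iso.refl _) ?_ ?_ ?_ ?_
    · simp
    · simp only [Iso.symm_hom, Iso.refl_hom, Category.comp_id]
      rw [← he, Iso.inv_hom_id_assoc]
    · simp
    · simp
  · change IsAffineHom ρ.left
    refine isAffineHom_of_forall_exists_isAffineOpen (f := ρ.left) fun x => ?_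
    obtain ⟨O, hxO, X', r, fst, j, -, sq', hO, hX'⟩ := hloc x
    exact ⟨O, hxO, hO, isAffineOpen_preimage_of_isPullback sq'⟩

section Lim

variable {I : Type u} [SmallCategory I] [IsCofiltered I] (D : I ⥤ Sp S)

/-- the base change of a cofiltered limit with affine transitions to an affine scheme
over a stage is an affine scheme, the limit of the base changes. -/
theorem exists_affine_pullback_of_limit
    (hDa : ∀ (i j : I) (φ : i ⟶ j), IsAffineMor (D.map φ))
    (c : Cone D) (hc : IsLimit c) (i : I) {Z : Over S} (hZ : IsAffine Z.left)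
    (g : (yon S).obj Z ⟶ D.obj i) :
    ∃ (W : Over i → Over S) (ι : ∀ j, W j ⟶ Z) (fst : ∀ j : Over i, (yon S).obj (W j) ⟶ D.obj j.left)
      (_ : ∀ j : Over i, IsPullback (fst j) ((yon S).map (ι j)) (D.map j.hom) g)
      (_ : ∀ j, IsAffine (W j).left)
      (G : Over i ⥤ Over S) (_ : ∀ j, G.obj j = W j)
      (cG : Cone G) (_ : IsLimit cG) (a : (yon S).obj cG.pt ⟶ c.pt) (b : cG.pt ⟶ Z),
      IsPullback a ((yon S).map b) (c.π.app i) g ∧ IsAffine cG.pt.left := by
  let D' : Over i ⥤ Sp S := Over.forget i ⋙ D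
  let c' : Cone D' := c.whisker (Over.forget i)
  have hc' : IsLimit c' := (Functor.Initial.isLimitWhiskerEquiv (Over.forget i) c).symm hc
  have hT : IsTerminal (Over.mk (𝟙 i)) := Over.mkIdTerminal
  have key : ∀ j : Over i, (hT.from j).left = j.hom := fun j => by
    have := Over.w (hT.from j)
    simpa using this
  choose W ι fst sq hW using fun j : Over i => hDa _ _ j.hom hZ g
  have sq' : ∀ j : Over i, IsPullback (fst j) ((yon S).map (ι j)) (D'.map (hT.from j)) g := by
    intro j
    have : D'.map (hT.from j) = D.map j.hom := by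
      change D.map (hT.from j).left = _
      rw [key]
    rw [this]
    exact sq j
  let G := chartDiagram D' hT g W ι fst sq'
  have : IsConnected (Over i) := IsCofiltered.isConnected _
  obtain ⟨hG, haff⟩ := hasLimit_of_forall_isAffine G hW
  have hp := isPullback_chart_limit D' hT g W ι fst sq' c' hc' (limit.cone G) (limit.isLimit G)
  exact ⟨W, ι, fst, sq, hW, G, fun _ => rfl, limit.cone G, limit.isLimit G, _, _, hp,
    haff _ (limit.isLimit G)⟩

theorem isAffineMor_of_limit
    (hDa : ∀ (i j : I) (φ : i ⟶ j), IsAffineMor (D.map φ))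
    (c : Cone D) (hc : IsLimit c) (i : I) : IsAffineMor (c.π.app i) := by
  intro Z hZ g
  obtain ⟨W, ι, fst, sq, hW, G, hG, cG, hcG, a, b, hp, haff⟩ :=
    exists_affine_pullback_of_limit D hDa c hc i hZ g
  exact ⟨cG.pt, b, a, hp, haff⟩

theorem isAlgSpace_of_limit (hD : ∀ i, IsAlgSpace (D.obj i))
    (hDa : ∀ (i j : I) (φ : i ⟶ j), IsAffineMor (D.map φ))
    (c : Cone D) (hc : IsLimit c) : IsAlgSpace c.pt := by
  obtain ⟨i₀⟩ := IsCofiltered.nonempty (C := I)
  exact isAlgSpace_of_representable_to (hD i₀) (c.π.app i₀)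
    (repWith_isAffineHom_of_isAffineMor' _ (isAffineMor_of_limit D hDa c hc i₀)).rep

end Lim

end Groth.Agent.Lib.Helper14.AS
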