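import Groth.Prelude.Def_AlgSp4
import Groth.Agent.Lib.Helper14.LimB
import Groth.Agent.Lib.Helper14.AlgSpQC
import Groth.Agent.Lib.Helper14.Glue3
import Mathlib.AlgebraicGeometry.AffineTransitionLimit
universe u
open CategoryTheory CategoryTheory.Limits AlgebraicGeometry Opposite
namespace Groth.Agent.Lib.Helper14.AS
variable {S : Scheme.{u}}
open AlgSp
open LimChart

section Lim

variable {I : Type u} [SmallCategory I] [IsCofiltered I]

/-- A compatible system of base changes of a cofiltered system (and of its limit) to a scheme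
over a stage. -/
structure ChartSystem (D : I ⥤ Sp S) (c : Cone D) (i : I) {Z : Over S}
    (g : (yon S).obj Z ⟶ D.obj i) where
  G : Over i ⥤ Over S
  ι : ∀ j, G.obj j ⟶ Z
  fst : ∀ j : Over i, (yon S).obj (G.obj j) ⟶ D.obj j.left
  sq : ∀ j : Over i, IsPullback (fst j) ((yon S).map (ι j)) (D.map j.hom) g
  map_ι : ∀ {j j' : Over i} (h : j ⟶ j'), G.map h ≫ ι j' = ι j
  map_fst : ∀ {j j' : Over i} (h : j ⟶ j'),
    (yon S).map (G.map h) ≫ fst j' = fst j ≫ D.map h.left
  cG : Cone G
  hcG : IsLimit cG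
  a : (yon S).obj cG.pt ⟶ c.pt
  b : cG.pt ⟶ Z
  isPullback : IsPullback a ((yon S).map b) (c.π.app i) g
  π_ι : ∀ j, cG.π.app j ≫ ι j = b
  a_π : ∀ j : Over i, a ≫ c.π.app j.left = (yon S).map (cG.π.app j) ≫ fst j

variable (D : I ⥤ Sp S)

theorem exists_chartSystem
    (hDa : ∀ (i j : I) (φ : i ⟶ j), IsAffineMor (D.map φ))
    (c : Cone D) (hc : IsLimit c) (i : I) {Z : Over S} (hZ : IsAffine Z.left)
    (g : (yon S).obj Z ⟶ D.obj i) :
    ∃ cs : ChartSystem D c i g, (∀ j, IsAffine (cs.G.obj j).left) ∧ IsAffine cs.cG.pt.left := by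
  let D' : Over i ⥤ Sp S := Over.forget i ⋙ D
  let c' : Cone D' := c.whisker (Over.forget i)
  have hc' : IsLimit c' := (Functor.Initial.isLimitWhiskerEquiv (Over.forget i) c).symm hc
  have hT : IsTerminal (Over.mk (𝟙 i)) := Over.mkIdTerminal
  have key : ∀ j : Over i, (hT.from j).left = j.hom := fun j => by
    have := Over.w (hT.from j)
    simpa using this
  choose W ι fst sq hW using fun j : Over i => hDa _ _ j.hom hZ g
  have sq' : ∀ j : Over i, IsPullback (fst j) ((yon S).map (ι j)) (D'.map (hT.from j)) g := by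
    intro j
    have : D'.map (hT.from j) = D.map j.hom := by
      change D.map (hT.from j).left = _
      rw [key]
    rw [this]
    exact sq j
  let G := chartDiagram D' hT g W ι fst sq'
  have : IsConnected (Over i) := IsCofiltered.isConnected _
  obtain ⟨hG, haff⟩ := hasLimit_of_forall_isAffine G hW
  have hp := isPullback_chart_limit D' hT g W ι fst sq' c' hc' (limit.cone G) (limit.isLimit G)
  refine ⟨{
    G := G
    ι := ι
    fst := fst
    sq := sq
    map_ι := fun h => chartMap_ι D' hT g W ι fst sq' h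
    map_fst := fun h => chartMap_fst D' hT g W ι fst sq' h
    cG := limit.cone G
    hcG := limit.isLimit G
    a := chartLift D' hT g W ι fst sq' c' hc' (limit.cone G)
    b := coneπ D' hT g W ι fst sq' (limit.cone G) (Over.mk (𝟙 i)) ≫ ι (Over.mk (𝟙 i))
    isPullback := hp
    π_ι := fun j => cG_ι D' hT g W ι fst sq' (limit.cone G) j
    a_π := fun j => chartLift_π D' hT g W ι fst sq' c' hc' (limit.cone G) j }, hW,
    haff _ (limit.isLimit G)⟩

/-- points -/
theorem nonempty_points_of_limit (hDa : ∀ (i j : I) (φ : i ⟶ j), IsAffineMor (D.map φ))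
    (c : Cone D) (hc : IsLimit c)
    (hqc : ∀ i, IsQuasiCompactSp (D.obj i)) (hne : ∀ i, Nonempty (Points (D.obj i))) :
    Nonempty (Points c.pt) := by
  obtain ⟨i₀⟩ := IsCofiltered.nonempty (C := I)
  obtain ⟨U, p, hU, hpe, hps⟩ := isQuasiCompactSp_iff_exists_affine_chart.1 (hqc i₀)
  obtain ⟨cs, haff, haffc⟩ := exists_chartSystem D hDa c hc i₀ hU p
  have hne' : ∀ j, Nonempty (cs.G.obj j).left := by
    intro j
    obtain ⟨x⟩ := hne j.left
    obtain ⟨u, hu⟩ := ofPt_surjective_of_repWith hps (Points.map (D.map j.hom) x)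
    obtain ⟨v, -, -⟩ := exists_point_of_isPullback_yon' (cs.sq j) x u hu.symm
    exact ⟨v⟩
  have : IsConnected (Over i₀) := IsCofiltered.isConnected _
  let D' := cs.G ⋙ Over.forget S
  have h1 : ∀ {a b : Over i₀} (f : a ⟶ b), IsAffineHom (D'.map f) := by
    intro a b f
    have := haff a
    have := haff b
    exact isAffineHom_of_isAffine (X := (cs.G.obj a).left) (Y := (cs.G.obj b).left) _
  have h2 : ∀ j, Nonempty (D'.obj j) := hne'
  have h3 : ∀ j, CompactSpace (D'.obj j) := fun j => by
    have := haff j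
    exact inferInstanceAs (CompactSpace (cs.G.obj j).left)
  have : Nonempty ((Over.forget S).mapCone cs.cG).pt :=
    Scheme.nonempty_of_isLimit D' ((Over.forget S).mapCone cs.cG)
      (isLimitOfPreserves (Over.forget S) cs.hcG)
  obtain ⟨v⟩ := this
  exact ⟨Points.ofPt cs.a v⟩

end Lim

end Groth.Agent.Lib.Helper14.AS
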