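import Groth.Prelude.Def_AlgSp4
import Groth.Agent.Lib.Helper14.LimC
import Groth.Agent.Lib.Helper14.AlgSpLocP
import Groth.Agent.Lib.Helper14.AlgSpBase
import Groth.Agent.Lib.Helper14.FppfLocalInst2
import Groth.Agent.S2076
universe u
open CategoryTheory CategoryTheory.Limits AlgebraicGeometry Opposite
namespace Groth.Agent.Lib.Helper14.AS
variable {S : Scheme.{u}}
open AlgSp

set_option backward.isDefEq.respectTransparency.types false in
/-- every etale surjective chart of a quasi-compact algebraic space can be refined to an affine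
etale surjective chart -/
theorem exists_affine_chart_refinement {X : Sp S} (hX : IsAlgSpace X) (hqc : IsQuasiCompactSp X)
    {U : Over S} (p : (yon S).obj U ⟶ X) (hpe : RepWith @Etale p) (hps : RepWith @Surjective p) :
    ∃ (U' : Over S) (e : U' ⟶ U), IsAffine U'.left ∧ RepWith @Etale ((yon S).map e ≫ p) ∧
      RepWith @Surjective ((yon S).map e ≫ p) := by
  have hc : CompactSpace (Points X) := (isQuasiCompactSp_iff_compactSpace hX).1 hqc
  let 𝒰 := U.left.affineCover
  have hopen : ∀ i, IsOpen (Points.ofPt p '' Set.range (𝒰.f i)) := fun i =>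
    isOpenMap_ofPt p hpe _ (𝒰.f i).isOpenEmbedding.isOpen_range
  have hcov : (Set.univ : Set (Points X)) ⊆ ⋃ i, Points.ofPt p '' Set.range (𝒰.f i) := by
    intro x _
    obtain ⟨u, rfl⟩ := ofPt_surjective_of_repWith hps x
    exact Set.mem_iUnion.2 ⟨𝒰.idx u, u, 𝒰.covers u, rfl⟩
  obtain ⟨t, ht⟩ := isCompact_univ.elim_finite_subcover _ hopen hcov
  let V : U.left.Opens := ⨆ i ∈ t, (𝒰.f i).opensRange
  have hVset : (V : Set U.left) = ⋃ i ∈ t, Set.range (𝒰.f i) := by
    simp [V, Scheme.Hom.coe_opensRange]
  have hVc : IsCompact (V : Set U.left) := by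
    rw [hVset]
    exact t.finite_toSet.isCompact_biUnion fun i _ => isCompact_range (𝒰.f i).continuous
  have hVcov : Points.ofPt p '' (V : Set U.left) = Set.univ := by
    rw [hVset, Set.image_iUnion₂]
    exact Set.eq_univ_of_univ_subset ht
  have hVe := repWith_etale_restrict hpe V
  have hVs := repWith_surjective_restrict hpe V hVcov
  have : CompactSpace (openSub U V).left := isCompact_iff_compactSpace.mp hVc
  obtain ⟨Y, q, hq1, hq2, hY⟩ :=
    (openSub U V).left.exists_hom_isAffine_of_isZariskiLocalAtSource @Etale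
  let V' : Over S := Over.mk (q ≫ (openSub U V).hom)
  let j : V' ⟶ openSub U V := Over.homMk q rfl
  have hje : RepWith @Etale ((yon S).map j) := (repWith_yon_map_iff _ _).2 hq2
  have hjs : RepWith @Surjective ((yon S).map j) := (repWith_yon_map_iff _ _).2 hq1
  refine ⟨V', j ≫ openSubι U V, hY, ?_, ?_⟩
  · rw [(yon S).map_comp, Category.assoc]
    exact repWith_comp _ hje hVe
  · rw [(yon S).map_comp, Category.assoc]
    exact repWith_comp _ hjs hVs

section Lim

variable {I : Type u} [SmallCategory I] [IsCofiltered I] {D : I ⥤ Sp S} {c : Cone D}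
  {i : I} {Z : Over S} {g : (yon S).obj Z ⟶ D.obj i}

/-- the limit chart is the base change of each stage chart -/
theorem chartSystem_isPullback_stage (cs : ChartSystem D c i g) (j : Over i) :
    IsPullback cs.a ((yon S).map (cs.cG.π.app j)) (c.π.app j.left) (cs.fst j) := by
  have hbig : IsPullback cs.a ((yon S).map (cs.cG.π.app j) ≫ (yon S).map (cs.ι j))
      (c.π.app j.left ≫ D.map j.hom) g := by
    have h1 : c.π.app j.left ≫ D.map j.hom = c.π.app i := c.w j.hom
    rw [h1, ← (yon S).map_comp, cs.π_ι]
    exact cs.isPullback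
  exact IsPullback.of_bot hbig (cs.a_π j) (cs.sq j)

set_option backward.isDefEq.respectTransparency.types false in
theorem eventually_closedImmersion_of_limit
    (B : Space S) (D : I ⥤ Sp S) (hD : ∀ i, IsAlgSpace (D.obj i))
    (t : D ⟶ (Functor.const I).obj B.obj)
    (hDa : ∀ (i j : I) (φ : i ⟶ j), IsAffineMor (D.map φ))
    (c : Cone D) (hc : IsLimit c)
    (hqc : ∀ i, IsQuasiCompactSp (D.obj i))
    (Y : Space S) (y : Y.obj ⟶ c.pt) (hy : RepWith @IsClosedImmersion y) (i₁ : I)
    (hYB : LocP @LocallyOfFiniteType (y ≫ c.π.app i₁ ≫ t.app i₁)) :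
    ∃ i₀ : I, ∀ (i : I) (_ : i ⟶ i₀), RepWith @IsClosedImmersion (y ≫ c.π.app i) := by
  -- charts
  obtain ⟨W₀, w, hwe, hws⟩ := B.property.atlas
  obtain ⟨U, a, h, hae, has, hcomm⟩ := exists_chart_diagram (hD i₁) (t.app i₁) w hwe hws
  obtain ⟨U', e, hU', ha'e, ha's⟩ := exists_affine_chart_refinement (hD i₁) (hqc i₁) a hae has
  have hcomm' : ((yon S).map e ≫ a) ≫ t.app i₁ = (yon S).map (e ≫ h) ≫ w := by
    rw [Category.assoc, hcomm, (yon S).map_comp, Category.assoc]
  obtain ⟨cs, haffG, haffc⟩ := exists_chartSystem D hDa c hc i₁ hU' ((yon S).map e ≫ a)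
  have hconn : IsConnected (Over i₁) := IsCofiltered.isConnected _
  -- the closed subscheme of the limit chart
  have sqV := hy.rep.isPullback cs.a
  have hVc : IsClosedImmersion (hy.rep.snd cs.a).left := hy.property_snd cs.a
  have hcsae : RepWith @Etale cs.a := repWith_of_isPullback _ cs.isPullback.flip ha'e
  have hVe : RepWith @Etale (hy.rep.fst cs.a) := repWith_of_isPullback _ sqV.flip hcsae
  -- the structure map to `W₀` is locally of finite type
  have hlft : LocallyOfFiniteType (hy.rep.snd cs.a ≫ cs.b ≫ e ≫ h).left := by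
    refine hYB (hy.rep.fst cs.a) w (hy.rep.snd cs.a ≫ cs.b ≫ e ≫ h) hVe hwe ?_
    rw [← Category.assoc, sqV.w, Category.assoc, ← Category.assoc cs.a, cs.isPullback.w,
      Category.assoc, hcomm']
    simp only [Functor.map_comp, Category.assoc]
  -- the system over `W₀`
  let D' : Over i₁ ⥤ Over W₀.left :=
    { obj := fun j => Over.mk (cs.ι j ≫ e ≫ h).left
      map := fun {j j'} f => Over.homMk (cs.G.map f).left (by
        change (cs.G.map f).left ≫ (cs.ι j' ≫ e ≫ h).left = (cs.ι j ≫ e ≫ h).left
        rw [← Over.comp_left, ← Category.assoc, cs.map_ι])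
      map_id := fun j => by
        ext
        change (cs.G.map (𝟙 j)).left = _
        rw [cs.G.map_id]; rfl
      map_comp := fun f f' => by
        ext
        change (cs.G.map (f ≫ f')).left = _
        rw [cs.G.map_comp]; rfl }
  let c' : Cone D' :=
    { pt := Over.mk (cs.b ≫ e ≫ h).left
      π :=
        { app := fun j => Over.homMk (cs.cG.π.app j).left (by
            change (cs.cG.π.app j).left ≫ (cs.ι j ≫ e ≫ h).left = (cs.b ≫ e ≫ h).left
            rw [← Over.comp_left, ← Category.assoc, cs.π_ι])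
          naturality := fun j j' f => by
            ext
            change (𝟙 _) ≫ (cs.cG.π.app j').left = (cs.cG.π.app j).left ≫ (cs.G.map f).left
            rw [Category.id_comp, ← Over.comp_left, cs.cG.w] } }
  have hc' : IsLimit c' := by
    refine isLimitOfReflects (Over.forget W₀.left) ?_
    exact isLimitOfPreserves (Over.forget S) cs.hcG
  have h1 : ∀ (a b : Over i₁) (f : a ⟶ b), IsAffineHom (D'.map f).left := by
    intro a b f
    have := haffG a
    have := haffG b
    exact isAffineHom_of_isAffine (X := (cs.G.obj a).left) (Y := (cs.G.obj b).left) _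
  have h2 : ∀ j, CompactSpace (D'.obj j).left := fun j => by
    have := haffG j
    exact inferInstanceAs (CompactSpace (cs.G.obj j).left)
  have h3 : IsClosedImmersion (Y := c'.pt.left) (hy.rep.snd cs.a).left := hVc
  have h4 : LocallyOfFiniteType ((hy.rep.snd cs.a).left ≫ c'.pt.hom) := hlft
  obtain ⟨j, hj⟩ := Groth.Agent.S2076.result W₀.left D' c' hc' (hy.rep.snd cs.a).left
  have hj' : IsClosedImmersion ((hy.rep.snd cs.a).left ≫ (cs.cG.π.app j).left) := hj
  refine ⟨j.left, fun i ψ => ?_⟩
  let j' : Over i₁ := Over.mk (ψ ≫ j.hom)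
  let f : j' ⟶ j := Over.homMk ψ rfl
  have hcl : IsClosedImmersion (hy.rep.snd cs.a ≫ cs.cG.π.app j').left := by
    have e1 : (hy.rep.snd cs.a ≫ cs.cG.π.app j').left ≫ (cs.G.map f).left =
        (hy.rep.snd cs.a).left ≫ (cs.cG.π.app j).left := by
      rw [← Over.comp_left, Category.assoc, cs.cG.w, Over.comp_left]
    have := haffG j'
    have := haffG j
    have : IsClosedImmersion ((hy.rep.snd cs.a ≫ cs.cG.π.app j').left ≫ (cs.G.map f).left) := by
      rw [e1]; exact hj'
    exact IsClosedImmersion.of_comp _ (cs.G.map f).left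
  -- representability of the composite
  have hrep : Representable (y ≫ c.π.app i) :=
    MorphismProperty.comp_mem _ _ _ hy.rep
      (repWith_isAffineHom_of_isAffineMor' _ (isAffineMor_of_limit D hDa c hc i)).rep
  have hqe : RepWith @Etale (cs.fst j') := repWith_of_isPullback _ (cs.sq j').flip ha'e
  have hqs : RepWith @Surjective (cs.fst j') := repWith_of_isPullback _ (cs.sq j').flip ha's
  have : Sheaf.IsLocallySurjective (cs.fst j') := isLocallySurjective_of_etale_surjective _ hqe hqs
  have sqst := chartSystem_isPullback_stage cs j'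
  have sqbig : IsPullback (hy.rep.fst cs.a) ((yon S).map (hy.rep.snd cs.a ≫ cs.cG.π.app j'))
      (y ≫ c.π.app i) (cs.fst j') := by
    rw [(yon S).map_comp]
    exact (sqV.flip.paste_horiz sqst.flip).flip
  exact (repWith_iff_of_chart hrep (cs.fst j') sqbig @IsClosedImmersion).2 hcl

end Lim

end Groth.Agent.Lib.Helper14.AS
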