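import Groth.Agent.Lib.Helper14.AlgSpProdQC
import Groth.Agent.Lib.Helper14.AlgSpAffine
import Groth.Agent.Lib.Helper14.AlgSpSect

/-!
# Quasi-separatedness in terms of fibre products of charts (helper14)
-/

universe u
open CategoryTheory CategoryTheory.Limits AlgebraicGeometry Opposite Topology

namespace Groth.Agent.Lib.Helper14.AS

open AlgSp

variable {S : Scheme.{u}}

/-- Two-chart version of `isPullback_diag_prodChart`. -/
theorem isPullback_diag_prodChart₂ {X : Sp S} {A B R : Over S} {a : (yon S).obj A ⟶ X}
    {b : (yon S).obj B ⟶ X} {fst : R ⟶ A} {snd : R ⟶ B}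
    (sq : IsPullback ((yon S).map fst) ((yon S).map snd) a b) :
    IsPullback ((yon S).map fst ≫ a) ((yon S).map (prod.lift fst snd)) (Limits.diag X)
      (prodChart a b) := by
  have h := isPullback_diag_of_isPullback' sq
  refine IsPullback.of_iso h (Iso.refl _) (Iso.refl _) (asIso (prodComparison (yon S) A B)).symm
    (Iso.refl _) (by simp) ?_ (by simp) ?_
  · simp only [Iso.symm_hom, asIso_inv, Iso.refl_hom, Category.id_comp, IsIso.comp_inv_eq]
    exact (yon_map_lift_prodComparison fst snd).symm
  · simp only [Iso.symm_hom, asIso_inv, Iso.refl_hom, Category.comp_id, prodChart,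
      IsIso.inv_hom_id_assoc]

set_option backward.isDefEq.respectTransparency.types false in
/-- Over a quasi-separated base, fibre products of quasi-compact schemes over a quasi-separated
sheaf are quasi-compact. -/
theorem compactSpace_of_isPullback_of_isQuasiSeparatedSp [QuasiSeparatedSpace ↥S] {X : Sp S}
    (hX : IsQuasiSeparatedSp X) {U V P : Over S} {a : (yon S).obj U ⟶ X} {b : (yon S).obj V ⟶ X}
    {fst : P ⟶ U} {snd : P ⟶ V} [CompactSpace ↥U.left] [CompactSpace ↥V.left]
    (h : IsPullback ((yon S).map fst) ((yon S).map snd) a b) : CompactSpace ↥P.left := by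
  have sq := isPullback_diag_prodChart₂ h
  have hqc : QuasiCompact (prod.lift fst snd).left := hX.property _ _ _ sq
  have := compactSpace_prod_left U V
  exact QuasiCompact.compactSpace_of_compactSpace (prod.lift fst snd).left

set_option backward.isDefEq.respectTransparency.types false in
/-- If fibre products of affine schemes over `X` are quasi-compact, `X` is quasi-separated. -/
theorem isQuasiSeparatedSp_of_affine_pullback_compact {X : Sp S} (hX : IsAlgSpace X)
    (h : ∀ (U V P : Over S) (a : (yon S).obj U ⟶ X) (b : (yon S).obj V ⟶ X)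
      (fst : P ⟶ U) (snd : P ⟶ V), IsAffine U.left → IsAffine V.left →
      IsPullback ((yon S).map fst) ((yon S).map snd) a b → CompactSpace ↥P.left) :
    IsQuasiSeparatedSp X := by
  refine repWith_of_affine hX.diag fun T hT z W a0 b0 sq0 => ?_
  have rep := repDiag_of_isAlgSpace hX (z ≫ prod.fst)
  have sq' := rep.isPullback (z ≫ prod.snd)
  obtain ⟨fst', hfst'⟩ := (yon S).map_surjective (rep.fst (z ≫ prod.snd))
  rw [← hfst'] at sq'
  have hc : CompactSpace ↥(rep.pullback (z ≫ prod.snd)).left := h _ _ _ _ _ _ _ hT hT sq'
  obtain ⟨k, sqk⟩ := isPullback_diag_of_isPullback z sq0 sq'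
  have sqk' := sqk.map (Over.forget S)
  have hsep : IsSeparated T.hom := inferInstance
  have hdiag : IsClosedImmersion (Limits.diag T).left := by
    have e : (Limits.diag T).left = pullback.diagonal T.hom ≫ (Over.prodLeftIsoPullback T T).inv := by
      rw [Iso.eq_comp_inv]
      apply pullback.hom_ext
      · rw [Category.assoc, Over.prodLeftIsoPullback_hom_fst, ← Over.comp_left, Limits.diag,
          prod.lift_fst, pullback.diagonal_fst, Over.id_left]
      · rw [Category.assoc, Over.prodLeftIsoPullback_hom_snd, ← Over.comp_left, Limits.diag,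
          prod.lift_snd, pullback.diagonal_snd, Over.id_left]
    rw [e]
    infer_instance
  have hk : IsClosedImmersion k.left :=
    MorphismProperty.of_isPullback (P := @IsClosedImmersion) sqk'.flip hdiag
  have : CompactSpace ↥W.left := QuasiCompact.compactSpace_of_compactSpace k.left
  exact inferInstanceAs (QuasiCompact b0.left)

end Groth.Agent.Lib.Helper14.AS
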