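import Groth.Prelude.Def_AlgSpSub
import Groth.Agent.Lib.Helper14.Glue2
import Groth.Agent.Lib.Helper14.Glue3
import Groth.Agent.Lib.Helper14.FpqcBase4
import Groth.Agent.Lib.Helper14.AlgSpProper
universe u
open CategoryTheory CategoryTheory.Limits AlgebraicGeometry Opposite
namespace Groth.Agent.Lib.Helper14.AS
variable {S : Scheme.{u}}
open AlgSp

theorem points_map_surjective_of_isIso {F G : Sp S} (p : F ⟶ G) [IsIso p] :
    Function.Surjective (Points.map p) := by
  intro c
  refine ⟨Points.map (inv p) c, ?_⟩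
  rw [← Points.map_comp, IsIso.inv_hom_id, Points.map_id]

set_option backward.isDefEq.respectTransparency.types false in
theorem mono_of_repWith_openImm {F G : Sp S} {j : F ⟶ G} (hj : RepWith @IsOpenImmersion j) :
    Mono j :=
  mono_of_repWith_mono (repWith_mono (fun _ _ g hg => by
    have : IsOpenImmersion g := hg
    exact (inferInstance : Mono g)) hj)

/-- the two parts of an elementary distinguished square are jointly locally surjective -/
theorem jls_of_isElemDistSq {U V W : Sp S} (hV : IsAlgSpace V) (hW : IsAlgSpace W)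
    (j : U ⟶ W) (f : V ⟶ W) (hsq : IsElemDistSq j f) : JLS j f := by
  obtain ⟨hj, hf, Tc, P', i, p₁, p₂, ⟨-, hi, -⟩, sqT, hp₁⟩ := hsq
  intro T w
  refine exists_cover_of_pointwise j f w fun τ => ?_
  by_cases hx : Points.ofPt w τ ∈ Set.range (Points.map j)
  · obtain ⟨T', t, h1, h2, h3, h4⟩ := exists_lift_at_point_of_openImmersion j hj w τ hx
    exact ⟨T', t, h1, h2, h3, Or.inl h4⟩
  · have hx' : Points.ofPt w τ ∈ Set.range (Points.map i) := by rw [hi]; exact hx
    obtain ⟨c, hc⟩ := hx'
    obtain ⟨p', rfl⟩ := points_map_surjective_of_isIso p₁ c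
    have hxf : Points.ofPt w τ ∈ Set.range (Points.map f) :=
      ⟨Points.map p₂ p', by rw [← Points.map_comp, ← sqT.w, Points.map_comp, hc]⟩
    obtain ⟨T', t, h1, h2, h3, h4⟩ := exists_lift_at_point_of_isEtaleMor hV hW f hf w τ hxf
    exact ⟨T', t, h1, h2, h3, Or.inr h4⟩


set_option backward.isDefEq.respectTransparency.types false in
/-- for an elementary distinguished square, `V ×_W V` is covered by the diagonal and the part
over `U` -/
theorem jls_diagonal_of_isElemDistSq {U V W : Sp S} (hV : IsAlgSpace V) (hW : IsAlgSpace W)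
    (j : U ⟶ W) (f : V ⟶ W) (hsq : IsElemDistSq j f) :
    JLS (pullback.diagonal f) (pullback.fst (pullback.fst f f ≫ f) j) := by
  obtain ⟨hj, hf, Tc, P', i, p₁, p₂, ⟨-, hi, -⟩, sqT, hp₁⟩ := hsq
  have hδ : RepWith @IsOpenImmersion (pullback.diagonal f) :=
    repWith_isOpenImmersion_diagonal_of_unramified hV hW f
      (locP_mono (fun _ _ g hg => by
        have : Etale g := hg
        exact ⟨inferInstance, inferInstance⟩) (locP_etale_of_isEtaleMor hf))
  have sqU := IsPullback.of_hasPullback (pullback.fst f f ≫ f) j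
  have hm : RepWith @IsOpenImmersion (pullback.fst (pullback.fst f f ≫ f) j) :=
    repWith_of_isPullback _ sqU.flip hj
  intro T w
  refine exists_cover_of_pointwise _ _ w fun τ => ?_
  by_cases hx : Points.map (pullback.fst f f ≫ f) (Points.ofPt w τ) ∈ Set.range (Points.map j)
  · obtain ⟨u₀, hu₀⟩ := hx
    obtain ⟨z, hz, -⟩ := points_exists_of_isPullback sqU _ u₀ hu₀.symm
    obtain ⟨T', t, h1, h2, h3, h4⟩ :=
      exists_lift_at_point_of_openImmersion _ hm w τ ⟨z, hz⟩
    exact ⟨T', t, h1, h2, h3, Or.inr h4⟩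
  · have hx' : Points.map (pullback.fst f f ≫ f) (Points.ofPt w τ) ∈
        Set.range (Points.map i) := by rw [hi]; exact hx
    obtain ⟨c, hc⟩ := hx'
    obtain ⟨QT, g₁, g₂, sqQ⟩ : ∃ (QT : Sp S) (g₁ : QT ⟶ pullback f f) (g₂ : QT ⟶ Tc),
        IsPullback g₁ g₂ (pullback.fst f f ≫ f) i := ⟨_, _, _, IsPullback.of_hasPullback _ _⟩
    obtain ⟨z', hz', -⟩ := points_exists_of_isPullback sqQ _ c hc.symm
    -- the part over the closed complement lies in the diagonal
    have c1 : g₂ ≫ i = (g₁ ≫ pullback.fst f f) ≫ f := by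
      rw [Category.assoc, sqQ.w]
    have c2 : g₂ ≫ i = (g₁ ≫ pullback.snd f f) ≫ f := by
      rw [Category.assoc, ← pullback.condition (f := f) (g := f), ← Category.assoc, ← c1]
    have hs : sqT.lift _ _ c1 = sqT.lift _ _ c2 := by
      rw [← cancel_mono p₁, sqT.lift_fst, sqT.lift_fst]
    have heq : g₁ ≫ pullback.fst f f = g₁ ≫ pullback.snd f f := by
      rw [← sqT.lift_snd _ _ c1, hs, sqT.lift_snd]
    have hfac : g₁ = (g₁ ≫ pullback.fst f f) ≫ pullback.diagonal f := by
      apply pullback.hom_ext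
      · rw [Category.assoc, pullback.diagonal_fst, Category.comp_id]
      · rw [Category.assoc, pullback.diagonal_snd, Category.comp_id, heq]
    have hz0 : Points.ofPt w τ ∈ Set.range (Points.map (pullback.diagonal f)) := by
      refine ⟨Points.map (g₁ ≫ pullback.fst f f) z', ?_⟩
      rw [← Points.map_comp, ← hfac, hz']
    obtain ⟨T', t, h1, h2, h3, h4⟩ :=
      exists_lift_at_point_of_openImmersion _ hδ w τ hz0
    exact ⟨T', t, h1, h2, h3, Or.inl h4⟩


set_option backward.isDefEq.respectTransparency.types false in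
/-- descent of a pair of compatible morphisms along an elementary distinguished square -/
theorem exists_desc_of_isElemDistSq {U V W P Z : Sp S} (hV : IsAlgSpace V) (hW : IsAlgSpace W)
    (j : U ⟶ W) (f : V ⟶ W) (hsq : IsElemDistSq j f) (p : P ⟶ U) (q : P ⟶ V)
    (hP : IsPullback p q j f) (a : U ⟶ Z) (b : V ⟶ Z) (hab : p ≫ a = q ≫ b) :
    ∃ k : W ⟶ Z, j ≫ k = a ∧ f ≫ k = b := by
  have hj : RepWith @IsOpenImmersion j := hsq.1
  have : Mono j := mono_of_repWith_openImm hj
  refine exists_desc_of_JLS (jls_of_isElemDistSq hV hW j f hsq) a b ?_ ?_ ?_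
  · intro T x x' hxx
    rw [(cancel_mono j).1 hxx]
  · intro T x y hxy
    have e1 : hP.lift x y hxy ≫ p = x := hP.lift_fst _ _ _
    have e2 : hP.lift x y hxy ≫ q = y := hP.lift_snd _ _ _
    calc x ≫ a = (hP.lift x y hxy ≫ p) ≫ a := by rw [e1]
      _ = (hP.lift x y hxy ≫ q) ≫ b := by rw [Category.assoc, Category.assoc, hab]
      _ = y ≫ b := by rw [e2]
  · intro T y y' hyy
    have aux : ∀ (QU : Sp S) (m : QU ⟶ pullback f f) (u : QU ⟶ U),
        IsPullback m u (pullback.fst f f ≫ f) j →
        m ≫ pullback.fst f f ≫ b = m ≫ pullback.snd f f ≫ b := by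
      intro QU m u sqU
      have c1 : u ≫ j = (m ≫ pullback.fst f f) ≫ f := by rw [Category.assoc, sqU.w]
      have c2 : u ≫ j = (m ≫ pullback.snd f f) ≫ f := by
        rw [Category.assoc, ← pullback.condition (f := f) (g := f), ← Category.assoc, ← c1]
      have e1 : hP.lift _ _ c1 ≫ q = m ≫ pullback.fst f f := hP.lift_snd _ _ _
      have e2 : hP.lift _ _ c2 ≫ q = m ≫ pullback.snd f f := hP.lift_snd _ _ _
      rw [← Category.assoc, ← Category.assoc, ← e1, ← e2, Category.assoc, Category.assoc,
        ← hab, ← Category.assoc, ← Category.assoc, hP.lift_fst, hP.lift_fst]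
    have key : pullback.fst f f ≫ b = pullback.snd f f ≫ b := by
      refine (jls_diagonal_of_isElemDistSq hV hW j f hsq).hom_ext _ _ ?_ ?_
      · rw [← Category.assoc, ← Category.assoc, pullback.diagonal_fst, pullback.diagonal_snd]
      · exact aux _ _ _ (IsPullback.of_hasPullback _ _)
    have e1 : pullback.lift y y' hyy ≫ pullback.fst f f = y := pullback.lift_fst _ _ _
    have e2 : pullback.lift y y' hyy ≫ pullback.snd f f = y' := pullback.lift_snd _ _ _
    calc y ≫ b = (pullback.lift y y' hyy ≫ pullback.fst f f) ≫ b := by rw [e1]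
      _ = (pullback.lift y y' hyy ≫ pullback.snd f f) ≫ b := by
        rw [Category.assoc, Category.assoc, key]
      _ = y' ≫ b := by rw [e2]

/-- S10695: an elementary distinguished square is a pushout of algebraic spaces -/
theorem isPushout_of_isElemDistSq {U V W P : AlgSp.Space S} (j : U ⟶ W) (f : V ⟶ W)
    (hsq : AlgSp.IsElemDistSq j.hom f.hom) (p : P ⟶ U) (q : P ⟶ V)
    (hP : IsPullback p.hom q.hom j.hom f.hom) : IsPushout p q j f := by
  have hw : p ≫ j = q ≫ f := by
    apply ObjectProperty.hom_ext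
    exact hP.w
  have H := fun (s : PushoutCocone p q) =>
    exists_desc_of_isElemDistSq V.property W.property j.hom f.hom
      hsq p.hom q.hom hP s.inl.hom s.inr.hom (congrArg (fun m => m.hom) s.condition)
  choose k hk1 hk2 using H
  refine IsPushout.of_isColimit' ⟨hw⟩ (PushoutCocone.IsColimit.mk _
    (fun s => ObjectProperty.homMk (k s)) ?_ ?_ ?_)
  · intro s
    apply ObjectProperty.hom_ext
    exact hk1 s
  · intro s
    apply ObjectProperty.hom_ext
    exact hk2 s
  · intro s m h1 h2
    apply ObjectProperty.hom_ext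
    change m.hom = k s
    refine (jls_of_isElemDistSq V.property W.property j.hom f.hom hsq).hom_ext _ _ ?_ ?_
    · rw [hk1 s]
      exact congrArg (fun m => m.hom) h1
    · rw [hk2 s]
      exact congrArg (fun m => m.hom) h2

end Groth.Agent.Lib.Helper14.AS
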