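import Groth.Prelude.Def_AlgSpSub
import Groth.Agent.Lib.Helper14.ElemDist
import Groth.Agent.Lib.Helper14.AlgSpDiag3
universe u
open CategoryTheory CategoryTheory.Limits AlgebraicGeometry Opposite
namespace Groth.Agent.Lib.Helper14.AS
variable {S : Scheme.{u}}
open AlgSp

/-- the magic square for abstract fibre products -/
theorem isPullback_diagonal_of_isPullback_abs {C : Type*} [Category C] [HasPullbacks C]
    {X Y A B PX PY : C} (g : X ⟶ Y) (a : A ⟶ X) (b : B ⟶ X) {pX : PX ⟶ A} {qX : PX ⟶ B}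
    (hPX : IsPullback pX qX a b) {pY : PY ⟶ A} {qY : PY ⟶ B}
    (hPY : IsPullback pY qY (a ≫ g) (b ≫ g)) (c : PX ⟶ PY) (hc₁ : c ≫ pY = pX)
    (hc₂ : c ≫ qY = qX) :
    IsPullback (pX ≫ a) c (pullback.diagonal g)
      (pullback.lift (pY ≫ a) (qY ≫ b) (by rw [Category.assoc, Category.assoc, hPY.w])) := by
  refine isPullback_of_exists_unique ?_ ?_ ?_
  · apply pullback.hom_ext
    · rw [Category.assoc, pullback.diagonal_fst, Category.comp_id, Category.assoc,
        pullback.lift_fst, ← Category.assoc, hc₁]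
    · rw [Category.assoc, pullback.diagonal_snd, Category.comp_id, Category.assoc,
        pullback.lift_snd, ← Category.assoc, hc₂, hPX.w]
  · intro T s t hst
    have h1 : s = (t ≫ pY) ≫ a := by
      have := congrArg (· ≫ pullback.fst g g) hst
      simpa only [Category.assoc, pullback.diagonal_fst, Category.comp_id, pullback.lift_fst]
        using this
    have h2 : s = (t ≫ qY) ≫ b := by
      have := congrArg (· ≫ pullback.snd g g) hst
      simpa only [Category.assoc, pullback.diagonal_snd, Category.comp_id, pullback.lift_snd]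
        using this
    refine ⟨hPX.lift (t ≫ pY) (t ≫ qY) (by rw [← h1, ← h2]), ?_, ?_⟩
    · rw [← Category.assoc, hPX.lift_fst, ← h1]
    · apply hPY.hom_ext
      · rw [Category.assoc, hc₁, hPX.lift_fst]
      · rw [Category.assoc, hc₂, hPX.lift_snd]
  · intro T z z' _ h
    apply hPX.hom_ext
    · rw [← hc₁, ← Category.assoc, ← Category.assoc, h]
    · rw [← hc₂, ← Category.assoc, ← Category.assoc, h]

set_option backward.isDefEq.respectTransparency.types false in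
/-- a representable immersion which is closed on points is a closed immersion -/
theorem repWith_isClosedImmersion_of_isImmersion_of_isClosedMor {F G : Sp S} (hG : IsAlgSpace G)
    (c : F ⟶ G) (hc : RepWith @IsImmersion c) (hcl : IsClosedMor c) :
    RepWith @IsClosedImmersion c := by
  obtain ⟨T, q, hqe, hqs⟩ := hG.atlas
  have : Sheaf.IsLocallySurjective q := isLocallySurjective_of_etale_surjective q hqe hqs
  have sq := hc.rep.isPullback q
  have him : IsImmersion (hc.rep.snd q).left := hc.property_snd q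
  have hrange : IsClosed (Set.range (hc.rep.snd q).left) := by
    have h1 := ofPt_preimage_image_eq sq Set.univ
    rw [Set.preimage_univ, Set.image_univ, Set.image_univ] at h1
    rw [← h1]
    have h2 : IsClosed (Set.range (Points.map c)) := by
      have := hcl _ isClosed_univ
      rwa [Set.image_univ] at this
    exact h2.preimage (Points.continuous_ofPt q)
  have : IsClosedImmersion (hc.rep.snd q).left :=
    IsClosedImmersion.of_isPreimmersion _ hrange
  exact (repWith_iff_of_chart hc.rep q sq @IsClosedImmersion).2 this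


set_option backward.isDefEq.respectTransparency.types false in
/-- the comparison `U ×_X V ⟶ U ×_Y V` for an open immersion `U ⟶ X` with `U ⟶ Y` separated is a
representable immersion -/
theorem repWith_isImmersion_comparison {U V X Y PX PY : Sp S} (g : X ⟶ Y) (j : U ⟶ X) (f : V ⟶ X)
    (hj : RepWith @IsOpenImmersion j) (hU : IsSeparatedMor (j ≫ g))
    {pX : PX ⟶ U} {qX : PX ⟶ V} (hPX : IsPullback pX qX j f)
    {pY : PY ⟶ U} {qY : PY ⟶ V} (hPY : IsPullback pY qY (j ≫ g) (f ≫ g))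
    (c : PX ⟶ PY) (hc₁ : c ≫ pY = pX) (hc₂ : c ≫ qY = qX) : RepWith @IsImmersion c := by
  -- the open part `U ×_Y (U ×_X V)` of `U ×_Y V`
  obtain ⟨PY', u', v', sq'⟩ : ∃ (PY' : Sp S) (u' : PY' ⟶ U) (v' : PY' ⟶ PX),
      IsPullback u' v' (j ≫ g) (qX ≫ f ≫ g) := ⟨_, _, _, IsPullback.of_hasPullback _ _⟩
  have hι₀ : u' ≫ j ≫ g = (v' ≫ qX) ≫ f ≫ g := by rw [sq'.w, Category.assoc]
  have hι1 : hPY.lift u' (v' ≫ qX) hι₀ ≫ pY = u' := hPY.lift_fst _ _ _
  have hι2 : hPY.lift u' (v' ≫ qX) hι₀ ≫ qY = v' ≫ qX := hPY.lift_snd _ _ _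
  have sqι : IsPullback (hPY.lift u' (v' ≫ qX) hι₀) v' qY qX := by
    refine IsPullback.of_right ?_ hι2 hPY
    rw [hι1]
    exact sq'
  have hqX : RepWith @IsOpenImmersion qX := repWith_of_isPullback _ hPX hj
  have hι : RepWith @IsOpenImmersion (hPY.lift u' (v' ≫ qX) hι₀) :=
    repWith_of_isPullback _ sqι.flip hqX
  -- the graph
  have hΓ₀ : pX ≫ j ≫ g = 𝟙 PX ≫ qX ≫ f ≫ g := by
    rw [Category.id_comp, ← Category.assoc, hPX.w, Category.assoc]
  have hΓ1 : sq'.lift pX (𝟙 PX) hΓ₀ ≫ u' = pX := sq'.lift_fst _ _ _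
  have hΓ2 : sq'.lift pX (𝟙 PX) hΓ₀ ≫ v' = 𝟙 PX := sq'.lift_snd _ _ _
  have hv' : IsSeparatedMor v' :=
    MorphismProperty.of_isPullback (P := (RepWith (S := S) @IsClosedImmersion).diagonal) sq' hU
  have hΓ : RepWith @IsClosedImmersion (sq'.lift pX (𝟙 PX) hΓ₀) :=
    repWith_section _ v' _ hΓ2 hv'
  have hcomp : c = sq'.lift pX (𝟙 PX) hΓ₀ ≫ hPY.lift u' (v' ≫ qX) hι₀ := by
    apply hPY.hom_ext
    · rw [Category.assoc, hι1, hΓ1, hc₁]
    · rw [Category.assoc, hι2, ← Category.assoc, hΓ2, Category.id_comp, hc₂]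
  rw [hcomp]
  exact repWith_comp _ (repWith_mono (fun _ _ m hm => by
      have : IsClosedImmersion m := hm
      exact (inferInstance : IsImmersion m)) hΓ)
    (repWith_mono (fun _ _ m hm => by
      have : IsOpenImmersion m := hm
      exact (inferInstance : IsImmersion m)) hι)


set_option backward.isDefEq.respectTransparency.types false in
/-- `RepWith P` can be checked fppf locally around every point of every test scheme, on pieces
`H ⟶ G` over which the base change has `P` -/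
theorem repWith_of_pointwise_pieces {F G : Sp S} {a : F ⟶ G} (ha : Representable a)
    (P : MorphismProperty Scheme.{u}) [P.IsStableUnderBaseChange]
    [P.IsLocalAtTarget Scheme.fppfPrecoverage]
    (h : ∀ (T : Over S) (t : (yon S).obj T ⟶ G) (τ : ↥T.left),
      ∃ (T' : Over S) (w : T' ⟶ T), Flat w.left ∧ LocallyOfFinitePresentation w.left ∧
        τ ∈ Set.range w.left ∧ ∃ (H Q : Sp S) (b : H ⟶ G) (b' : Q ⟶ F) (a' : Q ⟶ H),
          IsPullback b' a' a b ∧ RepWith P a' ∧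
            ∃ l : (yon S).obj T' ⟶ H, l ≫ b = (yon S).map w ≫ t) : RepWith P a := by
  refine MorphismProperty.relative_of_snd ha fun T t => ?_
  change P (ha.snd t).left
  choose T' w hfl hfp hτ H Q b b' a' sq hP l hl using h T t
  have hR : Presieve.ofArrows T' w ∈ KS S T :=
    ofArrows_mem_KS T' w (fun τ => ⟨hfl τ, hfp τ⟩) (fun τ => ⟨τ, hτ τ⟩)
  refine P_of_cover (ha.snd t) hR ?_
  rintro _ _ ⟨τ⟩
  refine ⟨pullback (ha.snd t) (w τ), pullback.fst _ _, pullback.snd _ _,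
    IsPullback.of_hasPullback _ _, ?_⟩
  have sq1 : IsPullback ((yon S).map (pullback.fst (ha.snd t) (w τ)))
      ((yon S).map (pullback.snd (ha.snd t) (w τ))) ((yon S).map (ha.snd t))
      ((yon S).map (w τ)) := (IsPullback.of_hasPullback _ _).map (yon S)
  have big := sq1.paste_horiz (ha.isPullback t)
  rw [← hl τ] at big
  have hw' : ((yon S).map (pullback.fst (ha.snd t) (w τ)) ≫ ha.fst t) ≫ a =
      ((yon S).map (pullback.snd (ha.snd t) (w τ)) ≫ l τ) ≫ b τ := by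
    rw [big.w, Category.assoc]
  have key := IsPullback.of_right (h₁₁ := (sq τ).lift _ _ hw') (by simpa using big) (by simp)
    (sq τ)
  exact (hP τ).property (l τ) _ _ key

/-- pointwise etale lifting to one of the two parts of an elementary distinguished square -/
theorem exists_lift_at_point_of_isElemDistSq {U V W : Sp S} (hV : IsAlgSpace V)
    (hW : IsAlgSpace W) (j : U ⟶ W) (f : V ⟶ W) (hsq : IsElemDistSq j f) {T : Over S}
    (w : (yon S).obj T ⟶ W) (τ : ↥T.left) :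
    ∃ (T' : Over S) (t : T' ⟶ T), Flat t.left ∧ LocallyOfFinitePresentation t.left ∧
      τ ∈ Set.range t.left ∧
      ((∃ x : (yon S).obj T' ⟶ U, x ≫ j = (yon S).map t ≫ w) ∨
        (∃ y : (yon S).obj T' ⟶ V, y ≫ f = (yon S).map t ≫ w)) := by
  obtain ⟨hj, hf, Tc, P', i, p₁, p₂, ⟨-, hi, -⟩, sqT, hp₁⟩ := hsq
  by_cases hx : Points.ofPt w τ ∈ Set.range (Points.map j)
  · obtain ⟨T', t, h1, h2, h3, h4⟩ := exists_lift_at_point_of_openImmersion j hj w τ hx
    exact ⟨T', t, h1, h2, h3, Or.inl h4⟩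
  · have hx' : Points.ofPt w τ ∈ Set.range (Points.map i) := by rw [hi]; exact hx
    obtain ⟨c, hc⟩ := hx'
    obtain ⟨p', rfl⟩ := points_map_surjective_of_isIso p₁ c
    have hxf : Points.ofPt w τ ∈ Set.range (Points.map f) :=
      ⟨Points.map p₂ p', by rw [← Points.map_comp, ← sqT.w, Points.map_comp, hc]⟩
    obtain ⟨T', t, h1, h2, h3, h4⟩ := exists_lift_at_point_of_isEtaleMor hV hW f hf w τ hxf
    exact ⟨T', t, h1, h2, h3, Or.inr h4⟩


/-- one piece of the cover of `X ×_Y X` -/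
theorem diagonal_piece {X Y A B PX PY : Sp S} (g : X ⟶ Y) (a : A ⟶ X) (b : B ⟶ X)
    {pX : PX ⟶ A} {qX : PX ⟶ B} (hPX : IsPullback pX qX a b) {pY : PY ⟶ A} {qY : PY ⟶ B}
    (hPY : IsPullback pY qY (a ≫ g) (b ≫ g)) (c : PX ⟶ PY) (hc₁ : c ≫ pY = pX)
    (hc₂ : c ≫ qY = qX) (hcc : RepWith @IsClosedImmersion c) {T' T : Over S} (w : T' ⟶ T)
    (t : (yon S).obj T ⟶ pullback g g) (α : (yon S).obj T' ⟶ A) (β : (yon S).obj T' ⟶ B)
    (hα : α ≫ a = (yon S).map w ≫ t ≫ pullback.fst g g)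
    (hβ : β ≫ b = (yon S).map w ≫ t ≫ pullback.snd g g) :
    ∃ (H Q : Sp S) (b₀ : H ⟶ pullback g g) (b' : Q ⟶ X) (a' : Q ⟶ H),
      IsPullback b' a' (pullback.diagonal g) b₀ ∧ RepWith @IsClosedImmersion a' ∧
        ∃ l : (yon S).obj T' ⟶ H, l ≫ b₀ = (yon S).map w ≫ t := by
  refine ⟨PY, PX, _, pX ≫ a, c, isPullback_diagonal_of_isPullback_abs g a b hPX hPY c hc₁ hc₂, hcc,
    hPY.lift α β ?_, ?_⟩
  · rw [← Category.assoc α, hα, ← Category.assoc β, hβ]
    simp only [Category.assoc, pullback.condition]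
  · apply pullback.hom_ext
    · rw [Category.assoc, pullback.lift_fst, ← Category.assoc, hPY.lift_fst, hα, Category.assoc]
    · rw [Category.assoc, pullback.lift_snd, ← Category.assoc, hPY.lift_snd, hβ, Category.assoc]

set_option backward.isDefEq.respectTransparency.types false in
/-- S10698 -/
theorem isSeparatedMor_of_isElemDistSq {U V X Y PX PY QX QY : Sp S} (hV₀ : IsAlgSpace V)
    (hX : IsAlgSpace X) (hPY₀ : IsAlgSpace PY) (g : X ⟶ Y) (j : U ⟶ X) (f : V ⟶ X)
    (hsq : IsElemDistSq j f)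
    (hU : IsSeparatedMor (j ≫ g)) (hV : IsSeparatedMor (f ≫ g))
    {pX : PX ⟶ U} {qX : PX ⟶ V} (hPX : IsPullback pX qX j f)
    {pY : PY ⟶ U} {qY : PY ⟶ V} (hPY : IsPullback pY qY (j ≫ g) (f ≫ g))
    (c : PX ⟶ PY) (hc₁ : c ≫ pY = pX) (hc₂ : c ≫ qY = qX) (hcl : IsClosedMor c)
    {rX₁ rX₂ : QX ⟶ V} (hQX : IsPullback rX₁ rX₂ f f)
    {rY₁ rY₂ : QY ⟶ V} (hQY : IsPullback rY₁ rY₂ (f ≫ g) (f ≫ g))
    (d : QX ⟶ QY) (hd₁ : d ≫ rY₁ = rX₁) (hd₂ : d ≫ rY₂ = rX₂)
    (hdcl : RepWith @IsClosedImmersion d) : IsSeparatedMor g := by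
  have hj : RepWith @IsOpenImmersion j := hsq.1
  have : Mono j := mono_of_repWith_openImm hj
  have hΔ : Representable (pullback.diagonal g) :=
    representable_diagonal g ((repDiag_iff X).2 (repDiag_of_isAlgSpace hX))
  have hcc : RepWith @IsClosedImmersion c :=
    repWith_isClosedImmersion_of_isImmersion_of_isClosedMor hPY₀ c
      (repWith_isImmersion_comparison g j f hj hU hPX hPY c hc₁ hc₂) hcl
  have hUU : IsPullback (𝟙 U) (𝟙 U) j j := IsKernelPair.id_of_mono j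
  change RepWith @IsClosedImmersion (pullback.diagonal g)
  refine repWith_of_pointwise_pieces hΔ @IsClosedImmersion ?_
  intro T t τ
  obtain ⟨T₁, w₁, fl₁, fp₁, ⟨τ₁, hτ₁⟩, h₁⟩ :=
    exists_lift_at_point_of_isElemDistSq hV₀ hX j f hsq (t ≫ pullback.fst g g) τ
  obtain ⟨T₂, w₂, fl₂, fp₂, ⟨τ₂, hτ₂⟩, h₂⟩ :=
    exists_lift_at_point_of_isElemDistSq hV₀ hX j f hsq
      ((yon S).map w₁ ≫ t ≫ pullback.snd g g) τ₁
  have hfl : Flat (w₂ ≫ w₁).left := by rw [Over.comp_left]; infer_instance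
  have hfp : LocallyOfFinitePresentation (w₂ ≫ w₁).left := by rw [Over.comp_left]; infer_instance
  have hτ' : τ ∈ Set.range (w₂ ≫ w₁).left :=
    ⟨τ₂, by rw [Over.comp_left, Scheme.Hom.comp_apply, hτ₂, hτ₁]⟩
  refine ⟨T₂, w₂ ≫ w₁, hfl, hfp, hτ', ?_⟩
  have e1 : ∀ {A : Sp S} (a : A ⟶ X) (x : (yon S).obj T₁ ⟶ A),
      x ≫ a = (yon S).map w₁ ≫ t ≫ pullback.fst g g →
      ((yon S).map w₂ ≫ x) ≫ a = (yon S).map (w₂ ≫ w₁) ≫ t ≫ pullback.fst g g := by
    intro A a x hx
    rw [Category.assoc, hx, Functor.map_comp, Category.assoc]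
  have e2 : ∀ {B : Sp S} (b : B ⟶ X) (y : (yon S).obj T₂ ⟶ B),
      y ≫ b = (yon S).map w₂ ≫ (yon S).map w₁ ≫ t ≫ pullback.snd g g →
      y ≫ b = (yon S).map (w₂ ≫ w₁) ≫ t ≫ pullback.snd g g := by
    intro B b y hy
    rw [hy, Functor.map_comp, Category.assoc]
  rcases h₁ with ⟨x₁, hx₁⟩ | ⟨y₁, hy₁⟩ <;> rcases h₂ with ⟨x₂, hx₂⟩ | ⟨y₂, hy₂⟩
  · exact diagonal_piece g j j hUU (IsPullback.of_hasPullback (j ≫ g) (j ≫ g))
      (pullback.diagonal (j ≫ g)) (pullback.diagonal_fst _) (pullback.diagonal_snd _) hU _ t _ _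
      (e1 j x₁ hx₁) (e2 j x₂ hx₂)
  · exact diagonal_piece g j f hPX hPY c hc₁ hc₂ hcc _ t _ _ (e1 j x₁ hx₁) (e2 f y₂ hy₂)
  · exact diagonal_piece g f j hPX.flip hPY.flip c hc₂ hc₁ hcc _ t _ _ (e1 f y₁ hy₁) (e2 j x₂ hx₂)
  · exact diagonal_piece g f f hQX hQY d hd₁ hd₂ hdcl _ t _ _ (e1 f y₁ hy₁) (e2 f y₂ hy₂)

end Groth.Agent.Lib.Helper14.AS
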