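import Groth.Prelude.Def_AlgSp4
import Groth.Agent.Lib.Helper14.LimA
universe u
open CategoryTheory CategoryTheory.Limits AlgebraicGeometry Opposite
namespace Groth.Agent.Lib.Helper14.AS
variable {S : Scheme.{u}}
open AlgSp

namespace LimChart2
section Main

variable {J : Type u} [SmallCategory J] (DX DY : J ⥤ Sp S) (τ : DX ⟶ DY)
  (cY : Cone DY) {Z : Over S} (z : (yon S).obj Z ⟶ cY.pt)
  (W : J → Over S) (ι : ∀ j, W j ⟶ Z) (fst : ∀ j, (yon S).obj (W j) ⟶ DX.obj j)
  (sq : ∀ j, IsPullback (fst j) ((yon S).map (ι j)) (τ.app j) (z ≫ cY.π.app j))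

include sq in
theorem chartMap_cond {j j' : J} (h : j ⟶ j') :
    (fst j ≫ DX.map h) ≫ τ.app j' = (yon S).map (ι j) ≫ z ≫ cY.π.app j' := by
  rw [Category.assoc, τ.naturality, ← Category.assoc, (sq j).w, Category.assoc, Category.assoc,
    cY.w]

/-- transition maps between the charts -/
noncomputable def chartMap {j j' : J} (h : j ⟶ j') : W j ⟶ W j' :=
  (yon S).preimage ((sq j').lift (fst j ≫ DX.map h) ((yon S).map (ι j))
    (chartMap_cond DX DY τ cY z W ι fst sq h))

theorem chartMap_fst {j j' : J} (h : j ⟶ j') :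
    (yon S).map (chartMap DX DY τ cY z W ι fst sq h) ≫ fst j' = fst j ≫ DX.map h := by
  rw [chartMap, Functor.map_preimage, (sq j').lift_fst]

theorem chartMap_ι {j j' : J} (h : j ⟶ j') :
    chartMap DX DY τ cY z W ι fst sq h ≫ ι j' = ι j := by
  apply (yon S).map_injective
  rw [CategoryTheory.Functor.map_comp, chartMap, Functor.map_preimage, (sq j').lift_snd]

include sq in
theorem chart_hom_ext {j : J} {T : Over S} (a b : T ⟶ W j)
    (h1 : (yon S).map a ≫ fst j = (yon S).map b ≫ fst j) (h2 : a ≫ ι j = b ≫ ι j) : a = b := by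
  apply (yon S).map_injective
  apply (sq j).hom_ext h1
  rw [← Functor.map_comp, ← Functor.map_comp, h2]

/-- the diagram of charts -/
noncomputable def chartDiagram : J ⥤ Over S where
  obj := W
  map h := chartMap DX DY τ cY z W ι fst sq h
  map_id j := by
    apply chart_hom_ext DX DY τ cY z W ι fst sq
    · rw [chartMap_fst, CategoryTheory.Functor.map_id, CategoryTheory.Functor.map_id,
        Category.comp_id, Category.id_comp]
    · rw [chartMap_ι, Category.id_comp]
  map_comp {j j' j''} h h' := by
    apply chart_hom_ext DX DY τ cY z W ι fst sq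
    · rw [chartMap_fst, (yon S).map_comp, Category.assoc, chartMap_fst,
        ← Category.assoc, chartMap_fst, Category.assoc, DX.map_comp]
    · rw [chartMap_ι, Category.assoc, chartMap_ι, chartMap_ι]

variable (hcY : IsLimit cY) (cX : Cone DX) (hcX : IsLimit cX)
  (g : cX.pt ⟶ cY.pt) (hg : ∀ j, g ≫ cY.π.app j = cX.π.app j ≫ τ.app j)
  (cG : Cone (chartDiagram DX DY τ cY z W ι fst sq)) (hcG : IsLimit cG)

/-- projections of the limit cone of charts, with codomain `W j` -/
def coneπ (j : J) : cG.pt ⟶ W j := cG.π.app j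

theorem coneπ_w {j j' : J} (h : j ⟶ j') :
    coneπ DX DY τ cY z W ι fst sq cG j ≫ chartMap DX DY τ cY z W ι fst sq h =
      coneπ DX DY τ cY z W ι fst sq cG j' :=
  cG.w h

theorem cG_ι [IsPreconnected J] (j j' : J) :
    coneπ DX DY τ cY z W ι fst sq cG j ≫ ι j = coneπ DX DY τ cY z W ι fst sq cG j' ≫ ι j' := by
  refine constant_of_preserves_morphisms
    (fun j => coneπ DX DY τ cY z W ι fst sq cG j ≫ ι j) (fun j₁ j₂ h => ?_) j j'
  rw [← coneπ_w DX DY τ cY z W ι fst sq cG h, Category.assoc, chartMap_ι]

/-- the cone over `DX` with apex the limit of the charts -/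
noncomputable def chartCone : Cone DX where
  pt := (yon S).obj cG.pt
  π :=
    { app := fun j => (yon S).map (coneπ DX DY τ cY z W ι fst sq cG j) ≫ fst j
      naturality := fun j j' h => by
        simp only [Functor.const_obj_obj, Functor.const_obj_map, Category.id_comp]
        rw [← coneπ_w DX DY τ cY z W ι fst sq cG h, (yon S).map_comp, Category.assoc,
          chartMap_fst, Category.assoc] }

/-- the map from the limit of the charts to the limit -/
noncomputable def chartLift : (yon S).obj cG.pt ⟶ cX.pt :=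
  hcX.lift (chartCone DX DY τ cY z W ι fst sq cG)

theorem chartLift_π (j : J) : chartLift DX DY τ cY z W ι fst sq cX hcX cG ≫ cX.π.app j =
    (yon S).map (coneπ DX DY τ cY z W ι fst sq cG j) ≫ fst j := hcX.fac _ j

include hcG hcY hg in
/-- the limit of the charts is the base change of the limit -/
theorem isPullback_chart_limit [IsPreconnected J] (j₀ : J) :
    IsPullback (chartLift DX DY τ cY z W ι fst sq cX hcX cG)
      ((yon S).map (coneπ DX DY τ cY z W ι fst sq cG j₀ ≫ ι j₀)) g z := by
  have hfac := chartLift_π DX DY τ cY z W ι fst sq cX hcX cG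
  have hconst := cG_ι DX DY τ cY z W ι fst sq cG
  refine isPullback_iff_yon.2 ⟨?_, fun T x t hxt => ?_⟩
  · apply hcY.hom_ext
    intro j
    rw [Category.assoc, hg, ← Category.assoc, hfac, Category.assoc, (sq j).w, ← Category.assoc,
      ← (yon S).map_comp, hconst j j₀, Category.assoc]
  · obtain ⟨t', rfl⟩ := (yon S).map_surjective t
    have hcond : ∀ j, (x ≫ cX.π.app j) ≫ τ.app j = (yon S).map t' ≫ z ≫ cY.π.app j := by
      intro j
      rw [Category.assoc, ← hg, ← Category.assoc, hxt, Category.assoc]
    let w : ∀ j, T ⟶ W j := fun j =>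
      (yon S).preimage ((sq j).lift (x ≫ cX.π.app j) ((yon S).map t') (hcond j))
    have hw1 : ∀ j, (yon S).map (w j) ≫ fst j = x ≫ cX.π.app j := fun j => by
      rw [Functor.map_preimage, (sq j).lift_fst]
    have hw2 : ∀ j, w j ≫ ι j = t' := fun j => by
      apply (yon S).map_injective
      rw [(yon S).map_comp, Functor.map_preimage, (sq j).lift_snd]
    have hwnat : ∀ {j j' : J} (h : j ⟶ j'), w j ≫ chartMap DX DY τ cY z W ι fst sq h = w j' := by
      intro j j' h
      apply chart_hom_ext DX DY τ cY z W ι fst sq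
      · rw [hw1, (yon S).map_comp, Category.assoc, chartMap_fst, ← Category.assoc, hw1,
          Category.assoc, cX.w]
      · rw [hw2, Category.assoc, chartMap_ι, hw2]
    let s : Cone (chartDiagram DX DY τ cY z W ι fst sq) :=
      { pt := T
        π :=
          { app := w
            naturality := fun j j' h => by
              simp only [Functor.const_obj_obj, Functor.const_obj_map]
              exact (hwnat h).symm } }
    have hs : ∀ j, hcG.lift s ≫ coneπ DX DY τ cY z W ι fst sq cG j = w j := fun j => hcG.fac s j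
    refine ⟨(yon S).map (hcG.lift s), ⟨?_, ?_⟩, ?_⟩
    · apply hcX.hom_ext
      intro j
      rw [Category.assoc, hfac, ← Category.assoc, ← (yon S).map_comp, hs, hw1]
    · rw [← (yon S).map_comp, ← Category.assoc, hs, hw2]
    · rintro u ⟨hu1, hu2⟩
      obtain ⟨u', rfl⟩ := (yon S).map_surjective u
      congr 1
      apply hcG.hom_ext
      intro j
      change u' ≫ coneπ DX DY τ cY z W ι fst sq cG j = hcG.lift s ≫ coneπ DX DY τ cY z W ι fst sq cG j
      rw [hs]
      apply chart_hom_ext DX DY τ cY z W ι fst sq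
      · rw [(yon S).map_comp, Category.assoc, ← hfac, ← Category.assoc, hu1, hw1]
      · rw [hw2, Category.assoc, hconst j j₀]
        apply (yon S).map_injective
        rw [← hu2, ← (yon S).map_comp]

end Main
end LimChart2

end Groth.Agent.Lib.Helper14.AS
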