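import Mathlib.AlgebraicGeometry.AffineTransitionLimit
import Groth.Prelude.Def_AlgSp4
import Groth.Agent.Lib.Helper14.LimH
import Groth.Agent.Lib.Helper14.AlgSpAffineMor
import Groth.Agent.Lib.Helper14.AlgSpRedFactor
import Groth.Agent.Lib.Helper14.FppfLocalInst
universe u
open CategoryTheory CategoryTheory.Limits AlgebraicGeometry Opposite
namespace Groth.Agent.Lib.Helper14.AS
variable {S : Scheme.{u}}
open AlgSp

/-- the structure maps of the limit cone over a base are all equal -/
theorem cone_π_t_eq {I : Type u} [SmallCategory I] [IsCofiltered I] {C : Type*} [Category C]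
    {S' : C} (D : I ⥤ C) (t : D ⟶ (Functor.const I).obj S') (c : Cone D) (i j : I) :
    c.π.app i ≫ t.app i = c.π.app j ≫ t.app j := by
  have key : ∀ {a b : I} (h : a ⟶ b), c.π.app a ≫ t.app a = c.π.app b ≫ t.app b := by
    intro a b h
    have h1 := t.naturality h
    simp only [Functor.const_obj_obj, Functor.const_obj_map, Category.comp_id] at h1
    rw [← h1, ← Category.assoc, c.w]
  rw [← key (IsCofiltered.minToLeft i j), key (IsCofiltered.minToRight i j)]

/-- a cofiltered limit of quasi-compact schemes locally of finite type over a base, with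
closed immersions as transition maps, which is locally of finite presentation over the base
is eventually constant -/
theorem exists_isIso_π_of_closedImmersion_transitions {I : Type u} [SmallCategory I]
    [IsCofiltered I] {S' : Scheme.{u}} (D : I ⥤ Scheme.{u}) (t : D ⟶ (Functor.const I).obj S')
    (c : Cone D) (hc : IsLimit c)
    [∀ {i j} (f : i ⟶ j), IsClosedImmersion (D.map f)]
    [∀ i, CompactSpace (D.obj i)] [∀ i, QuasiSeparatedSpace (D.obj i)]
    [∀ i, LocallyOfFiniteType (t.app i)] (i₁ : I)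
    [LocallyOfFinitePresentation (c.π.app i₁ ≫ t.app i₁)] :
    ∃ i₀ : I, ∀ (i : I) (_ : i ⟶ i₀), IsIso (c.π.app i) := by
  let f : c.pt ⟶ S' := c.π.app i₁ ≫ t.app i₁
  have hf : ∀ i, c.π.app i ≫ t.app i = f := fun i => cone_π_t_eq D t c i i₁
  have : LocallyOfFinitePresentation f := ‹_›
  obtain ⟨i, r, hr1, hr2⟩ : ∃ (i : I) (r : D.obj i ⟶ c.pt), c.π.app i ≫ r = 𝟙 c.pt ∧
      r ≫ f = t.app i :=
    Scheme.exists_π_app_comp_eq_of_locallyOfFinitePresentation D t f c hc
    (𝟙 c.pt) (by
      ext i
      simp only [NatTrans.comp_app, Functor.const_obj_obj, Functor.const_map_app, Category.id_comp]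
      exact hf i)
  have e1 : c.π.app i ≫ (r ≫ c.π.app i) = c.π.app i ≫ 𝟙 (D.obj i) := by
    rw [← Category.assoc, hr1, Category.comp_id]
    exact Category.id_comp _
  obtain ⟨k, hik, hk⟩ := Scheme.exists_hom_comp_eq_comp_of_locallyOfFiniteType D t (t.app i) c hc
    (r ≫ c.π.app i) (𝟙 _) (by rw [Category.assoc, hf, hr2]) (by rw [Category.id_comp]) e1
  rw [Category.comp_id] at hk
  refine ⟨k, fun k' ψ => ?_⟩
  let ρ : D.obj k' ⟶ c.pt := D.map (ψ ≫ hik) ≫ r
  have h1 : c.π.app k' ≫ ρ = 𝟙 c.pt := by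
    change c.π.app k' ≫ D.map (ψ ≫ hik) ≫ r = _
    rw [← Category.assoc, c.w, hr1]
  have h2 : ρ ≫ c.π.app k' = 𝟙 (D.obj k') := by
    have : Mono (D.map (ψ ≫ hik)) := inferInstance
    rw [← cancel_mono (D.map (ψ ≫ hik)), Category.assoc, c.w, Category.id_comp]
    change (D.map (ψ ≫ hik) ≫ r) ≫ c.π.app i = _
    rw [D.map_comp]
    simp only [Category.assoc]
    rw [hk]
  exact ⟨ρ, h1, h2⟩

section Lim

variable {I : Type u} [SmallCategory I] [IsCofiltered I] {D : I ⥤ Sp S} {c : Cone D}
  {i : I} {Z : Over S} {g : (yon S).obj Z ⟶ D.obj i}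

omit [IsCofiltered I] in
/-- the transition maps of a chart system are base changes of the transition maps -/
theorem chartSystem_isPullback_map (cs : ChartSystem D c i g) {j j' : Over i} (f : j ⟶ j') :
    IsPullback (cs.fst j) ((yon S).map (cs.G.map f)) (D.map f.left) (cs.fst j') := by
  have hbig : IsPullback (cs.fst j) ((yon S).map (cs.G.map f) ≫ (yon S).map (cs.ι j'))
      (D.map f.left ≫ D.map j'.hom) g := by
    have h1 : D.map f.left ≫ D.map j'.hom = D.map j.hom := by
      rw [← D.map_comp, Over.w f]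
    rw [h1, ← (yon S).map_comp, cs.map_ι]
    exact cs.sq j
  exact IsPullback.of_bot hbig (cs.map_fst f).symm (cs.sq j')

set_option backward.isDefEq.respectTransparency.types false in
theorem eventually_isIso_of_limit_closedImmersion_transitions
    (B : Space S) (D : I ⥤ Sp S) (hD : ∀ i, IsAlgSpace (D.obj i))
    (t : D ⟶ (Functor.const I).obj B.obj)
    (hDc : ∀ (i j : I) (φ : i ⟶ j), RepWith @IsClosedImmersion (D.map φ))
    (c : Cone D) (hc : IsLimit c)
    (hqc : ∀ i, IsQuasiCompactSp (D.obj i)) (hft : ∀ i, LocP @LocallyOfFiniteType (t.app i))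
    (i₁ : I) (hX : LocP @LocallyOfFinitePresentation (c.π.app i₁ ≫ t.app i₁)) :
    ∃ i₀ : I, ∀ (i : I) (_ : i ⟶ i₀), IsIso (c.π.app i) := by
  have hDa : ∀ (i j : I) (φ : i ⟶ j), IsAffineMor (D.map φ) := fun i j φ =>
    isAffineMor_of_repWith_isClosedImmersion (hDc i j φ)
  obtain ⟨W₀, w, hwe, hws⟩ := B.property.atlas
  obtain ⟨U, a, h, hae, has, hcomm⟩ := exists_chart_diagram (hD i₁) (t.app i₁) w hwe hws
  obtain ⟨U', e, hU', ha'e, ha's⟩ := exists_affine_chart_refinement (hD i₁) (hqc i₁) a hae has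
  have hcomm' : ((yon S).map e ≫ a) ≫ t.app i₁ = (yon S).map (e ≫ h) ≫ w := by
    rw [Category.assoc, hcomm, (yon S).map_comp, Category.assoc]
  obtain ⟨cs, haffG, haffc⟩ := exists_chartSystem D hDa c hc i₁ hU' ((yon S).map e ≫ a)
  have hconn : IsConnected (Over i₁) := IsCofiltered.isConnected _
  let D' : Over i₁ ⥤ Scheme.{u} := cs.G ⋙ Over.forget S
  let c' : Cone D' := (Over.forget S).mapCone cs.cG
  have hc' : IsLimit c' := isLimitOfPreserves (Over.forget S) cs.hcG
  let t' : D' ⟶ (Functor.const (Over i₁)).obj W₀.left :=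
    { app := fun j => (cs.ι j ≫ e ≫ h).left
      naturality := fun j j' f => by
        change (cs.G.map f).left ≫ (cs.ι j' ≫ e ≫ h).left = (cs.ι j ≫ e ≫ h).left ≫ 𝟙 _
        rw [Category.comp_id, ← Over.comp_left, ← Category.assoc, cs.map_ι] }
  have h1 : ∀ {a b : Over i₁} (f : a ⟶ b), IsClosedImmersion (D'.map f) := by
    intro a b f
    exact (hDc _ _ f.left).property _ _ _ (chartSystem_isPullback_map cs f)
  have h2 : ∀ j, CompactSpace (D'.obj j) := fun j => by
    have := haffG j
    exact inferInstanceAs (CompactSpace (cs.G.obj j).left)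
  have h3 : ∀ j, QuasiSeparatedSpace (D'.obj j) := fun j => by
    have := haffG j
    exact inferInstanceAs (QuasiSeparatedSpace (cs.G.obj j).left)
  have hnat : ∀ j : Over i₁, D.map j.hom ≫ t.app i₁ = t.app j.left := fun j => by
    have := t.naturality j.hom
    simpa using this
  have h4 : ∀ j, LocallyOfFiniteType (t'.app j) := fun j => by
    have hfe : RepWith @Etale (cs.fst j) := repWith_of_isPullback _ (cs.sq j).flip ha'e
    refine hft j.left (cs.fst j) w (cs.ι j ≫ e ≫ h) hfe hwe ?_
    rw [← hnat j, ← Category.assoc, (cs.sq j).w, Category.assoc, hcomm']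
    simp only [Functor.map_comp, Category.assoc]
  let j₁ : Over i₁ := Over.mk (𝟙 i₁)
  have h5 : LocallyOfFinitePresentation (c'.π.app j₁ ≫ t'.app j₁) := by
    have hcsae : RepWith @Etale cs.a := repWith_of_isPullback _ cs.isPullback.flip ha'e
    have := hX cs.a w (cs.cG.π.app j₁ ≫ cs.ι j₁ ≫ e ≫ h) hcsae hwe (by
      rw [← Category.assoc, cs.isPullback.w, Category.assoc, hcomm', ← Category.assoc (cs.cG.π.app j₁),
        cs.π_ι]
      simp only [Functor.map_comp, Category.assoc])
    exact this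
  obtain ⟨j₀, hj₀⟩ := exists_isIso_π_of_closedImmersion_transitions D' t' c' hc' j₁
  refine ⟨j₀.left, fun i ψ => ?_⟩
  let j : Over i₁ := Over.mk (ψ ≫ j₀.hom)
  let f : j ⟶ j₀ := Over.homMk ψ rfl
  have hiso : IsIso (cs.cG.π.app j).left := hj₀ j f
  have hrep : Representable (c.π.app i) :=
    (repWith_isAffineHom_of_isAffineMor' _ (isAffineMor_of_limit D hDa c hc i)).rep
  have hqe : RepWith @Etale (cs.fst j) := repWith_of_isPullback _ (cs.sq j).flip ha'e
  have hqs : RepWith @Surjective (cs.fst j) := repWith_of_isPullback _ (cs.sq j).flip ha's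
  have : Sheaf.IsLocallySurjective (cs.fst j) := isLocallySurjective_of_etale_surjective _ hqe hqs
  have sqst := chartSystem_isPullback_stage cs j
  exact isIso_of_repWith_isomorphisms
    ((repWith_iff_of_chart hrep (cs.fst j) sqst (MorphismProperty.isomorphisms Scheme.{u})).2 hiso)

end Lim

end Groth.Agent.Lib.Helper14.AS
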