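import Groth.Prelude.Def_AlgSp4
import Groth.Agent.Lib.Helper14.LimI
import Groth.Agent.Lib.Helper14.LimF
import Groth.Agent.Lib.Helper14.AlgSpSep
import Groth.Agent.Lib.Helper14.AlgSpDiag3
import Groth.Agent.Lib.Helper14.AlgSpQSepCharts
import Groth.Agent.Lib.Helper14.SheafQuot2
import Groth.Agent.Lib.Helper14.GActionPts
import Groth.Agent.Lib.Helper14.ElemDistSep
universe u
open CategoryTheory CategoryTheory.Limits AlgebraicGeometry Opposite
namespace Groth.Agent.Lib.Helper14.AS
variable {S : Scheme.{u}}
open AlgSp

/-- an affine morphism from a sheaf with representable diagonal is separated -/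
theorem isSeparatedMor_of_isAffineMor {X Y : Sp S} (hX : Representable (Limits.diag X))
    (f : X ⟶ Y) (hf : IsAffineMor f) : IsSeparatedMor f := by
  have hrep := repWith_isAffineHom_of_isAffineMor' f hf
  refine repWith_diagonal_of_base_changes @IsClosedImmersion hrep.rep
    (representable_diagonal f hX) fun T x => ?_
  have : IsAffineHom (hrep.rep.snd x).left := hrep.property_snd x
  exact (isSeparatedMor_yon_map_iff _).2 inferInstance

/-- two points of a sheaf agreeing on an fppf covering family are equal -/
theorem yon_hom_ext_of_KS {F : Sp S} {T : Over S} (x y : (yon S).obj T ⟶ F) (R : Presieve T)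
    (hR : R ∈ KS S T)
    (h : ∀ ⦃W : Over S⦄ (w : W ⟶ T), R w → (yon S).map w ≫ x = (yon S).map w ≫ y) : x = y := by
  refine yon_hom_ext_of_cover x y (Sieve.generate R)
    ((mem_J_iff _).2 ⟨R, hR, Sieve.le_generate R⟩) ?_
  rintro W w ⟨W', u, r, hr, rfl⟩
  rw [(yon S).map_comp, Category.assoc, Category.assoc, h r hr]

/-- a morphism which is injective on the points lifting to a locally surjective chart is a
monomorphism -/
theorem mono_of_locally_injective {Y X V' : Sp S} (m : Y ⟶ X) (v : V' ⟶ Y)
    [Sheaf.IsLocallySurjective v]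
    (h : ∀ (T : Over S) (v1 v2 : (yon S).obj T ⟶ V'), v1 ≫ v ≫ m = v2 ≫ v ≫ m → v1 ≫ v = v2 ≫ v) :
    Mono m := by
  refine mono_of_yon_injective m fun T p p' hpp' => ?_
  obtain ⟨R, hR, hl⟩ := exists_cover_lift v p
  refine yon_hom_ext_of_KS p p' R hR fun W w hw => ?_
  obtain ⟨l, hl1⟩ := hl w hw
  obtain ⟨R', hR', hl'⟩ := exists_cover_lift v ((yon S).map w ≫ p')
  refine yon_hom_ext_of_KS _ _ R' hR' fun W' w' hw' => ?_
  obtain ⟨l', hl'1⟩ := hl' w' hw'
  have key := h W' ((yon S).map w' ≫ l) l' (by
    rw [Category.assoc, ← Category.assoc l, hl1, ← Category.assoc l', hl'1]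
    simp only [Category.assoc, hpp'])
  rw [Category.assoc, hl1, hl'1] at key
  exact key

set_option backward.isDefEq.respectTransparency.types false in
/-- fibre products of affine schemes over an algebraic space are quasi-separated schemes -/
theorem quasiSeparatedSpace_of_isPullback {X : Sp S} (hX : IsAlgSpace X) {U V P : Over S}
    {a : (yon S).obj U ⟶ X} {b : (yon S).obj V ⟶ X} {fst : P ⟶ U} {snd : P ⟶ V}
    (hU : IsAffine U.left) (hV : IsAffine V.left)
    (sq : IsPullback ((yon S).map fst) ((yon S).map snd) a b) : QuasiSeparatedSpace P.left := by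
  have sqd := isPullback_diag_prodChart₂ sq
  have hm : Mono (prod.lift fst snd).left := (repWith_diag_properties hX).2.1.property _ _ _ sqd
  have hsepU : IsSeparated U.hom := inferInstance
  have h1 : IsSeparated (pullback.snd U.hom V.hom) := inferInstance
  have h2 : IsSeparated (prod.snd : U ⨯ V ⟶ V).left := by
    rw [← Over.prodLeftIsoPullback_hom_snd]
    infer_instance
  have e : snd.left = (prod.lift fst snd).left ≫ (prod.snd : U ⨯ V ⟶ V).left := by
    rw [← Over.comp_left, prod.lift_snd]
  have h3 : IsSeparated snd.left := by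
    rw [e]; infer_instance
  exact quasiSeparatedSpace_of_quasiSeparated snd.left

end Groth.Agent.Lib.Helper14.AS
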