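import Mathlib.AlgebraicGeometry.Sites.Fpqc
import Mathlib.AlgebraicGeometry.Morphisms.FlatDescent
import Mathlib.AlgebraicGeometry.Morphisms.LocalFlatDescent
import Mathlib.AlgebraicGeometry.Morphisms.FinitePresentation
import Mathlib.CategoryTheory.MorphismProperty.Local

/-!
# Properties of morphisms of schemes that are fppf local on the target (helper14)

`isLocalAtTarget_fppf`: a property stable under base change, Zariski local on the target and
satisfying fpqc descent is local at the target for the fppf precoverage.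
-/

universe u
open CategoryTheory CategoryTheory.Limits AlgebraicGeometry

namespace Groth.Agent.Lib.Helper14.FL

theorem P_snd_iff_of_isPullback {C : Type*} [Category C] {P : MorphismProperty C}
    [P.RespectsIso] {X Y Z W : C} {f : X ⟶ Z} {g : Y ⟶ Z} [HasPullback f g] {fst : W ⟶ X}
    {snd : W ⟶ Y} (sq : IsPullback fst snd f g) : P snd ↔ P (pullback.snd f g) := by
  rw [← sq.isoPullback_inv_snd]
  exact (P.cancel_left_of_respectsIso sq.isoPullback.inv _).symm

set_option backward.isDefEq.respectTransparency.types false in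
theorem isLocalAtTarget_fppf (P : MorphismProperty Scheme.{u}) [P.IsStableUnderBaseChange]
    [IsZariskiLocalAtTarget P]
    [P.DescendsAlong (@Surjective ⊓ @Flat ⊓ @LocallyOfFinitePresentation)] :
    P.IsLocalAtTarget Scheme.fppfPrecoverage := by
  apply MorphismProperty.IsLocalAtTarget.mk_of_isStableUnderBaseChange
  intro X Y f 𝒰 h
  have hmem : 𝒰.presieve₀ ∈
      Scheme.precoverage (@Flat ⊓ @LocallyOfFinitePresentation) Y := 𝒰.mem₀
  rw [Scheme.presieve₀_mem_precoverage_iff] at hmem
  obtain ⟨hsurj, hprop⟩ := hmem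
  choose i hi using hsurj
  let σ : (∐ fun y : Y => 𝒰.X (i y)) ⟶ Y := Sigma.desc fun y => 𝒰.f (i y)
  have hflat : ∀ y, Flat (𝒰.f (i y)) := fun y => (hprop (i y)).1
  have hlfp : ∀ y, LocallyOfFinitePresentation (𝒰.f (i y)) := fun y => (hprop (i y)).2
  have h1 : Surjective σ := by
    apply Surjective.sigmaDesc_of_union_range_eq_univ
    rw [Set.eq_univ_iff_forall]
    intro y
    exact Set.mem_iUnion.2 ⟨y, hi y⟩
  have h2 : Flat σ := inferInstance
  have h3 : LocallyOfFinitePresentation σ := IsZariskiLocalAtSource.sigmaDesc hlfp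
  refine MorphismProperty.of_pullback_snd_of_descendsAlong
    (Q := @Surjective ⊓ @Flat ⊓ @LocallyOfFinitePresentation) (f := f) (g := σ) ⟨⟨h1, h2⟩, h3⟩ ?_
  rw [IsZariskiLocalAtTarget.iff_of_openCover (P := P) (sigmaOpenCover _)]
  intro y
  have sq : IsPullback (pullback.fst (pullback.snd f σ) ((sigmaOpenCover _).f y) ≫ pullback.fst f σ)
      (pullback.snd (pullback.snd f σ) ((sigmaOpenCover _).f y)) f
      ((sigmaOpenCover _).f y ≫ σ) :=
    (IsPullback.of_hasPullback (pullback.snd f σ) ((sigmaOpenCover _).f y)).paste_horiz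
      (IsPullback.of_hasPullback f σ)
  have e : (sigmaOpenCover fun y : Y => 𝒰.X (i y)).f y ≫ σ = 𝒰.f (i y) := by
    simp only [σ, sigmaOpenCover_f]
    exact Sigma.ι_desc _ _
  rw [e] at sq
  exact (P_snd_iff_of_isPullback sq).2 (h (i y))

end Groth.Agent.Lib.Helper14.FL
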