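import Groth.Agent.Lib.Helper14.AlgSpBasic2
import Groth.Agent.Lib.Helper14.FppfLocal

/-!
# Diagonals of algebraic spaces via charts (helper14)
-/

universe u
open CategoryTheory CategoryTheory.Limits AlgebraicGeometry Opposite

namespace Groth.Agent.Lib.Helper14.AS

open AlgSp

variable {S : Scheme.{u}}

section Magic

variable {C : Type*} [Category C] [HasBinaryProducts C] {F A B W : C}

/-- The magic square: `A ×_F B` is the pullback of the diagonal of `F` along `a × b`. -/
theorem isPullback_diag_of_isPullback' {a : A ⟶ F} {b : B ⟶ F} {p1 : W ⟶ A} {p2 : W ⟶ B}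
    (sq : IsPullback p1 p2 a b) :
    IsPullback (p1 ≫ a) (prod.lift p1 p2) (Limits.diag F) (prod.map a b) := by
  refine isPullback_of_exists_unique ?_ ?_ ?_
  · apply Limits.prod.hom_ext
    · simp only [Category.assoc, Limits.diag, prod.lift_fst, Category.comp_id, prod.map_fst,
        prod.lift_fst_assoc]
    · simp only [Category.assoc, Limits.diag, prod.lift_snd, Category.comp_id, prod.map_snd,
        prod.lift_snd_assoc, sq.w]
  · intro T x y hxy
    have h1 : x = (y ≫ prod.fst) ≫ a := by
      have := congrArg (· ≫ prod.fst) hxy
      simpa only [Category.assoc, Limits.diag, prod.lift_fst, Category.comp_id, prod.map_fst]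
        using this
    have h2 : x = (y ≫ prod.snd) ≫ b := by
      have := congrArg (· ≫ prod.snd) hxy
      simpa only [Category.assoc, Limits.diag, prod.lift_snd, Category.comp_id, prod.map_snd]
        using this
    refine ⟨sq.lift (y ≫ prod.fst) (y ≫ prod.snd) (by rw [← h1, ← h2]), ?_, ?_⟩
    · rw [← Category.assoc, sq.lift_fst, ← h1]
    · apply Limits.prod.hom_ext
      · simp only [Category.assoc, prod.lift_fst, sq.lift_fst]
      · simp only [Category.assoc, prod.lift_snd, sq.lift_snd]
  · intro T z z' _ h
    apply sq.hom_ext
    · have := congrArg (· ≫ prod.fst) h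
      simpa only [Category.assoc, prod.lift_fst] using this
    · have := congrArg (· ≫ prod.snd) h
      simpa only [Category.assoc, prod.lift_snd] using this

/-- Converse of the magic square. -/
theorem isPullback_of_isPullback_diag {a : A ⟶ F} {b : B ⟶ F} {x0 : W ⟶ F} {k : W ⟶ A ⨯ B}
    (sq : IsPullback x0 k (Limits.diag F) (prod.map a b)) :
    IsPullback (k ≫ prod.fst) (k ≫ prod.snd) a b := by
  have h1 : x0 = (k ≫ prod.fst) ≫ a := by
    have := congrArg (· ≫ prod.fst) sq.w
    simpa only [Category.assoc, Limits.diag, prod.lift_fst, Category.comp_id, prod.map_fst]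
      using this
  have h2 : x0 = (k ≫ prod.snd) ≫ b := by
    have := congrArg (· ≫ prod.snd) sq.w
    simpa only [Category.assoc, Limits.diag, prod.lift_snd, Category.comp_id, prod.map_snd]
      using this
  refine isPullback_of_exists_unique (by rw [← h1, ← h2]) ?_ ?_
  · intro T x y hxy
    have hc : (x ≫ a) ≫ Limits.diag F = prod.lift x y ≫ prod.map a b := by
      apply Limits.prod.hom_ext
      · simp only [Category.assoc, Limits.diag, prod.lift_fst, Category.comp_id, prod.map_fst,
          prod.lift_fst_assoc]
      · simp only [Category.assoc, Limits.diag, prod.lift_snd, Category.comp_id, prod.map_snd,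
          prod.lift_snd_assoc, hxy]
    refine ⟨sq.lift (x ≫ a) (prod.lift x y) hc, ?_, ?_⟩
    · rw [← Category.assoc, sq.lift_snd, prod.lift_fst]
    · rw [← Category.assoc, sq.lift_snd, prod.lift_snd]
  · intro T z z' e1 e2
    apply sq.hom_ext
    · rw [h1, ← Category.assoc, ← Category.assoc, ← Category.assoc, ← Category.assoc,
        Category.assoc z, Category.assoc z', e1]
    · apply Limits.prod.hom_ext
      · simpa only [Category.assoc] using e1
      · simpa only [Category.assoc] using e2

end Magic

instance isIso_prodComparison_yon (A B : Over S) : IsIso (prodComparison (yon S) A B) :=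
  inferInstance

theorem yon_map_lift_prodComparison {R A B : Over S} (t : R ⟶ A) (s : R ⟶ B) :
    (yon S).map (prod.lift t s) ≫ prodComparison (yon S) A B =
      prod.lift ((yon S).map t) ((yon S).map s) := by
  apply Limits.prod.hom_ext
  · rw [Category.assoc, prodComparison_fst, ← Functor.map_comp, prod.lift_fst, prod.lift_fst]
  · rw [Category.assoc, prodComparison_snd, ← Functor.map_comp, prod.lift_snd, prod.lift_snd]

/-- The chart `h_{A × B} ⟶ X ⨯ Y` induced by charts of `X` and `Y`. -/
noncomputable def prodChart {X Y : Sp S} {A B : Over S} (p : (yon S).obj A ⟶ X)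
    (q : (yon S).obj B ⟶ Y) : (yon S).obj (A ⨯ B) ⟶ X ⨯ Y :=
  prodComparison (yon S) A B ≫ prod.map p q

theorem repWith_prod_map (Q : MorphismProperty Scheme.{u}) [Q.IsStableUnderComposition]
    {X Y X' Y' : Sp S} {p : X' ⟶ X} {q : Y' ⟶ Y} (hp : RepWith Q p) (hq : RepWith Q q) :
    RepWith Q (prod.map p q) := by
  have e : prod.map p q = prod.map p (𝟙 Y') ≫ prod.map (𝟙 X) q := by
    rw [prod.map_map, Category.comp_id, Category.id_comp]
  rw [e]
  exact repWith_comp Q (repWith_of_isPullback Q (IsPullback.of_prod_fst_with_id p Y') hp)
    (repWith_of_isPullback Q (isPullback_prod_snd_with_id q X) hq)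

theorem repWith_prodChart (Q : MorphismProperty Scheme.{u}) [Q.IsStableUnderComposition]
    {X Y : Sp S} {A B : Over S} {p : (yon S).obj A ⟶ X} {q : (yon S).obj B ⟶ Y}
    (hp : RepWith Q p) (hq : RepWith Q q) : RepWith Q (prodChart p q) :=
  (MorphismProperty.cancel_left_of_respectsIso (RepWith Q) _ _).2 (repWith_prod_map Q hp hq)

set_option backward.isDefEq.respectTransparency.types false in
theorem isLocallySurjective_prodChart {X Y : Sp S} {A B : Over S} {p : (yon S).obj A ⟶ X}
    {q : (yon S).obj B ⟶ Y} (hpe : RepWith @Etale p) (hps : RepWith @Surjective p)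
    (hqe : RepWith @Etale q) (hqs : RepWith @Surjective q) :
    Sheaf.IsLocallySurjective (prodChart p q) :=
  isLocallySurjective_of_etale_surjective _ (repWith_prodChart _ hpe hqe)
    (repWith_prodChart _ hps hqs)

/-- The pullback of the diagonal of `X` along the product of a chart with itself is the fibre
product of the chart with itself. -/
theorem isPullback_diag_prodChart {X : Sp S} {A R : Over S} {p : (yon S).obj A ⟶ X} {s t : R ⟶ A}
    (sq : IsPullback ((yon S).map t) ((yon S).map s) p p) :
    IsPullback ((yon S).map t ≫ p) ((yon S).map (prod.lift t s)) (Limits.diag X)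
      (prodChart p p) := by
  have h := isPullback_diag_of_isPullback' sq
  refine IsPullback.of_iso h (Iso.refl _) (Iso.refl _) (asIso (prodComparison (yon S) A A)).symm
    (Iso.refl _) (by simp) ?_ (by simp) ?_
  · simp only [Iso.symm_hom, asIso_inv, Iso.refl_hom, Category.id_comp, IsIso.comp_inv_eq]
    exact (yon_map_lift_prodComparison t s).symm
  · simp only [Iso.symm_hom, asIso_inv, Iso.refl_hom, Category.comp_id, prodChart,
      IsIso.inv_hom_id_assoc]

set_option backward.isDefEq.respectTransparency.types false in
/-- Chart criterion for properties of the diagonal. -/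
theorem repWith_diag_iff_of_chart {X : Sp S} (hX : Representable (Limits.diag X)) {A R : Over S}
    {p : (yon S).obj A ⟶ X} (hpe : RepWith @Etale p) (hps : RepWith @Surjective p)
    {s t : R ⟶ A} (sq : IsPullback ((yon S).map t) ((yon S).map s) p p)
    (P : MorphismProperty Scheme.{u}) [P.IsStableUnderBaseChange]
    [P.IsLocalAtTarget Scheme.fppfPrecoverage] :
    RepWith P (Limits.diag X) ↔ P (prod.lift t s).left := by
  have := isLocallySurjective_prodChart hpe hps hpe hps
  exact repWith_iff_of_chart hX (prodChart p p) (isPullback_diag_prodChart sq) P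

end Groth.Agent.Lib.Helper14.AS
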