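import Groth.Agent.Lib.Helper14.AlgSpQCMor2
import Groth.Agent.Lib.Helper14.AlgSpDiag

/-!
# Products of quasi-compact spaces; quasi-compactness from quasi-separatedness (helper14)
-/

universe u
open CategoryTheory CategoryTheory.Limits AlgebraicGeometry Opposite

namespace Groth.Agent.Lib.Helper14.AS

open AlgSp

variable {S : Scheme.{u}}

set_option backward.isDefEq.respectTransparency.types false in
theorem isAlgSpace_prod {X Y : Sp S} (hX : IsAlgSpace X) (hY : IsAlgSpace Y) :
    IsAlgSpace (X ⨯ Y) := by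
  refine ⟨(repDiag_iff _).2 ((repDiag_of_isAlgSpace hX).prod (repDiag_of_isAlgSpace hY)), ?_⟩
  obtain ⟨U, p, hpe, hps⟩ := hX.atlas
  obtain ⟨V, q, hqe, hqs⟩ := hY.atlas
  exact ⟨U ⨯ V, prodChart p q, repWith_prodChart _ hpe hqe, repWith_prodChart _ hps hqs⟩

theorem compactSpace_prod_left [QuasiSeparatedSpace ↥S] (U V : Over S) [CompactSpace ↥U.left]
    [CompactSpace ↥V.left] : CompactSpace ↥(U ⨯ V).left := by
  have e : (U ⨯ V).left ≅ pullback U.hom V.hom := Over.prodLeftIsoPullback U V
  have : CompactSpace ↥(pullback U.hom V.hom) := inferInstance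
  exact (Scheme.homeoOfIso e).symm.compactSpace

set_option backward.isDefEq.respectTransparency.types false in
theorem isQuasiCompactSp_prod [QuasiSeparatedSpace ↥S] {X Y : Sp S} (hX : IsQuasiCompactSp X)
    (hY : IsQuasiCompactSp Y) : IsQuasiCompactSp (X ⨯ Y) := by
  obtain ⟨U, p, hpe, hps, hU⟩ := hX
  obtain ⟨V, q, hqe, hqs, hV⟩ := hY
  have : CompactSpace ↥U.left := hU
  have : CompactSpace ↥V.left := hV
  exact ⟨U ⨯ V, prodChart p q, repWith_prodChart _ hpe hqe, repWith_prodChart _ hps hqs,
    compactSpace_prod_left U V⟩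

/-- A fibre product of quasi-compact algebraic spaces over a sheaf quasi-separated over `S` is
quasi-compact, when `S` is quasi-separated. -/
theorem isQuasiCompactSp_of_isPullback [QuasiSeparatedSpace ↥S] {X Y T T' : Sp S}
    (hX : IsAlgSpace X) (hXc : IsQuasiCompactSp X) (hT : IsAlgSpace T) (hTc : IsQuasiCompactSp T)
    (hY : IsQuasiSeparatedSp Y) {f : X ⟶ Y} {t : T ⟶ Y} {a : T' ⟶ X} {b : T' ⟶ T}
    (sq : IsPullback a b f t) : IsQuasiCompactSp T' := by
  have magic := isPullback_diag_of_isPullback' sq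
  have hΓ : RepWith @QuasiCompact (prod.lift a b) := repWith_of_isPullback _ magic hY
  have hq := isQuasiCompactMor_of_repWith hΓ
  exact hq (isAlgSpace_prod hX hT) (isQuasiCompactSp_prod hXc hTc) (𝟙 _) (𝟙 _) (prod.lift a b)
    (IsPullback.of_horiz_isIso ⟨by simp⟩)

/-- A morphism from a quasi-compact algebraic space to a sheaf quasi-separated over `S` is
quasi-compact, when `S` is quasi-separated. -/
theorem isQuasiCompactMor_of_isQuasiSeparatedSp [QuasiSeparatedSpace ↥S] {X Y : Sp S}
    (hX : IsAlgSpace X) (hXc : IsQuasiCompactSp X) (hY : IsQuasiSeparatedSp Y) (f : X ⟶ Y) :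
    IsQuasiCompactMor f := by
  intro T T' hT hTc t a b sq
  exact isQuasiCompactSp_of_isPullback hX hXc hT hTc hY sq

section Shuffle

variable {C : Type*} [Category C] [HasBinaryProducts C]

set_option backward.isDefEq.respectTransparency false in
/-- The diagonal of a subobject is a base change of the diagonal. -/
theorem isPullback_diag_of_mono {P W : C} (j : P ⟶ W) [Mono j] :
    IsPullback j (Limits.diag P) (Limits.diag W) (prod.map j j) := by
  refine isPullback_of_exists_unique ?_ ?_ ?_
  · apply Limits.prod.hom_ext <;> simp [Limits.diag]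
  · intro T x y hxy
    have h1 : x = (y ≫ prod.fst) ≫ j := by
      have := congrArg (· ≫ prod.fst) hxy
      simpa only [Category.assoc, Limits.diag, prod.lift_fst, Category.comp_id, prod.map_fst]
        using this
    have h2 : x = (y ≫ prod.snd) ≫ j := by
      have := congrArg (· ≫ prod.snd) hxy
      simpa only [Category.assoc, Limits.diag, prod.lift_snd, Category.comp_id, prod.map_snd]
        using this
    have h3 : y ≫ prod.fst = y ≫ prod.snd := by
      rw [← cancel_mono j, ← h1, ← h2]
    refine ⟨y ≫ prod.fst, h1.symm, ?_⟩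
    apply Limits.prod.hom_ext
    · simp [Limits.diag]
    · simp [Limits.diag, h3]
  · intro T z z' h _
    rwa [cancel_mono] at h

variable (X Z : C)

/-- The shuffle `(X ⨯ X) ⨯ (Z ⨯ Z) ⟶ (X ⨯ Z) ⨯ (X ⨯ Z)`. -/
noncomputable def shuffle : (X ⨯ X) ⨯ (Z ⨯ Z) ⟶ (X ⨯ Z) ⨯ (X ⨯ Z) :=
  prod.lift (prod.map prod.fst prod.fst) (prod.map prod.snd prod.snd)

/-- Its inverse. -/
noncomputable def shuffleInv : (X ⨯ Z) ⨯ (X ⨯ Z) ⟶ (X ⨯ X) ⨯ (Z ⨯ Z) :=
  prod.lift (prod.map prod.fst prod.fst) (prod.map prod.snd prod.snd)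

set_option backward.isDefEq.respectTransparency false in
theorem shuffle_shuffleInv : shuffle X Z ≫ shuffleInv X Z = 𝟙 _ := by
  apply Limits.prod.hom_ext <;> apply Limits.prod.hom_ext <;> simp [shuffle, shuffleInv]

set_option backward.isDefEq.respectTransparency false in
theorem shuffleInv_shuffle : shuffleInv X Z ≫ shuffle X Z = 𝟙 _ := by
  apply Limits.prod.hom_ext <;> apply Limits.prod.hom_ext <;> simp [shuffle, shuffleInv]

instance : IsIso (shuffle X Z) := ⟨shuffleInv X Z, shuffle_shuffleInv X Z, shuffleInv_shuffle X Z⟩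

set_option backward.isDefEq.respectTransparency false in
theorem diag_prod_eq : Limits.diag (X ⨯ Z) =
    prod.map (Limits.diag X) (Limits.diag Z) ≫ shuffle X Z := by
  apply Limits.prod.hom_ext <;> apply Limits.prod.hom_ext <;> simp [shuffle, Limits.diag]

end Shuffle

theorem repWith_diag_prod (Q : MorphismProperty Scheme.{u}) [Q.IsStableUnderComposition]
    {X Z : Sp S} (hX : RepWith Q (Limits.diag X)) (hZ : RepWith Q (Limits.diag Z)) :
    RepWith Q (Limits.diag (X ⨯ Z)) := by
  rw [diag_prod_eq]
  exact (MorphismProperty.cancel_right_of_respectsIso (RepWith Q) _ _).2 (repWith_prod_map Q hX hZ)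

theorem repWith_diag_of_mono (Q : MorphismProperty Scheme.{u}) {P W : Sp S} (j : P ⟶ W) [Mono j]
    (hW : RepWith Q (Limits.diag W)) : RepWith Q (Limits.diag P) :=
  repWith_of_isPullback Q (isPullback_diag_of_mono j) hW

theorem repWith_diag_of_isPullback (Q : MorphismProperty Scheme.{u}) [Q.IsStableUnderComposition]
    {X Z Y P : Sp S} {fst : P ⟶ X} {snd : P ⟶ Z} {f : X ⟶ Y} {g : Z ⟶ Y}
    (h : IsPullback fst snd f g) (hX : RepWith Q (Limits.diag X))
    (hZ : RepWith Q (Limits.diag Z)) : RepWith Q (Limits.diag P) := by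
  have : Mono (prod.lift fst snd) := by
    constructor
    intro Z a b hab
    apply h.hom_ext
    · have := congrArg (· ≫ prod.fst) hab
      simpa only [Category.assoc, prod.lift_fst] using this
    · have := congrArg (· ≫ prod.snd) hab
      simpa only [Category.assoc, prod.lift_snd] using this
  exact repWith_diag_of_mono Q (prod.lift fst snd) (repWith_diag_prod Q hX hZ)

end Groth.Agent.Lib.Helper14.AS
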