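import Groth.Agent.Lib.Helper14.AlgSpLfp
import Groth.Agent.Lib.Helper14.AlgSpSepDescent

/-!
# The diagonal of a morphism locally of finite type is locally of finite presentation (helper14)
-/

universe u
open CategoryTheory CategoryTheory.Limits AlgebraicGeometry Opposite Topology

namespace Groth.Agent.Lib.Helper14.AS

open AlgSp

variable {S : Scheme.{u}}

set_option backward.isDefEq.respectTransparency false in
/-- The map on fibre squares induced by `a : X' ⟶ X` inherits properties of `a`. -/
theorem repWith_fibreSquare_map (P : MorphismProperty Scheme.{u}) [P.IsStableUnderComposition]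
    {X' X Y : Sp S} {a : X' ⟶ X} (ha : RepWith P a) (f : X ⟶ Y) :
    RepWith P (pullback.map (a ≫ f) (a ≫ f) f f a a (𝟙 Y) (by simp) (by simp)) := by
  have e : pullback.map (a ≫ f) (a ≫ f) f f a a (𝟙 Y) (by simp) (by simp) =
      pullback.map (a ≫ f) (a ≫ f) (a ≫ f) f (𝟙 X') a (𝟙 Y) (by simp) (by simp) ≫
      pullback.map (a ≫ f) f f f a (𝟙 X) (𝟙 Y) (by simp) (by simp) := by
    apply pullback.hom_ext <;> simp
  have sq1 := isPullback_map_snd a f (a ≫ f)
  have sq2 := isPullback_map_fst a f f
  rw [e]
  exact repWith_comp P (repWith_of_isPullback P sq1.flip ha) (repWith_of_isPullback P sq2.flip ha)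

set_option backward.isDefEq.respectTransparency.types false in
/-- With compatible charts `a`, `b` and `h : U ⟶ V` locally of finite type, the projection
`U ×_Y U ⟶ U` is locally of finite type. -/
theorem lft_snd_fibreSquare {Y : Sp S} {U V R2 : Over S} (b : (yon S).obj V ⟶ Y)
    (hbe : RepWith @Etale b) (g : (yon S).obj U ⟶ Y) (h : U ⟶ V) (hg : g = (yon S).map h ≫ b)
    (hh : LocallyOfFiniteType h.left) {p1 p2 : R2 ⟶ U}
    (sq2 : IsPullback ((yon S).map p1) ((yon S).map p2) g g) : LocallyOfFiniteType p2.left := by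
  have sq3 := hbe.rep.isPullback g
  have he3 : Etale (hbe.rep.snd g).left := hbe.property_snd g
  obtain ⟨t3, ht3⟩ := (yon S).map_surjective (hbe.rep.fst g)
  rw [← ht3] at sq3
  have hc : ((yon S).map p1 ≫ (yon S).map h) ≫ b = (yon S).map p2 ≫ g := by
    rw [Category.assoc, ← hg]
    exact sq2.w
  obtain ⟨ν, hν⟩ := (yon S).map_surjective (sq3.lift _ _ hc)
  have hν1 : (yon S).map ν ≫ (yon S).map t3 = (yon S).map p1 ≫ (yon S).map h := by
    rw [hν, sq3.lift_fst]
  have hν2 : (yon S).map ν ≫ (yon S).map (hbe.rep.snd g) = (yon S).map p2 := by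
    rw [hν, sq3.lift_snd]
  have sqν : IsPullback ((yon S).map p1) ((yon S).map ν) ((yon S).map h) ((yon S).map t3) := by
    refine IsPullback.of_bot ?_ hν1.symm sq3
    rw [hν2, ← hg]
    exact sq2
  have sqν' : IsPullback p1 ν h t3 := IsPullback.of_map_of_faithful (yon S) sqν
  have hνlft : LocallyOfFiniteType ν.left :=
    MorphismProperty.of_isPullback (P := @LocallyOfFiniteType) (sqν'.map (Over.forget S)) hh
  have e : p2.left = ν.left ≫ (hbe.rep.snd g).left := by
    rw [← Over.comp_left]
    congr 1
    apply (yon S).map_injective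
    rw [Functor.map_comp, hν2]
  rw [e]
  infer_instance

set_option backward.isDefEq.respectTransparency.types false in
/-- The diagonal of a morphism locally of finite type is representable and locally of finite
presentation. -/
theorem repWith_lfp_diagonal_of_locP_lft {X Y : Sp S} (hX : IsAlgSpace X) (hY : IsAlgSpace Y)
    (f : X ⟶ Y) (hf : LocP @LocallyOfFiniteType f) :
    RepWith @LocallyOfFinitePresentation (pullback.diagonal f) := by
  obtain ⟨V, b, hbe, hbs⟩ := hY.atlas
  obtain ⟨U, a, h, hae, has, comm⟩ := exists_chart_diagram hX f b hbe hbs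
  have hh : LocallyOfFiniteType h.left := hf a b h hae hbe comm
  have hΔ : Representable (pullback.diagonal f) := representable_diagonal f hX.diag
  -- the schemes `U ×_X U` and `U ×_Y U`
  have sq1 := hae.rep.isPullback a
  have he1 : Etale (hae.rep.snd a).left := hae.property_snd a
  obtain ⟨p1', hp1'⟩ := (yon S).map_surjective (hae.rep.fst a)
  rw [← hp1'] at sq1
  have rep2 : Representable (a ≫ f) := repDiag_of_isAlgSpace hY (a ≫ f)
  have sq2 := rep2.isPullback (a ≫ f)
  obtain ⟨p1, hp1⟩ := (yon S).map_surjective (rep2.fst (a ≫ f))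
  rw [← hp1] at sq2
  have hlft2 : LocallyOfFiniteType (rep2.snd (a ≫ f)).left :=
    lft_snd_fibreSquare b hbe (a ≫ f) h comm hh sq2
  have hc : (yon S).map p1' ≫ a ≫ f = (yon S).map (hae.rep.snd a) ≫ a ≫ f := by
    rw [← Category.assoc, sq1.w, Category.assoc]
  obtain ⟨μ, hμ⟩ := (yon S).map_surjective (sq2.lift _ _ hc)
  have hμ1 : (yon S).map μ ≫ (yon S).map p1 = (yon S).map p1' := by rw [hμ, sq2.lift_fst]
  have hμ2 : (yon S).map μ ≫ (yon S).map (rep2.snd (a ≫ f)) = (yon S).map (hae.rep.snd a) := by
    rw [hμ, sq2.lift_snd]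
  have hμ2' : μ.left ≫ (rep2.snd (a ≫ f)).left = (hae.rep.snd a).left := by
    rw [← Over.comp_left]
    congr 1
    apply (yon S).map_injective
    rw [Functor.map_comp, hμ2]
  have hμlfp : LocallyOfFinitePresentation μ.left := by
    refine locallyOfFinitePresentation_of_comp μ.left (rep2.snd (a ≫ f)).left ?_ hlft2
    rw [hμ2']
    infer_instance
  -- the chart of `X ×_Y X`
  have hq0e := repWith_fibreSquare_map @Etale hae f
  have hq0s := repWith_fibreSquare_map @Surjective has f
  have hq0l : Sheaf.IsLocallySurjective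
      (sq2.isoPullback.hom ≫ pullback.map (a ≫ f) (a ≫ f) f f a a (𝟙 Y) (by simp) (by simp)) :=
    isLocallySurjective_of_etale_surjective _
      ((MorphismProperty.cancel_left_of_respectsIso (RepWith @Etale) _ _).2 hq0e)
      ((MorphismProperty.cancel_left_of_respectsIso (RepWith @Surjective) _ _).2 hq0s)
  have big := pullback_map_diagonal_isPullback a a f
  have key : IsPullback (sq1.isoPullback.hom ≫ pullback.fst a a ≫ a) ((yon S).map μ)
      (pullback.diagonal f)
      (sq2.isoPullback.hom ≫ pullback.map (a ≫ f) (a ≫ f) f f a a (𝟙 Y) (by simp) (by simp)) := by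
    refine IsPullback.of_iso big sq1.isoPullback.symm (Iso.refl _) sq2.isoPullback.symm (Iso.refl _)
      (by simp) ?_ (by simp) (by simp)
    rw [Iso.symm_hom, Iso.symm_hom, Iso.eq_inv_comp, ← Category.assoc, Iso.comp_inv_eq]
    apply pullback.hom_ext
    · rw [Category.assoc, Category.assoc, pullback.lift_fst, IsPullback.isoPullback_hom_fst,
        IsPullback.isoPullback_hom_fst_assoc, Category.comp_id, hμ1]
    · rw [Category.assoc, Category.assoc, pullback.lift_snd, IsPullback.isoPullback_hom_snd,
        IsPullback.isoPullback_hom_snd_assoc, Category.comp_id, hμ2]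
  exact repWith_of_isLocallySurjective_base hΔ _ key @LocallyOfFinitePresentation
    ((repWith_yon_map_iff _ _).2 hμlfp)

theorem diagonal_lfp_of_locP_lft {X Y : Sp S} (hX : IsAlgSpace X) (hY : IsAlgSpace Y)
    (f : X ⟶ Y) (hf : LocP @LocallyOfFiniteType f) :
    LocP @LocallyOfFinitePresentation (pullback.diagonal f) ∧
    (IsQuasiSeparatedMor f → IsFinitePresentationMor (pullback.diagonal f)) := by
  have h1 : LocP @LocallyOfFinitePresentation (pullback.diagonal f) :=
    locP_of_repWith etale_le_lfp (repWith_lfp_diagonal_of_locP_lft hX hY f hf)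
  refine ⟨h1, fun hqs => ⟨h1, isQuasiCompactMor_of_repWith hqs, ?_⟩⟩
  have : IsIso (pullback.diagonal (pullback.diagonal f)) :=
    (pullback.isIso_diagonal_iff _).2 inferInstance
  exact repWith_of_isIso _ _

end Groth.Agent.Lib.Helper14.AS
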