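import Mathlib.AlgebraicGeometry.AffineTransitionLimit
import Mathlib.AlgebraicGeometry.Morphisms.FinitePresentation
import Mathlib.RingTheory.Spectrum.Prime.ConstructibleSet
import Groth.Agent.S9207
universe u
open CategoryTheory CategoryTheory.Limits AlgebraicGeometry Opposite Topology
namespace Groth.Agent.Lib.Helper14.AS

theorem exists_point_of_isPullback_scheme {P X Y Z : Scheme.{u}} {fst : P ⟶ X} {snd : P ⟶ Y}
    {f : X ⟶ Z} {g : Y ⟶ Z} (h : IsPullback fst snd f g) (x : X) (y : Y) (hxy : f x = g y) :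
    ∃ p : P, fst p = x ∧ snd p = y := by
  obtain ⟨z, hz1, hz2⟩ := Scheme.Pullback.exists_preimage_pullback x y hxy
  refine ⟨h.isoPullback.inv z, ?_, ?_⟩
  · rw [← Scheme.Hom.comp_apply, h.isoPullback_inv_fst, hz1]
  · rw [← Scheme.Hom.comp_apply, h.isoPullback_inv_snd, hz2]

/-- a constructible subset of an affine scheme is the image of an affine scheme -/
theorem exists_affine_range_eq_of_isConstructible {Y : Scheme.{u}} [IsAffine Y] {Z : Set Y}
    (hZ : IsConstructible Z) :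
    ∃ (T : Scheme.{u}) (τ : T ⟶ Y), IsAffine T ∧ Set.range τ = Z := by
  let e := Y.isoSpec
  have hZ' : IsConstructible (e.inv ⁻¹' Z) := e.inv.isConstructible_preimage hZ
  obtain ⟨C, _, φ, hφ⟩ := PrimeSpectrum.exists_range_eq_of_isConstructible hZ'
  refine ⟨Spec (CommRingCat.of C), Spec.map (CommRingCat.ofHom φ) ≫ e.inv, inferInstance, ?_⟩
  ext y
  constructor
  · rintro ⟨t, rfl⟩
    have : (Spec.map (CommRingCat.ofHom φ)) t ∈ e.inv ⁻¹' Z := by
      rw [← hφ]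
      exact ⟨t, rfl⟩
    exact this
  · intro hy
    have h1 : e.hom y ∈ e.inv ⁻¹' Z := by
      change e.inv (e.hom y) ∈ Z
      rw [← Scheme.Hom.comp_apply, e.hom_inv_id]
      exact hy
    rw [← hφ] at h1
    obtain ⟨t, ht⟩ := h1
    let t' : ↥(Spec (CommRingCat.of C)) := t
    have h2 : (Spec.map (CommRingCat.ofHom φ)) t' = e.hom y := ht
    refine ⟨t', ?_⟩
    change e.inv ((Spec.map (CommRingCat.ofHom φ)) t') = y
    rw [h2, ← Scheme.Hom.comp_apply, e.hom_inv_id]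
    rfl

/-- surjectivity descends through cofiltered limits of qcqs schemes with affine transitions -/
theorem exists_surjective_descend {I : Type u} [SmallCategory I] [IsCofiltered I]
    (D : I ⥤ Scheme.{u}) (c : Cone D) (hc : IsLimit c)
    [∀ (i j : I) (f : i ⟶ j), IsAffineHom (D.map f)] [∀ i, CompactSpace (D.obj i)]
    [∀ i, QuasiSeparatedSpace (D.obj i)] (i₀ : I) {X₀ Y₀ : Scheme.{u}} (f₀ : X₀ ⟶ Y₀)
    (g₀ : Y₀ ⟶ D.obj i₀) [IsAffine Y₀] [LocallyOfFinitePresentation f₀] [QuasiCompact f₀]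
    {X Y : Scheme.{u}} (f : X ⟶ Y) (g : Y ⟶ c.pt) (qY : Y ⟶ Y₀) (qX : X ⟶ X₀)
    (hY : IsPullback qY g g₀ (c.π.app i₀)) (hX : IsPullback qX f f₀ qY) [Surjective f] :
    ∃ (i : I) (φ : i ⟶ i₀), ∀ (Xi Yi : Scheme.{u}) (fi : Xi ⟶ Yi) (gi : Yi ⟶ D.obj i)
      (pY : Yi ⟶ Y₀) (pX : Xi ⟶ X₀), IsPullback pY gi g₀ (D.map φ) → IsPullback pX fi f₀ pY →
      Surjective fi := by
  have hE : IsConstructible (Set.range f₀) := by
    rw [← Set.image_univ]
    exact f₀.isConstructible_image IsConstructible.univ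
  obtain ⟨T, τ, hT, hτ⟩ := exists_affine_range_eq_of_isConstructible hE.compl
  have hempty : IsEmpty ↥(pullback (τ ≫ g₀) (c.π.app i₀)) := by
    constructor
    intro p
    let t := (pullback.fst (τ ≫ g₀) (c.π.app i₀)) p
    let s := (pullback.snd (τ ≫ g₀) (c.π.app i₀)) p
    have hts : g₀ (τ t) = (c.π.app i₀) s := by
      rw [← Scheme.Hom.comp_apply, ← Scheme.Hom.comp_apply, ← Scheme.Hom.comp_apply,
        pullback.condition]
    obtain ⟨y, hy1, hy2⟩ := exists_point_of_isPullback_scheme hY (τ t) s hts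
    obtain ⟨x, rfl⟩ := f.surjective y
    have h1 : τ t ∈ Set.range f₀ := by
      refine ⟨qX x, ?_⟩
      rw [← Scheme.Hom.comp_apply, hX.w, Scheme.Hom.comp_apply, hy1]
    have h2 : τ t ∈ (Set.range f₀)ᶜ := by rw [← hτ]; exact ⟨t, rfl⟩
    exact h2 h1
  obtain ⟨i, φ, hi⟩ := Groth.Agent.S9207.result D c hc i₀ (τ ≫ g₀) hempty
  refine ⟨i, φ, fun Xi Yi fi gi pY pX hYi hXi => ⟨fun y' => ?_⟩⟩
  by_cases hy : pY y' ∈ Set.range f₀
  · obtain ⟨x₀, hx₀⟩ := hy
    obtain ⟨x', -, hx'⟩ := exists_point_of_isPullback_scheme hXi x₀ y' hx₀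
    exact ⟨x', hx'⟩
  · exfalso
    have h2 : pY y' ∈ Set.range τ := by rw [hτ]; exact hy
    obtain ⟨t, ht⟩ := h2
    have hcond : (τ ≫ g₀) t = (D.map φ) (gi y') := by
      rw [Scheme.Hom.comp_apply, ht, ← Scheme.Hom.comp_apply, hYi.w, Scheme.Hom.comp_apply]
    obtain ⟨p, -, -⟩ := Scheme.Pullback.exists_preimage_pullback t (gi y') hcond
    exact hi.false p

end Groth.Agent.Lib.Helper14.AS
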