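import Groth.Prelude.Def_AlgSp4
import Groth.Agent.Lib.Helper14.LimD
import Groth.Agent.Lib.Helper14.LimP
import Groth.Agent.Lib.Helper14.AlgSpBase
import Groth.Agent.Lib.Helper14.AlgSpQCMor
universe u
open CategoryTheory CategoryTheory.Limits AlgebraicGeometry Opposite
namespace Groth.Agent.Lib.Helper14.AS
variable {S : Scheme.{u}}
open AlgSp
open LimChart

/-- scheme-level descent of a property of morphisms through cofiltered limits with affine
transition maps, for `f₀` locally of finite type -/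
def SchDescendsFT (P : MorphismProperty Scheme.{u}) : Prop :=
  ∀ {I : Type u} [SmallCategory I] [IsCofiltered I]
    (D : I ⥤ Scheme.{u}) (c : Limits.Cone D) (_ : Limits.IsLimit c)
    [∀ (i j : I) (f : i ⟶ j), IsAffineHom (D.map f)] (i₀ : I) [CompactSpace (D.obj i₀)]
    [QuasiSeparatedSpace (D.obj i₀)] {X₀ Y₀ : Scheme.{u}} (f₀ : X₀ ⟶ Y₀) (g₀ : Y₀ ⟶ D.obj i₀)
    [CompactSpace X₀] [QuasiSeparatedSpace X₀] [CompactSpace Y₀] [QuasiSeparatedSpace Y₀]
    [LocallyOfFiniteType f₀]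
    {X Y : Scheme.{u}} (f : X ⟶ Y) (g : Y ⟶ c.pt) (qY : Y ⟶ Y₀) (qX : X ⟶ X₀)
    (_ : IsPullback qY g g₀ (c.π.app i₀)) (_ : IsPullback qX f f₀ qY), P f →
    ∃ (i : I) (φ : i ⟶ i₀) (Xi Yi : Scheme.{u}) (fi : Xi ⟶ Yi) (gi : Yi ⟶ D.obj i) (pY : Yi ⟶ Y₀)
      (pX : Xi ⟶ X₀), IsPullback pY gi g₀ (D.map φ) ∧ IsPullback pX fi f₀ pY ∧ P fi

section Transfer

variable {C : Type*} [Category C]

/-- in the situation of `exists_chart_transfer`, if the chart square of `f₀` is cartesian so is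
the transferred one -/
theorem isPullback_transfer {Y₀ X₀ Y' X' V₀ U₀ V' U' : C}
    {f₀ : X₀ ⟶ Y₀} {pY : Y' ⟶ Y₀} {pX : X' ⟶ X₀} {f : X' ⟶ Y'} (hX : IsPullback pX f f₀ pY)
    {v : V₀ ⟶ Y₀} {a : U₀ ⟶ X₀} {s : U₀ ⟶ V₀} (sq₀ : IsPullback a s f₀ v)
    {r : V' ⟶ V₀} {m : U' ⟶ U₀} {n : U' ⟶ V'} (hU : IsPullback m n s r)
    {b' : V' ⟶ Y'} {a' : U' ⟶ X'} (hb : r ≫ v = b' ≫ pY) (ha : m ≫ a = a' ≫ pX)
    (comm : a' ≫ f = n ≫ b') : IsPullback a' n f b' := by
  have big : IsPullback (a' ≫ pX) n f₀ (b' ≫ pY) := by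
    rw [← hb, ← ha]
    exact hU.paste_horiz sq₀
  exact IsPullback.of_right big comm hX

end Transfer

section Lim

variable {I : Type u} [SmallCategory I] [IsCofiltered I]

set_option backward.isDefEq.respectTransparency.types false in
set_option maxHeartbeats 800000 in
theorem descend_repWith_limit [QuasiSeparatedSpace S] {P : MorphismProperty Scheme.{u}}
    [P.IsStableUnderBaseChange] [P.IsLocalAtTarget Scheme.fppfPrecoverage]
    (hdesc : SchDescendsFT P)
    (D : I ⥤ Sp S)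
    (hDa : ∀ (i j : I) (φ : i ⟶ j), IsAffineMor (D.map φ))
    (c : Cone D) (hc : IsLimit c) (i₀ : I)
    (X₀ Y₀ : Space S) (f₀ : X₀.obj ⟶ Y₀.obj) (b₀ : Y₀.obj ⟶ D.obj i₀)
    (hYqc : IsQuasiCompactSp Y₀.obj)
    (hrep : Representable f₀) (hqcf : IsQuasiCompactMor f₀)
    (hqsf : RepWith @QuasiSeparated f₀) (hlft : RepWith @LocallyOfFiniteType f₀)
    (X Y : Sp S) (f : X ⟶ Y) (pY : Y ⟶ Y₀.obj) (qY : Y ⟶ c.pt)
    (hY : IsPullback pY qY b₀ (c.π.app i₀)) (pX : X ⟶ X₀.obj) (hX : IsPullback pX f f₀ pY)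
    (hf : RepWith P f) :
    ∃ (i : I) (φ : i ⟶ i₀), ∀ (Xi Yi : Sp S) (fi : Xi ⟶ Yi) (pYi : Yi ⟶ Y₀.obj)
      (qYi : Yi ⟶ D.obj i)
      (_ : IsPullback pYi qYi b₀ (D.map φ)) (pXi : Xi ⟶ X₀.obj) (_ : IsPullback pXi fi f₀ pYi),
      RepWith P fi := by
  -- affine chart of Y₀
  obtain ⟨V₀, v, hV₀, hve, hvs⟩ := isQuasiCompactSp_iff_exists_affine_chart.1 hYqc
  have : IsAffine V₀.left := hV₀
  have hV₀alg : IsAlgSpace ((yon S).obj V₀) := IsAlgSpace.yon_obj V₀
  have hV₀qc : IsQuasiCompactSp ((yon S).obj V₀) :=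
    ⟨V₀, 𝟙 _, repWith_id _ _, repWith_id _ _, inferInstance⟩
  -- the scheme X₀ ×_{Y₀} V₀
  have sq₀ := hrep.isPullback v
  obtain ⟨U₀, a, s, hU₀, hs⟩ : ∃ (U₀ : Over S) (a : (yon S).obj U₀ ⟶ X₀.obj) (s : U₀ ⟶ V₀),
      IsPullback a ((yon S).map s) f₀ v ∧ True := ⟨_, _, _, sq₀, trivial⟩
  clear sq₀ hs
  have comm : a ≫ f₀ = (yon S).map s ≫ v := hU₀.w
  have hU₀qc : CompactSpace U₀.left :=
    (isQuasiCompactSp_yon_iff U₀).1 (hqcf hV₀alg hV₀qc v _ _ hU₀)
  have hsqs : QuasiSeparated s.left := hqsf.property v a s hU₀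
  have hslft : LocallyOfFiniteType s.left := hlft.property v a s hU₀
  have hU₀qs : QuasiSeparatedSpace U₀.left := quasiSeparatedSpace_of_quasiSeparated s.left
  -- the chart system
  obtain ⟨cs, haff, haffc⟩ := exists_chartSystem D hDa c hc i₀ hV₀ (v ≫ b₀)
  have hconn : IsConnected (Over i₀) := IsCofiltered.isConnected _
  let D' : Over i₀ ⥤ Scheme.{u} := cs.G ⋙ Over.forget S
  let c' : Cone D' := (Over.forget S).mapCone cs.cG
  have hc' : IsLimit c' := isLimitOfPreserves (Over.forget S) cs.hcG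
  have h1 : ∀ (a b : Over i₀) (f : a ⟶ b), IsAffineHom (D'.map f) := by
    intro a b f
    have := haff a
    have := haff b
    exact isAffineHom_of_isAffine (X := (cs.G.obj a).left) (Y := (cs.G.obj b).left) _
  let j₀ : Over i₀ := Over.mk (𝟙 i₀)
  have : IsAffine (D'.obj j₀) := haff j₀
  -- ι j₀ is an isomorphism
  have hιiso : IsIso (cs.ι j₀) := by
    have h := cs.sq j₀
    have hid : D.map j₀.hom = 𝟙 _ := D.map_id i₀
    have : IsIso (D.map j₀.hom) := by rw [hid]; infer_instance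
    have : IsIso ((yon S).map (cs.ι j₀)) := h.isIso_snd_of_isIso
    exact isIso_of_fully_faithful (yon S) _
  let e₀ : (cs.G.obj j₀).left ≅ V₀.left := (Over.forget S).mapIso (asIso (cs.ι j₀))
  have he₀ : e₀.hom = (cs.ι j₀).left := rfl
  let g₀s : V₀.left ⟶ D'.obj j₀ := e₀.inv
  have hg₀s : IsIso g₀s := inferInstanceAs (IsIso e₀.inv)
  have hπb : ∀ j, (cs.cG.π.app j).left ≫ (cs.ι j).left = cs.b.left := fun j => by
    rw [← Over.comp_left, cs.π_ι]
  have hYs : IsPullback cs.b.left (𝟙 cs.cG.pt.left) e₀.inv (cs.cG.π.app j₀).left := by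
    refine IsPullback.of_vert_isIso ⟨?_⟩
    rw [Category.id_comp, Iso.comp_inv_eq, he₀]
    exact (hπb j₀).symm
  -- the scheme `U'` over the limit
  have hU := IsPullback.of_hasPullback s cs.b
  have hUs : IsPullback (pullback.fst s cs.b).left (pullback.snd s cs.b).left s.left cs.b.left :=
    hU.map (Over.forget S)
  have hUy := hU.map (yon S)
  obtain ⟨b', a', sqb', sqa', comm', -⟩ := exists_chart_transfer hY hX comm cs.isPullback hUy
  have sqU' : IsPullback a' ((yon S).map (pullback.snd s cs.b)) f b' :=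
    isPullback_transfer hX hU₀ hUy sqb'.w sqa'.w comm'
  have hPf : P (pullback.snd s cs.b).left := hf.property b' a' _ sqU'
  obtain ⟨j, φ', Xi', Yi', fi', gi, pY', pX', sqY', sqX', hPfi⟩ :=
    hdesc D' c' hc' j₀ s.left g₀s (pullback.snd s cs.b).left (𝟙 _) cs.b.left
      (pullback.fst s cs.b).left hYs hUs hPf
  have hgi : IsIso gi := sqY'.isIso_snd_of_isIso
  have hpY' : pY' = gi ≫ (cs.ι j).left := by
    have h : pY' ≫ e₀.inv = gi ≫ D'.map φ' := sqY'.w
    rw [Iso.comp_inv_eq] at h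
    have hkey : (cs.G.map φ').left ≫ (cs.ι j₀).left = (cs.ι j).left := by
      rw [← Over.comp_left, cs.map_ι]
    exact h.trans ((Category.assoc _ _ _).trans (congrArg (gi ≫ ·) hkey))
  refine ⟨j.left, j.hom, fun Xi Yi fi pYi qYi hYi pXi hXi => ?_⟩
  have hUj := IsPullback.of_hasPullback s (cs.ι j)
  have hUjs := hUj.map (Over.forget S)
  have hUjy := hUj.map (yon S)
  obtain ⟨bj, aj, sqbj, sqaj, commj, -⟩ := exists_chart_transfer hYi hXi comm (cs.sq j) hUjy
  have hbje : RepWith @Etale bj := repWith_of_isPullback _ sqbj hve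
  have hbjs : RepWith @Surjective bj := repWith_of_isPullback _ sqbj hvs
  have sqUj : IsPullback aj ((yon S).map (pullback.snd s (cs.ι j))) fi bj :=
    isPullback_transfer hXi hU₀ hUjy sqbj.w sqaj.w commj
  have hfirep : Representable fi := MorphismProperty.of_isPullback hXi hrep
  have : Sheaf.IsLocallySurjective bj := isLocallySurjective_of_etale_surjective bj hbje hbjs
  refine (repWith_iff_of_chart hfirep bj sqUj P).2 ?_
  -- compare the two pullbacks
  have sqX'' : IsPullback pX' (fi' ≫ gi) s.left (cs.ι j).left :=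
    IsPullback.of_iso sqX' (Iso.refl _) (Iso.refl _) (asIso gi) (Iso.refl _)
      (by simp) (by simp) (by simp) (by simp [hpY'])
  let e := hUjs.isoIsPullback _ _ sqX''
  have he : (pullback.snd s (cs.ι j)).left = e.hom ≫ (fi' ≫ gi) :=
    (IsPullback.isoIsPullback_hom_snd _ _ hUjs sqX'').symm
  rw [he]
  exact (P.cancel_left_of_respectsIso e.hom (fi' ≫ gi)).2
    ((P.cancel_right_of_respectsIso fi' gi).2 hPfi)

end Lim

end Groth.Agent.Lib.Helper14.AS
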