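import Groth.Prelude.Def_AlgSp4
import Groth.Agent.Lib.Helper14.LimS
import Groth.Agent.Lib.Helper14.FppfLocalInst2
import Groth.Agent.Lib.Helper14.AlgSpDiag3
import Groth.Agent.S9189
universe u
open CategoryTheory CategoryTheory.Limits AlgebraicGeometry Opposite
namespace Groth.Agent.Lib.Helper14.AS
variable {S : Scheme.{u}}
open AlgSp

theorem schDescendsFT_isClosedImmersion : SchDescendsFT @IsClosedImmersion.{u} := by
  intro I _ _ D c hc _ i₀ _ _ X₀ Y₀ f₀ g₀ _ _ _ _ _ X Y f g qY qX hY hX hP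
  have : IsClosedImmersion f := hP
  exact Groth.Agent.S9189.result D c hc i₀ f₀ g₀ f g qY qX hY hX

section Lim

variable {I : Type u} [SmallCategory I] [IsCofiltered I]

set_option backward.isDefEq.respectTransparency.types false in
theorem descend_separated_limit_qc [QuasiSeparatedSpace S]
    (D : I ⥤ Sp S)
    (hDa : ∀ (i j : I) (φ : i ⟶ j), IsAffineMor (D.map φ))
    (c : Cone D) (hc : IsLimit c) (i₀ : I)
    (X₀ Y₀ : Space S) (f₀ : X₀.obj ⟶ Y₀.obj) (b₀ : Y₀.obj ⟶ D.obj i₀)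
    (hXqc : IsQuasiCompactSp X₀.obj) (hXqs : IsQuasiSeparatedSp X₀.obj)
    (hqcf : IsQuasiCompactMor f₀)
    (X Y : Sp S) (f : X ⟶ Y) (pY : Y ⟶ Y₀.obj) (qY : Y ⟶ c.pt)
    (hY : IsPullback pY qY b₀ (c.π.app i₀)) (pX : X ⟶ X₀.obj) (hX : IsPullback pX f f₀ pY)
    (hf : IsSeparatedMor f) :
    ∃ (i : I) (φ : i ⟶ i₀), ∀ (Xi Yi : Sp S) (fi : Xi ⟶ Yi) (pYi : Yi ⟶ Y₀.obj)
      (qYi : Yi ⟶ D.obj i)
      (_ : IsPullback pYi qYi b₀ (D.map φ)) (pXi : Xi ⟶ X₀.obj) (_ : IsPullback pXi fi f₀ pYi),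
      IsSeparatedMor fi := by
  have sqP := IsPullback.of_hasPullback f₀ f₀
  have P₀alg : IsAlgSpace (pullback f₀ f₀) :=
    isAlgSpace_of_isPullback (repDiag_of_isAlgSpace Y₀.property) X₀.property X₀.property sqP
  have P₀qc : IsQuasiCompactSp (pullback f₀ f₀) := hqcf X₀.property hXqc f₀ _ _ sqP
  have hΔqc : IsQuasiCompactMor (pullback.diagonal f₀) :=
    isQuasiCompactMor_of_repWith (repWith_diagonal_of_diag _ f₀ hXqs)
  obtain ⟨hΔrep, hΔlft, -, hΔsep, -⟩ := diagonal_hom_properties X₀.property f₀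
  have hΔqs : RepWith @QuasiSeparated (pullback.diagonal f₀) :=
    repWith_mono (fun _ _ k hk => by
      have : IsSeparated k := hk
      infer_instance) hΔsep
  obtain ⟨hY', hX'⟩ := diag_squares hY hX
  obtain ⟨i, φ, h⟩ := descend_repWith_limit schDescendsFT_isClosedImmersion D hDa c hc i₀ X₀
    ⟨pullback f₀ f₀, P₀alg⟩
    (pullback.diagonal f₀) (pullback.fst f₀ f₀ ≫ f₀ ≫ b₀) P₀qc hΔrep hΔqc hΔqs hΔlft
    X (pullback f f) (pullback.diagonal f) _ _ hY' pX hX' hf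
  refine ⟨i, φ, fun Xi Yi fi pYi qYi hYi pXi hXi => ?_⟩
  obtain ⟨hYi', hXi'⟩ := diag_squares hYi hXi
  exact h Xi (pullback fi fi) (pullback.diagonal fi) _ _ hYi' pXi hXi'

end Lim

end Groth.Agent.Lib.Helper14.AS
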