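import Groth.Prelude.Def_AlgSp4
import Groth.Agent.Lib.Helper14.LimU
import Groth.Agent.Lib.Helper14.LimT
import Groth.Agent.Lib.Helper14.LimH
import Groth.Agent.Lib.Helper14.LimJ
import Groth.Agent.Lib.Helper14.AlgSpImm
import Groth.Agent.Lib.Helper14.AlgSpAffineMor
import Groth.Agent.Lib.Helper14.GrpNear
import Groth.Agent.Lib.Helper14.GpdSep
import Groth.Agent.Lib.Helper14.GrpSep
universe u
open CategoryTheory CategoryTheory.Limits AlgebraicGeometry Opposite
namespace Groth.Agent.Lib.Helper14.AS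
variable {S : Scheme.{u}}
open AlgSp

section Lim

variable {I : Type u} [SmallCategory I] [IsCofiltered I]

theorem isQuasiCompactSp_of_limit (D : I ⥤ Sp S) (hD : ∀ i, IsAlgSpace (D.obj i))
    (hDa : ∀ (i j : I) (φ : i ⟶ j), IsAffineMor (D.map φ))
    (c : Cone D) (hc : IsLimit c) (i : I) (hqc : IsQuasiCompactSp (D.obj i)) :
    IsQuasiCompactSp c.pt := by
  have ha := isAffineMor_of_limit D hDa c hc i
  have hr : RepWith @QuasiCompact (c.π.app i) :=
    repWith_mono (fun _ _ k hk => by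
      have : IsAffineHom k := hk
      infer_instance) (repWith_isAffineHom_of_isAffineMor' _ ha)
  exact isQuasiCompactMor_of_repWith hr (hD i) hqc (𝟙 _) (𝟙 _) (c.π.app i)
    (IsPullback.of_horiz_isIso ⟨by simp⟩)

theorem locP_lft_id (X : Sp S) : LocP @LocallyOfFiniteType (𝟙 X) :=
  locP_mono (fun _ _ k hk => by
    have : Etale k := hk
    infer_instance) (locP_etale_of_isEtaleMor (isEtaleMor_of_isIso (𝟙 X)))

set_option backward.isDefEq.respectTransparency.types false in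
set_option maxHeartbeats 1600000 in
theorem eventually_isSeparatedMor_of_limit [QuasiSeparatedSpace S]
    (Y : Sp S) (hYd : RepDiag Y) (hYqs : IsQuasiSeparatedSp Y)
    (D : I ⥤ Sp S) (hD : ∀ i, IsAlgSpace (D.obj i))
    (t : D ⟶ (Functor.const I).obj Y)
    (hDa : ∀ (i j : I) (φ : i ⟶ j), IsAffineMor (D.map φ))
    (c : Cone D) (hc : IsLimit c) (g : c.pt ⟶ Y) (hg : ∀ i, c.π.app i ≫ t.app i = g)
    (hqc : ∀ i, IsQuasiCompactSp (D.obj i)) (hqs : ∀ i, IsQuasiSeparatedSp (D.obj i))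
    (hX : IsSeparatedMor g) :
    ∃ i₀ : I, ∀ (i : I) (_ : i ⟶ i₀), IsSeparatedMor (t.app i) := by
  have hconn : IsConnected I := IsCofiltered.isConnected I
  have ht : ∀ {j j' : I} (φ : j ⟶ j'), D.map φ ≫ t.app j' = t.app j := fun φ => by
    have := t.naturality φ
    simpa using this
  have hXalg : IsAlgSpace c.pt := isAlgSpace_of_limit D hD hDa c hc
  obtain ⟨i₁⟩ := IsCofiltered.nonempty (C := I)
  have hXqc : IsQuasiCompactSp c.pt := isQuasiCompactSp_of_limit D hD hDa c hc i₁ (hqc i₁)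
  -- Step 1 : the graph of some projection is a closed immersion
  have hc1 : IsLimit (pbCone D t.app ht g c g hg) := isLimitPbCone D t.app ht g c g hg hc
  let t1 : pbDiag D t.app ht g ⟶ (Functor.const I).obj c.pt :=
    { app := fun j => pullback.snd (t.app j) g
      naturality := fun j j' φ =>
        (pbMap_snd D t.app ht g φ).trans (Category.comp_id _).symm }
  have hF1alg : ∀ j, IsAlgSpace ((pbDiag D t.app ht g).obj j) := fun j =>
    isAlgSpace_of_isPullback hYd (hD j) hXalg (IsPullback.of_hasPullback (t.app j) g)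
  have hF1a : ∀ (i j : I) (φ : i ⟶ j), IsAffineMor ((pbDiag D t.app ht g).map φ) :=
    fun i j φ => isAffineMor_of_isPullback (isPullback_pbMap D t.app ht g φ) (hDa i j φ)
  have hF1qc : ∀ j, IsQuasiCompactSp ((pbDiag D t.app ht g).obj j) := fun j =>
    isQuasiCompactSp_of_isPullback (hD j) (hqc j) hXalg hXqc hYqs
      (IsPullback.of_hasPullback (t.app j) g)
  have hid : pullback.diagonal g ≫ (pbCone D t.app ht g c g hg).π.app i₁ ≫ t1.app i₁ =
      𝟙 c.pt := by
    change pullback.diagonal g ≫ pbLeg D t.app ht g c g hg i₁ ≫ pullback.snd (t.app i₁) g = 𝟙 _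
    rw [pbLeg_snd, pullback.diagonal_snd]
  obtain ⟨i₂, h2⟩ := eventually_closedImmersion_of_limit ⟨c.pt, hXalg⟩ (pbDiag D t.app ht g)
    hF1alg t1 hF1a (pbCone D t.app ht g c g hg) hc1 hF1qc ⟨c.pt, hXalg⟩ (pullback.diagonal g) hX i₁
    (by
      have := locP_lft_id (S := S) c.pt
      rw [← hid] at this
      exact this)
  have hΓ2 : RepWith @IsClosedImmersion
      (pullback.diagonal g ≫ pbLeg D t.app ht g c g hg i₂) := h2 i₂ (𝟙 i₂)
  -- Step 2 : descend the graph
  have hc2 : IsLimit (pbCone D t.app ht (t.app i₂) c g hg) :=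
    isLimitPbCone D t.app ht (t.app i₂) c g hg hc
  have hF2alg : ∀ j, IsAlgSpace ((pbDiag D t.app ht (t.app i₂)).obj j) := fun j =>
    isAlgSpace_of_isPullback hYd (hD j) (hD i₂) (IsPullback.of_hasPullback (t.app j) (t.app i₂))
  have hF2a : ∀ (i j : I) (φ : i ⟶ j), IsAffineMor ((pbDiag D t.app ht (t.app i₂)).map φ) :=
    fun i j φ => isAffineMor_of_isPullback (isPullback_pbMap D t.app ht (t.app i₂) φ) (hDa i j φ)
  have hY₀qc : IsQuasiCompactSp ((pbDiag D t.app ht (t.app i₂)).obj i₂) :=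
    isQuasiCompactSp_of_isPullback (hD i₂) (hqc i₂) (hD i₂) (hqc i₂) hYqs
      (IsPullback.of_hasPullback (t.app i₂) (t.app i₂))
  obtain ⟨hΔrep, hΔlft, -, hΔsep, -⟩ := diagonal_hom_properties (hD i₂) (t.app i₂)
  have hΔqs : RepWith @QuasiSeparated (pullback.diagonal (t.app i₂)) :=
    repWith_mono (fun _ _ k hk => by
      have : IsSeparated k := hk
      infer_instance) hΔsep
  have hΔqc : IsQuasiCompactMor (pullback.diagonal (t.app i₂)) :=
    isQuasiCompactMor_of_repWith (repWith_diagonal_of_diag _ (t.app i₂) (hqs i₂))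
  let Γ : c.pt ⟶ pullback g (t.app i₂) := pullback.lift (𝟙 _) (c.π.app i₂) (by
    rw [Category.id_comp, hg])
  have hΓ1 : Γ ≫ pullback.fst g (t.app i₂) = 𝟙 _ := pullback.lift_fst _ _ _
  have hΓs : Γ ≫ pullback.snd g (t.app i₂) = c.π.app i₂ := pullback.lift_snd _ _ _
  have hΓ : RepWith @IsClosedImmersion Γ := by
    have e : Γ = (pullback.diagonal g ≫ pbLeg D t.app ht g c g hg i₂) ≫
        (pullbackSymmetry (t.app i₂) g).hom := by
      apply pullback.hom_ext
      · rw [hΓ1, Category.assoc, Category.assoc, pullbackSymmetry_hom_comp_fst, pbLeg_snd,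
          pullback.diagonal_snd]
      · rw [hΓs, Category.assoc, Category.assoc, pullbackSymmetry_hom_comp_snd, pbLeg_fst,
          pullback.diagonal_fst_assoc]
    rw [e]
    exact (MorphismProperty.cancel_right_of_respectsIso (RepWith @IsClosedImmersion) _ _).2 hΓ2
  have hYsq : IsPullback (pbLeg D t.app ht (t.app i₂) c g hg i₂) (𝟙 (pullback g (t.app i₂)))
      (𝟙 (pullback (t.app i₂) (t.app i₂))) (pbLeg D t.app ht (t.app i₂) c g hg i₂) :=
    IsPullback.of_vert_isIso ⟨by simp⟩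
  have hXsq : IsPullback (c.π.app i₂) Γ (pullback.diagonal (t.app i₂))
      (pbLeg D t.app ht (t.app i₂) c g hg i₂) :=
    isPullback_graph_map (c.π.app i₂) (𝟙 _) Γ hΓ1 (by rw [hΓs, Category.comp_id])
      (pullback.diagonal (t.app i₂)) (pullback.diagonal_fst _) (pullback.diagonal_snd _)
      (pbLeg D t.app ht (t.app i₂) c g hg i₂) (pbLeg_fst D t.app ht (t.app i₂) c g hg i₂)
      (pbLeg_snd D t.app ht (t.app i₂) c g hg i₂)
  obtain ⟨i₃, φ, h3⟩ := descend_repWith_limit schDescendsFT_isClosedImmersion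
    (pbDiag D t.app ht (t.app i₂)) hF2a (pbCone D t.app ht (t.app i₂) c g hg) hc2 i₂
    ⟨D.obj i₂, hD i₂⟩ ⟨(pbDiag D t.app ht (t.app i₂)).obj i₂, hF2alg i₂⟩
    (pullback.diagonal (t.app i₂)) (𝟙 _) hY₀qc hΔrep hΔqc hΔqs hΔlft c.pt
    (pullback g (t.app i₂)) Γ (pbLeg D t.app ht (t.app i₂) c g hg i₂) (𝟙 _) hYsq
    (c.π.app i₂) hXsq hΓ
  -- stage i₃
  let Γ₃ : D.obj i₃ ⟶ pullback (t.app i₃) (t.app i₂) := pullback.lift (𝟙 _) (D.map φ) (by
    rw [Category.id_comp, ht])
  have hΓ₃1 : Γ₃ ≫ pullback.fst (t.app i₃) (t.app i₂) = 𝟙 _ := pullback.lift_fst _ _ _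
  have hΓ₃s : Γ₃ ≫ pullback.snd (t.app i₃) (t.app i₂) = D.map φ := pullback.lift_snd _ _ _
  have hY3 : IsPullback (pbMap D t.app ht (t.app i₂) φ) (𝟙 (pullback (t.app i₃) (t.app i₂)))
      (𝟙 (pullback (t.app i₂) (t.app i₂))) (pbMap D t.app ht (t.app i₂) φ) :=
    IsPullback.of_vert_isIso ⟨by simp⟩
  have hΓ₃ : RepWith @IsClosedImmersion Γ₃ :=
    h3 (D.obj i₃) (pullback (t.app i₃) (t.app i₂)) Γ₃ (pbMap D t.app ht (t.app i₂) φ) (𝟙 _)
      hY3 (D.map φ)
      (isPullback_graph_map (D.map φ) (𝟙 _) Γ₃ hΓ₃1 (by rw [hΓ₃s, Category.comp_id])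
        (pullback.diagonal (t.app i₂)) (pullback.diagonal_fst _) (pullback.diagonal_snd _)
        (pbMap D t.app ht (t.app i₂) φ) (pbMap_fst D t.app ht (t.app i₂) φ)
        (pbMap_snd D t.app ht (t.app i₂) φ))
  refine ⟨i₃, fun i ψ => ?_⟩
  -- Step 3
  have e : (D.map ψ ≫ D.map φ) ≫ t.app i₂ = t.app i := by
    rw [Category.assoc, ht, ht]
  let Γi : D.obj i ⟶ pullback (t.app i) (t.app i₂) :=
    pullback.lift (𝟙 _) (D.map ψ ≫ D.map φ) (by rw [Category.id_comp, e])
  have hΓi1 : Γi ≫ pullback.fst (t.app i) (t.app i₂) = 𝟙 _ := pullback.lift_fst _ _ _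
  have hΓis : Γi ≫ pullback.snd (t.app i) (t.app i₂) = D.map ψ ≫ D.map φ :=
    pullback.lift_snd _ _ _
  have hΓi : RepWith @IsClosedImmersion Γi :=
    repWith_of_isPullback _
      (isPullback_graph_map (D.map ψ) (D.map φ) Γi hΓi1 hΓis Γ₃ hΓ₃1 hΓ₃s
        (pbMap D t.app ht (t.app i₂) ψ) (pbMap_fst D t.app ht (t.app i₂) ψ)
        (pbMap_snd D t.app ht (t.app i₂) ψ)) hΓ₃
  let b : pullback (t.app i) (t.app i) ⟶ pullback (t.app i) (t.app i₂) :=
    pullback.lift (pullback.fst _ _) (pullback.snd _ _ ≫ (D.map ψ ≫ D.map φ)) (by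
      rw [Category.assoc, e, pullback.condition])
  have hb1 : b ≫ pullback.fst (t.app i) (t.app i₂) = pullback.fst _ _ := pullback.lift_fst _ _ _
  have hb2 : b ≫ pullback.snd (t.app i) (t.app i₂) = pullback.snd _ _ ≫ (D.map ψ ≫ D.map φ) :=
    pullback.lift_snd _ _ _
  have sqb := isPullback_map_snd_factor (t.app i) (t.app i) (t.app i₂) (D.map ψ ≫ D.map φ) e b
    hb1 hb2
  have hba : IsAffineMor b := isAffineMor_of_isPullback sqb (by
    rw [← D.map_comp]
    exact hDa _ _ _)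
  have hPalg : IsAlgSpace (pullback (t.app i) (t.app i)) :=
    isAlgSpace_of_isPullback hYd (hD i) (hD i) (IsPullback.of_hasPullback _ _)
  have hbsep : IsSeparatedMor b := isSeparatedMor_of_isAffineMor hPalg.diag b hba
  have hcomp : pullback.diagonal (t.app i) ≫ b = Γi := by
    apply pullback.hom_ext
    · rw [Category.assoc, hb1, pullback.diagonal_fst, hΓi1]
    · rw [Category.assoc, hb2, pullback.diagonal_snd_assoc, hΓis]
  exact repWith_of_comp_of_diagonal (pullback.diagonal (t.app i)) b @IsClosedImmersion hbsep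
    (by rw [hcomp]; exact hΓi)

theorem isIso_diag_terminal : IsIso (Limits.diag (⊤_ (Sp S))) :=
  ⟨prod.fst, prod.lift_fst _ _, by
    apply Limits.prod.hom_ext <;> exact Subsingleton.elim _ _⟩

set_option backward.isDefEq.respectTransparency.types false in
theorem exists_isSeparatedSp_of_limit [QuasiSeparatedSpace S]
    (D : I ⥤ Sp S) (hD : ∀ i, IsAlgSpace (D.obj i))
    (hDa : ∀ (i j : I) (φ : i ⟶ j), IsAffineMor (D.map φ))
    (hqc : ∀ i, IsQuasiCompactSp (D.obj i)) (hqs : ∀ i, IsQuasiSeparatedSp (D.obj i))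
    (c : Cone D) (hc : IsLimit c)
    (hX : IsSeparatedSp c.pt) : ∃ i, IsSeparatedSp (D.obj i) := by
  have hT : ∀ {Z : Sp S} (a b : Z ⟶ ⊤_ (Sp S)), a = b := fun a b => Subsingleton.elim a b
  have : IsIso (Limits.diag (⊤_ (Sp S))) := isIso_diag_terminal
  have hTqs : IsQuasiSeparatedSp (⊤_ (Sp S)) := repWith_of_isIso _ _
  have hTd : RepDiag (⊤_ (Sp S)) := (repDiag_iff _).1 hTqs.rep
  let t : D ⟶ (Functor.const I).obj (⊤_ (Sp S)) :=
    { app := fun i => terminal.from _
      naturality := fun _ _ _ => hT _ _ }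
  obtain ⟨i₀, h⟩ := eventually_isSeparatedMor_of_limit (⊤_ (Sp S)) hTd hTqs D hD t hDa c hc
    (terminal.from _) (fun _ => hT _ _) hqc hqs
    (repWith_diagonal_of_diag_subterminal _ _ hT hX)
  exact ⟨i₀, repWith_diag_of_diagonal_subterminal _ (terminal.from _) hT (h i₀ (𝟙 _))⟩

end Lim

end Groth.Agent.Lib.Helper14.AS
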