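import Groth.Agent.Lib.Helper14.AlgSpLocP3
import Groth.Prelude.Def_AlgSpCov
import Groth.Agent.Lib.Helper14.FppfSrc
import Groth.Agent.Lib.Helper14.AlgSpProper

/-!
# The largest open over which a morphism has a property local on the base (helper14)
-/

universe u
open CategoryTheory CategoryTheory.Limits AlgebraicGeometry Opposite Topology TopologicalSpace

namespace Groth.Agent.Lib.Helper14.AS

open AlgSp Groth.Agent.Lib.Helper14.ESL Groth.Agent.Lib.Helper8.AlgSpOpen
  Groth.Agent.Lib.Helper8.AlgSpOpenSub Groth.Agent.Lib.Helper8.AlgSpPres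

variable {S : Scheme.{u}}

theorem isPullback_comp_mono' {C : Type*} [Category C] {A X Y Z W : C} {fst : A ⟶ X}
    {snd : A ⟶ Y} {f : X ⟶ Z} {g : Y ⟶ Z} (h : IsPullback fst snd f g) (m : Z ⟶ W) [Mono m] :
    IsPullback fst snd (f ≫ m) (g ≫ m) := by
  refine ⟨⟨by rw [h.w_assoc]⟩, ⟨PullbackCone.IsLimit.mk _ (fun s => h.lift s.fst s.snd ?_)
    (fun s => h.lift_fst _ _ _) (fun s => h.lift_snd _ _ _) ?_⟩⟩
  · rw [← cancel_mono m, Category.assoc, Category.assoc]; exact s.condition
  · intro s l h1 h2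
    apply h.hom_ext
    · rw [h1, h.lift_fst]
    · rw [h2, h.lift_snd]

/-- If `g = g₁ ≫ j` with `j` a monomorphism then `g₁` is the base change of `g` along `j`. -/
theorem isPullback_of_factor_mono {C : Type*} [Category C] {A W Y : C} (g₁ : A ⟶ W) (j : W ⟶ Y)
    [Mono j] : IsPullback (𝟙 A) g₁ (g₁ ≫ j) j := by
  have := isPullback_comp_mono' (IsPullback.id_horiz g₁) j
  simpa using this

/-- A class of morphisms of algebraic spaces giving a covering notion finer than Zariski whose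
members are open. -/
structure CoverClass (Q : MorphismProperty (Sp S)) : Prop where
  of_open : ∀ ⦃X Y : Sp S⦄ (j : X ⟶ Y), IsAlgSpace X → IsAlgSpace Y →
    RepWith @IsOpenImmersion j → Q j
  comp_open : ∀ ⦃X Y Z : Sp S⦄ (j : X ⟶ Y) (g : Y ⟶ Z), IsAlgSpace X → IsAlgSpace Y →
    IsAlgSpace Z → RepWith @IsOpenImmersion j → Q g → Q (j ≫ g)
  isOpenMap : ∀ ⦃X Y : Sp S⦄ (g : X ⟶ Y), IsAlgSpace X → IsAlgSpace Y → Q g →
    IsOpenMap (Points.map g)
  baseChange : ∀ ⦃X Y Y' X' : Sp S⦄ (g : X ⟶ Y) (h : Y' ⟶ Y) (fst : X' ⟶ X) (g' : X' ⟶ Y'),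
    IsAlgSpace X → IsAlgSpace Y → IsAlgSpace Y' → IsAlgSpace X' → IsPullback fst g' g h →
    Q g → Q g'

/-- The covering notion of jointly surjective families of `Q`-morphisms. -/
abbrev CoverOf (Q : MorphismProperty (Sp S)) : CovNotion S := fun _ _ Y g => IsCover Q Y g

/-- `f` has `P` over the open subset `V` of `|Y|`. -/
def HasOver (P : MorphismProperty (Sp S)) {X Y : Space S} (f : X ⟶ Y)
    (V : Set (Points Y.obj)) : Prop :=
  ∀ (W₁ X₁ : Space S) (j₁ : W₁ ⟶ Y) (j₁' : X₁ ⟶ X) (f₁ : X₁ ⟶ W₁),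
    RepWith @IsOpenImmersion j₁.hom → Set.range (Points.map j₁.hom) = V →
    IsPullback j₁'.hom f₁.hom f.hom j₁.hom → P f₁.hom

theorem mono_of_openImmersion {F G : Sp S} {j : F ⟶ G} (hj : RepWith @IsOpenImmersion j) :
    Mono j := mono_of_repWith_mono (repWith_mono isOpenImmersion_le_mono hj)

theorem injective_of_openImmersion {F G : Sp S} {j : F ⟶ G} (hj : RepWith @IsOpenImmersion j) :
    Function.Injective (Points.map j) := by
  have := mono_of_openImmersion hj
  exact points_map_injective_of_mono j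

/-- Part (1) core: if the base change of `f` along a `Q`-morphism `g` has `P`, then `f` has `P`
over the image of `g`. -/
theorem hasOver_range {Q P : MorphismProperty (Sp S)} (hQ : CoverClass Q)
    (hP : IsLocalOnBase (CoverOf Q) P) {X Y Y' X' : Space S} (f : X ⟶ Y) (g : Y' ⟶ Y)
    (g' : X' ⟶ X) (f' : X' ⟶ Y') (hg : Q g.hom) (sq : IsPullback g'.hom f'.hom f.hom g.hom)
    (hf' : P f'.hom) : HasOver P f (Set.range (Points.map g.hom)) := by
  intro W₁ X₁ j₁ j₁' f₁ hj₁ hr sq₁
  obtain ⟨g₁, hg₁⟩ := exists_factor_of_range_subset j₁.hom hj₁ g.hom (by rw [hr])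
  have hjm : Mono j₁.hom := mono_of_openImmersion hj₁
  have hjinj := injective_of_openImmersion hj₁
  have sqg : IsPullback (𝟙 _) g₁ g.hom j₁.hom := by
    rw [← hg₁]; exact isPullback_of_factor_mono g₁ j₁.hom
  have hQg₁ : Q g₁ := hQ.baseChange g.hom j₁.hom (𝟙 _) g₁ Y'.property Y.property W₁.property
    Y'.property sqg hg
  have hsurj : ∀ w : Points W₁.obj, w ∈ Set.range (Points.map g₁) := by
    intro w
    have : Points.map j₁.hom w ∈ Set.range (Points.map g.hom) := by rw [← hr]; exact ⟨w, rfl⟩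
    obtain ⟨y, hy⟩ := this
    refine ⟨y, hjinj ?_⟩
    rw [← hy, ← hg₁, Points.map_comp]
  have hw : g'.hom ≫ f.hom = (f'.hom ≫ g₁) ≫ j₁.hom := by rw [Category.assoc, hg₁, sq.w]
  have sql : IsPullback (sq₁.lift g'.hom (f'.hom ≫ g₁) hw) f'.hom f₁.hom g₁ :=
    IsPullback.of_right (by rw [sq₁.lift_fst, hg₁]; exact sq) (sq₁.lift_snd _ _ _) sq₁
  have := hP (fun _ : PUnit.{u + 1} => Y'.obj) (fun _ => g₁) W₁.property (fun _ => Y'.property)
    ⟨fun _ => hQg₁, fun w => ⟨PUnit.unit, hsurj w⟩⟩ f₁.hom X₁.property (fun _ => X'.obj)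
    (fun _ => f'.hom) (fun _ => sq₁.lift g'.hom (f'.hom ≫ g₁) hw) (fun _ => X'.property)
    (fun _ => sql)
  exact this.2 (fun _ => hf')

/-- If `f` has `P` over each member of a family of opens, it has `P` over their union. -/
theorem hasOver_sSup {Q P : MorphismProperty (Sp S)} (hQ : CoverClass Q)
    (hP : IsLocalOnBase (CoverOf Q) P) {X Y : Space S} (f : X ⟶ Y)
    (𝒱 : Set (Opens (Points Y.obj))) (h𝒱 : ∀ V ∈ 𝒱, HasOver P f (V : Set (Points Y.obj))) :
    HasOver P f ((sSup 𝒱 : Opens (Points Y.obj)) : Set (Points Y.obj)) := by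
  intro W₀ X₀ j₀ j₀' f₀ hj₀ hr sq₀
  obtain ⟨U₀, a, hae, has⟩ := Y.property.atlas
  have hch : ∀ i : {u : U₀.left // Points.ofPt a u ∈ (sSup 𝒱 : Opens (Points Y.obj))},
      ∃ V ∈ 𝒱, Points.ofPt a i.1 ∈ V := fun i => Opens.mem_sSup.1 i.2
  choose V hV𝒱 hVmem using hch
  choose Yi ji hji hjir using fun i => exists_openSubspace Y (V i : Set _) (V i).isOpen
  have hsub : ∀ i, Set.range (Points.map (ji i).hom) ⊆ Set.range (Points.map j₀.hom) := by
    intro i
    rw [hjir, hr]
    exact fun x hx => Opens.mem_sSup.2 ⟨V i, hV𝒱 i, hx⟩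
  choose k hk using fun i => exists_factor_of_range_subset j₀.hom hj₀ (ji i).hom (hsub i)
  have hjm : Mono j₀.hom := mono_of_openImmersion hj₀
  have hjinj := injective_of_openImmersion hj₀
  have hkOI : ∀ i, RepWith @IsOpenImmersion (k i) := fun i =>
    MorphismProperty.of_isPullback (P := RepWith @IsOpenImmersion)
      (isPullback_of_factor_mono (k i) j₀.hom) (by rw [hk]; exact hji i)
  have sqi : ∀ i, IsPullback (pullback.fst f₀.hom (k i)) (pullback.snd f₀.hom (k i)) f₀.hom
      (k i) := fun i => IsPullback.of_hasPullback _ _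
  have hXi : ∀ i, IsAlgSpace (pullback f₀.hom (k i)) := fun i =>
    isAlgSpace_of_isPullback (repDiag_of_isAlgSpace W₀.property) X₀.property (Yi i).property
      (sqi i)
  have hPi : ∀ i, P (pullback.snd f₀.hom (k i)) := by
    intro i
    have big := (sqi i).paste_horiz sq₀
    rw [hk i] at big
    exact h𝒱 (V i) (hV𝒱 i) (Yi i) ⟨pullback f₀.hom (k i), hXi i⟩ (ji i)
      (ObjectProperty.homMk (pullback.fst f₀.hom (k i) ≫ j₀'.hom))
      (ObjectProperty.homMk (pullback.snd f₀.hom (k i))) (hji i) (hjir i) big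
  have hcov : CoverOf Q (fun i => (Yi i).obj) k := by
    refine ⟨fun i => hQ.of_open _ (Yi i).property W₀.property (hkOI i), fun w => ?_⟩
    obtain ⟨u, hu⟩ := ofPt_surjective_of_repWith has (Points.map j₀.hom w)
    have hmem : Points.ofPt a u ∈ (sSup 𝒱 : Opens (Points Y.obj)) := by
      rw [hu]
      have : Points.map j₀.hom w ∈ Set.range (Points.map j₀.hom) := ⟨w, rfl⟩
      rw [hr] at this
      exact this
    have h1 : Points.map j₀.hom w ∈ Set.range (Points.map (ji ⟨u, hmem⟩).hom) := by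
      rw [hjir, ← hu]
      exact hVmem ⟨u, hmem⟩
    obtain ⟨y, hy⟩ := h1
    refine ⟨⟨u, hmem⟩, y, hjinj ?_⟩
    rw [← hy, ← hk, Points.map_comp]
  exact (hP (fun i => (Yi i).obj) k W₀.property (fun i => (Yi i).property) hcov f₀.hom
    X₀.property (fun i => pullback f₀.hom (k i)) (fun i => pullback.snd _ _)
    (fun i => pullback.fst _ _) hXi sqi).2 hPi

/-- Part (2) core: if `f` has `P` over the open `W`, the base change of `f` along a
`Q`-morphism `g` has `P` over the inverse image of `W`. -/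
theorem hasOver_preimage {Q P : MorphismProperty (Sp S)} (hQ : CoverClass Q)
    (hP : IsLocalOnBase (CoverOf Q) P) {X Y Y' X' : Space S} (f : X ⟶ Y) (g : Y' ⟶ Y)
    (g' : X' ⟶ X) (f' : X' ⟶ Y') (hg : Q g.hom) (sq : IsPullback g'.hom f'.hom f.hom g.hom)
    (W : Opens (Points Y.obj)) (hW : HasOver P f (W : Set (Points Y.obj))) :
    HasOver P f' (Points.map g.hom ⁻¹' (W : Set (Points Y.obj))) := by
  intro W₃ X₃ j₃ j₃' f₃ hj₃ hr sq₃
  obtain ⟨W₀, j₀, hj₀, hr₀⟩ := exists_openSubspace Y (W : Set _) W.isOpen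
  have sq₀ : IsPullback (pullback.fst f.hom j₀.hom) (pullback.snd f.hom j₀.hom) f.hom j₀.hom :=
    IsPullback.of_hasPullback _ _
  have hX₀ : IsAlgSpace (pullback f.hom j₀.hom) :=
    isAlgSpace_of_isPullback (repDiag_of_isAlgSpace Y.property) X.property W₀.property sq₀
  have hPf₀ : P (pullback.snd f.hom j₀.hom) :=
    hW W₀ ⟨pullback f.hom j₀.hom, hX₀⟩ j₀ (ObjectProperty.homMk (pullback.fst f.hom j₀.hom))
      (ObjectProperty.homMk (pullback.snd f.hom j₀.hom)) hj₀ hr₀ sq₀
  have hjm : Mono j₀.hom := mono_of_openImmersion hj₀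
  have hsub : Set.range (Points.map (j₃.hom ≫ g.hom)) ⊆ Set.range (Points.map j₀.hom) := by
    rintro _ ⟨x, rfl⟩
    rw [hr₀, Points.map_comp]
    have : Points.map j₃.hom x ∈ Set.range (Points.map j₃.hom) := ⟨x, rfl⟩
    rw [hr] at this
    exact this
  obtain ⟨h, hh⟩ := exists_factor_of_range_subset j₀.hom hj₀ (j₃.hom ≫ g.hom) hsub
  have hQjg : Q (j₃.hom ≫ g.hom) :=
    hQ.comp_open _ _ W₃.property Y'.property Y.property hj₃ hg
  have sqh : IsPullback (𝟙 _) h (j₃.hom ≫ g.hom) j₀.hom := by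
    rw [← hh]; exact isPullback_of_factor_mono h j₀.hom
  have hQh : Q h := hQ.baseChange _ _ _ _ W₃.property Y.property W₀.property W₃.property sqh hQjg
  have big := sq₃.paste_horiz sq
  rw [← hh] at big
  have hw : (j₃'.hom ≫ g'.hom) ≫ f.hom = (f₃.hom ≫ h) ≫ j₀.hom := by
    rw [big.w, Category.assoc]
  have sql : IsPullback (sq₀.lift (j₃'.hom ≫ g'.hom) (f₃.hom ≫ h) hw) f₃.hom
      (pullback.snd f.hom j₀.hom) h :=
    IsPullback.of_right (by rw [sq₀.lift_fst]; exact big) (sq₀.lift_snd _ _ _) sq₀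
  -- two-member cover `{𝟙, h}` of `W₀`
  let Yi : Option PUnit.{u + 1} → Sp S := fun o => match o with
    | none => W₀.obj
    | some _ => W₃.obj
  let gi : ∀ o, Yi o ⟶ W₀.obj := fun o => match o with
    | none => 𝟙 _
    | some _ => h
  let Xi : Option PUnit.{u + 1} → Sp S := fun o => match o with
    | none => pullback f.hom j₀.hom
    | some _ => X₃.obj
  let pi : ∀ o, Xi o ⟶ Yi o := fun o => match o with
    | none => pullback.snd f.hom j₀.hom
    | some _ => f₃.hom
  let qi : ∀ o, Xi o ⟶ pullback f.hom j₀.hom := fun o => match o with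
    | none => 𝟙 _
    | some _ => sq₀.lift (j₃'.hom ≫ g'.hom) (f₃.hom ≫ h) hw
  have hYi : ∀ o, IsAlgSpace (Yi o) := by
    rintro (_ | _)
    · exact W₀.property
    · exact W₃.property
  have hXi : ∀ o, IsAlgSpace (Xi o) := by
    rintro (_ | _)
    · exact hX₀
    · exact X₃.property
  have hcov : CoverOf Q Yi gi := by
    refine ⟨?_, fun w => ⟨none, w, Points.map_id w⟩⟩
    rintro (_ | _)
    · exact hQ.of_open _ W₀.property W₀.property (repWith_of_isIso _ (𝟙 W₀.obj))
    · exact hQh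
  have hsq : ∀ o, IsPullback (qi o) (pi o) (pullback.snd f.hom j₀.hom) (gi o) := by
    rintro (_ | _)
    · exact IsPullback.id_horiz _
    · exact sql
  exact (hP Yi gi W₀.property hYi hcov (pullback.snd f.hom j₀.hom) hX₀ Xi pi qi hXi hsq).1 hPf₀
    (some PUnit.unit)

/-- The largest open over which `f` has `P`, for `P` local on the base for the coverings by
`Q`-morphisms. -/
theorem exists_largest_open {Q P : MorphismProperty (Sp S)} (hQ : CoverClass Q)
    (hP : IsLocalOnBase (CoverOf Q) P) {X Y : Space S} (f : X ⟶ Y) :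
    ∃ W : Opens (Points Y.obj), HasOver P f (W : Set (Points Y.obj)) ∧
      (∀ V : Opens (Points Y.obj), HasOver P f (V : Set (Points Y.obj)) → V ≤ W) ∧
      (∀ (Y' X' : Space S) (g : Y' ⟶ Y) (g' : X' ⟶ X) (f' : X' ⟶ Y'), Q g.hom →
        IsPullback g'.hom f'.hom f.hom g.hom → P f'.hom →
        Set.range (Points.map g.hom) ⊆ (W : Set (Points Y.obj))) ∧
      (∀ (Y' X' : Space S) (g : Y' ⟶ Y) (g' : X' ⟶ X) (f' : X' ⟶ Y'), Q g.hom →
        IsPullback g'.hom f'.hom f.hom g.hom →
        ∀ W' : Opens (Points Y'.obj), HasOver P f' (W' : Set (Points Y'.obj)) →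
          (∀ V' : Opens (Points Y'.obj), HasOver P f' (V' : Set (Points Y'.obj)) → V' ≤ W') →
          (W' : Set (Points Y'.obj)) = Points.map g.hom ⁻¹' (W : Set (Points Y.obj))) := by
  let 𝒱 : Set (Opens (Points Y.obj)) := {V | HasOver P f (V : Set (Points Y.obj))}
  have hmem : ∀ V : Opens (Points Y.obj), HasOver P f (V : Set (Points Y.obj)) → V ∈ 𝒱 :=
    fun V hV => hV
  obtain ⟨Wm, hWm⟩ : ∃ Wm : Opens (Points Y.obj), Wm = sSup 𝒱 := ⟨_, rfl⟩
  have h1 : HasOver P f (Wm : Set (Points Y.obj)) := by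
    rw [hWm]
    exact hasOver_sSup hQ hP f 𝒱 fun V hV => hV
  have h2 : ∀ V : Opens (Points Y.obj), HasOver P f (V : Set (Points Y.obj)) → V ≤ Wm := by
    intro V hV
    rw [hWm]
    exact le_sSup (hmem V hV)
  have h3 : ∀ (Y' X' : Space S) (g : Y' ⟶ Y) (g' : X' ⟶ X) (f' : X' ⟶ Y'), Q g.hom →
      IsPullback g'.hom f'.hom f.hom g.hom → P f'.hom →
      Set.range (Points.map g.hom) ⊆ (Wm : Set (Points Y.obj)) := by
    intro Y' X' g g' f' hg sq hf'
    have hopen : IsOpen (Set.range (Points.map g.hom)) :=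
      (hQ.isOpenMap g.hom Y'.property Y.property hg).isOpen_range
    have := hasOver_range hQ hP f g g' f' hg sq hf'
    have hle : (⟨_, hopen⟩ : Opens (Points Y.obj)) ≤ Wm := h2 ⟨_, hopen⟩ this
    exact hle
  refine ⟨Wm, h1, h2, h3, ?_⟩
  intro Y' X' g g' f' hg sq W' hW' hmax
  apply Set.Subset.antisymm
  · intro x hx
    obtain ⟨W₂, j₂, hj₂, hr₂⟩ := exists_openSubspace Y' (W' : Set _) W'.isOpen
    have sq₂ : IsPullback (pullback.fst f'.hom j₂.hom) (pullback.snd f'.hom j₂.hom) f'.hom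
        j₂.hom := IsPullback.of_hasPullback _ _
    have hX₂ : IsAlgSpace (pullback f'.hom j₂.hom) :=
      isAlgSpace_of_isPullback (repDiag_of_isAlgSpace Y'.property) X'.property W₂.property sq₂
    have hPf₂ : P (pullback.snd f'.hom j₂.hom) :=
      hW' W₂ ⟨pullback f'.hom j₂.hom, hX₂⟩ j₂
        (ObjectProperty.homMk (pullback.fst f'.hom j₂.hom))
        (ObjectProperty.homMk (pullback.snd f'.hom j₂.hom)) hj₂ hr₂ sq₂
    have big := sq₂.paste_horiz sq
    have hQjg : Q (j₂.hom ≫ g.hom) :=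
      hQ.comp_open _ _ W₂.property Y'.property Y.property hj₂ hg
    have := h3 W₂ ⟨pullback f'.hom j₂.hom, hX₂⟩ (j₂ ≫ g)
      (ObjectProperty.homMk (pullback.fst f'.hom j₂.hom ≫ g'.hom))
      (ObjectProperty.homMk (pullback.snd f'.hom j₂.hom)) hQjg big hPf₂
    have hx' : x ∈ Set.range (Points.map j₂.hom) := by rw [hr₂]; exact hx
    obtain ⟨z, rfl⟩ := hx'
    refine this ⟨z, ?_⟩
    exact Points.map_comp j₂.hom g.hom z
  · have hopen : IsOpen (Points.map g.hom ⁻¹' (Wm : Set (Points Y.obj))) :=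
      (Opens.isOpen _).preimage (Points.continuous_map g.hom)
    have := hasOver_preimage hQ hP f g g' f' hg sq Wm h1
    have hle : (⟨_, hopen⟩ : Opens (Points Y'.obj)) ≤ W' := hmax _ this
    exact hle

set_option backward.isDefEq.respectTransparency.types false in
theorem coverClass_isEtaleMor : CoverClass (IsEtaleMor (S := S)) where
  of_open _ _ j _ _ hj := isEtaleMor_of_repWith_etale (repWith_mono isOpenImmersion_le_etale hj)
  comp_open _ _ _ j g _ _ _ hj hg :=
    isEtaleMor_comp (isEtaleMor_of_repWith_etale (repWith_mono isOpenImmersion_le_etale hj)) hg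
  isOpenMap _ _ g hX hY hg := isOpenMap_points_of_isEtaleMor hX hY hg
  baseChange _ _ _ _ g h fst g' hX hY hY' _ sq hg := isEtaleMor_of_isPullback hX hY hY' sq hg

theorem isOpenImmersion_le_flat :
    (@IsOpenImmersion : MorphismProperty Scheme.{u}) ≤ @Flat :=
  fun _ _ _ h => by have := h; infer_instance

theorem isOpenImmersion_le_smooth :
    (@IsOpenImmersion : MorphismProperty Scheme.{u}) ≤ @Smooth :=
  fun _ _ _ h => by have := h; infer_instance

theorem smooth_le_flat : (@Smooth : MorphismProperty Scheme.{u}) ≤ @Flat :=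
  fun _ _ _ h => by have := h; infer_instance

theorem smooth_le_lfp : (@Smooth : MorphismProperty Scheme.{u}) ≤ @LocallyOfFinitePresentation :=
  fun _ _ _ h => by have := h; infer_instance

set_option backward.isDefEq.respectTransparency.types false in
theorem coverClass_smooth : CoverClass (LocP (S := S) @Smooth) where
  of_open _ _ j _ _ hj := locP_of_repWith etale_le_smooth (repWith_mono isOpenImmersion_le_smooth hj)
  comp_open _ _ _ j g hX hY hZ hj hg :=
    locP_comp etLocal_smooth hX hY hZ j g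
      (locP_of_repWith etale_le_smooth (repWith_mono isOpenImmersion_le_smooth hj)) hg
  isOpenMap _ _ g hX hY hg :=
    isOpenMor_of_isUnivOpenMor hY (isUnivOpenMor_of_flat_lfp hX hY g (locP_mono smooth_le_flat hg)
      (locP_mono smooth_le_lfp hg))
  baseChange _ _ _ _ g h fst g' hX hY hY' _ sq hg :=
    locP_baseChange etLocal_smooth hX hY hY' g h fst g' sq hg

set_option backward.isDefEq.respectTransparency.types false in
theorem coverClass_fppf : CoverClass (fun _ _ f => LocP (S := S) @Flat f ∧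
    LocP @LocallyOfFinitePresentation f) where
  of_open _ _ j _ _ hj :=
    ⟨locP_of_repWith etale_le_flat (repWith_mono isOpenImmersion_le_flat hj),
      locP_of_repWith etale_le_lfp (repWith_mono isOpenImmersion_le_lfp hj)⟩
  comp_open _ _ _ j g hX hY hZ hj hg :=
    ⟨locP_comp etLocal_flat hX hY hZ j g
      (locP_of_repWith etale_le_flat (repWith_mono isOpenImmersion_le_flat hj)) hg.1,
     locP_comp etLocal_lfp hX hY hZ j g
      (locP_of_repWith etale_le_lfp (repWith_mono isOpenImmersion_le_lfp hj)) hg.2⟩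
  isOpenMap _ _ g hX hY hg :=
    isOpenMor_of_isUnivOpenMor hY (isUnivOpenMor_of_flat_lfp hX hY g hg.1 hg.2)
  baseChange _ _ _ _ g h fst g' hX hY hY' _ sq hg :=
    ⟨locP_baseChange etLocal_flat hX hY hY' g h fst g' sq hg.1,
     locP_baseChange etLocal_lfp hX hY hY' g h fst g' sq hg.2⟩

end Groth.Agent.Lib.Helper14.AS
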