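import Groth.Prelude.Def_AlgSp4
import Groth.Agent.Lib.Helper14.LimH
import Groth.Agent.Lib.Helper14.LimB
import Groth.Agent.Lib.Helper14.Glue3
import Groth.Agent.Lib.Helper14.AlgSpQCMor
import Groth.Agent.Lib.Helper14.AlgSpProdQC
import Groth.Agent.Lib.Helper14.AlgSpInj2
import Groth.Agent.Lib.Helper14.AlgSpLargestOpen
import Groth.Agent.Lib.Helper14.FpqcBase4
import Groth.Agent.Lib.Helper8.AlgSpOpenSub
import Groth.Agent.Lib.Helper8.AlgSpOpen
import Mathlib.AlgebraicGeometry.AffineTransitionLimit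
universe u
open CategoryTheory CategoryTheory.Limits AlgebraicGeometry Opposite
namespace Groth.Agent.Lib.Helper14.AS
variable {S : Scheme.{u}}
open AlgSp

set_option backward.isDefEq.respectTransparency.types false in
/-- two open subspaces with compatible sets of points form a pullback square -/
theorem exists_isPullback_of_openImmersion_range {X X' U Ui : Sp S} (π : X ⟶ X') (j : U ⟶ X)
    (hj : RepWith @IsOpenImmersion j) (ji : Ui ⟶ X') (hji : RepWith @IsOpenImmersion ji)
    (h : Set.range (Points.map j) = Points.map π ⁻¹' Set.range (Points.map ji)) :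
    ∃ q : U ⟶ Ui, IsPullback j q π ji := by
  have sq := IsPullback.of_hasPullback π ji
  have hfst : RepWith @IsOpenImmersion (pullback.fst π ji) := repWith_of_isPullback _ sq.flip hji
  have hmj : Mono j := mono_of_repWith_mono (repWith_mono isOpenImmersion_le_mono hj)
  have hmf : Mono (pullback.fst π ji) :=
    mono_of_repWith_mono (repWith_mono isOpenImmersion_le_mono hfst)
  have hr : Set.range (Points.map (pullback.fst π ji)) = Set.range (Points.map j) := by
    rw [h]
    ext x
    constructor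
    · rintro ⟨p, rfl⟩
      refine ⟨Points.map (pullback.snd π ji) p, ?_⟩
      rw [← Points.map_comp, ← pullback.condition, Points.map_comp]
    · rintro ⟨u, hu⟩
      obtain ⟨z, hz, -⟩ := points_exists_of_isPullback sq x u hu.symm
      exact ⟨z, hz⟩
  obtain ⟨l, hl⟩ := Groth.Agent.Lib.Helper8.AlgSpOpen.exists_factor_of_range_subset
    (pullback.fst π ji) hfst j hr.ge
  obtain ⟨g, hg⟩ := Groth.Agent.Lib.Helper8.AlgSpOpen.exists_factor_of_range_subset
    j hj (pullback.fst π ji) hr.le
  have h1 : l ≫ g = 𝟙 _ := by rw [← cancel_mono j, Category.assoc, hg, hl, Category.id_comp]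
  have h2 : g ≫ l = 𝟙 _ := by
    rw [← cancel_mono (pullback.fst π ji), Category.assoc, hl, hg, Category.id_comp]
  refine ⟨l ≫ pullback.snd π ji, ?_⟩
  refine IsPullback.of_iso sq (⟨g, l, h2, h1⟩ : pullback π ji ≅ U) (Iso.refl _) (Iso.refl _)
    (Iso.refl _) ?_ ?_ (by simp) (by simp)
  · simp only [Iso.refl_hom, Category.comp_id]
    exact hg.symm
  · simp only [Iso.refl_hom, Category.comp_id]
    rw [← Category.assoc, h2, Category.id_comp]

theorem points_map_injective_of_mono {X Y : Sp S} (f : X ⟶ Y) [Mono f] :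
    Function.Injective (Points.map f) :=
  FieldInj.injective_points (fun _ _ _ _ _ h => (cancel_mono f).1 h)

section Lim

variable {I : Type u} [SmallCategory I] [IsCofiltered I]

set_option backward.isDefEq.respectTransparency.types false in
set_option maxHeartbeats 1600000 in
theorem exists_quasiCompact_open_descends_limit [QuasiSeparatedSpace S]
    (D : I ⥤ Sp S) (hD : ∀ i, IsAlgSpace (D.obj i))
    (hDa : ∀ (i j : I) (φ : i ⟶ j), IsAffineMor (D.map φ))
    (hqc : ∀ i, IsQuasiCompactSp (D.obj i)) (hqs : ∀ i, IsQuasiSeparatedSp (D.obj i))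
    (c : Cone D) (hc : IsLimit c)
    (U : Sp S) (j : U ⟶ c.pt) (hj : RepWith @IsOpenImmersion j) (hU : IsQuasiCompactSp U) :
    ∃ (i : I) (Ui : Sp S) (ji : Ui ⟶ D.obj i) (q : U ⟶ Ui),
      RepWith @IsOpenImmersion ji ∧ IsQuasiCompactSp Ui ∧ IsPullback j q (c.π.app i) ji := by
  obtain ⟨i₀⟩ := IsCofiltered.nonempty (C := I)
  obtain ⟨V₀, v, hV₀, hve, hvs⟩ := isQuasiCompactSp_iff_exists_affine_chart.1 (hqc i₀)
  obtain ⟨cs, haff, haffc⟩ := exists_chartSystem D hDa c hc i₀ hV₀ v
  have hconn : IsConnected (Over i₀) := IsCofiltered.isConnected _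
  let D' : Over i₀ ⥤ Scheme.{u} := cs.G ⋙ Over.forget S
  let c' : Cone D' := (Over.forget S).mapCone cs.cG
  have hc' : IsLimit c' := isLimitOfPreserves (Over.forget S) cs.hcG
  have h1 : ∀ (a b : Over i₀) (f : a ⟶ b), IsAffineHom (D'.map f) := by
    intro a b f
    have := haff a
    have := haff b
    exact isAffineHom_of_isAffine (X := (cs.G.obj a).left) (Y := (cs.G.obj b).left) _
  have hXalg : IsAlgSpace c.pt := isAlgSpace_of_limit D hD hDa c hc
  have hUalg : IsAlgSpace U := isAlgSpace_of_representable_to hXalg j hj.rep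
  have : IsAffine V₀.left := hV₀
  have hV₀alg : IsAlgSpace ((yon S).obj V₀) := IsAlgSpace.yon_obj V₀
  have hV₀qc : IsQuasiCompactSp ((yon S).obj V₀) :=
    ⟨V₀, 𝟙 _, repWith_id _ _, repWith_id _ _, inferInstance⟩
  -- the open subscheme of the limit chart
  have hcsae : RepWith @Etale cs.a := repWith_of_isPullback _ cs.isPullback.flip hve
  have hcsas : RepWith @Surjective cs.a := repWith_of_isPullback _ cs.isPullback.flip hvs
  obtain ⟨U'', fstU, sndU, sqU, hopen⟩ : ∃ (U'' : Over S) (fstU : (yon S).obj U'' ⟶ U)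
      (sndU : U'' ⟶ cs.cG.pt), IsPullback fstU ((yon S).map sndU) j cs.a ∧
      IsOpenImmersion sndU.left :=
    ⟨_, _, _, hj.rep.isPullback cs.a, hj.property_snd cs.a⟩
  have hfstUs : RepWith @Surjective fstU := repWith_of_isPullback _ sqU.flip hcsas
  have hbig : IsPullback fstU ((yon S).map sndU ≫ (yon S).map cs.b) (j ≫ c.π.app i₀) v :=
    sqU.paste_vert cs.isPullback
  have hU''qc : CompactSpace U''.left :=
    (isQuasiCompactSp_yon_iff U'').1
      (isQuasiCompactSp_of_isPullback hUalg hU hV₀alg hV₀qc (hqs i₀) hbig)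
  let O' : c'.pt.Opens := sndU.left.opensRange
  have hO'c : IsCompact (O' : Set c'.pt) := isCompact_range sndU.left.continuous
  obtain ⟨k, Ok, hOkc, hOk⟩ := exists_preimage_eq D' c' hc' O' hO'c
  have hmemO' : ∀ v' : cs.cG.pt.left, v' ∈ O' ↔ (cs.cG.π.app k).left v' ∈ Ok := by
    intro v'
    rw [← hOk]
    rfl
  -- the open set of points of the stage
  have hfstke : RepWith @Etale (cs.fst k) := repWith_of_isPullback _ (cs.sq k).flip hve
  let OkS : Set (cs.G.obj k).left := (Ok : Set (D'.obj k))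
  have hOkSo : IsOpen OkS := Ok.isOpen
  let W : Set (Points (D.obj k.left)) := Points.ofPt (cs.fst k) '' OkS
  have hWo : IsOpen W := isOpenMap_ofPt (cs.fst k) hfstke _ hOkSo
  obtain ⟨Uk, jk, hjk, hrange⟩ :=
    Groth.Agent.Lib.Helper8.AlgSpOpenSub.exists_openSubspace ⟨D.obj k.left, hD k.left⟩ W hWo
  have hmjk : Mono jk.hom := mono_of_repWith_mono (repWith_mono isOpenImmersion_le_mono hjk)
  -- quasi-compactness of the open subspace
  have hUkqc : IsQuasiCompactSp Uk.obj := by
    let Ok' : Over S := Over.mk (Ok.ι ≫ (cs.G.obj k).hom)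
    let ιk : Ok' ⟶ cs.G.obj k := Over.homMk Ok.ι rfl
    have hιk : ∀ o' : Ok'.left, ιk.left o' ∈ Ok := fun o' => o'.2
    have hsub : Set.range (Points.map ((yon S).map ιk ≫ cs.fst k)) ⊆
        Set.range (Points.map jk.hom) := by
      rintro _ ⟨y, rfl⟩
      obtain ⟨o', rfl⟩ := (Points.schemeHomeo Ok').surjective y
      rw [hrange]
      refine ⟨ιk.left o', hιk o', ?_⟩
      rw [← ofPt_yon_map_comp, Points.ofPt_eq_map_ofScheme]
      rfl
    obtain ⟨p, hp⟩ := Groth.Agent.Lib.Helper8.AlgSpOpen.exists_factor_of_range_subset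
      jk.hom hjk ((yon S).map ιk ≫ cs.fst k) hsub
    have hps : IsSurjectiveMor p := by
      intro u
      have hu : Points.map jk.hom u ∈ W := by
        rw [← hrange]
        exact ⟨u, rfl⟩
      obtain ⟨o, ho, hou⟩ := hu
      refine ⟨Points.ofScheme Ok' (show Ok'.left from ⟨o, ho⟩), ?_⟩
      rw [← Points.ofPt_eq_map_ofScheme]
      apply points_map_injective_of_mono jk.hom
      rw [Points.map_ofPt, hp, ofPt_yon_map_comp, ← hou]
      rfl
    have : CompactSpace Ok'.left := isCompact_iff_compactSpace.mp hOkc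
    exact isQuasiCompactSp_of_isSurjectiveMor Uk.property p hps
      ((isQuasiCompactSp_yon_iff Ok').2 inferInstance)
  -- the points of `U`
  have hstage := chartSystem_isPullback_stage cs k
  have hr : Set.range (Points.map j) =
      Points.map (c.π.app k.left) ⁻¹' Set.range (Points.map jk.hom) := by
    rw [hrange]
    ext x
    constructor
    · rintro ⟨u, rfl⟩
      obtain ⟨u'', rfl⟩ := ofPt_surjective_of_repWith hfstUs u
      refine ⟨(cs.cG.π.app k).left (sndU.left u''), (hmemO' _).1 ⟨u'', rfl⟩, ?_⟩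
      rw [Points.map_ofPt, sqU.w, ofPt_yon_map_comp, Points.map_ofPt,
        hstage.w, ofPt_yon_map_comp]
    · rintro ⟨o, ho, hox⟩
      obtain ⟨v', hv'1, hv'2⟩ := exists_point_of_isPullback_yon' hstage x o hox.symm
      have hv'O : v' ∈ O' := (hmemO' v').2 (by rw [hv'2]; exact ho)
      obtain ⟨u'', rfl⟩ := hv'O
      refine ⟨Points.ofPt fstU u'', ?_⟩
      rw [Points.map_ofPt, sqU.w, ofPt_yon_map_comp, hv'1]
  obtain ⟨q, hq⟩ := exists_isPullback_of_openImmersion_range (c.π.app k.left) j hj jk.hom hjk hr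
  exact ⟨k.left, Uk.obj, jk.hom, q, hjk, hUkqc, hq⟩

end Lim

end Groth.Agent.Lib.Helper14.AS
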