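import Groth.Prelude.Def_AlgSp4
import Groth.Agent.Lib.Helper14.LimW
import Groth.Agent.Lib.Helper14.AlgSpEtaleMor
import Groth.Agent.Lib.Helper14.AlgSpImm
import Groth.Agent.Lib.Helper14.AlgSpQC
import Mathlib.Topology.LocallyClosed
universe u
open CategoryTheory CategoryTheory.Limits AlgebraicGeometry Opposite
namespace Groth.Agent.Lib.Helper14.AS
variable {S : Scheme.{u}}
open AlgSp

set_option backward.isDefEq.respectTransparency.types false in
/-- between a compact set of points and an open neighbourhood there is a compact open set -/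
theorem exists_compact_open_between {Z : Sp S} (hZ : IsAlgSpace Z) {K W : Set (Points Z)}
    (hK : IsCompact K) (hW : IsOpen W) (hKW : K ⊆ W) :
    ∃ W' : Set (Points Z), IsOpen W' ∧ IsCompact W' ∧ K ⊆ W' ∧ W' ⊆ W := by
  obtain ⟨P, a, hae, has⟩ := hZ.atlas
  have hloc : ∀ z ∈ K, ∃ N : Set (Points Z), IsOpen N ∧ IsCompact N ∧ z ∈ N ∧ N ⊆ W := by
    intro z hz
    obtain ⟨p, rfl⟩ := ofPt_surjective_of_repWith has z
    have hpo : IsOpen (Points.ofPt a ⁻¹' W) := hW.preimage (Points.continuous_ofPt a)
    obtain ⟨_, ⟨V, hV : IsAffineOpen V, rfl⟩, hpV, hVsub⟩ :=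
      P.left.isBasis_affineOpens.exists_subset_of_mem_open
        (show p ∈ Points.ofPt a ⁻¹' W from hKW hz) hpo
    refine ⟨Points.ofPt a '' (V : Set P.left), isOpenMap_ofPt a hae _ V.isOpen,
      hV.isCompact.image (Points.continuous_ofPt a), ⟨p, hpV, rfl⟩, ?_⟩
    rintro _ ⟨p', hp', rfl⟩
    exact hVsub hp'
  refine hK.induction_on (p := fun s => ∃ W' : Set (Points Z), IsOpen W' ∧ IsCompact W' ∧
    s ⊆ W' ∧ W' ⊆ W) ?_ ?_ ?_ ?_
  · exact ⟨∅, isOpen_empty, isCompact_empty, subset_rfl, Set.empty_subset _⟩
  · rintro s t hst ⟨W', h1, h2, h3, h4⟩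
    exact ⟨W', h1, h2, hst.trans h3, h4⟩
  · rintro s t ⟨W₁, h1, h2, h3, h4⟩ ⟨W₂, k1, k2, k3, k4⟩
    exact ⟨W₁ ∪ W₂, h1.union k1, h2.union k2, Set.union_subset_union h3 k3, Set.union_subset h4 k4⟩
  · intro z hz
    obtain ⟨N, hNo, hNc, hzN, hNW⟩ := hloc z hz
    exact ⟨N, mem_nhdsWithin_of_mem_nhds (hNo.mem_nhds hzN), N, hNo, hNc, subset_rfl, hNW⟩

set_option backward.isDefEq.respectTransparency.types false in
/-- an open subspace with compact set of points is quasi-compact -/
theorem isQuasiCompactSp_of_openImmersion_of_isCompact_range {Z Z' : Sp S} (hZ : IsAlgSpace Z)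
    (j : Z' ⟶ Z) (hj : RepWith @IsOpenImmersion j)
    (hc : IsCompact (Set.range (Points.map j))) : IsQuasiCompactSp Z' := by
  have hZ' : IsAlgSpace Z' := isAlgSpace_of_representable_to hZ j hj.rep
  rw [isQuasiCompactSp_iff_compactSpace hZ']
  have hmono : Mono j := mono_of_repWith_mono (repWith_mono isOpenImmersion_le_mono hj)
  have hinj := points_map_injective_of_mono j
  have hopen : IsOpenMap (Points.map j) := isOpenMap_points_of_isEtaleMor hZ' hZ
    (isEtaleMor_of_repWith_etale (repWith_mono isOpenImmersion_le_etale hj))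
  have hemb : Topology.IsOpenEmbedding (Points.map j) :=
    Topology.IsOpenEmbedding.of_continuous_injective_isOpenMap (Points.continuous_map j) hinj hopen
  exact isCompact_univ_iff.1 (hemb.isEmbedding.isCompact_iff.2 (by rwa [Set.image_univ]))

theorem isQuasiSeparatedSp_of_mono {P Z : Sp S} (j : P ⟶ Z) [Mono j]
    (hZ : IsQuasiSeparatedSp Z) : IsQuasiSeparatedSp P :=
  repWith_of_isPullback _ (isPullback_diag_of_mono j) hZ

set_option backward.isDefEq.respectTransparency.types false in
/-- an immersion of algebraic spaces is a closed immersion into the open subspaces inside the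
coborder of its image -/
theorem exists_open_closedImmersion_of_immersion {X Y : Sp S} (hX : IsAlgSpace X) (y : Y ⟶ X)
    (hy : RepWith @IsImmersion y) :
    ∃ U₁ : Set (Points X), IsOpen U₁ ∧ Set.range (Points.map y) ⊆ U₁ ∧
      ∀ (U : Sp S) (j : U ⟶ X) (_ : RepWith @IsOpenImmersion j)
        (_ : Set.range (Points.map j) ⊆ U₁) (y' : Y ⟶ U) (_ : y' ≫ j = y),
        RepWith @IsClosedImmersion y' := by
  refine ⟨coborder (Set.range (Points.map y)), ?_, subset_coborder, ?_⟩
  · -- openness via an atlas
    obtain ⟨P, a, hae, has⟩ := hX.atlas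
    have hopen : IsOpenMap (Points.ofPt a) := isOpenMap_ofPt a hae
    have hcont : Continuous (Points.ofPt a) := Points.continuous_ofPt a
    have hquot : Topology.IsQuotientMap (Points.ofPt a) :=
      hopen.isQuotientMap hcont (ofPt_surjective_of_repWith has)
    rw [← hquot.isOpen_preimage, ← coborder_preimage hopen hcont]
    have sq := hy.rep.isPullback a
    have him : IsImmersion (hy.rep.snd a).left := hy.property_snd a
    have hrange : Points.ofPt a ⁻¹' Set.range (Points.map y) =
        Set.range (hy.rep.snd a).left := by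
      ext p
      constructor
      · rintro ⟨y₀, hy₀⟩
        obtain ⟨v, -, hv⟩ := exists_point_of_isPullback_yon' sq y₀ p hy₀
        exact ⟨v, hv⟩
      · rintro ⟨v, rfl⟩
        refine ⟨Points.ofPt (hy.rep.fst a) v, ?_⟩
        rw [Points.map_ofPt, sq.w, ofPt_yon_map_comp]
    rw [hrange]
    exact (hy.rep.snd a).left.isLocallyClosed_range.isOpen_coborder
  · intro U j hj hjU y' hy'
    have hmono : Mono j := mono_of_repWith_mono (repWith_mono isOpenImmersion_le_mono hj)
    have hΔ : IsIso (pullback.diagonal j) := (pullback.isIso_diagonal_iff j).2 hmono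
    have hrep : Representable y' :=
      representable_of_comp_of_diagonal y' j (repWith_of_isIso @IsOpenImmersion _).rep
        (by rw [hy']; exact hy.rep)
    refine (repWith_iff _ _).2 ⟨hrep, fun T V g fst snd sq => ?_⟩
    have sq' : IsPullback fst ((yon S).map snd) y (g ≫ j) := by
      have h2 : IsPullback (𝟙 Y) y' (y' ≫ j) j := isPullback_id_of_mono rfl
      have := sq.paste_horiz h2
      rwa [Category.comp_id, hy'] at this
    have him : IsImmersion snd.left := hy.property (g ≫ j) fst snd sq'
    have hclosed : IsClosed (Set.range snd.left) := by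
      refine isClosed_of_closure_subset fun t ht => ?_
      have hsub : Set.range snd.left ⊆ Points.ofPt (g ≫ j) ⁻¹' Set.range (Points.map y) := by
        rintro _ ⟨p, rfl⟩
        refine ⟨Points.ofPt fst p, ?_⟩
        rw [Points.map_ofPt, sq'.w, ofPt_yon_map_comp]
      have h1 : Points.ofPt (g ≫ j) t ∈ closure (Set.range (Points.map y)) :=
        map_mem_closure (Points.continuous_ofPt (g ≫ j)) ht (fun _ h => hsub h)
      have h2 : Points.ofPt (g ≫ j) t ∈ coborder (Set.range (Points.map y)) := by
        apply hjU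
        exact ⟨Points.ofPt g t, Points.map_ofPt g j t⟩
      rw [coborder_eq_union_closure_compl] at h2
      rcases h2 with ⟨y₀, hy₀⟩ | h2
      · obtain ⟨v, -, hv⟩ := exists_point_of_isPullback_yon' sq' y₀ t hy₀
        exact ⟨v, hv⟩
      · exact absurd h1 h2
    exact IsClosedImmersion.of_isPreimmersion snd.left hclosed

end Groth.Agent.Lib.Helper14.AS
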