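import Groth.Prelude.Def_AlgSp4
import Groth.Agent.Lib.Helper14.LimX
import Groth.Agent.Lib.Helper14.LimU
import Groth.Agent.Lib.Helper14.LimV
universe u
open CategoryTheory CategoryTheory.Limits AlgebraicGeometry Opposite
namespace Groth.Agent.Lib.Helper14.AS
variable {S : Scheme.{u}}
open AlgSp

theorem isQuasiCompactSp_of_isAffineMor {F G : Sp S} (f : F ⟶ G) (ha : IsAffineMor f)
    (hG : IsAlgSpace G) (hqc : IsQuasiCompactSp G) : IsQuasiCompactSp F := by
  have hr : RepWith @QuasiCompact f :=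
    repWith_mono (fun _ _ k hk => by
      have : IsAffineHom k := hk
      infer_instance) (repWith_isAffineHom_of_isAffineMor' _ ha)
  exact isQuasiCompactMor_of_repWith hr hG hqc (𝟙 _) (𝟙 _) f
    (IsPullback.of_horiz_isIso ⟨by simp⟩)

section Res

variable {I : Type u} [SmallCategory I] [IsCofiltered I]
variable (D : I ⥤ Sp S) (c : Cone D) (i₀ : I) {W₀ : Sp S} (ι₀ : W₀ ⟶ D.obj i₀)

omit [IsCofiltered I] in
theorem res_ht {j j' : Over i₀} (φ : j ⟶ j') :
    (Over.forget i₀ ⋙ D).map φ ≫ D.map j'.hom = D.map j.hom := by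
  change D.map φ.left ≫ D.map j'.hom = D.map j.hom
  rw [← D.map_comp, Over.w]

/-- restriction of a system to an open subspace of a stage -/
noncomputable def resDiag : Over i₀ ⥤ Sp S :=
  pbDiag (Over.forget i₀ ⋙ D) (fun j => D.map j.hom)
    (fun {_ _} φ => res_ht D i₀ φ) ι₀

/-- restriction of the cone -/
noncomputable def resCone : Cone (resDiag D i₀ ι₀) :=
  pbCone (Over.forget i₀ ⋙ D) (fun j => D.map j.hom)
    (fun {_ _} φ => res_ht D i₀ φ) ι₀ (c.whisker (Over.forget i₀)) (c.π.app i₀)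
    (fun j => c.w j.hom)

/-- the restricted cone is a limit -/
noncomputable def resIsLimit (hc : IsLimit c) : IsLimit (resCone D c i₀ ι₀) := by
  have : IsConnected (Over i₀) := IsCofiltered.isConnected _
  exact isLimitPbCone _ _ (fun {_ _} φ => res_ht D i₀ φ) _ _ _ _ ((Functor.Initial.isLimitWhiskerEquiv (Over.forget i₀) c).symm hc)

/-- the inclusion of the restricted stage -/
noncomputable def resι (j : Over i₀) : (resDiag D i₀ ι₀).obj j ⟶ D.obj j.left :=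
  pullback.fst (D.map j.hom) ι₀

/-- the structure map of the restricted stage to the open subspace -/
noncomputable def resσ (j : Over i₀) : (resDiag D i₀ ι₀).obj j ⟶ W₀ :=
  pullback.snd (D.map j.hom) ι₀

/-- the inclusion of the restricted limit -/
noncomputable def resιpt : (resCone D c i₀ ι₀).pt ⟶ c.pt :=
  pullback.fst (c.π.app i₀) ι₀

theorem res_isPullback_σ (j : Over i₀) :
    IsPullback (resι D i₀ ι₀ j) (resσ D i₀ ι₀ j) (D.map j.hom) ι₀ :=
  IsPullback.of_hasPullback _ _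

theorem res_isPullback_pt :
    IsPullback (resιpt D c i₀ ι₀) (pullback.snd (c.π.app i₀) ι₀) (c.π.app i₀) ι₀ :=
  IsPullback.of_hasPullback _ _

theorem res_map_isPullback {j j' : Over i₀} (φ : j ⟶ j') :
    IsPullback (resι D i₀ ι₀ j) ((resDiag D i₀ ι₀).map φ) (D.map φ.left) (resι D i₀ ι₀ j') :=
  isPullback_pbMap (Over.forget i₀ ⋙ D) (fun j => D.map j.hom) (fun {_ _} φ => res_ht D i₀ φ) ι₀ φ

theorem res_leg_w (j : Over i₀) :
    (resCone D c i₀ ι₀).π.app j ≫ resι D i₀ ι₀ j = resιpt D c i₀ ι₀ ≫ c.π.app j.left :=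
  pbLeg_fst (Over.forget i₀ ⋙ D) (fun j => D.map j.hom) (fun {_ _} φ => res_ht D i₀ φ) ι₀ (c.whisker (Over.forget i₀))
    (c.π.app i₀) (fun j => c.w j.hom) j

theorem res_leg_isPullback (j : Over i₀) :
    IsPullback (resιpt D c i₀ ι₀) ((resCone D c i₀ ι₀).π.app j) (c.π.app j.left)
      (resι D i₀ ι₀ j) := by
  have hsnd : (resCone D c i₀ ι₀).π.app j ≫ resσ D i₀ ι₀ j = pullback.snd (c.π.app i₀) ι₀ :=
    pbLeg_snd (Over.forget i₀ ⋙ D) (fun j => D.map j.hom) (fun {_ _} φ => res_ht D i₀ φ) ι₀ (c.whisker (Over.forget i₀))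
      (c.π.app i₀) (fun j => c.w j.hom) j
  have big : IsPullback (resιpt D c i₀ ι₀)
      ((resCone D c i₀ ι₀).π.app j ≫ resσ D i₀ ι₀ j) (c.π.app j.left ≫ D.map j.hom) ι₀ := by
    rw [hsnd, c.w]
    exact IsPullback.of_hasPullback _ _
  exact IsPullback.of_bot big (res_leg_w D c i₀ ι₀ j).symm (res_isPullback_σ D i₀ ι₀ j)

variable (hι : RepWith @IsOpenImmersion ι₀)
include hι

theorem res_openImmersion (j : Over i₀) : RepWith @IsOpenImmersion (resι D i₀ ι₀ j) :=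
  repWith_of_isPullback _ (res_isPullback_σ D i₀ ι₀ j).flip hι

theorem res_openImmersion_pt : RepWith @IsOpenImmersion (resιpt D c i₀ ι₀) :=
  repWith_of_isPullback _ (res_isPullback_pt D c i₀ ι₀).flip hι

theorem res_mono (j : Over i₀) : Mono (resι D i₀ ι₀ j) :=
  mono_of_repWith_mono (repWith_mono isOpenImmersion_le_mono (res_openImmersion D i₀ ι₀ hι j))

theorem res_mono_pt : Mono (resιpt D c i₀ ι₀) :=
  mono_of_repWith_mono (repWith_mono isOpenImmersion_le_mono (res_openImmersion_pt D c i₀ ι₀ hι))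

theorem res_isAlgSpace (hD : ∀ i, IsAlgSpace (D.obj i)) (j : Over i₀) :
    IsAlgSpace ((resDiag D i₀ ι₀).obj j) :=
  isAlgSpace_of_representable_to (hD j.left) (resι D i₀ ι₀ j) (res_openImmersion D i₀ ι₀ hι j).rep

theorem res_isQuasiSeparatedSp (hqs : ∀ i, IsQuasiSeparatedSp (D.obj i)) (j : Over i₀) :
    IsQuasiSeparatedSp ((resDiag D i₀ ι₀).obj j) := by
  have := res_mono D i₀ ι₀ hι j
  exact isQuasiSeparatedSp_of_mono (resι D i₀ ι₀ j) (hqs j.left)

omit hι in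
theorem res_isAffineMor (hDa : ∀ (i j : I) (φ : i ⟶ j), IsAffineMor (D.map φ))
    {j j' : Over i₀} (φ : j ⟶ j') : IsAffineMor ((resDiag D i₀ ι₀).map φ) :=
  isAffineMor_of_isPullback (res_map_isPullback D i₀ ι₀ φ) (hDa _ _ φ.left)

theorem res_isQuasiCompactSp (hD : ∀ i, IsAlgSpace (D.obj i))
    (hDa : ∀ (i j : I) (φ : i ⟶ j), IsAffineMor (D.map φ))
    (hW₀ : IsQuasiCompactSp W₀) (j : Over i₀) :
    IsQuasiCompactSp ((resDiag D i₀ ι₀).obj j) :=
  isQuasiCompactSp_of_isAffineMor (resσ D i₀ ι₀ j)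
    (isAffineMor_of_isPullback (res_isPullback_σ D i₀ ι₀ j) (hDa _ _ j.hom))
    (isAlgSpace_of_representable_to (hD i₀) ι₀ hι.rep) hW₀

omit hι in
/-- the structure maps of the restricted system to a base -/
noncomputable def resT {B : Sp S} (t : D ⟶ (Functor.const I).obj B) :
    resDiag D i₀ ι₀ ⟶ (Functor.const (Over i₀)).obj B where
  app j := resι D i₀ ι₀ j ≫ t.app j.left
  naturality j j' φ := by
    have h1 := (res_map_isPullback D i₀ ι₀ φ).w
    have h2 := t.naturality φ.left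
    simp only [Functor.const_obj_obj, Functor.const_obj_map, Category.comp_id] at h2 ⊢
    rw [← Category.assoc, ← h1, Category.assoc, h2]

omit hι in
theorem resT_app {B : Sp S} (t : D ⟶ (Functor.const I).obj B) (j : Over i₀) :
    (resT D i₀ ι₀ t).app j = resι D i₀ ι₀ j ≫ t.app j.left := rfl

omit hι in
theorem res_leg_t {B : Sp S} (t : D ⟶ (Functor.const I).obj B) (j : Over i₀) :
    (resCone D c i₀ ι₀).π.app j ≫ (resT D i₀ ι₀ t).app j =
      resιpt D c i₀ ι₀ ≫ c.π.app j.left ≫ t.app j.left := by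
  rw [resT_app, ← Category.assoc, res_leg_w, Category.assoc]

omit hι [IsCofiltered I] in
theorem cone_t_const {B : Sp S} (t : D ⟶ (Functor.const I).obj B) {i i' : I} (φ : i ⟶ i') :
    c.π.app i ≫ t.app i = c.π.app i' ≫ t.app i' := by
  have h2 := t.naturality φ
  simp only [Functor.const_obj_obj, Functor.const_obj_map, Category.comp_id] at h2
  rw [← c.w φ, Category.assoc, h2]

end Res

section Main

variable {I : Type u} [SmallCategory I] [IsCofiltered I]

set_option backward.isDefEq.respectTransparency.types false in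
set_option maxHeartbeats 1600000 in
theorem eventually_immersion_of_limit [QuasiSeparatedSpace S]
    (B : Space S) (D : I ⥤ Sp S) (hD : ∀ i, IsAlgSpace (D.obj i))
    (t : D ⟶ (Functor.const I).obj B.obj)
    (hDa : ∀ (i j : I) (φ : i ⟶ j), IsAffineMor (D.map φ))
    (c : Cone D) (hc : IsLimit c)
    (hqs : ∀ i, IsQuasiSeparatedSp (D.obj i))
    (Y : Space S) (hYqc : IsQuasiCompactSp Y.obj) (y : Y.obj ⟶ c.pt)
    (hy : RepWith @IsImmersion y) (i₁ : I)
    (hYB : LocP @LocallyOfFiniteType (y ≫ c.π.app i₁ ≫ t.app i₁)) :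
    ∃ i₀ : I, ∀ (i : I) (_ : i ⟶ i₀), RepWith @IsImmersion (y ≫ c.π.app i) := by
  -- Step 1: a quasi-compact open of the stage `i₁` containing the image of `Y`
  have hYc : CompactSpace (Points Y.obj) := compactSpace_points_of_isQuasiCompactSp hYqc
  have hK : IsCompact (Set.range (Points.map (y ≫ c.π.app i₁))) :=
    isCompact_range (Points.continuous_map _)
  obtain ⟨W₁, hW₁o, hW₁c, hKW₁, -⟩ :=
    exists_compact_open_between (hD i₁) hK isOpen_univ (Set.subset_univ _)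
  obtain ⟨X₁, ι₁, hι₁, hr₁⟩ :=
    Groth.Agent.Lib.Helper8.AlgSpOpenSub.exists_openSubspace ⟨D.obj i₁, hD i₁⟩ W₁ hW₁o
  have hX₁qc : IsQuasiCompactSp X₁.obj :=
    isQuasiCompactSp_of_openImmersion_of_isCompact_range (hD i₁) ι₁.hom hι₁
      (by rw [hr₁]; exact hW₁c)
  obtain ⟨y₁, hy₁⟩ := Groth.Agent.Lib.Helper8.AlgSpOpen.exists_factor_of_range_subset
    ι₁.hom hι₁ (y ≫ c.π.app i₁) (by rw [hr₁]; exact hKW₁)
  -- the first restricted system
  have hcα := resIsLimit D c i₁ ι₁.hom hc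
  have hDα := res_isAlgSpace D i₁ ι₁.hom hι₁ hD
  have hDαa : ∀ (j j' : Over i₁) (φ : j ⟶ j'), IsAffineMor ((resDiag D i₁ ι₁.hom).map φ) :=
    fun j j' φ => res_isAffineMor D i₁ ι₁.hom hDa φ
  have hDαqc := res_isQuasiCompactSp D i₁ ι₁.hom hι₁ hD hDa hX₁qc
  have hDαqs := res_isQuasiSeparatedSp D i₁ ι₁.hom hι₁ hqs
  have hmonoα := res_mono_pt D c i₁ ι₁.hom hι₁
  have hopenα := res_openImmersion_pt D c i₁ ι₁.hom hι₁
  have hXαalg : IsAlgSpace (resCone D c i₁ ι₁.hom).pt :=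
    isAlgSpace_of_limit _ hDα hDαa _ hcα
  -- the lift of `y`
  obtain ⟨yα, hyα⟩ : ∃ yα : Y.obj ⟶ (resCone D c i₁ ι₁.hom).pt,
      yα ≫ resιpt D c i₁ ι₁.hom = y :=
    ⟨(res_isPullback_pt D c i₁ ι₁.hom).lift y y₁ hy₁.symm,
      (res_isPullback_pt D c i₁ ι₁.hom).lift_fst _ _ _⟩
  have hyαimm : RepWith @IsImmersion yα := by
    have hΔ : IsIso (pullback.diagonal (resιpt D c i₁ ι₁.hom)) :=
      (pullback.isIso_diagonal_iff _).2 hmonoα
    exact repWith_of_comp_of_diagonal yα (resιpt D c i₁ ι₁.hom) @IsImmersion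
      (repWith_of_isIso @IsImmersion _) (by rw [hyα]; exact hy)
  -- Step 2: a quasi-compact open of the restricted limit in which `Y` is closed
  obtain ⟨U₁, hU₁o, hyU₁, hU₁cl⟩ := exists_open_closedImmersion_of_immersion hXαalg yα hyαimm
  obtain ⟨W₂, hW₂o, hW₂c, hKW₂, hW₂U₁⟩ :=
    exists_compact_open_between hXαalg (isCompact_range (Points.continuous_map yα)) hU₁o hyU₁
  obtain ⟨U, j, hj, hrj⟩ :=
    Groth.Agent.Lib.Helper8.AlgSpOpenSub.exists_openSubspace ⟨_, hXαalg⟩ W₂ hW₂o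
  have hUqc : IsQuasiCompactSp U.obj :=
    isQuasiCompactSp_of_openImmersion_of_isCompact_range hXαalg j.hom hj
      (by rw [hrj]; exact hW₂c)
  obtain ⟨yβ, hyβ⟩ := Groth.Agent.Lib.Helper8.AlgSpOpen.exists_factor_of_range_subset
    j.hom hj yα (by rw [hrj]; exact hKW₂)
  have hyβcl : RepWith @IsClosedImmersion yβ :=
    hU₁cl U.obj j.hom hj (by rw [hrj]; exact hW₂U₁) yβ hyβ
  -- Step 3: descend the open subspace
  obtain ⟨k, Uk, jk, q, hjk, hUkqc, hq⟩ := exists_quasiCompact_open_descends_limit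
    (resDiag D i₁ ι₁.hom) hDα hDαa hDαqc hDαqs (resCone D c i₁ ι₁.hom) hcα U.obj j.hom hj hUqc
  -- the second restricted system
  have hcβ := resIsLimit (resDiag D i₁ ι₁.hom) (resCone D c i₁ ι₁.hom) k jk hcα
  have hDβ := res_isAlgSpace (resDiag D i₁ ι₁.hom) k jk hjk hDα
  have hDβa : ∀ (m m' : Over k) (φ : m ⟶ m'),
      IsAffineMor ((resDiag (resDiag D i₁ ι₁.hom) k jk).map φ) :=
    fun m m' φ => res_isAffineMor (resDiag D i₁ ι₁.hom) k jk hDαa φ
  have hDβqc := res_isQuasiCompactSp (resDiag D i₁ ι₁.hom) k jk hjk hDα hDαa hUkqc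
  obtain ⟨e, he⟩ : ∃ e : U.obj ≅ (resCone (resDiag D i₁ ι₁.hom) (resCone D c i₁ ι₁.hom) k jk).pt,
      e.hom ≫ resιpt (resDiag D i₁ ι₁.hom) (resCone D c i₁ ι₁.hom) k jk = j.hom :=
    ⟨hq.isoIsPullback _ _ (res_isPullback_pt (resDiag D i₁ ι₁.hom) (resCone D c i₁ ι₁.hom) k jk),
      IsPullback.isoIsPullback_hom_fst _ _ _ _⟩
  have hyγcl : RepWith @IsClosedImmersion (yβ ≫ e.hom) :=
    repWith_comp _ hyβcl (repWith_of_isIso @IsClosedImmersion e.hom)
  have hyγ : (yβ ≫ e.hom) ≫ resιpt (resDiag D i₁ ι₁.hom) (resCone D c i₁ ι₁.hom) k jk ≫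
      resιpt D c i₁ ι₁.hom = y := by
    rw [Category.assoc, ← Category.assoc e.hom, he, ← Category.assoc, hyβ, hyα]
  -- Step 4: the closed immersion descends
  have hYBβ : LocP @LocallyOfFiniteType ((yβ ≫ e.hom) ≫
      (resCone (resDiag D i₁ ι₁.hom) (resCone D c i₁ ι₁.hom) k jk).π.app (Over.mk (𝟙 k)) ≫
      (resT (resDiag D i₁ ι₁.hom) k jk (resT D i₁ ι₁.hom t)).app (Over.mk (𝟙 k))) := by
    have h1 := res_leg_t (resDiag D i₁ ι₁.hom) (resCone D c i₁ ι₁.hom) k jk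
      (resT D i₁ ι₁.hom t) (Over.mk (𝟙 k))
    have h2 := res_leg_t D c i₁ ι₁.hom t k
    have h3 := cone_t_const D c t k.hom
    rw [h1]
    change LocP @LocallyOfFiniteType ((yβ ≫ e.hom) ≫
      resιpt (resDiag D i₁ ι₁.hom) (resCone D c i₁ ι₁.hom) k jk ≫
      (resCone D c i₁ ι₁.hom).π.app k ≫ (resT D i₁ ι₁.hom t).app k)
    rw [h2, h3]
    have : (yβ ≫ e.hom) ≫ resιpt (resDiag D i₁ ι₁.hom) (resCone D c i₁ ι₁.hom) k jk ≫
        resιpt D c i₁ ι₁.hom ≫ c.π.app i₁ ≫ t.app i₁ = y ≫ c.π.app i₁ ≫ t.app i₁ := by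
      rw [← hyγ]
      simp only [Category.assoc]
    rw [this]
    exact hYB
  obtain ⟨m₀, hm₀⟩ := eventually_closedImmersion_of_limit B
    (resDiag (resDiag D i₁ ι₁.hom) k jk) hDβ
    (resT (resDiag D i₁ ι₁.hom) k jk (resT D i₁ ι₁.hom t)) hDβa
    (resCone (resDiag D i₁ ι₁.hom) (resCone D c i₁ ι₁.hom) k jk) hcβ hDβqc Y (yβ ≫ e.hom)
    hyγcl (Over.mk (𝟙 k)) hYBβ
  -- conclusion
  refine ⟨m₀.left.left, fun i ψ => ?_⟩
  let jj : Over i₁ := Over.mk (ψ ≫ m₀.left.hom)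
  let ψ' : jj ⟶ m₀.left := Over.homMk ψ rfl
  let m : Over k := Over.mk (ψ' ≫ m₀.hom)
  let ψ'' : m ⟶ m₀ := Over.homMk ψ' rfl
  have hcl := hm₀ m ψ''
  have ho2 : RepWith @IsOpenImmersion (resι (resDiag D i₁ ι₁.hom) k jk m) :=
    res_openImmersion (resDiag D i₁ ι₁.hom) k jk hjk m
  have ho1 : RepWith @IsOpenImmersion (resι D i₁ ι₁.hom jj) :=
    res_openImmersion D i₁ ι₁.hom hι₁ jj
  have hfact : y ≫ c.π.app i = ((yβ ≫ e.hom) ≫
      (resCone (resDiag D i₁ ι₁.hom) (resCone D c i₁ ι₁.hom) k jk).π.app m) ≫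
      resι (resDiag D i₁ ι₁.hom) k jk m ≫ resι D i₁ ι₁.hom jj := by
    have h1 := res_leg_w (resDiag D i₁ ι₁.hom) (resCone D c i₁ ι₁.hom) k jk m
    have h2 := res_leg_w D c i₁ ι₁.hom jj
    rw [Category.assoc, ← Category.assoc _ (resι (resDiag D i₁ ι₁.hom) k jk m), h1,
      Category.assoc]
    change _ = (yβ ≫ e.hom) ≫ resιpt (resDiag D i₁ ι₁.hom) (resCone D c i₁ ι₁.hom) k jk ≫
      (resCone D c i₁ ι₁.hom).π.app jj ≫ resι D i₁ ι₁.hom jj
    rw [h2, ← hyγ]
    simp only [Category.assoc]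
    rfl
  rw [hfact]
  have himm1 : (@IsOpenImmersion : MorphismProperty Scheme.{u}) ≤ @IsImmersion :=
    fun _ _ _ h => by have := h; infer_instance
  exact repWith_comp _ (repWith_mono isClosedImmersion_le_isImmersion hcl)
    (repWith_comp _ (repWith_mono himm1 ho2) (repWith_mono himm1 ho1))

end Main

end Groth.Agent.Lib.Helper14.AS
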