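import Groth.Prelude.Def_AlgSp4
import Groth.Agent.Lib.Helper14.LimY
import Groth.Agent.Lib.Helper14.DenseFactor
universe u
open CategoryTheory CategoryTheory.Limits AlgebraicGeometry Opposite
namespace Groth.Agent.Lib.Helper14.AS
variable {S : Scheme.{u}}
open AlgSp

section KP

variable {C : Type*} [Category C] [HasPullbacks C]

/-- the kernel pair of a base change is the base change of the kernel pair -/
theorem isPullback_kernelPair_map {Xj X0 Uj U0 : C} {m : Xj ⟶ X0} {p : U0 ⟶ X0}
    {fstU : Uj ⟶ Xj} {ιU : Uj ⟶ U0} (sqU : IsPullback fstU ιU m p)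
    (κ : pullback fstU fstU ⟶ pullback p p)
    (hκ1 : κ ≫ pullback.fst p p = pullback.fst fstU fstU ≫ ιU)
    (hκ2 : κ ≫ pullback.snd p p = pullback.snd fstU fstU ≫ ιU) :
    IsPullback (pullback.fst fstU fstU ≫ fstU) κ m (pullback.fst p p ≫ p) := by
  refine isPullback_of_exists_unique ?_ ?_ ?_
  · rw [Category.assoc, sqU.w, ← Category.assoc, ← hκ1, Category.assoc]
  · intro T b a hab
    have h1 : b ≫ m = (a ≫ pullback.fst p p) ≫ p := by rw [hab, Category.assoc]
    have h2 : b ≫ m = (a ≫ pullback.snd p p) ≫ p := by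
      rw [hab, Category.assoc, pullback.condition]
    let u₁ := sqU.lift b (a ≫ pullback.fst p p) h1
    let u₂ := sqU.lift b (a ≫ pullback.snd p p) h2
    have hu₁ : u₁ ≫ fstU = b := sqU.lift_fst _ _ _
    have hu₂ : u₂ ≫ fstU = b := sqU.lift_fst _ _ _
    refine ⟨pullback.lift u₁ u₂ (by rw [hu₁, hu₂]), ?_, ?_⟩
    · rw [← Category.assoc, pullback.lift_fst, hu₁]
    · apply pullback.hom_ext
      · rw [Category.assoc, hκ1, ← Category.assoc, pullback.lift_fst]
        exact sqU.lift_snd _ _ _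
      · rw [Category.assoc, hκ2, ← Category.assoc, pullback.lift_snd]
        exact sqU.lift_snd _ _ _
  · intro T z z' h1 h2
    have e1 : z ≫ pullback.fst fstU fstU = z' ≫ pullback.fst fstU fstU := by
      apply sqU.hom_ext
      · simpa only [Category.assoc] using h1
      · have := congrArg (· ≫ pullback.fst p p) h2
        simpa only [Category.assoc, hκ1] using this
    apply pullback.hom_ext e1
    apply sqU.hom_ext
    · have : z ≫ pullback.snd fstU fstU ≫ fstU = z' ≫ pullback.snd fstU fstU ≫ fstU := by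
        rw [← pullback.condition]
        simpa only [Category.assoc] using h1
      simpa only [Category.assoc] using this
    · have := congrArg (· ≫ pullback.snd p p) h2
      simpa only [Category.assoc, hκ2] using this

end KP

section CM

variable {I : Type u} [SmallCategory I] [IsCofiltered I]
variable {D : I ⥤ Sp S} {c : Cone D} {i : I} {Z Z' : Over S}
  {g : (yon S).obj Z ⟶ D.obj i} {g' : (yon S).obj Z' ⟶ D.obj i}

/-- a morphism of charts induces a morphism of chart systems -/
theorem exists_chartSystem_hom (hc : IsLimit c) (cs : ChartSystem D c i g)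
    (cs' : ChartSystem D c i g') (σ : Z' ⟶ Z) (hσ : (yon S).map σ ≫ g = g') :
    ∃ (m : ∀ j, cs'.G.obj j ⟶ cs.G.obj j) (mInf : cs'.cG.pt ⟶ cs.cG.pt),
      (∀ j, (yon S).map (m j) ≫ cs.fst j = cs'.fst j) ∧
      (∀ j, m j ≫ cs.ι j = cs'.ι j ≫ σ) ∧
      (∀ {j j' : Over i} (h : j ⟶ j'), cs'.G.map h ≫ m j' = m j ≫ cs.G.map h) ∧
      (yon S).map mInf ≫ cs.a = cs'.a ∧
      (∀ j, mInf ≫ cs.cG.π.app j = cs'.cG.π.app j ≫ m j) := by
  have hex : ∀ j, ∃ m : cs'.G.obj j ⟶ cs.G.obj j,
      (yon S).map m ≫ cs.fst j = cs'.fst j ∧ m ≫ cs.ι j = cs'.ι j ≫ σ := by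
    intro j
    have hw : cs'.fst j ≫ D.map j.hom = ((yon S).map (cs'.ι j) ≫ (yon S).map σ) ≫ g := by
      rw [(cs'.sq j).w, Category.assoc, hσ]
    obtain ⟨m, hm⟩ := (yon S).map_surjective ((cs.sq j).lift (cs'.fst j)
      ((yon S).map (cs'.ι j) ≫ (yon S).map σ) hw)
    refine ⟨m, ?_, ?_⟩
    · rw [hm]
      exact (cs.sq j).lift_fst _ _ _
    · apply (yon S).map_injective
      rw [(yon S).map_comp, hm, (yon S).map_comp]
      exact (cs.sq j).lift_snd _ _ _
  choose m hm1 hm2 using hex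
  have hext : ∀ (j : Over i) {T : Over S} (a b : T ⟶ cs.G.obj j),
      (yon S).map a ≫ cs.fst j = (yon S).map b ≫ cs.fst j → a ≫ cs.ι j = b ≫ cs.ι j → a = b := by
    intro j T a b h1 h2
    apply (yon S).map_injective
    apply (cs.sq j).hom_ext h1
    rw [← (yon S).map_comp, ← (yon S).map_comp, h2]
  have hnat : ∀ {j j' : Over i} (h : j ⟶ j'), cs'.G.map h ≫ m j' = m j ≫ cs.G.map h := by
    intro j j' h
    apply hext j'
    · rw [(yon S).map_comp, Category.assoc, hm1, cs'.map_fst, (yon S).map_comp, Category.assoc,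
        cs.map_fst, ← Category.assoc, hm1]
    · rw [Category.assoc, hm2, ← Category.assoc, cs'.map_ι, Category.assoc, cs.map_ι, hm2]
  let mInf : cs'.cG.pt ⟶ cs.cG.pt := cs.hcG.lift ⟨cs'.cG.pt,
    { app := fun j => cs'.cG.π.app j ≫ m j
      naturality := fun j j' h => by
        change 𝟙 _ ≫ cs'.cG.π.app j' ≫ m j' = (cs'.cG.π.app j ≫ m j) ≫ cs.G.map h
        rw [Category.id_comp, Category.assoc, ← hnat h, ← Category.assoc, cs'.cG.w] }⟩
  have hmInf : ∀ j, mInf ≫ cs.cG.π.app j = cs'.cG.π.app j ≫ m j := fun j => cs.hcG.fac _ j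
  refine ⟨m, mInf, hm1, hm2, hnat, ?_, hmInf⟩
  have hc' : IsLimit (c.whisker (Over.forget i)) :=
    (Functor.Initial.isLimitWhiskerEquiv (Over.forget i) c).symm hc
  apply hc'.hom_ext
  intro j
  change ((yon S).map mInf ≫ cs.a) ≫ c.π.app j.left = cs'.a ≫ c.π.app j.left
  rw [Category.assoc, cs.a_π, cs'.a_π, ← Category.assoc, ← (yon S).map_comp, hmInf,
    (yon S).map_comp, Category.assoc, hm1]

end CM

section LP

variable {I : Type u} [SmallCategory I] [IsCofiltered I]

set_option backward.isDefEq.respectTransparency.types false in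
set_option maxHeartbeats 1600000 in
/-- a morphism from a limit to a scheme locally of finite presentation over the base factors
through a stage -/
theorem exists_factor_of_lfp [QuasiSeparatedSpace S]
    (D : I ⥤ Sp S) (hD : ∀ i, IsAlgSpace (D.obj i))
    (hDa : ∀ (i j : I) (φ : i ⟶ j), IsAffineMor (D.map φ))
    (hqc : ∀ i, IsQuasiCompactSp (D.obj i)) (hqs : ∀ i, IsQuasiSeparatedSp (D.obj i))
    (c : Cone D) (hc : IsLimit c) (P : Over S) [hP : LocallyOfFinitePresentation P.hom]
    (f : c.pt ⟶ (yon S).obj P) :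
    ∃ (i : I) (fi : D.obj i ⟶ (yon S).obj P), c.π.app i ≫ fi = f := by
  obtain ⟨i₀⟩ := IsCofiltered.nonempty (C := I)
  obtain ⟨U₀, p, hU₀, hpe, hps⟩ := isQuasiCompactSp_iff_exists_affine_chart.1 (hqc i₀)
  obtain ⟨cs, haff, haffc⟩ := exists_chartSystem D hDa c hc i₀ hU₀ p
  have hconn : IsConnected (Over i₀) := IsCofiltered.isConnected _
  -- the kernel pair of the chart and an affine chart of it
  have hU₀alg := IsAlgSpace.yon_obj U₀
  have hU₀qc : IsQuasiCompactSp ((yon S).obj U₀) :=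
    (isQuasiCompactSp_yon_iff U₀).2 (by have := hU₀; infer_instance)
  have hR₀qc : IsQuasiCompactSp (pullback p p) :=
    isQuasiCompactSp_of_isPullback hU₀alg hU₀qc hU₀alg hU₀qc (hqs i₀)
      (IsPullback.of_hasPullback p p)
  obtain ⟨R₀, r, hR₀, hre, hrs⟩ := isQuasiCompactSp_iff_exists_affine_chart.1 hR₀qc
  obtain ⟨σ, hσ⟩ := (yon S).map_surjective (r ≫ pullback.fst p p)
  obtain ⟨τ, hτ⟩ := (yon S).map_surjective (r ≫ pullback.snd p p)
  obtain ⟨g', hg'⟩ : ∃ g' : (yon S).obj R₀ ⟶ D.obj i₀, g' = r ≫ pullback.fst p p ≫ p := ⟨_, rfl⟩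
  obtain ⟨cs', haff', haffc'⟩ := exists_chartSystem D hDa c hc i₀ hR₀ g'
  obtain ⟨s, sInf, hs1, hs2, hs3, hs4, hs5⟩ := exists_chartSystem_hom hc cs cs' σ
    (by rw [hg', hσ, Category.assoc])
  obtain ⟨t, tInf, ht1, ht2, ht3, ht4, ht5⟩ := exists_chartSystem_hom hc cs cs' τ
    (by rw [hg', hτ, Category.assoc, pullback.condition])
  -- scheme-level systems
  let D₁ : Over i₀ ⥤ Scheme.{u} := cs.G ⋙ Over.forget S
  let c₁ : Cone D₁ := (Over.forget S).mapCone cs.cG
  have hc₁ : IsLimit c₁ := isLimitOfPreserves (Over.forget S) cs.hcG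
  let t₁ : D₁ ⟶ (Functor.const (Over i₀)).obj S :=
    { app := fun j => (cs.G.obj j).hom
      naturality := fun j j' h => by
        change (cs.G.map h).left ≫ (cs.G.obj j').hom = (cs.G.obj j).hom ≫ 𝟙 _
        rw [Over.w, Category.comp_id] }
  have h1a : ∀ {a b : Over i₀} (f : a ⟶ b), IsAffineHom (D₁.map f) := by
    intro a b f
    have := haff a
    have := haff b
    exact isAffineHom_of_isAffine (X := (cs.G.obj a).left) (Y := (cs.G.obj b).left) _
  have h1c : ∀ j, CompactSpace (D₁.obj j) := fun j => by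
    have := haff j
    exact inferInstanceAs (CompactSpace (cs.G.obj j).left)
  have h1s : ∀ j, QuasiSeparatedSpace (D₁.obj j) := fun j => by
    have := haff j
    exact inferInstanceAs (QuasiSeparatedSpace (cs.G.obj j).left)
  let D₂ : Over i₀ ⥤ Scheme.{u} := cs'.G ⋙ Over.forget S
  let c₂ : Cone D₂ := (Over.forget S).mapCone cs'.cG
  have hc₂ : IsLimit c₂ := isLimitOfPreserves (Over.forget S) cs'.hcG
  let t₂ : D₂ ⟶ (Functor.const (Over i₀)).obj S :=
    { app := fun j => (cs'.G.obj j).hom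
      naturality := fun j j' h => by
        change (cs'.G.map h).left ≫ (cs'.G.obj j').hom = (cs'.G.obj j).hom ≫ 𝟙 _
        rw [Over.w, Category.comp_id] }
  have h2a : ∀ {a b : Over i₀} (f : a ⟶ b), IsAffineHom (D₂.map f) := by
    intro a b f
    have := haff' a
    have := haff' b
    exact isAffineHom_of_isAffine (X := (cs'.G.obj a).left) (Y := (cs'.G.obj b).left) _
  have h2c : ∀ j, CompactSpace (D₂.obj j) := fun j => by
    have := haff' j
    exact inferInstanceAs (CompactSpace (cs'.G.obj j).left)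
  -- the morphism on the limit chart
  obtain ⟨v, hv⟩ := (yon S).map_surjective (cs.a ≫ f)
  have hft : LocallyOfFiniteType P.hom := inferInstance
  obtain ⟨j₁, fU, hfU1, hfU2⟩ := Scheme.exists_π_app_comp_eq_of_locallyOfFinitePresentation
    D₁ t₁ P.hom c₁ hc₁ v.left (by
      ext j
      change (cs.cG.π.app j).left ≫ (cs.G.obj j).hom = v.left ≫ P.hom
      rw [Over.w, Over.w]
      rfl)
  let fUo : cs.G.obj j₁ ⟶ P := Over.homMk fU hfU2
  have hfUo : cs.cG.π.app j₁ ≫ fUo = v := Over.OverMorphism.ext hfU1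
  -- the two pullbacks to the relation agree at the limit
  have hlim : sInf ≫ v = tInf ≫ v := by
    apply (yon S).map_injective
    rw [(yon S).map_comp, (yon S).map_comp, hv, ← Category.assoc, ← Category.assoc, hs4, ht4]
  obtain ⟨k, hk, hkeq⟩ := Scheme.exists_hom_comp_eq_comp_of_locallyOfFiniteType D₂ t₂ P.hom c₂ hc₂
    (s j₁ ≫ fUo).left (t j₁ ≫ fUo).left
    (Over.w (s j₁ ≫ fUo)).symm (Over.w (t j₁ ≫ fUo)).symm
    (by
      change (cs'.cG.π.app j₁ ≫ s j₁ ≫ fUo).left = (cs'.cG.π.app j₁ ≫ t j₁ ≫ fUo).left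
      rw [← Category.assoc, ← hs5, ← Category.assoc (cs'.cG.π.app j₁), ← ht5, Category.assoc,
        Category.assoc, hfUo, hlim])
  let fk : cs.G.obj k ⟶ P := cs.G.map hk ≫ fUo
  have hfk : s k ≫ fk = t k ≫ fk := by
    apply Over.OverMorphism.ext
    change (s k ≫ cs.G.map hk ≫ fUo).left = (t k ≫ cs.G.map hk ≫ fUo).left
    rw [← Category.assoc, ← hs3, ← Category.assoc (t k), ← ht3, Category.assoc, Category.assoc]
    exact hkeq
  -- descend along the chart of the stage
  have hfe : RepWith @Etale (cs.fst k) := repWith_of_isPullback _ (cs.sq k).flip hpe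
  have hfs : RepWith @Surjective (cs.fst k) := repWith_of_isPullback _ (cs.sq k).flip hps
  have hepi : Epi (cs.fst k) := epi_of_etale_surjective _ hfe hfs
  have hcsae : RepWith @Etale cs.a := repWith_of_isPullback _ cs.isPullback.flip hpe
  have hcsas : RepWith @Surjective cs.a := repWith_of_isPullback _ cs.isPullback.flip hps
  have hepia : Epi cs.a := epi_of_etale_surjective _ hcsae hcsas
  have heq : pullback.fst (cs.fst k) (cs.fst k) ≫ (yon S).map fk =
      pullback.snd (cs.fst k) (cs.fst k) ≫ (yon S).map fk := by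
    let ρ : (yon S).obj (cs'.G.obj k) ⟶ pullback (cs.fst k) (cs.fst k) :=
      pullback.lift ((yon S).map (s k)) ((yon S).map (t k)) (by rw [hs1, ht1])
    have hρ1 : ρ ≫ pullback.fst (cs.fst k) (cs.fst k) = (yon S).map (s k) :=
      pullback.lift_fst _ _ _
    have hρ2 : ρ ≫ pullback.snd (cs.fst k) (cs.fst k) = (yon S).map (t k) :=
      pullback.lift_snd _ _ _
    let κ : pullback (cs.fst k) (cs.fst k) ⟶ pullback p p :=
      pullback.map _ _ _ _ ((yon S).map (cs.ι k)) ((yon S).map (cs.ι k)) (D.map k.hom)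
        (cs.sq k).w (cs.sq k).w
    have hκ1 : κ ≫ pullback.fst p p = pullback.fst _ _ ≫ (yon S).map (cs.ι k) :=
      pullback.lift_fst _ _ _
    have hκ2 : κ ≫ pullback.snd p p = pullback.snd _ _ ≫ (yon S).map (cs.ι k) :=
      pullback.lift_snd _ _ _
    have K := isPullback_kernelPair_map (cs.sq k) κ hκ1 hκ2
    have hw : ρ ≫ κ = (yon S).map (cs'.ι k) ≫ r := by
      apply pullback.hom_ext
      · rw [Category.assoc, hκ1, ← Category.assoc, hρ1, ← (yon S).map_comp, hs2,
          (yon S).map_comp, hσ, Category.assoc]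
      · rw [Category.assoc, hκ2, ← Category.assoc, hρ2, ← (yon S).map_comp, ht2,
          (yon S).map_comp, hτ, Category.assoc]
    have big : IsPullback (ρ ≫ pullback.fst (cs.fst k) (cs.fst k) ≫ cs.fst k)
        ((yon S).map (cs'.ι k)) (D.map k.hom) (r ≫ pullback.fst p p ≫ p) := by
      rw [← Category.assoc, hρ1, hs1, ← hg']
      exact cs'.sq k
    have sqρ : IsPullback ρ ((yon S).map (cs'.ι k)) κ r := IsPullback.of_right big hw K
    have hρe : RepWith @Etale ρ := repWith_of_isPullback _ sqρ.flip hre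
    have hρs : RepWith @Surjective ρ := repWith_of_isPullback _ sqρ.flip hrs
    have : Epi ρ := epi_of_etale_surjective _ hρe hρs
    rw [← cancel_epi ρ, ← Category.assoc, ← Category.assoc, hρ1, hρ2, ← (yon S).map_comp,
      ← (yon S).map_comp, hfk]
  obtain ⟨fk', hfk'⟩ := exists_desc_of_epi (cs.fst k) ((yon S).map fk) heq
  refine ⟨k.left, fk', ?_⟩
  rw [← cancel_epi cs.a, ← Category.assoc, cs.a_π, Category.assoc, hfk', ← (yon S).map_comp, ← hv]
  congr 1
  change cs.cG.π.app k ≫ cs.G.map hk ≫ fUo = v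
  rw [← Category.assoc, cs.cG.w, hfUo]

end LP

end Groth.Agent.Lib.Helper14.AS
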