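import Groth.Prelude.Def_AlgSp4
import Groth.Prelude.Def_AlgSpDec
import Groth.Agent.Lib.Helper14.LimY
import Groth.Agent.S10215
universe u
open CategoryTheory CategoryTheory.Limits AlgebraicGeometry Opposite
namespace Groth.Agent.Lib.Helper14.AS
variable {S : Scheme.{u}}
open AlgSp

section Sch

variable {I : Type u} [SmallCategory I] [IsCofiltered I]

/-- a cofiltered limit of one-point schemes with affine transition maps has at most one point -/
theorem subsingleton_of_isLimit_subsingleton (D : I ⥤ Scheme.{u}) (c : Cone D) (hc : IsLimit c)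
    [∀ {i j} (f : i ⟶ j), IsAffineHom (D.map f)] (hsub : ∀ i, Subsingleton (D.obj i)) :
    Subsingleton c.pt := by
  refine ⟨fun t₁ t₂ => ?_⟩
  by_contra hne
  obtain ⟨O, hO, hx⟩ := exists_isOpen_xor'_mem hne
  have key : ∀ (t t' : c.pt), t ∈ O → t' ∈ O := by
    intro t t' ht
    obtain ⟨_, ⟨V, hV : IsAffineOpen V, rfl⟩, htV, hVO⟩ :=
      c.pt.isBasis_affineOpens.exists_subset_of_mem_open ht hO
    obtain ⟨k, Vk, -, hVk⟩ := exists_preimage_eq D c hc V hV.isCompact
    apply hVO
    have h1 : t ∈ c.π.app k ⁻¹ᵁ Vk := by rw [hVk]; exact htV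
    have h2 : t' ∈ c.π.app k ⁻¹ᵁ Vk := by
      change (c.π.app k) t' ∈ Vk
      rw [Subsingleton.elim ((c.π.app k) t') ((c.π.app k) t)]
      exact h1
    rw [hVk] at h2
    exact h2
  rcases hx with ⟨h1, h2⟩ | ⟨h1, h2⟩
  · exact h2 (key _ _ h1)
  · exact h2 (key _ _ h1)

end Sch

section Pts

variable {I : Type u} [SmallCategory I] [IsCofiltered I]

theorem isAffineMor_yon_map_of_isAffine {U V : Over S} (g : U ⟶ V) [IsAffine U.left]
    [IsAffine V.left] : IsAffineMor ((yon S).map g) :=
  isAffineMor_of_repWith ((repWith_yon_map_iff @IsAffineHom g).2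
    (isAffineHom_of_isAffine (X := U.left) (Y := V.left) _))

theorem subsingleton_points_yon (T : Over S) [Subsingleton T.left] :
    Subsingleton (Points ((yon S).obj T)) :=
  (Points.schemeHomeo T).symm.injective.subsingleton

set_option backward.isDefEq.respectTransparency.types false in
/-- the limit of a cofiltered system of one-point affine schemes has at most one point -/
theorem subsingleton_points_limit (Z : I ⥤ Over S) (hZa : ∀ i, IsAffine (Z.obj i).left)
    (hZs : ∀ i, Subsingleton (Z.obj i).left) (c : Cone (Z ⋙ yon S)) (hc : IsLimit c) :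
    Subsingleton (Points c.pt) := by
  obtain ⟨i₀⟩ := IsCofiltered.nonempty (C := I)
  have hDa : ∀ (i j : I) (φ : i ⟶ j), IsAffineMor ((Z ⋙ yon S).map φ) := by
    intro i j φ
    have := hZa i
    have := hZa j
    exact isAffineMor_yon_map_of_isAffine (Z.map φ)
  obtain ⟨cs, haff, haffc⟩ := exists_chartSystem (Z ⋙ yon S) hDa c hc i₀ (hZa i₀)
    (𝟙 ((yon S).obj (Z.obj i₀)))
  have hconn : IsConnected (Over i₀) := IsCofiltered.isConnected _
  let D' : Over i₀ ⥤ Scheme.{u} := cs.G ⋙ Over.forget S
  let c' : Cone D' := (Over.forget S).mapCone cs.cG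
  have hc' : IsLimit c' := isLimitOfPreserves (Over.forget S) cs.hcG
  have h1 : ∀ {a b : Over i₀} (f : a ⟶ b), IsAffineHom (D'.map f) := by
    intro a b f
    have := haff a
    have := haff b
    exact isAffineHom_of_isAffine (X := (cs.G.obj a).left) (Y := (cs.G.obj b).left) _
  have h2 : ∀ j, Subsingleton (D'.obj j) := by
    intro j
    have hiso : IsIso (cs.fst j) := (cs.sq j).isIso_fst_of_isIso
    have hinj := points_map_injective_of_mono (cs.fst j)
    have := hZs j.left
    have hsub : Subsingleton (Points ((yon S).obj (Z.obj j.left))) := subsingleton_points_yon _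
    have hsub2 : Subsingleton (Points ((yon S).obj (cs.G.obj j))) :=
      @Function.Injective.subsingleton _ _ _ hinj hsub
    exact (Points.schemeHomeo (cs.G.obj j)).injective.subsingleton
  have h3 : Subsingleton c'.pt := subsingleton_of_isLimit_subsingleton D' c' hc' h2
  have hiso : IsIso cs.a := cs.isPullback.isIso_fst_of_isIso
  have h3' : Subsingleton cs.cG.pt.left := h3
  have hsub : Subsingleton (Points ((yon S).obj cs.cG.pt)) :=
    (Points.schemeHomeo cs.cG.pt).symm.injective.subsingleton
  refine ⟨fun x x' => ?_⟩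
  have hx : x = Points.map cs.a (Points.map (inv cs.a) x) := by
    rw [← Points.map_comp, IsIso.inv_hom_id, Points.map_id]
  have hx' : x' = Points.map cs.a (Points.map (inv cs.a) x') := by
    rw [← Points.map_comp, IsIso.inv_hom_id, Points.map_id]
  rw [hx, hx', Subsingleton.elim (Points.map (inv cs.a) x) (Points.map (inv cs.a) x')]

end Pts

section Sys

variable {I : Type u} [SmallCategory I]
variable (D : I ⥤ Sp S) (hD : ∀ i, IsAlgSpace (D.obj i)) (p : ∀ i, FieldPt (D.obj i))
  (hm : ∀ i, Mono (p i).toHom)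
  (hcompat : ∀ {i j : I} (φ : i ⟶ j), Points.map (D.map φ) (Points.mk (p i)) = Points.mk (p j))

include hD hm hcompat in
theorem ptTr_existsUnique {i j : I} (φ : i ⟶ j) :
    ∃! c : (p i).pt ⟶ (p j).pt, (yon S).map c ≫ (p j).toHom = (p i).toHom ≫ D.map φ := by
  have := hm j
  have h := Groth.Agent.S10215.result ⟨D.obj j, hD j⟩ (p j) ((p i).map (D.map φ))
    (by rw [← hcompat φ]; rfl)
  rw [FieldPt.toHom_map] at h
  exact h

/-- the transition maps between the chosen residue fields -/
noncomputable def ptTr {i j : I} (φ : i ⟶ j) : (p i).pt ⟶ (p j).pt :=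
  (ptTr_existsUnique D hD p hm hcompat φ).exists.choose

theorem ptTr_spec {i j : I} (φ : i ⟶ j) :
    (yon S).map (ptTr D hD p hm hcompat φ) ≫ (p j).toHom = (p i).toHom ≫ D.map φ :=
  (ptTr_existsUnique D hD p hm hcompat φ).exists.choose_spec

theorem ptTr_unique {i j : I} (φ : i ⟶ j) (c : (p i).pt ⟶ (p j).pt)
    (h : (yon S).map c ≫ (p j).toHom = (p i).toHom ≫ D.map φ) : c = ptTr D hD p hm hcompat φ :=
  (ptTr_existsUnique D hD p hm hcompat φ).unique h (ptTr_spec D hD p hm hcompat φ)

/-- the system of spectra of the chosen residue fields -/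
noncomputable def ptSys : I ⥤ Over S where
  obj i := (p i).pt
  map φ := ptTr D hD p hm hcompat φ
  map_id i := by
    symm
    apply ptTr_unique
    rw [(yon S).map_id, D.map_id, Category.id_comp, Category.comp_id]
  map_comp φ ψ := by
    symm
    apply ptTr_unique
    rw [(yon S).map_comp, Category.assoc, ptTr_spec, ← Category.assoc, ptTr_spec, Category.assoc,
      D.map_comp]

/-- the inclusions of the chosen points -/
noncomputable def ptNat : ptSys D hD p hm hcompat ⋙ yon S ⟶ D where
  app i := (p i).toHom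
  naturality i j φ := ptTr_spec D hD p hm hcompat φ

end Sys

section Main

variable {I : Type u} [SmallCategory I] [IsCofiltered I]

theorem points_map_toHom_eq {F : Sp S} (p : FieldPt F) (y : Points ((yon S).obj p.pt)) :
    Points.map p.toHom y = Points.mk p := by
  obtain ⟨t, rfl⟩ := (Points.schemeHomeo p.pt).surjective y
  change Points.map p.toHom (Points.ofPt (𝟙 _) t) = _
  rw [Points.map_ofPt, Category.id_comp]
  exact Points.ofPt_toHom p t

set_option backward.isDefEq.respectTransparency.types false in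
/-- compatible families of points of a system of decent spaces come from points of the limit -/
theorem exists_point_of_compatible_of_isDecent
    (D : I ⥤ Sp S) (hD : ∀ i, IsAlgSpace (D.obj i))
    (hDa : ∀ (i j : I) (φ : i ⟶ j), IsAffineMor (D.map φ))
    (c : Cone D) (hc : IsLimit c) (hdec : ∀ i, IsDecent (D.obj i))
    (s : ∀ i, Points (D.obj i))
    (hs : ∀ (i j : I) (φ : i ⟶ j), Points.map (D.map φ) (s i) = s j) :
    ∃ x : Points c.pt, ∀ i, Points.map (c.π.app i) x = s i := by
  choose p hp hm hq using fun i => hdec i (s i)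
  have hcompat : ∀ {i j : I} (φ : i ⟶ j),
      Points.map (D.map φ) (Points.mk (p i)) = Points.mk (p j) := by
    intro i j φ
    rw [hp i, hp j, hs]
  let Z := ptSys D hD p hm hcompat
  let τ := ptNat D hD p hm hcompat
  have hZa : ∀ i, IsAffine (Z.obj i).left := fun i =>
    inferInstanceAs (IsAffine (Spec (CommRingCat.of (p i).K)))
  have hZa' : ∀ (i j : I) (φ : i ⟶ j), IsAffineMor ((Z ⋙ yon S).map φ) := by
    intro i j φ
    have := hZa i
    have := hZa j
    exact isAffineMor_yon_map_of_isAffine (Z.map φ)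
  have hqc : ∀ i, IsQuasiCompactSp ((Z ⋙ yon S).obj i) := fun i =>
    (isQuasiCompactSp_yon_iff _).2
      (inferInstanceAs (CompactSpace (Spec (CommRingCat.of (p i).K))))
  have hne : ∀ i, Nonempty (Points ((Z ⋙ yon S).obj i)) := fun i =>
    ⟨Points.ofScheme (p i).pt (IsLocalRing.closedPoint (p i).K)⟩
  obtain ⟨ω⟩ := nonempty_points_of_limit (Z ⋙ yon S) hZa' (limit.cone (Z ⋙ yon S))
    (limit.isLimit _) hqc hne
  let g : (limit.cone (Z ⋙ yon S)).pt ⟶ c.pt :=
    hc.lift ⟨_, (limit.cone (Z ⋙ yon S)).π ≫ τ⟩
  have hg : ∀ i, g ≫ c.π.app i = limit.π (Z ⋙ yon S) i ≫ (p i).toHom := fun i => hc.fac _ i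
  refine ⟨Points.map g ω, fun i => ?_⟩
  rw [← Points.map_comp, hg, Points.map_comp]
  exact (points_map_toHom_eq (p i) _).trans (hp i)

set_option backward.isDefEq.respectTransparency.types false in
/-- the projections separate the points of a limit of decent spaces -/
theorem points_ext_of_limit_of_isDecent
    (D : I ⥤ Sp S) (hD : ∀ i, IsAlgSpace (D.obj i))
    (c : Cone D) (hc : IsLimit c) (hdec : ∀ i, IsDecent (D.obj i))
    (x x' : Points c.pt)
    (h : ∀ i, Points.map (c.π.app i) x = Points.map (c.π.app i) x') : x = x' := by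
  choose p hp hm hq using fun i => hdec i (Points.map (c.π.app i) x)
  have hcompat : ∀ {i j : I} (φ : i ⟶ j),
      Points.map (D.map φ) (Points.mk (p i)) = Points.mk (p j) := by
    intro i j φ
    rw [hp i, hp j, ← Points.map_comp, c.w]
  let Z := ptSys D hD p hm hcompat
  let τ := ptNat D hD p hm hcompat
  have hZa : ∀ i, IsAffine (Z.obj i).left := fun i =>
    inferInstanceAs (IsAffine (Spec (CommRingCat.of (p i).K)))
  have hZs : ∀ i, Subsingleton (Z.obj i).left := fun i =>
    inferInstanceAs (Subsingleton (Spec (CommRingCat.of (p i).K)))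
  have hsub : Subsingleton (Points (limit.cone (Z ⋙ yon S)).pt) :=
    subsingleton_points_limit Z hZa hZs _ (limit.isLimit _)
  let g : (limit.cone (Z ⋙ yon S)).pt ⟶ c.pt :=
    hc.lift ⟨_, (limit.cone (Z ⋙ yon S)).π ≫ τ⟩
  have hg : ∀ i, g ≫ c.π.app i = limit.π (Z ⋙ yon S) i ≫ (p i).toHom := fun i => hc.fac _ i
  -- every point with the same images comes from the limit of the residue fields
  have key : ∀ y : Points c.pt, (∀ i, Points.map (c.π.app i) y = Points.map (c.π.app i) x) →
      ∃ ω : Points (limit.cone (Z ⋙ yon S)).pt, Points.map g ω = y := by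
    intro y hy
    induction y using Points.ind with
    | h q =>
      have hex : ∀ i, ∃! a : q.pt ⟶ (p i).pt,
          (yon S).map a ≫ (p i).toHom = q.toHom ≫ c.π.app i := by
        intro i
        have := hm i
        have h1 := Groth.Agent.S10215.result ⟨D.obj i, hD i⟩ (p i) (q.map (c.π.app i))
          (by rw [hp i, ← hy i]; rfl)
        rw [FieldPt.toHom_map] at h1
        exact h1
      choose a ha hau using hex
      have hnat : ∀ {i j : I} (φ : i ⟶ j), a i ≫ ptTr D hD p hm hcompat φ = a j := by
        intro i j φ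
        apply hau j
        change (yon S).map (a i ≫ ptTr D hD p hm hcompat φ) ≫ (p j).toHom = q.toHom ≫ c.π.app j
        rw [(yon S).map_comp, Category.assoc, ptTr_spec D hD p hm hcompat φ, ← Category.assoc]
        have h3 : (yon S).map (a i) ≫ (p i).toHom = q.toHom ≫ c.π.app i := ha i
        rw [h3, Category.assoc, c.w]
      let ℓ : (yon S).obj q.pt ⟶ (limit.cone (Z ⋙ yon S)).pt :=
        limit.lift (Z ⋙ yon S) ⟨(yon S).obj q.pt,
          { app := fun i => (yon S).map (a i)
            naturality := fun i j φ => by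
              change 𝟙 _ ≫ (yon S).map (a j) =
                (yon S).map (a i) ≫ (yon S).map (ptTr D hD p hm hcompat φ)
              rw [Category.id_comp, ← (yon S).map_comp, hnat] }⟩
      have hℓ : ∀ i, ℓ ≫ limit.π (Z ⋙ yon S) i = (yon S).map (a i) := fun i =>
        limit.lift_π _ i
      have hℓg : ℓ ≫ g = q.toHom := by
        apply hc.hom_ext
        intro i
        have h3 : (yon S).map (a i) ≫ (p i).toHom = q.toHom ≫ c.π.app i := ha i
        rw [Category.assoc, hg, ← Category.assoc, hℓ]
        exact h3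
      refine ⟨Points.ofPt ℓ (IsLocalRing.closedPoint q.K), ?_⟩
      rw [Points.map_ofPt, hℓg]
      exact Points.ofPt_toHom q _
  obtain ⟨ω, hω⟩ := key x (fun i => rfl)
  obtain ⟨ω', hω'⟩ := key x' (fun i => (h i).symm)
  rw [← hω, ← hω', Subsingleton.elim ω ω']

end Main

end Groth.Agent.Lib.Helper14.AS
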