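import Groth.Prelude.Def_AlgSp4
import Groth.Prelude.Def_AlgSpRep
import Groth.Agent.Lib.Helper14.AlgSpBase
import Mathlib.AlgebraicGeometry.Morphisms.UniversallyOpen
universe u
open CategoryTheory CategoryTheory.Limits AlgebraicGeometry Opposite
namespace Groth.Agent.Lib.Helper14.AS
variable {S : Scheme.{u}}
open AlgSp

/-- a standard fppf covering: finitely many affine schemes, flat and locally of finite
presentation over the target, jointly surjective -/
structure StdCov (T : Over S) where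
  ι : Type u
  fin : Finite ι
  W : ι → Over S
  w : ∀ m, W m ⟶ T
  aff : ∀ m, IsAffine (W m).left
  flat : ∀ m, Flat (w m).left
  lfp : ∀ m, LocallyOfFinitePresentation (w m).left
  surj : ∀ t : T.left, ∃ m, t ∈ Set.range (w m).left

namespace StdCov

variable {T : Over S}

theorem ofArrows_mem_KS (𝒲 : StdCov T) : Presieve.ofArrows 𝒲.W 𝒲.w ∈ KS S T := by
  rw [Precoverage.mem_comap_iff, Presieve.map_ofArrows]
  change Presieve.ofArrows _ _ ∈ Scheme.precoverage _ _
  rw [Scheme.ofArrows_mem_precoverage_iff]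
  exact ⟨𝒲.surj, fun m => ⟨𝒲.flat m, 𝒲.lfp m⟩⟩

theorem generate_mem_J (𝒲 : StdCov T) :
    Sieve.generate (Presieve.ofArrows 𝒲.W 𝒲.w) ∈ AlgSp.J S T := by
  rw [J_eq_toGrothendieck]
  exact Precoverage.generate_mem_toGrothendieck 𝒲.ofArrows_mem_KS

end StdCov

set_option backward.isDefEq.respectTransparency.types false in
/-- a covering sieve of an affine scheme contains a standard covering -/
theorem exists_stdCov_of_mem_J {T : Over S} (hT : IsAffine T.left) (R : Sieve T)
    (hR : R ∈ AlgSp.J S T) : ∃ 𝒲 : StdCov T, ∀ m, R (𝒲.w m) := by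
  obtain ⟨R', hR', hle⟩ := (mem_J_iff R).1 hR
  rw [Precoverage.mem_comap_iff] at hR'
  obtain ⟨hjs, hP⟩ := hR'
  rw [Presieve.mem_comap_jointlySurjectivePrecoverage_iff] at hjs
  have hpt : ∀ t : T.left, ∃ (Y : Over S) (g : Y ⟶ T) (y : Y.left), R' g ∧ g.left y = t := by
    intro t
    obtain ⟨-, -, ⟨hf⟩, y, hy⟩ := hjs t
    exact ⟨_, _, y, hf, hy⟩
  choose Y g y hg hy using hpt
  have hfl : ∀ t, Flat (g t).left := fun t => (hP (Presieve.map.of (hg t))).1
  have hlfp : ∀ t, LocallyOfFinitePresentation (g t).left := fun t =>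
    (hP (Presieve.map.of (hg t))).2
  have hO : ∀ t : T.left, ∃ O : (Y t).left.Opens, IsAffineOpen O ∧ y t ∈ O := by
    intro t
    obtain ⟨O, hO, hy, -⟩ := exists_isAffineOpen_mem_and_subset (x := y t) (U := ⊤) trivial
    exact ⟨O, hO, hy⟩
  choose O hOa hyO using hO
  have hopen : ∀ t, IsOpen ((g t).left '' (O t : Set (Y t).left)) := fun t =>
    (g t).left.isOpenMap _ (O t).isOpen
  have hcov : (Set.univ : Set T.left) ⊆ ⋃ t, (g t).left '' (O t : Set (Y t).left) := by
    intro t _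
    exact Set.mem_iUnion.2 ⟨t, y t, hyO t, hy t⟩
  obtain ⟨s, hs⟩ := isCompact_univ.elim_finite_subcover _ hopen hcov
  let e : ∀ t : T.left, Over.mk ((O t).ι ≫ (Y t).hom) ⟶ Y t := fun t => Over.homMk (O t).ι rfl
  refine ⟨⟨↥s, inferInstance, fun m => Over.mk ((O m.1).ι ≫ (Y m.1).hom),
    fun m => e m.1 ≫ g m.1, fun m => hOa m.1, fun m => ?_, fun m => ?_, ?_⟩, fun m => ?_⟩
  · have := hfl m.1
    change Flat ((O m.1).ι ≫ (g m.1).left)
    infer_instance
  · have := hlfp m.1
    change LocallyOfFinitePresentation ((O m.1).ι ≫ (g m.1).left)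
    infer_instance
  · intro t
    have := hs (Set.mem_univ t)
    simp only [Set.mem_iUnion] at this
    obtain ⟨t', ht', z, hz, rfl⟩ := this
    refine ⟨⟨t', ht'⟩, ⟨z, hz⟩, ?_⟩
    change ((O t').ι ≫ (g t').left) ⟨z, hz⟩ = _
    simp
  · exact R.downward_closed (hle _ _ (hg m.1)) _

namespace StdCov

variable {T : Over S}

theorem isSheafFor (𝒲 : StdCov T) {F : PSp S} (hF : Presheaf.IsSheaf (AlgSp.J S) F) :
    (Presieve.ofArrows 𝒲.W 𝒲.w).IsSheafFor F := by
  rw [Presieve.isSheafFor_iff_generate]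
  exact ((isSheaf_iff_isSheaf_of_type _ _).1 hF) _ 𝒲.generate_mem_J

/-- sections of a sheaf are determined by their restrictions to a standard covering -/
theorem ext_of_isSheaf (𝒲 : StdCov T) {F : PSp S} (hF : Presheaf.IsSheaf (AlgSp.J S) F)
    {s s' : F.obj (op T)} (h : ∀ m, F.map (𝒲.w m).op s = F.map (𝒲.w m).op s') : s = s' := by
  have hs := (Presieve.isSheafFor_arrows_iff F 𝒲.w).1 (𝒲.isSheafFor hF)
    (fun m => F.map (𝒲.w m).op s) (fun i j Z gi gj hij => by
      rw [← Functor.map_comp_apply, ← Functor.map_comp_apply, ← op_comp, ← op_comp, hij])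
  obtain ⟨t, -, ht⟩ := hs
  rw [ht s (fun _ => rfl), ht s' (fun m => (h m).symm)]

/-- gluing of sections of a sheaf along a standard covering -/
theorem exists_glue (𝒲 : StdCov T) {F : PSp S} (hF : Presheaf.IsSheaf (AlgSp.J S) F)
    (x : ∀ m, F.obj (op (𝒲.W m))) (Z : 𝒲.ι → 𝒲.ι → Over S) (a : ∀ m n, Z m n ⟶ 𝒲.W m)
    (b : ∀ m n, Z m n ⟶ 𝒲.W n) (sq : ∀ m n, IsPullback (a m n) (b m n) (𝒲.w m) (𝒲.w n))
    (hx : ∀ m n, F.map (a m n).op (x m) = F.map (b m n).op (x n)) :
    ∃ s : F.obj (op T), ∀ m, F.map (𝒲.w m).op s = x m := by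
  have hs := (Presieve.isSheafFor_arrows_iff F 𝒲.w).1 (𝒲.isSheafFor hF) x
    (fun i j Z' gi gj hij => by
      obtain ⟨l, hl⟩ : ∃ l : Z' ⟶ Z i j, l = (sq i j).lift gi gj hij := ⟨_, rfl⟩
      have e1 : l ≫ a i j = gi := by rw [hl]; exact (sq i j).lift_fst _ _ _
      have e2 : l ≫ b i j = gj := by rw [hl]; exact (sq i j).lift_snd _ _ _
      rw [← e1, ← e2, op_comp, op_comp, Functor.map_comp_apply, Functor.map_comp_apply, hx])
  obtain ⟨t, ht, -⟩ := hs
  exact ⟨t, ht⟩

set_option backward.isDefEq.respectTransparency.types false in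
/-- base change of a standard covering -/
noncomputable def ofIsPullback (𝒲 : StdCov T) {T' : Over S} (hT' : IsAffine T'.left) (g : T' ⟶ T)
    (hT : IsAffine T.left)
    (W' : 𝒲.ι → Over S) (w' : ∀ m, W' m ⟶ T') (p : ∀ m, W' m ⟶ 𝒲.W m)
    (sq : ∀ m, IsPullback (p m) (w' m) (𝒲.w m) g) : StdCov T' where
  ι := 𝒲.ι
  fin := 𝒲.fin
  W := W'
  w := w'
  aff m := by
    have sq' : IsPullback (p m).left (w' m).left (𝒲.w m).left g.left :=
      (sq m).map (Over.forget S)
    have := 𝒲.aff m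
    have h1 : IsAffine (pullback (𝒲.w m).left g.left) := inferInstance
    exact .of_isIso sq'.isoPullback.hom
  flat m := by
    have sq' : IsPullback (p m).left (w' m).left (𝒲.w m).left g.left :=
      (sq m).map (Over.forget S)
    exact MorphismProperty.of_isPullback (P := @Flat) sq' (𝒲.flat m)
  lfp m := by
    have sq' : IsPullback (p m).left (w' m).left (𝒲.w m).left g.left :=
      (sq m).map (Over.forget S)
    exact MorphismProperty.of_isPullback (P := @LocallyOfFinitePresentation) sq' (𝒲.lfp m)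
  surj t' := by
    obtain ⟨m, y, hy⟩ := 𝒲.surj (g.left t')
    have sq' : IsPullback (p m).left (w' m).left (𝒲.w m).left g.left :=
      (sq m).map (Over.forget S)
    obtain ⟨z, hz1, hz2⟩ := Scheme.Pullback.exists_preimage_pullback (f := (𝒲.w m).left)
      (g := g.left) y t' hy
    refine ⟨m, sq'.isoPullback.inv z, ?_⟩
    have e1 : sq'.isoPullback.inv ≫ (w' m).left = pullback.snd _ _ := sq'.isoPullback_inv_snd
    rw [← Scheme.Hom.comp_apply, e1]
    exact hz2

end StdCov

end Groth.Agent.Lib.Helper14.AS
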