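import Groth.Prelude.Def_AlgSp4
import Groth.Agent.Lib.Helper14.StdCov
import Groth.Agent.Lib.Helper14.LimLP
import Groth.Agent.Lib.Helper14.LimZ
universe u
open CategoryTheory CategoryTheory.Limits AlgebraicGeometry Opposite
namespace Groth.Agent.Lib.Helper14.AS
variable {S : Scheme.{u}}
open AlgSp

variable {I : Type u} [SmallCategory I]

/-- base change of an affine system (and of its limit) along a morphism from an affine scheme
to a stage -/
structure AffChart (D : I ⥤ Over S) (c : Cone D) (i : I) {W : Over S} (w : W ⟶ D.obj i) where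
  G : Over i ⥤ Over S
  p : ∀ k : Over i, G.obj k ⟶ D.obj k.left
  ι : ∀ k, G.obj k ⟶ W
  sq : ∀ k, IsPullback (p k) (ι k) (D.map k.hom) w
  map_ι : ∀ {k k' : Over i} (h : k ⟶ k'), G.map h ≫ ι k' = ι k
  map_p : ∀ {k k' : Over i} (h : k ⟶ k'), G.map h ≫ p k' = p k ≫ D.map h.left
  cG : Cone G
  hcG : IsLimit cG
  a : cG.pt ⟶ c.pt
  b : cG.pt ⟶ W
  isPullback : IsPullback a b (c.π.app i) w
  π_ι : ∀ k, cG.π.app k ≫ ι k = b
  a_π : ∀ k : Over i, a ≫ c.π.app k.left = cG.π.app k ≫ p k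
  aff : ∀ k, IsAffine (G.obj k).left
  affc : IsAffine cG.pt.left

variable [IsCofiltered I]

set_option backward.isDefEq.respectTransparency.types false in
theorem exists_affChart (D : I ⥤ Over S) (c : Cone D)
    (hc : IsLimit ((Over.forget S).mapCone c)) (hD : ∀ i, IsAffine (D.obj i).left) (i : I)
    {W : Over S} (hW : IsAffine W.left) (w : W ⟶ D.obj i) : Nonempty (AffChart D c i w) := by
  have hconn : IsConnected I := IsCofiltered.isConnected _
  have hc₀' : IsLimit c := isLimitOfReflects (Over.forget S) hc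
  have hcY : IsLimit ((yon S).mapCone c) := isLimitOfPreserves (yon S) hc₀'
  have hDa : ∀ (i j : I) (φ : i ⟶ j), IsAffineMor ((D ⋙ yon S).map φ) := fun i j φ => by
    have := hD i
    have := hD j
    exact isAffineMor_yon_map_of_isAffine (D.map φ)
  obtain ⟨cs, haff, haffc⟩ := exists_chartSystem (D ⋙ yon S) hDa ((yon S).mapCone c) hcY i hW
    ((yon S).map w)
  have hp : ∀ k : Over i, ∃ p : cs.G.obj k ⟶ D.obj k.left, (yon S).map p = cs.fst k := fun k =>
    (yon S).map_surjective _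
  choose p hp using hp
  obtain ⟨a, ha⟩ : ∃ a : cs.cG.pt ⟶ c.pt, (yon S).map a = cs.a := (yon S).map_surjective _
  refine ⟨{
    G := cs.G
    p := p
    ι := cs.ι
    sq := fun k => ?_
    map_ι := fun h => cs.map_ι h
    map_p := fun {k k'} h => ?_
    cG := cs.cG
    hcG := cs.hcG
    a := a
    b := cs.b
    isPullback := ?_
    π_ι := cs.π_ι
    a_π := fun k => ?_
    aff := haff
    affc := haffc }⟩
  · apply IsPullback.of_map_of_faithful (yon S)
    rw [hp]
    exact cs.sq k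
  · apply (yon S).map_injective
    rw [(yon S).map_comp, (yon S).map_comp, hp, hp]
    exact cs.map_fst h
  · apply IsPullback.of_map_of_faithful (yon S)
    rw [ha]
    exact cs.isPullback
  · apply (yon S).map_injective
    rw [(yon S).map_comp, (yon S).map_comp, hp, ha]
    exact cs.a_π k

set_option backward.isDefEq.respectTransparency.types false in
/-- a morphism of charts induces a morphism of base-changed systems -/
theorem exists_affChart_hom {D : I ⥤ Over S} {c : Cone D}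
    (hc : IsLimit ((Over.forget S).mapCone c)) {i : I} {W W' : Over S} {w : W ⟶ D.obj i}
    {w' : W' ⟶ D.obj i} (ch : AffChart D c i w) (ch' : AffChart D c i w') (σ : W' ⟶ W)
    (hσ : σ ≫ w = w') :
    ∃ (m : ∀ k, ch'.G.obj k ⟶ ch.G.obj k) (mInf : ch'.cG.pt ⟶ ch.cG.pt),
      (∀ k, m k ≫ ch.p k = ch'.p k) ∧ (∀ k, m k ≫ ch.ι k = ch'.ι k ≫ σ) ∧
      (∀ {k k' : Over i} (h : k ⟶ k'), ch'.G.map h ≫ m k' = m k ≫ ch.G.map h) ∧
      mInf ≫ ch.a = ch'.a ∧ mInf ≫ ch.b = ch'.b ≫ σ ∧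
      (∀ k, mInf ≫ ch.cG.π.app k = ch'.cG.π.app k ≫ m k) := by
  have hconn : IsConnected I := IsCofiltered.isConnected _
  have hc₀ : IsLimit c := isLimitOfReflects (Over.forget S) hc
  let m : ∀ k, ch'.G.obj k ⟶ ch.G.obj k := fun k =>
    (ch.sq k).lift (ch'.p k) (ch'.ι k ≫ σ) (by rw [(ch'.sq k).w, Category.assoc, hσ])
  have hm1 : ∀ k, m k ≫ ch.p k = ch'.p k := fun k => (ch.sq k).lift_fst _ _ _
  have hm2 : ∀ k, m k ≫ ch.ι k = ch'.ι k ≫ σ := fun k => (ch.sq k).lift_snd _ _ _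
  have hnat : ∀ {k k' : Over i} (h : k ⟶ k'), ch'.G.map h ≫ m k' = m k ≫ ch.G.map h := by
    intro k k' h
    apply (ch.sq k').hom_ext
    · rw [Category.assoc, hm1, ch'.map_p, Category.assoc, ch.map_p, ← Category.assoc, hm1]
    · rw [Category.assoc, hm2, ← Category.assoc, ch'.map_ι, Category.assoc, ch.map_ι, hm2]
  let mInf : ch'.cG.pt ⟶ ch.cG.pt := ch.hcG.lift ⟨ch'.cG.pt,
    { app := fun k => ch'.cG.π.app k ≫ m k
      naturality := fun k k' h => by
        change 𝟙 _ ≫ ch'.cG.π.app k' ≫ m k' = (ch'.cG.π.app k ≫ m k) ≫ ch.G.map h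
        rw [Category.id_comp, Category.assoc, ← hnat h, ← Category.assoc, ch'.cG.w] }⟩
  have hmInf : ∀ k, mInf ≫ ch.cG.π.app k = ch'.cG.π.app k ≫ m k := fun k => ch.hcG.fac _ k
  have hc' : IsLimit (c.whisker (Over.forget i)) :=
    (Functor.Initial.isLimitWhiskerEquiv (Over.forget i) c).symm hc₀
  have ha : mInf ≫ ch.a = ch'.a := by
    apply hc'.hom_ext
    intro k
    change (mInf ≫ ch.a) ≫ c.π.app k.left = ch'.a ≫ c.π.app k.left
    rw [Category.assoc, ch.a_π, ch'.a_π, ← Category.assoc, hmInf, Category.assoc, hm1]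
  have hb : mInf ≫ ch.b = ch'.b ≫ σ := by
    obtain ⟨k⟩ : Nonempty (Over i) := ⟨Over.mk (𝟙 i)⟩
    rw [← ch.π_ι k, ← Category.assoc, hmInf, Category.assoc, hm2, ← Category.assoc, ch'.π_ι]
  exact ⟨m, mInf, hm1, hm2, hnat, ha, hb, hmInf⟩

end Groth.Agent.Lib.Helper14.AS
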