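import Mathlib
import Groth.Agent.Lib.Helper14.AlgSpProper

/-!
# Cancellation of cartesian squares along surjective etale morphisms (helper14)
-/

universe u
open CategoryTheory CategoryTheory.Limits AlgebraicGeometry Opposite Topology

namespace Groth.Agent.Lib.Helper14.AS

open AlgSp

variable {S : Scheme.{u}}

set_option backward.isDefEq.respectTransparency.types false in
/-- If the left square and the outer rectangle are cartesian and `bd` is surjective etale,
the right square is cartesian. -/
theorem isPullback_of_isPullback_comp_of_surjective_etale {A B C D E F : Sp S}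
    (hA : IsAlgSpace A) (hB : IsAlgSpace B) (hC : IsAlgSpace C) (hD : IsAlgSpace D)
    (hE : IsAlgSpace E) (hF : IsAlgSpace F)
    (ac : A ⟶ C) (ab : A ⟶ B) (cd : C ⟶ D) (bd : B ⟶ D) (ce : C ⟶ E) (df : D ⟶ F) (ef : E ⟶ F)
    (hl : IsPullback ac ab cd bd) (hcomm : cd ≫ df = ce ≫ ef)
    (hout : IsPullback (ac ≫ ce) ab ef (bd ≫ df)) (hsurj : IsSurjectiveMor bd)
    (het : IsEtaleMor bd) : IsPullback ce cd ef df := by
  have sqP := IsPullback.of_hasPullback ef df
  have hP : IsAlgSpace (pullback ef df) :=
    isAlgSpace_of_isPullback (repDiag_of_isAlgSpace hF) hE hD sqP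
  let k : C ⟶ pullback ef df := pullback.lift ce cd hcomm.symm
  have hk1 : k ≫ pullback.fst ef df = ce := pullback.lift_fst _ _ _
  have hk2 : k ≫ pullback.snd ef df = cd := pullback.lift_snd _ _ _
  let g : A ⟶ pullback ef df := pullback.lift (ac ≫ ce) (ab ≫ bd) hout.w
  have hg1 : g ≫ pullback.fst ef df = ac ≫ ce := pullback.lift_fst _ _ _
  have hg2 : g ≫ pullback.snd ef df = ab ≫ bd := pullback.lift_snd _ _ _
  -- `g` is the base change of `bd`
  have sqg : IsPullback g ab (pullback.snd ef df) bd := by
    refine IsPullback.of_right ?_ hg2 sqP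
    rw [hg1]
    exact hout
  have hge : IsEtaleMor g := isEtaleMor_of_isPullback hB hD hP sqg.flip het
  have hgs : IsSurjectiveMor g := isSurjectiveMor_of_isPullback sqg.flip hsurj
  have hcov : IsFpqcCover (fun _ : PUnit.{u+1} => A) (fun _ => g) :=
    isFpqcCover_of_isEtCover hP _ _ (fun _ => hA)
      ⟨fun _ => hge, fun x => ⟨PUnit.unit, hgs x⟩⟩
  have hack : ac ≫ k = g := by
    apply pullback.hom_ext
    · rw [Category.assoc, hk1, hg1]
    · rw [Category.assoc, hk2, hg2, hl.w]
  have sqtop : IsPullback ac (𝟙 A) k g := by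
    refine IsPullback.of_bot ?_ (by rw [hack, Category.id_comp]) sqg
    rw [Category.id_comp, hk2]
    exact hl
  have hiso : IsIso k :=
    (isLocalOnBase_fpqc_isomorphisms _ _ hP (fun _ => hA) hcov k hC (fun _ => A) (fun _ => 𝟙 A)
      (fun _ => ac) (fun _ => hA) (fun _ => sqtop)).2
      (fun _ => MorphismProperty.isomorphisms.infer_property _)
  exact IsPullback.of_iso_pullback ⟨hcomm.symm⟩ (asIso k) hk1 hk2

end Groth.Agent.Lib.Helper14.AS
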