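import Groth.Agent.Lib.Helper14.AlgSpDecent2
import Groth.Agent.Lib.Helper14.AlgSpPoints2
import Groth.Agent.Lib.Helper14.AlgSpQC
import Groth.Prelude.Def_W4decUnivBdd

open CategoryTheory CategoryTheory.Limits AlgebraicGeometry Opposite AlgSp
open CategoryTheory.Functor Groth.Agent.Lib.Helper14.AS

universe u

noncomputable section

namespace Groth.Agent.Lib.Helper14.AS

variable {S : Scheme.{u}}

set_option backward.isDefEq.respectTransparency.types false in
/-- A morphism all of whose base changes to affine schemes have decent source is decent. -/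
theorem isDecentMor_of_affine_base_changes {X Y : Sp S} (hX : IsAlgSpace X) (hY : IsAlgSpace Y)
    (f : X ⟶ Y)
    (h : ∀ (Z : Over S) (g : (yon S).obj Z ⟶ Y) (P : Sp S) (fst : P ⟶ X)
      (snd : P ⟶ (yon S).obj Z), IsAffine Z.left → IsPullback fst snd f g → IsDecent P) :
    IsDecentMor f := by
  intro T F' g fst snd sq
  have hF' : IsAlgSpace F' :=
    isAlgSpace_of_isPullback (repDiag_of_isAlgSpace hY) hX (IsAlgSpace.yon_obj T) sq
  let I : Type u := T.left.affineOpens
  let Z : I → Over S := fun N => Over.mk (N.1.ι ≫ T.hom)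
  let ιN : ∀ N : I, Z N ⟶ T := fun N => Over.homMk N.1.ι rfl
  let P : I → Sp S := fun N => pullback snd ((yon S).map (ιN N))
  let j : ∀ N : I, P N ⟶ F' := fun N => pullback.fst snd ((yon S).map (ιN N))
  have sqN : ∀ N : I, IsPullback (j N) (pullback.snd snd ((yon S).map (ιN N))) snd
      ((yon S).map (ιN N)) := fun N => IsPullback.of_hasPullback _ _
  have hP : ∀ N, IsAlgSpace (P N) := fun N =>
    isAlgSpace_of_isPullback (repDiag_of_isAlgSpace (IsAlgSpace.yon_obj T)) hF'
      (IsAlgSpace.yon_obj _) (sqN N)
  have hPd : ∀ N, IsDecent (P N) := fun N =>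
    h (Z N) ((yon S).map (ιN N) ≫ g) (P N) (j N ≫ fst) _ N.2 ((sqN N).paste_horiz sq)
  refine isDecent_of_isZarCover hF' P hP j ⟨fun N => ?_, fun z => ?_⟩ hPd
  · have hoi : RepWith @IsOpenImmersion ((yon S).map (ιN N)) :=
      (repWith_yon_map_iff _ _).2 (inferInstance : IsOpenImmersion N.1.ι)
    exact repWith_of_isPullback _ (sqN N).flip hoi
  · obtain ⟨t, ht⟩ := (Points.schemeHomeo T).surjective (Points.map snd z)
    obtain ⟨N, hN, htN, -⟩ := exists_isAffineOpen_mem_and_subset (x := t) (U := ⊤) trivial
    have e : Points.map snd z = Points.map ((yon S).map (ιN ⟨N, hN⟩))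
        (Points.schemeHomeo (Z ⟨N, hN⟩) ⟨t, htN⟩) := by
      rw [Points.map_yon_map_apply, ← ht]
      rfl
    obtain ⟨w, hw, -⟩ := points_exists_of_isPullback (sqN ⟨N, hN⟩) z _ e
    exact ⟨⟨N, hN⟩, w, hw⟩


/-- The restriction of a morphism over `S` to an open of the target, as a pullback square. -/
theorem isPullback_openSub {W U : Over S} (f : W ⟶ U) (N : U.left.Opens) :
    IsPullback (Over.homMk (U := openSub W (f.left ⁻¹ᵁ N)) (V := openSub U N) (f.left ∣_ N)
        (by
          change (f.left ∣_ N) ≫ N.ι ≫ U.hom = (f.left ⁻¹ᵁ N).ι ≫ W.hom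
          rw [← Category.assoc, morphismRestrict_ι, Category.assoc, Over.w]))
      (openSubι W (f.left ⁻¹ᵁ N)) (openSubι U N) f := by
  apply IsPullback.of_map (Over.forget S)
  · ext1
    exact morphismRestrict_ι f.left N
  · exact isPullback_morphismRestrict f.left N


set_option backward.isDefEq.respectTransparency.types false in
/-- A field point whose pullbacks to all affine etale charts are quasi-compact is
quasi-compact. -/
theorem repWith_quasiCompact_of_compact_charts {X : Sp S} (hX : IsAlgSpace X) (q : FieldPt X)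
    (H : ∀ (V : Over S) (b : (yon S).obj V ⟶ X), IsAffine V.left → RepWith @Etale b →
      ∀ (T : Over S) (c : T ⟶ q.pt) (snd : (yon S).obj T ⟶ (yon S).obj V),
        IsPullback ((yon S).map c) snd q.toHom b → CompactSpace ↥T.left) :
    RepWith @QuasiCompact q.toHom := by
  obtain ⟨U₀, a₀, hae, has⟩ := hX.atlas
  have hrep : Representable q.toHom := repDiag_of_isAlgSpace hX _
  have sq := hae.rep.isPullback' q.toHom
  have hls : Sheaf.IsLocallySurjective a₀ :=
    isLocallySurjective_of_repWith a₀ (repWith_mono etale_le_flat hae)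
      (repWith_mono etale_le_lfp hae) has
  rw [repWith_iff_of_chart hrep a₀ sq.flip @QuasiCompact, quasiCompact_iff_forall_isAffineOpen]
  intro N hN
  have sqN := (isPullback_openSub (hae.rep.fst' q.toHom) N).map (yon S)
  have big := sqN.flip.paste_horiz sq.flip
  rw [← Functor.map_comp] at big
  have := H (openSub U₀ N) _ hN (repWith_etale_restrict hae N) _ _ _ big
  exact isCompact_iff_compactSpace.2 this

set_option backward.isDefEq.respectTransparency.types false in
/-- If all affine etale charts have universally bounded fibres, the space is decent. -/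
theorem isDecent_of_hasUnivBddFibres {X : Sp S} (hX : IsAlgSpace X)
    (h : ∀ (U : Over S) (φ : (yon S).obj U ⟶ X), IsAffine U.left → RepWith @Etale φ →
      W4dec.HasUnivBddFibres φ) : IsDecent X := by
  intro x
  induction x using Points.ind with
  | h q =>
  refine exists_mono_qc_point_of_qc hX q (repWith_quasiCompact_of_compact_charts hX q ?_)
  intro V b hV hb T c snd sqT
  obtain ⟨n, hn⟩ := h V b hV hb
  obtain ⟨hfin, -⟩ := hn q T c snd sqT
  have hfinK : Finite ↥(Over.mk q.str).left :=
    inferInstanceAs (Finite ↥(Spec (CommRingCat.of q.K)))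
  have : Finite ↥T.left := finite_carrier_of_isFinite c.left
  exact Finite.compactSpace

end Groth.Agent.Lib.Helper14.AS
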