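import Groth.Agent.Lib.Helper14.AlgSpLfpDiag

/-!
# A chart of the diagonal (helper14)
-/

universe u
open CategoryTheory CategoryTheory.Limits AlgebraicGeometry Opposite Topology

namespace Groth.Agent.Lib.Helper14.AS

open AlgSp Groth.Agent.Lib.Helper14.AS

variable {S : Scheme.{u}}

set_option backward.isDefEq.respectTransparency.types false in
/-- Given a chart `b : V ⟶ Y`, there is a chart diagram `a : U ⟶ X`, `h : U ⟶ V` and schemes
`R1 = U ×_X U`, `R2 = U ×_Y U` with `μ : R1 ⟶ R2` a base change of the diagonal of `f` along an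
etale surjective `q : R2 ⟶ X ×_Y X`. -/
theorem exists_diagonal_chart {X Y : Sp S} (hX : IsAlgSpace X) (hY : IsAlgSpace Y) (f : X ⟶ Y)
    {V : Over S} (b : (yon S).obj V ⟶ Y) (hbe : RepWith @Etale b) (hbs : RepWith @Surjective b) :
    ∃ (U R1 R2 : Over S) (a : (yon S).obj U ⟶ X) (h : U ⟶ V) (p1' p2' : R1 ⟶ U)
      (p1 p2 : R2 ⟶ U) (μ : R1 ⟶ R2) (q : (yon S).obj R2 ⟶ pullback f f)
      (t : (yon S).obj R1 ⟶ X),
      RepWith @Etale a ∧ RepWith @Surjective a ∧ a ≫ f = (yon S).map h ≫ b ∧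
      IsPullback ((yon S).map p1') ((yon S).map p2') a a ∧
      IsPullback ((yon S).map p1) ((yon S).map p2) (a ≫ f) (a ≫ f) ∧
      μ ≫ p1 = p1' ∧ μ ≫ p2 = p2' ∧
      q ≫ pullback.fst f f = (yon S).map p1 ≫ a ∧ q ≫ pullback.snd f f = (yon S).map p2 ≫ a ∧
      RepWith @Etale q ∧ RepWith @Surjective q ∧
      IsPullback t ((yon S).map μ) (pullback.diagonal f) q ∧
      (LocallyOfFiniteType h.left → LocallyOfFiniteType p2.left) := by
  obtain ⟨U, a, h, hae, has, comm⟩ := exists_chart_diagram hX f b hbe hbs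
  have sq1 := hae.rep.isPullback a
  obtain ⟨p1', hp1'⟩ := (yon S).map_surjective (hae.rep.fst a)
  rw [← hp1'] at sq1
  have rep2 : Representable (a ≫ f) := repDiag_of_isAlgSpace hY (a ≫ f)
  have sq2 := rep2.isPullback (a ≫ f)
  obtain ⟨p1, hp1⟩ := (yon S).map_surjective (rep2.fst (a ≫ f))
  rw [← hp1] at sq2
  have hc : (yon S).map p1' ≫ a ≫ f = (yon S).map (hae.rep.snd a) ≫ a ≫ f := by
    rw [← Category.assoc, sq1.w, Category.assoc]
  obtain ⟨μ, hμ⟩ := (yon S).map_surjective (sq2.lift _ _ hc)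
  have hμ1 : (yon S).map μ ≫ (yon S).map p1 = (yon S).map p1' := by rw [hμ, sq2.lift_fst]
  have hμ2 : (yon S).map μ ≫ (yon S).map (rep2.snd (a ≫ f)) = (yon S).map (hae.rep.snd a) := by
    rw [hμ, sq2.lift_snd]
  have hq0e := repWith_fibreSquare_map @Etale hae f
  have hq0s := repWith_fibreSquare_map @Surjective has f
  have big := pullback_map_diagonal_isPullback a a f
  have key : IsPullback (sq1.isoPullback.hom ≫ pullback.fst a a ≫ a) ((yon S).map μ)
      (pullback.diagonal f)
      (sq2.isoPullback.hom ≫ pullback.map (a ≫ f) (a ≫ f) f f a a (𝟙 Y) (by simp) (by simp)) := by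
    refine IsPullback.of_iso big sq1.isoPullback.symm (Iso.refl _) sq2.isoPullback.symm (Iso.refl _)
      (by simp) ?_ (by simp) (by simp)
    rw [Iso.symm_hom, Iso.symm_hom, Iso.eq_inv_comp, ← Category.assoc, Iso.comp_inv_eq]
    apply pullback.hom_ext
    · rw [Category.assoc, Category.assoc, pullback.lift_fst, IsPullback.isoPullback_hom_fst,
        IsPullback.isoPullback_hom_fst_assoc, Category.comp_id, hμ1]
    · rw [Category.assoc, Category.assoc, pullback.lift_snd, IsPullback.isoPullback_hom_snd,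
        IsPullback.isoPullback_hom_snd_assoc, Category.comp_id, hμ2]
  refine ⟨U, _, _, a, h, p1', hae.rep.snd a, p1, rep2.snd (a ≫ f), μ, _, _, hae, has, comm, sq1, sq2,
    ?_, ?_, ?_, ?_, (MorphismProperty.cancel_left_of_respectsIso (RepWith @Etale) _ _).2 hq0e,
    (MorphismProperty.cancel_left_of_respectsIso (RepWith @Surjective) _ _).2 hq0s, key, ?_⟩
  · apply (yon S).map_injective
    rw [Functor.map_comp, hμ1]
  · apply (yon S).map_injective
    rw [Functor.map_comp, hμ2]
  · rw [Category.assoc, pullback.lift_fst, IsPullback.isoPullback_hom_fst_assoc]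
  · rw [Category.assoc, pullback.lift_snd, IsPullback.isoPullback_hom_snd_assoc]
  · intro hh
    exact lft_snd_fibreSquare b hbe (a ≫ f) h comm hh sq2

end Groth.Agent.Lib.Helper14.AS
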