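import Groth.Prelude.Def_AlgSpMor5
import Groth.Agent.Lib.Helper14.AlgSpProper
import Groth.Agent.Lib.Helper14.AlgSpClosed
import Groth.Agent.Lib.Helper14.AlgSpDiagChart
import Groth.Agent.Lib.Helper21.VE2

set_option autoImplicit false
universe u
open CategoryTheory CategoryTheory.Limits AlgebraicGeometry
open AlgSp Groth.Agent.Lib.Helper14.AS

namespace Groth.Agent.Lib.Helper14.AS

set_option backward.isDefEq.respectTransparency.types false in
theorem sep_of_dvr_uniq (S : Scheme.{u}) {X Y : Sp S} (hX : IsAlgSpace X) (hYs : IsAlgSpace Y) (f : X ⟶ Y)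
    (hqs : AlgSp.IsQuasiSeparatedMor f) (hft : AlgSp.LocP @LocallyOfFiniteType f)
    (hY : AlgSp.IsLocNoethSp Y)
    (hu : ∀ sq : AlgSp.ValSq f, IsDiscreteValuationRing sq.A → sq.HasUniq) :
    AlgSp.IsSeparatedMor f := by
  obtain ⟨V, b, hbe, hbs, hVN⟩ := hY
  obtain ⟨U, R1, R2, a, h, p1', p2', p1, p2, μ, q, t, hae, has, comm, sq1, sq2, hμ1, hμ2, hq1, hq2,
    hqe, hqsurj, key, hlft⟩ := exists_diagonal_chart hX hYs f b hbe hbs
  have hh : LocallyOfFiniteType h.left := hft a b h hae hbe comm
  have hp2 : LocallyOfFiniteType p2.left := hlft hh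
  have hUN : IsLocallyNoetherian U.left := LocallyOfFiniteType.isLocallyNoetherian h.left
  have hR2N : IsLocallyNoetherian R2.left := LocallyOfFiniteType.isLocallyNoetherian p2.left
  obtain ⟨hrep, hlftΔ, hmonoΔ, -, -⟩ := diagonal_hom_properties hX f
  have hμlft : LocallyOfFiniteType μ.left := hlftΔ.property _ _ _ key
  have hμmono : Mono μ.left := hmonoΔ.property _ _ _ key
  have hμqc : QuasiCompact μ.left := hqs.property _ _ _ key
  have hμuc : UniversallyClosed μ.left := by
    apply Groth.Agent.Lib.Helper21.DVRExt.universallyClosed_of_dvr_existence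
    intro A _ _ _ x y hxy
    let str : Spec (.of A) ⟶ S := y ≫ R2.hom
    let ptA : Over S := Over.mk str
    let ptK : Over S := Over.mk (Spec.map (CommRingCat.ofHom (algebraMap A (FractionRing A))) ≫ str)
    let jj : ptK ⟶ ptA :=
      Over.homMk (Spec.map (CommRingCat.ofHom (algebraMap A (FractionRing A)))) rfl
    let y' : ptA ⟶ R2 := Over.homMk y rfl
    let x' : ptK ⟶ R1 := Over.homMk x (by
      change x ≫ R1.hom = Spec.map _ ≫ y ≫ R2.hom
      rw [← Over.w μ, ← Category.assoc, hxy, Category.assoc])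
    have hji : x' ≫ μ = jj ≫ y' := by
      ext
      exact hxy
    have e1 : x' ≫ p1' = jj ≫ y' ≫ p1 := by rw [← hμ1, ← Category.assoc, hji, Category.assoc]
    have e2 : x' ≫ p2' = jj ≫ y' ≫ p2 := by rw [← hμ2, ← Category.assoc, hji, Category.assoc]
    let l : (yon S).obj ptA ⟶ X := (yon S).map (y' ≫ p1) ≫ a
    let l' : (yon S).obj ptA ⟶ X := (yon S).map (y' ≫ p2) ≫ a
    have hl : (yon S).map jj ≫ l = (yon S).map (x' ≫ p1') ≫ a := by
      rw [e1, Functor.map_comp, Category.assoc]
    have hl' : (yon S).map jj ≫ l' = (yon S).map (x' ≫ p1') ≫ a := by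
      have e3 : (yon S).map jj ≫ l' = (yon S).map (x' ≫ p2') ≫ a := by
        rw [e2, Functor.map_comp, Category.assoc]
      rw [e3, Functor.map_comp, Functor.map_comp, Category.assoc, Category.assoc, sq1.w]
    have hll' : l' ≫ f = l ≫ f := by
      simp only [l, l', Functor.map_comp, Category.assoc]
      rw [sq2.w]
    let vsq : ValSq f :=
      { A := A, K := FractionRing A, str := str, top := (yon S).map (x' ≫ p1') ≫ a, bot := l ≫ f,
        comm := by rw [← hl, Category.assoc] }
    have heq : l = l' := hu vsq (inferInstanceAs (IsDiscreteValuationRing A)) l l' hl rfl hl' hll'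
    obtain ⟨k, hk⟩ := (yon S).map_surjective (sq1.lift _ _ heq)
    have hk1 : k ≫ p1' = y' ≫ p1 := by
      apply (yon S).map_injective
      rw [Functor.map_comp, hk, sq1.lift_fst]
    have hk2 : k ≫ p2' = y' ≫ p2 := by
      apply (yon S).map_injective
      rw [Functor.map_comp, hk, sq1.lift_snd]
    have hkμ : k ≫ μ = y' := by
      apply (yon S).map_injective
      apply sq2.hom_ext
      · rw [← Functor.map_comp, ← Functor.map_comp, Category.assoc, hμ1, hk1]
      · rw [← Functor.map_comp, ← Functor.map_comp, Category.assoc, hμ2, hk2]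
    have hkμ' : k.left ≫ μ.left = y := congrArg (fun t => t.left) hkμ
    refine ⟨k.left, hkμ', ?_⟩
    rw [← cancel_mono μ.left, Category.assoc, hkμ', hxy]
  have h1 : IsUnivClosedMor ((yon S).map μ) :=
    (repWith_universallyClosed_iff_isUnivClosedMor (representable_yon_map μ)).1
      ((repWith_yon_map_iff _ _).2 hμuc)
  have hXX : IsAlgSpace (pullback f f) :=
    isAlgSpace_of_isPullback (repDiag_of_isAlgSpace hYs) hX hX (IsPullback.of_hasPullback _ _)
  have h2 : IsUnivClosedMor (pullback.diagonal f) :=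
    isUnivClosedMor_of_etale_cover hXX (IsAlgSpace.yon_obj R2) q hqe hqsurj key h1
  exact isSeparatedMor_of_isUnivClosedMor_diagonal hX f h2

end Groth.Agent.Lib.Helper14.AS
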