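import Groth.Agent.Lib.Helper14.AlgSpRedFactor2
import Groth.Agent.Lib.Helper14.AlgSpImmTop

open CategoryTheory CategoryTheory.Limits AlgebraicGeometry Opposite AlgSp Topology
open CategoryTheory.Functor Groth.Agent.Lib.Helper14.AS

universe u

noncomputable section

namespace Groth.Agent.Lib.Helper14.AS

variable {S : Scheme.{u}}

set_option backward.isDefEq.respectTransparency.types false in
/-- (P1) For an etale chart `V` of `Y` and a quasi-compact monomorphic point `r`, the morphism
`Spec k ×_Y V → V` is a preimmersion. -/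
theorem isPreimmersion_fibre_chart {Y : Sp S} (hY : IsAlgSpace Y) (r : FieldPt Y)
    (hm : Mono r.toHom) (hq : RepWith @QuasiCompact r.toHom) {V : Over S}
    (b : (yon S).obj V ⟶ Y) (hb : RepWith @Etale b) :
    IsPreimmersion (hb.rep.fst' r.toHom).left := by
  have sq := hb.rep.isPullback' r.toHom
  have hmono : Mono ((yon S).map (hb.rep.fst' r.toHom)) :=
    (MorphismProperty.monomorphisms _).of_isPullback sq.flip hm
  have hm2 : Mono (hb.rep.fst' r.toHom) := (yon S).mono_of_mono_map hmono
  have hm3 : Mono (hb.rep.fst' r.toHom).left := inferInstance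
  have hinj : Function.Injective (hb.rep.fst' r.toHom).left :=
    (hb.rep.fst' r.toHom).left.injective
  have hs_et : Etale (hb.rep.snd r.toHom).left := hb.property_snd _
  have hlqf : LocallyQuasiFinite (hb.rep.snd r.toHom).left := etale_locallyQuasiFinite _
  have hdisc : DiscreteTopology ↥(hb.rep.pullback r.toHom).left :=
    discreteTopology_of_lqf_field (K := r.K) (hb.rep.snd r.toHom).left
  have hfield : ∀ w : ↥(hb.rep.pullback r.toHom).left,
      IsField ((hb.rep.pullback r.toHom).left.presheaf.stalk w) := fun w =>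
    isField_stalk_of_unramified (hb.rep.snd r.toHom).left w (isField_stalk_Spec_field r.K _)
  have hfib : ∀ t, Points.ofPt b ((hb.rep.fst' r.toHom).left t) = Points.mk r := by
    intro t
    rw [← ofPt_yon_map_comp, sq.w, ofPt_yon_map_comp, Points.ofPt_toHom]
  have key : ∀ t : ↥(hb.rep.pullback r.toHom).left, ∃ (W : Scheme.{u})
      (σ : W ⟶ (hb.rep.pullback r.toHom).left) (pt : ↥W), IsOpenImmersion σ ∧
        SurjectiveOnStalks (σ ≫ (hb.rep.fst' r.toHom).left) ∧ σ pt = t := by
    intro t
    let q : FieldPt Y := FieldPt.ofPt b ((hb.rep.fst' r.toHom).left t)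
    let g : q.pt ⟶ V := Over.homMk (V.left.fromSpecResidueField ((hb.rep.fst' r.toHom).left t)) rfl
    have hq1 : q.toHom = (yon S).map g ≫ b := FieldPt.toHom_ofPt b _
    obtain ⟨j, hj⟩ := factors_through_mono_point r q hm (repDiag_of_isAlgSpace hY _) (hfib t)
    obtain ⟨σ, hσ⟩ := (yon S).map_surjective (sq.lift ((yon S).map g) ((yon S).map j)
      (by rw [hj, hq1]))
    have hσ1 : σ ≫ hb.rep.fst' r.toHom = g :=
      (yon S).map_injective (by rw [Functor.map_comp, hσ, sq.lift_fst])
    have hgm : Mono g.left :=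
      (inferInstance : Mono (V.left.fromSpecResidueField ((hb.rep.fst' r.toHom).left t)))
    have e : σ.left ≫ (hb.rep.fst' r.toHom).left = g.left := by rw [← Over.comp_left, hσ1]
    have hσm : Mono σ.left := by
      have : Mono (σ.left ≫ (hb.rep.fst' r.toHom).left) := by rw [e]; exact hgm
      exact mono_of_mono σ.left (hb.rep.fst' r.toHom).left
    have hoi : IsOpenImmersion σ.left := isOpenImmersion_of_mono_of_discrete σ.left hfield
    refine ⟨_, σ.left, (IsLocalRing.closedPoint q.K : ↥(Spec (CommRingCat.of q.K))), hoi, ?_,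
      hinj ?_⟩
    · rw [e]
      exact (inferInstance : SurjectiveOnStalks
        (V.left.fromSpecResidueField ((hb.rep.fst' r.toHom).left t)))
    · have : (hb.rep.fst' r.toHom).left
          (σ.left (IsLocalRing.closedPoint q.K : ↥(Spec (CommRingCat.of q.K)))) =
          (σ.left ≫ (hb.rep.fst' r.toHom).left)
            (IsLocalRing.closedPoint q.K : ↥(Spec (CommRingCat.of q.K))) := rfl
      rw [this, e]
      exact Scheme.fromSpecResidueField_apply _ _
  refine @IsPreimmersion.mk _ _ _ ⟨?_⟩ ?_
  · -- surjectivity on stalks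
    intro t
    obtain ⟨W, σ, pt, hoi, hsos, rfl⟩ := key t
    have h1 := hsos.stalkMap_surjective pt
    rw [Scheme.Hom.stalkMap_comp] at h1
    have h2 : Function.Bijective (σ.stalkMap pt) := ConcreteCategory.bijective_of_isIso _
    intro z
    obtain ⟨a, ha⟩ := h1 (σ.stalkMap pt z)
    exact ⟨a, h2.1 ha⟩
  · -- topological embedding
    refine ⟨⟨?_⟩, hinj⟩
    refine (isInducing_iff_nhds.2 fun t => le_antisymm ?_ ?_).eq_induced
    · exact ((hb.rep.fst' r.toHom).left.continuous.tendsto t).le_comap
    · obtain ⟨O, htO, hO⟩ := exists_open_isolating_fibre_point r hq b hb _ (hfib t)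
      intro A hA
      have hAt : t ∈ A := mem_of_mem_nhds hA
      refine Filter.mem_comap.2 ⟨O, O.2.mem_nhds htO, ?_⟩
      intro s hs
      have : s = t := hinj (hO _ hs (hfib s))
      rw [this]; exact hAt


/-- Points of a pullback square of schemes. -/
theorem exists_preimage_of_isPullback' {P X Y Z : Scheme.{u}} {fst : P ⟶ X} {snd : P ⟶ Y}
    {f : X ⟶ Z} {g : Y ⟶ Z} (sq : IsPullback fst snd f g) (x : ↥X) (y : ↥Y)
    (h : f x = g y) : ∃ z : ↥P, fst z = x ∧ snd z = y := by
  obtain ⟨z, hz1, hz2⟩ := Scheme.Pullback.exists_preimage_pullback x y h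
  refine ⟨sq.isoPullback.inv z, ?_, ?_⟩
  · rw [← hz1, ← Scheme.Hom.comp_apply, sq.isoPullback_inv_fst]
  · rw [← hz2, ← Scheme.Hom.comp_apply, sq.isoPullback_inv_snd]

set_option backward.isDefEq.respectTransparency.types false in
/-- (SL) The fibre of a morphism `U → Y` from a scheme over a quasi-compact monomorphic point of
the algebraic space `Y` embeds topologically into `U`. -/
theorem isEmbedding_fibre_of_scheme {Y : Sp S} (hY : IsAlgSpace Y) (r : FieldPt Y)
    (hm : Mono r.toHom) (hq : RepWith @QuasiCompact r.toHom) {U T : Over S}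
    (h : (yon S).obj U ⟶ Y) (g : T ⟶ U) (c : T ⟶ r.pt)
    (sqT : IsPullback ((yon S).map g) ((yon S).map c) h r.toHom) : IsEmbedding g.left := by
  have hmono : Mono ((yon S).map g) :=
    (MorphismProperty.monomorphisms _).of_isPullback sqT.flip hm
  have hm2 : Mono g := (yon S).mono_of_mono_map hmono
  have hm3 : Mono g.left := inferInstance
  have hinj : Function.Injective g.left := g.left.injective
  obtain ⟨V, b, hb, hbs⟩ := hY.atlas
  have sqU := hb.rep.isPullback' h
  have sqV := hb.rep.isPullback' r.toHom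
  have hpre : IsPreimmersion (hb.rep.fst' r.toHom).left :=
    isPreimmersion_fibre_chart hY r hm hq b hb
  have hpU : Etale (hb.rep.snd h).left := hb.property_snd h
  have sqT' := IsPullback.of_hasPullback (hb.rep.fst' h) (hb.rep.fst' r.toHom)
  have sqT'' := sqT'.map (Over.forget S)
  have hg' : IsPreimmersion (pullback.fst (hb.rep.fst' h) (hb.rep.fst' r.toHom)).left :=
    MorphismProperty.of_isPullback (P := @IsPreimmersion) sqT''.flip hpre
  have cond : (yon S).map (pullback.fst (hb.rep.fst' h) (hb.rep.fst' r.toHom) ≫ hb.rep.snd h) ≫ h =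
      (yon S).map (pullback.snd (hb.rep.fst' h) (hb.rep.fst' r.toHom) ≫ hb.rep.snd r.toHom) ≫
        r.toHom := by
    rw [Functor.map_comp, Functor.map_comp, Category.assoc, Category.assoc, ← sqU.w, ← sqV.w,
      ← Category.assoc, ← Category.assoc, ← Functor.map_comp, ← Functor.map_comp, sqT'.w]
  obtain ⟨m, hm'⟩ := (yon S).map_surjective (sqT.lift _ _ cond)
  have hmg : m ≫ g = pullback.fst (hb.rep.fst' h) (hb.rep.fst' r.toHom) ≫ hb.rep.snd h :=
    (yon S).map_injective (by rw [Functor.map_comp, hm', sqT.lift_fst])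
  have hrange := (fibre_chart_of_mono b hb r).1
  -- lifting points
  have lift_pt : ∀ (s : ↥T.left) (o' : ↥(hb.rep.pullback h).left),
      (hb.rep.snd h).left o' = g.left s →
      ∃ s' : ↥(pullback (hb.rep.fst' h) (hb.rep.fst' r.toHom)).left, m.left s' = s ∧
        (pullback.fst (hb.rep.fst' h) (hb.rep.fst' r.toHom)).left s' = o' := by
    intro s o' ho'
    have hfib : (hb.rep.fst' h).left o' ∈ Points.ofPt b ⁻¹' {Points.mk r} := by
      rw [Set.mem_preimage, Set.mem_singleton_iff, ← ofPt_yon_map_comp, sqU.w, ofPt_yon_map_comp,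
        ho', ← ofPt_yon_map_comp, sqT.w, ofPt_yon_map_comp, Points.ofPt_toHom]
    rw [← hrange] at hfib
    obtain ⟨κ, hκ⟩ := hfib
    obtain ⟨s', hs'1, hs'2⟩ := exists_preimage_of_isPullback' sqT'' o' κ hκ.symm
    refine ⟨s', hinj ?_, hs'1⟩
    have : g.left (m.left s') = (m ≫ g).left s' := rfl
    rw [this, hmg, ← ho']
    exact congrArg (hb.rep.snd h).left hs'1
  refine ⟨⟨?_⟩, hinj⟩
  refine (isInducing_iff_nhds.2 fun t => le_antisymm ?_ ?_).eq_induced
  · exact (g.left.continuous.tendsto t).le_comap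
  · intro A hA
    obtain ⟨A₀, hA₀A, hA₀o, htA₀⟩ := mem_nhds_iff.1 hA
    obtain ⟨v, hv⟩ := ofPt_surjective_of_repWith hbs (Points.ofPt h (g.left t))
    obtain ⟨u', -, hu'2⟩ := exists_point_of_isPullback_yon sqU v (g.left t) hv
    obtain ⟨t', ht'1, ht'2⟩ := lift_pt t u' hu'2
    have hA'o : IsOpen (m.left ⁻¹' A₀) := hA₀o.preimage m.left.continuous
    obtain ⟨O', hO'o, hO'⟩ := hg'.isEmbedding.isInducing.isOpen_iff.1 hA'o
    have hOo : IsOpen ((hb.rep.snd h).left '' O') := (hb.rep.snd h).left.isOpenMap _ hO'o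
    have ht'O' : (pullback.fst (hb.rep.fst' h) (hb.rep.fst' r.toHom)).left t' ∈ O' := by
      have : t' ∈ m.left ⁻¹' A₀ := by rw [Set.mem_preimage, ht'1]; exact htA₀
      rw [← hO'] at this
      exact this
    refine Filter.mem_comap.2 ⟨_, hOo.mem_nhds ⟨_, ht'O', ?_⟩, ?_⟩
    · rw [ht'2]; exact hu'2
    · rintro s ⟨o', ho'O', ho'⟩
      obtain ⟨s', hs'1, hs'2⟩ := lift_pt s o' ho'
      have : s' ∈ m.left ⁻¹' A₀ := by
        rw [← hO', Set.mem_preimage, hs'2]; exact ho'O'
      rw [Set.mem_preimage, hs'1] at this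
      exact hA₀A this


set_option backward.isDefEq.respectTransparency.types false in
/-- The fibre of a morphism of algebraic spaces over a quasi-compact monomorphic point embeds
topologically, with image the set-theoretic fibre. -/
theorem isEmbedding_points_fibre {X Y Xk : Sp S} (hX : IsAlgSpace X) (hY : IsAlgSpace Y)
    (f : X ⟶ Y) (r : FieldPt Y) (hm : Mono r.toHom) (hq : RepWith @QuasiCompact r.toHom)
    (fst : Xk ⟶ X) (snd : Xk ⟶ (yon S).obj r.pt) (hsq : IsPullback fst snd f r.toHom) :
    IsEmbedding (Points.map fst) ∧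
      Set.range (Points.map fst) = Points.map f ⁻¹' {Points.mk r} := by
  have hmono : Mono fst := (MorphismProperty.monomorphisms _).of_isPullback hsq.flip hm
  have hinj : Function.Injective (Points.map fst) := (fieldInj_of_mono fst).injective_points
  have hone : ∀ w : Points ((yon S).obj r.pt), Points.map r.toHom w = Points.mk r := by
    intro w
    obtain ⟨pt, rfl⟩ := (Points.schemeHomeo r.pt).surjective w
    exact (Points.ofPt_eq_map_ofScheme r.toHom pt).symm.trans (Points.ofPt_toHom r pt)
  have hrange : Set.range (Points.map fst) = Points.map f ⁻¹' {Points.mk r} := by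
    apply subset_antisymm
    · rintro _ ⟨z, rfl⟩
      rw [Set.mem_preimage, Set.mem_singleton_iff, ← Points.map_comp, hsq.w, Points.map_comp,
        hone]
    · intro x hx
      rw [Set.mem_preimage, Set.mem_singleton_iff] at hx
      have pt : Points ((yon S).obj r.pt) :=
        Points.schemeHomeo r.pt (IsLocalRing.closedPoint r.K : ↥(Spec (CommRingCat.of r.K)))
      obtain ⟨z, hz, -⟩ := points_exists_of_isPullback hsq x pt (by rw [hx, hone])
      exact ⟨z, hz⟩
  refine ⟨⟨⟨le_antisymm (continuous_iff_le_induced.1 (Points.continuous_map fst)) ?_⟩, hinj⟩,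
    hrange⟩
  intro W hW
  obtain ⟨U, a, hae, has⟩ := hX.atlas
  have hrep_r : Representable r.toHom := repDiag_of_isAlgSpace hY _
  have hfst : Representable fst := MorphismProperty.of_isPullback hsq.flip hrep_r
  have sq1 := hfst.isPullback a
  have hee : RepWith @Etale (hfst.fst a) := repWith_of_isPullback _ sq1.flip hae
  have hes : RepWith @Surjective (hfst.fst a) := repWith_of_isPullback _ sq1.flip has
  obtain ⟨c, hc⟩ := (yon S).map_surjective (hfst.fst a ≫ snd)
  have sqT : IsPullback ((yon S).map (hfst.snd a)) ((yon S).map c) (a ≫ f) r.toHom := by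
    rw [hc]; exact sq1.flip.paste_vert hsq
  have hemb := isEmbedding_fibre_of_scheme hY r hm hq (a ≫ f) (hfst.snd a) c sqT
  have hW' : IsOpen (Points.ofPt (hfst.fst a) ⁻¹' W) := hW.preimage (Points.continuous_ofPt _)
  obtain ⟨O, hOo, hO⟩ := hemb.isInducing.isOpen_iff.1 hW'
  rw [isOpen_induced_iff]
  refine ⟨Points.ofPt a '' O, isOpenMap_ofPt a hae _ hOo, ?_⟩
  ext z
  constructor
  · rintro ⟨o, hoO, ho⟩
    obtain ⟨w, hw1, hw2⟩ := points_exists_of_isPullback sq1 z (Points.ofScheme U o)
      (by rw [← Points.ofPt_eq_map_ofScheme]; exact ho.symm)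
    obtain ⟨τ, rfl⟩ := (Points.schemeHomeo _).surjective w
    have hτo : (hfst.snd a).left τ = o := by
      rw [Points.map_yon_map_apply] at hw2
      exact (Points.schemeHomeo U).injective hw2
    have : τ ∈ Points.ofPt (hfst.fst a) ⁻¹' W := by
      rw [← hO, Set.mem_preimage, hτo]; exact hoO
    rw [Set.mem_preimage, Points.ofPt_eq_map_ofScheme] at this
    rw [← hw1]
    exact this
  · intro hz
    obtain ⟨τ, rfl⟩ := ofPt_surjective_of_repWith hes z
    have hτ : τ ∈ Points.ofPt (hfst.fst a) ⁻¹' W := hz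
    rw [← hO] at hτ
    refine ⟨_, hτ, ?_⟩
    rw [Points.map_ofPt, sq1.w, ofPt_yon_map_comp]

end Groth.Agent.Lib.Helper14.AS
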