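import Groth.Agent.Lib.Helper14.AlgSpFtPt
import Groth.Agent.Lib.Helper14.AlgSpDecent
import Mathlib.AlgebraicGeometry.Morphisms.QuasiFinite
universe u
open CategoryTheory CategoryTheory.Limits AlgebraicGeometry Opposite
namespace Groth.Agent.Lib.Helper14.AS
variable {S : Scheme.{u}}
open AlgSp Groth.Agent.Lib.Helper14.AS

/-- The fibre of an etale chart over a point represented by a monomorphism from the spectrum of a
field: it is the image of the discrete scheme `W = U ×_X Spec K`. -/
theorem fibre_chart_of_mono {X : Sp S} {U : Over S} (a : (yon S).obj U ⟶ X) (ha : RepWith @Etale a)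
    (p : FieldPt X) :
    Set.range (ha.rep.fst' p.toHom).left = Points.ofPt a ⁻¹' {Points.mk p} ∧
      DiscreteTopology ↥(ha.rep.pullback p.toHom).left := by
  have sq := ha.rep.isPullback' p.toHom
  constructor
  · ext u
    constructor
    · rintro ⟨w, rfl⟩
      rw [Set.mem_preimage, Set.mem_singleton_iff, ← ofPt_yon_map_comp, sq.w, ofPt_yon_map_comp,
        Points.ofPt_toHom]
    · intro hu
      rw [Set.mem_preimage, Set.mem_singleton_iff] at hu
      obtain ⟨v, hv, -⟩ := exists_point_of_isPullback_yon sq u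
        (IsLocalRing.closedPoint p.K : ↥(Spec (CommRingCat.of p.K)))
        (by rw [hu]; exact (Points.ofPt_toHom p _).symm)
      exact ⟨v, hv⟩
  · have het : Etale (ha.rep.snd p.toHom).left := ha.property_snd _
    have hlqf : LocallyQuasiFinite (ha.rep.snd p.toHom).left := etale_locallyQuasiFinite _
    have hd := (ha.rep.snd p.toHom).left.isDiscrete_preimage_singleton
      (IsLocalRing.closedPoint p.K : ↥(Spec (CommRingCat.of p.K)))
    have huniv : (ha.rep.snd p.toHom).left ⁻¹' {(IsLocalRing.closedPoint p.K :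
        ↥(Spec (CommRingCat.of p.K)))} = Set.univ := by
      ext w
      have : Subsingleton ↥p.pt.left := subsingleton_spec_field p.K
      simp only [Set.mem_preimage, Set.mem_univ, iff_true]
      exact Subsingleton.elim _ _
    have hd' : _root_.IsDiscrete (Set.univ : Set ↥(ha.rep.pullback p.toHom).left) := by
      convert hd
      exact huniv.symm
    exact isDiscrete_univ_iff.1 hd'


/-- Finite-ness of the fibre of an etale chart in a quasi-compact open, for a quasi-compact
field point. -/
theorem fibre_chart_finite_inter {X : Sp S} {U : Over S} (a : (yon S).obj U ⟶ X)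
    (ha : RepWith @Etale a) (p : FieldPt X) (hq : RepWith @QuasiCompact p.toHom)
    (N : U.left.Opens) (hN : IsCompact (N : Set ↥U.left)) :
    ((Points.ofPt a ⁻¹' {Points.mk p}) ∩ (N : Set ↥U.left)).Finite := by
  obtain ⟨hr, hd⟩ := fibre_chart_of_mono a ha p
  have sq := ha.rep.isPullback' p.toHom
  have hqc : QuasiCompact (ha.rep.fst' p.toHom).left :=
    hq.property a _ _ sq.flip
  have hc : IsCompact ((ha.rep.fst' p.toHom).left ⁻¹' (N : Set ↥U.left)) :=
    hqc.isCompact_preimage _ N.2 hN
  have hfin : ((ha.rep.fst' p.toHom).left ⁻¹' (N : Set ↥U.left)).Finite := hc.finite_of_discrete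
  have : (Points.ofPt a ⁻¹' {Points.mk p}) ∩ (N : Set ↥U.left) =
      (ha.rep.fst' p.toHom).left '' ((ha.rep.fst' p.toHom).left ⁻¹' (N : Set ↥U.left)) := by
    rw [Set.image_preimage_eq_inter_range, hr, Set.inter_comm]
  rw [this]
  exact hfin.image _

/-- Generalizations lift along an etale chart to a point represented by a quasi-compact field
point. -/
theorem exists_generization_of_chart {X : Sp S} {U : Over S} (a : (yon S).obj U ⟶ X)
    (ha : RepWith @Etale a) (p : FieldPt X) (hq : RepWith @QuasiCompact p.toHom) (u : ↥U.left)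
    (h : Points.mk p ⤳ Points.ofPt a u) : ∃ u' : ↥U.left, u' ⤳ u ∧ Points.ofPt a u' = Points.mk p := by
  obtain ⟨N, hN, huN, -⟩ := exists_isAffineOpen_mem_and_subset (x := u) (U := ⊤) trivial
  have hfin := fibre_chart_finite_inter a ha p hq N hN.isCompact
  -- u is in the closure of the finite set
  have hcl : u ∈ closure ((Points.ofPt a ⁻¹' {Points.mk p}) ∩ (N : Set ↥U.left)) := by
    rw [mem_closure_iff]
    intro O hO huO
    have hON : IsOpen (O ∩ (N : Set ↥U.left)) := hO.inter N.2
    have := isOpenMap_ofPt a ha _ hON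
    have hx : Points.mk p ∈ Points.ofPt a '' (O ∩ (N : Set ↥U.left)) :=
      h.mem_open this ⟨u, ⟨huO, huN⟩, rfl⟩
    obtain ⟨u', ⟨hu'O, hu'N⟩, hu'⟩ := hx
    exact ⟨u', hu'O, hu', hu'N⟩
  rw [← Set.biUnion_of_singleton ((Points.ofPt a ⁻¹' {Points.mk p}) ∩ (N : Set ↥U.left)),
    hfin.closure_biUnion] at hcl
  obtain ⟨u', hu', hmem⟩ := Set.mem_iUnion₂.1 hcl
  exact ⟨u', specializes_iff_mem_closure.2 hmem, hu'.1⟩

end Groth.Agent.Lib.Helper14.AS
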