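import Groth.Agent.Lib.Helper14.AlgSpFibrePt2
import Mathlib.AlgebraicGeometry.Noetherian
import Mathlib.RingTheory.Ideal.KrullsHeightTheorem
universe u
open CategoryTheory CategoryTheory.Limits AlgebraicGeometry Opposite
namespace Groth.Agent.Lib.Helper14.AS
variable {S : Scheme.{u}}
open AlgSp Groth.Agent.Lib.Helper14.AS

theorem height_lt_of_specializes {A : Type*} [CommRing A] [IsNoetherianRing A]
    (q q' : PrimeSpectrum A) (hs : q' ⤳ q) (hne : q' ≠ q) :
    q'.asIdeal.height < q.asIdeal.height := by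
  have hle : q' ≤ q := (PrimeSpectrum.le_iff_specializes _ _).2 hs
  have hlt : q' < q := lt_of_le_of_ne hle hne
  have hlt' : q'.asIdeal < q.asIdeal := hlt
  exact Ideal.height_strict_mono_of_isPrime_of_isPrime hlt'

/-- In a locally Noetherian scheme there is no nonempty set in which every point has a strict
generization. -/
theorem no_strict_generization_of_isLocallyNoetherian {U : Scheme.{u}} [IsLocallyNoetherian U]
    (F : Set ↥U) (u : ↥U) (hu : u ∈ F) (key : ∀ v ∈ F, ∃ v' ∈ F, v' ⤳ v ∧ v' ≠ v) : False := by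
  let φ := U.fromSpecStalk u
  let h : PrimeSpectrum (U.presheaf.stalk u) → ℕ∞ := fun q => q.asIdeal.height
  have hne : (h '' (φ ⁻¹' F)).Nonempty :=
    ⟨_, IsLocalRing.closedPoint _, by
      show φ (IsLocalRing.closedPoint _) ∈ F
      rw [Scheme.fromSpecStalk_closedPoint]; exact hu, rfl⟩
  obtain ⟨_, ⟨q, hqG, rfl⟩, hmin⟩ := (wellFounded_lt (α := ℕ∞)).has_min _ hne
  obtain ⟨v', hv'F, hv's, hv'ne⟩ := key (φ q) hqG
  have hvu : φ q ⤳ u := by
    have : φ q ∈ Set.range φ := ⟨q, rfl⟩
    rw [Scheme.range_fromSpecStalk] at this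
    exact this
  have : v' ∈ Set.range φ := by
    rw [Scheme.range_fromSpecStalk]
    exact hv's.trans hvu
  obtain ⟨q', rfl⟩ := this
  have hs : q' ⤳ q := (φ.isEmbedding.isInducing.specializes_iff).1 hv's
  have := height_lt_of_specializes (A := U.presheaf.stalk u) q q' hs
    (fun e => hv'ne (congrArg φ e))
  exact hmin _ ⟨q', hv'F, rfl⟩ this


/-- The key step: strict generizations in the fibre of an etale chart. -/
theorem exists_strict_generization_in_fibre {X : Sp S} {U : Over S} (a : (yon S).obj U ⟶ X)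
    (ha : RepWith @Etale a) (x : Points X)
    (u u' : ↥U.left) (hu : Points.ofPt a u = x) (hu' : Points.ofPt a u' = x) (hs : u' ⤳ u)
    (hne : u ≠ u') :
    ∀ v ∈ Points.ofPt a ⁻¹' {x}, ∃ v' ∈ Points.ofPt a ⁻¹' {x}, v' ⤳ v ∧ v' ≠ v := by
  have sq := ha.rep.isPullback' a
  have hs_et : Etale (ha.rep.fst' a).left := by
    have : RepWith @Etale ((yon S).map (ha.rep.fst' a)) :=
      repWith_of_isPullback _ sq.flip ha
    exact (repWith_yon_map_iff _ _).1 this
  have ht_et : Etale (ha.rep.snd a).left := ha.property_snd a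
  intro v hv
  obtain ⟨r, hr1, hr2⟩ := exists_point_of_isPullback_yon sq v u (by rw [hv, hu])
  have hflat : Flat (ha.rep.snd a).left := inferInstance
  obtain ⟨r', hr's, hr'⟩ := (Flat.generalizingMap (ha.rep.snd a).left) (hr2 ▸ hs)
  refine ⟨(ha.rep.fst' a).left r', ?_, ?_, ?_⟩
  · rw [Set.mem_preimage, Set.mem_singleton_iff, ← ofPt_yon_map_comp, sq.w, ofPt_yon_map_comp,
      hr', hu']
  · rw [← hr1]
    exact hr's.map (ha.rep.fst' a).left.continuous
  · intro heq
    have hlqf : LocallyQuasiFinite (ha.rep.fst' a).left := etale_locallyQuasiFinite _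
    have hd := (ha.rep.fst' a).left.isDiscrete_preimage_singleton v
    have : r' = r := eq_of_specializes_of_isDiscrete hd hr1 heq hr's
    apply hne
    rw [← hr2, ← hr', this]

set_option backward.isDefEq.respectTransparency.types false in
/-- Locally Noetherian spaces: no nontrivial specializations in the fibres of etale charts. -/
theorem eq_of_specializes_of_isLocNoethSp {X : Sp S} (hX : IsLocNoethSp X)
    {U : Over S} (a : (yon S).obj U ⟶ X) (ha : RepWith @Etale a) (u u' : ↥U.left)
    (he : Points.ofPt a u = Points.ofPt a u') (hs : u' ⤳ u) : u = u' := by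
  by_contra hne
  obtain ⟨U₀, p₀, hp0e, hp0s, hN⟩ := hX
  have sq := hp0e.rep.isPullback' a
  have h_snd_et : Etale (hp0e.rep.snd a).left := hp0e.property_snd a
  have h_snd_surj : Surjective (hp0e.rep.snd a).left := hp0s.property _ _ _ sq
  have h_fst_et : Etale (hp0e.rep.fst' a).left := by
    have : RepWith @Etale ((yon S).map (hp0e.rep.fst' a)) :=
      repWith_of_isPullback _ sq.flip ha
    exact (repWith_yon_map_iff _ _).1 this
  have hWN : IsLocallyNoetherian (hp0e.rep.pullback a).left :=
    LocallyOfFiniteType.isLocallyNoetherian (hp0e.rep.fst' a).left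
  have hb : RepWith @Etale ((yon S).map (hp0e.rep.snd a) ≫ a) :=
    repWith_comp _ ((repWith_yon_map_iff _ _).2 h_snd_et) ha
  obtain ⟨w, hw⟩ := (hp0e.rep.snd a).left.surjective u
  have hflat : Flat (hp0e.rep.snd a).left := inferInstance
  obtain ⟨w', hw's, hw'⟩ := (Flat.generalizingMap (hp0e.rep.snd a).left) (hw ▸ hs)
  have e1 : Points.ofPt ((yon S).map (hp0e.rep.snd a) ≫ a) w = Points.ofPt a u := by
    rw [ofPt_yon_map_comp, hw]
  have e2 : Points.ofPt ((yon S).map (hp0e.rep.snd a) ≫ a) w' = Points.ofPt a u := by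
    rw [ofPt_yon_map_comp, hw', he]
  have hne' : w ≠ w' := fun e => hne (by rw [← hw, ← hw', e])
  exact no_strict_generization_of_isLocallyNoetherian _ w e1
    (exists_strict_generization_in_fibre _ hb _ w w' e1 e2 hw's hne')

end Groth.Agent.Lib.Helper14.AS
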