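import Mathlib.AlgebraicGeometry.Morphisms.QuasiFinite
import Mathlib.AlgebraicGeometry.PullbackCarrier
universe u
open CategoryTheory CategoryTheory.Limits AlgebraicGeometry Opposite
namespace Groth.Agent.Lib.Helper14.AS

/-- A locally quasi-finite morphism has finite fibres on affine opens mapping into affine opens. -/
theorem finite_preimage_inter_affine {X Y : Scheme.{u}} (f : X ⟶ Y) [LocallyQuasiFinite f] (y : ↥Y)
    (A : X.Opens) (B : Y.Opens) (hA : IsAffineOpen A) (hB : IsAffineOpen B) (e : A ≤ f ⁻¹ᵁ B) :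
    (f ⁻¹' {y} ∩ (A : Set ↥X)).Finite := by
  by_cases hy : y ∈ B
  · have : IsAffine A.toScheme := hA
    have : IsAffine B.toScheme := hB
    have hfin := (f.resLE B A e).finite_preimage_singleton ⟨y, hy⟩
    refine (hfin.image A.ι).subset ?_
    rintro x ⟨hx1, hx2⟩
    have hx1' : f x = y := hx1
    obtain ⟨a, rfl⟩ : ∃ a : ↥(A.toScheme), A.ι a = x := ⟨⟨x, hx2⟩, rfl⟩
    refine ⟨a, ?_, rfl⟩
    show (f.resLE B A e) a = ⟨y, hy⟩
    apply B.ι.injective
    calc B.ι ((f.resLE B A e) a) = (f.resLE B A e ≫ B.ι) a := rfl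
      _ = (A.ι ≫ f) a := by rw [Scheme.Hom.resLE_comp_ι]
      _ = y := hx1'
  · convert Set.finite_empty
    ext x
    simp only [Set.mem_inter_iff, Set.mem_preimage, Set.mem_singleton_iff, Set.mem_empty_iff_false,
      iff_false, not_and]
    intro hx1 hx2
    apply hy
    rw [← hx1]
    exact e hx2

/-- A locally quasi-finite morphism has finite fibres on compact subsets. -/
theorem finite_preimage_inter_of_isCompact {X Y : Scheme.{u}} (f : X ⟶ Y) [LocallyQuasiFinite f]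
    (y : ↥Y) {K : Set ↥X} (hK : IsCompact K) : (f ⁻¹' {y} ∩ K).Finite := by
  have h1 : ∀ x : ↥X, ∃ (A : X.Opens) (B : Y.Opens), IsAffineOpen A ∧ IsAffineOpen B ∧ x ∈ A ∧
      A ≤ f ⁻¹ᵁ B := by
    intro x
    obtain ⟨B, hB, hxB, -⟩ := exists_isAffineOpen_mem_and_subset (x := f x) (U := ⊤) trivial
    obtain ⟨A, hA, hxA, hAB⟩ := exists_isAffineOpen_mem_and_subset (x := x) (U := f ⁻¹ᵁ B) hxB
    exact ⟨A, B, hA, hB, hxA, hAB⟩
  choose A B hA hB hxA hAB using h1
  obtain ⟨t, ht⟩ := hK.elim_finite_subcover (fun x => (A x : Set ↥X)) (fun x => (A x).2)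
    (fun x _ => Set.mem_iUnion.2 ⟨x, hxA x⟩)
  have : f ⁻¹' {y} ∩ K ⊆ ⋃ x ∈ t, (f ⁻¹' {y} ∩ (A x : Set ↥X)) := by
    rintro z ⟨hz1, hz2⟩
    obtain ⟨x, hxt, hzx⟩ := Set.mem_iUnion₂.1 (ht hz2)
    exact Set.mem_iUnion₂.2 ⟨x, hxt, hz1, hzx⟩
  refine Set.Finite.subset ?_ this
  exact Set.Finite.biUnion t.finite_toSet
    (fun x _ => finite_preimage_inter_affine f y (A x) (B x) (hA x) (hB x) (hAB x))


open Scheme.Pullback in
theorem range_specTensorTo {A B C : Scheme.{u}} {f : A ⟶ B} {g : C ⟶ B} (T : Triplet f g) :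
    Set.range T.SpecTensorTo = {t | pullback.fst f g t = T.x ∧ pullback.snd f g t = T.y} := by
  ext t
  constructor
  · rintro ⟨p, rfl⟩
    exact ⟨T.fst_SpecTensorTo_apply p, T.snd_SpecTensorTo_apply p⟩
  · rintro ⟨h1, h2⟩
    have e : Triplet.ofPoint t = T := Triplet.ext h1 h2
    subst e
    exact ⟨SpecOfPoint t, SpecTensorTo_SpecOfPoint t⟩

open Scheme.Pullback in
theorem isCompact_points_over {A B C : Scheme.{u}} (f : A ⟶ B) (g : C ⟶ B) (a : ↥A) (c : ↥C) :
    IsCompact {t | pullback.fst f g t = a ∧ pullback.snd f g t = c} := by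
  by_cases h : f a = g c
  · have := range_specTensorTo (Triplet.mk' a c h)
    simp only [Triplet.mk'_x, Triplet.mk'_y] at this
    rw [← this]
    exact isCompact_range (Triplet.mk' a c h).SpecTensorTo.continuous
  · convert isCompact_empty
    ext t
    simp only [Set.mem_setOf_eq, Set.mem_empty_iff_false, iff_false, not_and]
    intro h1 h2
    apply h
    rw [← h1, ← h2, ← Scheme.Hom.comp_apply, ← Scheme.Hom.comp_apply, pullback.condition]

/-- (L), canonical pullback. -/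
theorem finite_points_over_pullback {A B C : Scheme.{u}} (f : A ⟶ B) (g : C ⟶ B) (a : ↥A) (c : ↥C)
    (O : C.Opens) (hcO : c ∈ O) [LocallyQuasiFinite (O.ι ≫ g)] :
    {t | pullback.fst f g t = a ∧ pullback.snd f g t = c}.Finite := by
  have hK := isCompact_points_over f (O.ι ≫ g) a ⟨c, hcO⟩
  have hfin := finite_preimage_inter_of_isCompact (pullback.fst f (O.ι ≫ g)) a hK
  let m := pullback.map f (O.ι ≫ g) f g (𝟙 _) O.ι (𝟙 _) (by simp) (by simp)
  refine (hfin.image m).subset ?_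
  rintro w ⟨hw1, hw2⟩
  have hw : w ∈ Set.range m := by
    rw [Scheme.Pullback.range_map]
    refine ⟨⟨pullback.fst f g w, rfl⟩, ?_⟩
    rw [Set.mem_preimage, hw2]
    exact ⟨⟨c, hcO⟩, rfl⟩
  obtain ⟨w', rfl⟩ := hw
  have e1 : pullback.fst f (O.ι ≫ g) w' = a := by
    rw [← hw1, ← Scheme.Hom.comp_apply, pullback.lift_fst]
    simp
  have e2 : pullback.snd f (O.ι ≫ g) w' = ⟨c, hcO⟩ := by
    apply O.ι.injective
    rw [← Scheme.Hom.comp_apply]
    have : pullback.snd f (O.ι ≫ g) ≫ O.ι = m ≫ pullback.snd f g :=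
      (pullback.lift_snd _ _ _).symm
    rw [this, Scheme.Hom.comp_apply, hw2]
    rfl
  exact ⟨w', ⟨e1, e1, e2⟩, rfl⟩

/-- (L), arbitrary pullback square. -/
theorem finite_points_over_of_isPullback {P A B C : Scheme.{u}} {fst : P ⟶ A} {snd : P ⟶ C}
    {f : A ⟶ B} {g : C ⟶ B} (sq : IsPullback fst snd f g) (a : ↥A) (c : ↥C)
    (O : C.Opens) (hcO : c ∈ O) (hO : LocallyQuasiFinite (O.ι ≫ g)) :
    {w | fst w = a ∧ snd w = c}.Finite := by
  have hfin := finite_points_over_pullback f g a c O hcO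
  have hinj : Function.Injective sq.isoPullback.hom :=
    (sq.isoPullback.hom.homeomorph).injective
  refine (hfin.preimage hinj.injOn).subset ?_
  rintro w ⟨h1, h2⟩
  refine ⟨?_, ?_⟩
  · rw [← h1, ← Scheme.Hom.comp_apply, IsPullback.isoPullback_hom_fst]
  · rw [← h2, ← Scheme.Hom.comp_apply, IsPullback.isoPullback_hom_snd]

end Groth.Agent.Lib.Helper14.AS
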