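import Groth.Agent.Lib.Helper14.AlgSpFibrePt3
import Groth.Agent.Lib.Helper14.SchemeFibrePts
universe u
open CategoryTheory CategoryTheory.Limits AlgebraicGeometry Opposite
namespace Groth.Agent.Lib.Helper14.AS
variable {S : Scheme.{u}}
open AlgSp Groth.Agent.Lib.Helper14.AS

theorem finite_fibre_affine_of_cover {X : Sp S} (x : Points X) {ι : Type u} (U : ι → Over S)
    (φ : ∀ i, (yon S).obj (U i) ⟶ X) (hφ : ∀ i, RepWith @Etale (φ i))
    (hsurj : ∀ y : Points X, ∃ (i : ι) (v : ↥(U i).left), Points.ofPt (φ i) v = y)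
    (hfin : ∀ i, (Points.ofPt (φ i) ⁻¹' {x}).Finite)
    {V : Over S} [IsAffine V.left] (ψ : (yon S).obj V ⟶ X) (hψ : RepWith @Etale ψ) :
    (Points.ofPt ψ ⁻¹' {x}).Finite := by
  have h1 : ∀ v : ↥V.left, ∃ (i : ι) (N : ((hφ i).rep.pullback ψ).left.Opens),
      IsCompact (N : Set ↥((hφ i).rep.pullback ψ).left) ∧ v ∈ ((hφ i).rep.snd ψ).left '' N := by
    intro v
    obtain ⟨i, u, hu⟩ := hsurj (Points.ofPt ψ v)
    obtain ⟨w, hw1, hw2⟩ := exists_point_of_isPullback_yon ((hφ i).rep.isPullback' ψ) u v hu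
    obtain ⟨N, hN, hwN, -⟩ := exists_isAffineOpen_mem_and_subset (x := w) (U := ⊤) trivial
    exact ⟨i, N, hN.isCompact, w, hwN, hw2⟩
  choose i N hNc hvN using h1
  have hopen : ∀ v, IsOpen (((hφ (i v)).rep.snd ψ).left '' (N v : Set _)) := by
    intro v
    have : Etale ((hφ (i v)).rep.snd ψ).left := (hφ (i v)).property_snd ψ
    exact ((hφ (i v)).rep.snd ψ).left.isOpenMap _ (N v).2
  obtain ⟨t, ht⟩ := (isCompact_univ (X := ↥V.left)).elim_finite_subcover _ hopen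
    (fun v _ => Set.mem_iUnion.2 ⟨v, hvN v⟩)
  have hsub : Points.ofPt ψ ⁻¹' {x} ⊆ ⋃ v ∈ t, ((hφ (i v)).rep.snd ψ).left ''
      (⋃ u ∈ Points.ofPt (φ (i v)) ⁻¹' {x},
        (((hφ (i v)).rep.fst' ψ).left ⁻¹' {u} ∩ (N v : Set _))) := by
    intro v' hv'
    obtain ⟨v, hvt, w', hw'N, rfl⟩ := Set.mem_iUnion₂.1 (ht (Set.mem_univ v'))
    refine Set.mem_iUnion₂.2 ⟨v, hvt, w', ?_, rfl⟩
    refine Set.mem_iUnion₂.2 ⟨((hφ (i v)).rep.fst' ψ).left w', ?_, rfl, hw'N⟩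
    rw [Set.mem_preimage, Set.mem_singleton_iff] at hv' ⊢
    rw [← hv', ← ofPt_yon_map_comp, ((hφ (i v)).rep.isPullback' ψ).w, ofPt_yon_map_comp]
  refine Set.Finite.subset ?_ hsub
  refine Set.Finite.biUnion t.finite_toSet (fun v _ => Set.Finite.image _ ?_)
  refine Set.Finite.biUnion (hfin (i v)) (fun u _ => ?_)
  have het : Etale ((hφ (i v)).rep.fst' ψ).left := by
    have : RepWith @Etale ((yon S).map ((hφ (i v)).rep.fst' ψ)) :=
      repWith_of_isPullback _ ((hφ (i v)).rep.isPullback' ψ).flip hψ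
    exact (repWith_yon_map_iff _ _).1 this
  have : LocallyQuasiFinite ((hφ (i v)).rep.fst' ψ).left := etale_locallyQuasiFinite _
  exact finite_preimage_inter_of_isCompact _ u (hNc v)

end Groth.Agent.Lib.Helper14.AS
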