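import Groth.Agent.Lib.Helper14.AlgSpFibrePt5
import Groth.Agent.Lib.Helper14.SchemeFibrePts
universe u
open CategoryTheory CategoryTheory.Limits AlgebraicGeometry Opposite
namespace Groth.Agent.Lib.Helper14.AS
variable {S : Scheme.{u}}
open AlgSp Groth.Agent.Lib.Helper14.AS

/-- Lifting points to `A ×_Y C` from `W = X ×_Y Z`, `A → X`, `C → Z`. -/
theorem points_exists_of_isPullback_two {X Y Z W A C Q : Sp S} {f : X ⟶ Y} {g : Z ⟶ Y}
    {p : W ⟶ X} {q : W ⟶ Z} (hW : IsPullback p q f g) (a : A ⟶ X) (c : C ⟶ Z)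
    {q₁ : Q ⟶ A} {q₂ : Q ⟶ C} (sqQ : IsPullback q₁ q₂ (a ≫ f) (c ≫ g))
    (m : Q ⟶ W) (hm1 : m ≫ p = q₁ ≫ a) (hm2 : m ≫ q = q₂ ≫ c)
    (w : Points W) (α : Points A) (γ : Points C)
    (hα : Points.map a α = Points.map p w) (hγ : Points.map c γ = Points.map q w) :
    ∃ π : Points Q, Points.map m π = w ∧ Points.map q₁ π = α ∧ Points.map q₂ π = γ := by
  have sq1 := IsPullback.of_hasPullback a p
  have sq1' : IsPullback (pullback.fst a p) (pullback.snd a p ≫ q) (a ≫ f) g :=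
    sq1.paste_vert hW
  have sq2 := IsPullback.of_hasPullback (pullback.snd a p ≫ q) c
  have sqQ' : IsPullback (pullback.fst (pullback.snd a p ≫ q) c ≫ pullback.fst a p)
      (pullback.snd (pullback.snd a p ≫ q) c) (a ≫ f) (c ≫ g) := sq2.paste_horiz sq1'
  obtain ⟨w', hw'1, hw'2⟩ := points_exists_of_isPullback sq1 α w hα
  obtain ⟨π', hπ'1, hπ'2⟩ := points_exists_of_isPullback sq2 w' γ
    (by rw [Points.map_comp, hw'2, hγ])
  let e := sqQ'.isoIsPullback _ _ sqQ
  have he1 : e.hom ≫ q₁ = pullback.fst (pullback.snd a p ≫ q) c ≫ pullback.fst a p :=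
    IsPullback.isoIsPullback_hom_fst _ _ sqQ' sqQ
  have he2 : e.hom ≫ q₂ = pullback.snd (pullback.snd a p ≫ q) c :=
    IsPullback.isoIsPullback_hom_snd _ _ sqQ' sqQ
  have hem : e.hom ≫ m = pullback.fst (pullback.snd a p ≫ q) c ≫ pullback.snd a p := by
    apply hW.hom_ext
    · rw [Category.assoc, hm1, ← Category.assoc, he1, Category.assoc, sq1.w, Category.assoc]
    · rw [Category.assoc, hm2, ← Category.assoc, he2, ← sq2.w, Category.assoc]
  refine ⟨Points.map e.hom π', ?_, ?_, ?_⟩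
  · rw [← Points.map_comp, hem, Points.map_comp, hπ'1, hw'2]
  · rw [← Points.map_comp, he1, Points.map_comp, hπ'1, hw'1]
  · rw [← Points.map_comp, he2, hπ'2]


set_option backward.isDefEq.respectTransparency.types false in
theorem finite_points_fieldPt_pullback {Y : Sp S} (hY : IsAlgSpace Y) (r η : FieldPt Y)
    (hr : Mono r.toHom) (hη : Points.mk η = Points.mk r) {Z₀ V Q : Over S}
    (c' : (yon S).obj Z₀ ⟶ Y) (b : (yon S).obj V ⟶ Y) (h : Z₀ ⟶ V) (hb : RepWith @Etale b)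
    (comm : c' = (yon S).map h ≫ b) (hh : LocallyQuasiFinite h.left)
    {q₁ : Q ⟶ η.pt} {q₂ : Q ⟶ Z₀} (sqQ : IsPullback ((yon S).map q₁) ((yon S).map q₂) η.toHom c')
    (z₀ : ↥Z₀.left) : {π₀ : ↥Q.left | q₂.left π₀ = z₀}.Finite := by
  have hrrep := hY.representable_from_yon r.toHom
  obtain ⟨j, hj⟩ := factors_through_mono_point r η hr hrrep hη
  -- Z₀' = Spec k ×_Y Z₀
  have sqZ' := hrrep.isPullback' c'
  -- T = Spec k ×_Y V
  have sqT := hb.rep.isPullback' r.toHom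
  have ht₂ : Etale (hb.rep.snd r.toHom).left := hb.property_snd _
  -- ℓ' : Z₀' → T
  have cond' : (yon S).map (hrrep.snd c' ≫ h) ≫ b = (yon S).map (hrrep.fst' c') ≫ r.toHom := by
    rw [Functor.map_comp, Category.assoc, ← comm, sqZ'.w]
  obtain ⟨ℓ', hℓ'⟩ := (yon S).map_surjective (sqT.lift _ _ cond')
  have hℓ'1 : (yon S).map ℓ' ≫ (yon S).map (hb.rep.fst' r.toHom) =
      (yon S).map (hrrep.snd c') ≫ (yon S).map h := by
    rw [hℓ', sqT.lift_fst, Functor.map_comp]
  have hℓ'2 : (yon S).map ℓ' ≫ (yon S).map (hb.rep.snd r.toHom) = (yon S).map (hrrep.fst' c') := by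
    rw [hℓ', sqT.lift_snd]
  have sqA : IsPullback ((yon S).map (hrrep.snd c')) ((yon S).map ℓ') ((yon S).map h)
      ((yon S).map (hb.rep.fst' r.toHom)) := by
    refine IsPullback.of_bot ?_ hℓ'1.symm sqT
    rw [hℓ'2, ← comm]
    exact sqZ'.flip
  have sqA' : IsPullback (hrrep.snd c').left ℓ'.left h.left (hb.rep.fst' r.toHom).left :=
    (IsPullback.of_map_of_faithful (yon S) sqA).map (Over.forget S)
  have hℓ'lqf : LocallyQuasiFinite ℓ'.left :=
    MorphismProperty.of_isPullback (P := @LocallyQuasiFinite) sqA' hh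
  have hz₁ : LocallyQuasiFinite (hrrep.fst' c').left := by
    have e : (hrrep.fst' c') = ℓ' ≫ hb.rep.snd r.toHom :=
      (yon S).map_injective (by rw [Functor.map_comp, hℓ'2])
    rw [e, Over.comp_left]
    have : LocallyQuasiFinite (hb.rep.snd r.toHom).left := etale_locallyQuasiFinite _
    infer_instance
  -- ℓ : Q → Z₀'
  have cond : (yon S).map (q₁ ≫ j) ≫ r.toHom = (yon S).map q₂ ≫ c' := by
    rw [Functor.map_comp, Category.assoc, hj, sqQ.w]
  obtain ⟨ℓ, hℓ⟩ := (yon S).map_surjective (sqZ'.lift _ _ cond)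
  have hℓ1 : (yon S).map ℓ ≫ (yon S).map (hrrep.fst' c') = (yon S).map q₁ ≫ (yon S).map j := by
    rw [hℓ, sqZ'.lift_fst, Functor.map_comp]
  have hℓ2 : (yon S).map ℓ ≫ (yon S).map (hrrep.snd c') = (yon S).map q₂ := by
    rw [hℓ, sqZ'.lift_snd]
  have sqB : IsPullback ((yon S).map ℓ) ((yon S).map q₁) ((yon S).map (hrrep.fst' c'))
      ((yon S).map j) := by
    refine IsPullback.of_right ?_ hℓ1 sqZ'.flip
    rw [hℓ2, hj]
    exact sqQ.flip
  have sqB' : IsPullback q₁.left ℓ.left j.left (hrrep.fst' c').left :=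
    ((IsPullback.of_map_of_faithful (yon S) sqB).map (Over.forget S)).flip
  -- injectivity of z₂
  have hmono : Mono ((yon S).map (hrrep.snd c')) :=
    (MorphismProperty.monomorphisms _).of_isPullback sqZ' (.infer_property _)
  have hm2 : Mono (hrrep.snd c') := (yon S).mono_of_mono_map hmono
  have hm3 : Mono (hrrep.snd c').left := inferInstance
  have hinj : Function.Injective (hrrep.snd c').left := (hrrep.snd c').left.injective
  have hsub : ((hrrep.snd c').left ⁻¹' {z₀}).Subsingleton := by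
    intro s hs t ht
    exact hinj (hs.trans ht.symm)
  have : Subsingleton ↥η.pt.left := subsingleton_spec_field η.K
  let pt₀ : ↥η.pt.left := (IsLocalRing.closedPoint η.K : ↥(Spec (CommRingCat.of η.K)))
  have hfin : (⋃ z' ∈ (hrrep.snd c').left ⁻¹' {z₀},
      {π₀ : ↥Q.left | q₁.left π₀ = pt₀ ∧ ℓ.left π₀ = z'}).Finite :=
    Set.Finite.biUnion hsub.finite (fun z' _ =>
      finite_points_over_of_isPullback sqB' pt₀ z' ⊤ trivial inferInstance)
  refine hfin.subset ?_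
  intro π₀ hπ₀
  refine Set.mem_iUnion₂.2 ⟨ℓ.left π₀, ?_, Subsingleton.elim _ _, rfl⟩
  show (hrrep.snd c').left (ℓ.left π₀) = z₀
  have e : ℓ ≫ hrrep.snd c' = q₂ :=
    (yon S).map_injective (by rw [Functor.map_comp, hℓ2])
  rw [← Scheme.Hom.comp_apply, ← Over.comp_left, e]
  exact hπ₀


set_option backward.isDefEq.respectTransparency.types false in
theorem finite_fibre_pullback_of_mono_point {X Y Z W : Sp S} (hY : IsAlgSpace Y) {f : X ⟶ Y}
    {g : Z ⟶ Y} {p : W ⟶ X} {q : W ⟶ Z} (hW : IsPullback p q f g) (x : Points X) (z : Points Z)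
    (r : FieldPt Y) (hr : Mono r.toHom) (hxr : Points.map f x = Points.mk r) {Z₀ V : Over S}
    (c : (yon S).obj Z₀ ⟶ Z) (b : (yon S).obj V ⟶ Y) (h : Z₀ ⟶ V) (hb : RepWith @Etale b)
    (comm : c ≫ g = (yon S).map h ≫ b) (z₀ : ↥Z₀.left) (hz₀ : Points.ofPt c z₀ = z)
    (hh : LocallyQuasiFinite h.left) :
    {w : Points W | Points.map p w = x ∧ Points.map q w = z}.Finite := by
  induction x using Points.ind with
  | h ξ =>
  have hQrep := hY.representable_from_yon (c ≫ g)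
  have sqQ0 := hQrep.isPullback' (ξ.toHom ≫ f)
  have sqQ : IsPullback ((yon S).map (hQrep.snd (ξ.toHom ≫ f)))
      ((yon S).map (hQrep.fst' (ξ.toHom ≫ f))) (ξ.map f).toHom (c ≫ g) := by
    rw [FieldPt.toHom_map]; exact sqQ0.flip
  have hfinQ := finite_points_fieldPt_pullback hY r (ξ.map f) hr hxr (c ≫ g) b h hb comm hh sqQ z₀
  let m : (yon S).obj (hQrep.pullback (ξ.toHom ≫ f)) ⟶ W :=
    hW.lift ((yon S).map (hQrep.snd (ξ.toHom ≫ f)) ≫ ξ.toHom)
      ((yon S).map (hQrep.fst' (ξ.toHom ≫ f)) ≫ c)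
      (by rw [Category.assoc, Category.assoc, sqQ0.w])
  refine (hfinQ.image (fun π₀ => Points.map m (Points.ofScheme _ π₀))).subset ?_
  rintro w ⟨hw1, hw2⟩
  let pt₀ : ↥ξ.pt.left := (IsLocalRing.closedPoint ξ.K : ↥(Spec (CommRingCat.of ξ.K)))
  have hα : Points.map ξ.toHom (Points.ofScheme ξ.pt pt₀) = Points.map p w := by
    rw [← Points.ofPt_eq_map_ofScheme, hw1]
    exact Points.ofPt_toHom ξ _
  have hγ : Points.map c (Points.ofScheme Z₀ z₀) = Points.map q w := by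
    rw [← Points.ofPt_eq_map_ofScheme, hw2, hz₀]
  obtain ⟨π, hπ1, -, hπ3⟩ := points_exists_of_isPullback_two hW ξ.toHom c sqQ0.flip m
    (hW.lift_fst _ _ _) (hW.lift_snd _ _ _) w _ _ hα hγ
  obtain ⟨π₀, rfl⟩ := (Points.schemeHomeo _).surjective π
  refine ⟨π₀, ?_, hπ1⟩
  have := Points.map_yon_map_apply (hQrep.fst' (ξ.toHom ≫ f)) π₀
  rw [this] at hπ3
  exact (Points.schemeHomeo Z₀).injective hπ3

end Groth.Agent.Lib.Helper14.AS
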