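import Groth.Agent.Lib.Helper14.AlgSpFibrePt6
universe u
open CategoryTheory CategoryTheory.Limits AlgebraicGeometry Opposite
namespace Groth.Agent.Lib.Helper14.AS
variable {S : Scheme.{u}}
open AlgSp Groth.Agent.Lib.Helper14.AS

set_option backward.isDefEq.respectTransparency.types false in
theorem finite_relation_fibre_of_mono_point {X : Sp S} (hX : IsAlgSpace X) (x : Points X)
    (hx : ∃ p : FieldPt X, Points.mk p = x ∧ Mono p.toHom) {U : Over S}
    (φ : (yon S).obj U ⟶ X) (hφ : RepWith @Etale φ) (u u' : ↥U.left)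
    (hu : Points.ofPt φ u = x) (hu' : Points.ofPt φ u' = x)
    (R : Over S) (s t : R ⟶ U) (sq : IsPullback ((yon S).map t) ((yon S).map s) φ φ) :
    {r : ↥R.left | s.left r = u ∧ t.left r = u'}.Finite := by
  obtain ⟨p, hp, hm⟩ := hx
  have hlqf : LocallyQuasiFinite (𝟙 U : U ⟶ U).left :=
    inferInstanceAs (LocallyQuasiFinite (𝟙 U.left))
  have key := finite_fibre_pullback_of_mono_point hX sq (Points.ofScheme U u') (Points.ofScheme U u)
    p hm (by rw [← Points.ofPt_eq_map_ofScheme, hu', hp]) (𝟙 _) φ (𝟙 U) hφ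
    (by rw [Category.id_comp, (yon S).map_id, Category.id_comp]) u
    (by rfl) hlqf
  refine (key.preimage (Points.schemeHomeo R).injective.injOn).subset ?_
  rintro r ⟨hr1, hr2⟩
  refine ⟨?_, ?_⟩
  · have := Points.map_yon_map_apply t r
    rw [hr2] at this
    exact this
  · have := Points.map_yon_map_apply s r
    rw [hr1] at this
    exact this

end Groth.Agent.Lib.Helper14.AS
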