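import Groth.Agent.Lib.Helper14.AlgSpFibrePt8

universe u
open CategoryTheory CategoryTheory.Limits AlgebraicGeometry Opposite

namespace Groth.Agent.Lib.Helper14.AS
open AlgSp

variable {S : Scheme.{u}}

set_option backward.isDefEq.respectTransparency.types false in
/-- Every point of the fibre lying over a point at which `f` is quasi-finite is an open point
of the fibre. -/
theorem isOpen_point_of_quasiFiniteAt {X Y Q : Sp S} (hY : IsAlgSpace Y) {f : X ⟶ Y}
    (ζ : FieldPt Y) {fstQ : Q ⟶ X} {sndQ : Q ⟶ (yon S).obj ζ.pt}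
    (sqQ : IsPullback fstQ sndQ f ζ.toHom) (x : Points X)
    (hqf : HasAtMor (fun U _ h u => ∃ W : U.Opens, u ∈ W ∧ LocallyQuasiFinite (W.ι ≫ h) ∧
        LocallyOfFiniteType (W.ι ≫ h)) f x) (π : Points Q) (hπ : Points.map fstQ π = x) :
    IsOpen ({π} : Set (Points Q)) := by
  obtain ⟨X₀', V, a', b, h', x₀', ha', hb, comm', hx₀', O, hO, hlqf, -⟩ := hqf
  let X₀ : Over S := Over.mk (O.ι ≫ X₀'.hom)
  let ι : X₀ ⟶ X₀' := Over.homMk O.ι rfl
  obtain ⟨x₀, hx₀⟩ : ∃ x₀ : ↥X₀.left, ι.left x₀ = x₀' := ⟨⟨x₀', hO⟩, rfl⟩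
  have ha : RepWith @Etale ((yon S).map ι ≫ a') :=
    repWith_comp _ ((repWith_yon_map_iff _ _).2 (inferInstance : Etale O.ι)) ha'
  have comm : ((yon S).map ι ≫ a') ≫ f = (yon S).map (ι ≫ h') ≫ b := by
    rw [Category.assoc, comm', Functor.map_comp, Category.assoc]
  have hrep := hY.representable_from_yon ζ.toHom
  have sqT := hrep.isPullback' (((yon S).map ι ≫ a') ≫ f)
  have hlqf₂ : LocallyQuasiFinite (hrep.fst' (((yon S).map ι ≫ a') ≫ f)).left :=
    lqf_fst'_of_chart hY ζ _ b (ι ≫ h') hb comm hlqf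
  have hdisc : DiscreteTopology ↥(hrep.pullback (((yon S).map ι ≫ a') ≫ f)).left := by
    have hd := (hrep.fst' (((yon S).map ι ≫ a') ≫ f)).left.isDiscrete_preimage_singleton
      (IsLocalRing.closedPoint ζ.K : ↥(Spec (CommRingCat.of ζ.K)))
    have huniv : (hrep.fst' (((yon S).map ι ≫ a') ≫ f)).left ⁻¹' {(IsLocalRing.closedPoint ζ.K :
        ↥(Spec (CommRingCat.of ζ.K)))} = Set.univ := by
      ext w
      have : Subsingleton ↥ζ.pt.left := subsingleton_spec_field ζ.K
      simp only [Set.mem_preimage, Set.mem_univ, iff_true]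
      exact Subsingleton.elim _ _
    have hd' : _root_.IsDiscrete (Set.univ :
        Set ↥(hrep.pullback (((yon S).map ι ≫ a') ≫ f)).left) := by
      convert hd
      exact huniv.symm
    exact isDiscrete_univ_iff.1 hd'
  let m : (yon S).obj (hrep.pullback (((yon S).map ι ≫ a') ≫ f)) ⟶ Q :=
    sqQ.lift ((yon S).map (hrep.snd (((yon S).map ι ≫ a') ≫ f)) ≫ ((yon S).map ι ≫ a'))
      ((yon S).map (hrep.fst' (((yon S).map ι ≫ a') ≫ f)))
      ((Category.assoc _ _ _).trans sqT.w.symm)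
  have sqM : IsPullback m ((yon S).map (hrep.snd (((yon S).map ι ≫ a') ≫ f))) fstQ
      ((yon S).map ι ≫ a') := by
    refine IsPullback.of_right ?_ (sqQ.lift_fst _ _ _) sqQ.flip
    rw [sqQ.lift_snd]
    exact sqT
  have hm : RepWith @Etale m := repWith_of_isPullback _ sqM.flip ha
  have e : Points.map fstQ π = Points.map ((yon S).map ι ≫ a') (Points.ofScheme X₀ x₀) := by
    rw [hπ, Points.map_ofPt, Category.id_comp, ofPt_yon_map_comp, hx₀, hx₀']
  obtain ⟨τ, hτ, -⟩ := points_exists_of_isPullback sqM π _ e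
  obtain ⟨τ, rfl⟩ := (Points.schemeHomeo _).surjective τ
  have hτ' : Points.ofPt m τ = π := by
    rw [Points.ofPt_eq_map_ofScheme m]
    exact hτ
  have := isOpenMap_ofPt m hm {τ} (isOpen_discrete _)
  rwa [Set.image_singleton, hτ'] at this

set_option backward.isDefEq.respectTransparency.types false in
theorem finite_fibre_pullback_of_quasiFiniteAt {X Y Z W : Sp S} (hX : IsAlgSpace X)
    (hY : IsAlgSpace Y) (f : X ⟶ Y) (g : Z ⟶ Y) (p : W ⟶ X) (q : W ⟶ Z)
    (hW : IsPullback p q f g) (x : Points X) (z : Points Z)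
    (hft : IsFiniteTypeMor f)
    (hf : HasAtMor (fun U _ h u => ∃ W : U.Opens, u ∈ W ∧ LocallyQuasiFinite (W.ι ≫ h) ∧
      LocallyOfFiniteType (W.ι ≫ h)) f x) :
    {w : Points W | Points.map p w = x ∧ Points.map q w = z}.Finite := by
  induction z using Points.ind with
  | h ζZ =>
  let ζ : FieldPt Y := ζZ.map g
  have hζ : ζ.toHom = ζZ.toHom ≫ g := FieldPt.toHom_map g ζZ
  have sqQ := IsPullback.of_hasPullback f ζ.toHom
  have hQqc : IsQuasiCompactSp (pullback f ζ.toHom) :=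
    hft.2 (IsAlgSpace.yon_obj ζ.pt) ((isQuasiCompactSp_yon_iff _).2
      (inferInstanceAs (CompactSpace ↥(Spec (CommRingCat.of ζ.K))))) ζ.toHom _ _ sqQ
  have hQl : LocP @LocallyOfFiniteType (pullback.snd f ζ.toHom) :=
    locP_baseChange etLocal_lft hX hY (IsAlgSpace.yon_obj ζ.pt) f ζ.toHom _ _ sqQ hft.1
  have hfin := finite_open_points_of_lft_field hQqc ζ.str (pullback.snd f ζ.toHom) hQl
  have key : ∀ (t : (yon S).obj ζ.pt ⟶ Y), t = ζ.toHom →
      IsPullback (pullback.fst f ζ.toHom) (pullback.snd f ζ.toHom) f t := by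
    rintro _ rfl
    exact sqQ
  have sqQ' := key (ζZ.toHom ≫ g) hζ.symm
  let m : pullback f ζ.toHom ⟶ W :=
    hW.lift (pullback.fst f ζ.toHom) (pullback.snd f ζ.toHom ≫ ζZ.toHom) (by
      rw [Category.assoc]; exact sqQ'.w)
  have sqM : IsPullback m (pullback.snd f ζ.toHom) q ζZ.toHom := by
    refine IsPullback.of_right ?_ (hW.lift_snd _ _ _) hW
    have h1 : m ≫ p = pullback.fst f ζ.toHom := hW.lift_fst _ _ _
    rw [h1]
    exact sqQ'
  refine (hfin.image (Points.map m)).subset ?_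
  rintro w ⟨hw1, hw2⟩
  have e : Points.map q w = Points.map ζZ.toHom
      (Points.ofScheme ζZ.pt (IsLocalRing.closedPoint ζZ.K : ↥(Spec (CommRingCat.of ζZ.K)))) := by
    rw [hw2, Points.map_ofPt, Category.id_comp, Points.ofPt_toHom]
  obtain ⟨π, hπ1, -⟩ := points_exists_of_isPullback sqM w _ e
  refine ⟨π, ?_, hπ1⟩
  refine isOpen_point_of_quasiFiniteAt hY ζ sqQ x hf π ?_
  have : m ≫ p = pullback.fst f ζ.toHom := hW.lift_fst _ _ _
  rw [← this, Points.map_comp, hπ1, hw1]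

end Groth.Agent.Lib.Helper14.AS
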