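import Groth.Agent.Lib.Helper14.AlgSpFieldQC
import Groth.Agent.Lib.Helper14.AlgSpFibrePt7
import Groth.Agent.Lib.Helper14.FppfLocalInst2

open CategoryTheory CategoryTheory.Limits AlgebraicGeometry Opposite AlgSp
open CategoryTheory.Functor Groth.Agent.Lib.Helper14.AS

universe u

noncomputable section

namespace Groth.Agent.Lib.Helper14.AS

variable {S : Scheme.{u}}

set_option backward.isDefEq.respectTransparency.types false in
/-- A field point whose kernel pair is finite has in its class a monomorphic field point through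
which it factors. -/
theorem exists_mono_point_of_finite_kernel_pair {X : Sp S} (q : FieldPt X) {R : Over S}
    (r1 r2 : R ⟶ q.pt) (sqR : IsPullback ((yon S).map r1) ((yon S).map r2) q.toHom q.toHom)
    (hfin : IsFinite r1.left) :
    ∃ (P : FieldPt X) (π : q.pt ⟶ P.pt), (yon S).map π ≫ P.toHom = q.toHom ∧ Mono P.toHom ∧
      Points.mk P = Points.mk q := by
  obtain ⟨k, _, str', π, p, hπp, hpm, -, -, -, -⟩ :=
    exists_field_quotient q.str q.toHom _ _ sqR hfin
  let P : FieldPt X := ⟨k, str', (J S).uliftYonedaEquiv p⟩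
  have hP : P.toHom = p := Equiv.symm_apply_apply _ _
  refine ⟨P, π, by rw [hP]; exact hπp, by rw [hP]; exact hpm, ?_⟩
  have h1 := Points.ofPt_toHom P (IsLocalRing.closedPoint k : ↥(Spec (CommRingCat.of k)))
  have h2 := Points.ofPt_toHom q
    (IsLocalRing.closedPoint q.K : ↥(Spec (CommRingCat.of q.K)))
  rw [← h1, ← h2, hP, ← hπp, ofPt_yon_map_comp]
  congr 1
  exact Subsingleton.elim (α := ↥(Spec (CommRingCat.of k))) _ _

set_option backward.isDefEq.respectTransparency.types false in
/-- Stage A: if the fibre of `U ×_X U → X` over the image of `u` is finite, then that point is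
represented by a monomorphism from the spectrum of a field. -/
theorem exists_mono_point_of_finite_fibre {X : Sp S} (hX : IsAlgSpace X) {U : Over S}
    (φ : (yon S).obj U ⟶ X) (hφ : RepWith @Etale φ) (u : ↥U.left) {R : Over S} (s t : R ⟶ U)
    (sq : IsPullback ((yon S).map t) ((yon S).map s) φ φ)
    (hfin : (Points.ofPt ((yon S).map t ≫ φ) ⁻¹' {Points.ofPt φ u}).Finite) :
    ∃ p : FieldPt X, Points.mk p = Points.ofPt φ u ∧ Mono p.toHom := by
  let q : FieldPt X := FieldPt.ofPt φ u
  let g : q.pt ⟶ U := Over.homMk (U.left.fromSpecResidueField u) rfl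
  have hgm : Mono g.left := (inferInstance : Mono (U.left.fromSpecResidueField u))
  have hgm' : Mono g := (Over.forget S).mono_of_mono_map hgm
  have hc : q.toHom = (yon S).map g ≫ φ := FieldPt.toHom_ofPt φ u
  have hrep : Representable q.toHom := repDiag_of_isAlgSpace hX _
  have sqR := hrep.isPullback' q.toHom
  set r1 := hrep.fst' q.toHom with hr1
  set r2 := hrep.snd q.toHom with hr2
  have cond : (yon S).map (r1 ≫ g) ≫ φ = (yon S).map (r2 ≫ g) ≫ φ := by
    rw [Functor.map_comp, Functor.map_comp, Category.assoc, Category.assoc, ← hc]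
    exact sqR.w
  obtain ⟨m, hm⟩ := (yon S).map_surjective (sq.lift _ _ cond)
  have hmt : m ≫ t = r1 ≫ g :=
    (yon S).map_injective (by rw [Functor.map_comp, hm, sq.lift_fst])
  have hms : m ≫ s = r2 ≫ g :=
    (yon S).map_injective (by rw [Functor.map_comp, hm, sq.lift_snd])
  have hmm : Mono m := by
    constructor
    intro Z a b hab
    have e1 : a ≫ r1 = b ≫ r1 := by
      rw [← cancel_mono g, Category.assoc, Category.assoc, ← hmt, ← Category.assoc,
        ← Category.assoc, hab]
    have e2 : a ≫ r2 = b ≫ r2 := by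
      rw [← cancel_mono g, Category.assoc, Category.assoc, ← hms, ← Category.assoc,
        ← Category.assoc, hab]
    apply (yon S).map_injective
    apply sqR.hom_ext
    · rw [← Functor.map_comp, ← Functor.map_comp, e1]
    · rw [← Functor.map_comp, ← Functor.map_comp, e2]
  have hmm' : Mono m.left := inferInstance
  have hinj : Function.Injective m.left := m.left.injective
  have himg : ∀ r, m.left r ∈ Points.ofPt ((yon S).map t ≫ φ) ⁻¹' {Points.ofPt φ u} := by
    intro r
    rw [Set.mem_preimage, Set.mem_singleton_iff, ← ofPt_yon_map_comp, ← Category.assoc,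
      ← Functor.map_comp, hmt, Functor.map_comp, Category.assoc, ← hc, ofPt_yon_map_comp,
      Points.ofPt_toHom]
    rfl
  have hfinT : Finite ↥(hrep.pullback q.toHom).left := by
    have := hfin.to_subtype
    exact Finite.of_injective (fun r => (⟨m.left r, himg r⟩ :
      ↥(Points.ofPt ((yon S).map t ≫ φ) ⁻¹' {Points.ofPt φ u})))
      (fun a b hab => hinj (Subtype.ext_iff.1 hab))
  have hcpt : CompactSpace ↥(hrep.pullback q.toHom).left := Finite.compactSpace
  have haff : IsAffine (Over.mk q.str).left :=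
    inferInstanceAs (IsAffine (Spec (CommRingCat.of q.K)))
  have hqc : QuasiCompact r2.left :=
    (HasAffineProperty.iff_of_isAffine (P := @QuasiCompact) (f := r2.left)).2 hcpt
  have sqR' : IsPullback ((yon S).map r1) ((yon S).map r2) ((yon S).map g ≫ φ)
      ((yon S).map g ≫ φ) := by
    rw [← hc]; exact sqR
  obtain ⟨het, -⟩ := etale_kernel_pair_of_mono_field φ hφ q.str g _ _ sqR'
  have hlqf : LocallyQuasiFinite r2.left := etale_locallyQuasiFinite _
  have hart : IsLocallyArtinian (Over.mk q.str).left :=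
    inferInstanceAs (IsLocallyArtinian (Spec (CommRingCat.of q.K)))
  have hfin' : IsFinite r2.left := IsFinite.of_locallyQuasiFinite _
  obtain ⟨P, π, -, hPm, hPq⟩ := exists_mono_point_of_finite_kernel_pair q r2 r1 sqR.flip hfin'
  exact ⟨P, hPq, hPm⟩


set_option backward.isDefEq.respectTransparency.types false in
/-- Stage B: a monomorphic field point whose class has finite fibres in all affine etale charts
is quasi-compact. -/
theorem repWith_quasiCompact_of_mono_of_finite_fibres {X : Sp S} (hX : IsAlgSpace X)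
    (P : FieldPt X) (hm : Mono P.toHom)
    (H : ∀ (V : Over S) (b : (yon S).obj V ⟶ X), IsAffine V.left → RepWith @Etale b →
      (Points.ofPt b ⁻¹' {Points.mk P}).Finite) :
    RepWith @QuasiCompact P.toHom := by
  obtain ⟨U₀, a₀, hae, has⟩ := hX.atlas
  have hrepP : Representable P.toHom := repDiag_of_isAlgSpace hX _
  have sq := hae.rep.isPullback' P.toHom
  have hls : Sheaf.IsLocallySurjective a₀ :=
    isLocallySurjective_of_repWith a₀ (repWith_mono etale_le_flat hae)
      (repWith_mono etale_le_lfp hae) has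
  rw [repWith_iff_of_chart hrepP a₀ sq.flip @QuasiCompact]
  have hmono : Mono ((yon S).map (hae.rep.fst' P.toHom)) :=
    (MorphismProperty.monomorphisms _).of_isPullback sq.flip hm
  have hm2 : Mono (hae.rep.fst' P.toHom) := (yon S).mono_of_mono_map hmono
  have hm3 : Mono (hae.rep.fst' P.toHom).left := inferInstance
  have hinj : Function.Injective (hae.rep.fst' P.toHom).left :=
    (hae.rep.fst' P.toHom).left.injective
  rw [quasiCompact_iff_forall_isAffineOpen]
  intro N hN
  let V : Over S := Over.mk (N.ι ≫ U₀.hom)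
  let ι : V ⟶ U₀ := Over.homMk N.ι rfl
  have hb : RepWith @Etale ((yon S).map ι ≫ a₀) :=
    repWith_comp _ ((repWith_yon_map_iff _ _).2 (inferInstance : Etale N.ι)) hae
  have hfinV := H V ((yon S).map ι ≫ a₀) hN hb
  have hF : (ι.left '' (Points.ofPt ((yon S).map ι ≫ a₀) ⁻¹' {Points.mk P})).Finite :=
    hfinV.image _
  have hpre := hF.preimage (hinj.injOn (s := _))
  refine (hpre.subset ?_).isCompact
  intro w hw
  have hwN : (hae.rep.fst' P.toHom).left w ∈ N := hw
  refine ⟨⟨_, hwN⟩, ?_, rfl⟩
  rw [Set.mem_preimage, Set.mem_singleton_iff, ofPt_yon_map_comp]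
  have : ι.left ⟨_, hwN⟩ = (hae.rep.fst' P.toHom).left w := rfl
  rw [this, ← ofPt_yon_map_comp, sq.w, ofPt_yon_map_comp, Points.ofPt_toHom]


set_option backward.isDefEq.respectTransparency.types false in
/-- (1) ⇒ (4). -/
theorem exists_mono_qc_point_of_finite_fibres {X : Sp S} (hX : IsAlgSpace X) (x : Points X)
    (H : ∀ (U : Over S) (φ : (yon S).obj U ⟶ X), IsAffine U.left → RepWith @Etale φ →
        ∀ (R : Over S) (s t : R ⟶ U), IsPullback ((yon S).map t) ((yon S).map s) φ φ →
          (Points.ofPt φ ⁻¹' {x}).Finite ∧ (Points.ofPt ((yon S).map t ≫ φ) ⁻¹' {x}).Finite) :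
    ∃ p : FieldPt X, Points.mk p = x ∧ Mono p.toHom ∧ RepWith @QuasiCompact p.toHom := by
  obtain ⟨U₀, a₀, hae, has⟩ := hX.atlas
  obtain ⟨u₀, hu₀⟩ := ofPt_surjective_of_repWith has x
  obtain ⟨N, hN, huN, -⟩ := exists_isAffineOpen_mem_and_subset (x := u₀) (U := ⊤) trivial
  let V : Over S := Over.mk (N.ι ≫ U₀.hom)
  let ι : V ⟶ U₀ := Over.homMk N.ι rfl
  have hb : RepWith @Etale ((yon S).map ι ≫ a₀) :=
    repWith_comp _ ((repWith_yon_map_iff _ _).2 (inferInstance : Etale N.ι)) hae
  obtain ⟨n, hn⟩ : ∃ n : ↥V.left, ι.left n = u₀ := ⟨⟨u₀, huN⟩, rfl⟩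
  have e1 : Points.ofPt ((yon S).map ι ≫ a₀) n = x := by
    rw [ofPt_yon_map_comp, hn]; exact hu₀
  have sqV := hb.rep.isPullback' ((yon S).map ι ≫ a₀)
  obtain ⟨-, fin2⟩ := H V _ hN hb _ _ _ sqV
  rw [← e1] at fin2
  obtain ⟨P, hP, hPm⟩ := exists_mono_point_of_finite_fibre hX _ hb n _ _ sqV fin2
  rw [e1] at hP
  refine ⟨P, hP, hPm, repWith_quasiCompact_of_mono_of_finite_fibres hX P hPm ?_⟩
  intro W b hW hbe
  rw [hP]
  exact (H W b hW hbe _ _ _ (hbe.rep.isPullback' b)).1

set_option backward.isDefEq.respectTransparency.types false in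
/-- (4) ⇒ (1). -/
theorem finite_fibres_of_mono_qc_point {X : Sp S} (hX : IsAlgSpace X) (p : FieldPt X)
    (hm : Mono p.toHom) (hq : RepWith @QuasiCompact p.toHom)
    (U : Over S) (φ : (yon S).obj U ⟶ X) (hU : IsAffine U.left) (hφ : RepWith @Etale φ)
    (R : Over S) (s t : R ⟶ U) (sq : IsPullback ((yon S).map t) ((yon S).map s) φ φ) :
    (Points.ofPt φ ⁻¹' {Points.mk p}).Finite ∧
      (Points.ofPt ((yon S).map t ≫ φ) ⁻¹' {Points.mk p}).Finite := by
  have fin1 : (Points.ofPt φ ⁻¹' {Points.mk p}).Finite := by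
    have := fibre_chart_finite_inter φ hφ p hq ⊤ (by
      have : CompactSpace ↥U.left := inferInstance
      exact isCompact_univ)
    simpa using this
  refine ⟨fin1, ?_⟩
  have hfin : (⋃ u ∈ Points.ofPt φ ⁻¹' {Points.mk p}, ⋃ u' ∈ Points.ofPt φ ⁻¹' {Points.mk p},
      {r : ↥R.left | s.left r = u ∧ t.left r = u'}).Finite := by
    refine fin1.biUnion fun u hu => fin1.biUnion fun u' hu' => ?_
    exact finite_relation_fibre_of_mono_point hX (Points.mk p) ⟨p, rfl, hm⟩ φ hφ u u' hu hu'
      R s t sq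
  refine hfin.subset ?_
  intro r hr
  have ht : Points.ofPt φ (t.left r) = Points.mk p := by
    rw [← ofPt_yon_map_comp]; exact hr
  have hs : Points.ofPt φ (s.left r) = Points.mk p := by
    rw [← ofPt_yon_map_comp, ← sq.w]; exact hr
  simp only [Set.mem_iUnion]
  exact ⟨s.left r, hs, t.left r, ht, rfl, rfl⟩

end Groth.Agent.Lib.Helper14.AS
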