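import Groth.Agent.Lib.Helper14.AlgSpQSDecent
import Groth.Agent.Lib.Helper14.AlgSpFieldQC2
import Groth.Agent.Lib.Helper14.FpqcBase4

open CategoryTheory CategoryTheory.Limits AlgebraicGeometry Opposite AlgSp Topology
open CategoryTheory.Functor Groth.Agent.Lib.Helper14.AS

universe u

noncomputable section

namespace Groth.Agent.Lib.Helper14.AS

variable {S : Scheme.{u}}

set_option backward.isDefEq.respectTransparency.types false in
/-- A quasi-separated algebraic space with an etale surjective map from the spectrum of a field is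
the spectrum of a field. -/
theorem exists_iso_spec_field_of_etale_surjective_point {X : Sp S} (hXa : IsAlgSpace X)
    (hX : IsQuasiSeparatedSp X) (k : Type u) [Field k] (str : Spec (CommRingCat.of k) ⟶ S)
    (p : (yon S).obj (Over.mk str) ⟶ X) (hp : RepWith @Etale p) (hs : RepWith @Surjective p) :
    ∃ (k' : Type u) (_ : Field k') (str' : Spec (CommRingCat.of k') ⟶ S)
      (e : (yon S).obj (Over.mk str') ≅ X) (c : Over.mk str ⟶ Over.mk str'),
      (yon S).map c ≫ e.hom = p ∧ IsFinite c.left ∧ Etale c.left := by
  let q : FieldPt X := ⟨k, str, (J S).uliftYonedaEquiv p⟩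
  have hq : q.toHom = p := Equiv.symm_apply_apply _ _
  have hqc : RepWith @QuasiCompact q.toHom :=
    repWith_quasiCompact_toHom_of_isQuasiSeparatedSp hXa hX q
  have sqR := hqc.rep.isPullback' q.toHom
  have hr_qc : QuasiCompact (hqc.rep.snd q.toHom).left := hqc.property_snd _
  have hr_et : Etale (hqc.rep.snd q.toHom).left := by
    have h := hp.property q.toHom ((yon S).map (hqc.rep.fst' q.toHom)) (hqc.rep.snd q.toHom)
      (by rw [← hq]; exact sqR)
    exact h
  have hlqf : LocallyQuasiFinite (hqc.rep.snd q.toHom).left := etale_locallyQuasiFinite _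
  have hart : IsLocallyArtinian (Over.mk q.str).left :=
    inferInstanceAs (IsLocallyArtinian (Spec (CommRingCat.of k)))
  have hfin : IsFinite (hqc.rep.snd q.toHom).left := IsFinite.of_locallyQuasiFinite _
  obtain ⟨k', _, str', c, p', hcp, hpm, hcfin, -, -, -⟩ :=
    exists_field_quotient q.str q.toHom _ _ sqR.flip hfin
  rw [hq] at hcp
  have hepi : Epi p := epi_of_etale_surjective p hp hs
  have hepi' : Epi p' := by
    have : Epi ((yon S).map c ≫ p') := by rw [hcp]; exact hepi
    exact epi_of_epi ((yon S).map c) p'
  have hiso : IsIso p' := isIso_of_mono_of_epi p'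
  refine ⟨k', inferInstance, str', asIso p', c, hcp, hcfin, ?_⟩
  have hce : RepWith @Etale ((yon S).map c) := by
    have : (yon S).map c = p ≫ inv p' := by rw [← hcp, Category.assoc, IsIso.hom_inv_id,
      Category.comp_id]
    rw [this]
    exact (MorphismProperty.cancel_right_of_respectsIso (RepWith @Etale) _ _).2 hp
  exact (repWith_yon_map_iff _ _).1 hce

end Groth.Agent.Lib.Helper14.AS
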