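import Groth.Agent.Lib.Helper14.AlgSpFieldQuot
import Groth.Agent.Lib.Helper14.AlgSpQCMor2
import Groth.Prelude.Def_AlgSpDec

open CategoryTheory CategoryTheory.Limits AlgebraicGeometry Opposite AlgSp
open CategoryTheory.Functor Groth.Agent.Lib.Helper14.AS

universe u

noncomputable section

namespace Groth.Agent.Lib.Helper14.AS

variable {S : Scheme.{u}}

/-- The section corresponding to `h_a ≫ q.toHom`. -/
theorem yEquiv_yon_map_comp_toHom {X : Sp S} (q : FieldPt X) {W : Over S} (a : W ⟶ q.pt) :
    (J S).uliftYonedaEquiv ((yon S).map a ≫ q.toHom) = X.obj.map a.op q.val := by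
  rw [GrothendieckTopology.uliftYonedaEquiv_comp,
    GrothendieckTopology.uliftYonedaEquiv_uliftYoneda_map]
  exact FieldPt.toHom_app q a

/-- Equivalent field points become equal over a common field extension. -/
theorem exists_common_extension {X : Sp S} {q q' : FieldPt X}
    (h : Points.mk q = Points.mk q') :
    ∃ (Ω : Type u) (_ : Field Ω) (w : Spec (CommRingCat.of Ω) ⟶ S) (a : Over.mk w ⟶ q.pt)
      (b : Over.mk w ⟶ q'.pt), (yon S).map a ≫ q.toHom = (yon S).map b ≫ q'.toHom := by
  obtain ⟨Ω, _, w, a, b, hab⟩ := Points.mk_eq_mk_iff.1 h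
  refine ⟨Ω, inferInstance, w, a, b, ?_⟩
  apply (J S).uliftYonedaEquiv.injective
  rw [yEquiv_yon_map_comp_toHom, yEquiv_yon_map_comp_toHom, hab]

set_option backward.isDefEq.respectTransparency.types false in
/-- Quasi-compactness of a field point of an algebraic space depends only on its class. -/
theorem repWith_quasiCompact_of_class {X : Sp S} (hX : IsAlgSpace X) (q q' : FieldPt X)
    (h : Points.mk q = Points.mk q') (hq : RepWith @QuasiCompact q.toHom) :
    RepWith @QuasiCompact q'.toHom := by
  obtain ⟨Ω, _, w, a, b, e⟩ := exists_common_extension h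
  have hqa : QuasiCompact a.left :=
    inferInstanceAs (QuasiCompact (X := Spec (CommRingCat.of Ω)) (Y := Spec (CommRingCat.of q.K))
      a.left)
  have h1 : RepWith @QuasiCompact ((yon S).map a ≫ q.toHom) :=
    repWith_comp _ ((repWith_yon_map_iff _ _).2 hqa) hq
  rw [e] at h1
  have hrep' : Representable q'.toHom := repDiag_of_isAlgSpace hX _
  rw [repWith_quasiCompact_iff_isQuasiCompactMor hrep']
  refine isQuasiCompactMor_of_surjective_triangle (IsAlgSpace.yon_obj _)
    (repDiag_of_isAlgSpace hX) ((yon S).map b) q'.toHom ?_ (isQuasiCompactMor_of_repWith h1)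
  exact isSurjectiveMor_of_subsingleton (subsingleton_points_yon_field q'.str) w _


set_option backward.isDefEq.respectTransparency.types false in
/-- (5) ⇒ (4): a quasi-compact field point of an algebraic space has in its class a
monomorphic quasi-compact field point. -/
theorem exists_mono_qc_point_of_qc {X : Sp S} (hX : IsAlgSpace X) (q : FieldPt X)
    (hq : RepWith @QuasiCompact q.toHom) :
    ∃ p : FieldPt X, Points.mk p = Points.mk q ∧ Mono p.toHom ∧
      RepWith @QuasiCompact p.toHom := by
  obtain ⟨U, a, hae, has⟩ := hX.atlas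
  obtain ⟨u, hu⟩ := ofPt_surjective_of_repWith has (Points.mk q)
  let qT : FieldPt X := FieldPt.ofPt a u
  have hqTmk : Points.mk qT = Points.mk q := hu
  have hqT : RepWith @QuasiCompact qT.toHom :=
    repWith_quasiCompact_of_class hX q qT hqTmk.symm hq
  let g : qT.pt ⟶ U := Over.homMk (U.left.fromSpecResidueField u) rfl
  have hgm : Mono g.left := (inferInstance : Mono (U.left.fromSpecResidueField u))
  have hc : qT.toHom = (yon S).map g ≫ a := FieldPt.toHom_ofPt a u
  have sqR := hqT.rep.isPullback' qT.toHom
  have hqc : QuasiCompact (hqT.rep.snd qT.toHom).left := hqT.property_snd _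
  have sqR' : IsPullback ((yon S).map (hqT.rep.fst' qT.toHom))
      ((yon S).map (hqT.rep.snd qT.toHom)) ((yon S).map g ≫ a) ((yon S).map g ≫ a) := by
    rw [← hc]; exact sqR
  obtain ⟨het, -⟩ := etale_kernel_pair_of_mono_field a hae qT.str g _ _ sqR'
  have hlqf : LocallyQuasiFinite (hqT.rep.snd qT.toHom).left := etale_locallyQuasiFinite _
  have hart : IsLocallyArtinian (Over.mk qT.str).left :=
    inferInstanceAs (IsLocallyArtinian (Spec (CommRingCat.of qT.K)))
  have hfin : IsFinite (hqT.rep.snd qT.toHom).left := IsFinite.of_locallyQuasiFinite _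
  obtain ⟨k, _, str', π, p, hπp, hpm, hπfin, hπflat, hπsurj, hπlfp⟩ :=
    exists_field_quotient qT.str qT.toHom _ _ sqR.flip hfin
  let P : FieldPt X := ⟨k, str', (J S).uliftYonedaEquiv p⟩
  have hP : P.toHom = p := Equiv.symm_apply_apply _ _
  refine ⟨P, ?_, by rw [hP]; exact hpm, ?_⟩
  · rw [← hqTmk]
    have h1 := Points.ofPt_toHom P (IsLocalRing.closedPoint k : ↥(Spec (CommRingCat.of k)))
    have h2 := Points.ofPt_toHom qT
      (IsLocalRing.closedPoint qT.K : ↥(Spec (CommRingCat.of qT.K)))
    rw [← h1, ← h2, hP, ← hπp, ofPt_yon_map_comp]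
    congr 1
    exact Subsingleton.elim (α := ↥(Spec (CommRingCat.of k))) _ _
  · rw [hP]
    have hrep' : Representable p := repDiag_of_isAlgSpace hX _
    rw [repWith_quasiCompact_iff_isQuasiCompactMor hrep']
    refine isQuasiCompactMor_of_surjective_triangle (IsAlgSpace.yon_obj _)
      (repDiag_of_isAlgSpace hX) ((yon S).map π) p ?_ ?_
    · exact isSurjectiveMor_of_subsingleton (subsingleton_points_yon_field str') qT.str _
    · rw [hπp]; exact isQuasiCompactMor_of_repWith hqT

end Groth.Agent.Lib.Helper14.AS
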