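import Mathlib

universe u

namespace Groth.Agent.Lib.Helper14.FG

open TensorProduct

variable {K : Type u} [Field K] {A : Type u} [CommRing A]

/-- `A` as a `K`-algebra through `f`. -/
def Tw (f : K →+* A) : Type u := A

namespace Tw

variable (f : K →+* A)

instance : CommRing (Tw f) := inferInstanceAs (CommRing A)

instance : Algebra K (Tw f) := RingHom.toAlgebra (show K →+* Tw f from f)

/-- The identity ring isomorphism. -/
def of : A ≃+* Tw f := RingEquiv.refl A

theorem algebraMap_apply (x : K) : algebraMap K (Tw f) x = of f (f x) := rfl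

theorem smul_def' (x : K) (a : Tw f) : x • a = of f (f x) * a := rfl

end Tw

/-- The relation induced by `(s, t)` on `B`-valued points of `K`. -/
def PtRel (s t : K →+* A) {B : Type u} [CommRing B] (σ τ : K →+* B) : Prop :=
  ∃ ρ : A →+* B, ρ.comp s = σ ∧ ρ.comp t = τ

/-- Transitivity of the induced relation on points. -/
def PtTrans (s t : K →+* A) : Prop :=
  ∀ (B : Type u) [CommRing B] (σ σ' τ : K →+* B), PtRel s t σ σ' → PtRel s t σ' τ → PtRel s t σ τ

/-- `(s, t)` are jointly epimorphic. -/
def JointlyEpi (s t : K →+* A) : Prop :=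
  ∀ (B : Type u) [CommRing B] (ρ ρ' : A →+* B), ρ.comp s = ρ'.comp s → ρ.comp t = ρ'.comp t →
    ρ = ρ'

/-- The subfield of invariants. -/
def invField (s t : K →+* A) : Subfield K where
  carrier := {x | s x = t x}
  mul_mem' := by
    intro a b ha hb
    simp only [Set.mem_setOf_eq] at *
    rw [map_mul, map_mul, ha, hb]
  one_mem' := by simp
  add_mem' := by
    intro a b ha hb
    simp only [Set.mem_setOf_eq] at *
    rw [map_add, map_add, ha, hb]
  zero_mem' := by simp
  neg_mem' := by
    intro a ha
    simp only [Set.mem_setOf_eq] at *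
    rw [map_neg, map_neg, ha]
  inv_mem' := by
    intro x hx
    simp only [Set.mem_setOf_eq] at *
    by_cases h0 : x = 0
    · subst h0; simp
    have h1 : s x * s x⁻¹ = 1 := by rw [← map_mul, mul_inv_cancel₀ h0, map_one]
    have h2 : t x * t x⁻¹ = 1 := by rw [← map_mul, mul_inv_cancel₀ h0, map_one]
    calc s x⁻¹ = s x⁻¹ * (t x * t x⁻¹) := by rw [h2, mul_one]
      _ = (s x * s x⁻¹) * t x⁻¹ := by rw [← hx]; ring
      _ = t x⁻¹ := by rw [h1, one_mul]

theorem mem_invField {s t : K →+* A} {x : K} : x ∈ invField s t ↔ s x = t x := Iff.rfl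

/-- Key step of the Artin argument: a relation `∑ s(xᵢ) t(yᵢ) = 0` yields, for every `K`-linear
functional `φ` on `A` (through `t`), the relation `∑ s(φ(s xᵢ - t xᵢ)) t(yᵢ) = 0`. -/
theorem key_step (s t : K →+* A) (hT : PtTrans s t) {r : ℕ} (x y : Fin r → K)
    (hrel : ∑ i, s (x i) * t (y i) = 0) (φ : Tw t →ₗ[K] K) :
    ∑ i, s (φ (Tw.of t (s (x i) - t (x i)))) * t (y i) = 0 := by
  -- the test ring
  let B := Tw t ⊗[K] Tw s
  let ρ : A →+* B := (Algebra.TensorProduct.includeLeft (R := K) (S := K) (A := Tw t)
    (B := Tw s)).toRingHom.comp (Tw.of t).toRingHom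
  let ρ' : A →+* B := (Algebra.TensorProduct.includeRight (R := K) (A := Tw t)
    (B := Tw s)).toRingHom.comp (Tw.of s).toRingHom
  have hmid : ρ.comp t = ρ'.comp s := by
    ext a
    change (Tw.of t (t a)) ⊗ₜ[K] (1 : Tw s) = (1 : Tw t) ⊗ₜ[K] (Tw.of s (s a))
    rw [← Tw.algebraMap_apply, ← Tw.algebraMap_apply, Algebra.algebraMap_eq_smul_one,
      Algebra.algebraMap_eq_smul_one, TensorProduct.smul_tmul]
  obtain ⟨ρ'', h1, h2⟩ := hT B (ρ.comp s) (ρ.comp t) (ρ'.comp t) ⟨ρ, rfl, rfl⟩ ⟨ρ', hmid.symm, rfl⟩
  have hα : ∑ i, ρ (s (x i)) * ρ' (t (y i)) = 0 := by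
    have := congrArg ρ'' hrel
    rw [map_sum, map_zero] at this
    rw [← this]
    refine Finset.sum_congr rfl fun i _ => ?_
    rw [map_mul]
    congr 1
    · exact (RingHom.congr_fun h1 (x i)).symm
    · exact (RingHom.congr_fun h2 (y i)).symm
  have hβ : ∑ i, ρ (t (x i)) * ρ' (t (y i)) = 0 := by
    have := congrArg ρ' hrel
    rw [map_sum, map_zero] at this
    rw [← this]
    refine Finset.sum_congr rfl fun i _ => ?_
    rw [map_mul]
    congr 1
    exact RingHom.congr_fun hmid (x i)
  have hγ : ∑ i, (Tw.of t (s (x i) - t (x i))) ⊗ₜ[K] (Tw.of s (t (y i))) = (0 : B) := by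
    have : ∑ i, (ρ (s (x i)) * ρ' (t (y i)) - ρ (t (x i)) * ρ' (t (y i))) = 0 := by
      rw [Finset.sum_sub_distrib, hα, hβ, sub_zero]
    rw [← this]
    refine Finset.sum_congr rfl fun i _ => ?_
    rw [← sub_mul, ← map_sub]
    change _ = ((Tw.of t (s (x i) - t (x i))) ⊗ₜ[K] (1 : Tw s)) *
      ((1 : Tw t) ⊗ₜ[K] (Tw.of s (t (y i))))
    rw [Algebra.TensorProduct.tmul_mul_tmul, mul_one, one_mul]
  -- apply `φ ⊗ id`
  let Φ : B →ₗ[K] Tw s := (TensorProduct.lid K (Tw s)).toLinearMap ∘ₗ LinearMap.rTensor (Tw s) φ
  have := congrArg Φ hγ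
  rw [map_sum, map_zero] at this
  have h3 : ∀ i, Φ ((Tw.of t (s (x i) - t (x i))) ⊗ₜ[K] (Tw.of s (t (y i)))) =
      Tw.of s (s (φ (Tw.of t (s (x i) - t (x i)))) * t (y i)) := by
    intro i
    simp only [Φ, LinearMap.comp_apply, LinearEquiv.coe_coe]
    rw [LinearMap.rTensor_tmul, TensorProduct.lid_tmul, Tw.smul_def', map_mul]
  simp_rw [h3] at this
  rw [← map_sum] at this
  exact (Tw.of s).injective (by rw [this, map_zero])


/-- Artin-type independence: for a `k`-linearly independent family `y` in `K` (with `k` the
invariant subfield), a relation `∑ s(xᵢ) t(yᵢ) = 0` forces `x = 0`. -/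
theorem artin_independence [Nontrivial A] (s t : K →+* A) (hT : PtTrans s t) :
    ∀ (r : ℕ) (y : Fin r → K), LinearIndependent (invField s t) y → ∀ x : Fin r → K,
      ∑ i, s (x i) * t (y i) = 0 → x = 0 := by
  intro r
  induction r with
  | zero => intro y _ x _; funext i; exact i.elim0
  | succ r ih =>
    intro y hy x hrel
    have hytail : LinearIndependent (invField s t) (fun i : Fin r => y i.succ) :=
      hy.comp Fin.succ (Fin.succ_injective _)
    -- a relation with vanishing first coefficient is zero
    have hcase0 : ∀ z : Fin (r + 1) → K, z 0 = 0 → ∑ i, s (z i) * t (y i) = 0 → z = 0 := by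
      intro z hz0 hz
      rw [Fin.sum_univ_succ, hz0, map_zero, zero_mul, zero_add] at hz
      have := ih (fun i => y i.succ) hytail (fun i => z i.succ) hz
      funext i
      refine Fin.cases hz0 (fun j => ?_) i
      exact congrFun this j
    by_cases hx0 : x 0 = 0
    · exact hcase0 x hx0 hrel
    · exfalso
      let x' : Fin (r + 1) → K := fun i => (x 0)⁻¹ * x i
      have hrel' : ∑ i, s (x' i) * t (y i) = 0 := by
        have : ∑ i, s (x' i) * t (y i) = s (x 0)⁻¹ * ∑ i, s (x i) * t (y i) := by
          rw [Finset.mul_sum]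
          refine Finset.sum_congr rfl fun i _ => ?_
          simp only [x', map_mul]
          ring
        rw [this, hrel, mul_zero]
      have hx'0 : x' 0 = 1 := inv_mul_cancel₀ hx0
      -- all `x' i` are invariant
      have hinv : ∀ i, x' i ∈ invField s t := by
        intro i
        rw [mem_invField, ← sub_eq_zero]
        apply (Tw.of t).injective
        rw [map_zero]
        rw [← Module.forall_dual_apply_eq_zero_iff K]
        intro φ
        have hφ := key_step s t hT x' y hrel' φ
        have hz0 : φ (Tw.of t (s (x' 0) - t (x' 0))) = 0 := by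
          rw [hx'0, map_one, map_one, sub_self, map_zero, map_zero]
        have := hcase0 (fun i => φ (Tw.of t (s (x' i) - t (x' i)))) hz0 hφ
        exact congrFun this i
      -- hence a `k`-linear relation among the `y i`
      have hsum : ∑ i, x' i * y i = 0 := by
        apply (RingHom.injective t)
        rw [map_sum, map_zero, ← hrel']
        refine Finset.sum_congr rfl fun i _ => ?_
        rw [map_mul, ← mem_invField.1 (hinv i)]
      have hsum' : ∑ i, (⟨x' i, hinv i⟩ : invField s t) • y i = 0 := by
        rw [← hsum]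
        rfl
      have := (Fintype.linearIndependent_iff.1 hy) (fun i => ⟨x' i, hinv i⟩) hsum' 0
      have h10 : x' 0 = 0 := congrArg Subtype.val this
      rw [hx'0] at h10
      exact one_ne_zero h10


/-- The images `t(yᵢ)` of a `k`-independent family are `K`-independent in `A` (through `s`). -/
theorem linearIndependent_t [Nontrivial A] (s t : K →+* A) (hT : PtTrans s t) {r : ℕ}
    (y : Fin r → K) (hy : LinearIndependent (invField s t) y) :
    LinearIndependent K (fun i => Tw.of s (t (y i))) := by
  rw [Fintype.linearIndependent_iff]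
  intro x hx
  have h1 : ∑ i, s (x i) * t (y i) = 0 := by
    apply (Tw.of s).injective
    rw [map_zero, ← hx, map_sum]
    refine Finset.sum_congr rfl fun i _ => ?_
    rw [Tw.smul_def', map_mul]
  exact congrFun (artin_independence s t hT r y hy x h1)

/-- `K` is finite over the invariant subfield, of degree at most the rank of `A`. -/
theorem finite_over_invField [Nontrivial A] (s t : K →+* A) (hT : PtTrans s t)
    [Module.Finite K (Tw s)] : Module.Finite (invField s t) K := by
  have hle : Module.rank (invField s t) K ≤ (Module.finrank K (Tw s) : ℕ) := by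
    apply rank_le
    intro F hF
    let e := F.equivFin
    have hy : LinearIndependent (invField s t) (fun i : Fin F.card => ((e.symm i : F) : K)) :=
      hF.comp e.symm e.symm.injective
    have := (linearIndependent_t s t hT _ hy).fintype_card_le_finrank
    simpa using this
  rw [← Module.rank_lt_aleph0_iff]
  exact lt_of_le_of_lt hle (Cardinal.nat_lt_aleph0 _)


/-- The comparison map `K ⊗[k] K → A`, `x ⊗ y ↦ s x * t y`. -/
noncomputable def mu (s t : K →+* A) : K ⊗[invField s t] K →+* A :=
  letI : Algebra (invField s t) A := (s.comp (invField s t).subtype).toAlgebra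
  (Algebra.TensorProduct.productMap
    ({ toRingHom := s, commutes' := fun _ => rfl } : K →ₐ[invField s t] A)
    ({ toRingHom := t, commutes' := fun c => (mem_invField.1 c.2).symm } :
      K →ₐ[invField s t] A)).toRingHom

theorem mu_tmul (s t : K →+* A) (x y : K) : mu s t (x ⊗ₜ y) = s x * t y := by
  letI : Algebra (invField s t) A := (s.comp (invField s t).subtype).toAlgebra
  exact Algebra.TensorProduct.productMap_apply_tmul _ _ x y

theorem mu_injective [Nontrivial A] (s t : K →+* A) (hT : PtTrans s t)
    [Module.Finite K (Tw s)] : Function.Injective (mu s t) := by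
  have hfin := finite_over_invField s t hT
  rw [injective_iff_map_eq_zero]
  intro z hz
  let b := Module.finBasis (invField s t) K
  let B := Algebra.TensorProduct.basis K b
  have hz' : z = ∑ i, (B.repr z i) ⊗ₜ[invField s t] (b i) := by
    conv_lhs => rw [← B.sum_repr z]
    refine Finset.sum_congr rfl fun i _ => ?_
    rw [Algebra.TensorProduct.basis_apply, TensorProduct.smul_tmul', smul_eq_mul, mul_one]
  have h1 : ∑ i, s (B.repr z i) * t (b i) = 0 := by
    have h0 : mu s t z = ∑ i, s (B.repr z i) * t (b i) := by
      conv_lhs => rw [hz']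
      rw [map_sum (mu s t)]
      exact Finset.sum_congr rfl fun i _ => mu_tmul s t _ _
    rw [← h0, hz]
  have h2 := artin_independence s t hT _ (fun i => b i) b.linearIndependent _ h1
  rw [hz']
  refine Finset.sum_eq_zero fun i _ => ?_
  rw [congrFun h2 i]
  exact TensorProduct.zero_tmul _ _

theorem mu_surjective (s t : K →+* A) (hE : JointlyEpi s t) [Module.Finite K (Tw s)] :
    Function.Surjective (mu s t) := by
  let f : CommRingCat.of (K ⊗[invField s t] K) ⟶ CommRingCat.of A := CommRingCat.ofHom (mu s t)
  have hepi : CategoryTheory.Epi f := by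
    refine ⟨fun {Z} g h e => ?_⟩
    have e' : g.hom.comp (mu s t) = h.hom.comp (mu s t) := by
      have := congrArg CommRingCat.Hom.hom e
      simpa [f] using this
    have := hE Z g.hom h.hom ?_ ?_
    · ext a
      exact RingHom.congr_fun this a
    · ext x
      have := RingHom.congr_fun e' (x ⊗ₜ 1)
      simpa [mu_tmul] using this
    · ext y
      have := RingHom.congr_fun e' (1 ⊗ₜ y)
      simpa [mu_tmul] using this
  have hfin : RingHom.Finite f.hom := by
    have hs : (s : K →+* A).Finite := by
      change Module.Finite K (Tw s)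
      infer_instance
    have hcomp : s = (mu s t).comp
        (Algebra.TensorProduct.includeLeftRingHom (R := invField s t) (A := K) (B := K)) := by
      ext x
      simp [mu_tmul]
    rw [hcomp] at hs
    exact RingHom.Finite.of_comp_finite hs
  exact RingHom.surjective_of_epi_of_finite f hfin


open CategoryTheory in
/-- The square `k → K ⇉ A` is a pushout of commutative rings. -/
theorem isPushout_invField [Nontrivial A] (s t : K →+* A) (hT : PtTrans s t)
    (hE : JointlyEpi s t) [Module.Finite K (Tw s)] :
    IsPushout (CommRingCat.ofHom (invField s t).subtype)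
      (CommRingCat.ofHom (invField s t).subtype) (CommRingCat.ofHom s) (CommRingCat.ofHom t) := by
  let e : (K ⊗[invField s t] K) ≃+* A :=
    RingEquiv.ofBijective (mu s t) ⟨mu_injective s t hT, mu_surjective s t hE⟩
  refine (CommRingCat.isPushout_tensorProduct (invField s t) K K).of_iso (Iso.refl _)
    (Iso.refl _) (Iso.refl _) e.toCommRingCatIso ?_ ?_ ?_ ?_
  · rfl
  · rfl
  · ext x
    simp only [e]
    change mu s t (x ⊗ₜ 1) = s x
    rw [mu_tmul, map_one, mul_one]
  · ext y
    simp only [e]
    change mu s t (1 ⊗ₜ y) = t y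
    rw [mu_tmul, map_one, one_mul]

end Groth.Agent.Lib.Helper14.FG
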