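import Groth.Agent.Lib.Helper14.AlgSpResidual
import Groth.Agent.Lib.Helper14.FieldGroupoidAlg
import Groth.Agent.Lib.Helper14.SheafQuot2
import Groth.Agent.Lib.Helper14.GActionPts
import Groth.Agent.Lib.Helper14.AlgSpFibrePt5

open CategoryTheory CategoryTheory.Limits AlgebraicGeometry Opposite AlgSp
open CategoryTheory.Functor Groth.Agent.Lib.Helper14.AS

universe u

noncomputable section

namespace Groth.Agent.Lib.Helper14.AS

variable {S : Scheme.{u}}

/-- Descent of a morphism along an epimorphism of sheaves with prescribed kernel pair. -/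
theorem exists_desc_of_epi_kernel_pair {R U M X : Sp S} {r1 r2 : R ⟶ U} {q : U ⟶ M} [Epi q]
    (sq : IsPullback r1 r2 q q) (c : U ⟶ X) (hc : r1 ≫ c = r2 ≫ c) : ∃ p : M ⟶ X, q ≫ p = c := by
  have hreg : IsRegularEpi q := IsRegularEpiCategory.regularEpiOfEpi q
  have heff : EffectiveEpi q := inferInstance
  have hk : IsColimit (Cofork.ofπ q sq.cone.condition) :=
    isColimitCoforkOfEffectiveEpi q sq.cone sq.isLimit
  exact ⟨hk.desc (Cofork.ofπ c hc), hk.fac (Cofork.ofπ c hc) WalkingParallelPair.one⟩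

/-- If `c = q ≫ p` with `q` an epimorphism of sheaves and the kernel pair of `c` is coequalized by
`q`, then `p` is a monomorphism. -/
theorem mono_of_kernel_pair {R U M X : Sp S} {r1 r2 : R ⟶ U} {q : U ⟶ M} [Epi q]
    (c : U ⟶ X) (sqc : IsPullback r1 r2 c c) (w : r1 ≫ q = r2 ≫ q) (p : M ⟶ X)
    (hp : q ≫ p = c) : Mono p := by
  apply mono_of_yon_injective
  intro T x y hxy
  have hls : Sheaf.IsLocallySurjective q := (Sheaf.isLocallySurjective_iff_epi _).2 inferInstance
  obtain ⟨S₁, hS₁, hl₁⟩ := exists_cover_lift q x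
  obtain ⟨S₂, hS₂, hl₂⟩ := exists_cover_lift q y
  have hS₁' : Sieve.generate S₁ ∈ J S T := by
    rw [J_eq_toGrothendieck]; exact Precoverage.generate_mem_toGrothendieck hS₁
  have hS₂' : Sieve.generate S₂ ∈ J S T := by
    rw [J_eq_toGrothendieck]; exact Precoverage.generate_mem_toGrothendieck hS₂
  refine yon_hom_ext_of_cover x y _ ((J S).intersection_covering hS₁' hS₂') ?_
  rintro W w' ⟨⟨W₁, v₁, w₁, hw₁, rfl⟩, ⟨W₂, v₂, w₂, hw₂, e₂⟩⟩
  obtain ⟨a₀, ha₀⟩ := hl₁ w₁ hw₁
  obtain ⟨b₀, hb₀⟩ := hl₂ w₂ hw₂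
  obtain ⟨a, haπ⟩ : ∃ a : (yon S).obj W ⟶ U, a ≫ q = (yon S).map (v₁ ≫ w₁) ≫ x :=
    ⟨(yon S).map v₁ ≫ a₀, by rw [Category.assoc, ha₀, Functor.map_comp, Category.assoc]⟩
  obtain ⟨b, hbπ⟩ : ∃ b : (yon S).obj W ⟶ U, b ≫ q = (yon S).map (v₁ ≫ w₁) ≫ y :=
    ⟨(yon S).map v₂ ≫ b₀, by rw [Category.assoc, hb₀, ← e₂, Functor.map_comp, Category.assoc]⟩
  have hab : a ≫ c = b ≫ c := by
    rw [← hp, ← Category.assoc, haπ, ← Category.assoc, hbπ, Category.assoc, Category.assoc, hxy]
  rw [← haπ, ← hbπ]
  have h1 := sqc.lift_fst a b hab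
  have h2 := sqc.lift_snd a b hab
  calc a ≫ q = (sqc.lift a b hab ≫ r1) ≫ q := by rw [h1]
    _ = (sqc.lift a b hab ≫ r2) ≫ q := by rw [Category.assoc, Category.assoc, w]
    _ = b ≫ q := by rw [h2]


open Groth.Agent.Lib.Helper14.FG in
set_option backward.isDefEq.respectTransparency.types false in
/-- The ring-level transitivity and joint epimorphy conditions for a kernel pair of affine
schemes. -/
theorem ptTrans_jointlyEpi_of_kernel_pair {X : Sp S} {K A : Type u} [Field K] [CommRing A]
    (str : Spec (CommRingCat.of K) ⟶ S) (strA : Spec (CommRingCat.of A) ⟶ S)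
    (c : (yon S).obj (Over.mk str) ⟶ X) (r1 r2 : Over.mk strA ⟶ Over.mk str)
    (sqR : IsPullback ((yon S).map r1) ((yon S).map r2) c c)
    (s t : CommRingCat.of K ⟶ CommRingCat.of A) (hs : Spec.map s = r1.left)
    (ht : Spec.map t = r2.left) : PtTrans s.hom t.hom ∧ JointlyEpi s.hom t.hom := by
  have hw1 : Spec.map s ≫ str = strA := by rw [hs]; exact Over.w r1
  have hw2 : Spec.map t ≫ str = strA := by rw [ht]; exact Over.w r2
  constructor
  · intro B _ σ σ' τ ⟨ρ₁, h11, h12⟩ ⟨ρ₂, h21, h22⟩
    let W : Over S := Over.mk (Spec.map (CommRingCat.ofHom ρ₁) ≫ strA)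
    let f₁ : W ⟶ Over.mk strA := Over.homMk (Spec.map (CommRingCat.ofHom ρ₁)) rfl
    have hmid : Spec.map (CommRingCat.ofHom ρ₂) ≫ Spec.map s =
        Spec.map (CommRingCat.ofHom ρ₁) ≫ Spec.map t := by
      rw [← Spec.map_comp, ← Spec.map_comp]
      congr 1
      ext x
      exact (RingHom.congr_fun h21 x).trans (RingHom.congr_fun h12 x).symm
    let f₂ : W ⟶ Over.mk strA := Over.homMk (Spec.map (CommRingCat.ofHom ρ₂)) (by
      change Spec.map (CommRingCat.ofHom ρ₂) ≫ strA = Spec.map (CommRingCat.ofHom ρ₁) ≫ strA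
      conv_lhs => rw [← hw1, ← Category.assoc, hmid, Category.assoc, hw2])
    have h12' : f₁ ≫ r2 = f₂ ≫ r1 := by
      ext1
      change Spec.map (CommRingCat.ofHom ρ₁) ≫ r2.left = Spec.map (CommRingCat.ofHom ρ₂) ≫ r1.left
      rw [← hs, ← ht, hmid]
    have hc : (yon S).map (f₁ ≫ r1) ≫ c = (yon S).map (f₂ ≫ r2) ≫ c := by
      rw [Functor.map_comp, Category.assoc, sqR.w, ← Category.assoc, ← Functor.map_comp, h12',
        Functor.map_comp, Category.assoc, sqR.w, ← Category.assoc, ← Functor.map_comp]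
    obtain ⟨g, hg⟩ := (yon S).map_surjective (sqR.lift _ _ hc)
    have hg1 : g ≫ r1 = f₁ ≫ r1 := (yon S).map_injective (by
      rw [Functor.map_comp, hg, sqR.lift_fst])
    have hg2 : g ≫ r2 = f₂ ≫ r2 := (yon S).map_injective (by
      rw [Functor.map_comp, hg, sqR.lift_snd])
    obtain ⟨ρ₃, hρ₃⟩ := Spec.map_surjective g.left
    refine ⟨ρ₃.hom, ?_, ?_⟩
    · have : Spec.map (s ≫ ρ₃) = Spec.map (s ≫ CommRingCat.ofHom ρ₁) := by
        rw [Spec.map_comp, Spec.map_comp, hρ₃, hs]
        exact congrArg (fun m => m.left) hg1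
      have := Spec.map_injective this
      rw [← h11]
      ext x
      exact congrArg (fun m => m.hom x) this
    · have : Spec.map (t ≫ ρ₃) = Spec.map (t ≫ CommRingCat.ofHom ρ₂) := by
        rw [Spec.map_comp, Spec.map_comp, hρ₃, ht]
        exact congrArg (fun m => m.left) hg2
      have := Spec.map_injective this
      rw [← h22]
      ext x
      exact congrArg (fun m => m.hom x) this
  · intro B _ ρ ρ' h1 h2
    let W : Over S := Over.mk (Spec.map (CommRingCat.ofHom ρ) ≫ strA)
    let f : W ⟶ Over.mk strA := Over.homMk (Spec.map (CommRingCat.ofHom ρ)) rfl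
    have e1 : Spec.map (CommRingCat.ofHom ρ') ≫ Spec.map s =
        Spec.map (CommRingCat.ofHom ρ) ≫ Spec.map s := by
      rw [← Spec.map_comp, ← Spec.map_comp]
      congr 1
      ext x
      exact (RingHom.congr_fun h1 x).symm
    have e2 : Spec.map (CommRingCat.ofHom ρ') ≫ Spec.map t =
        Spec.map (CommRingCat.ofHom ρ) ≫ Spec.map t := by
      rw [← Spec.map_comp, ← Spec.map_comp]
      congr 1
      ext x
      exact (RingHom.congr_fun h2 x).symm
    let f' : W ⟶ Over.mk strA := Over.homMk (Spec.map (CommRingCat.ofHom ρ')) (by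
      change Spec.map (CommRingCat.ofHom ρ') ≫ strA = Spec.map (CommRingCat.ofHom ρ) ≫ strA
      conv_lhs => rw [← hw1, ← Category.assoc, e1, Category.assoc, hw1])
    have hf1 : f ≫ r1 = f' ≫ r1 := by
      ext1
      change Spec.map (CommRingCat.ofHom ρ) ≫ r1.left = Spec.map (CommRingCat.ofHom ρ') ≫ r1.left
      rw [← hs, e1]
    have hf2 : f ≫ r2 = f' ≫ r2 := by
      ext1
      change Spec.map (CommRingCat.ofHom ρ) ≫ r2.left = Spec.map (CommRingCat.ofHom ρ') ≫ r2.left
      rw [← ht, e2]
    have hff : (yon S).map f = (yon S).map f' := by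
      apply sqR.hom_ext
      · rw [← Functor.map_comp, ← Functor.map_comp, hf1]
      · rw [← Functor.map_comp, ← Functor.map_comp, hf2]
    have := congrArg (fun m => m.left) ((yon S).map_injective hff)
    have h3 : Spec.map (CommRingCat.ofHom ρ) = Spec.map (CommRingCat.ofHom ρ') := this
    have h4 := Spec.map_injective h3
    ext x
    exact congrArg (fun m => m.hom x) h4


open Groth.Agent.Lib.Helper14.FG in
set_option backward.isDefEq.respectTransparency.types false in
/-- (C), affine form: the quotient of the spectrum of a field by a finite kernel pair is the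
spectrum of a field, embedded by a monomorphism. -/
theorem exists_field_quotient_spec {X : Sp S} {K A : Type u} [Field K] [CommRing A]
    (str : Spec (CommRingCat.of K) ⟶ S) (strA : Spec (CommRingCat.of A) ⟶ S)
    (c : (yon S).obj (Over.mk str) ⟶ X) (r1 r2 : Over.mk strA ⟶ Over.mk str)
    (sqR : IsPullback ((yon S).map r1) ((yon S).map r2) c c) (hfin : IsFinite r1.left) :
    ∃ (k : Type u) (_ : Field k) (str' : Spec (CommRingCat.of k) ⟶ S)
      (q : Over.mk str ⟶ Over.mk str') (p : (yon S).obj (Over.mk str') ⟶ X),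
      (yon S).map q ≫ p = c ∧ Mono p ∧ IsFinite q.left ∧ Flat q.left ∧ Surjective q.left ∧
        LocallyOfFinitePresentation q.left := by
  obtain ⟨s, hs⟩ := Spec.map_surjective r1.left
  obtain ⟨t, ht⟩ := Spec.map_surjective r2.left
  obtain ⟨hT, hE⟩ := ptTrans_jointlyEpi_of_kernel_pair str strA c r1 r2 sqR s t hs ht
  have hw1 : Spec.map s ≫ str = strA := by rw [hs]; exact Over.w r1
  have hw2 : Spec.map t ≫ str = strA := by rw [ht]; exact Over.w r2
  -- finiteness
  have hsfin : s.hom.Finite := by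
    rw [← hs] at hfin
    exact (IsFinite.SpecMap_iff _).1 hfin
  have : Module.Finite K (Tw s.hom) := hsfin
  -- nontriviality
  have hnt : Nontrivial A := by
    obtain ⟨d, hd⟩ := (yon S).map_surjective (sqR.lift (𝟙 _) (𝟙 _) rfl)
    have : Nonempty ↥(Spec (CommRingCat.of K)) := inferInstance
    obtain ⟨pt⟩ := this
    have hne : Nonempty (PrimeSpectrum A) := ⟨d.left pt⟩
    by_contra hnt
    rw [not_nontrivial_iff_subsingleton] at hnt
    exact (PrimeSpectrum.instIsEmptyOfSubsingleton (R := A)).false (Classical.choice hne)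
  let k := invField s.hom t.hom
  have hkfin : Module.Finite k K := finite_over_invField s.hom t.hom hT
  have hpo := isPushout_invField s.hom t.hom hT hE
  have hpb := isPullback_SpecMap_of_isPushout _ _ _ _ hpo
  -- the structure morphism of `Spec k`
  let x₀ : ↥S := str (IsLocalRing.closedPoint K)
  let φ : S.residueField x₀ ⟶ CommRingCat.of K :=
    Scheme.descResidueField (Scheme.stalkClosedPointTo str)
  have hφ : Spec.map φ ≫ S.fromSpecResidueField x₀ = str :=
    Scheme.descResidueField_stalkClosedPointTo_fromSpecResidueField K S str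
  have hφst : φ ≫ s = φ ≫ t := by
    apply Spec.map_injective
    rw [Spec.map_comp, Spec.map_comp, ← cancel_mono (S.fromSpecResidueField x₀), Category.assoc,
      Category.assoc, hφ, hw1, hw2]
  have hφmem : ∀ z, φ.hom z ∈ k := fun z => by
    rw [mem_invField]
    exact congrArg (fun m => m.hom z) hφst
  let φ' : S.residueField x₀ ⟶ CommRingCat.of k :=
    CommRingCat.ofHom (RingHom.codRestrict φ.hom k hφmem)
  let incl : CommRingCat.of k ⟶ CommRingCat.of K := CommRingCat.ofHom k.subtype
  have hφ' : φ' ≫ incl = φ := by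
    ext z
    rfl
  let str' : Spec (CommRingCat.of k) ⟶ S := Spec.map φ' ≫ S.fromSpecResidueField x₀
  let q : Over.mk str ⟶ Over.mk str' := Over.homMk (Spec.map incl) (by
    change Spec.map incl ≫ Spec.map φ' ≫ S.fromSpecResidueField x₀ = str
    rw [← Category.assoc, ← Spec.map_comp, hφ', hφ])
  -- the kernel pair of `q`
  have hpb' : IsPullback r1.left r2.left q.left q.left := by
    rw [← hs, ← ht]
    exact hpb
  have hcomm : r1 ≫ q = r2 ≫ q := by
    ext1
    exact hpb'.w
  have sqO : IsPullback r1 r2 q q := IsPullback.of_map (Over.forget S) hcomm hpb'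
  have sqY := sqO.map (yon S)
  -- properties of `q`
  have hqfin : IsFinite q.left := by
    change IsFinite (Spec.map incl)
    rw [IsFinite.SpecMap_iff]
    exact hkfin
  have hqflat : Flat q.left := inferInstanceAs (Flat (Y := Spec (CommRingCat.of k)) q.left)
  have hqsurj : Surjective q.left :=
    ⟨fun y => ⟨IsLocalRing.closedPoint K,
      Subsingleton.elim (α := ↥(Spec (CommRingCat.of k))) _ _⟩⟩
  have hqlfp : LocallyOfFinitePresentation q.left := by
    have : IsLocallyNoetherian (Over.mk str').left :=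
      inferInstanceAs (IsLocallyNoetherian (Spec (CommRingCat.of k)))
    have : LocallyOfFiniteType q.left := inferInstance
    infer_instance
  have hloc : Sheaf.IsLocallySurjective ((yon S).map q) :=
    isLocallySurjective_of_repWith _ ((repWith_yon_map_iff _ _).2 hqflat)
      ((repWith_yon_map_iff _ _).2 hqlfp) ((repWith_yon_map_iff _ _).2 hqsurj)
  have hepi : Epi ((yon S).map q) := (Sheaf.isLocallySurjective_iff_epi _).1 hloc
  obtain ⟨p, hp⟩ := exists_desc_of_epi_kernel_pair sqY c sqR.w
  exact ⟨k, inferInstance, str', q, p, hp, mono_of_kernel_pair c sqR sqY.w p hp, hqfin, hqflat,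
    hqsurj, hqlfp⟩


set_option backward.isDefEq.respectTransparency.types false in
/-- (C): the quotient of the spectrum of a field by a finite kernel pair is the spectrum of a
field, embedded by a monomorphism. -/
theorem exists_field_quotient {X : Sp S} {K : Type u} [Field K]
    (str : Spec (CommRingCat.of K) ⟶ S) (c : (yon S).obj (Over.mk str) ⟶ X) {R : Over S}
    (r1 r2 : R ⟶ Over.mk str)
    (sqR : IsPullback ((yon S).map r1) ((yon S).map r2) c c) (hfin : IsFinite r1.left) :
    ∃ (k : Type u) (_ : Field k) (str' : Spec (CommRingCat.of k) ⟶ S)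
      (q : Over.mk str ⟶ Over.mk str') (p : (yon S).obj (Over.mk str') ⟶ X),
      (yon S).map q ≫ p = c ∧ Mono p ∧ IsFinite q.left ∧ Flat q.left ∧ Surjective q.left ∧
        LocallyOfFinitePresentation q.left := by
  have haff : IsAffine R.left := by
    have : IsAffine (Over.mk str).left := inferInstanceAs (IsAffine (Spec (CommRingCat.of K)))
    exact isAffine_of_isAffineHom r1.left
  let A : Type u := Γ(R.left, ⊤)
  let strA : Spec (CommRingCat.of A) ⟶ S := R.left.isoSpec.inv ≫ R.hom
  let e : Over.mk strA ≅ R := Over.isoMk R.left.isoSpec.symm (by simp [strA])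
  have sqR' : IsPullback ((yon S).map (e.hom ≫ r1)) ((yon S).map (e.hom ≫ r2)) c c := by
    refine IsPullback.of_iso sqR ((yon S).mapIso e.symm) (Iso.refl _) (Iso.refl _) (Iso.refl _)
      ?_ ?_ ?_ ?_
    · simp [← Functor.map_comp]
    · simp [← Functor.map_comp]
    · simp
    · simp
  have hfin' : IsFinite (e.hom ≫ r1).left := by
    rw [Over.comp_left]
    have : IsIso e.hom.left := inferInstanceAs (IsIso ((Over.forget S).map e.hom))
    infer_instance
  exact exists_field_quotient_spec str strA c _ _ sqR' hfin'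

end Groth.Agent.Lib.Helper14.AS
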