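import Groth.Agent.Lib.Helper14.AlgSpLocP2
import Groth.Agent.Lib.Helper14.AlgSpQC
import Groth.Agent.Lib.Helper14.AlgSpGpd5
universe u
open CategoryTheory CategoryTheory.Limits AlgebraicGeometry Opposite
namespace Groth.Agent.Lib.Helper14.AS
variable {S : Scheme.{u}}
open AlgSp Groth.Agent.Lib.Helper14.AS

/-- The predicate "x is a finite type point". -/
def IsFtPt (X : Sp S) (x : Points X) : Prop :=
  ∃ (k : Type u) (_ : Field k) (str : Spec (CommRingCat.of k) ⟶ S)
    (ξ : (yon S).obj (Over.mk str) ⟶ X),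
    LocP @LocallyOfFiniteType ξ ∧ Points.ofPt ξ (IsLocalRing.closedPoint k) = x

set_option backward.isDefEq.respectTransparency.types false in
/-- A closed point of an open subscheme of an etale chart gives a finite type point. -/
theorem isFtPt_of_closed {X : Sp S} {U : Over S} (a : (yon S).obj U ⟶ X) (ha : RepWith @Etale a)
    (V : U.left.Opens) (u : ↥V) (hu : IsClosed ({u} : Set ↥V)) : IsFtPt X (Points.ofPt a u.1) := by
  have hci : IsClosedImmersion ((V : Scheme).fromSpecResidueField u) :=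
    isClosed_singleton_iff_isClosedImmersion.1 hu
  let g₀ : Spec ((V : Scheme).residueField u) ⟶ U.left := (V : Scheme).fromSpecResidueField u ≫ V.ι
  have hg₀ : LocallyOfFiniteType g₀ := inferInstance
  let g : Over.mk (g₀ ≫ U.hom) ⟶ U := Over.homMk g₀ rfl
  refine ⟨↑((V : Scheme).residueField u), inferInstance, g₀ ≫ U.hom, (yon S).map g ≫ a, ?_, ?_⟩
  · refine locP_of_repWith etale_le_lft (repWith_comp _ ?_ (repWith_mono etale_le_lft ha))
    rw [repWith_yon_map_iff]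
    exact hg₀
  · rw [ofPt_yon_map_comp]
    congr 1
    change (V.ι) (((V : Scheme).fromSpecResidueField u) _) = _
    rw [Scheme.fromSpecResidueField_apply]
    rfl

end Groth.Agent.Lib.Helper14.AS

namespace Groth.Agent.Lib.Helper14.AS
variable {S : Scheme.{u}}
open AlgSp Groth.Agent.Lib.Helper14.AS

theorem exists_isFtPt_of_isLocallyClosed {X : Sp S} (hX : IsAlgSpace X) (T : Set (Points X))
    (hT : IsLocallyClosed T) (hne : T.Nonempty) : ∃ x ∈ T, IsFtPt X x := by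
  obtain ⟨U, p, hpe, hps⟩ := hX.atlas
  obtain ⟨x₀, hx₀⟩ := hne
  obtain ⟨u₀, rfl⟩ := ofPt_surjective_of_repWith hps x₀
  have hT' : IsLocallyClosed (Points.ofPt p ⁻¹' T) := hT.preimage (Points.continuous_ofPt p)
  obtain ⟨O, Z, hO, hZ, hOZ⟩ := hT'
  have hu₀ : u₀ ∈ O ∩ Z := by rw [← hOZ]; exact hx₀
  obtain ⟨V, hV, hu₀V, hVO⟩ := exists_isAffineOpen_mem_and_subset (x := u₀) (U := ⟨O, hO⟩) hu₀.1
  have : CompactSpace ↥V := isCompact_iff_compactSpace.1 hV.isCompact
  have hZ' : IsClosed ((↑) ⁻¹' Z : Set ↥V) := hZ.preimage continuous_subtype_val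
  obtain ⟨u, huZ, huc⟩ := hZ'.exists_closed_singleton ⟨⟨u₀, hu₀V⟩, hu₀.2⟩
  refine ⟨Points.ofPt p u.1, ?_, isFtPt_of_closed p hpe V u huc⟩
  have : u.1 ∈ Points.ofPt p ⁻¹' T := by
    rw [hOZ]
    exact ⟨hVO u.2, huZ⟩
  exact this

theorem ftPt_dense {X : Sp S} (hX : IsAlgSpace X) :
    (∀ T : Set (Points X), IsLocallyClosed T → T.Nonempty → ∃ x ∈ T, IsFtPt X x) ∧
    (∀ T : Set (Points X), IsClosed T → T ⊆ closure {x | x ∈ T ∧ IsFtPt X x}) := by
  refine ⟨fun T hT hne => exists_isFtPt_of_isLocallyClosed hX T hT hne, fun T hT x hx => ?_⟩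
  rw [mem_closure_iff]
  intro W hW hxW
  obtain ⟨y, hy, hyf⟩ := exists_isFtPt_of_isLocallyClosed hX (W ∩ T)
    ⟨W, T, hW, hT, rfl⟩ ⟨x, hxW, hx⟩
  exact ⟨y, hy.1, hy.2, hyf⟩

end Groth.Agent.Lib.Helper14.AS

namespace Groth.Agent.Lib.Helper14.AS
variable {S : Scheme.{u}}
open AlgSp Groth.Agent.Lib.Helper14.AS

theorem exists_ftPt_over {X Y : Sp S} (hX : IsAlgSpace X) (hY : IsAlgSpace Y) (f : X ⟶ Y)
    (hf : LocP @LocallyOfFiniteType f) (hs : IsSurjectiveMor f) (y : Points Y) (hy : IsFtPt Y y) :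
    ∃ x : Points X, Points.map f x = y ∧ IsFtPt X x := by
  obtain ⟨k, _, str, ξ, hξ, rfl⟩ := hy
  have hK : IsAlgSpace ((yon S).obj (Over.mk str)) := IsAlgSpace.yon_obj _
  have sq := IsPullback.of_hasPullback f ξ
  have hF : IsAlgSpace (pullback f ξ) := isAlgSpace_of_isPullback (repDiag_of_isAlgSpace hY) hX hK sq
  obtain ⟨x₀, hx₀⟩ := hs (Points.ofPt ξ (IsLocalRing.closedPoint k))
  obtain ⟨z, -, -⟩ := points_exists_of_isPullback sq x₀
    (Points.schemeHomeo (Over.mk str) (IsLocalRing.closedPoint k))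
    (by rw [hx₀]; exact Points.ofPt_eq_map_ofScheme ξ _)
  obtain ⟨z', -, k', _, str', ξ', hξ', hz'⟩ :=
    exists_isFtPt_of_isLocallyClosed hF Set.univ isOpen_univ.isLocallyClosed ⟨z, trivial⟩
  have hfst : LocP @LocallyOfFiniteType (pullback.fst f ξ) :=
    locP_baseChange etLocal_lft hK hY hX ξ f _ _ sq.flip hξ
  refine ⟨Points.map (pullback.fst f ξ) z', ?_, k', inferInstance, str', ξ' ≫ pullback.fst f ξ,
    locP_comp etLocal_lft (IsAlgSpace.yon_obj _) hF hX _ _ hξ' hfst, ?_⟩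
  · rw [← Points.map_comp, sq.w, Points.map_comp]
    have := subsingleton_points_of_iso_field str (Iso.refl ((yon S).obj (Over.mk str)))
    exact (congrArg (Points.map ξ) (Subsingleton.elim _ _)).trans
      (Points.ofPt_eq_map_ofScheme ξ _).symm
  · rw [← hz']
    exact (Points.map_ofPt ξ' _ _).symm

end Groth.Agent.Lib.Helper14.AS
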