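import Groth.Agent.Lib.Helper14.AlgSpFieldPts
import Groth.Agent.Lib.Helper14.AlgSpLocP
import Mathlib.AlgebraicGeometry.AlgClosed.Basic

/-!
# Geometric points and surjectivity (helper14)
-/

universe u
open CategoryTheory CategoryTheory.Limits AlgebraicGeometry Opposite Topology

namespace Groth.Agent.Lib.Helper14.AS

open AlgSp

variable {S : Scheme.{u}}

/-- A nonempty scheme locally of finite type over an algebraically closed field has a rational
point. -/
theorem exists_section_of_lft {F : Scheme.{u}} {k : Type u} [Field k] [IsAlgClosed k]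
    (π : F ⟶ Spec (CommRingCat.of k)) [LocallyOfFiniteType π] [Nonempty ↥F] :
    ∃ σ : Spec (CommRingCat.of k) ⟶ F, σ ≫ π = 𝟙 _ := by
  have : JacobsonSpace ↥F := LocallyOfFiniteType.jacobsonSpace π
  have hne : (closedPoints ↥F).Nonempty := by
    by_contra hcon
    rw [Set.not_nonempty_iff_eq_empty] at hcon
    have h := closure_closedPoints (X := ↥F)
    rw [hcon, closure_empty] at h
    exact Set.empty_ne_univ h
  obtain ⟨x, hx⟩ := hne
  exact ⟨pointOfClosedPoint π x hx, pointOfClosedPoint_comp π x hx⟩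

theorem exists_lift_of_lft {U V : Scheme.{u}} (h : U ⟶ V) [LocallyOfFiniteType h] {k : Type u}
    [Field k] [IsAlgClosed k] (v : Spec (CommRingCat.of k) ⟶ V) (u : ↥U)
    (hu : h u = v (IsLocalRing.closedPoint k)) : ∃ z : Spec (CommRingCat.of k) ⟶ U, z ≫ h = v := by
  obtain ⟨w, -, -⟩ := Scheme.Pullback.exists_preimage_pullback (f := h) (g := v) u _ hu
  have : Nonempty ↥(pullback h v) := ⟨w⟩
  obtain ⟨σ, hσ⟩ := exists_section_of_lft (pullback.snd h v)
  refine ⟨σ ≫ pullback.fst h v, ?_⟩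
  rw [Category.assoc, pullback.condition, ← Category.assoc, hσ, Category.id_comp]

theorem fpt_yon_map_comp {F : Sp S} {T : Over S} {K : Type u} [Field K]
    {str : Spec (CommRingCat.of K) ⟶ S} (m : Over.mk str ⟶ T) (g : (yon S).obj T ⟶ F) :
    fpt ((yon S).map m ≫ g) = Points.ofPt g (m.left (IsLocalRing.closedPoint K)) := by
  rw [← mk_app_eq_ofPt g m, fpt]
  have h1 := (AlgSp.J S).uliftYonedaEquiv_comp ((yon S).map m) g
  rw [h1]
  congr 2

set_option backward.isDefEq.respectTransparency.types false in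
/-- Geometric points lift along representable surjective morphisms locally of finite type. -/
theorem exists_lift_geom_of_repWith {F G : Sp S} {b : F ⟶ G}
    (hb : RepWith @LocallyOfFiniteType b) (hbs : RepWith @Surjective b) {k : Type u} [Field k]
    [IsAlgClosed k] (str : Spec (CommRingCat.of k) ⟶ S) (y : (yon S).obj (Over.mk str) ⟶ G) :
    ∃ v : (yon S).obj (Over.mk str) ⟶ F, v ≫ b = y := by
  have sq := hb.rep.isPullback y
  have h1 : LocallyOfFiniteType (hb.rep.snd y).left := hb.property_snd y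
  have h2 : Surjective (hb.rep.snd y).left := hbs.property _ _ _ sq
  have hne : Nonempty ↥(hb.rep.pullback y).left := by
    obtain ⟨e, -⟩ := h2.surj (IsLocalRing.closedPoint k)
    exact ⟨e⟩
  obtain ⟨σ, hσ⟩ := exists_section_of_lft (k := k) (hb.rep.snd y).left
  have hw : σ ≫ (hb.rep.pullback y).hom = str := by
    have := Over.w (hb.rep.snd y)
    change (hb.rep.snd y).left ≫ str = _ at this
    rw [← this, ← Category.assoc, hσ, Category.id_comp]
  let σ' : Over.mk str ⟶ hb.rep.pullback y := Over.homMk σ hw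
  have hσ' : σ' ≫ hb.rep.snd y = 𝟙 _ := Over.OverMorphism.ext hσ
  refine ⟨(yon S).map σ' ≫ hb.rep.fst y, ?_⟩
  rw [Category.assoc, sq.w, ← Category.assoc, ← Functor.map_comp, hσ', (yon S).map_id,
    Category.id_comp]

set_option backward.isDefEq.respectTransparency.types false in
/-- A surjective morphism of algebraic spaces, locally of finite type, is surjective on geometric
points. -/
theorem exists_geom_lift_of_surjective {X Y : Sp S} (hX : IsAlgSpace X) (hY : IsAlgSpace Y)
    (f : X ⟶ Y) (hf : LocP @LocallyOfFiniteType f) (hs : IsSurjectiveMor f) {k : Type u} [Field k]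
    [IsAlgClosed k] (str : Spec (CommRingCat.of k) ⟶ S) (y : (yon S).obj (Over.mk str) ⟶ Y) :
    ∃ x : (yon S).obj (Over.mk str) ⟶ X, x ≫ f = y := by
  obtain ⟨V, b, hbe, hbs⟩ := hY.atlas
  obtain ⟨v, hv⟩ := exists_lift_geom_of_repWith (repWith_mono etale_le_lft hbe) hbs str y
  obtain ⟨v', rfl⟩ := (yon S).map_surjective v
  obtain ⟨U0, a0, ha0e, ha0s⟩ := hX.atlas
  have sqU := hbe.rep.isPullback (a0 ≫ f)
  have he : RepWith @Etale ((yon S).map (hbe.rep.snd (a0 ≫ f))) :=
    (repWith_yon_map_iff _ _).2 (hbe.property_snd _)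
  obtain ⟨h, hh⟩ := (yon S).map_surjective (hbe.rep.fst (a0 ≫ f))
  have comm : ((yon S).map (hbe.rep.snd (a0 ≫ f)) ≫ a0) ≫ f = (yon S).map h ≫ b := by
    rw [hh, Category.assoc]
    exact sqU.w.symm
  have hlft : LocallyOfFiniteType h.left := hf _ b h (repWith_comp _ he ha0e) hbe comm
  obtain ⟨x0, hx0⟩ := hs (fpt y)
  obtain ⟨u0, rfl⟩ := ofPt_surjective_of_repWith ha0s x0
  rw [← hh] at sqU
  have e : Points.ofPt b (v'.left (IsLocalRing.closedPoint k)) = Points.ofPt (a0 ≫ f) u0 := by
    rw [← fpt_yon_map_comp, hv, ← hx0]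
    rfl
  obtain ⟨u, hu1, -⟩ := exists_point_of_isPullback_yon sqU _ _ e
  obtain ⟨z, hz⟩ := exists_lift_of_lft h.left v'.left u hu1
  have hw : z ≫ (hbe.rep.pullback (a0 ≫ f)).hom = str := by
    have h1 := Over.w h
    have h2 := Over.w v'
    change v'.left ≫ V.hom = str at h2
    rw [← h1, ← Category.assoc, hz, h2]
  let z' : Over.mk str ⟶ hbe.rep.pullback (a0 ≫ f) := Over.homMk z hw
  have hz' : z' ≫ h = v' := Over.OverMorphism.ext hz
  refine ⟨(yon S).map z' ≫ (yon S).map (hbe.rep.snd (a0 ≫ f)) ≫ a0, ?_⟩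
  rw [Category.assoc, Category.assoc, ← Category.assoc _ a0 f, comm, ← Category.assoc,
    ← Functor.map_comp, hz', hv]

/-- Surjectivity on geometric points implies surjectivity. -/
theorem isSurjectiveMor_of_geom_lift {X Y : Sp S} (f : X ⟶ Y)
    (h : ∀ (k : Type u) [Field k] [IsAlgClosed k] (str : Spec (CommRingCat.of k) ⟶ S)
      (y : (yon S).obj (Over.mk str) ⟶ Y), ∃ x : (yon S).obj (Over.mk str) ⟶ X, x ≫ f = y) :
    IsSurjectiveMor f := by
  intro y
  obtain ⟨K, _, strK, b, rfl⟩ := exists_fpt_eq y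
  let k := AlgebraicClosure K
  let ι : Spec (CommRingCat.of k) ⟶ Spec (CommRingCat.of K) :=
    Spec.map (CommRingCat.ofHom (algebraMap K k))
  let i : Over.mk (ι ≫ strK) ⟶ Over.mk strK := Over.homMk ι rfl
  obtain ⟨x, hx⟩ := h k (ι ≫ strK) ((yon S).map i ≫ b)
  refine ⟨fpt x, ?_⟩
  rw [map_fpt, hx, fpt_comp_eq]

end Groth.Agent.Lib.Helper14.AS
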