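import Groth.Agent.Lib.Helper14.AlgSpMisc3
import Groth.Agent.Lib.Helper14.AlgSpSect
import Groth.Agent.Lib.Helper14.AlgSpPoints3
import Groth.Agent.Lib.Helper14.AlgSpLocP2
import Groth.Agent.Lib.Helper14.AlgSpDecent
import Groth.Agent.Lib.Helper14.AlgSpLargestOpen
import Groth.Agent.Lib.Helper14.AlgSpUCQC
universe u
open CategoryTheory CategoryTheory.Limits AlgebraicGeometry
namespace Groth.Agent.Lib.Helper14.AS
variable {S : Scheme.{u}}
open AlgSp Groth.Agent.Lib.Helper14.AS

theorem pullback_lift_congr {C : Type*} [Category C] {X Y Z T : C} {f : X ⟶ Z} {g : Y ⟶ Z}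
    [HasPullback f g] {a a' : T ⟶ X} {b b' : T ⟶ Y} (h : a ≫ f = b ≫ g) (ha : a = a') (hb : b = b') :
    pullback.lift a b h = pullback.lift a' b' (by rw [← ha, ← hb, h]) := by
  subst ha; subst hb; rfl

variable {B : Sp S} (G : GroupoidSp B)

/-- `α⁻¹ ∘ (α ∘ β) = β`. -/
theorem gpd_inv_comp_comp {T : Sp S} (α β : T ⟶ G.R) (h : α ≫ G.s = β ≫ G.t) :
    pullback.lift (α ≫ G.i) (pullback.lift α β h ≫ G.c)
      (by rw [Category.assoc, G.i_s, G.comp_t]) ≫ G.c = β := by
  have h1 : (α ≫ G.i) ≫ G.s = α ≫ G.t := by rw [Category.assoc, G.i_s]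
  rw [← G.assoc (α ≫ G.i) α β h1 h]
  rw [pullback_lift_congr _ (G.i_comp α) rfl]
  rw [pullback_lift_congr _ (show α ≫ G.s ≫ G.e = β ≫ G.t ≫ G.e by rw [reassoc_of% h]) rfl]
  exact G.e_comp β

/-- `α ∘ (α⁻¹ ∘ γ) = γ`. -/
theorem gpd_comp_inv_comp {T : Sp S} (α γ : T ⟶ G.R) (h : α ≫ G.t = γ ≫ G.t) :
    pullback.lift α (pullback.lift (α ≫ G.i) γ (by rw [Category.assoc, G.i_s, h]) ≫ G.c)
      (by rw [G.comp_t, Category.assoc, G.i_t]) ≫ G.c = γ := by
  have h1 : α ≫ G.s = (α ≫ G.i) ≫ G.t := by rw [Category.assoc, G.i_t]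
  have h2 : (α ≫ G.i) ≫ G.s = γ ≫ G.t := by rw [Category.assoc, G.i_s, h]
  rw [← G.assoc α (α ≫ G.i) γ h1 h2]
  rw [pullback_lift_congr _ (G.comp_i α) rfl]
  rw [pullback_lift_congr _ (show α ≫ G.t ≫ G.e = γ ≫ G.t ≫ G.e by rw [reassoc_of% h]) rfl]
  exact G.e_comp γ

/-- The composition of a groupoid is the base change of `t` along `t`. -/
theorem gpd_isPullback_c : IsPullback G.c (pullback.fst G.s G.t) G.t G.t := by
  refine isPullback_of_exists_unique (gpd_c_t G) ?_ ?_
  · intro T x y hxy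
    have h2 : (y ≫ G.i) ≫ G.s = x ≫ G.t := by rw [Category.assoc, G.i_s, hxy]
    refine ⟨pullback.lift y (pullback.lift (y ≫ G.i) x h2 ≫ G.c)
      (by rw [G.comp_t, Category.assoc, G.i_t]), ?_, ?_⟩
    · exact gpd_comp_inv_comp G y x hxy.symm
    · rw [pullback.lift_fst]
  · intro T z z' hc hf
    have hz : ∀ w : T ⟶ pullback G.s G.t, w = pullback.lift (w ≫ pullback.fst _ _) (w ≫ pullback.snd _ _)
        (by rw [Category.assoc, Category.assoc, pullback.condition]) := by
      intro w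
      apply pullback.hom_ext
      · rw [pullback.lift_fst]
      · rw [pullback.lift_snd]
    have key : ∀ w : T ⟶ pullback G.s G.t,
        pullback.lift ((w ≫ pullback.fst _ _) ≫ G.i) (w ≫ G.c)
          (by rw [Category.assoc, Category.assoc, G.i_s, Category.assoc, gpd_c_t]) ≫ G.c
          = w ≫ pullback.snd _ _ := by
      intro w
      have := gpd_inv_comp_comp G (w ≫ pullback.fst _ _) (w ≫ pullback.snd _ _)
        (by rw [Category.assoc, Category.assoc, pullback.condition])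
      rw [← this]
      congr 1
      apply pullback_lift_congr _ rfl
      conv_lhs => rw [hz w]
    apply pullback.hom_ext hf
    rw [← key z, ← key z']
    congr 1
    exact pullback_lift_congr _ (by rw [hf]) hc

end Groth.Agent.Lib.Helper14.AS

namespace Groth.Agent.Lib.Helper14.AS
variable {S : Scheme.{u}}
open AlgSp Groth.Agent.Lib.Helper14.AS

set_option backward.isDefEq.respectTransparency.types false in
/-- Any morphism from an algebraic space to the spectrum of a field (up to iso) is flat. -/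
theorem locP_flat_to_field {X U : Sp S} (hX : IsAlgSpace X) {k : Type u} [Field k]
    (σ : Spec (CommRingCat.of k) ⟶ S) (eU : U ≅ (yon S).obj (Over.mk σ)) (p : X ⟶ U) :
    LocP @Flat p := by
  obtain ⟨U₀, a₀, hae, has⟩ := hX.atlas
  obtain ⟨h₀, hh₀⟩ := (yon S).map_surjective (a₀ ≫ p ≫ eU.hom)
  refine locP_of_chart etLocal_flat p a₀ eU.inv h₀ hae has (repWith_of_isIso' _ _) ?_ ?_
  · rw [hh₀, Category.assoc, Category.assoc, eU.hom_inv_id, Category.comp_id]
  · have key : ∀ (f : U₀.left ⟶ Spec (CommRingCat.of k)), Flat f := fun f => inferInstance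
    exact key _

theorem isUnivOpenMor_to_field' {X U : Sp S} (hX : IsAlgSpace X) {k : Type u} [Field k]
    (σ : Spec (CommRingCat.of k) ⟶ S) (eU : U ≅ (yon S).obj (Over.mk σ)) (p : X ⟶ U) :
    IsUnivOpenMor p := by
  intro Z Z' hZ g fst snd sq
  exact isUnivOpenMor_to_field hX σ (p ≫ eU.hom) hZ (g ≫ eU.hom) fst snd
    (isPullback_comp_mono' sq eU.hom)

theorem gpd_c_flat_univOpen {B : Sp S} (G : GroupoidSp B) (hR : IsAlgSpace G.R) {k : Type u} [Field k]
    (σ : Spec (CommRingCat.of k) ⟶ S) (eU : G.U ≅ (yon S).obj (Over.mk σ)) :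
    LocP @Flat G.c ∧ IsUnivOpenMor G.c := by
  have hU : IsAlgSpace G.U := (IsAlgSpace.yon_obj _).of_iso eU.symm
  refine ⟨locP_baseChange etLocal_flat hR hU hR G.t G.t _ G.c (gpd_isPullback_c G).flip
    (locP_flat_to_field hR σ eU G.t), ?_⟩
  exact univSp_of_isPullback _ (gpd_isPullback_c G).flip (isUnivOpenMor_to_field' hR σ eU G.t)

end Groth.Agent.Lib.Helper14.AS
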