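import Groth.Agent.Lib.Helper14.AlgSpGpd2
import Groth.Agent.Lib.Helper14.AlgSpLocP3
universe u
open CategoryTheory CategoryTheory.Limits AlgebraicGeometry
namespace Groth.Agent.Lib.Helper14.AS
variable {S : Scheme.{u}}
open AlgSp Groth.Agent.Lib.Helper14.AS

theorem restr_aux {U' U R' R : Sp S} (g : U' ⟶ U) (s t : R ⟶ U) (s' t' : R' ⟶ U') (fR : R' ⟶ R)
    (ct : fR ≫ t = t' ≫ g)
    (hex : ∀ (T : Sp S) (ρ : T ⟶ R) (a b : T ⟶ U'), a ≫ g = ρ ≫ t → b ≫ g = ρ ≫ s →
      ∃ z : T ⟶ R', z ≫ fR = ρ ∧ z ≫ t' = a ∧ z ≫ s' = b)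
    (huniq : ∀ (T : Sp S) (z z' : T ⟶ R'), z ≫ fR = z' ≫ fR → z ≫ t' = z' ≫ t' → z ≫ s' = z' ≫ s' →
      z = z') (cs : fR ≫ s = s' ≫ g) :
    IsPullback (pullback.lift t' fR ct.symm : R' ⟶ pullback g t) s' (pullback.snd g t ≫ s) g := by
  refine isPullback_of_exists_unique ?_ ?_ ?_
  · rw [pullback.lift_snd_assoc, cs]
  · intro T x y hxy
    obtain ⟨z, hz1, hz2, hz3⟩ := hex T (x ≫ pullback.snd g t) (x ≫ pullback.fst g t) y
      (by rw [Category.assoc, Category.assoc, pullback.condition])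
      (by rw [← hxy, Category.assoc])
    refine ⟨z, ?_, hz3⟩
    apply pullback.hom_ext
    · rw [Category.assoc, pullback.lift_fst, hz2]
    · rw [Category.assoc, pullback.lift_snd, hz1]
  · intro T z z' h1 h2
    apply huniq T z z' _ _ h2
    · have := congrArg (· ≫ pullback.snd g t) h1
      simpa only [Category.assoc, pullback.lift_snd] using this
    · have := congrArg (· ≫ pullback.fst g t) h1
      simpa only [Category.assoc, pullback.lift_fst] using this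

variable {B : Sp S} {G G' : GroupoidSp B} (φ : GroupoidSp.Hom G' G)

theorem restr_exists (hφ : φ.IsRestriction) (T : Sp S) (ρ : T ⟶ G.R) (a b : T ⟶ G'.U)
    (ha : a ≫ φ.fU = ρ ≫ G.t) (hb : b ≫ φ.fU = ρ ≫ G.s) :
    ∃ z : T ⟶ G'.R, z ≫ φ.fR = ρ ∧ z ≫ G'.t = a ∧ z ≫ G'.s = b := by
  have hab : a ≫ G'.pU = b ≫ G'.pU := by
    rw [← φ.fU_over, reassoc_of% ha, reassoc_of% hb, G.t_over, G.s_over]
  have hc : ρ ≫ G.j = pullback.lift a b hab ≫ φ.prodMap := by
    apply pullback.hom_ext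
    · rw [Category.assoc, G.j_fst, Category.assoc, GroupoidSp.Hom.prodMap, pullback.lift_fst,
        pullback.lift_fst_assoc, ha]
    · rw [Category.assoc, G.j_snd, Category.assoc, GroupoidSp.Hom.prodMap, pullback.lift_snd,
        pullback.lift_snd_assoc, hb]
  refine ⟨hφ.lift ρ (pullback.lift a b hab) hc, hφ.lift_fst _ _ _, ?_, ?_⟩
  · rw [← G'.j_fst, ← Category.assoc, hφ.lift_snd, pullback.lift_fst]
  · rw [← G'.j_snd, ← Category.assoc, hφ.lift_snd, pullback.lift_snd]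

theorem restr_unique (hφ : φ.IsRestriction) (T : Sp S) (z z' : T ⟶ G'.R)
    (h1 : z ≫ φ.fR = z' ≫ φ.fR) (h2 : z ≫ G'.t = z' ≫ G'.t) (h3 : z ≫ G'.s = z' ≫ G'.s) : z = z' := by
  apply hφ.hom_ext h1
  apply pullback.hom_ext
  · rw [Category.assoc, Category.assoc, G'.j_fst, h2]
  · rw [Category.assoc, Category.assoc, G'.j_snd, h3]

theorem restr_locP {P : MorphismProperty Scheme.{u}} (hP : EtLocal P) [P.IsStableUnderComposition]
    [P.IsStableUnderBaseChange] (hU : IsAlgSpace G.U) (hR : IsAlgSpace G.R)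
    (hU' : IsAlgSpace G'.U) (hR' : IsAlgSpace G'.R) (hφ : φ.IsRestriction)
    (hs : LocP P G.s) (ht : LocP P G.t) (hg : LocP P φ.fU) : LocP P G'.s ∧ LocP P G'.t := by
  constructor
  · have sq := restr_aux φ.fU G.t G.s G'.t G'.s φ.fR φ.comm_s
      (fun T ρ a b ha hb => by
        obtain ⟨z, h1, h2, h3⟩ := restr_exists φ hφ T ρ b a hb ha
        exact ⟨z, h1, h3, h2⟩)
      (fun T z z' h1 h2 h3 => restr_unique φ hφ T z z' h1 h3 h2) φ.comm_t
    have hQ : IsAlgSpace (pullback φ.fU G.s) :=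
      isAlgSpace_of_isPullback (repDiag_of_isAlgSpace hU) hU' hR (IsPullback.of_hasPullback _ _)
    have h1 : LocP P (pullback.fst φ.fU G.s) :=
      locP_baseChange hP hR hU hU' G.s φ.fU _ _ (IsPullback.of_hasPullback φ.fU G.s).flip hs
    have h2 := locP_baseChange hP hU' hU hQ φ.fU (pullback.snd φ.fU G.s ≫ G.t) _ _ sq.flip hg
    have := locP_comp hP hR' hQ hU' _ _ h2 h1
    rwa [pullback.lift_fst] at this
  · have sq := restr_aux φ.fU G.s G.t G'.s G'.t φ.fR φ.comm_t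
      (fun T ρ a b ha hb => restr_exists φ hφ T ρ a b ha hb)
      (fun T z z' h1 h2 h3 => restr_unique φ hφ T z z' h1 h2 h3) φ.comm_s
    have hQ : IsAlgSpace (pullback φ.fU G.t) :=
      isAlgSpace_of_isPullback (repDiag_of_isAlgSpace hU) hU' hR (IsPullback.of_hasPullback _ _)
    have h1 : LocP P (pullback.fst φ.fU G.t) :=
      locP_baseChange hP hR hU hU' G.t φ.fU _ _ (IsPullback.of_hasPullback φ.fU G.t).flip ht
    have h2 := locP_baseChange hP hU' hU hQ φ.fU (pullback.snd φ.fU G.t ≫ G.s) _ _ sq.flip hg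
    have := locP_comp hP hR' hQ hU' _ _ h2 h1
    rwa [pullback.lift_fst] at this

end Groth.Agent.Lib.Helper14.AS
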