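import Groth.Agent.Lib.Helper14.AlgSpGpd2

universe u
open CategoryTheory CategoryTheory.Limits AlgebraicGeometry

namespace Groth.Agent.Lib.Helper14.AS
open AlgSp

variable {S : Scheme.{u}} {B : Sp S} (G : GroupoidSp B)

/-- `(α ∘ β) ∘ β⁻¹ = α`. -/
theorem gpd_comp_comp_inv {T : Sp S} (α β : T ⟶ G.R) (h : α ≫ G.s = β ≫ G.t) :
    pullback.lift (pullback.lift α β h ≫ G.c) (β ≫ G.i)
      (by rw [G.comp_s, Category.assoc, G.i_t]) ≫ G.c = α := by
  have h1 : β ≫ G.s = (β ≫ G.i) ≫ G.t := by rw [Category.assoc, G.i_t]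
  rw [G.assoc α β (β ≫ G.i) h h1]
  rw [pullback_lift_congr _ rfl (G.comp_i β)]
  rw [pullback_lift_congr _ rfl (show β ≫ G.t ≫ G.e = α ≫ G.s ≫ G.e by rw [reassoc_of% h])]
  exact G.comp_e α

/-- `(γ ∘ β⁻¹) ∘ β = γ`. -/
theorem gpd_comp_inv_comp' {T : Sp S} (γ β : T ⟶ G.R) (h : γ ≫ G.s = β ≫ G.s) :
    pullback.lift (pullback.lift γ (β ≫ G.i) (by rw [Category.assoc, G.i_t, h]) ≫ G.c) β
      (by rw [G.comp_s, Category.assoc, G.i_s]) ≫ G.c = γ := by
  have h1 : γ ≫ G.s = (β ≫ G.i) ≫ G.t := by rw [Category.assoc, G.i_t, h]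
  have h2 : (β ≫ G.i) ≫ G.s = β ≫ G.t := by rw [Category.assoc, G.i_s]
  rw [G.assoc γ (β ≫ G.i) β h1 h2]
  rw [pullback_lift_congr _ rfl (G.i_comp β)]
  rw [pullback_lift_congr _ rfl (show β ≫ G.s ≫ G.e = γ ≫ G.s ≫ G.e by rw [reassoc_of% h])]
  exact G.comp_e γ

theorem pullback_hom_eta {C : Type*} [Category C] {X Y Z T : C} {f : X ⟶ Z} {g : Y ⟶ Z}
    [HasPullback f g] (w : T ⟶ pullback f g) :
    w = pullback.lift (w ≫ pullback.fst _ _) (w ≫ pullback.snd _ _)
      (by rw [Category.assoc, Category.assoc, pullback.condition]) := by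
  apply pullback.hom_ext
  · rw [pullback.lift_fst]
  · rw [pullback.lift_snd]

/-- The composition of a groupoid is the base change of `s` along `s`. -/
theorem gpd_isPullback_c_snd : IsPullback G.c (pullback.snd G.s G.t) G.s G.s := by
  refine isPullback_of_exists_unique (gpd_c_s G) ?_ ?_
  · intro T x y hxy
    have h2 : x ≫ G.s = (y ≫ G.i) ≫ G.t := by rw [Category.assoc, G.i_t, hxy]
    refine ⟨pullback.lift (pullback.lift x (y ≫ G.i) h2 ≫ G.c) y
      (by rw [G.comp_s, Category.assoc, G.i_s]), ?_, ?_⟩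
    · exact gpd_comp_inv_comp' G x y hxy
    · rw [pullback.lift_snd]
  · intro T z z' hc hf
    have key : ∀ w : T ⟶ pullback G.s G.t,
        pullback.lift (w ≫ G.c) ((w ≫ pullback.snd _ _) ≫ G.i)
          (by rw [Category.assoc, Category.assoc, G.i_t, Category.assoc, gpd_c_s]) ≫ G.c
          = w ≫ pullback.fst _ _ := by
      intro w
      have := gpd_comp_comp_inv G (w ≫ pullback.fst _ _) (w ≫ pullback.snd _ _)
        (by rw [Category.assoc, Category.assoc, pullback.condition])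
      rw [← this]
      congr 1
      apply pullback_lift_congr _ _ rfl
      conv_lhs => rw [pullback_hom_eta w]
    refine pullback.hom_ext ?_ hf
    rw [← key z, ← key z']
    congr 1
    exact pullback_lift_congr _ hc (by rw [hf])

theorem pullback_comp_lift {C : Type*} [Category C] {X Y Z T T' : C} {f : X ⟶ Z} {g : Y ⟶ Z}
    [HasPullback f g] (w : T' ⟶ T) (a : T ⟶ X) (b : T ⟶ Y) (h : a ≫ f = b ≫ g) :
    w ≫ pullback.lift a b h = pullback.lift (w ≫ a) (w ≫ b)
      (by rw [Category.assoc, Category.assoc, h]) := by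
  apply pullback.hom_ext
  · rw [Category.assoc, pullback.lift_fst, pullback.lift_fst]
  · rw [Category.assoc, pullback.lift_snd, pullback.lift_snd]

/-- The shear map `(α, β) ↦ (α, α⁻¹ ∘ β)` is an isomorphism. -/
theorem gpd_shear (φ : pullback G.t G.t ⟶ pullback G.s G.t)
    (h1 : φ ≫ pullback.fst G.s G.t = pullback.fst G.t G.t)
    (h2 : φ ≫ pullback.snd G.s G.t =
      pullback.lift (pullback.fst G.t G.t ≫ G.i) (pullback.snd G.t G.t)
        ((Category.assoc _ _ _).trans ((congrArg (pullback.fst G.t G.t ≫ ·) G.i_s).trans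
          pullback.condition)) ≫ G.c) :
    IsIso φ ∧ φ ≫ G.c = pullback.snd G.t G.t := by
  have hc : φ ≫ G.c = pullback.snd G.t G.t := by
    have := gpd_comp_inv_comp G (pullback.fst G.t G.t) (pullback.snd G.t G.t) pullback.condition
    rw [← this, pullback_hom_eta φ]
    congr 1
    exact pullback_lift_congr _ h1 h2
  refine ⟨⟨pullback.lift (pullback.fst G.s G.t) G.c (gpd_c_t G).symm, ?_, ?_⟩, hc⟩
  · apply pullback.hom_ext
    · rw [Category.assoc, pullback.lift_fst, h1, Category.id_comp]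
    · rw [Category.assoc, pullback.lift_snd, hc, Category.id_comp]
  · apply pullback.hom_ext
    · rw [Category.assoc, h1, pullback.lift_fst, Category.id_comp]
    · rw [Category.assoc, h2, Category.id_comp, ← Category.assoc, pullback_comp_lift]
      have := gpd_inv_comp_comp G (pullback.fst G.s G.t) (pullback.snd G.s G.t) pullback.condition
      rw [← this]
      congr 1
      refine pullback_lift_congr _ ?_ ?_
      · rw [← Category.assoc, pullback.lift_fst]
      · rw [pullback.lift_snd]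
        conv_lhs => rw [← Category.id_comp G.c]
        congr 1
        apply pullback.hom_ext
        · rw [Category.id_comp, pullback.lift_fst]
        · rw [Category.id_comp, pullback.lift_snd]

/-- Left translation by a section `a` of `s` with `a ≫ t` invertible is an automorphism. -/
theorem gpd_translation (a : G.U ⟶ G.R) (ha : a ≫ G.s = 𝟙 G.U) [IsIso (a ≫ G.t)]
    (hα : (G.t ≫ a) ≫ G.s = 𝟙 G.R ≫ G.t) :
    IsIso (pullback.lift (G.t ≫ a) (𝟙 G.R) hα ≫ G.c) ∧
      G.e ≫ (pullback.lift (G.t ≫ a) (𝟙 G.R) hα ≫ G.c) = a := by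
  constructor
  · have hβ : (G.t ≫ inv (a ≫ G.t) ≫ a ≫ G.i) ≫ G.s = 𝟙 G.R ≫ G.t := by
      rw [Category.assoc, Category.assoc, Category.assoc, G.i_s, IsIso.inv_hom_id,
        Category.comp_id, Category.id_comp]
    refine ⟨pullback.lift (G.t ≫ inv (a ≫ G.t) ≫ a ≫ G.i) (𝟙 G.R) hβ ≫ G.c, ?_, ?_⟩
    · rw [← Category.assoc, pullback_comp_lift]
      have := gpd_inv_comp_comp G (G.t ≫ a) (𝟙 G.R) hα
      conv_rhs => rw [← this]
      congr 1
      refine pullback_lift_congr _ ?_ (Category.comp_id _)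
      rw [Category.assoc, ← Category.assoc G.c, gpd_c_t, Category.assoc, pullback.lift_fst_assoc,
        Category.assoc, Category.assoc]
      congr 1
      rw [← Category.assoc a, IsIso.hom_inv_id_assoc]
    · rw [← Category.assoc, pullback_comp_lift]
      have h0 : (G.t ≫ inv (a ≫ G.t) ≫ a) ≫ G.t = 𝟙 G.R ≫ G.t := by
        rw [Category.assoc, Category.assoc, IsIso.inv_hom_id, Category.comp_id, Category.id_comp]
      have := gpd_comp_inv_comp G (G.t ≫ inv (a ≫ G.t) ≫ a) (𝟙 G.R) h0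
      conv_rhs => rw [← this]
      congr 1
      refine pullback_lift_congr _ ?_ ?_
      · rw [Category.assoc, ← Category.assoc G.c, gpd_c_t, Category.assoc,
          pullback.lift_fst_assoc]
        simp only [Category.assoc]
        rw [reassoc_of% G.i_t, reassoc_of% ha]
      · rw [Category.comp_id]
        congr 1
  · rw [← Category.assoc, pullback_comp_lift]
    have := G.comp_e a
    conv_rhs => rw [← this]
    congr 1
    refine pullback_lift_congr _ ?_ ?_
    · rw [← Category.assoc, G.e_t, Category.id_comp]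
    · rw [Category.comp_id, reassoc_of% ha]

/-- Right translation of the `s`-fibres by an arrow `δ : u' → u`. -/
noncomputable def gpd_fibreMap {T : Sp S} (u u' : T ⟶ G.U) (δ : T ⟶ G.R) (hs : δ ≫ G.s = u')
    (ht : δ ≫ G.t = u) : pullback u G.s ⟶ pullback u' G.s :=
  pullback.lift (pullback.fst u G.s)
    (pullback.lift (pullback.snd u G.s) (pullback.fst u G.s ≫ δ)
      (by rw [Category.assoc, ht, pullback.condition]) ≫ G.c)
    (by rw [G.comp_s, Category.assoc, hs])

theorem gpd_fibreMap_fst {T : Sp S} (u u' : T ⟶ G.U) (δ : T ⟶ G.R) (hs : δ ≫ G.s = u')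
    (ht : δ ≫ G.t = u) : gpd_fibreMap G u u' δ hs ht ≫ pullback.fst u' G.s = pullback.fst u G.s :=
  pullback.lift_fst _ _ _

theorem gpd_fibreMap_snd {T : Sp S} (u u' : T ⟶ G.U) (δ : T ⟶ G.R) (hs : δ ≫ G.s = u')
    (ht : δ ≫ G.t = u) : gpd_fibreMap G u u' δ hs ht ≫ pullback.snd u' G.s =
      pullback.lift (pullback.snd u G.s) (pullback.fst u G.s ≫ δ)
        (by rw [Category.assoc, ht, pullback.condition]) ≫ G.c :=
  pullback.lift_snd _ _ _

theorem gpd_fibreMap_inv {T : Sp S} (u u' : T ⟶ G.U) (δ : T ⟶ G.R) (hs : δ ≫ G.s = u')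
    (ht : δ ≫ G.t = u) :
    gpd_fibreMap G u u' δ hs ht ≫ gpd_fibreMap G u' u (δ ≫ G.i)
      (by rw [Category.assoc, G.i_s, ht]) (by rw [Category.assoc, G.i_t, hs]) = 𝟙 _ := by
  apply pullback.hom_ext
  · rw [Category.assoc, gpd_fibreMap_fst, gpd_fibreMap_fst, Category.id_comp]
  · rw [Category.assoc, gpd_fibreMap_snd, ← Category.assoc, pullback_comp_lift, Category.id_comp]
    have := gpd_comp_comp_inv G (pullback.snd u G.s) (pullback.fst u G.s ≫ δ)
      (by rw [Category.assoc, ht, pullback.condition])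
    conv_rhs => rw [← this]
    congr 1
    refine pullback_lift_congr _ ?_ ?_
    · rw [gpd_fibreMap_snd]
    · rw [← Category.assoc, gpd_fibreMap_fst, Category.assoc]

theorem gpd_fibreMap_inv' {T : Sp S} (u u' : T ⟶ G.U) (δ : T ⟶ G.R) (hs : δ ≫ G.s = u')
    (ht : δ ≫ G.t = u) :
    gpd_fibreMap G u' u (δ ≫ G.i)
      (by rw [Category.assoc, G.i_s, ht]) (by rw [Category.assoc, G.i_t, hs]) ≫
      gpd_fibreMap G u u' δ hs ht = 𝟙 _ := by
  apply pullback.hom_ext
  · rw [Category.assoc, gpd_fibreMap_fst, gpd_fibreMap_fst, Category.id_comp]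
  · rw [Category.assoc, gpd_fibreMap_snd, ← Category.assoc, pullback_comp_lift, Category.id_comp]
    have := gpd_comp_inv_comp' G (pullback.snd u' G.s) (pullback.fst u' G.s ≫ δ)
      (by rw [Category.assoc, hs, pullback.condition])
    conv_rhs => rw [← this]
    congr 1
    refine pullback_lift_congr _ ?_ ?_
    · rw [gpd_fibreMap_snd]
      congr 1
    · rw [← Category.assoc, gpd_fibreMap_fst]

theorem gpd_fibre_iso {T : Sp S} (r r' : T ⟶ G.R) (h : r ≫ G.t = r' ≫ G.t) :
    Nonempty (Over.mk (pullback.fst (r ≫ G.s) G.s) ≅ Over.mk (pullback.fst (r' ≫ G.s) G.s)) := by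
  have h1 : (r ≫ G.i) ≫ G.s = r' ≫ G.t := by rw [Category.assoc, G.i_s, h]
  have hs : (pullback.lift (r ≫ G.i) r' h1 ≫ G.c) ≫ G.s = r' ≫ G.s := G.comp_s _ _ _
  have ht : (pullback.lift (r ≫ G.i) r' h1 ≫ G.c) ≫ G.t = r ≫ G.s := by
    rw [G.comp_t, Category.assoc, G.i_t]
  exact ⟨Over.isoMk ⟨gpd_fibreMap G _ _ _ hs ht, gpd_fibreMap G _ _ _ _ _,
    gpd_fibreMap_inv G _ _ _ hs ht, gpd_fibreMap_inv' G _ _ _ hs ht⟩
    (gpd_fibreMap_fst G _ _ _ hs ht)⟩

end Groth.Agent.Lib.Helper14.AS
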