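import Groth.Agent.Lib.Helper14.AlgSpGpd2
import Groth.Agent.Lib.Helper14.GActionPts
import Mathlib.CategoryTheory.Limits.Constructions.Over.Connected
universe u
open CategoryTheory CategoryTheory.Limits AlgebraicGeometry MonoidalCategory CartesianMonoidalCategory MonObj
namespace Groth.Agent.Lib.Helper14.AS
variable {S : Scheme.{u}}
open AlgSp Groth.Agent.Lib.Helper14.AS

/-- The multiplication of a group object is the base change of the structure map along itself. -/
theorem grpObj_isPullback_mul {C : Type*} [Category C] [CartesianMonoidalCategory C] (G : C) [GrpObj G] :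
    IsPullback μ[G] (fst G G) (toUnit G) (toUnit G) := by
  refine isPullback_of_exists_unique (toUnit_unique _ _) ?_ ?_
  · intro T x y _
    refine ⟨lift y (y⁻¹ * x), ?_, lift_fst _ _⟩
    rw [← Hom.mul_def, mul_inv_cancel_left]
  · intro T z z' hm hf
    have e : ∀ w : T ⟶ G ⊗ G, w ≫ μ[G] = (w ≫ fst G G) * (w ≫ snd G G) := by
      intro w
      rw [Hom.mul_def, lift_comp_fst_snd]
    rw [e z, e z', hf] at hm
    have hs : z ≫ snd G G = z' ≫ snd G G := mul_left_cancel hm
    exact CartesianMonoidalCategory.hom_ext _ _ hf hs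

theorem grpObj_isPullback_mul_left {B : Sp S} (G : Over B) [GrpObj G] :
    IsPullback (μ[G]).left (fst G G).left G.hom G.hom := by
  have := (grpObj_isPullback_mul G).map (Over.forget B)
  simpa using this

end Groth.Agent.Lib.Helper14.AS

namespace Groth.Agent.Lib.Helper14.AS
open AlgSp Groth.Agent.Lib.Helper14.AS

theorem grp_mul_flat_univOpen (k : Type u) [Field k]
    (G : Over ((AlgSp.yon (Spec (CommRingCat.of k))).obj (Over.mk (𝟙 _)))) [GrpObj G]
    (hG : AlgSp.IsAlgSpace G.left) :
    AlgSp.LocP @Flat (μ[G]).left ∧ AlgSp.IsUnivOpenMor (μ[G]).left := by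
  have sq := grpObj_isPullback_mul_left G
  have hB : IsAlgSpace ((AlgSp.yon (Spec (CommRingCat.of k))).obj (Over.mk (𝟙 _))) :=
    IsAlgSpace.yon_obj _
  have hGG : IsAlgSpace (G ⊗ G).left :=
    isAlgSpace_of_isPullback (repDiag_of_isAlgSpace hB) hG hG sq
  refine ⟨locP_baseChange etLocal_flat hG hB hG G.hom G.hom _ (μ[G]).left sq.flip
    (locP_flat_to_field hG (𝟙 _) (Iso.refl _) G.hom), ?_⟩
  exact univSp_of_isPullback _ sq.flip (isUnivOpenMor_to_field' hG (𝟙 _) (Iso.refl _) G.hom)

end Groth.Agent.Lib.Helper14.AS
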