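import Groth.Agent.Lib.Helper14.AlgSpPoints3
import Mathlib.AlgebraicGeometry.Morphisms.UniversallyInjective

/-!
# Universally injective morphisms of algebraic spaces (helper14)
-/

universe u
open CategoryTheory CategoryTheory.Limits AlgebraicGeometry Opposite Topology

namespace Groth.Agent.Lib.Helper14.AS

open AlgSp

variable {S : Scheme.{u}}

theorem repWith_universallyInjective_iff {X Y : Sp S} {f : X ⟶ Y} (hf : Representable f) :
    RepWith @UniversallyInjective f ↔
      ∀ (K : Type u) [Field K] (str : Spec (CommRingCat.of K) ⟶ S),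
        Function.Injective (fun a : (yon S).obj (Over.mk str) ⟶ X => a ≫ f) := by
  constructor
  · intro h K _ str a a' haa
    change a ≫ f = a' ≫ f at haa
    have sq := hf.isPullback (a ≫ f)
    have hb : UniversallyInjective (hf.snd (a ≫ f)).left := h.property _ _ _ sq
    obtain ⟨s, hs⟩ := (yon S).map_surjective (sq.lift a (𝟙 _) (by simp))
    obtain ⟨s', hs'⟩ := (yon S).map_surjective (sq.lift a' (𝟙 _) (by simp [haa]))
    have h1 : s ≫ hf.snd (a ≫ f) = 𝟙 _ :=
      (yon S).map_injective (by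
        rw [Functor.map_comp, hs, sq.lift_snd]; exact ((yon S).map_id _).symm)
    have h2 : s' ≫ hf.snd (a ≫ f) = 𝟙 _ :=
      (yon S).map_injective (by
        rw [Functor.map_comp, hs', sq.lift_snd]; exact ((yon S).map_id _).symm)
    have hinj : ∀ (K : Type u) [Field K], Function.Injective
        (fun g : Spec (.of K) ⟶ (hf.pullback (a ≫ f)).left ↦ g ≫ (hf.snd (a ≫ f)).left) :=
      ((tfae_universallyInjective (hf.snd (a ≫ f)).left).out 0 1).1 hb
    have hl : s.left = s'.left := hinj K (by
      change s.left ≫ (hf.snd (a ≫ f)).left = s'.left ≫ (hf.snd (a ≫ f)).left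
      rw [← Over.comp_left, ← Over.comp_left, h1, h2])
    have hss : s = s' := Over.OverMorphism.ext hl
    have e1 : a = (yon S).map s ≫ hf.fst (a ≫ f) := by rw [hs, sq.lift_fst]
    have e2 : a' = (yon S).map s' ≫ hf.fst (a ≫ f) := by rw [hs', sq.lift_fst]
    rw [e1, e2, hss]
  · intro h
    refine MorphismProperty.relative_of_snd hf fun T g => ?_
    change UniversallyInjective (hf.snd g).left
    have key : ∀ (K : Type u) [Field K], Function.Injective
        (fun g' : Spec (.of K) ⟶ (hf.pullback g).left ↦ g' ≫ (hf.snd g).left) := ?_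
    · exact ((tfae_universallyInjective (hf.snd g).left).out 0 1).2 key
    intro K _ g₁ g₂ hg
    change g₁ ≫ (hf.snd g).left = g₂ ≫ (hf.snd g).left at hg
    have sq := hf.isPullback g
    have hstr : g₂ ≫ (hf.pullback g).hom = g₁ ≫ (hf.pullback g).hom := by
      rw [← Over.w (hf.snd g), ← Category.assoc, ← Category.assoc, hg]
    let γ₁ : Over.mk (g₁ ≫ (hf.pullback g).hom) ⟶ hf.pullback g := Over.homMk g₁ rfl
    let γ₂ : Over.mk (g₁ ≫ (hf.pullback g).hom) ⟶ hf.pullback g := Over.homMk g₂ hstr
    have hγ : γ₁ ≫ hf.snd g = γ₂ ≫ hf.snd g := Over.OverMorphism.ext hg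
    have ha : (yon S).map γ₁ ≫ hf.fst g = (yon S).map γ₂ ≫ hf.fst g := by
      apply h K (g₁ ≫ (hf.pullback g).hom)
      change ((yon S).map γ₁ ≫ hf.fst g) ≫ f = ((yon S).map γ₂ ≫ hf.fst g) ≫ f
      rw [Category.assoc, Category.assoc, sq.w, ← Category.assoc, ← Category.assoc,
        ← Functor.map_comp, ← Functor.map_comp, hγ]
    have : (yon S).map γ₁ = (yon S).map γ₂ := by
      apply sq.hom_ext ha
      rw [← Functor.map_comp, ← Functor.map_comp, hγ]
    have hγ' : γ₁ = γ₂ := (yon S).map_injective this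
    exact congrArg (fun γ => γ.left) hγ'

/-- Universal injectivity descends along a surjective base change. -/
theorem isUnivInjectiveMor_of_surjective_base_change {X Y Z P : Sp S} (hY : IsAlgSpace Y)
    (hZ : IsAlgSpace Z) {f : X ⟶ Y} (g : Z ⟶ Y) (hg : IsSurjectiveMor g) {fst : P ⟶ X}
    {snd : P ⟶ Z} (sq : IsPullback fst snd f g) (h : IsUnivInjectiveMor snd) :
    IsUnivInjectiveMor f := by
  intro T T' hT t fstT q sqT x x' hxx
  -- sqT : IsPullback fstT q f t
  obtain ⟨ζ, hζ⟩ := hg (Points.map t (Points.map q x))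
  have sqZ := IsPullback.of_hasPullback t g
  have hTZ : IsAlgSpace (pullback t g) :=
    isAlgSpace_of_isPullback (repDiag_of_isAlgSpace hY) hT hZ sqZ
  obtain ⟨θ, hθ1, hθ2⟩ := points_exists_of_isPullback sqZ (Points.map q x) ζ hζ.symm
  have sq1 := IsPullback.of_hasPullback q (pullback.fst t g)
  have big := sq1.paste_horiz sqT
  have hc : (pullback.fst q (pullback.fst t g) ≫ fstT) ≫ f =
      (pullback.snd q (pullback.fst t g) ≫ pullback.snd t g) ≫ g := by
    rw [big.w, Category.assoc, sqZ.w]
  have key : IsPullback (sq.lift _ _ hc) (pullback.snd q (pullback.fst t g)) snd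
      (pullback.snd t g) := by
    refine IsPullback.of_right ?_ (sq.lift_snd _ _ _) sq
    rw [sq.lift_fst, ← sqZ.w]
    exact big
  have hinj := h hTZ _ _ _ key
  obtain ⟨ξ, hξ1, hξ2⟩ := points_exists_of_isPullback sq1 x θ hθ1.symm
  obtain ⟨ξ', hξ'1, hξ'2⟩ := points_exists_of_isPullback sq1 x' θ (by rw [hθ1, hxx])
  have : ξ = ξ' := hinj (hξ2.trans hξ'2.symm)
  rw [← hξ1, ← hξ'1, this]

end Groth.Agent.Lib.Helper14.AS
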