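import Groth.Agent.Lib.Helper14.AlgSpLocP
import Groth.Agent.Lib.Helper14.LfpOfComp

/-!
# Locally of finite presentation: cancellation (helper14)
-/

universe u
open CategoryTheory CategoryTheory.Limits AlgebraicGeometry Opposite Topology

namespace Groth.Agent.Lib.Helper14.AS

open AlgSp

variable {S : Scheme.{u}}

set_option backward.isDefEq.respectTransparency.types false in
theorem locP_lfp_of_comp {X Y Z : Sp S} (hZ : IsAlgSpace Z) (f : X ⟶ Y) (g : Y ⟶ Z)
    (hfg : LocP @LocallyOfFinitePresentation (f ≫ g)) (hg : LocP @LocallyOfFiniteType g) :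
    LocP @LocallyOfFinitePresentation f := by
  intro U V a b h ha hb comm
  obtain ⟨W, c, hce, hcs⟩ := hZ.atlas
  have sqV := hce.rep.isPullback (b ≫ g)
  have he : Etale (hce.rep.snd (b ≫ g)).left := hce.property_snd _
  have hs : Surjective (hce.rep.snd (b ≫ g)).left := hcs.property _ _ _ sqV
  obtain ⟨w1, hw1⟩ := (yon S).map_surjective (hce.rep.fst (b ≫ g))
  have hb' : RepWith @Etale ((yon S).map (hce.rep.snd (b ≫ g)) ≫ b) :=
    repWith_comp _ ((repWith_yon_map_iff _ _).2 he) hb
  have commg : ((yon S).map (hce.rep.snd (b ≫ g)) ≫ b) ≫ g = (yon S).map w1 ≫ c := by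
    rw [hw1, Category.assoc]
    exact sqV.w.symm
  have hw1lft : LocallyOfFiniteType w1.left := hg _ c w1 hb' hce commg
  have sqU := IsPullback.of_hasPullback h (hce.rep.snd (b ≫ g))
  have hfe : Etale (pullback.fst h (hce.rep.snd (b ≫ g))).left :=
    MorphismProperty.of_isPullback (P := MorphismProperty.inverseImage @Etale (Over.forget S)) sqU.flip he
  have ha' : RepWith @Etale ((yon S).map (pullback.fst h (hce.rep.snd (b ≫ g))) ≫ a) :=
    repWith_comp _ ((repWith_yon_map_iff _ _).2 hfe) ha
  have comm' : ((yon S).map (pullback.fst h (hce.rep.snd (b ≫ g))) ≫ a) ≫ f ≫ g =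
      (yon S).map (pullback.snd h (hce.rep.snd (b ≫ g)) ≫ w1) ≫ c := by
    rw [Category.assoc, reassoc_of% comm, ← Functor.map_comp_assoc, sqU.w, Functor.map_comp,
      Functor.map_comp, Category.assoc, Category.assoc, hw1, sqV.w]
  have h1 : LocallyOfFinitePresentation
      ((pullback.snd h (hce.rep.snd (b ≫ g))).left ≫ w1.left) :=
    hfg _ c _ ha' hce comm'
  have h2 : LocallyOfFinitePresentation (pullback.snd h (hce.rep.snd (b ≫ g))).left :=
    locallyOfFinitePresentation_of_comp _ w1.left h1 hw1lft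
  exact P_of_etale_surjective_base_change sqU he hs h2

end Groth.Agent.Lib.Helper14.AS
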