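import Groth.Agent.Lib.Helper14.AlgSpFieldQC2

open CategoryTheory CategoryTheory.Limits AlgebraicGeometry Opposite AlgSp
open CategoryTheory.Functor Groth.Agent.Lib.Helper14.AS

universe u

noncomputable section

namespace Groth.Agent.Lib.Helper14.AS

variable {S : Scheme.{u}}

set_option backward.isDefEq.respectTransparency.types false in
/-- (R1') If `Spec K → U` is a monomorphism, `U → X` is etale and `Spec L → X` is any field
point, then `Spec K ×_X Spec L` is etale over `Spec L`. -/
theorem etale_pullback_of_mono_field {X : Sp S} {U : Over S} (a : (yon S).obj U ⟶ X)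
    (ha : RepWith @Etale a) {K : Type u} [Field K] (str : Spec (CommRingCat.of K) ⟶ S)
    (g : Over.mk str ⟶ U) [Mono g.left] {L : Type u} [Field L]
    (strL : Spec (CommRingCat.of L) ⟶ S) (c : (yon S).obj (Over.mk strL) ⟶ X) {R : Over S}
    (r1 : R ⟶ Over.mk str) (r2 : R ⟶ Over.mk strL)
    (sqR : IsPullback ((yon S).map r1) ((yon S).map r2) ((yon S).map g ≫ a) c) :
    Etale r2.left := by
  have sq1 := ha.rep.isPullback' c
  have hs1 : Etale (ha.rep.snd c).left := ha.property_snd _
  set W := ha.rep.pullback c with hW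
  set f1 := ha.rep.fst' c with hf1
  set s1 := ha.rep.snd c with hs1def
  have hw : (yon S).map (r1 ≫ g) ≫ a = (yon S).map r2 ≫ c := by
    rw [Functor.map_comp, Category.assoc]; exact sqR.w
  obtain ⟨l, hl⟩ := (yon S).map_surjective (sq1.lift ((yon S).map (r1 ≫ g)) ((yon S).map r2) hw)
  have hl1 : l ≫ f1 = r1 ≫ g := (yon S).map_injective (by
    rw [Functor.map_comp, hl, sq1.lift_fst])
  have hl2 : l ≫ s1 = r2 := (yon S).map_injective (by
    rw [Functor.map_comp, hl, sq1.lift_snd])
  have sqL : IsPullback ((yon S).map r1) ((yon S).map l) ((yon S).map g) ((yon S).map f1) := by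
    refine IsPullback.of_bot (v₂₁ := (yon S).map s1) (v₂₂ := a) (h₃₁ := c) ?_ ?_ sq1
    · rw [← Functor.map_comp, hl2]; exact sqR
    · rw [← Functor.map_comp, ← Functor.map_comp, hl1]
  have sqL' : IsPullback r1 l g f1 := IsPullback.of_map_of_faithful (yon S) sqL
  have sqL'' : IsPullback r1.left l.left g.left f1.left := sqL'.map (Over.forget S)
  have hmono : Mono l.left :=
    MorphismProperty.of_isPullback (P := MorphismProperty.monomorphisms Scheme.{u}) sqL''
      (MorphismProperty.monomorphisms.infer_property g.left)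
  have hlqf : LocallyQuasiFinite s1.left := etale_locallyQuasiFinite _
  have hdisc : DiscreteTopology ↥W.left :=
    discreteTopology_of_lqf_field (K := L) s1.left
  have hfield : ∀ w : ↥W.left, IsField (W.left.presheaf.stalk w) := fun w =>
    isField_stalk_of_unramified s1.left w (isField_stalk_Spec_field L _)
  have hoi : IsOpenImmersion l.left := isOpenImmersion_of_mono_of_discrete l.left hfield
  rw [← hl2, Over.comp_left]
  infer_instance

/-- A finite morphism to a scheme with finitely many points has finitely many points in its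
source. -/
theorem finite_carrier_of_isFinite {X Y : Scheme.{u}} (f : X ⟶ Y) [IsFinite f] [Finite ↥Y] :
    Finite ↥X := by
  have h : (Set.univ : Set ↥X) = ⋃ y : ↥Y, f ⁻¹' {y} := by
    ext x; simp
  have hfin : (Set.univ : Set ↥X).Finite := by
    rw [h]
    exact Set.finite_iUnion fun y => f.finite_preimage_singleton y
  exact Set.finite_univ_iff.1 hfin

set_option backward.isDefEq.respectTransparency.types false in
/-- An etale morphism from a scheme with finitely many points to the spectrum of a field is
finite. -/
theorem isFinite_of_etale_of_finite_carrier {R : Scheme.{u}} {K : Type u} [Field K]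
    (f : R ⟶ Spec (CommRingCat.of K)) [Etale f] [Finite ↥R] : IsFinite f := by
  have hcpt : CompactSpace ↥R := Finite.compactSpace
  have hqc : QuasiCompact f :=
    (HasAffineProperty.iff_of_isAffine (P := @QuasiCompact) (f := f)).2 hcpt
  have hlqf : LocallyQuasiFinite f := etale_locallyQuasiFinite _
  exact IsFinite.of_locallyQuasiFinite _


set_option backward.isDefEq.respectTransparency.types false in
/-- If two points `u`, `u'` of an etale chart lie over the same point `x` of an algebraic space
and the fibre of `U ×_X U` over `(u, u')` is finite, then `x` is represented by a monomorphism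
from the spectrum of a field. -/
theorem exists_mono_point_of_finite_relation_fibre {X : Sp S} (hX : IsAlgSpace X) {U : Over S}
    (φ : (yon S).obj U ⟶ X) (hφ : RepWith @Etale φ) (u u' : ↥U.left)
    (he : Points.ofPt φ u = Points.ofPt φ u') {R : Over S} (s t : R ⟶ U)
    (sq : IsPullback ((yon S).map t) ((yon S).map s) φ φ)
    (hfin : {r : ↥R.left | s.left r = u ∧ t.left r = u'}.Finite) :
    ∃ p : FieldPt X, Points.mk p = Points.ofPt φ u ∧ Mono p.toHom := by
  let qA : FieldPt X := FieldPt.ofPt φ u
  let qB : FieldPt X := FieldPt.ofPt φ u'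
  let gA : qA.pt ⟶ U := Over.homMk (U.left.fromSpecResidueField u) rfl
  let gB : qB.pt ⟶ U := Over.homMk (U.left.fromSpecResidueField u') rfl
  have hgA : Mono gA.left := (inferInstance : Mono (U.left.fromSpecResidueField u))
  have hgB : Mono gB.left := (inferInstance : Mono (U.left.fromSpecResidueField u'))
  have hgA' : Mono gA := (Over.forget S).mono_of_mono_map hgA
  have hgB' : Mono gB := (Over.forget S).mono_of_mono_map hgB
  have hcA : qA.toHom = (yon S).map gA ≫ φ := FieldPt.toHom_ofPt φ u
  have hcB : qB.toHom = (yon S).map gB ≫ φ := FieldPt.toHom_ofPt φ u'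
  have hA : Representable qA.toHom := repDiag_of_isAlgSpace hX _
  have sqAA := hA.isPullback' qA.toHom
  have sqAB := hA.isPullback' qB.toHom
  set a1 := hA.fst' qA.toHom with ha1
  set a2 := hA.snd qA.toHom with ha2
  set t1 := hA.fst' qB.toHom with ht1
  set t2 := hA.snd qB.toHom with ht2
  -- the map `T → R`
  have cond : (yon S).map (t2 ≫ gB) ≫ φ = (yon S).map (t1 ≫ gA) ≫ φ := by
    rw [Functor.map_comp, Functor.map_comp, Category.assoc, Category.assoc, ← hcA, ← hcB]
    exact sqAB.w.symm
  obtain ⟨m, hm⟩ := (yon S).map_surjective (sq.lift _ _ cond)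
  have hmt : m ≫ t = t2 ≫ gB :=
    (yon S).map_injective (by rw [Functor.map_comp, hm, sq.lift_fst])
  have hms : m ≫ s = t1 ≫ gA :=
    (yon S).map_injective (by rw [Functor.map_comp, hm, sq.lift_snd])
  have hmm : Mono m := by
    constructor
    intro Z a b hab
    have e1 : a ≫ t1 = b ≫ t1 := by
      rw [← cancel_mono gA, Category.assoc, Category.assoc, ← hms, ← Category.assoc,
        ← Category.assoc, hab]
    have e2 : a ≫ t2 = b ≫ t2 := by
      rw [← cancel_mono gB, Category.assoc, Category.assoc, ← hmt, ← Category.assoc,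
        ← Category.assoc, hab]
    apply (yon S).map_injective
    apply sqAB.hom_ext
    · rw [← Functor.map_comp, ← Functor.map_comp, e1]
    · rw [← Functor.map_comp, ← Functor.map_comp, e2]
  have hmm' : Mono m.left := inferInstance
  have hinj : Function.Injective m.left := m.left.injective
  have himg : ∀ τ, m.left τ ∈ {r : ↥R.left | s.left r = u ∧ t.left r = u'} := by
    intro τ
    constructor
    · have : s.left (m.left τ) = (m ≫ s).left τ := rfl
      rw [this, hms]
      exact Scheme.fromSpecResidueField_apply u _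
    · have : t.left (m.left τ) = (m ≫ t).left τ := rfl
      rw [this, hmt]
      exact Scheme.fromSpecResidueField_apply u' _
  have hfinT : Finite ↥(hA.pullback qB.toHom).left := by
    have := hfin.to_subtype
    exact Finite.of_injective (fun τ => (⟨m.left τ, himg τ⟩ :
      ↥{r : ↥R.left | s.left r = u ∧ t.left r = u'}))
      (fun a b hab => hinj (Subtype.ext_iff.1 hab))
  have het2 : Etale t2.left :=
    etale_pullback_of_mono_field φ hφ qA.str gA qB.str qB.toHom t1 t2 (by rw [← hcA]; exact sqAB)
  have het1 : Etale t1.left :=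
    etale_pullback_of_mono_field φ hφ qB.str gB qA.str qA.toHom t2 t1
      (by rw [← hcB]; exact sqAB.flip)
  have hfin2 : IsFinite t2.left := isFinite_of_etale_of_finite_carrier (K := qB.K) t2.left
  -- `T` is nonempty
  obtain ⟨τ, -, -⟩ := exists_point_of_isPullback_yon sqAB
    (IsLocalRing.closedPoint qA.K : ↥(Spec (CommRingCat.of qA.K)))
    (IsLocalRing.closedPoint qB.K : ↥(Spec (CommRingCat.of qB.K)))
    (by rw [Points.ofPt_toHom, Points.ofPt_toHom]; exact he)
  have hsurj1 : Surjective t1.left :=
    ⟨fun a => ⟨τ, Subsingleton.elim (α := ↥(Spec (CommRingCat.of qA.K))) _ _⟩⟩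
  -- `W' = (A ×_X A) ×_A T`
  have sqW := IsPullback.of_hasPullback a2 t1
  have sqW' := sqW.map (Over.forget S)
  have hsurjw : Surjective (pullback.fst a2 t1).left :=
    MorphismProperty.of_isPullback (P := @Surjective) sqW'.flip hsurj1
  -- `P = T ×_B T`
  have sqP := IsPullback.of_hasPullback t2 t2
  have sqP' := sqP.map (Over.forget S)
  have hfinp : IsFinite (pullback.fst t2 t2).left :=
    MorphismProperty.of_isPullback (P := @IsFinite) sqP'.flip hfin2
  have hfinP : Finite ↥(pullback t2 t2).left := finite_carrier_of_isFinite (pullback.fst t2 t2).left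
  -- the comparison map
  have condθ : (yon S).map (pullback.fst a2 t1 ≫ a1) ≫ qA.toHom =
      (yon S).map (pullback.snd a2 t1 ≫ t2) ≫ qB.toHom := by
    rw [Functor.map_comp, Functor.map_comp, Category.assoc, Category.assoc, sqAA.w, ← sqAB.w,
      ← Category.assoc, ← Category.assoc, ← Functor.map_comp, ← Functor.map_comp, sqW.w]
  obtain ⟨θ₁, hθ₁⟩ := (yon S).map_surjective (sqAB.lift _ _ condθ)
  have hθ₁1 : θ₁ ≫ t1 = pullback.fst a2 t1 ≫ a1 :=
    (yon S).map_injective (by rw [Functor.map_comp, hθ₁, sqAB.lift_fst])
  have hθ₁2 : θ₁ ≫ t2 = pullback.snd a2 t1 ≫ t2 :=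
    (yon S).map_injective (by rw [Functor.map_comp, hθ₁, sqAB.lift_snd])
  let θ : pullback a2 t1 ⟶ pullback t2 t2 := pullback.lift θ₁ (pullback.snd a2 t1) hθ₁2
  have hθm : Mono θ := by
    constructor
    intro Z z z' hzz
    have e2 : z ≫ pullback.snd a2 t1 = z' ≫ pullback.snd a2 t1 := by
      have := congrArg (· ≫ pullback.snd t2 t2) hzz
      simpa only [Category.assoc, θ, pullback.lift_snd] using this
    have e1 : z ≫ θ₁ = z' ≫ θ₁ := by
      have := congrArg (· ≫ pullback.fst t2 t2) hzz
      simpa only [Category.assoc, θ, pullback.lift_fst] using this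
    have e3 : (z ≫ pullback.fst a2 t1) ≫ a1 = (z' ≫ pullback.fst a2 t1) ≫ a1 := by
      rw [Category.assoc, Category.assoc, ← hθ₁1, ← Category.assoc, ← Category.assoc, e1]
    have e4 : (z ≫ pullback.fst a2 t1) ≫ a2 = (z' ≫ pullback.fst a2 t1) ≫ a2 := by
      rw [Category.assoc, Category.assoc, sqW.w, ← Category.assoc, ← Category.assoc, e2]
    have e5 : z ≫ pullback.fst a2 t1 = z' ≫ pullback.fst a2 t1 := by
      apply (yon S).map_injective
      apply sqAA.hom_ext
      · rw [← Functor.map_comp, ← Functor.map_comp, e3]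
      · rw [← Functor.map_comp, ← Functor.map_comp, e4]
    exact pullback.hom_ext e5 e2
  have hθm' : Mono θ.left := inferInstance
  have hfinW : Finite ↥(pullback a2 t1).left := Finite.of_injective θ.left θ.left.injective
  have hfinRA : Finite ↥(hA.pullback qA.toHom).left :=
    Finite.of_surjective (pullback.fst a2 t1).left hsurjw.surj
  obtain ⟨heta2, -⟩ := etale_kernel_pair_of_mono_field φ hφ qA.str gA a1 a2
    (by rw [← hcA]; exact sqAA)
  have hfina2 : IsFinite a2.left := isFinite_of_etale_of_finite_carrier (K := qA.K) a2.left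
  obtain ⟨P, π, -, hPm, hPq⟩ := exists_mono_point_of_finite_kernel_pair qA a2 a1 sqAA.flip hfina2
  exact ⟨P, hPq, hPm⟩

end Groth.Agent.Lib.Helper14.AS
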