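import Groth.Agent.Lib.Helper14.AlgSpOnePt
import Groth.Agent.Lib.Helper14.EtaleLQF

open CategoryTheory CategoryTheory.Limits AlgebraicGeometry Opposite AlgSp
open CategoryTheory.Functor Groth.Agent.Lib.Helper14.AS

universe u

noncomputable section

namespace Groth.Agent.Lib.Helper14.AS

variable {S : Scheme.{u}}

set_option backward.isDefEq.respectTransparency.types false in
/-- (R1) The kernel pair of `Spec K → U → X` (with `Spec K → U` a monomorphism and `U → X`
etale) is etale and surjective over `Spec K`. -/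
theorem etale_kernel_pair_of_mono_field {X : Sp S} {U : Over S} (a : (yon S).obj U ⟶ X)
    (ha : RepWith @Etale a) {K : Type u} [Field K] (str : Spec (CommRingCat.of K) ⟶ S)
    (g : Over.mk str ⟶ U) [Mono g.left] {R : Over S} (r1 r2 : R ⟶ Over.mk str)
    (sqR : IsPullback ((yon S).map r1) ((yon S).map r2) ((yon S).map g ≫ a) ((yon S).map g ≫ a)) :
    Etale r2.left ∧ Surjective r2.left := by
  have sq1 := ha.rep.isPullback' ((yon S).map g ≫ a)
  have hs1 : Etale (ha.rep.snd ((yon S).map g ≫ a)).left := ha.property_snd _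
  set W := ha.rep.pullback ((yon S).map g ≫ a) with hW
  set f1 := ha.rep.fst' ((yon S).map g ≫ a) with hf1
  set s1 := ha.rep.snd ((yon S).map g ≫ a) with hs1def
  have hw : (yon S).map (r1 ≫ g) ≫ a = (yon S).map r2 ≫ ((yon S).map g ≫ a) := by
    rw [Functor.map_comp, Category.assoc]; exact sqR.w
  obtain ⟨l, hl⟩ := (yon S).map_surjective (sq1.lift ((yon S).map (r1 ≫ g)) ((yon S).map r2) hw)
  have hl1 : l ≫ f1 = r1 ≫ g := (yon S).map_injective (by
    rw [Functor.map_comp, hl, sq1.lift_fst])
  have hl2 : l ≫ s1 = r2 := (yon S).map_injective (by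
    rw [Functor.map_comp, hl, sq1.lift_snd])
  -- the left square is a pullback
  have sqL : IsPullback ((yon S).map r1) ((yon S).map l) ((yon S).map g) ((yon S).map f1) := by
    refine IsPullback.of_bot (v₂₁ := (yon S).map s1) (v₂₂ := a) (h₃₁ := (yon S).map g ≫ a) ?_ ?_ sq1
    · rw [← Functor.map_comp, hl2]; exact sqR
    · rw [← Functor.map_comp, ← Functor.map_comp, hl1]
  have sqL' : IsPullback r1 l g f1 := IsPullback.of_map_of_faithful (yon S) sqL
  have sqL'' : IsPullback r1.left l.left g.left f1.left := sqL'.map (Over.forget S)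
  have hmono : Mono l.left :=
    MorphismProperty.of_isPullback (P := MorphismProperty.monomorphisms Scheme.{u}) sqL''
      (MorphismProperty.monomorphisms.infer_property g.left)
  have hlqf : LocallyQuasiFinite s1.left := etale_locallyQuasiFinite _
  have hdisc : DiscreteTopology ↥W.left :=
    discreteTopology_of_lqf_field (K := K) s1.left
  have hfield : ∀ w : ↥W.left, IsField (W.left.presheaf.stalk w) := fun w =>
    isField_stalk_of_unramified s1.left w (isField_stalk_Spec_field K _)
  have hoi : IsOpenImmersion l.left := isOpenImmersion_of_mono_of_discrete l.left hfield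
  have het : Etale r2.left := by
    rw [← hl2, Over.comp_left]
    infer_instance
  refine ⟨het, ⟨fun t => ?_⟩⟩
  obtain ⟨d, hd⟩ := (yon S).map_surjective (sqR.lift (𝟙 _) (𝟙 _) rfl)
  refine ⟨d.left t, Subsingleton.elim (α := ↥(Spec (CommRingCat.of K))) _ _⟩


set_option backward.isDefEq.respectTransparency.types false in
/-- (R2) Existence of the residual space at a point of an algebraic space. -/
theorem exists_residual_space {X : Sp S} (hX : IsAlgSpace X) (x : Points X) :
    ∃ (Z : Sp S) (_ : IsAlgSpace Z) (i : Z ⟶ X), Mono i ∧ Set.range (Points.map i) = {x} ∧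
      ∃ (k : Type u) (_ : Field k) (str : Spec (CommRingCat.of k) ⟶ S)
        (p : (yon S).obj (Over.mk str) ⟶ Z),
        LocP @LocallyOfFinitePresentation p ∧ LocP @Flat p ∧ IsSurjectiveMor p := by
  obtain ⟨U, a, hae, has⟩ := hX.atlas
  obtain ⟨u, hu⟩ := ofPt_surjective_of_repWith has x
  let g₀ : Spec (U.left.residueField u) ⟶ U.left := U.left.fromSpecResidueField u
  let str : Spec (CommRingCat.of ↑(U.left.residueField u)) ⟶ S := g₀ ≫ U.hom
  let g : Over.mk str ⟶ U := Over.homMk g₀ rfl
  have hgm : Mono g.left := (inferInstance : Mono g₀)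
  let c : (yon S).obj (Over.mk str) ⟶ X := (yon S).map g ≫ a
  let Z : Sp S := Sheaf.image c
  let π : (yon S).obj (Over.mk str) ⟶ Z := Sheaf.toImage c
  let i : Z ⟶ X := Sheaf.imageι c
  have hπi : π ≫ i = c := Sheaf.toImage_ι c
  have hZd : RepDiag Z := RepDiag.of_mono i (repDiag_of_isAlgSpace hX)
  have hc : Representable c := repDiag_of_isAlgSpace hX c
  have sqR := hc.isPullback' c
  obtain ⟨het, hsurj⟩ :=
    etale_kernel_pair_of_mono_field a hae str g (hc.fst' c) (hc.snd c) sqR
  have sqπ : IsPullback ((yon S).map (hc.fst' c)) ((yon S).map (hc.snd c)) π π :=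
    isPullback_of_comp_mono i (by rw [hπi]; exact sqR)
  have hepi : Epi π := inferInstanceAs (Epi (Sheaf.toImage c))
  have hloc : Sheaf.IsLocallySurjective π := (Sheaf.isLocallySurjective_iff_epi _).2 hepi
  have hπe : RepWith @Etale π :=
    repWith_of_isLocallySurjective_base (hZd π) π sqπ @Etale ((repWith_yon_map_iff _ _).2 het)
  have hπs : RepWith @Surjective π :=
    repWith_of_isLocallySurjective_base (hZd π) π sqπ @Surjective
      ((repWith_yon_map_iff _ _).2 hsurj)
  have hZ : IsAlgSpace Z := ⟨(repDiag_iff Z).2 hZd, ⟨_, π, hπe, hπs⟩⟩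
  have hpt : ∀ t : ↥(Over.mk str).left, Points.map i (Points.ofPt π t) = x := by
    intro t
    rw [Points.map_ofPt, hπi, ofPt_yon_map_comp]
    have : g.left t = u := Scheme.fromSpecResidueField_apply u t
    rw [this, hu]
  refine ⟨Z, hZ, i, inferInstanceAs (Mono (Sheaf.imageι c)), ?_, ↑(U.left.residueField u),
    inferInstance, str, π, locP_of_repWith etale_le_lfp (repWith_mono etale_le_lfp hπe),
    locP_of_repWith etale_le_flat (repWith_mono etale_le_flat hπe),
    points_map_surjective_of_repWith hπs⟩
  apply subset_antisymm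
  · rintro _ ⟨z, rfl⟩
    obtain ⟨t, rfl⟩ := ofPt_surjective_of_repWith hπs z
    exact hpt t
  · rintro _ rfl
    have : Nonempty ↥(Over.mk str).left :=
      inferInstanceAs (Nonempty ↥(Spec (CommRingCat.of ↑(U.left.residueField u))))
    obtain ⟨t⟩ := this
    exact ⟨_, hpt t⟩


theorem isRegularLocalRing_of_isField {R : Type u} [CommRing R] (h : IsField R) :
    IsRegularLocalRing R := by
  let _ := h.toField
  infer_instance

/-- A reduced, locally Noetherian, one-point algebraic space is regular. -/
theorem regular_of_reduced_noeth_one_point {Z : Sp S}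
    (hred : EtaleLocally (fun U => IsReduced U) Z) (hnoeth : IsLocNoethSp Z)
    (hne : Nonempty (Points Z)) (hsub : Subsingleton (Points Z)) :
    EtaleLocally (fun U => IsLocallyNoetherian U ∧
      ∀ u : ↥U, IsRegularLocalRing ↥(U.presheaf.stalk u)) Z := by
  obtain ⟨k₀, _, str₀, p₀, hp₀f, hp₀s⟩ := exists_flat_field_cover_of_reduced hred hne hsub
  obtain ⟨V, b, hbe, hbs, hV⟩ := hnoeth
  exact ⟨V, b, hbe, hbs, hV, fun v => isRegularLocalRing_of_isField
    (isField_stalk_of_flat_field_cover str₀ p₀ hp₀f hp₀s b hbe v)⟩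

end Groth.Agent.Lib.Helper14.AS
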