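import Groth.Agent.Lib.Helper14.TensorDiagClosure
import Groth.Agent.Lib.Helper14.AlgSpYonSigma
import Groth.Agent.Lib.Helper14.AlgSpDiag
import Groth.Agent.Lib.Helper14.AlgSpFieldQC2
import Groth.Agent.Lib.Helper14.AlgSpResidual
import Groth.Agent.Lib.Helper14.AlgSpMonoPt
import Mathlib.AlgebraicGeometry.Morphisms.FlatMono
import Mathlib.AlgebraicGeometry.PullbackCarrier
import Mathlib.AlgebraicGeometry.Pullbacks

open CategoryTheory CategoryTheory.Limits AlgebraicGeometry Opposite TensorProduct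
open Groth.Agent.Lib.Helper14.TDC AlgSp Groth.Agent.Lib.Helper14.AS

universe u

noncomputable section

namespace Groth.Agent.Lib.Helper14.AS

set_option backward.isDefEq.respectTransparency.types false in
/-- Scheme version of the tensor diagonal closure lemma: for infinitely many points of an affine
scheme over a field, the pairs of distinct points accumulate at the diagonal of the fibre square. -/
theorem exists_diagonal_mem_closure {Z : Scheme.{u}} [IsAffine Z] {k : Type u} [Field k]
    (g : Z ⟶ Spec (CommRingCat.of k)) {N : Type*} [Infinite N] (z : N → ↥Z) :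
    ∃ q : ↥Z, pullback.diagonal g q ∈ closure
      {y : ↥(pullback g g) | ∃ n m, n ≠ m ∧ pullback.fst g g y = z n ∧ pullback.snd g g y = z m} := by
  classical
  let A : CommRingCat.{u} := Γ(Z, ⊤)
  let c : Z ≅ Spec A := Z.isoSpec
  let ψ : CommRingCat.of k ⟶ A := Spec.preimage (c.inv ≫ g)
  have hψ : Spec.map ψ = c.inv ≫ g := Spec.map_preimage _
  let _ : Algebra k ↑A := ψ.hom.toAlgebra
  have hψa : ∀ x : k, ψ.hom x = algebraMap k ↑A x := fun x => rfl
  let l : A ⟶ CommRingCat.of (↑A ⊗[k] ↑A) :=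
    CommRingCat.ofHom (Algebra.TensorProduct.includeLeft (R := k) (S := k) (A := ↑A) (B := ↑A)).toRingHom
  let r : A ⟶ CommRingCat.of (↑A ⊗[k] ↑A) :=
    CommRingCat.ofHom (Algebra.TensorProduct.includeRight (R := k) (A := ↑A) (B := ↑A)).toRingHom
  let μ : CommRingCat.of (↑A ⊗[k] ↑A) ⟶ A :=
    CommRingCat.ofHom (Algebra.TensorProduct.lmul' (S := ↑A) k).toRingHom
  have hlr : ψ ≫ l = ψ ≫ r := by
    ext x
    change (Algebra.TensorProduct.includeLeft (R := k) (S := k) (A := ↑A) (B := ↑A)) (ψ.hom x) =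
      (Algebra.TensorProduct.includeRight (R := k) (A := ↑A) (B := ↑A)) (ψ.hom x)
    rw [hψa, AlgHom.commutes, AlgHom.commutes]
  have hlμ : l ≫ μ = 𝟙 A := by
    ext x
    change (Algebra.TensorProduct.lmul' (S := ↑A) k) (x ⊗ₜ[k] 1) = x
    simp
  have hrμ : r ≫ μ = 𝟙 A := by
    ext x
    change (Algebra.TensorProduct.lmul' (S := ↑A) k) (1 ⊗ₜ[k] x) = x
    simp
  let E : Spec (CommRingCat.of (↑A ⊗[k] ↑A)) ⟶ pullback g g :=
    pullback.lift (Spec.map l ≫ c.inv) (Spec.map r ≫ c.inv) (by
      rw [Category.assoc, Category.assoc, ← hψ, ← Spec.map_comp, ← Spec.map_comp, hlr])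
  have hE1 : E ≫ pullback.fst g g = Spec.map l ≫ c.inv := pullback.lift_fst _ _ _
  have hE2 : E ≫ pullback.snd g g = Spec.map r ≫ c.inv := pullback.lift_snd _ _ _
  have hEμ : Spec.map μ ≫ E = c.inv ≫ pullback.diagonal g := by
    apply pullback.hom_ext
    · rw [Category.assoc, hE1, ← Category.assoc, ← Spec.map_comp, hlμ, Spec.map_id, Category.id_comp,
        Category.assoc, pullback.diagonal_fst, Category.comp_id]
    · rw [Category.assoc, hE2, ← Category.assoc, ← Spec.map_comp, hrμ, Spec.map_id, Category.id_comp,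
        Category.assoc, pullback.diagonal_snd, Category.comp_id]
  let 𝔭 : N → PrimeSpectrum ↑A := fun n => c.hom (z n)
  let T : Set (PrimeSpectrum (↑A ⊗[k] ↑A)) :=
    {t | ∃ n m, n ≠ m ∧ PrimeSpectrum.comap l.hom t = 𝔭 n ∧ PrimeSpectrum.comap r.hom t = 𝔭 m}
  have hT : ∀ s : Finset N, ∃ (Ω : Type u) (_ : Field Ω) (_ : Algebra k Ω)
      (σ : ↥s → (↑A →ₐ[k] Ω)), (∀ n : ↥s, RingHom.ker (σ n) = (𝔭 n).asIdeal) ∧
      ∀ n m : ↥s, n ≠ m → ∃ t ∈ T, t.asIdeal =
        RingHom.ker (Algebra.TensorProduct.lift (σ n) (σ m) (fun _ _ => Commute.all _ _)) := by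
    intro s
    obtain ⟨Ω, _, _, hτ⟩ := exists_common_field_extension k
      (fun n : N => (𝔭 n).asIdeal.ResidueField) s
    choose τ _ using fun n : ↥s => (⟨(hτ n.1 n.2).some, trivial⟩ :
      ∃ _ : (𝔭 n.1).asIdeal.ResidueField →ₐ[k] Ω, True)
    refine ⟨Ω, inferInstance, inferInstance,
      fun n => (τ n).comp (IsScalarTower.toAlgHom k ↑A (𝔭 n.1).asIdeal.ResidueField),
      fun n => ?_, ?_⟩
    · rw [← Ideal.ker_algebraMap_residueField (𝔭 n.1).asIdeal]
      ext x
      simp only [RingHom.mem_ker]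
      exact map_eq_zero_iff (τ n) (τ n).toRingHom.injective
    · intro n m hnm
      let Λ := Algebra.TensorProduct.lift
        ((τ n).comp (IsScalarTower.toAlgHom k ↑A (𝔭 n.1).asIdeal.ResidueField))
        ((τ m).comp (IsScalarTower.toAlgHom k ↑A (𝔭 m.1).asIdeal.ResidueField))
        (fun _ _ => Commute.all _ _)
      have hprime : (RingHom.ker Λ).IsPrime := RingHom.ker_isPrime _
      have hk : ∀ j : ↥s, RingHom.ker ((τ j).comp
          (IsScalarTower.toAlgHom k ↑A (𝔭 j.1).asIdeal.ResidueField)) = (𝔭 j.1).asIdeal := by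
        intro j
        conv_rhs => rw [← Ideal.ker_algebraMap_residueField (𝔭 j.1).asIdeal]
        ext x
        simp only [RingHom.mem_ker]
        exact map_eq_zero_iff (τ j) (τ j).toRingHom.injective
      refine ⟨⟨RingHom.ker Λ, hprime⟩, ⟨n.1, m.1, fun h => hnm (Subtype.ext h), ?_, ?_⟩, rfl⟩
      · apply PrimeSpectrum.ext
        rw [← hk n]
        ext x
        simp only [PrimeSpectrum.comap_asIdeal, Ideal.mem_comap, RingHom.mem_ker]
        change Λ (x ⊗ₜ[k] 1) = 0 ↔ _
        simp [Λ]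
      · apply PrimeSpectrum.ext
        rw [← hk m]
        ext x
        simp only [PrimeSpectrum.comap_asIdeal, Ideal.mem_comap, RingHom.mem_ker]
        change Λ (1 ⊗ₜ[k] x) = 0 ↔ _
        simp [Λ]
  obtain ⟨𝔮, h𝔮⟩ := exists_diag_mem_closure (R := k) 𝔭 T hT
  refine ⟨c.inv 𝔮, ?_⟩
  have h1 : pullback.diagonal g (c.inv 𝔮) = E (Spec.map μ 𝔮) := by
    rw [← Scheme.Hom.comp_apply, ← Scheme.Hom.comp_apply, hEμ]
  rw [h1]
  have h2 : E '' closure T ⊆ closure (E '' T) := image_closure_subset_closure_image E.continuous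
  refine closure_mono ?_ (h2 ⟨_, h𝔮, rfl⟩)
  rintro _ ⟨t, ⟨n, m, hnm, ht1, ht2⟩, rfl⟩
  refine ⟨n, m, hnm, ?_, ?_⟩
  · rw [← Scheme.Hom.comp_apply, hE1, Scheme.Hom.comp_apply]
    have : Spec.map l t = 𝔭 n := ht1
    rw [this]
    change c.inv (c.hom (z n)) = z n
    rw [← Scheme.Hom.comp_apply, c.hom_inv_id]
    rfl
  · rw [← Scheme.Hom.comp_apply, hE2, Scheme.Hom.comp_apply]
    have : Spec.map r t = 𝔭 m := ht2
    rw [this]
    change c.inv (c.hom (z m)) = z m
    rw [← Scheme.Hom.comp_apply, c.hom_inv_id]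
    rfl


variable {S : Scheme.{u}}

/-- A morphism from the spectrum of a field is affine. -/
theorem isAffineHom_of_field {K : Type u} [Field K] (f : Spec (CommRingCat.of K) ⟶ S) :
    IsAffineHom f := by
  constructor
  intro U hU
  by_cases h : (IsLocalRing.closedPoint K : ↥(Spec (CommRingCat.of K))) ∈ f ⁻¹ᵁ U
  · have : f ⁻¹ᵁ U = ⊤ := by
      ext x
      simp only [TopologicalSpace.Opens.coe_top, Set.mem_univ, iff_true]
      have hx : x = IsLocalRing.closedPoint K :=
        Subsingleton.elim (α := ↥(Spec (CommRingCat.of K))) _ _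
      rw [hx]
      exact h
    rw [this]
    exact isAffineOpen_top _
  · have : f ⁻¹ᵁ U = ⊥ := by
      ext x
      simp only [TopologicalSpace.Opens.coe_bot, Set.mem_empty_iff_false, iff_false]
      have hx : x = IsLocalRing.closedPoint K :=
        Subsingleton.elim (α := ↥(Spec (CommRingCat.of K))) _ _
      rw [hx]
      exact h
    rw [this]
    exact isAffineOpen_bot _


set_option backward.isDefEq.respectTransparency.types false in
/-- Key finiteness for locally separated spaces: the fibre product of a field point with a map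
from an affine scheme whose kernel pair has an etale projection is a finite set. -/
theorem finite_fibre_product_of_isLocallySeparatedSp {X : Sp S} (hls : IsLocallySeparatedSp X)
    (p : FieldPt X) {V : Over S} [IsAffine V.left] (φ : (yon S).obj V ⟶ X)
    {F : Over S} (f1 : F ⟶ p.pt) (f2 : F ⟶ V)
    (sqF : IsPullback ((yon S).map f1) ((yon S).map f2) p.toHom φ)
    {R : Over S} (r1 r2 : R ⟶ V) (sqR : IsPullback ((yon S).map r1) ((yon S).map r2) φ φ)
    (het : Etale r1.left) : Finite ↥F.left := by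
  by_contra hinf
  have hInf : Infinite ↥F.left := not_finite_iff_infinite.1 hinf
  let Zo : Over S := p.pt ⨯ V
  have hZaff : IsAffine Zo.left := by
    have h1 : IsAffineHom p.pt.hom := isAffineHom_of_field p.str
    have h2 : IsAffine (pullback p.pt.hom V.hom) := inferInstance
    exact IsAffine.of_isIso (Over.prodLeftIsoPullback p.pt V).hom
  let ι : F ⟶ Zo := prod.lift f1 f2
  have hι1 : ι ≫ prod.fst = f1 := prod.lift_fst _ _
  have hι2 : ι ≫ prod.snd = f2 := prod.lift_snd _ _
  have hιm : Mono ι := by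
    constructor
    intro W a b hab
    apply (yon S).map_injective
    apply sqF.hom_ext
    · rw [← Functor.map_comp, ← Functor.map_comp, ← hι1, ← Category.assoc, ← Category.assoc, hab]
    · rw [← Functor.map_comp, ← Functor.map_comp, ← hι2, ← Category.assoc, ← Category.assoc, hab]
  have hιm' : Mono ι.left := inferInstance
  have hιinj : Function.Injective ι.left := ι.left.injective
  let g : Zo.left ⟶ Spec (CommRingCat.of p.K) := (prod.fst : Zo ⟶ p.pt).left
  have hgw : g ≫ p.str = Zo.hom := Over.w (prod.fst : Zo ⟶ p.pt)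
  obtain ⟨q, hq⟩ := exists_diagonal_mem_closure g (fun f : ↥F.left => ι.left f)
  -- the immersion
  have himm : IsImmersion (prod.lift r1 r2).left :=
    hls.property (prodChart φ φ) _ _ (isPullback_diag_prodChart sqR)
  -- the unit section
  obtain ⟨e, he⟩ := (yon S).map_surjective (sqR.lift (𝟙 _) (𝟙 _) rfl)
  have he1 : e ≫ r1 = 𝟙 V := (yon S).map_injective (by
    rw [Functor.map_comp, he, sqR.lift_fst, CategoryTheory.Functor.map_id])
  have he2 : e ≫ r2 = 𝟙 V := (yon S).map_injective (by
    rw [Functor.map_comp, he, sqR.lift_snd, CategoryTheory.Functor.map_id])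
  have he1' : e.left ≫ r1.left = 𝟙 V.left := congrArg Over.Hom.left he1
  have he2' : e.left ≫ r2.left = 𝟙 V.left := congrArg Over.Hom.left he2
  have heo : IsOpenImmersion e.left := by
    have h1 : Etale (e.left ≫ r1.left) := by rw [he1']; infer_instance
    have h2 : Etale e.left := Etale.of_comp (f := e.left) r1.left
    have h3 : Mono e.left := mono_of_mono_fac he1'
    exact IsOpenImmersion.of_flat_of_mono e.left
  let jR : R.left ⟶ (V ⨯ V).left := (prod.lift r1 r2).left
  have hemb : Topology.IsEmbedding jR := jR.isEmbedding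
  obtain ⟨W, hWo, hW⟩ := hemb.isInducing.isOpen_iff.1 e.left.isOpenEmbedding.isOpen_range
  -- the fibre square of Z
  let ZZ : Over S := Over.mk (pullback.fst g g ≫ Zo.hom)
  let q1 : ZZ ⟶ Zo := Over.homMk (pullback.fst g g) rfl
  let q2 : ZZ ⟶ Zo := Over.homMk (pullback.snd g g) (by
    change pullback.snd g g ≫ Zo.hom = pullback.fst g g ≫ Zo.hom
    rw [← hgw, ← Category.assoc, ← Category.assoc, pullback.condition])
  let θ : ZZ ⟶ V ⨯ V := prod.lift (q1 ≫ prod.snd) (q2 ≫ prod.snd)
  let δ : Zo ⟶ ZZ := Over.homMk (pullback.diagonal g) (by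
    change pullback.diagonal g ≫ pullback.fst g g ≫ Zo.hom = Zo.hom
    rw [← Category.assoc, pullback.diagonal_fst, Category.id_comp])
  have hδ1 : δ ≫ q1 = 𝟙 Zo := by
    apply Over.OverMorphism.ext
    exact pullback.diagonal_fst g
  have hδ2 : δ ≫ q2 = 𝟙 Zo := by
    apply Over.OverMorphism.ext
    exact pullback.diagonal_snd g
  have hδθ : δ ≫ θ = prod.snd ≫ e ≫ prod.lift r1 r2 := by
    apply Limits.prod.hom_ext
    · rw [Category.assoc, prod.lift_fst, ← Category.assoc, hδ1, Category.id_comp, Category.assoc,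
        Category.assoc, prod.lift_fst, he1, Category.comp_id]
    · rw [Category.assoc, prod.lift_snd, ← Category.assoc, hδ2, Category.id_comp, Category.assoc,
        Category.assoc, prod.lift_snd, he2, Category.comp_id]
  have hqW : pullback.diagonal g q ∈ θ.left ⁻¹' W := by
    change θ.left (δ.left q) ∈ W
    have h1 : θ.left (δ.left q) = jR (e.left ((prod.snd : Zo ⟶ V).left q)) := by
      have := congrArg (fun h => h.left q) hδθ
      exact this
    rw [h1]
    have : e.left ((prod.snd : Zo ⟶ V).left q) ∈ jR ⁻¹' W := by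
      rw [hW]; exact ⟨_, rfl⟩
    exact this
  have hopen : IsOpen (θ.left ⁻¹' W) := hWo.preimage θ.left.continuous
  obtain ⟨y, hyW, n, m, hnm, hy1, hy2⟩ := mem_closure_iff.1 hq _ hopen hqW
  -- the fibre square of F
  let FF : Over S := Over.mk (pullback.fst f1.left f1.left ≫ F.hom)
  let pr1 : FF ⟶ F := Over.homMk (pullback.fst f1.left f1.left) rfl
  let pr2 : FF ⟶ F := Over.homMk (pullback.snd f1.left f1.left) (by
    change pullback.snd f1.left f1.left ≫ F.hom = pullback.fst f1.left f1.left ≫ F.hom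
    rw [← Over.w f1, ← Category.assoc, ← Category.assoc, pullback.condition])
  have hpr : pr1 ≫ f1 = pr2 ≫ f1 := by
    ext1
    exact pullback.condition
  have hιg : f1.left ≫ 𝟙 _ = ι.left ≫ g := by
    rw [Category.comp_id]
    exact (congrArg Over.Hom.left hι1).symm
  let ιι : FF.left ⟶ ZZ.left := pullback.map f1.left f1.left g g ι.left ι.left (𝟙 _) hιg hιg
  have hιι1 : ιι ≫ pullback.fst g g = pullback.fst f1.left f1.left ≫ ι.left :=
    pullback.lift_fst _ _ _
  have hιι2 : ιι ≫ pullback.snd g g = pullback.snd f1.left f1.left ≫ ι.left :=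
    pullback.lift_snd _ _ _
  have hrange := Scheme.Pullback.range_map f1.left f1.left g g ι.left ι.left (𝟙 _) hιg hιg
  obtain ⟨zz, hzz⟩ : y ∈ Set.range ιι := by
    rw [hrange]
    exact ⟨⟨n, hy1.symm⟩, ⟨m, hy2.symm⟩⟩
  have hz1 : pr1.left zz = n := by
    apply hιinj
    change (pullback.fst f1.left f1.left ≫ ι.left) zz = _
    rw [← hιι1, Scheme.Hom.comp_apply, hzz, hy1]
  have hz2 : pr2.left zz = m := by
    apply hιinj
    change (pullback.snd f1.left f1.left ≫ ι.left) zz = _
    rw [← hιι2, Scheme.Hom.comp_apply, hzz, hy2]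
  let ιιo : FF ⟶ ZZ := Over.homMk ιι (by
    change ιι ≫ pullback.fst g g ≫ Zo.hom = pullback.fst f1.left f1.left ≫ F.hom
    rw [← Category.assoc, hιι1, Category.assoc, Over.w ι])
  have hιιo1 : ιιo ≫ q1 = pr1 ≫ ι := by
    apply Over.OverMorphism.ext
    exact hιι1
  have hιιo2 : ιιo ≫ q2 = pr2 ≫ ι := by
    apply Over.OverMorphism.ext
    exact hιι2
  -- the map to R
  have hcond : (yon S).map (pr1 ≫ f2) ≫ φ = (yon S).map (pr2 ≫ f2) ≫ φ := by
    rw [Functor.map_comp, Functor.map_comp, Category.assoc, Category.assoc, ← sqF.w,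
      ← Category.assoc, ← Category.assoc, ← Functor.map_comp, ← Functor.map_comp, hpr]
  obtain ⟨ρ, hρ⟩ := (yon S).map_surjective (sqR.lift _ _ hcond)
  have hρ1 : ρ ≫ r1 = pr1 ≫ f2 := (yon S).map_injective (by
    rw [Functor.map_comp, hρ, sqR.lift_fst])
  have hρ2 : ρ ≫ r2 = pr2 ≫ f2 := (yon S).map_injective (by
    rw [Functor.map_comp, hρ, sqR.lift_snd])
  have hcompat : ιιo ≫ θ = ρ ≫ prod.lift r1 r2 := by
    apply Limits.prod.hom_ext
    · rw [Category.assoc, prod.lift_fst, ← Category.assoc, hιιo1, Category.assoc, hι2,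
        Category.assoc, prod.lift_fst, hρ1]
    · rw [Category.assoc, prod.lift_snd, ← Category.assoc, hιιo2, Category.assoc, hι2,
        Category.assoc, prod.lift_snd, hρ2]
  have hρz : ρ.left zz ∈ Set.range e.left := by
    rw [← hW]
    change jR (ρ.left zz) ∈ W
    have h1 : jR (ρ.left zz) = θ.left (ιι zz) := by
      have := congrArg (fun h => h.left zz) hcompat
      exact this.symm
    rw [h1, hzz]
    exact hyW
  let O : FF.left.Opens := ρ.left ⁻¹ᵁ e.left.opensRange
  have hzO : zz ∈ O := hρz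
  have hrs : Set.range (O.ι ≫ ρ.left) ⊆ Set.range e.left := by
    rintro _ ⟨o, rfl⟩
    exact o.2
  let d₁ : O.toScheme ⟶ V.left := IsOpenImmersion.lift e.left (O.ι ≫ ρ.left) hrs
  have hd₁ : d₁ ≫ e.left = O.ι ≫ ρ.left := IsOpenImmersion.lift_fac _ _ _
  have h2 : openSubι FF O ≫ pr1 ≫ f2 = openSubι FF O ≫ pr2 ≫ f2 := by
    ext1
    change O.ι ≫ (pr1 ≫ f2).left = O.ι ≫ (pr2 ≫ f2).left
    rw [← hρ1, ← hρ2]
    change O.ι ≫ ρ.left ≫ r1.left = O.ι ≫ ρ.left ≫ r2.left
    rw [← Category.assoc, ← Category.assoc, ← hd₁, Category.assoc, Category.assoc, he1', he2']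
  have h3 : openSubι FF O ≫ pr1 = openSubι FF O ≫ pr2 := by
    rw [← cancel_mono ι]
    apply Limits.prod.hom_ext
    · rw [Category.assoc, Category.assoc, Category.assoc, Category.assoc, hι1, hpr]
    · rw [Category.assoc, Category.assoc, Category.assoc, Category.assoc, hι2]
      exact h2
  have h4 : pr1.left zz = pr2.left zz := by
    have := congrArg (fun h => h.left ⟨zz, hzO⟩) h3
    exact this
  exact hnm (by rw [← hz1, ← hz2, h4])


set_option backward.isDefEq.respectTransparency.types false in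
/-- A locally separated algebraic space is decent. -/
theorem isDecent_of_isLocallySeparatedSp {X : Sp S} (hX : IsAlgSpace X)
    (hls : IsLocallySeparatedSp X) : IsDecent X := by
  intro x
  obtain ⟨U, a, hae, has⟩ := hX.atlas
  obtain ⟨u₀, hu₀⟩ := ofPt_surjective_of_repWith has x
  let q : FieldPt X := FieldPt.ofPt a u₀
  have hqx : Points.mk q = x := hu₀
  let c : q.pt ⟶ U := Over.homMk (U.left.fromSpecResidueField u₀) rfl
  have hcm : Mono c.left := (inferInstance : Mono (U.left.fromSpecResidueField u₀))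
  have hc : q.toHom = (yon S).map c ≫ a := FieldPt.toHom_ofPt a u₀
  have hrep : Representable q.toHom := repDiag_of_isAlgSpace hX _
  have sqR := hrep.isPullback' q.toHom
  have sqR' : IsPullback ((yon S).map (hrep.snd q.toHom)) ((yon S).map (hrep.fst' q.toHom))
      ((yon S).map c ≫ a) ((yon S).map c ≫ a) := by
    rw [← hc]; exact sqR.flip
  have het : Etale (hrep.fst' q.toHom).left :=
    (etale_kernel_pair_of_mono_field a hae q.str c _ _ sqR').1
  have haff : IsAffine q.pt.left := inferInstanceAs (IsAffine (Spec (CommRingCat.of q.K)))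
  have hfinR : Finite ↥(hrep.pullback q.toHom).left :=
    finite_fibre_product_of_isLocallySeparatedSp hls q q.toHom _ _ sqR _ _ sqR het
  have hfin : IsFinite (hrep.fst' q.toHom).left :=
    isFinite_of_etale_of_finite_carrier (K := q.K) (hrep.fst' q.toHom).left
  obtain ⟨P, π, -, hPm, hPq⟩ := exists_mono_point_of_finite_kernel_pair q _ _ sqR hfin
  refine ⟨P, hPq.trans hqx, hPm, repWith_quasiCompact_of_mono_of_finite_fibres hX P hPm ?_⟩
  intro V b hV hbe
  have hrepP : Representable P.toHom := repDiag_of_isAlgSpace hX _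
  have sqF := hrepP.isPullback' b
  have sqV := hbe.rep.isPullback' b
  have hetV : Etale (hbe.rep.snd b).left := hbe.property_snd b
  have hFfin : Finite ↥(hrepP.pullback b).left :=
    finite_fibre_product_of_isLocallySeparatedSp hls P b _ _ sqF _ _ sqV.flip hetV
  refine (Set.finite_range (hrepP.snd b).left).subset ?_
  intro v hv
  obtain ⟨w, -, hw⟩ := exists_point_of_isPullback_yon sqF
    (IsLocalRing.closedPoint P.K : ↥(Spec (CommRingCat.of P.K))) v (by
      rw [Points.ofPt_toHom]; exact hv.symm)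
  exact ⟨w, hw⟩

end Groth.Agent.Lib.Helper14.AS
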