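import Mathlib
import Groth.Agent.Lib.Helper14.AlgSpProper
import Groth.Agent.Lib.Helper14.AlgSpInj2
import Groth.Agent.Lib.Helper8.AlgSpOpen

/-!
# Miscellaneous results on morphisms of algebraic spaces (helper14)
-/

universe u
open CategoryTheory CategoryTheory.Limits AlgebraicGeometry Opposite Topology

namespace Groth.Agent.Lib.Helper14.AS

open AlgSp Groth.Agent.Lib.Helper14.ESL

variable {S : Scheme.{u}}

set_option backward.isDefEq.respectTransparency.types false in
/-- Etaleness of a chart can be checked after precomposing with a surjective etale morphism of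
schemes. -/
theorem repWith_etale_of_precomp_etale_surjective {X : Sp S} (hX : IsAlgSpace X) {U U' : Over S}
    (χ : U ⟶ U') (hχe : Etale χ.left) (hχs : Surjective χ.left) (φ' : (yon S).obj U' ⟶ X)
    (h : RepWith @Etale ((yon S).map χ ≫ φ')) : RepWith @Etale φ' := by
  have hrep : Representable φ' := repDiag_of_isAlgSpace hX φ'
  refine MorphismProperty.relative_of_snd hrep fun T g => ?_
  change Etale (hrep.snd g).left
  have sq := hrep.isPullback g
  obtain ⟨k, hk⟩ := (yon S).map_surjective (hrep.fst g)
  rw [← hk] at sq
  have sqU := IsPullback.of_hasPullback χ k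
  have he : Etale (pullback.snd χ k).left :=
    MorphismProperty.of_isPullback (P := MorphismProperty.inverseImage @Etale (Over.forget S))
      sqU hχe
  have hs : Surjective (pullback.snd χ k).left :=
    MorphismProperty.of_isPullback (P := MorphismProperty.inverseImage @Surjective (Over.forget S))
      sqU hχs
  have big := (sqU.map (yon S)).paste_vert sq
  rw [← Functor.map_comp] at big
  have h1 : Etale (pullback.snd χ k ≫ hrep.snd g).left := h.property g _ _ big
  rw [Over.comp_left] at h1
  exact srcLocal_etale _ _ he hs h1

set_option backward.isDefEq.respectTransparency.types false in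
/-- An etale universally injective morphism of algebraic spaces is an open immersion. -/
theorem repWith_isOpenImmersion_of_etale_univInjective {X Y : Sp S} (hX : IsAlgSpace X)
    (hY : IsAlgSpace Y) (f : X ⟶ Y) (het : IsEtaleMor f) (hinj : IsUnivInjectiveMor f) :
    RepWith @IsOpenImmersion f := by
  have hΔs : IsSurjectiveMor (pullback.diagonal f) :=
    isSurjectiveMor_diagonal_of_isUnivInjectiveMor hX hinj
  have hunr : LocP (@LocallyOfFiniteType ⊓ @FormallyUnramified) f :=
    locP_mono (fun _ _ k hk => by
      have : Etale k := hk
      exact ⟨inferInstance, inferInstance⟩) (locP_etale_of_isEtaleMor het)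
  have hΔo := repWith_isOpenImmersion_diagonal_of_unramified hX hY f hunr
  have hiso : IsIso (pullback.diagonal f) :=
    Groth.Agent.Lib.Helper8.AlgSpOpen.isIso_of_openImmersion_of_isSurjectiveMor _ hΔo hΔs
  have : Mono f := (pullback.isIso_diagonal_iff f).1 hiso
  exact repWith_isOpenImmersion_of_mono_etale hX hY f het

set_option backward.isDefEq.respectTransparency.types false in
/-- Two closed subspaces with the same support: properness over the base passes from one to the
other. -/
theorem isProperMor_closedSubspace_of_points_eq {X Y Z Z' : Sp S} (hX : IsAlgSpace X)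
    (hY : IsAlgSpace Y) (hZ : IsAlgSpace Z) (hZ' : IsAlgSpace Z') (f : X ⟶ Y)
    (hf : LocP @LocallyOfFiniteType f) (i : Z ⟶ X) (i' : Z' ⟶ X)
    (hi : RepWith @IsClosedImmersion i) (hi' : RepWith @IsClosedImmersion i')
    (heq : Set.range (Points.map i) = Set.range (Points.map i'))
    (hp : IsProperMor (i ≫ f)) : IsProperMor (i' ≫ f) := by
  have sq := IsPullback.of_hasPullback i i'
  have hW : IsAlgSpace (pullback i i') :=
    isAlgSpace_of_isPullback (repDiag_of_isAlgSpace hX) hZ hZ' sq
  have hp1 : RepWith @IsClosedImmersion (pullback.fst i i') :=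
    MorphismProperty.of_isPullback (P := RepWith @IsClosedImmersion) sq.flip hi'
  have hp2 : RepWith @IsClosedImmersion (pullback.snd i i') :=
    MorphismProperty.of_isPullback (P := RepWith @IsClosedImmersion) sq hi
  have hs : IsSurjectiveMor (pullback.snd i i') := by
    intro z'
    have : Points.map i' z' ∈ Set.range (Points.map i) := by rw [heq]; exact ⟨z', rfl⟩
    obtain ⟨z, hz⟩ := this
    obtain ⟨w, -, hw⟩ := points_exists_of_isPullback sq z z' hz
    exact ⟨w, hw⟩
  have hWp : IsProperMor (pullback.snd i i' ≫ i' ≫ f) := by
    have := isProperMor_comp hW hZ hY (isProperMor_of_repWith_isClosedImmersion hp1) hp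
    rwa [← Category.assoc, sq.w, Category.assoc] at this
  have hc2 : IsUnivClosedMor (pullback.snd i i') :=
    (isProperMor_of_repWith_isClosedImmersion hp2).2.2
  refine ⟨(separation_of_surjective_univClosed hW hZ' hY (pullback.snd i i') (i' ≫ f) hs hc2).2
      hWp.1, ⟨?_, ?_⟩, ?_⟩
  · exact locP_comp etLocal_lft hZ' hX hY i' f
      (locP_of_repWith etale_le_lft (repWith_mono isClosedImmersion_le_lft hi')) hf
  · exact isQuasiCompactMor_of_surjective_triangle hZ' (repDiag_of_isAlgSpace hY) _ _ hs hWp.2.1.2
  · exact isUnivClosedMor_of_comp_surjective hs hWp.2.2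

end Groth.Agent.Lib.Helper14.AS
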