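import Mathlib
import Groth.Prelude.Def_AlgSpSub
import Groth.Agent.Lib.Helper14.AlgSpRepTo
import Groth.Agent.Lib.Helper14.AlgSpBasic2
import Groth.Agent.Lib.Helper14.AlgSpPoints
import Groth.Agent.Lib.Helper14.EtaleLQF
import Groth.Prelude.Def_AlgSpDec
import Groth.Prelude.Def_AlgSpGpd
import Groth.Agent.Lib.Helper8.AlgSpOpen

/-!
# Miscellaneous results on algebraic spaces III (helper14)
-/

universe u
open CategoryTheory CategoryTheory.Limits AlgebraicGeometry Opposite Topology

namespace Groth.Agent.Lib.Helper14.AS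

open AlgSp

variable {S : Scheme.{u}}

set_option backward.isDefEq.respectTransparency.types false in
/-- Two morphisms to a space separated over `B` which agree on an open subspace whose scheme
theoretic closure is everything are equal. -/
theorem eq_of_eq_on_schImage_id {U X Y B : Sp S} (hX : IsAlgSpace X) (q : Y ⟶ B)
    (hq : IsSeparatedMor q) (f g : X ⟶ Y) (hfg : f ≫ q = g ≫ q) (j : U ⟶ X)
    (hcl : IsSchImage j (𝟙 X)) (heq : j ≫ f = j ≫ g) : f = g := by
  have sqE := IsPullback.of_hasPullback (pullback.lift f g hfg) (pullback.diagonal q)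
  have he : RepWith @IsClosedImmersion
      (pullback.fst (pullback.lift f g hfg) (pullback.diagonal q)) :=
    MorphismProperty.of_isPullback (P := RepWith @IsClosedImmersion) sqE.flip hq
  have hE : IsAlgSpace (pullback (pullback.lift f g hfg) (pullback.diagonal q)) :=
    isAlgSpace_of_representable_to hX _ he.rep
  have hw : j ≫ pullback.lift f g hfg = (j ≫ f) ≫ pullback.diagonal q := by
    apply pullback.hom_ext
    · rw [Category.assoc, pullback.lift_fst, Category.assoc, pullback.diagonal_fst,
        Category.comp_id]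
    · rw [Category.assoc, pullback.lift_snd, Category.assoc, pullback.diagonal_snd,
        Category.comp_id, heq]
  obtain ⟨k, hk⟩ := hcl.2.2 (pullback.fst (pullback.lift f g hfg) (pullback.diagonal q)) hE he
    ⟨sqE.lift j (j ≫ f) hw, sqE.lift_fst _ _ _⟩
  have h1 : pullback.fst (pullback.lift f g hfg) (pullback.diagonal q) ≫ f =
      pullback.snd (pullback.lift f g hfg) (pullback.diagonal q) := by
    have := congrArg (· ≫ pullback.fst q q) sqE.w
    simp only [Category.assoc, pullback.lift_fst, pullback.diagonal_fst, Category.comp_id] at this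
    exact this
  have h2 : pullback.fst (pullback.lift f g hfg) (pullback.diagonal q) ≫ g =
      pullback.snd (pullback.lift f g hfg) (pullback.diagonal q) := by
    have := congrArg (· ≫ pullback.snd q q) sqE.w
    simp only [Category.assoc, pullback.lift_snd, pullback.diagonal_snd, Category.comp_id] at this
    exact this
  calc f = (k ≫ pullback.fst (pullback.lift f g hfg) (pullback.diagonal q)) ≫ f := by
        rw [hk, Category.id_comp]
    _ = (k ≫ pullback.fst (pullback.lift f g hfg) (pullback.diagonal q)) ≫ g := by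
        rw [Category.assoc, h1, Category.assoc, h2]
    _ = g := by rw [hk, Category.id_comp]

/-- All points of a scheme etale over a field are closed. -/
theorem isClosed_singleton_of_etale_field {W : Scheme.{u}} {k : Type u} [Field k]
    (π : W ⟶ Spec (CommRingCat.of k)) [Etale π] (w : ↥W) : IsClosed ({w} : Set ↥W) := by
  have : LocallyQuasiFinite π := etale_locallyQuasiFinite π
  have h := π.isDiscrete_preimage_singleton (π w)
  have huniv : π ⁻¹' {π w} = Set.univ := by
    ext z
    simp only [Set.mem_preimage, Set.mem_singleton_iff, Set.mem_univ, iff_true]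
    have : Subsingleton ↥(Spec (CommRingCat.of k)) :=
      inferInstanceAs (Subsingleton (PrimeSpectrum k))
    exact Subsingleton.elim _ _
  rw [huniv, isDiscrete_univ_iff] at h
  exact isClosed_discrete _

set_option backward.isDefEq.respectTransparency.types false in
/-- Geometric points lift along etale morphisms through any given point of the fibre. -/
theorem exists_geom_lift_through {U X : Sp S} (hU : IsAlgSpace U) (φ : U ⟶ X)
    (hφ : IsEtaleMor φ) (xbar : FieldPt X) (hx : xbar.IsGeometric) (u : Points U)
    (hu : Points.map φ u = Points.mk xbar) :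
    ∃ ubar : (yon S).obj xbar.pt ⟶ U,
      ubar ≫ φ = xbar.toHom ∧ Points.ofPt ubar (IsLocalRing.closedPoint xbar.K) = u := by
  have : IsAlgClosed xbar.K := hx
  obtain ⟨U₀, a₀, ha₀e, ha₀s⟩ := hU.atlas
  obtain ⟨u₀, rfl⟩ := ofPt_surjective_of_repWith ha₀s u
  have hc : RepWith @Etale (a₀ ≫ φ) := hφ a₀ ha₀e
  have sq := hc.rep.isPullback' xbar.toHom
  have he : Etale (hc.rep.snd xbar.toHom).left := hc.property_snd _
  have e : Points.ofPt (a₀ ≫ φ) u₀ =
      Points.ofPt xbar.toHom (IsLocalRing.closedPoint xbar.K) := by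
    rw [← Points.map_ofPt, hu, Points.ofPt_toHom]
  obtain ⟨w, hw1, -⟩ := exists_point_of_isPullback_yon sq u₀ _ e
  have hwc : IsClosed ({w} : Set ↥(hc.rep.pullback xbar.toHom).left) :=
    isClosed_singleton_of_etale_field (hc.rep.snd xbar.toHom).left w
  have hσ := pointOfClosedPoint_comp (hc.rep.snd xbar.toHom).left w hwc
  have hσw : pointOfClosedPoint (hc.rep.snd xbar.toHom).left w hwc
      (IsLocalRing.closedPoint xbar.K) = w := pointOfClosedPoint_apply _ _ _ _
  have hov : pointOfClosedPoint (hc.rep.snd xbar.toHom).left w hwc ≫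
      (hc.rep.pullback xbar.toHom).hom = xbar.pt.hom := by
    have := Over.w (hc.rep.snd xbar.toHom)
    rw [← this, ← Category.assoc, hσ, Category.id_comp]
  let σ' : xbar.pt ⟶ hc.rep.pullback xbar.toHom :=
    Over.homMk (pointOfClosedPoint (hc.rep.snd xbar.toHom).left w hwc) hov
  have hσ' : σ' ≫ hc.rep.snd xbar.toHom = 𝟙 _ := Over.OverMorphism.ext hσ
  refine ⟨(yon S).map σ' ≫ (yon S).map (hc.rep.fst' xbar.toHom) ≫ a₀, ?_, ?_⟩
  · rw [Category.assoc, Category.assoc, sq.w, ← Category.assoc, ← Functor.map_comp, hσ',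
      (yon S).map_id, Category.id_comp]
  · rw [ofPt_yon_map_comp, ofPt_yon_map_comp]
    change Points.ofPt a₀ ((hc.rep.fst' xbar.toHom).left
      (pointOfClosedPoint (hc.rep.snd xbar.toHom).left w hwc
        (IsLocalRing.closedPoint xbar.K))) = _
    rw [hσw, hw1]

/-- A morphism factors through an open subspace iff it does so on points. -/
theorem exists_factor_iff_range_subset {X X' Y : Sp S} (j : X' ⟶ X)
    (hj : RepWith @IsOpenImmersion j) (f : Y ⟶ X) :
    (∃ g : Y ⟶ X', g ≫ j = f) ↔
      Set.range (Points.map f) ⊆ Set.range (Points.map j) := by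
  constructor
  · rintro ⟨g, rfl⟩ _ ⟨y, rfl⟩
    exact ⟨Points.map g y, (Points.map_comp g j y).symm⟩
  · exact Groth.Agent.Lib.Helper8.AlgSpOpen.exists_factor_of_range_subset j hj f

theorem gpd_c_s {B : Sp S} (G : GroupoidSp B) :
    G.c ≫ G.s = pullback.snd G.s G.t ≫ G.s := by
  have := G.comp_s (pullback.fst G.s G.t) (pullback.snd G.s G.t) pullback.condition
  have e : pullback.lift (pullback.fst G.s G.t) (pullback.snd G.s G.t) pullback.condition =
      𝟙 _ := by
    apply pullback.hom_ext
    · rw [pullback.lift_fst, Category.id_comp]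
    · rw [pullback.lift_snd, Category.id_comp]
  rwa [e, Category.id_comp] at this

theorem gpd_c_t {B : Sp S} (G : GroupoidSp B) :
    G.c ≫ G.t = pullback.fst G.s G.t ≫ G.t := by
  have := G.comp_t (pullback.fst G.s G.t) (pullback.snd G.s G.t) pullback.condition
  have e : pullback.lift (pullback.fst G.s G.t) (pullback.snd G.s G.t) pullback.condition =
      𝟙 _ := by
    apply pullback.hom_ext
    · rw [pullback.lift_fst, Category.id_comp]
    · rw [pullback.lift_snd, Category.id_comp]
  rwa [e, Category.id_comp] at this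

/-- On points, the orbit relation of a groupoid: composable arrows compose. -/
theorem gpd_exists_comp_point {B : Sp S} (G : GroupoidSp B) (α β : Points G.R)
    (h : Points.map G.s α = Points.map G.t β) :
    ∃ γ : Points G.R, Points.map G.s γ = Points.map G.s β ∧
      Points.map G.t γ = Points.map G.t α := by
  obtain ⟨z, hz1, hz2⟩ := points_exists_of_isPullback
    (IsPullback.of_hasPullback G.s G.t) α β h
  refine ⟨Points.map G.c z, ?_, ?_⟩
  · rw [← Points.map_comp, gpd_c_s G, Points.map_comp, hz2]
  · rw [← Points.map_comp, gpd_c_t G, Points.map_comp, hz1]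

/-- The saturation `s(t⁻¹(W))` of a set of points is invariant. -/
theorem gpd_saturation_invariant {B : Sp S} (G : GroupoidSp B) (W : Set (Points G.U))
    (ρ : Points G.R) :
    Points.map G.t ρ ∈ Points.map G.s '' (Points.map G.t ⁻¹' W) ↔
      Points.map G.s ρ ∈ Points.map G.s '' (Points.map G.t ⁻¹' W) := by
  constructor
  · rintro ⟨ρ', hρ', e⟩
    obtain ⟨γ, h1, h2⟩ := gpd_exists_comp_point G ρ' ρ e
    exact ⟨γ, by rw [Set.mem_preimage, h2]; exact hρ', h1⟩
  · rintro ⟨ρ', hρ', e⟩
    have e' : Points.map G.s ρ' = Points.map G.t (Points.map G.i ρ) := by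
      rw [e, ← Points.map_comp, G.i_t]
    obtain ⟨γ, h1, h2⟩ := gpd_exists_comp_point G ρ' (Points.map G.i ρ) e'
    refine ⟨γ, by rw [Set.mem_preimage, h2]; exact hρ', ?_⟩
    rw [h1, ← Points.map_comp, G.i_s]

/-- The open subspace with points `s(t⁻¹(W))` is invariant. -/
theorem gpd_isInvariant_of_range_eq {B : Sp S} (G : GroupoidSp B) {W' : Sp S}
    (w' : W' ⟶ G.U) (hw' : RepWith @IsOpenImmersion w') (W : Set (Points G.U))
    (himg : Set.range (Points.map w') = Points.map G.s '' (Points.map G.t ⁻¹' W)) :
    G.IsInvariant w' := by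
  intro T r
  rw [exists_factor_iff_range_subset w' hw', exists_factor_iff_range_subset w' hw', himg]
  constructor
  · rintro h _ ⟨τ, rfl⟩
    rw [Points.map_comp]
    refine (gpd_saturation_invariant G W _).1 ?_
    rw [← Points.map_comp]
    exact h ⟨τ, rfl⟩
  · rintro h _ ⟨τ, rfl⟩
    rw [Points.map_comp]
    refine (gpd_saturation_invariant G W _).2 ?_
    rw [← Points.map_comp]
    exact h ⟨τ, rfl⟩

end Groth.Agent.Lib.Helper14.AS
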