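import Groth.Agent.Lib.Helper14.AlgSpFieldPts
import Groth.Agent.Lib.Helper14.AlgSpQC
import Mathlib.AlgebraicGeometry.Morphisms.LocalFlatDescent

/-!
# Monomorphisms from algebraic spaces to spectra of fields (helper14)
-/

universe u
open CategoryTheory CategoryTheory.Limits AlgebraicGeometry Opposite Topology

namespace Groth.Agent.Lib.Helper14.AS

open AlgSp

variable {S : Scheme.{u}}

theorem isPullback_comp_mono {C : Type*} [Category C] {W A B P Z : C} {fst : W ⟶ A}
    {snd : W ⟶ B} {a : A ⟶ P} {b : B ⟶ P} (sq : IsPullback fst snd a b) (j : P ⟶ Z) [Mono j] :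
    IsPullback fst snd (a ≫ j) (b ≫ j) := by
  refine isPullback_of_exists_unique (by rw [← Category.assoc, sq.w, Category.assoc]) ?_ ?_
  · intro T x y hxy
    have : x ≫ a = y ≫ b := by
      rw [← cancel_mono j, Category.assoc, Category.assoc, hxy]
    exact ⟨sq.lift x y this, sq.lift_fst _ _ _, sq.lift_snd _ _ _⟩
  · intro T z z' h1 h2
    exact sq.hom_ext h1 h2

set_option backward.isDefEq.respectTransparency.types false in
/-- A scheme over a field whose self fibre product over a sheaf `Z` monomorphic over the field is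
etale over it is itself etale over the field. -/
theorem etale_of_mono_to_field {k : Type u} [Field k] (str : Spec (CommRingCat.of k) ⟶ S)
    {Z : Sp S} (f : Z ⟶ (yon S).obj (Over.mk str)) [Mono f] {U : Over S} [IsAffine U.left]
    [Nonempty ↥U.left] (p : (yon S).obj U ⟶ Z) (hp : RepWith @Etale p) (φ : U ⟶ Over.mk str)
    (hφ : (yon S).map φ = p ≫ f) : Etale φ.left ∧ Surjective φ.left := by
  have sq := hp.rep.isPullback p
  obtain ⟨r, hr⟩ := (yon S).map_surjective (hp.rep.fst p)
  have sq2 : IsPullback ((yon S).map r) ((yon S).map (hp.rep.snd p)) ((yon S).map φ)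
      ((yon S).map φ) := by
    rw [hr, hφ]
    exact isPullback_comp_mono sq f
  have sq3 : IsPullback r (hp.rep.snd p) φ φ := IsPullback.of_map_of_faithful (yon S) sq2
  have sq4 : IsPullback r.left (hp.rep.snd p).left φ.left φ.left := sq3.map (Over.forget S)
  have hE : Etale (hp.rep.snd p).left := hp.property_snd p
  have hsurj : Surjective φ.left :=
    ⟨fun y => ⟨Classical.arbitrary _, Subsingleton.elim (α := ↥(Spec (CommRingCat.of k))) _ _⟩⟩
  have hflat : Flat φ.left :=
    inferInstanceAs (Flat (Y := Spec (CommRingCat.of k)) φ.left)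
  have hqc : QuasiCompact φ.left :=
    inferInstanceAs (QuasiCompact (Y := Spec (CommRingCat.of k)) φ.left)
  refine ⟨?_, hsurj⟩
  exact MorphismProperty.of_isPullback_of_descendsAlong (P := @Etale)
    (Q := @Surjective ⊓ @Flat ⊓ @QuasiCompact) sq4.flip ⟨⟨hsurj, hflat⟩, hqc⟩ hE

set_option backward.isDefEq.respectTransparency.types false in
/-- A monomorphism from a nonempty algebraic space to the spectrum of a field is an
isomorphism. -/
theorem isIso_of_mono_to_field_sp {k : Type u} [Field k] (str : Spec (CommRingCat.of k) ⟶ S)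
    {Z : Sp S} (hZ : IsAlgSpace Z) (f : Z ⟶ (yon S).obj (Over.mk str)) [Mono f]
    (hne : Nonempty (Points Z)) : IsIso f := by
  obtain ⟨U, p, hpe, hps⟩ := hZ.atlas
  obtain ⟨x⟩ := hne
  obtain ⟨u, -⟩ := ofPt_surjective_of_repWith hps x
  obtain ⟨V, hV, huV, -⟩ := exists_isAffineOpen_mem_and_subset (x := u) (U := ⊤) trivial
  have hp' := repWith_etale_restrict hpe V
  obtain ⟨φ, hφ⟩ := (yon S).map_surjective (((yon S).map (openSubι U V) ≫ p) ≫ f)
  have : IsAffine (openSub U V).left := hV
  have : Nonempty ↥(openSub U V).left := ⟨⟨u, huV⟩⟩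
  obtain ⟨hE, hs⟩ := etale_of_mono_to_field str f _ hp' φ hφ
  have h1 : RepWith @Etale ((yon S).map φ) := (repWith_yon_map_iff _ _).2 hE
  have h2 : RepWith @Surjective ((yon S).map φ) := (repWith_yon_map_iff _ _).2 hs
  have hl : Sheaf.IsLocallySurjective ((yon S).map φ) :=
    isLocallySurjective_of_etale_surjective _ h1 h2
  have hepi : Epi ((((yon S).map (openSubι U V) ≫ p)) ≫ f) := by
    rw [← hφ]
    exact (Sheaf.isLocallySurjective_iff_epi _).1 hl
  have : Epi f := epi_of_epi ((yon S).map (openSubι U V) ≫ p) f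
  exact isIso_of_mono_of_epi f

end Groth.Agent.Lib.Helper14.AS
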