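import Groth.Agent.Lib.Helper14.AlgSpResidual
import Groth.Agent.Lib.Helper14.AlgSpRedFactor
import Groth.Agent.Lib.Helper14.AlgSpDiag2

open CategoryTheory CategoryTheory.Limits AlgebraicGeometry Opposite AlgSp
open CategoryTheory.Functor Groth.Agent.Lib.Helper14.AS

universe u

noncomputable section

namespace Groth.Agent.Lib.Helper14.AS

variable {S : Scheme.{u}}

set_option backward.isDefEq.respectTransparency.types false in
/-- A quasi-compact monomorphism from the spectrum of a field to an algebraic space all of whose
etale charts have fields as local rings, surjective on points, is an isomorphism. -/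
theorem isIso_of_qc_mono_of_field_stalks {X : Sp S} (hX : IsAlgSpace X)
    (hF : ∀ {V : Over S} (b : (yon S).obj V ⟶ X), RepWith @Etale b →
      ∀ v : ↥V.left, IsField (V.left.presheaf.stalk v))
    (hsub : Subsingleton (Points X)) (p : FieldPt X) (hm : Mono p.toHom)
    (hq : RepWith @QuasiCompact p.toHom) : IsIso p.toHom := by
  obtain ⟨V, b, hbe, hbs⟩ := hX.atlas
  have hrep : Representable p.toHom := repDiag_of_isAlgSpace hX p.toHom
  have sq := hrep.isPullback' b
  have hmono : Mono (hrep.snd b).left :=
    (repWith_monomorphisms_of_mono hrep).property_snd b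
  have hqc : QuasiCompact (hrep.snd b).left := hq.property_snd b
  have hflat : Flat (hrep.snd b).left :=
    flat_of_isField_stalk _ (fun _ => hF b hbe _)
  have hsurj : Surjective (hrep.snd b).left := by
    refine ⟨fun v => ?_⟩
    have : Nonempty ↥p.pt.left := inferInstanceAs (Nonempty ↥(Spec (CommRingCat.of p.K)))
    obtain ⟨t⟩ := this
    obtain ⟨w, -, hw⟩ := exists_point_of_isPullback_yon sq t v (Subsingleton.elim _ _)
    exact ⟨w, hw⟩
  have hiso : IsIso (hrep.snd b).left := Flat.isIso_of_surjective_of_mono _
  have hl : Sheaf.IsLocallySurjective b := isLocallySurjective_of_etale_surjective b hbe hbs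
  have h4 : RepWith (MorphismProperty.isomorphisms Scheme.{u}) p.toHom :=
    (repWith_iff_of_chart hrep b (hrep.isPullback b)
      (MorphismProperty.isomorphisms Scheme.{u})).2 hiso
  exact isIso_of_repWith_isomorphisms h4


/-- A reduced decent one-point algebraic space is the spectrum of a field. -/
theorem exists_iso_field_of_reduced_decent_one_point {X : Sp S} (hX : IsAlgSpace X)
    (hd : IsDecent X) (hred : EtaleLocally (fun U => IsReduced U) X)
    (hne : Nonempty (Points X)) (hsub : Subsingleton (Points X)) :
    ∃ (k : Type u) (_ : Field k) (str : Spec (CommRingCat.of k) ⟶ S),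
      Nonempty ((yon S).obj (Over.mk str) ≅ X) := by
  obtain ⟨x⟩ := hne
  obtain ⟨p, -, hm, hq⟩ := hd x
  obtain ⟨k₀, _, str₀, p₀, hf, hs⟩ := exists_flat_field_cover_of_reduced hred ⟨x⟩ hsub
  have hiso := isIso_of_qc_mono_of_field_stalks hX
    (fun b hb v => isField_stalk_of_flat_field_cover str₀ p₀ hf hs b hb v) hsub p hm hq
  exact ⟨p.K, inferInstance, p.str, ⟨asIso p.toHom⟩⟩

set_option backward.isDefEq.respectTransparency.types false in
/-- A decent algebraic space with an etale surjective morphism from the spectrum of a field is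
the spectrum of a field. -/
theorem exists_iso_field_of_decent_etale_cover {X : Sp S} (hX : IsAlgSpace X)
    (hd : IsDecent X) (k : Type u) [Field k] (str : Spec (CommRingCat.of k) ⟶ S)
    (p : (yon S).obj (Over.mk str) ⟶ X) (hp : RepWith @Etale p) (hs : RepWith @Surjective p) :
    ∃ (k' : Type u) (_ : Field k') (str' : Spec (CommRingCat.of k') ⟶ S)
      (e : (yon S).obj (Over.mk str') ≅ X) (c : Over.mk str ⟶ Over.mk str'),
      (yon S).map c ≫ e.hom = p ∧ IsFinite c.left ∧ Etale c.left := by
  have hpf : LocP @Flat p := locP_of_repWith etale_le_flat (repWith_mono etale_le_flat hp)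
  have hps : IsSurjectiveMor p := points_map_surjective_of_repWith hs
  have hsub : Subsingleton (Points X) := subsingleton_points_of_field_cover str p hps
  obtain ⟨y⟩ := nonempty_points_yon_field str
  obtain ⟨p₀, -, hm, hq⟩ := hd (Points.map p y)
  have hiso := isIso_of_qc_mono_of_field_stalks hX
    (fun b hb v => isField_stalk_of_flat_field_cover str p hpf hps b hb v) hsub p₀ hm hq
  obtain ⟨c, hc⟩ := (yon S).map_surjective (p ≫ inv p₀.toHom)
  have hce : Etale c.left := by
    refine (repWith_yon_map_iff @Etale c).1 ?_
    rw [hc]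
    exact MorphismProperty.RespectsIso.postcomp _ _ _ hp
  refine ⟨p₀.K, inferInstance, p₀.str, asIso p₀.toHom, c, ?_, ?_, hce⟩
  · rw [hc, asIso_hom, Category.assoc, IsIso.inv_hom_id, Category.comp_id]
  · have : LocallyQuasiFinite c.left := etale_locallyQuasiFinite _
    have : QuasiCompact c.left := by
      have : CompactSpace ↥(Over.mk str).left :=
        inferInstanceAs (CompactSpace ↥(Spec (CommRingCat.of k)))
      have : QuasiSeparatedSpace ↥(Over.mk p₀.str).left :=
        inferInstanceAs (QuasiSeparatedSpace ↥(Spec (CommRingCat.of p₀.K)))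
      infer_instance
    have : IsLocallyArtinian (Over.mk p₀.str).left :=
      inferInstanceAs (IsLocallyArtinian (Spec (CommRingCat.of p₀.K)))
    exact IsFinite.of_locallyQuasiFinite c.left


/-- The identity of the spectrum of a field is an fppf field cover. -/
theorem fppf_field_cover_id {k : Type u} [Field k] (str : Spec (CommRingCat.of k) ⟶ S) :
    LocP @LocallyOfFinitePresentation (𝟙 ((yon S).obj (Over.mk str))) ∧
      LocP @Flat (𝟙 ((yon S).obj (Over.mk str))) ∧
      IsSurjectiveMor (𝟙 ((yon S).obj (Over.mk str))) := by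
  have he : RepWith @Etale (𝟙 ((yon S).obj (Over.mk str))) := by
    rw [← (yon S).map_id]
    refine (repWith_yon_map_iff @Etale _).2 ?_
    change Etale (𝟙 (Spec (CommRingCat.of k)))
    infer_instance
  refine ⟨locP_of_repWith etale_le_lfp (repWith_mono etale_le_lfp he),
    locP_of_repWith etale_le_flat (repWith_mono etale_le_flat he), fun y => ⟨y, ?_⟩⟩
  rw [Points.map_id]

/-- The residual space at `x` is the spectrum of a field iff `x` is represented by a
monomorphism from the spectrum of a field. -/
theorem residual_iso_field_iff {X Z : Sp S} (hX : IsAlgSpace X) (hZa : IsAlgSpace Z)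
    (x : Points X) (i : Z ⟶ X) [Mono i] (hi : Set.range (Points.map i) = {x})
    (hZ : ∃ (k : Type u) (_ : Field k) (str : Spec (CommRingCat.of k) ⟶ S)
      (p : (yon S).obj (Over.mk str) ⟶ Z),
      LocP @LocallyOfFinitePresentation p ∧ LocP @Flat p ∧ IsSurjectiveMor p) :
    (∃ (k : Type u) (_ : Field k) (str : Spec (CommRingCat.of k) ⟶ S),
      Nonempty (Z ≅ (yon S).obj (Over.mk str))) ↔
      ∃ p : FieldPt X, Points.mk p = x ∧ Mono p.toHom := by
  constructor
  · rintro ⟨k, _, str, ⟨e⟩⟩
    let p : FieldPt X := ⟨k, str, yEquiv (e.inv ≫ i)⟩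
    have hp : p.toHom = e.inv ≫ i := Equiv.symm_apply_apply _ _
    refine ⟨p, ?_, ?_⟩
    · let t : ↥(Spec (CommRingCat.of k)) := IsLocalRing.closedPoint k
      have h1 := Points.ofPt_toHom p t
      rw [← h1, hp]
      have h2 : Points.ofPt (e.inv ≫ i) t = Points.map i (Points.ofPt e.inv t) :=
        (Points.map_ofPt e.inv i t).symm
      have : Points.map i (Points.ofPt e.inv t) ∈ Set.range (Points.map i) := ⟨_, rfl⟩
      rw [hi] at this
      exact h2.trans this
    · rw [hp]
      infer_instance
  · rintro ⟨p, hp, hm⟩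
    obtain ⟨k, _, str, q, h1, h2, h3⟩ := hZ
    obtain ⟨h1', h2', h3'⟩ := fppf_field_cover_id p.str
    have hr : Set.range (Points.map p.toHom) = {x} := by
      apply subset_antisymm
      · rintro _ ⟨y, rfl⟩
        obtain ⟨t, rfl⟩ := (Points.schemeHomeo p.pt).surjective y
        have := Points.ofPt_toHom p t
        rw [Points.ofPt_eq_map_ofScheme] at this
        rw [Set.mem_singleton_iff, ← hp]
        exact this
      · rintro _ rfl
        let t : ↥(Spec (CommRingCat.of p.K)) := IsLocalRing.closedPoint p.K
        refine ⟨Points.schemeHomeo p.pt t, ?_⟩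
        have := Points.ofPt_toHom p t
        rw [Points.ofPt_eq_map_ofScheme] at this
        rw [← hp]
        exact this
    obtain ⟨e, -⟩ := exists_iso_of_mono_one_point hX (IsAlgSpace.yon_obj p.pt) hZa p.toHom i x
      hr hi p.str (𝟙 _) h1' h2' h3' str q h1 h2 h3
    exact ⟨p.K, inferInstance, p.str, ⟨e⟩⟩

end Groth.Agent.Lib.Helper14.AS
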