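import Groth.Agent.Lib.Helper14.AlgSpFieldQC
import Groth.Agent.Lib.Helper14.AlgSpProdQC

open CategoryTheory CategoryTheory.Limits AlgebraicGeometry Opposite AlgSp
open CategoryTheory.Functor Groth.Agent.Lib.Helper14.AS

universe u

noncomputable section

namespace Groth.Agent.Lib.Helper14.AS

variable {S : Scheme.{u}}

set_option backward.isDefEq.respectTransparency.types false in
/-- Over a quasi-separated space, a representable morphism from a scheme that is quasi-compact
over the base is quasi-compact. -/
theorem repWith_quasiCompact_of_isQuasiSeparatedSp {X : Sp S} (hX : IsQuasiSeparatedSp X)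
    {A : Over S} (hA : QuasiCompact A.hom) (c : (yon S).obj A ⟶ X) (hc : Representable c) :
    RepWith @QuasiCompact c := by
  refine MorphismProperty.relative_of_snd hc fun T g => ?_
  change QuasiCompact (hc.snd g).left
  have sq := hc.isPullback' g
  have magic := isPullback_diag_of_isPullback' sq
  have hΓ : RepWith @QuasiCompact (prod.lift ((yon S).map (hc.fst' g)) ((yon S).map (hc.snd g))) :=
    repWith_of_isPullback _ magic hX
  have e : prod.lift ((yon S).map (hc.fst' g)) ((yon S).map (hc.snd g)) =
      (yon S).map (prod.lift (hc.fst' g) (hc.snd g)) ≫ prodComparison (yon S) A T := by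
    apply Limits.prod.hom_ext
    · rw [prod.lift_fst, Category.assoc, prodComparison_fst, ← Functor.map_comp, prod.lift_fst]
    · rw [prod.lift_snd, Category.assoc, prodComparison_snd, ← Functor.map_comp, prod.lift_snd]
  rw [e] at hΓ
  have hΓ' : RepWith @QuasiCompact ((yon S).map (prod.lift (hc.fst' g) (hc.snd g))) :=
    (MorphismProperty.cancel_right_of_respectsIso (RepWith @QuasiCompact) _ _).1 hΓ
  have h1 : QuasiCompact (prod.lift (hc.fst' g) (hc.snd g)).left :=
    (repWith_yon_map_iff _ _).1 hΓ'
  have h2 : QuasiCompact (prod.snd : A ⨯ T ⟶ T).left := by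
    rw [← Over.prodLeftIsoPullback_hom_snd]
    infer_instance
  have h3 : (hc.snd g).left = (prod.lift (hc.fst' g) (hc.snd g)).left ≫
      (prod.snd : A ⨯ T ⟶ T).left := by
    rw [← Over.comp_left, prod.lift_snd]
  rw [h3]
  infer_instance


set_option backward.isDefEq.respectTransparency.types false in
/-- The structure morphism of the spectrum of a field is quasi-compact. -/
theorem quasiCompact_of_field {K : Type u} [Field K] {T : Scheme.{u}}
    (f : Spec (CommRingCat.of K) ⟶ T) : QuasiCompact f := by
  rw [quasiCompact_iff]
  intro U _ _
  exact (Set.toFinite _).isCompact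

set_option backward.isDefEq.respectTransparency.types false in
/-- Every field point of a quasi-separated algebraic space is quasi-compact. -/
theorem repWith_quasiCompact_toHom_of_isQuasiSeparatedSp {X : Sp S} (hX : IsAlgSpace X)
    (hqs : IsQuasiSeparatedSp X) (q : FieldPt X) : RepWith @QuasiCompact q.toHom :=
  repWith_quasiCompact_of_isQuasiSeparatedSp hqs (A := q.pt) (quasiCompact_of_field q.str) _
    (repDiag_of_isAlgSpace hX _)

/-- A quasi-separated algebraic space is decent. -/
theorem isDecent_of_isQuasiSeparatedSp {X : Sp S} (hX : IsAlgSpace X)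
    (hqs : IsQuasiSeparatedSp X) : IsDecent X := by
  intro x
  induction x using Points.ind with
  | h q =>
  exact exists_mono_qc_point_of_qc hX q (repWith_quasiCompact_toHom_of_isQuasiSeparatedSp hX hqs q)

end Groth.Agent.Lib.Helper14.AS
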