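import Groth.Agent.Lib.Helper14.AlgSpDecent2

open CategoryTheory CategoryTheory.Limits AlgebraicGeometry Opposite AlgSp
open CategoryTheory.Functor Groth.Agent.Lib.Helper14.AS

universe u

noncomputable section

namespace Groth.Agent.Lib.Helper14.AS

variable {S : Scheme.{u}}

set_option backward.isDefEq.respectTransparency.types false in
/-- A compact scheme etale over the spectrum of a field has finitely many points. -/
theorem finite_of_etale_of_compact {U : Scheme.{u}} {K : Type u} [Field K]
    (e : U ⟶ Spec (CommRingCat.of K)) [Etale e] [CompactSpace ↥U] : Finite ↥U := by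
  have hqc : QuasiCompact e :=
    (HasAffineProperty.iff_of_isAffine (P := @QuasiCompact) (f := e)).2 inferInstance
  have hlqf : LocallyQuasiFinite e := etale_locallyQuasiFinite _
  have h := e.finite_preimage_singleton (IsLocalRing.closedPoint K : ↥(Spec (CommRingCat.of K)))
  refine Set.finite_univ_iff.1 (h.subset fun x _ => ?_)
  exact Subsingleton.elim (α := ↥(Spec (CommRingCat.of K))) _ _

set_option backward.isDefEq.respectTransparency.types false in
/-- Key finiteness: if `p : Spec K → X` is a monomorphism and `f : X → Y` is etale and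
quasi-compact, the kernel pair of `p ≫ f` is finite over `Spec K`. -/
theorem isFinite_kernel_pair_of_mono_comp_qc_etale {X Y : Sp S} (hX : IsAlgSpace X)
    (hY : IsAlgSpace Y) (f : X ⟶ Y) (hq : IsQuasiCompactMor f) (he : IsEtaleMor f)
    (p : FieldPt X) (hm : Mono p.toHom) {R : Over S} (r1 r2 : R ⟶ p.pt)
    (sqR : IsPullback ((yon S).map r1) ((yon S).map r2) (p.toHom ≫ f) (p.toHom ≫ f)) :
    IsFinite r2.left := by
  have sqG := IsPullback.of_hasPullback f (p.toHom ≫ f)
  have hG : IsAlgSpace (pullback f (p.toHom ≫ f)) :=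
    isAlgSpace_of_isPullback (repDiag_of_isAlgSpace hY) hX (IsAlgSpace.yon_obj _) sqG
  have hKc : IsQuasiCompactSp ((yon S).obj p.pt) := by
    rw [isQuasiCompactSp_yon_iff]
    exact inferInstanceAs (CompactSpace ↥(Spec (CommRingCat.of p.K)))
  have hGc : IsQuasiCompactSp (pullback f (p.toHom ≫ f)) :=
    hq (IsAlgSpace.yon_obj _) hKc _ _ _ sqG
  have hg2 : IsEtaleMor (pullback.snd f (p.toHom ≫ f)) :=
    isEtaleMor_of_isPullback hX hY (IsAlgSpace.yon_obj _) sqG he
  obtain ⟨U', a', hae', has', hU'c⟩ := hGc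
  have hee : RepWith @Etale (a' ≫ pullback.snd f (p.toHom ≫ f)) := hg2 a' hae'
  obtain ⟨e, he'⟩ := (yon S).map_surjective (a' ≫ pullback.snd f (p.toHom ≫ f))
  have hee' : Etale e.left := by
    rw [← he'] at hee
    exact (repWith_yon_map_iff _ _).1 hee
  have hU'fin : Finite ↥U'.left := by
    have : CompactSpace ↥U'.left := hU'c
    exact finite_of_etale_of_compact (K := p.K) e.left
  -- the monomorphism `R → G`
  have cond : ((yon S).map r1 ≫ p.toHom) ≫ f = (yon S).map r2 ≫ (p.toHom ≫ f) := by
    rw [Category.assoc]; exact sqR.w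
  let m : (yon S).obj R ⟶ pullback f (p.toHom ≫ f) := sqG.lift _ _ cond
  have hm1 : m ≫ pullback.fst f (p.toHom ≫ f) = (yon S).map r1 ≫ p.toHom := sqG.lift_fst _ _ _
  have hm2 : m ≫ pullback.snd f (p.toHom ≫ f) = (yon S).map r2 := sqG.lift_snd _ _ _
  have hmm : Mono m := by
    constructor
    intro Z a b hab
    have e2 : a ≫ (yon S).map r2 = b ≫ (yon S).map r2 := by
      rw [← hm2, ← Category.assoc, ← Category.assoc, hab]
    have e1 : a ≫ (yon S).map r1 = b ≫ (yon S).map r1 := by
      rw [← cancel_mono p.toHom, Category.assoc, Category.assoc, ← hm1, ← Category.assoc,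
        ← Category.assoc, hab]
    exact sqR.hom_ext e1 e2
  have sqM := hae'.rep.isPullback' m
  have hmono : Mono ((yon S).map (hae'.rep.fst' m)) :=
    (MorphismProperty.monomorphisms _).of_isPullback sqM.flip hmm
  have hm2' : Mono (hae'.rep.fst' m) := (yon S).mono_of_mono_map hmono
  have hm3 : Mono (hae'.rep.fst' m).left := inferInstance
  have hlqf : LocallyQuasiFinite e.left := etale_locallyQuasiFinite _
  have hfield : ∀ w : ↥U'.left, IsField (U'.left.presheaf.stalk w) := fun w =>
    isField_stalk_of_unramified e.left w (isField_stalk_Spec_field p.K _)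
  have hdisc : DiscreteTopology ↥U'.left := discreteTopology_of_lqf_field (K := p.K) e.left
  have hoi : IsOpenImmersion (hae'.rep.fst' m).left :=
    isOpenImmersion_of_mono_of_discrete _ hfield
  have hM'fin : Finite ↥(hae'.rep.pullback m).left :=
    Finite.of_injective (hae'.rep.fst' m).left (hae'.rep.fst' m).left.injective
  have hsnd_et : Etale (hae'.rep.snd m).left := hae'.property_snd m
  have hsnd_surj : Surjective (hae'.rep.snd m).left := has'.property _ _ _ sqM
  have hRfin : Finite ↥R.left := Finite.of_surjective (hae'.rep.snd m).left hsnd_surj.surj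
  have hcomp : hae'.rep.snd m ≫ r2 = hae'.rep.fst' m ≫ e := by
    apply (yon S).map_injective
    rw [Functor.map_comp, Functor.map_comp, he', ← Category.assoc, sqM.w, Category.assoc, hm2]
  have hcomp_et : Etale ((hae'.rep.snd m).left ≫ r2.left) := by
    rw [← Over.comp_left, hcomp, Over.comp_left]
    infer_instance
  have het2 : Etale r2.left := Groth.Agent.Lib.Helper14.ESL.srcLocal_etale _ _ hsnd_et hsnd_surj hcomp_et
  exact isFinite_of_etale_of_finite_carrier (K := p.K) r2.left


set_option backward.isDefEq.respectTransparency.types false in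
/-- Points represented by monomorphisms descend along quasi-compact etale surjective
morphisms. -/
theorem exists_mono_point_of_qc_etale_surjective {X Y : Sp S} (hX : IsAlgSpace X)
    (hY : IsAlgSpace Y) (f : X ⟶ Y) (hq : IsQuasiCompactMor f) (he : IsEtaleMor f)
    (hs : IsSurjectiveMor f)
    (hXm : ∀ x : Points X, ∃ p : FieldPt X, Points.mk p = x ∧ Mono p.toHom) (y : Points Y) :
    ∃ q : FieldPt Y, Points.mk q = y ∧ Mono q.toHom := by
  obtain ⟨x, rfl⟩ := hs y
  obtain ⟨p, rfl, hm⟩ := hXm x
  have hq₀ : (p.map f).toHom = p.toHom ≫ f := FieldPt.toHom_map f p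
  have hrep : Representable (p.map f).toHom := repDiag_of_isAlgSpace hY _
  have sqR := hrep.isPullback' (p.map f).toHom
  have hfin : IsFinite (hrep.snd (p.map f).toHom).left :=
    isFinite_kernel_pair_of_mono_comp_qc_etale hX hY f hq he p hm _ _ (by rw [← hq₀]; exact sqR)
  obtain ⟨P, π, -, hPm, hPq⟩ := exists_mono_point_of_finite_kernel_pair (p.map f) _ _ sqR.flip hfin
  exact ⟨P, hPq, hPm⟩

set_option backward.isDefEq.respectTransparency.types false in
/-- The fibres of a quasi-compact etale morphism are finite. -/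
theorem finite_fibre_of_qc_etale {X Y : Sp S} (hX : IsAlgSpace X)
    (hY : IsAlgSpace Y) (f : X ⟶ Y) (hq : IsQuasiCompactMor f) (he : IsEtaleMor f)
    (y : Points Y) : (Points.map f ⁻¹' {y}).Finite := by
  induction y using Points.ind with
  | h q₀ =>
  have sqG := IsPullback.of_hasPullback f q₀.toHom
  have hKc : IsQuasiCompactSp ((yon S).obj q₀.pt) := by
    rw [isQuasiCompactSp_yon_iff]
    exact inferInstanceAs (CompactSpace ↥(Spec (CommRingCat.of q₀.K)))
  have hGc : IsQuasiCompactSp (pullback f q₀.toHom) :=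
    hq (IsAlgSpace.yon_obj _) hKc _ _ _ sqG
  have hg2 : IsEtaleMor (pullback.snd f q₀.toHom) :=
    isEtaleMor_of_isPullback hX hY (IsAlgSpace.yon_obj _) sqG he
  obtain ⟨U', a', hae', has', hU'c⟩ := hGc
  have hee : RepWith @Etale (a' ≫ pullback.snd f q₀.toHom) := hg2 a' hae'
  obtain ⟨e, he'⟩ := (yon S).map_surjective (a' ≫ pullback.snd f q₀.toHom)
  have hee' : Etale e.left := by
    rw [← he'] at hee
    exact (repWith_yon_map_iff _ _).1 hee
  have hU'fin : Finite ↥U'.left := by
    have : CompactSpace ↥U'.left := hU'c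
    exact finite_of_etale_of_compact (K := q₀.K) e.left
  refine (Set.finite_range (Points.ofPt (a' ≫ pullback.fst f q₀.toHom))).subset ?_
  intro x hx
  rw [Set.mem_preimage, Set.mem_singleton_iff] at hx
  have e0 : Points.map f x = Points.map q₀.toHom
      (Points.ofScheme q₀.pt (IsLocalRing.closedPoint q₀.K : ↥(Spec (CommRingCat.of q₀.K)))) := by
    rw [hx, ← Points.ofPt_eq_map_ofScheme, Points.ofPt_toHom]
  obtain ⟨z, hz1, -⟩ := points_exists_of_isPullback sqG x _ e0
  obtain ⟨u', rfl⟩ := ofPt_surjective_of_repWith has' z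
  exact ⟨u', by rw [← Points.map_ofPt, hz1]⟩


set_option backward.isDefEq.respectTransparency.types false in
/-- Decency descends along quasi-compact etale surjective morphisms. -/
theorem isDecent_of_qc_etale_surjective {X Y : Sp S} (hX : IsAlgSpace X)
    (hY : IsAlgSpace Y) (f : X ⟶ Y) (hq : IsQuasiCompactMor f) (he : IsEtaleMor f)
    (hs : IsSurjectiveMor f) (hXd : IsDecent X) : IsDecent Y := by
  intro y
  obtain ⟨P, rfl, hPm⟩ := exists_mono_point_of_qc_etale_surjective hX hY f hq he hs
    (fun x => by obtain ⟨p, hp, hm, -⟩ := hXd x; exact ⟨p, hp, hm⟩) y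
  refine ⟨P, rfl, hPm, repWith_quasiCompact_of_mono_of_finite_fibres hY P hPm ?_⟩
  intro V b hV hb
  have sqV := IsPullback.of_hasPullback f b
  have hXV : IsAlgSpace (pullback f b) :=
    isAlgSpace_of_isPullback (repDiag_of_isAlgSpace hY) hX (IsAlgSpace.yon_obj _) sqV
  have hVc : IsQuasiCompactSp ((yon S).obj V) := by
    rw [isQuasiCompactSp_yon_iff]
    have : IsAffine V.left := hV
    infer_instance
  have hXVc : IsQuasiCompactSp (pullback f b) := hq (IsAlgSpace.yon_obj _) hVc _ _ _ sqV
  obtain ⟨U'', a'', hae'', has'', hU''c⟩ := hXVc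
  have hfst : RepWith @Etale (pullback.fst f b) := repWith_of_isPullback _ sqV.flip hb
  have hχ : RepWith @Etale (a'' ≫ pullback.fst f b) := repWith_comp _ hae'' hfst
  have hsndS : IsSurjectiveMor (pullback.snd f b) := isSurjectiveMor_of_isPullback sqV hs
  have hfibx : ∀ x : Points X, (Points.ofPt (a'' ≫ pullback.fst f b) ⁻¹' {x}).Finite := by
    intro x
    obtain ⟨px, rfl, -, hqx⟩ := hXd x
    have := fibre_chart_finite_inter _ hχ px hqx ⊤ (by
      have : CompactSpace ↥U''.left := hU''c
      exact isCompact_univ)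
    simpa using this
  have hfy := finite_fibre_of_qc_etale hX hY f hq he (Points.mk P)
  have hbig : (⋃ x ∈ Points.map f ⁻¹' {Points.mk P},
      Points.ofPt (a'' ≫ pullback.fst f b) ⁻¹' {x}).Finite :=
    hfy.biUnion fun x _ => hfibx x
  obtain ⟨g, hg⟩ := (yon S).map_surjective (a'' ≫ pullback.snd f b)
  refine (hbig.image g.left).subset ?_
  intro v hv
  rw [Set.mem_preimage, Set.mem_singleton_iff] at hv
  obtain ⟨z, hz⟩ := hsndS (Points.ofScheme V v)
  obtain ⟨u'', rfl⟩ := ofPt_surjective_of_repWith has'' z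
  have key : Points.ofScheme V (g.left u'') = Points.ofScheme V v := by
    rw [← hz, Points.map_ofPt, ← hg, Points.ofPt_eq_map_ofScheme ((yon S).map g)]
    exact (Points.map_yon_map_apply g u'').symm
  have hgv : g.left u'' = v := (Points.schemeHomeo V).injective key
  refine ⟨u'', ?_, hgv⟩
  simp only [Set.mem_iUnion, Set.mem_preimage, Set.mem_singleton_iff]
  refine ⟨Points.ofPt (a'' ≫ pullback.fst f b) u'', ?_, rfl⟩
  calc Points.map f (Points.ofPt (a'' ≫ pullback.fst f b) u'')
      = Points.ofPt ((a'' ≫ pullback.fst f b) ≫ f) u'' := Points.map_ofPt _ _ _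
    _ = Points.ofPt ((a'' ≫ pullback.snd f b) ≫ b) u'' := by
        rw [Category.assoc, sqV.w, ← Category.assoc]
    _ = Points.ofPt ((yon S).map g ≫ b) u'' := by rw [hg]
    _ = Points.ofPt b (g.left u'') := ofPt_yon_map_comp _ _ _
    _ = Points.mk P := by rw [hgv, hv]

end Groth.Agent.Lib.Helper14.AS
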