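import Groth.Agent.Lib.Helper14.AlgSpQcEtDesc
import Groth.Agent.Lib.Helper14.AlgSpDecent3

open CategoryTheory CategoryTheory.Limits AlgebraicGeometry Opposite AlgSp
open CategoryTheory.Functor Groth.Agent.Lib.Helper14.AS

universe u

noncomputable section

namespace Groth.Agent.Lib.Helper14.AS

variable {S : Scheme.{u}}

set_option backward.isDefEq.respectTransparency.types false in
/-- Pointwise descent of monomorphic points along quasi-compact etale morphisms. -/
theorem exists_mono_point_of_qc_etale {X Y : Sp S} (hX : IsAlgSpace X)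
    (hY : IsAlgSpace Y) (f : X ⟶ Y) (hq : IsQuasiCompactMor f) (he : IsEtaleMor f)
    (p : FieldPt X) (hm : Mono p.toHom) :
    ∃ q : FieldPt Y, Points.mk q = Points.map f (Points.mk p) ∧ Mono q.toHom := by
  have hq₀ : (p.map f).toHom = p.toHom ≫ f := FieldPt.toHom_map f p
  have hrep : Representable (p.map f).toHom := repDiag_of_isAlgSpace hY _
  have sqR := hrep.isPullback' (p.map f).toHom
  have hfin : IsFinite (hrep.snd (p.map f).toHom).left :=
    isFinite_kernel_pair_of_mono_comp_qc_etale hX hY f hq he p hm _ _ (by rw [← hq₀]; exact sqR)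
  obtain ⟨P, π, -, hPm, hPq⟩ := exists_mono_point_of_finite_kernel_pair (p.map f) _ _ sqR.flip hfin
  exact ⟨P, hPq, hPm⟩

set_option backward.isDefEq.respectTransparency.types false in
/-- Pointwise descent of decency along quasi-compact etale morphisms. -/
theorem exists_mono_qc_point_of_qc_etale {X Y : Sp S} (hX : IsAlgSpace X)
    (hY : IsAlgSpace Y) (f : X ⟶ Y) (hq : IsQuasiCompactMor f) (he : IsEtaleMor f)
    (hXd : IsDecent X) (x : Points X) :
    ∃ P : FieldPt Y, Points.mk P = Points.map f x ∧ Mono P.toHom ∧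
      RepWith @QuasiCompact P.toHom := by
  obtain ⟨p₀, rfl, hm₀, -⟩ := hXd x
  obtain ⟨P, hPy, hPm⟩ := exists_mono_point_of_qc_etale hX hY f hq he p₀ hm₀
  refine ⟨P, hPy, hPm, repWith_quasiCompact_of_mono_of_finite_fibres hY P hPm ?_⟩
  intro V b hV hb
  have sqV := IsPullback.of_hasPullback f b
  have hXV : IsAlgSpace (pullback f b) :=
    isAlgSpace_of_isPullback (repDiag_of_isAlgSpace hY) hX (IsAlgSpace.yon_obj _) sqV
  have hVc : IsQuasiCompactSp ((yon S).obj V) := by
    rw [isQuasiCompactSp_yon_iff]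
    have : IsAffine V.left := hV
    infer_instance
  have hXVc : IsQuasiCompactSp (pullback f b) := hq (IsAlgSpace.yon_obj _) hVc _ _ _ sqV
  obtain ⟨U'', a'', hae'', has'', hU''c⟩ := hXVc
  have hfst : RepWith @Etale (pullback.fst f b) := repWith_of_isPullback _ sqV.flip hb
  have hχ : RepWith @Etale (a'' ≫ pullback.fst f b) := repWith_comp _ hae'' hfst
  have hfibx : ∀ x : Points X, (Points.ofPt (a'' ≫ pullback.fst f b) ⁻¹' {x}).Finite := by
    intro x
    obtain ⟨px, rfl, -, hqx⟩ := hXd x
    have := fibre_chart_finite_inter _ hχ px hqx ⊤ (by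
      have : CompactSpace ↥U''.left := hU''c
      exact isCompact_univ)
    simpa using this
  have hfy := finite_fibre_of_qc_etale hX hY f hq he (Points.mk P)
  have hbig : (⋃ x ∈ Points.map f ⁻¹' {Points.mk P},
      Points.ofPt (a'' ≫ pullback.fst f b) ⁻¹' {x}).Finite :=
    hfy.biUnion fun x _ => hfibx x
  obtain ⟨g, hg⟩ := (yon S).map_surjective (a'' ≫ pullback.snd f b)
  refine (hbig.image g.left).subset ?_
  intro v hv
  rw [Set.mem_preimage, Set.mem_singleton_iff] at hv
  have e0 : Points.map f (Points.mk p₀) = Points.map b (Points.ofScheme V v) := by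
    rw [← Points.ofPt_eq_map_ofScheme, hv, hPy]
  obtain ⟨z, -, hz⟩ := points_exists_of_isPullback sqV _ _ e0
  obtain ⟨u'', rfl⟩ := ofPt_surjective_of_repWith has'' z
  have key : Points.ofScheme V (g.left u'') = Points.ofScheme V v := by
    rw [← hz, Points.map_ofPt, ← hg, Points.ofPt_eq_map_ofScheme ((yon S).map g)]
    exact (Points.map_yon_map_apply g u'').symm
  have hgv : g.left u'' = v := (Points.schemeHomeo V).injective key
  refine ⟨u'', ?_, hgv⟩
  simp only [Set.mem_iUnion, Set.mem_preimage, Set.mem_singleton_iff]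
  refine ⟨Points.ofPt (a'' ≫ pullback.fst f b) u'', ?_, rfl⟩
  calc Points.map f (Points.ofPt (a'' ≫ pullback.fst f b) u'')
      = Points.ofPt ((a'' ≫ pullback.fst f b) ≫ f) u'' := Points.map_ofPt _ _ _
    _ = Points.ofPt ((a'' ≫ pullback.snd f b) ≫ b) u'' := by
        rw [Category.assoc, sqV.w, ← Category.assoc]
    _ = Points.ofPt ((yon S).map g ≫ b) u'' := by rw [hg]
    _ = Points.ofPt b (g.left u'') := ofPt_yon_map_comp _ _ _
    _ = Points.mk P := by rw [hgv, hv]


set_option backward.isDefEq.respectTransparency.types false in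
/-- (5) ⇒ (1): decency of a morphism can be checked after an etale surjective base change. -/
theorem isDecentMor_of_etale_cover_base_change {X Y : Sp S} (hX : IsAlgSpace X)
    (hY : IsAlgSpace Y) (f : X ⟶ Y) {V : Over S} (p : (yon S).obj V ⟶ Y)
    (hp : RepWith @Etale p) (hps : RepWith @Surjective p) (X' : Sp S) (fst : X' ⟶ X)
    (snd : X' ⟶ (yon S).obj V) (hsq : IsPullback fst snd f p) (h : IsDecentMor snd) :
    IsDecentMor f := by
  apply isDecentMor_of_affine_base_changes hX hY f
  intro Z g P fstP sndP hZ sqP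
  have hP : IsAlgSpace P :=
    isAlgSpace_of_isPullback (repDiag_of_isAlgSpace hY) hX (IsAlgSpace.yon_obj Z) sqP
  intro z
  obtain ⟨t, ht⟩ := (Points.schemeHomeo Z).surjective (Points.map sndP z)
  have sqW := hp.rep.isPullback' g
  have hsW : Surjective (hp.rep.snd g).left := hps.property _ _ _ sqW
  have heW : Etale (hp.rep.snd g).left := hp.property_snd g
  obtain ⟨w, hw⟩ := hsW.surj t
  obtain ⟨N, hN, hwN, -⟩ := exists_isAffineOpen_mem_and_subset (x := w) (U := ⊤) trivial
  let ζ : openSub (hp.rep.pullback g) N ⟶ Z := openSubι _ N ≫ hp.rep.snd g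
  have hζe : Etale ζ.left := by
    change Etale (N.ι ≫ (hp.rep.snd g).left)
    infer_instance
  have hζq : QuasiCompact ζ.left := by
    have h1 : IsAffine (openSub (hp.rep.pullback g) N).left := hN
    have h2 : IsAffine Z.left := hZ
    infer_instance
  have sqk := IsPullback.of_hasPullback sndP ((yon S).map ζ)
  have hπe : RepWith @Etale (pullback.fst sndP ((yon S).map ζ)) :=
    repWith_of_isPullback _ sqk.flip ((repWith_yon_map_iff _ _).2 hζe)
  have hπq : RepWith @QuasiCompact (pullback.fst sndP ((yon S).map ζ)) :=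
    repWith_of_isPullback _ sqk.flip ((repWith_yon_map_iff _ _).2 hζq)
  have hPk : IsAlgSpace (pullback sndP ((yon S).map ζ)) :=
    isAlgSpace_of_isPullback (repDiag_of_isAlgSpace (IsAlgSpace.yon_obj Z)) hP
      (IsAlgSpace.yon_obj _) sqk
  have big := sqk.paste_horiz sqP
  have e : (yon S).map ζ ≫ g = (yon S).map (openSubι _ N ≫ hp.rep.fst' g) ≫ p := by
    rw [Functor.map_comp, Functor.map_comp, Category.assoc, Category.assoc, sqW.w]
  rw [e] at big
  have cond : (pullback.fst sndP ((yon S).map ζ) ≫ fstP) ≫ f =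
      (pullback.snd sndP ((yon S).map ζ) ≫ (yon S).map (openSubι _ N ≫ hp.rep.fst' g)) ≫ p := by
    rw [Category.assoc (pullback.snd sndP ((yon S).map ζ))]; exact big.w
  have hl1 : hsq.lift _ _ cond ≫ fst = pullback.fst sndP ((yon S).map ζ) ≫ fstP :=
    hsq.lift_fst _ _ _
  have hl2 : hsq.lift _ _ cond ≫ snd = pullback.snd sndP ((yon S).map ζ) ≫
      (yon S).map (openSubι _ N ≫ hp.rep.fst' g) := hsq.lift_snd _ _ _
  have leftsq : IsPullback (hsq.lift _ _ cond) (pullback.snd sndP ((yon S).map ζ)) snd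
      ((yon S).map (openSubι _ N ≫ hp.rep.fst' g)) :=
    IsPullback.of_right (by rw [hl1]; exact big) hl2 hsq
  have hPkd : IsDecent (pullback sndP ((yon S).map ζ)) := h _ _ _ leftsq
  have e0 : Points.map sndP z = Points.map ((yon S).map ζ)
      (Points.schemeHomeo (openSub (hp.rep.pullback g) N) ⟨w, hwN⟩) := by
    rw [Points.map_yon_map_apply, ← ht]
    congr 1
    exact hw.symm
  obtain ⟨zk, hzk, -⟩ := points_exists_of_isPullback sqk z _ e0
  obtain ⟨Pt, hPt, hm, hqc⟩ := exists_mono_qc_point_of_qc_etale hPk hP _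
    (isQuasiCompactMor_of_repWith hπq) (isEtaleMor_of_repWith_etale hπe) hPkd zk
  exact ⟨Pt, hPt.trans hzk, hm, hqc⟩

end Groth.Agent.Lib.Helper14.AS
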