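import Mathlib
import Groth.Prelude.Def_AlgSpCov
import Groth.Prelude.Def_AlgSpSub
import Groth.Agent.Lib.Helper14.AlgSpLocP2
import Groth.Agent.Lib.Helper14.ReducedEtale
import Groth.Agent.Lib.Helper14.NoethDescent

/-!
# Reduced algebraic spaces: descent along flat surjective morphisms (helper14)
-/

universe u
open CategoryTheory CategoryTheory.Limits AlgebraicGeometry Opposite Topology

namespace Groth.Agent.Lib.Helper14.AS

open AlgSp

variable {S : Scheme.{u}}

set_option backward.isDefEq.respectTransparency.types false in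
/-- If `X ⟶ Y` is flat and surjective and `X` is reduced then `Y` is reduced. -/
theorem isReducedSp_of_flat_surjective {X Y : Sp S} (hY : IsAlgSpace Y) (f : X ⟶ Y)
    (hfl : LocP @Flat f) (hs : IsSurjectiveMor f) (hX : IsReducedSp X) : IsReducedSp Y := by
  obtain ⟨U₀, a0, ha0e, ha0s, hU₀⟩ := hX
  obtain ⟨V, b, hbe, hbs⟩ := hY.atlas
  refine ⟨V, b, hbe, hbs, ?_⟩
  have sqU := hbe.rep.isPullback' (a0 ≫ f)
  have he : Etale (hbe.rep.snd (a0 ≫ f)).left := hbe.property_snd _
  have : AlgebraicGeometry.IsReduced U₀.left := hU₀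
  have hUred : AlgebraicGeometry.IsReduced (hbe.rep.pullback (a0 ≫ f)).left :=
    isReduced_of_etale_scheme (hbe.rep.snd (a0 ≫ f)).left
  have hae : RepWith @Etale ((yon S).map (hbe.rep.snd (a0 ≫ f)) ≫ a0) :=
    repWith_comp _ ((repWith_yon_map_iff _ _).2 he) ha0e
  have comm : ((yon S).map (hbe.rep.snd (a0 ≫ f)) ≫ a0) ≫ f =
      (yon S).map (hbe.rep.fst' (a0 ≫ f)) ≫ b := by
    rw [Category.assoc]; exact sqU.w.symm
  have hflat : Flat (hbe.rep.fst' (a0 ≫ f)).left := hfl _ b _ hae hbe comm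
  have hsurj : Surjective (hbe.rep.fst' (a0 ≫ f)).left := by
    refine ⟨fun v => ?_⟩
    obtain ⟨x, hx⟩ := hs (Points.ofPt b v)
    obtain ⟨u₀, rfl⟩ := ofPt_surjective_of_repWith ha0s x
    rw [Points.map_ofPt] at hx
    obtain ⟨w, hw1, -⟩ := exists_point_of_isPullback_yon sqU v u₀ hx.symm
    exact ⟨w, hw1⟩
  exact isReduced_of_flat_surjective (hbe.rep.fst' (a0 ≫ f)).left


set_option backward.isDefEq.respectTransparency.types false in
/-- If `X ⟶ Y` is smooth and `Y` is reduced then `X` is reduced. -/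
theorem isReducedSp_of_smooth {X Y : Sp S} (hX : IsAlgSpace X) (f : X ⟶ Y)
    (hf : LocP @Smooth f) (hY : IsReducedSp Y) : IsReducedSp X := by
  obtain ⟨V, b, hbe, hbs, hV⟩ := hY
  obtain ⟨U, a, h, hae, has, comm⟩ := exists_chart_diagram hX f b hbe hbs
  have : Smooth h.left := hf a b h hae hbe comm
  have : AlgebraicGeometry.IsReduced V.left := hV
  exact ⟨U, a, hae, has, isReduced_of_smooth_scheme h.left⟩

theorem locP_flat_of_locP_smooth {X Y : Sp S} {f : X ⟶ Y} (hf : LocP @Smooth f) :
    LocP @Flat f := fun _ _ a b h ha hb comm => by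
  have : Smooth h.left := hf a b h ha hb comm
  infer_instance


set_option backward.isDefEq.respectTransparency.types false in
/-- Given an etale surjective chart `a0` of the source of a surjective morphism `f` and an etale
chart `b` of the target, a chart diagram whose source is etale over the given chart and whose top
arrow is surjective. -/
theorem exists_chart_over {X Y : Sp S} (f : X ⟶ Y) (hs : IsSurjectiveMor f) {U₀ V : Over S}
    (a0 : (yon S).obj U₀ ⟶ X) (ha0e : RepWith @Etale a0) (ha0s : RepWith @Surjective a0)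
    (b : (yon S).obj V ⟶ Y) (hbe : RepWith @Etale b) :
    ∃ (U : Over S) (s : U ⟶ U₀) (h : U ⟶ V), Etale s.left ∧ RepWith @Etale ((yon S).map s ≫ a0) ∧
      ((yon S).map s ≫ a0) ≫ f = (yon S).map h ≫ b ∧ Surjective h.left := by
  have sqU := hbe.rep.isPullback' (a0 ≫ f)
  have he : Etale (hbe.rep.snd (a0 ≫ f)).left := hbe.property_snd _
  refine ⟨_, hbe.rep.snd (a0 ≫ f), hbe.rep.fst' (a0 ≫ f), he,
    repWith_comp _ ((repWith_yon_map_iff _ _).2 he) ha0e, ?_, ⟨fun v => ?_⟩⟩
  · rw [Category.assoc]; exact sqU.w.symm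
  · obtain ⟨x, hx⟩ := hs (Points.ofPt b v)
    obtain ⟨u₀, rfl⟩ := ofPt_surjective_of_repWith ha0s x
    rw [Points.map_ofPt] at hx
    obtain ⟨w, hw1, -⟩ := exists_point_of_isPullback_yon sqU v u₀ hx.symm
    exact ⟨w, hw1⟩

set_option backward.isDefEq.respectTransparency.types false in
/-- Local Noetherianity descends along fppf surjective morphisms of algebraic spaces. -/
theorem isLocNoethSp_of_fppf_surjective {X Y : Sp S} (hY : IsAlgSpace Y) (f : X ⟶ Y)
    (hfp : LocP @LocallyOfFinitePresentation f) (hfl : LocP @Flat f) (hs : IsSurjectiveMor f)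
    (hX : IsLocNoethSp X) : IsLocNoethSp Y := by
  obtain ⟨U₀, a0, ha0e, ha0s, hU₀⟩ := hX
  obtain ⟨V, b, hbe, hbs⟩ := hY.atlas
  obtain ⟨U, s, h, hse, hae, comm, hsurj⟩ := exists_chart_over f hs a0 ha0e ha0s b hbe
  have : IsLocallyNoetherian U₀.left := hU₀
  have : IsLocallyNoetherian U.left := LocallyOfFiniteType.isLocallyNoetherian s.left
  have : Flat h.left := hfl _ b h hae hbe comm
  have : LocallyOfFinitePresentation h.left := hfp _ b h hae hbe comm
  exact ⟨V, b, hbe, hbs, isLocallyNoetherian_of_flat_surjective h.left⟩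

end Groth.Agent.Lib.Helper14.AS
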