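import Groth.Agent.Lib.Helper14.AlgSpSubsheaf
import Groth.Agent.Lib.Helper14.AlgSpImm
import Groth.Agent.Lib.Helper14.AlgSpRepTo
import Groth.Prelude.Def_AlgSpSub

/-!
# Existence of the scheme theoretic image of a morphism of algebraic spaces (helper14)
-/

universe u
open CategoryTheory CategoryTheory.Limits AlgebraicGeometry Opposite Topology

namespace Groth.Agent.Lib.Helper14.AS

open AlgSp

variable {S : Scheme.{u}}

theorem mono_of_repWith_isClosedImmersion {F G : Sp S} {f : F ⟶ G}
    (hf : RepWith @IsClosedImmersion f) : Mono f :=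
  mono_of_repWith_mono
    (repWith_mono (isClosedImmersion_le_isImmersion.trans immersion_le_mono) hf)

/-- Closed subspaces of `Y` (with source an algebraic space) through which `f` factors. -/
def Adm {F Y : Sp S} (f : F ⟶ Y) (Z' : Sp S) (i' : Z' ⟶ Y) : Prop :=
  IsAlgSpace Z' ∧ RepWith @IsClosedImmersion i' ∧ ∃ f'' : F ⟶ Z', f'' ≫ i' = f

/-- The predicate "factors through every closed subspace through which `f` factors". -/
def imgPred {F Y : Sp S} (f : F ⟶ Y) : SubPred Y where
  P _ g := ∀ (Z' : Sp S) (i' : Z' ⟶ Y), Adm f Z' i' → ∃ g', g' ≫ i' = g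
  comp _ _ t g h Z' i' hA := by
    obtain ⟨g', hg'⟩ := h Z' i' hA
    exact ⟨(yon S).map t ≫ g', by rw [Category.assoc, hg']⟩
  loc _ g R hR h Z' i' hA := by
    have : Mono i' := mono_of_repWith_isClosedImmersion hA.2.1
    exact exists_lift_of_cover i' g R hR fun W w hw => h w hw Z' i' hA

/-- The ideal sheaves on `T` of the pullbacks along `g` of the admissible closed subspaces. -/
def imgIdeals {F Y : Sp S} (f : F ⟶ Y) {T : Over S} (g : (yon S).obj T ⟶ Y) :
    Set T.left.IdealSheafData :=
  {J | ∃ (Z' : Sp S) (i' : Z' ⟶ Y) (_ : Adm f Z' i') (W : Over S) (c : W ⟶ T)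
    (fst : (yon S).obj W ⟶ Z'), IsPullback fst ((yon S).map c) i' g ∧ J = c.left.ker}

set_option backward.isDefEq.respectTransparency.types false in
theorem imgPred_iff {F Y : Sp S} (f : F ⟶ Y) {T : Over S} (g : (yon S).obj T ⟶ Y)
    ⦃T' : Over S⦄ (t : T' ⟶ T) :
    (imgPred f).P ((yon S).map t ≫ g) ↔
      ∃ w : T' ⟶ Over.mk ((sSup (imgIdeals f g)).subschemeι ≫ T.hom),
        w ≫ (Over.homMk (sSup (imgIdeals f g)).subschemeι rfl :
          Over.mk ((sSup (imgIdeals f g)).subschemeι ≫ T.hom) ⟶ T) = t := by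
  constructor
  · intro h
    have hle : sSup (imgIdeals f g) ≤ t.left.ker := by
      apply sSup_le
      rintro J ⟨Z', i', hA, W, c, fst, sq, rfl⟩
      obtain ⟨l, hl⟩ := h Z' i' hA
      obtain ⟨w', hw'⟩ := (yon S).map_surjective (sq.lift l ((yon S).map t) hl)
      have h2 : w' ≫ c = t := by
        apply (yon S).map_injective
        rw [Functor.map_comp, hw', sq.lift_snd]
      rw [← h2, Over.comp_left]
      exact Scheme.Hom.le_ker_comp _ _
    have hle' : (sSup (imgIdeals f g)).subschemeι.ker ≤ t.left.ker := by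
      rwa [Scheme.IdealSheafData.ker_subschemeι]
    refine ⟨Over.homMk (IsClosedImmersion.lift (sSup (imgIdeals f g)).subschemeι t.left hle') ?_,
      ?_⟩
    · simp only [Over.mk_left, Over.mk_hom, IsClosedImmersion.lift_fac_assoc, Over.w]
    · ext
      simp only [Over.mk_left, Over.comp_left, Over.homMk_left, IsClosedImmersion.lift_fac]
  · rintro ⟨w, rfl⟩ Z' i' hA
    obtain ⟨hZ', hi', hf⟩ := hA
    have sq := hi'.rep.isPullback g
    have hc : IsClosedImmersion (hi'.rep.snd g).left := hi'.property_snd g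
    have hle : (hi'.rep.snd g).left.ker ≤ (sSup (imgIdeals f g)).subschemeι.ker := by
      rw [Scheme.IdealSheafData.ker_subschemeι]
      exact le_sSup ⟨Z', i', ⟨hZ', hi', hf⟩, _, _, _, sq, rfl⟩
    let k : Over.mk ((sSup (imgIdeals f g)).subschemeι ≫ T.hom) ⟶ hi'.rep.pullback g :=
      Over.homMk (IsClosedImmersion.lift (hi'.rep.snd g).left
        (sSup (imgIdeals f g)).subschemeι hle) (by
          rw [← Over.w (hi'.rep.snd g), IsClosedImmersion.lift_fac_assoc]
          rfl)
    have hk : k ≫ hi'.rep.snd g = Over.homMk (sSup (imgIdeals f g)).subschemeι rfl := by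
      ext
      simp only [k, Over.comp_left, Over.homMk_left, IsClosedImmersion.lift_fac]
    refine ⟨(yon S).map (w ≫ k) ≫ hi'.rep.fst g, ?_⟩
    rw [Category.assoc, sq.w, ← Functor.map_comp_assoc, Category.assoc, hk]

/-- Every morphism from a sheaf to an algebraic space has a scheme theoretic image. -/
theorem exists_isSchImage_sp {F Y : Sp S} (hY : IsAlgSpace Y) (f : F ⟶ Y) :
    ∃ (Z : Sp S) (i : Z ⟶ Y), IsAlgSpace Z ∧ IsSchImage f i := by
  have hrep : RepWith @IsClosedImmersion (imgPred f).ι := by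
    refine (imgPred f).repWith fun T g =>
      ⟨Over.mk ((sSup (imgIdeals f g)).subschemeι ≫ T.hom),
        (Over.homMk (sSup (imgIdeals f g)).subschemeι rfl :
          Over.mk ((sSup (imgIdeals f g)).subschemeι ≫ T.hom) ⟶ T), ?_, ?_, imgPred_iff f g⟩
    · have : Mono (Over.homMk (U := Over.mk ((sSup (imgIdeals f g)).subschemeι ≫ T.hom))
          (sSup (imgIdeals f g)).subschemeι rfl : _ ⟶ T).left :=
        inferInstanceAs (Mono (sSup (imgIdeals f g)).subschemeι)
      exact Over.mono_of_mono_left _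
    · exact inferInstanceAs (IsClosedImmersion (sSup (imgIdeals f g)).subschemeι)
  refine ⟨(imgPred f).sheaf, (imgPred f).ι, isAlgSpace_of_representable_to hY _ hrep.rep, hrep,
    ?_, ?_⟩
  · rw [(imgPred f).factors_iff]
    intro T x Z' i' hA
    obtain ⟨f'', hf''⟩ := hA.2.2
    exact ⟨x ≫ f'', by rw [Category.assoc, hf'']⟩
  · intro Z' i' hZ' hi' hf
    have : Mono i' := mono_of_repWith_isClosedImmersion hi'
    apply exists_lift_of_points i' (imgPred f).ι
    intro T x
    have := ((imgPred f).P_iff (x ≫ (imgPred f).ι)).2 ⟨x, rfl⟩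
    exact this Z' i' ⟨hZ', hi', hf⟩

end Groth.Agent.Lib.Helper14.AS
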