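import Mathlib
import Groth.Prelude.Def_SGA1
import Groth.Prelude.Def_Flat
import Groth.Agent.Lib.Helper14.AlgSpPoints2
import Groth.Agent.Lib.Helper14.AlgSpInj
import Groth.Agent.Lib.Helper14.AlgSpInj2

/-!
# Universally submersive morphisms and universal homeomorphisms: representable vs points (helper14)
-/

universe u
open CategoryTheory CategoryTheory.Limits AlgebraicGeometry Opposite Topology

namespace Groth.Agent.Lib.Helper14.AS

open AlgSp

variable {S : Scheme.{u}}

theorem isQuotientMap_points_yon_map_iff {T T' : Over S} (φ : T ⟶ T') :
    IsQuotientMap (Points.map ((yon S).map φ)) ↔ IsQuotientMap (fun t => φ.left t) := by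
  rw [Points.map_yon_map_eq]
  constructor
  · intro h
    have := ((Points.schemeHomeo T').symm.isQuotientMap.comp h).comp
      (Points.schemeHomeo T).isQuotientMap
    convert this using 1
    funext t
    simp
  · intro h
    exact ((Points.schemeHomeo T').isQuotientMap.comp h).comp
      (Points.schemeHomeo T).symm.isQuotientMap

theorem isHomeomorph_points_yon_map_iff {T T' : Over S} (φ : T ⟶ T') :
    IsHomeomorph (Points.map ((yon S).map φ)) ↔ IsHomeomorph (fun t => φ.left t) := by
  rw [Points.map_yon_map_eq]
  constructor
  · intro h
    have := ((Points.schemeHomeo T').symm.isHomeomorph.comp h).comp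
      (Points.schemeHomeo T).isHomeomorph
    convert this using 1
    funext t
    simp
  · intro h
    exact ((Points.schemeHomeo T').isHomeomorph.comp h).comp
      (Points.schemeHomeo T).symm.isHomeomorph

/-- A representable universally submersive morphism to an algebraic space is a quotient map on
points. -/
theorem isQuotientMap_points_of_repWith_univSubmersive {F G : Sp S} (hG : IsAlgSpace G)
    {h : F ⟶ G} (hh : RepWith SGA1.UnivSubmersive h) : IsQuotientMap (Points.map h) := by
  obtain ⟨U, a, hae, has⟩ := hG.atlas
  have sq := hh.rep.isPullback a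
  have hq : IsQuotientMap (fun w => (hh.rep.snd a).left w) :=
    MorphismProperty.universally_le _ _ (hh.property_snd a)
  have hcomp : IsQuotientMap (Points.map h ∘ Points.ofPt (hh.rep.fst a)) := by
    have : Points.map h ∘ Points.ofPt (hh.rep.fst a) =
        Points.ofPt a ∘ (fun w => (hh.rep.snd a).left w) := by
      funext w
      simp only [Function.comp_apply]
      rw [Points.map_ofPt, sq.w, ofPt_yon_map_comp]
    rw [this]
    exact (isQuotientMap_ofPt a hae has).comp hq
  exact IsQuotientMap.of_comp (Points.continuous_ofPt _) (Points.continuous_map h) hcomp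

theorem repWith_univSubmersive_iff_isUnivSubmersiveMor {X Y : Sp S} {f : X ⟶ Y}
    (hf : Representable f) : RepWith SGA1.UnivSubmersive f ↔ IsUnivSubmersiveMor f := by
  constructor
  · intro h Z Z' hZ g fst snd sq
    exact isQuotientMap_points_of_repWith_univSubmersive hZ
      (MorphismProperty.of_isPullback (P := RepWith SGA1.UnivSubmersive) sq h)
  · intro h
    exact repWith_universally_of_univSp (Q := IsSubmersiveMor) _
      (fun φ hφ => (isQuotientMap_points_yon_map_iff φ).1 hφ) hf h

theorem univHomeo_le_universallyOpen :
    (FlatMor.IsUnivHomeo : MorphismProperty Scheme.{u}) ≤ @UniversallyOpen := by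
  rw [universallyOpen_eq]
  exact MorphismProperty.universally_mono fun _ _ _ h => h.isOpenMap

theorem univHomeo_le_universallyInjective :
    (FlatMor.IsUnivHomeo : MorphismProperty Scheme.{u}) ≤ @UniversallyInjective := by
  intro A B k hk
  exact ⟨MorphismProperty.universally_mono (fun _ _ _ h => h.injective) _ hk⟩

theorem univHomeo_le_surjective :
    (FlatMor.IsUnivHomeo : MorphismProperty Scheme.{u}) ≤ @Surjective := by
  intro A B k hk
  exact ⟨(MorphismProperty.universally_le _ _ hk : IsHomeomorph _).surjective⟩

/-- A representable universal homeomorphism to an algebraic space is a homeomorphism on points. -/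
theorem isHomeomorph_points_of_repWith_univHomeo {F G : Sp S} (hG : IsAlgSpace G)
    {h : F ⟶ G} (hh : RepWith FlatMor.IsUnivHomeo h) : IsHomeomorph (Points.map h) := by
  refine ⟨Points.continuous_map h, ?_, ?_, ?_⟩
  · exact isOpenMap_points_of_repWith_universallyOpen hG
      (repWith_mono univHomeo_le_universallyOpen hh)
  · have h1 : FieldInj h :=
      (repWith_universallyInjective_iff hh.rep).1 (repWith_mono univHomeo_le_universallyInjective hh)
    exact h1.injective_points
  · exact points_map_surjective_of_repWith (repWith_mono univHomeo_le_surjective hh)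

theorem repWith_univHomeo_iff_isUnivHomeoMor {X Y : Sp S} {f : X ⟶ Y}
    (hf : Representable f) : RepWith FlatMor.IsUnivHomeo f ↔ IsUnivHomeoMor f := by
  constructor
  · intro h Z Z' hZ g fst snd sq
    exact isHomeomorph_points_of_repWith_univHomeo hZ
      (MorphismProperty.of_isPullback (P := RepWith FlatMor.IsUnivHomeo) sq h)
  · intro h
    exact repWith_universally_of_univSp (Q := fun _ _ f => IsHomeomorph (Points.map f)) _
      (fun φ hφ => (isHomeomorph_points_yon_map_iff φ).1 hφ) hf h

end Groth.Agent.Lib.Helper14.AS
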