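import Groth.Agent.Lib.Helper14.AlgSpFieldQC2
import Groth.Agent.Lib.Helper14.AlgSpFibrePt
import Groth.Agent.Lib.Helper14.AlgSpDecent2
import Groth.Prelude.Def_AlgSpMor5
import Mathlib.AlgebraicGeometry.ValuativeCriterion

open CategoryTheory CategoryTheory.Limits AlgebraicGeometry Opposite AlgSp
open CategoryTheory.Functor Groth.Agent.Lib.Helper14.AS

universe u

noncomputable section

namespace Groth.Agent.Lib.Helper14.AS

/-- Given a specialization `u ⤳ u'` on a scheme and a field-valued point at `u`, there is a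
valuation ring of the field whose spectrum maps to the scheme, extending the point and sending
the closed point to `u'`. -/
theorem exists_valuationSubring_lift {U : Scheme.{u}} {u u' : ↥U} (h : u ⤳ u') {Ω : Type u}
    [Field Ω] (ι : U.residueField u ⟶ CommRingCat.of Ω) :
    ∃ (A' : ValuationSubring Ω) (m : Spec (CommRingCat.of ↥A') ⟶ U),
      Spec.map (CommRingCat.ofHom (algebraMap ↥A' Ω)) ≫ m =
        Spec.map ι ≫ U.fromSpecResidueField u ∧
      m (IsLocalRing.closedPoint ↥A' : ↥(Spec (CommRingCat.of ↥A'))) = u' := by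
  let ρ : U.presheaf.stalk u' ⟶ CommRingCat.of Ω :=
    U.presheaf.stalkSpecializes h ≫ U.residue u ≫ ι
  obtain ⟨A', hA', hloc⟩ := IsLocalRing.exists_factor_valuationRing ρ.hom
  let ρ' : U.presheaf.stalk u' ⟶ CommRingCat.of ↥A' :=
    CommRingCat.ofHom (ρ.hom.codRestrict A'.toSubring hA')
  have hρ : ρ' ≫ CommRingCat.ofHom (algebraMap ↥A' Ω) = ρ := by
    ext x
    rfl
  refine ⟨A', Spec.map ρ' ≫ U.fromSpecStalk u', ?_, ?_⟩
  · rw [← Category.assoc, ← Spec.map_comp, hρ, Scheme.fromSpecResidueField]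
    simp only [ρ, Spec.map_comp, Category.assoc]
    rw [Scheme.SpecMap_stalkSpecializes_fromSpecStalk]
  · change U.fromSpecStalk u' (Spec.map ρ'
      (IsLocalRing.closedPoint ↥A' : ↥(Spec (CommRingCat.of ↥A')))) = u'
    have : IsLocalHom ρ'.hom := hloc
    have h1 : Spec.map ρ' (IsLocalRing.closedPoint ↥A' : ↥(Spec (CommRingCat.of ↥A'))) =
        (IsLocalRing.closedPoint (U.presheaf.stalk u') : ↥(Spec (U.presheaf.stalk u'))) :=
      IsLocalRing.comap_closedPoint ρ'.hom
    rw [h1, Scheme.fromSpecStalk_closedPoint]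


variable {S : Scheme.{u}}

set_option backward.isDefEq.respectTransparency.types false in
/-- Core of the existence part of the valuative criterion: a valuative square whose base change
to the valuation ring is a decent algebraic space with closed structure map has a lift after a
dominating extension. -/
theorem hasLiftExt_of_closed_decent {X Y : Sp S} (f : X ⟶ Y) (sq : ValSq f)
    (W : Sp S) (pX : W ⟶ X) (g : W ⟶ (yon S).obj sq.ptA) (sqW : IsPullback pX g f sq.bot)
    (hW : IsAlgSpace W) (hWd : IsDecent W) (hcl : IsClosedMap (Points.map g)) :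
    sq.HasLiftExt := by
  classical
  let ξ : (yon S).obj sq.ptK ⟶ W := sqW.lift sq.top ((yon S).map sq.j) sq.comm
  have hξ1 : ξ ≫ pX = sq.top := sqW.lift_fst _ _ _
  have hξ2 : ξ ≫ g = (yon S).map sq.j := sqW.lift_snd _ _ _
  let qξ : FieldPt W := ⟨sq.K, sq.ptK.hom, (J S).uliftYonedaEquiv ξ⟩
  have hqξ : qξ.toHom = ξ := Equiv.symm_apply_apply _ _
  let t₀ : ↥(Spec (CommRingCat.of sq.K)) := IsLocalRing.closedPoint sq.K
  let x : Points W := Points.mk qξ
  have hx : x = Points.ofPt ξ t₀ := by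
    rw [← hqξ]; exact (Points.ofPt_toHom qξ t₀).symm
  let G : Points W → ↥(Spec (CommRingCat.of sq.A)) := fun y => Points.toScheme sq.ptA (Points.map g y)
  have hGcl : IsClosedMap G := (Points.schemeHomeo sq.ptA).symm.isClosedMap.comp hcl
  have hGx : G x = sq.j.left t₀ := by
    change Points.toScheme sq.ptA (Points.map g x) = _
    rw [hx, Points.map_ofPt, hξ2, Points.toScheme_ofPt]
  let 𝔪 : ↥(Spec (CommRingCat.of sq.A)) := IsLocalRing.closedPoint sq.A
  have hspec : sq.j.left t₀ ⤳ 𝔪 := IsLocalRing.specializes_closedPoint _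
  have hmem : 𝔪 ∈ G '' closure {x} :=
    hspec.mem_closed (hGcl _ isClosed_closure) ⟨x, subset_closure rfl, hGx⟩
  obtain ⟨x', hx'cl, hx'𝔪⟩ := hmem
  have hxx' : x ⤳ x' := specializes_iff_mem_closure.2 hx'cl
  obtain ⟨U, a, hae, has⟩ := hW.atlas
  obtain ⟨u', hu'⟩ := ofPt_surjective_of_repWith has x'
  obtain ⟨p, hp, -, hq⟩ := hWd x
  obtain ⟨u, hu_spec, hu⟩ := exists_generization_of_chart a hae p hq u' (by rw [hp, hu']; exact hxx')
  let qu : FieldPt W := FieldPt.ofPt a u
  let cu : qu.pt ⟶ U := Over.homMk (U.left.fromSpecResidueField u) rfl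
  have hqu : qu.toHom = (yon S).map cu ≫ a := FieldPt.toHom_ofPt a u
  have hmk : Points.mk qu = Points.mk qξ := hu.trans hp
  obtain ⟨Ω, _, w, α, β, hαβ⟩ := exists_common_extension hmk
  let ι : U.left.residueField u ⟶ CommRingCat.of Ω := Spec.preimage α.left
  have hι : Spec.map ι = α.left := Spec.map_preimage _
  obtain ⟨A', m, hm1, hm2⟩ := exists_valuationSubring_lift hu_spec ι
  obtain ⟨γ, hγ⟩ := (yon S).map_surjective (a ≫ g)
  have hγu' : γ.left u' = 𝔪 := by
    rw [← hx'𝔪, ← hu']
    change _ = Points.toScheme sq.ptA (Points.map g (Points.ofPt a u'))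
    rw [Points.map_ofPt, ← hγ, Points.toScheme_ofPt]
  let φ₀ : CommRingCat.of sq.A ⟶ CommRingCat.of ↥A' := Spec.preimage (m ≫ γ.left)
  have hφ₀ : Spec.map φ₀ = m ≫ γ.left := Spec.map_preimage _
  let ψ₀ : CommRingCat.of sq.K ⟶ CommRingCat.of Ω := Spec.preimage β.left
  have hψ₀ : Spec.map ψ₀ = β.left := Spec.map_preimage _
  have hover : α ≫ cu ≫ γ = β ≫ sq.j := by
    apply (yon S).map_injective
    rw [Functor.map_comp, Functor.map_comp, hγ, ← Category.assoc ((yon S).map cu), ← hqu,
      ← Category.assoc, hαβ, hqξ, Category.assoc, hξ2, Functor.map_comp]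
  have hover' : α.left ≫ U.left.fromSpecResidueField u ≫ γ.left = β.left ≫ sq.j.left :=
    congrArg Over.Hom.left hover
  have hcomm₀ : φ₀ ≫ CommRingCat.ofHom (algebraMap ↥A' Ω) =
      CommRingCat.ofHom (algebraMap sq.A sq.K) ≫ ψ₀ := by
    apply Spec.map_injective
    rw [Spec.map_comp, Spec.map_comp, hφ₀, ← Category.assoc, hm1, hι, hψ₀, Category.assoc]
    exact hover'
  have hloc : IsLocalHom φ₀.hom := by
    rw [IsLocalRing.isLocalHom_iff_comap_closedPoint]
    change Spec.map φ₀ (IsLocalRing.closedPoint ↥A' : ↥(Spec (CommRingCat.of ↥A'))) = 𝔪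
    rw [hφ₀, Scheme.Hom.comp_apply, hm2, hγu']
  let e : sq.DomExt :=
    { A' := ↥A'
      K' := Ω
      φ := φ₀.hom
      ψ := ψ₀.hom
      comm := congrArg CommRingCat.Hom.hom hcomm₀
      isLocalHom := hloc }
  refine ⟨e, ?_⟩
  have hmw : m ≫ U.hom = Spec.map (CommRingCat.ofHom e.φ) ≫ sq.str := by
    change m ≫ U.hom = Spec.map φ₀ ≫ sq.str
    rw [hφ₀, Category.assoc]
    congr 1
    exact (Over.w γ).symm
  let mo : e.ptA' ⟶ U := Over.homMk m hmw
  have hmoγ : mo ≫ γ = (Over.homMk (Spec.map (CommRingCat.ofHom e.φ)) rfl : e.ptA' ⟶ sq.ptA) := by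
    apply Over.OverMorphism.ext
    exact hφ₀.symm
  have hwK : 𝟙 _ ≫ w = e.ptK'.hom := by
    rw [Category.id_comp]
    have hwβ : β.left ≫ sq.ptK.hom = w := Over.w β
    rw [← hwβ]
    change β.left ≫ sq.j.left ≫ sq.str = Spec.map (CommRingCat.ofHom (algebraMap ↥A' Ω)) ≫
      Spec.map φ₀ ≫ sq.str
    rw [← Category.assoc, ← hover', hφ₀, ← hι, ← Category.assoc (Spec.map _) (m ≫ _),
      ← Category.assoc (Spec.map _) m, hm1]
    simp only [Category.assoc]
    rfl
  let τ : e.ptK' ⟶ Over.mk w := Over.homMk (𝟙 _) hwK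
  refine ⟨(yon S).map mo ≫ a ≫ pX, ?_, ?_⟩
  · have h1 : (Over.homMk (Spec.map (CommRingCat.ofHom (algebraMap e.A' e.K'))) rfl :
        e.ptK' ⟶ e.ptA') ≫ mo = τ ≫ α ≫ cu := by
      apply Over.OverMorphism.ext
      change Spec.map (CommRingCat.ofHom (algebraMap ↥A' Ω)) ≫ m =
        𝟙 _ ≫ α.left ≫ U.left.fromSpecResidueField u
      rw [hm1, hι, Category.id_comp]
      rfl
    have h2 : τ ≫ β = Over.homMk (Spec.map (CommRingCat.ofHom e.ψ)) (by
          change Spec.map _ ≫ Spec.map _ ≫ _ = Spec.map _ ≫ Spec.map _ ≫ _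
          rw [← Spec.map_comp_assoc, ← Spec.map_comp_assoc, ← CommRingCat.ofHom_comp,
            ← CommRingCat.ofHom_comp, e.comm]) := by
      apply Over.OverMorphism.ext
      change 𝟙 _ ≫ β.left = Spec.map ψ₀
      rw [Category.id_comp, hψ₀]
    rw [← h2, ← Category.assoc, ← Functor.map_comp, h1, Functor.map_comp, Functor.map_comp,
      Functor.map_comp, Category.assoc, Category.assoc, ← Category.assoc ((yon S).map cu), ← hqu,
      ← Category.assoc ((yon S).map α), hαβ, hqξ, Category.assoc, Category.assoc, hξ1]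
  · rw [Category.assoc, Category.assoc, sqW.w, ← Category.assoc a, ← hγ, ← Category.assoc,
      ← Functor.map_comp, hmoγ]


/-- A universally closed decent morphism of algebraic spaces satisfies the existence part of the
valuative criterion. -/
theorem existVC_of_isDecentMor_of_isUnivClosedMor {X Y : Sp S} (hX : IsAlgSpace X)
    (hY : IsAlgSpace Y) (f : X ⟶ Y) (hd : IsDecentMor f) (hc : IsUnivClosedMor f) :
    ExistVC f := by
  intro sq
  have sqW := IsPullback.of_hasPullback f sq.bot
  have hW : IsAlgSpace (pullback f sq.bot) :=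
    isAlgSpace_of_isPullback (repDiag_of_isAlgSpace hY) hX (IsAlgSpace.yon_obj _) sqW
  exact hasLiftExt_of_closed_decent f sq _ _ _ sqW hW (hd sq.bot _ _ sqW)
    (hc (IsAlgSpace.yon_obj _) sq.bot _ _ sqW)

/-- A morphism of algebraic spaces with decent source is decent. -/
theorem isDecentMor_of_isDecent_source {X Y : Sp S} (hY : IsAlgSpace Y) (f : X ⟶ Y)
    (hXd : IsDecent X) : IsDecentMor f := by
  intro T F' g fst snd sq
  exact isDecent_of_representable fst
    (MorphismProperty.of_isPullback sq.flip (repDiag_of_isAlgSpace hY g)) hXd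

end Groth.Agent.Lib.Helper14.AS
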