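import Groth.Agent.Lib.Helper14.AlgSpVC1
import Groth.Agent.Lib.Helper14.AlgSpQCMor2

open CategoryTheory CategoryTheory.Limits AlgebraicGeometry Opposite AlgSp
open CategoryTheory.Functor Groth.Agent.Lib.Helper14.AS

universe u

noncomputable section

namespace Groth.Agent.Lib.Helper14.AS

variable {S : Scheme.{u}}

/-- The valuative square for `f` obtained from one for a base change of `f`. -/
def ValSq.ofIsPullback {X Y Z X' : Sp S} {f : X ⟶ Y} {g : Z ⟶ Y} {fst : X' ⟶ X} {f' : X' ⟶ Z}
    (sq : IsPullback fst f' f g) (sq' : ValSq f') : ValSq f where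
  A := sq'.A
  K := sq'.K
  str := sq'.str
  top := sq'.top ≫ fst
  bot := sq'.bot ≫ g
  comm := by rw [Category.assoc, sq.w, ← Category.assoc, sq'.comm, Category.assoc]

/-- The existence part of the valuative criterion is stable under base change. -/
theorem existVC_of_isPullback {X Y Z X' : Sp S} {f : X ⟶ Y} {g : Z ⟶ Y} {fst : X' ⟶ X}
    {f' : X' ⟶ Z} (sq : IsPullback fst f' f g) (h : ExistVC f) : ExistVC f' := by
  intro sq'
  obtain ⟨e, l, hl1, hl2⟩ := h (ValSq.ofIsPullback sq sq')
  let e' : sq'.DomExt :=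
    { A' := e.A'
      K' := e.K'
      φ := e.φ
      ψ := e.ψ
      comm := e.comm
      isLocalHom := e.isLocalHom }
  refine ⟨e', ?_⟩
  let φm : e'.ptA' ⟶ sq'.ptA := Over.homMk (Spec.map (CommRingCat.ofHom e'.φ)) rfl
  let km : e'.ptK' ⟶ e'.ptA' := Over.homMk (Spec.map (CommRingCat.ofHom (algebraMap e'.A' e'.K'))) rfl
  have hψw : Spec.map (CommRingCat.ofHom e'.ψ) ≫ sq'.ptK.hom = e'.ptK'.hom := by
    change Spec.map _ ≫ Spec.map _ ≫ _ = Spec.map _ ≫ Spec.map _ ≫ _
    rw [← Spec.map_comp_assoc, ← Spec.map_comp_assoc, ← CommRingCat.ofHom_comp,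
      ← CommRingCat.ofHom_comp, e'.comm]
  let ψm : e'.ptK' ⟶ sq'.ptK := Over.homMk (Spec.map (CommRingCat.ofHom e'.ψ)) hψw
  let l₁ : (yon S).obj e'.ptA' ⟶ X := l
  have hl1' : (yon S).map km ≫ l₁ = (yon S).map ψm ≫ sq'.top ≫ fst := hl1
  have hl2' : l₁ ≫ f = (yon S).map φm ≫ sq'.bot ≫ g := hl2
  have hkφ : km ≫ φm = ψm ≫ sq'.j := by
    apply Over.OverMorphism.ext
    change Spec.map _ ≫ Spec.map _ = Spec.map _ ≫ Spec.map _
    rw [← Spec.map_comp, ← Spec.map_comp, ← CommRingCat.ofHom_comp, ← CommRingCat.ofHom_comp,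
      e'.comm]
  have hcond : l₁ ≫ f = ((yon S).map φm ≫ sq'.bot) ≫ g := by
    rw [hl2', Category.assoc]
  refine ⟨sq.lift l₁ ((yon S).map φm ≫ sq'.bot) hcond, ?_, sq.lift_snd _ _ _⟩
  change (yon S).map km ≫ sq.lift l₁ ((yon S).map φm ≫ sq'.bot) hcond = (yon S).map ψm ≫ sq'.top
  apply sq.hom_ext
  · rw [Category.assoc, sq.lift_fst, Category.assoc]
    exact hl1'
  · rw [Category.assoc, sq.lift_snd, Category.assoc, sq'.comm, ← Category.assoc, ← Category.assoc,
      ← Functor.map_comp, ← Functor.map_comp, hkφ]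

/-- The uniqueness part of the valuative criterion is stable under base change. -/
theorem uniqVC_of_isPullback {X Y Z X' : Sp S} {f : X ⟶ Y} {g : Z ⟶ Y} {fst : X' ⟶ X}
    {f' : X' ⟶ Z} (sq : IsPullback fst f' f g) (h : UniqVC f) : UniqVC f' := by
  intro sq' l l' h1 h2 h1' h2'
  apply sq.hom_ext
  · refine h (ValSq.ofIsPullback sq sq') (l ≫ fst) (l' ≫ fst) ?_ ?_ ?_ ?_
    · change (yon S).map sq'.j ≫ l ≫ fst = sq'.top ≫ fst
      rw [← Category.assoc, h1]
    · change (l ≫ fst) ≫ f = sq'.bot ≫ g
      rw [Category.assoc, sq.w, ← Category.assoc, h2]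
    · change (yon S).map sq'.j ≫ l' ≫ fst = sq'.top ≫ fst
      rw [← Category.assoc, h1']
    · change (l' ≫ fst) ≫ f = sq'.bot ≫ g
      rw [Category.assoc, sq.w, ← Category.assoc, h2']
  · rw [h2, h2']


set_option backward.isDefEq.respectTransparency.types false in
/-- For a morphism to a scheme satisfying the existence part of the valuative criterion, the
image of a closed set of points is stable under specialization. -/
theorem stableUnderSpecialization_image_of_existVC {W : Sp S} {V : Over S}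
    (fV : W ⟶ (yon S).obj V) (he : ExistVC fV) (T : Set (Points W)) (hT : IsClosed T) :
    StableUnderSpecialization ((fun y => Points.toScheme V (Points.map fV y)) '' T) := by
  rintro v v' hvv' ⟨y, hyT, rfl⟩
  induction y using Points.ind with
  | h q =>
  let t₀ : ↥(Spec (CommRingCat.of q.K)) := IsLocalRing.closedPoint q.K
  obtain ⟨m₀, hm₀⟩ := (yon S).map_surjective (q.toHom ≫ fV)
  have hv : Points.toScheme V (Points.map fV (Points.mk q)) = m₀.left t₀ := by
    rw [← Points.ofPt_toHom q t₀, Points.map_ofPt, ← hm₀, Points.toScheme_ofPt]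
  have hvv'' : m₀.left t₀ ⤳ v' := by rw [← hv]; exact hvv'
  let m₀l : Spec (CommRingCat.of q.K) ⟶ V.left := m₀.left
  let ι : V.left.residueField (m₀l t₀) ⟶ CommRingCat.of q.K :=
    V.left.descResidueField (K := q.K) (Scheme.stalkClosedPointTo m₀l)
  have hι : Spec.map ι ≫ V.left.fromSpecResidueField (m₀l t₀) = m₀l :=
    Scheme.descResidueField_stalkClosedPointTo_fromSpecResidueField q.K V.left m₀l
  obtain ⟨A', m, hm1, hm2⟩ := exists_valuationSubring_lift hvv'' ι
  rw [hι] at hm1
  have hτw : 𝟙 _ ≫ q.pt.hom =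
      Spec.map (CommRingCat.ofHom (algebraMap ↥A' q.K)) ≫ m ≫ V.hom := by
    rw [Category.id_comp, ← Category.assoc, hm1]
    exact (Over.w m₀).symm
  let τ : Over.mk (Spec.map (CommRingCat.ofHom (algebraMap ↥A' q.K)) ≫ m ≫ V.hom) ⟶ q.pt :=
    Over.homMk (𝟙 _) hτw
  let mO : Over.mk (m ≫ V.hom) ⟶ V := Over.homMk m rfl
  let sq : ValSq fV :=
    { A := ↥A'
      K := q.K
      str := m ≫ V.hom
      top := (yon S).map τ ≫ q.toHom
      bot := (yon S).map mO
      comm := by
        rw [Category.assoc, ← hm₀, ← Functor.map_comp, ← Functor.map_comp]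
        congr 1
        apply Over.OverMorphism.ext
        change 𝟙 _ ≫ m₀.left = Spec.map (CommRingCat.ofHom (algebraMap ↥A' q.K)) ≫ m
        rw [Category.id_comp, hm1] }
  obtain ⟨e, l, hl1, hl2⟩ := he sq
  let c' : ↥(Spec (CommRingCat.of e.A')) := IsLocalRing.closedPoint e.A'
  let tK : ↥(Spec (CommRingCat.of e.K')) := IsLocalRing.closedPoint e.K'
  let km : e.ptK' ⟶ e.ptA' := Over.homMk (Spec.map (CommRingCat.ofHom (algebraMap e.A' e.K'))) rfl
  let φm : e.ptA' ⟶ sq.ptA := Over.homMk (Spec.map (CommRingCat.ofHom e.φ)) rfl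
  have hψw : Spec.map (CommRingCat.ofHom e.ψ) ≫ sq.ptK.hom = e.ptK'.hom := by
    change Spec.map _ ≫ Spec.map _ ≫ _ = Spec.map _ ≫ Spec.map _ ≫ _
    rw [← Spec.map_comp_assoc, ← Spec.map_comp_assoc, ← CommRingCat.ofHom_comp,
      ← CommRingCat.ofHom_comp, e.comm]
  let ψm : e.ptK' ⟶ sq.ptK := Over.homMk (Spec.map (CommRingCat.ofHom e.ψ)) hψw
  have hl1' : (yon S).map km ≫ l = (yon S).map ψm ≫ (yon S).map τ ≫ q.toHom := hl1
  have hl2' : l ≫ fV = (yon S).map φm ≫ (yon S).map mO := hl2
  have hmem : Points.ofPt l c' ∈ T := by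
    have h1 : Points.ofPt l (km.left tK) = Points.mk q := by
      rw [← ofPt_yon_map_comp, hl1', ofPt_yon_map_comp, ofPt_yon_map_comp, Points.ofPt_toHom]
    have h2 : km.left tK ⤳ c' := IsLocalRing.specializes_closedPoint _
    have h3 : Points.ofPt l (km.left tK) ⤳ Points.ofPt l c' :=
      h2.map (Points.continuous_ofPt l)
    rw [h1] at h3
    exact h3.mem_closed hT hyT
  have himg : Points.toScheme V (Points.map fV (Points.ofPt l c')) = v' := by
    rw [Points.map_ofPt, hl2', ← Functor.map_comp, Points.toScheme_ofPt]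
    change m (Spec.map (CommRingCat.ofHom e.φ) c') = v'
    have hloc : IsLocalHom e.φ := e.isLocalHom
    have h4 : Spec.map (CommRingCat.ofHom e.φ) c' =
        (IsLocalRing.closedPoint ↥A' : ↥(Spec (CommRingCat.of ↥A'))) :=
      IsLocalRing.comap_closedPoint e.φ
    rw [h4, hm2]
  exact ⟨Points.ofPt l c', hmem, himg⟩


set_option backward.isDefEq.respectTransparency.types false in
/-- A morphism from a quasi-compact algebraic space to an affine scheme satisfying the existence
part of the valuative criterion is closed on points. -/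
theorem isClosed_image_of_existVC_affine {W : Sp S} (hW : IsQuasiCompactSp W) {V : Over S}
    [IsAffine V.left] (fV : W ⟶ (yon S).obj V) (he : ExistVC fV) (T : Set (Points W))
    (hT : IsClosed T) :
    IsClosed ((fun y => Points.toScheme V (Points.map fV y)) '' T) := by
  obtain ⟨U, a, hae, has, hUc⟩ := hW
  have hUc' : CompactSpace ↥U.left := hUc
  obtain ⟨R, r, hr⟩ := compactSpace_iff_exists.1 hUc'
  obtain ⟨h', hh'⟩ := (yon S).map_surjective (a ≫ fV)
  let k : Spec R ⟶ V.left := r ≫ h'.left
  let TR : Set ↥(Spec R) := (fun t => Points.ofPt a (r t)) ⁻¹' T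
  have hTR : IsClosed TR := hT.preimage ((Points.continuous_ofPt a).comp r.continuous)
  have hcomp : ∀ t : ↥(Spec R), Points.toScheme V (Points.map fV (Points.ofPt a (r t))) = k t := by
    intro t
    rw [Points.map_ofPt, ← hh', Points.toScheme_ofPt]
    rfl
  have himg : (fun y => Points.toScheme V (Points.map fV y)) '' T = k '' TR := by
    ext v
    constructor
    · rintro ⟨y, hy, rfl⟩
      obtain ⟨u, rfl⟩ := ofPt_surjective_of_repWith has y
      obtain ⟨t, rfl⟩ := hr u
      exact ⟨t, hy, (hcomp t).symm⟩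
    · rintro ⟨t, ht, rfl⟩
      exact ⟨Points.ofPt a (r t), ht, hcomp t⟩
  have hstab : StableUnderSpecialization (k '' TR) := by
    rw [← himg]
    exact stableUnderSpecialization_image_of_existVC fV he T hT
  rw [himg]
  let c : V.left ≅ Spec Γ(V.left, ⊤) := V.left.isoSpec
  let φ : Γ(V.left, ⊤) ⟶ R := Spec.preimage (k ≫ c.hom)
  have hφ : Spec.map φ = k ≫ c.hom := Spec.map_preimage _
  have himg2 : PrimeSpectrum.comap φ.hom '' TR = c.hom '' (k '' TR) := by
    rw [Set.image_image]
    ext x
    constructor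
    · rintro ⟨t, ht, rfl⟩
      refine ⟨t, ht, ?_⟩
      change (k ≫ c.hom) t = Spec.map φ t
      rw [hφ]
    · rintro ⟨t, ht, rfl⟩
      refine ⟨t, ht, ?_⟩
      change Spec.map φ t = (k ≫ c.hom) t
      rw [hφ]
  have hstab2 : StableUnderSpecialization (PrimeSpectrum.comap φ.hom '' TR) := by
    rw [himg2]
    rintro x x' hxx' ⟨v, hv, rfl⟩
    have h1 : c.inv (c.hom v) ⤳ c.inv x' := hxx'.map c.inv.continuous
    have h2 : c.inv (c.hom v) = v := by
      rw [← Scheme.Hom.comp_apply, c.hom_inv_id]; rfl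
    rw [h2] at h1
    refine ⟨c.inv x', hstab h1 hv, ?_⟩
    rw [← Scheme.Hom.comp_apply, c.inv_hom_id]; rfl
  have hcl := PrimeSpectrum.isClosed_image_of_stableUnderSpecialization φ.hom TR hTR hstab2
  rw [himg2] at hcl
  have hpre : k '' TR = c.hom ⁻¹' (c.hom '' (k '' TR)) := by
    refine (Set.preimage_image_eq _ ?_).symm
    intro v v' hvv'
    have := congrArg (fun z => c.inv z) hvv'
    simp only [← Scheme.Hom.comp_apply, c.hom_inv_id] at this
    exact this
  rw [hpre]
  exact hcl.preimage c.hom.continuous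


set_option backward.isDefEq.respectTransparency.types false in
/-- A quasi-compact morphism of algebraic spaces satisfying the existence part of the valuative
criterion is closed. -/
theorem isClosedMap_of_qc_existVC {X Y : Sp S} (f : X ⟶ Y) (hq : IsQuasiCompactMor f)
    (he : ExistVC f) : IsClosedMap (Points.map f) := by
  intro T hT
  rw [← isOpen_compl_iff, Points.isOpen_iff]
  intro V g
  rw [Set.preimage_compl, isOpen_compl_iff]
  -- reduce to affine opens
  have hcov : TopologicalSpace.IsOpenCover (fun i : V.left.affineOpens => (i : V.left.Opens)) :=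
    iSup_affineOpens_eq_top V.left
  rw [hcov.isClosed_iff_coe_preimage]
  intro N
  let VN : Over S := openSub V N.1
  have hNaff : IsAffine VN.left := N.2
  let gN : (yon S).obj VN ⟶ Y := (yon S).map (openSubι V N.1) ≫ g
  have hpre : ((↑) ⁻¹' (Points.ofPt g ⁻¹' (Points.map f '' T)) : Set ↥(N.1 : V.left.Opens)) =
      Points.ofPt gN ⁻¹' (Points.map f '' T) := by
    ext v
    have h1 : Points.ofPt gN (v : ↥VN.left) = Points.ofPt g v.1 := ofPt_yon_map_comp _ _ _
    change Points.ofPt g v.1 ∈ Points.map f '' T ↔ Points.ofPt gN (v : ↥VN.left) ∈ Points.map f '' T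
    rw [h1]
  rw [hpre]
  -- base change
  have sq := IsPullback.of_hasPullback f gN
  have hWc : IsQuasiCompactSp (pullback f gN) := by
    refine hq (IsAlgSpace.yon_obj VN) ?_ gN _ _ sq
    rw [isQuasiCompactSp_yon_iff]
    infer_instance
  have heV : ExistVC (pullback.snd f gN) := existVC_of_isPullback sq he
  let TW : Set (Points (pullback f gN)) := Points.map (pullback.fst f gN) ⁻¹' T
  have hTW : IsClosed TW := hT.preimage (Points.continuous_map _)
  have himg : Points.ofPt gN ⁻¹' (Points.map f '' T) =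
      (fun y => Points.toScheme VN (Points.map (pullback.snd f gN) y)) '' TW := by
    ext v
    constructor
    · rintro ⟨x, hx, hxv⟩
      have e : Points.map f x = Points.map gN (Points.ofScheme VN v) := by
        rw [hxv, Points.ofPt_eq_map_ofScheme]
      obtain ⟨z, hz1, hz2⟩ := points_exists_of_isPullback sq x _ e
      refine ⟨z, ?_, ?_⟩
      · change Points.map (pullback.fst f gN) z ∈ T
        rw [hz1]; exact hx
      · change Points.toScheme VN (Points.map (pullback.snd f gN) z) = v
        rw [hz2, Points.toScheme_ofScheme]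
    · rintro ⟨z, hz, rfl⟩
      refine ⟨Points.map (pullback.fst f gN) z, hz, ?_⟩
      rw [← Points.map_comp, sq.w, Points.map_comp, Points.ofPt_eq_map_ofScheme,
        Points.ofScheme_toScheme]
  rw [himg]
  exact isClosed_image_of_existVC_affine hWc _ heV TW hTW

/-- A quasi-compact morphism of algebraic spaces satisfying the existence part of the valuative
criterion is universally closed. -/
theorem isUnivClosedMor_of_qc_existVC {X Y : Sp S} (f : X ⟶ Y) (hq : IsQuasiCompactMor f)
    (he : ExistVC f) : IsUnivClosedMor f := by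
  intro Z Z' _ g fst snd sq
  exact isClosedMap_of_qc_existVC snd (isQuasiCompactMor_of_isPullback sq hq)
    (existVC_of_isPullback sq he)

end Groth.Agent.Lib.Helper14.AS
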