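import Groth.Agent.Lib.Helper14.AlgSpVC2

open CategoryTheory CategoryTheory.Limits AlgebraicGeometry Opposite AlgSp
open CategoryTheory.Functor Groth.Agent.Lib.Helper14.AS

universe u

noncomputable section

namespace Groth.Agent.Lib.Helper14.AS

variable {S : Scheme.{u}}

set_option backward.isDefEq.respectTransparency.types false in
/-- A morphism of schemes over `S` whose Yoneda image satisfies the existence part of the
valuative criterion (with extensions) is universally specializing. -/
theorem universally_specializing_of_existVC {W V : Over S} (π : W ⟶ V)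
    (he : ExistVC ((yon S).map π)) :
    (AlgebraicGeometry.topologically @SpecializingMap).universally π.left := by
  intro X' Y' i₁ i₂ f' sq
  let T : Over S := Over.mk (i₂ ≫ V.hom)
  let W' : Over S := Over.mk (i₁ ≫ W.hom)
  have hw : f' ≫ T.hom = W'.hom := by
    change f' ≫ i₂ ≫ V.hom = i₁ ≫ W.hom
    rw [← Category.assoc, sq.w, Category.assoc, Over.w π]
  let f'O : W' ⟶ T := Over.homMk f' hw
  let i₁O : W' ⟶ W := Over.homMk i₁ rfl
  let i₂O : T ⟶ V := Over.homMk i₂ rfl
  have sqO : IsPullback f'O i₁O i₂O π :=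
    IsPullback.of_map (Over.forget S) (by apply Over.OverMorphism.ext; exact sq.w) sq
  have sqY := sqO.map (yon S)
  have he' : ExistVC ((yon S).map f'O) := existVC_of_isPullback sqY.flip he
  change SpecializingMap f'
  rw [specializingMap_iff_stableUnderSpecialization_image_singleton]
  intro x
  have hC : IsClosed ((Points.schemeHomeo W') '' closure {x}) :=
    (Points.schemeHomeo W').isClosedMap _ isClosed_closure
  have h := stableUnderSpecialization_image_of_existVC ((yon S).map f'O) he' _ hC
  have heq : (fun y => Points.toScheme T (Points.map ((yon S).map f'O) y)) ''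
      ((Points.schemeHomeo W') '' closure {x}) = f' '' closure {x} := by
    rw [Set.image_image]
    apply Set.image_congr
    intro t _
    rw [Points.map_yon_map_apply]
    exact (Points.schemeHomeo T).symm_apply_apply _
  rw [heq] at h
  exact h

end Groth.Agent.Lib.Helper14.AS

namespace Groth.Agent.Lib.Helper14.AS

variable {S : Scheme.{u}}

set_option backward.isDefEq.respectTransparency.types false in
theorem existVCStrict_of_representable {X Y : Sp S} (f : X ⟶ Y) (hf : Representable f)
    (he : ExistVC f) : ExistVCStrict f := by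
  intro sq
  have sqP := hf.isPullback sq.bot
  let π := hf.snd sq.bot
  let ξ := hf.lift sq.top sq.j sq.comm
  have hξ1 : (yon S).map ξ ≫ hf.fst sq.bot = sq.top := hf.lift_fst _ _ _
  have hξ2 : ξ ≫ π = sq.j := hf.lift_snd _ _ _
  have heπ : ExistVC ((yon S).map π) := existVC_of_isPullback sqP he
  have H := universally_specializing_of_existVC π heπ
  have HE := ValuativeCriterion.Existence.of_specializingMap π.left H
  have hcomm : ξ.left ≫ π.left = Spec.map (CommRingCat.ofHom (algebraMap sq.A sq.K)) ≫ 𝟙 _ := by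
    rw [Category.comp_id, ← Over.comp_left, hξ2]
    rfl
  obtain ⟨⟨l, hl1, hl2⟩⟩ := HE ⟨sq.A, sq.K, ξ.left, 𝟙 _, ⟨hcomm⟩⟩
  have hsw : l ≫ (hf.pullback sq.bot).hom = sq.ptA.hom := by
    rw [← Over.w π, ← Category.assoc, hl2]
    exact Category.id_comp _
  let s : sq.ptA ⟶ hf.pullback sq.bot := Over.homMk l hsw
  have hs1 : sq.j ≫ s = ξ := by
    apply Over.OverMorphism.ext
    exact hl1
  have hs2 : s ≫ π = 𝟙 _ := by
    apply Over.OverMorphism.ext
    exact hl2
  refine ⟨(yon S).map s ≫ hf.fst sq.bot, ?_, ?_⟩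
  · rw [← Category.assoc, ← Functor.map_comp, hs1, hξ1]
  · rw [Category.assoc, sqP.w, ← Category.assoc, ← Functor.map_comp, hs2,
      CategoryTheory.Functor.map_id, Category.id_comp]

set_option backward.isDefEq.respectTransparency.types false in
theorem existVC_of_existVCStrict {X Y : Sp S} (f : X ⟶ Y) (he : ExistVCStrict f) : ExistVC f := by
  intro sq
  obtain ⟨l, hl1, hl2⟩ := he sq
  let e : sq.DomExt :=
    { A' := sq.A
      K' := sq.K
      φ := RingHom.id _
      ψ := RingHom.id _
      comm := rfl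
      isLocalHom := ⟨fun _ h => h⟩ }
  refine ⟨e, ?_⟩
  let φm : e.ptA' ⟶ sq.ptA := Over.homMk (Spec.map (CommRingCat.ofHom e.φ)) rfl
  let km : e.ptK' ⟶ e.ptA' := Over.homMk (Spec.map (CommRingCat.ofHom (algebraMap e.A' e.K'))) rfl
  have hψw : Spec.map (CommRingCat.ofHom e.ψ) ≫ sq.ptK.hom = e.ptK'.hom := by
    change Spec.map _ ≫ Spec.map _ ≫ _ = Spec.map _ ≫ Spec.map _ ≫ _
    rw [← Spec.map_comp_assoc, ← Spec.map_comp_assoc, ← CommRingCat.ofHom_comp,
      ← CommRingCat.ofHom_comp, e.comm]
  let ψm : e.ptK' ⟶ sq.ptK := Over.homMk (Spec.map (CommRingCat.ofHom e.ψ)) hψw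
  have hkφ : km ≫ φm = ψm ≫ sq.j := by
    apply Over.OverMorphism.ext
    change Spec.map _ ≫ Spec.map _ = Spec.map _ ≫ Spec.map _
    rw [← Spec.map_comp, ← Spec.map_comp, ← CommRingCat.ofHom_comp, ← CommRingCat.ofHom_comp,
      e.comm]
  refine ⟨(yon S).map φm ≫ l, ?_, ?_⟩
  · change (yon S).map km ≫ (yon S).map φm ≫ l = (yon S).map ψm ≫ sq.top
    rw [← Category.assoc, ← Functor.map_comp, hkφ, Functor.map_comp, Category.assoc, hl1]
  · change ((yon S).map φm ≫ l) ≫ f = (yon S).map φm ≫ sq.bot
    rw [Category.assoc, hl2]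

end Groth.Agent.Lib.Helper14.AS
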