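import Groth.Agent.Lib.Helper14.AlgSpVC3

open CategoryTheory CategoryTheory.Limits AlgebraicGeometry Opposite AlgSp
open CategoryTheory.Functor Groth.Agent.Lib.Helper14.AS

universe u

noncomputable section

namespace Groth.Agent.Lib.Helper14.AS

/-- A prime of an etale algebra over a field is maximal. -/
theorem isMaximal_of_etale_field {K B : Type u} [Field K] [CommRing B] (φ : K →+* B)
    (hφ : φ.Etale) (𝔮 : Ideal B) [𝔮.IsPrime] : 𝔮.IsMaximal := by
  algebraize [φ]
  have : Module.Finite K B := Algebra.FormallyUnramified.finite_of_free K B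
  have : IsArtinianRing B := IsArtinianRing.of_finite K B
  infer_instance

/-- A field quotient of an etale algebra over a field is finite separable. -/
theorem finite_separable_of_etale_field {K B L : Type u} [Field K] [CommRing B] [Field L]
    (φ : K →+* B) (hφ : φ.Etale) (ρ : B →+* L) (hρ : Function.Surjective ρ) :
    letI := (ρ.comp φ).toAlgebra
    Module.Finite K L ∧ Algebra.IsSeparable K L := by
  algebraize [φ, ρ, ρ.comp φ]
  have hfin : Module.Finite K B := Algebra.FormallyUnramified.finite_of_free K B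
  have hL : Module.Finite K L :=
    Module.Finite.of_surjective (IsScalarTower.toAlgHom K B L).toLinearMap hρ
  have hu : Algebra.FormallyUnramified K L :=
    Algebra.FormallyUnramified.of_surjective (IsScalarTower.toAlgHom K B L) hρ
  exact ⟨hL, Algebra.FormallyUnramified.isSeparable K L⟩

variable {S : Scheme.{u}}

set_option backward.isDefEq.respectTransparency.types false in
set_option maxHeartbeats 1600000 in
/-- In the existence part of the valuative criterion for a morphism of algebraic spaces, a finite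
separable extension of the fraction field suffices. -/
theorem exists_finite_separable_domExt {X Y : Sp S} (hX : IsAlgSpace X) (hY : IsAlgSpace Y)
    (f : X ⟶ Y) (hf : ExistVC f) (sq : ValSq f) :
    ∃ e : sq.DomExt, (letI := e.ψ.toAlgebra; Module.Finite sq.K e.K' ∧
      Algebra.IsSeparable sq.K e.K') ∧ e.HasLift := by
  classical
  have sqW := IsPullback.of_hasPullback f sq.bot
  have hW : IsAlgSpace (pullback f sq.bot) :=
    isAlgSpace_of_isPullback (repDiag_of_isAlgSpace hY) hX (IsAlgSpace.yon_obj _) sqW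
  let pX := pullback.fst f sq.bot
  let g := pullback.snd f sq.bot
  let ξ : (yon S).obj sq.ptK ⟶ pullback f sq.bot := sqW.lift sq.top ((yon S).map sq.j) sq.comm
  have hξ1 : ξ ≫ pX = sq.top := sqW.lift_fst _ _ _
  have hξ2 : ξ ≫ g = (yon S).map sq.j := sqW.lift_snd _ _ _
  have heg : ExistVC g := existVC_of_isPullback sqW hf
  let sq' : ValSq g :=
    { A := sq.A
      K := sq.K
      str := sq.str
      top := ξ
      bot := 𝟙 _
      comm := by rw [hξ2, Category.comp_id] }
  obtain ⟨e', l', hl1, hl2⟩ := heg sq'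
  let c' : ↥(Spec (CommRingCat.of e'.A')) := IsLocalRing.closedPoint e'.A'
  let tK' : ↥(Spec (CommRingCat.of e'.K')) := IsLocalRing.closedPoint e'.K'
  let tK : ↥(Spec (CommRingCat.of sq.K)) := IsLocalRing.closedPoint sq.K
  let 𝔪 : ↥(Spec (CommRingCat.of sq.A)) := IsLocalRing.closedPoint sq.A
  let km' : e'.ptK' ⟶ e'.ptA' :=
    Over.homMk (Spec.map (CommRingCat.ofHom (algebraMap e'.A' e'.K'))) rfl
  let φm' : e'.ptA' ⟶ sq.ptA := Over.homMk (Spec.map (CommRingCat.ofHom e'.φ)) rfl
  have hψw' : Spec.map (CommRingCat.ofHom e'.ψ) ≫ sq.ptK.hom = e'.ptK'.hom := by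
    change Spec.map _ ≫ Spec.map _ ≫ _ = Spec.map _ ≫ Spec.map _ ≫ _
    rw [← Spec.map_comp_assoc, ← Spec.map_comp_assoc, ← CommRingCat.ofHom_comp,
      ← CommRingCat.ofHom_comp, e'.comm]
  let ψm' : e'.ptK' ⟶ sq.ptK := Over.homMk (Spec.map (CommRingCat.ofHom e'.ψ)) hψw'
  have hl1' : (yon S).map km' ≫ l' = (yon S).map ψm' ≫ ξ := hl1
  have hl2' : l' ≫ g = (yon S).map φm' ≫ 𝟙 _ := hl2
  rw [Category.comp_id] at hl2'
  -- a chart through the image of the closed point
  obtain ⟨U, a, hae, has⟩ := hW.atlas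
  obtain ⟨u, hu⟩ := ofPt_surjective_of_repWith has (Points.ofPt l' c')
  let p := hae.rep.snd l'
  let q := hae.rep.fst' l'
  have sqV : IsPullback ((yon S).map q) ((yon S).map p) a l' := hae.rep.isPullback' l'
  have hpet : Etale p.left := hae.property_snd l'
  obtain ⟨v, hv1, hv2⟩ := exists_point_of_isPullback_yon sqV u c' hu
  have hgen : GeneralizingMap p.left := Flat.generalizingMap p.left
  have hη : km'.left tK' ⤳ p.left v := by
    rw [hv2]; exact IsLocalRing.specializes_closedPoint _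
  obtain ⟨v', hv'1, hv'2⟩ := hgen hη
  have hu' : q.left v' ⤳ u := by
    rw [← hv1]; exact hv'1.map q.left.continuous
  -- the fibre of the chart over the generic point
  let pK := hae.rep.snd ξ
  let qP := hae.rep.fst' ξ
  have sqPP : IsPullback ((yon S).map qP) ((yon S).map pK) a ξ := hae.rep.isPullback' ξ
  have hpKet : Etale pK.left := hae.property_snd ξ
  have hψtK : ψm'.left tK' = tK := Subsingleton.elim (α := ↥(Spec (CommRingCat.of sq.K))) _ _
  have hcompat : Points.ofPt a (q.left v') = Points.ofPt ξ tK := by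
    rw [← ofPt_yon_map_comp, sqV.w, ofPt_yon_map_comp, hv'2, ← ofPt_yon_map_comp, hl1',
      ofPt_yon_map_comp, hψtK]
  obtain ⟨w', hw'1, hw'2⟩ := exists_point_of_isPullback_yon sqPP (q.left v') tK hcompat
  obtain ⟨B, j, hj, ⟨𝔮, h𝔮⟩, -⟩ :=
    Scheme.exists_affine_mem_range_and_range_subset (x := w')
      (U := (⊤ : (hae.rep.pullback ξ).left.Opens)) trivial
  let gB : Spec B ⟶ Spec (CommRingCat.of sq.K) := j ≫ pK.left
  let φB : CommRingCat.of sq.K ⟶ B := Spec.preimage gB
  have hφB : Spec.map φB = gB := Spec.map_preimage _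
  have hφBet : φB.hom.Etale := by
    rw [← HasRingHomProperty.Spec_iff (P := @Etale), hφB]
    infer_instance
  have h𝔮max : 𝔮.asIdeal.IsMaximal := isMaximal_of_etale_field φB.hom hφBet 𝔮.asIdeal
  let _ : Field (↑B ⧸ 𝔮.asIdeal) := Ideal.Quotient.field 𝔮.asIdeal
  let L : Type u := ↑B ⧸ 𝔮.asIdeal
  let ρ : ↑B →+* L := Ideal.Quotient.mk 𝔮.asIdeal
  have hρ : Function.Surjective ρ := Ideal.Quotient.mk_surjective
  let ψ₀ : sq.K →+* L := ρ.comp φB.hom
  have hfs := finite_separable_of_etale_field φB.hom hφBet ρ hρ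
  let tL : ↥(Spec (CommRingCat.of L)) := IsLocalRing.closedPoint L
  let rL : Spec (CommRingCat.of L) ⟶ (hae.rep.pullback ξ).left := Spec.map (CommRingCat.ofHom ρ) ≫ j
  have hrL : rL tL = w' := by
    rw [← h𝔮]
    change j (Spec.map (CommRingCat.ofHom ρ) tL) = j 𝔮
    congr 1
    apply PrimeSpectrum.ext
    change Ideal.comap ρ (IsLocalRing.maximalIdeal L) = 𝔮.asIdeal
    rw [IsLocalRing.maximalIdeal_eq_bot, ← RingHom.ker_eq_comap_bot]
    exact Ideal.mk_ker
  let ptL : Over S := Over.mk (rL ≫ (hae.rep.pullback ξ).hom)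
  let rLO : ptL ⟶ hae.rep.pullback ξ := Over.homMk rL rfl
  let m₀l : Spec (CommRingCat.of L) ⟶ U.left := rL ≫ qP.left
  have hm₀l : m₀l tL ⤳ u := by
    change qP.left (rL tL) ⤳ u
    rw [hrL, hw'1]; exact hu'
  let ι : U.left.residueField (m₀l tL) ⟶ CommRingCat.of L :=
    U.left.descResidueField (K := L) (Scheme.stalkClosedPointTo m₀l)
  have hι : Spec.map ι ≫ U.left.fromSpecResidueField (m₀l tL) = m₀l :=
    Scheme.descResidueField_stalkClosedPointTo_fromSpecResidueField L U.left m₀l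
  obtain ⟨A', m, hm1, hm2⟩ := exists_valuationSubring_lift hm₀l ι
  rw [hι] at hm1
  obtain ⟨γ, hγ⟩ := (yon S).map_surjective (a ≫ g)
  have hγu : γ.left u = 𝔪 := by
    have h1 : Points.toScheme sq.ptA (Points.map g (Points.ofPt a u)) = γ.left u := by
      rw [Points.map_ofPt, ← hγ, Points.toScheme_ofPt]
    rw [← h1, hu, Points.map_ofPt, hl2', Points.toScheme_ofPt]
    have hloc : IsLocalHom e'.φ := e'.isLocalHom
    exact IsLocalRing.comap_closedPoint e'.φ
  have hqPγ : qP ≫ γ = pK ≫ sq.j := by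
    apply (yon S).map_injective
    rw [Functor.map_comp, Functor.map_comp, hγ, ← Category.assoc, sqPP.w, Category.assoc, hξ2]
  let φ₀ : CommRingCat.of sq.A ⟶ CommRingCat.of ↥A' := Spec.preimage (m ≫ γ.left)
  have hφ₀ : Spec.map φ₀ = m ≫ γ.left := Spec.map_preimage _
  have hψ₀ : Spec.map (CommRingCat.ofHom ψ₀) = rL ≫ pK.left := by
    change Spec.map (φB ≫ CommRingCat.ofHom ρ) = _
    rw [Spec.map_comp, hφB, Category.assoc]
  have hcomm₀ : φ₀ ≫ CommRingCat.ofHom (algebraMap ↥A' L) =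
      CommRingCat.ofHom (algebraMap sq.A sq.K) ≫ CommRingCat.ofHom ψ₀ := by
    apply Spec.map_injective
    have hqPγ' : qP.left ≫ γ.left = pK.left ≫ sq.j.left := congrArg Over.Hom.left hqPγ
    have hgoal : Spec.map (CommRingCat.ofHom (algebraMap ↥A' L)) ≫ Spec.map φ₀ =
        Spec.map (CommRingCat.ofHom ψ₀) ≫ Spec.map (CommRingCat.ofHom (algebraMap sq.A sq.K)) := by
      rw [hφ₀, ← Category.assoc, hm1, hψ₀]
      change rL ≫ qP.left ≫ γ.left = rL ≫ pK.left ≫ sq.j.left
      rw [hqPγ']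
    rw [Spec.map_comp, Spec.map_comp]
    exact hgoal
  have hloc : IsLocalHom φ₀.hom := by
    rw [IsLocalRing.isLocalHom_iff_comap_closedPoint]
    change Spec.map φ₀ (IsLocalRing.closedPoint ↥A' : ↥(Spec (CommRingCat.of ↥A'))) = 𝔪
    rw [hφ₀, Scheme.Hom.comp_apply, hm2, hγu]
  let e : sq.DomExt :=
    { A' := ↥A'
      K' := L
      φ := φ₀.hom
      ψ := ψ₀
      comm := congrArg CommRingCat.Hom.hom hcomm₀
      isLocalHom := hloc }
  refine ⟨e, hfs, ?_⟩
  have hmw : m ≫ U.hom = Spec.map (CommRingCat.ofHom e.φ) ≫ sq.str := by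
    change m ≫ U.hom = Spec.map φ₀ ≫ sq.str
    rw [hφ₀, Category.assoc]
    congr 1
    exact (Over.w γ).symm
  let mo : e.ptA' ⟶ U := Over.homMk m hmw
  have hmoγ : mo ≫ γ = (Over.homMk (Spec.map (CommRingCat.ofHom e.φ)) rfl : e.ptA' ⟶ sq.ptA) := by
    apply Over.OverMorphism.ext
    exact hφ₀.symm
  have hwK : 𝟙 _ ≫ ptL.hom = e.ptK'.hom := by
    rw [Category.id_comp]
    change rL ≫ (hae.rep.pullback ξ).hom = Spec.map (CommRingCat.ofHom (algebraMap ↥A' L)) ≫
      Spec.map φ₀ ≫ sq.str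
    rw [hφ₀, ← Category.assoc, ← Category.assoc, hm1]
    have h1 : γ.left ≫ sq.str = U.hom := Over.w γ
    have h2 : qP.left ≫ U.hom = (hae.rep.pullback ξ).hom := Over.w qP
    have h3 : qP.left ≫ γ.left ≫ sq.str = (hae.rep.pullback ξ).hom := by rw [h1, h2]
    have h4 : ∀ (r : Spec (CommRingCat.of L) ⟶ (hae.rep.pullback ξ).left),
        r ≫ (hae.rep.pullback ξ).hom = (r ≫ qP.left ≫ γ.left) ≫ sq.str := by
      intro r
      rw [Category.assoc, Category.assoc, h3]
    exact h4 rL
  let τ : e.ptK' ⟶ ptL := Over.homMk (𝟙 _) hwK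
  refine ⟨(yon S).map mo ≫ a ≫ pX, ?_, ?_⟩
  · have h1 : (Over.homMk (Spec.map (CommRingCat.ofHom (algebraMap e.A' e.K'))) rfl :
        e.ptK' ⟶ e.ptA') ≫ mo = τ ≫ rLO ≫ qP := by
      apply Over.OverMorphism.ext
      change Spec.map (CommRingCat.ofHom (algebraMap ↥A' L)) ≫ m = 𝟙 _ ≫ rL ≫ qP.left
      rw [hm1, Category.id_comp]
    have h2 : τ ≫ rLO ≫ pK = Over.homMk (Spec.map (CommRingCat.ofHom e.ψ)) (by
          change Spec.map _ ≫ Spec.map _ ≫ _ = Spec.map _ ≫ Spec.map _ ≫ _
          rw [← Spec.map_comp_assoc, ← Spec.map_comp_assoc, ← CommRingCat.ofHom_comp,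
            ← CommRingCat.ofHom_comp, e.comm]) := by
      apply Over.OverMorphism.ext
      change 𝟙 _ ≫ rL ≫ pK.left = Spec.map (CommRingCat.ofHom ψ₀)
      rw [Category.id_comp, hψ₀]
    rw [← h2, ← Category.assoc, ← Functor.map_comp, h1, Functor.map_comp, Functor.map_comp,
      Functor.map_comp, Functor.map_comp, Category.assoc, Category.assoc, Category.assoc,
      Category.assoc, ← Category.assoc ((yon S).map qP), sqPP.w, Category.assoc, hξ1]
  · rw [Category.assoc, Category.assoc, sqW.w, ← Category.assoc a, ← hγ, ← Category.assoc,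
      ← Functor.map_comp, hmoγ]

end Groth.Agent.Lib.Helper14.AS
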