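import Mathlib
import Groth.Agent.S2004

open AlgebraicGeometry CategoryTheory Limits

namespace Groth.Agent.Lib.Helper14.BLQAff

universe u

section ring

variable {A A' : Type u} [CommRing A] [CommRing A'] (φ : A →+* A') (t : A)

theorem bij_congr {I I' : Ideal A} (h : I = I')
    (hb : Function.Bijective (Ideal.quotientMap (Ideal.map φ I) φ Ideal.le_comap_map)) :
    Function.Bijective (Ideal.quotientMap (Ideal.map φ I') φ Ideal.le_comap_map) := by
  subst h; exact hb

/-- every prime of `A` containing `t` is the contraction of a prime of `A'` -/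
theorem exists_comap_eq_of_mem (I : Ideal A)
    (hb : Function.Bijective (Ideal.quotientMap (Ideal.map φ I) φ Ideal.le_comap_map))
    (q : Ideal A) [hq : q.IsPrime] (hI : I ≤ q) :
    ∃ q' : Ideal A', q'.IsPrime ∧ q'.comap φ = q := by
  let J := Ideal.map φ I
  let ψ : A ⧸ I →+* A' ⧸ J := Ideal.quotientMap J φ Ideal.le_comap_map
  let e : A ⧸ I ≃+* A' ⧸ J := RingEquiv.ofBijective ψ hb
  have hsurj : Function.Surjective (Ideal.Quotient.mk I) := Ideal.Quotient.mk_surjective
  have hker : RingHom.ker (Ideal.Quotient.mk I) ≤ q := by rw [Ideal.mk_ker]; exact hI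
  have hqbar : (Ideal.map (Ideal.Quotient.mk I) q).IsPrime :=
    Ideal.map_isPrime_of_surjective hsurj hker
  have hcm : Ideal.comap (Ideal.Quotient.mk I) (Ideal.map (Ideal.Quotient.mk I) q) = q := by
    rw [Ideal.comap_map_of_surjective _ hsurj, ← RingHom.ker_eq_comap_bot]
    exact sup_eq_left.mpr hker
  let Q : Ideal (A' ⧸ J) := Ideal.comap (e.symm : A' ⧸ J →+* A ⧸ I)
    (Ideal.map (Ideal.Quotient.mk I) q)
  have hQ : Q.IsPrime := Ideal.comap_isPrime _ _
  refine ⟨Ideal.comap (Ideal.Quotient.mk J) Q, Ideal.comap_isPrime _ _, ?_⟩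
  rw [Ideal.comap_comap, Ideal.comap_comap]
  have hcomp : ((e.symm : A' ⧸ J →+* A ⧸ I).comp ((Ideal.Quotient.mk J).comp φ)) =
      Ideal.Quotient.mk I := by
    ext a
    change e.symm (Ideal.Quotient.mk J (φ a)) = Ideal.Quotient.mk I a
    rw [RingEquiv.symm_apply_eq]
    rfl
  rw [hcomp, hcm]

end ring

section scheme

variable (A A' : Type u) [CommRing A] [CommRing A']
    (φ : A →+* A') (t : A)

theorem main
    (hq : ∀ m : ℕ, Function.Bijective
      (Ideal.quotientMap (Ideal.map φ (Ideal.span {t} ^ m)) φ Ideal.le_comap_map))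
    (htor : ∀ a' : A', (∃ m : ℕ, φ t ^ m * a' = 0) →
      ∃! a : A, (∃ m : ℕ, t ^ m * a = 0) ∧ φ a = a')
    (X : Scheme.{u}) [X.IsQuasiAffine] (p : X ⟶ Spec (CommRingCat.of A)) :
    (∀ s₁ s₂ : Spec (CommRingCat.of A) ⟶ X, s₁ ≫ p = 𝟙 _ → s₂ ≫ p = 𝟙 _ →
        Spec.map (CommRingCat.ofHom φ) ≫ s₁ = Spec.map (CommRingCat.ofHom φ) ≫ s₂ →
        Spec.map (CommRingCat.ofHom (algebraMap A (Localization.Away t))) ≫ s₁ =
          Spec.map (CommRingCat.ofHom (algebraMap A (Localization.Away t))) ≫ s₂ →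
        s₁ = s₂) ∧
    (∀ (x' : Spec (CommRingCat.of A') ⟶ X) (xt : Spec (CommRingCat.of (Localization.Away t)) ⟶ X),
        x' ≫ p = Spec.map (CommRingCat.ofHom φ) →
        xt ≫ p = Spec.map (CommRingCat.ofHom (algebraMap A (Localization.Away t))) →
        Spec.map (CommRingCat.ofHom (algebraMap A' (Localization.Away (φ t)))) ≫ x' =
          Spec.map (CommRingCat.ofHom (Localization.awayMap φ t)) ≫ xt →
        ∃ s : Spec (CommRingCat.of A) ⟶ X, s ≫ p = 𝟙 _ ∧
          Spec.map (CommRingCat.ofHom φ) ≫ s = x' ∧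
          Spec.map (CommRingCat.ofHom (algebraMap A (Localization.Away t))) ≫ s = xt) := by
  let _ : Algebra A A' := φ.toAlgebra
  have hφ : algebraMap A A' = φ := rfl
  -- glueing pair
  have hq' : EtGlue.QuotPowBijective A A' t := by
    intro n _
    exact bij_congr φ (Ideal.span_singleton_pow t n) (hq n)
  have hglue : EtGlue.IsGlueingPair A A' t := by
    rw [Groth.Agent.S2004.result A A' t hq']
    constructor
    · intro x hx hx0
      obtain ⟨a, _, hau⟩ := htor 0 ⟨0, by simp⟩
      have h1 := hau x ⟨hx, hx0⟩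
      have h2 := hau 0 ⟨⟨0, by simp⟩, map_zero φ⟩
      rw [h1, h2]
    · intro x' hx'
      obtain ⟨a, ha, _⟩ := htor x' hx'
      exact ⟨a, ha.1, ha.2⟩
  obtain ⟨-, hinjP, hgl, -⟩ := hglue
  -- ring maps into A are determined by their composites
  have hext : ∀ {R : CommRingCat.{u}} (ψ₁ ψ₂ : R ⟶ CommRingCat.of A),
      ψ₁ ≫ CommRingCat.ofHom φ = ψ₂ ≫ CommRingCat.ofHom φ →
      ψ₁ ≫ CommRingCat.ofHom (algebraMap A (Localization.Away t)) =
        ψ₂ ≫ CommRingCat.ofHom (algebraMap A (Localization.Away t)) → ψ₁ = ψ₂ := by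
    intro R ψ₁ ψ₂ h1 h2
    ext r
    apply hinjP
    exact Prod.ext congr($(h1).hom r) congr($(h2).hom r)
  -- morphisms from Spec A to an affine scheme are determined by their composites
  have hextS : ∀ {R : CommRingCat.{u}} (σ₁ σ₂ : Spec (CommRingCat.of A) ⟶ Spec R),
      Spec.map (CommRingCat.ofHom φ) ≫ σ₁ = Spec.map (CommRingCat.ofHom φ) ≫ σ₂ →
      Spec.map (CommRingCat.ofHom (algebraMap A (Localization.Away t))) ≫ σ₁ =
        Spec.map (CommRingCat.ofHom (algebraMap A (Localization.Away t))) ≫ σ₂ → σ₁ = σ₂ := by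
    intro R σ₁ σ₂ h1 h2
    obtain ⟨ψ₁, rfl⟩ := Spec.map_surjective σ₁
    obtain ⟨ψ₂, rfl⟩ := Spec.map_surjective σ₂
    rw [← Spec.map_comp, ← Spec.map_comp] at h1 h2
    rw [hext ψ₁ ψ₂ (Spec.map_injective h1) (Spec.map_injective h2)]
  have hmono : Mono X.toSpecΓ := inferInstance
  constructor
  · intro s₁ s₂ _ _ h1 h2
    rw [← cancel_mono X.toSpecΓ]
    apply hextS
    · rw [← Category.assoc, ← Category.assoc, h1]
    · rw [← Category.assoc, ← Category.assoc, h2]
  · intro x' xt hx' hxt hcompat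
    obtain ⟨α', hα'⟩ := Spec.map_surjective (x' ≫ X.toSpecΓ)
    obtain ⟨αt, hαt⟩ := Spec.map_surjective (xt ≫ X.toSpecΓ)
    have hαc : α' ≫ CommRingCat.ofHom (algebraMap A' (Localization.Away (φ t))) =
        αt ≫ CommRingCat.ofHom (Localization.awayMap φ t) := by
      apply Spec.map_injective
      rw [Spec.map_comp, Spec.map_comp, hα', hαt, ← Category.assoc, ← Category.assoc, hcompat]
    have hex : ∀ r : Γ(X, ⊤), ∃ a : A, φ a = α'.hom r ∧
        algebraMap A (Localization.Away t) a = αt.hom r := by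
      intro r
      exact hgl (α'.hom r) (αt.hom r) congr($(hαc).hom r)
    choose a ha1 ha2 using hex
    have huniq : ∀ (r : Γ(X, ⊤)) (b : A), φ b = α'.hom r →
        algebraMap A (Localization.Away t) b = αt.hom r → b = a r := by
      intro r b hb1 hb2
      apply hinjP
      exact Prod.ext (hb1.trans (ha1 r).symm) (hb2.trans (ha2 r).symm)
    let α : Γ(X, ⊤) →+* A :=
      { toFun := a
        map_one' := (huniq 1 1 (by rw [map_one, map_one]) (by rw [map_one, map_one])).symm
        map_mul' := fun r₁ r₂ => (huniq (r₁ * r₂) (a r₁ * a r₂)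
          (by rw [map_mul, map_mul, ha1, ha1]) (by rw [map_mul, map_mul, ha2, ha2])).symm
        map_zero' := (huniq 0 0 (by rw [map_zero, map_zero]) (by rw [map_zero, map_zero])).symm
        map_add' := fun r₁ r₂ => (huniq (r₁ + r₂) (a r₁ + a r₂)
          (by rw [map_add, map_add, ha1, ha1]) (by rw [map_add, map_add, ha2, ha2])).symm }
    let σ : Spec (CommRingCat.of A) ⟶ Spec Γ(X, ⊤) := Spec.map (CommRingCat.ofHom α)
    have hσ1 : Spec.map (CommRingCat.ofHom φ) ≫ σ = x' ≫ X.toSpecΓ := by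
      rw [← hα', ← Spec.map_comp]
      congr 1
      ext r
      exact ha1 r
    have hσ2 : Spec.map (CommRingCat.ofHom (algebraMap A (Localization.Away t))) ≫ σ =
        xt ≫ X.toSpecΓ := by
      rw [← hαt, ← Spec.map_comp]
      congr 1
      ext r
      exact ha2 r
    have hrange : Set.range σ ⊆ Set.range X.toSpecΓ := by
      rintro _ ⟨q, rfl⟩
      by_cases htq : t ∈ q.asIdeal
      · have : q.asIdeal.IsPrime := q.isPrime
        obtain ⟨q', hq'p, hq'c⟩ := exists_comap_eq_of_mem φ (Ideal.span {t})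
          (bij_congr φ (pow_one _) (hq 1)) q.asIdeal
          ((Ideal.span_singleton_le_iff_mem _).mpr htq)
        let Q' : ↥(Spec (CommRingCat.of A')) := (⟨q', hq'p⟩ : PrimeSpectrum A')
        have hQ' : (Spec.map (CommRingCat.ofHom φ)) Q' = q := by
          apply PrimeSpectrum.ext
          exact hq'c
        rw [← hQ']
        change (Spec.map (CommRingCat.ofHom φ) ≫ σ) Q' ∈ _
        rw [hσ1]
        exact ⟨x' Q', rfl⟩
      · have hmem : q ∈ Set.range (PrimeSpectrum.comap (algebraMap A (Localization.Away t))) := by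
          rw [PrimeSpectrum.localization_away_comap_range (Localization.Away t) t]
          exact htq
        obtain ⟨Q', hQ'⟩ := hmem
        have hQ'' : (Spec.map (CommRingCat.ofHom (algebraMap A (Localization.Away t))))
            (Q' : ↥(Spec (CommRingCat.of (Localization.Away t)))) = q := hQ'
        rw [← hQ'']
        change (Spec.map (CommRingCat.ofHom (algebraMap A (Localization.Away t))) ≫ σ) _ ∈ _
        rw [hσ2]
        exact ⟨xt Q', rfl⟩
    let s : Spec (CommRingCat.of A) ⟶ X := IsOpenImmersion.lift X.toSpecΓ σ hrange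
    have hs : s ≫ X.toSpecΓ = σ := IsOpenImmersion.lift_fac _ _ _
    have hs1 : Spec.map (CommRingCat.ofHom φ) ≫ s = x' := by
      rw [← cancel_mono X.toSpecΓ, Category.assoc, hs, hσ1]
    have hs2 : Spec.map (CommRingCat.ofHom (algebraMap A (Localization.Away t))) ≫ s = xt := by
      rw [← cancel_mono X.toSpecΓ, Category.assoc, hs, hσ2]
    refine ⟨s, ?_, hs1, hs2⟩
    apply hextS
    · rw [← Category.assoc, hs1, hx', Category.comp_id]
    · rw [← Category.assoc, hs2, hxt, Category.comp_id]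

end scheme

end Groth.Agent.Lib.Helper14.BLQAff
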