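import Groth.Agent.Lib.Helper14.EtStalk1
import Mathlib.Algebra.Category.Grp.AB
import Mathlib.Algebra.Category.Grp.FilteredColimits

universe w' w v v' u u'
open CategoryTheory CategoryTheory.Limits AlgebraicGeometry Opposite

namespace Groth.Agent.Lib.Helper14.AS
open AlgSp Groth.Agent.Lib.Helper14.AS

section Generic

variable {C : Type u} [Category.{v} C] {J : GrothendieckTopology C} (Φ : GrothendieckTopology.Point.{w} J)
  {A : Type u'} [Category.{v'} A] [HasColimitsOfSize.{w, w} A]
  {FC : A → A → Type*} {CC : A → Type w'}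
  [∀ (X Y : A), FunLike (FC X Y) (CC X) (CC Y)]
  [ConcreteCategory.{w'} A FC]
  [PreservesFilteredColimitsOfSize.{w, w} (forget A)] [LocallySmall.{w} C]

/-- Equality of germs taken at two different neighbourhoods. -/
theorem toPresheafFiber_eq_iff₂ {P : Cᵒᵖ ⥤ A} (X Y : C) (x : Φ.fiber.obj X) (y : Φ.fiber.obj Y)
    (z₁ : ToType (P.obj (op X))) (z₂ : ToType (P.obj (op Y))) :
    Φ.toPresheafFiber X x P z₁ = Φ.toPresheafFiber Y y P z₂ ↔
      ∃ (W : C) (f : W ⟶ X) (g : W ⟶ Y) (w : Φ.fiber.obj W), Φ.fiber.map f w = x ∧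
        Φ.fiber.map g w = y ∧ P.map f.op z₁ = P.map g.op z₂ := by
  constructor
  · intro h
    obtain ⟨⟨W₀, w₀⟩, ⟨α, hα⟩, ⟨β, hβ⟩, -⟩ :=
      IsCofilteredOrEmpty.cone_objs (C := Φ.fiber.Elements) ⟨X, x⟩ ⟨Y, y⟩
    dsimp at α β hα hβ
    rw [← hα, ← hβ, ← Φ.toPresheafFiber_w_apply α w₀ P z₁, ← Φ.toPresheafFiber_w_apply β w₀ P z₂,
      Φ.toPresheafFiber_eq_iff'] at h
    obtain ⟨W, γ, w, hw, h⟩ := h
    refine ⟨W, γ ≫ α, γ ≫ β, w, by simp [hw, hα], by simp [hw, hβ], ?_⟩
    simpa using h
  · rintro ⟨W, f, g, w, rfl, rfl, h⟩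
    rw [← Φ.toPresheafFiber_w_apply f w P z₁, ← Φ.toPresheafFiber_w_apply g w P z₂, h]

end Generic


section Et

variable {S : Scheme.{u}} {X : Sp S}

/-- The field-valued point defined by a morphism from the spectrum of a field. -/
noncomputable def fieldPtOfHom {F : Sp S} {K : Type u} [Field K]
    {str : Spec (CommRingCat.of K) ⟶ S} (a : (yon S).obj (Over.mk str) ⟶ F) : FieldPt F :=
  ⟨K, str, yEquiv a⟩

theorem fieldPtOfHom_toHom {F : Sp S} {K : Type u} [Field K]
    {str : Spec (CommRingCat.of K) ⟶ S} (a : (yon S).obj (Over.mk str) ⟶ F) :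
    (fieldPtOfHom a).toHom = a :=
  Equiv.symm_apply_apply _ _

theorem mk_fieldPtOfHom {F : Sp S} {K : Type u} [Field K]
    {str : Spec (CommRingCat.of K) ⟶ S} (a : (yon S).obj (Over.mk str) ⟶ F) :
    Points.mk (fieldPtOfHom a) = fpt a := rfl

/-- Lifts of the point defined by a morphism `a` are factorizations of `a`. -/
noncomputable def liftMk {K : Type u} [Field K] {str : Spec (CommRingCat.of K) ⟶ S}
    (a : (yon S).obj (Over.mk str) ⟶ X) (E : EtOver X) (v : Over.mk str ⟶ E.obj.left)
    (hv : (yon S).map v ≫ E.obj.hom = a) : (FieldPt.liftsTo (fieldPtOfHom a)).obj E :=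
  ⟨v, hv.trans (fieldPtOfHom_toHom a).symm⟩

/-- Through every point of an object of the small etale site passes a lift of some geometric
point of `X`. -/
theorem exists_geom_nbhd (E : EtOver X) (x : ↥E.obj.left.left) :
    ∃ (p : FieldPt X) (_ : p.IsGeometric) (l : (FieldPt.liftsTo p).obj E),
      l.1.left (IsLocalRing.closedPoint p.K) = x := by
  let k := AlgebraicClosure (E.obj.left.left.residueField x)
  let m : Spec (CommRingCat.of k) ⟶ E.obj.left.left :=
    Spec.map (CommRingCat.ofHom (algebraMap (E.obj.left.left.residueField x) k)) ≫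
      E.obj.left.left.fromSpecResidueField x
  have hm : ∀ s, m s = x := fun s => by
    rw [Scheme.Hom.comp_apply]
    exact Scheme.fromSpecResidueField_apply _ _
  let v : Over.mk (m ≫ E.obj.left.hom) ⟶ E.obj.left := Over.homMk m rfl
  have hp : (fieldPtOfHom ((yon S).map v ≫ E.obj.hom)).IsGeometric :=
    (inferInstance : IsAlgClosed k)
  exact ⟨_, hp, liftMk _ E v rfl, hm _⟩

set_option backward.isDefEq.respectTransparency false in
/-- A sieve of the small etale site is covering as soon as every lift of every geometric point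
lifts further along a member of the sieve. -/
theorem mem_etTop_of_forall_geom {E : EtOver X} (R : Sieve E)
    (h : ∀ (p : FieldPt X), p.IsGeometric → ∀ l : (FieldPt.liftsTo p).obj E,
      ∃ (Y : EtOver X) (f : Y ⟶ E) (_ : R f) (y : (FieldPt.liftsTo p).obj Y),
        (FieldPt.liftsTo p).map f y = l) : R ∈ etTop X E := by
  have key : ∀ x : ↥E.obj.left.left, ∃ (Y : EtOver X) (f : Y ⟶ E), R f ∧
      x ∈ Set.range f.hom.left.left := by
    intro x
    obtain ⟨p, hp, l, hl⟩ := exists_geom_nbhd E x
    obtain ⟨Y, f, hf, y, hy⟩ := h p hp l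
    refine ⟨Y, f, hf, y.1.left (IsLocalRing.closedPoint p.K), ?_⟩
    rw [← hl, ← hy]
    rfl
  choose Y f hf hx using key
  refine (etTop X).superset_covering ?_ (ofArrows_mem_etTop Y f (fun x => ⟨x, hx x⟩))
  rw [Sieve.ofArrows, Sieve.generate_le_iff]
  rintro _ _ ⟨x⟩
  exact hf x


section Reflect

variable (hX : IsAlgSpace X) {A : Type u'} [Category.{v'} A] [HasColimitsOfSize.{u, u} A]
  {FC : A → A → Type*} {CC : A → Type w'}
  [∀ (X Y : A), FunLike (FC X Y) (CC X) (CC Y)]
  [ConcreteCategory.{w'} A FC]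
  [PreservesFilteredColimitsOfSize.{u, u} (forget A)]

include hX in
/-- Two sections of a separated presheaf on the small etale site with the same germs at all
geometric points are equal. -/
theorem eq_of_germ_eq (P : (EtOver X)ᵒᵖ ⥤ A)
    (hP : Presieve.IsSeparated (etTop X) (P ⋙ forget A)) (E : EtOver X)
    (s t : ToType (P.obj (op E)))
    (h : ∀ (p : FieldPt X) (hp : p.IsGeometric) (l : (FieldPt.liftsTo p).obj E),
      (etPoint hX p hp).toPresheafFiber E l P s = (etPoint hX p hp).toPresheafFiber E l P t) :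
    s = t := by
  have hR : Presheaf.equalizerSieve s t ∈ etTop X E := by
    refine mem_etTop_of_forall_geom _ (fun p hp l => ?_)
    obtain ⟨Y, f, y, hy, hf⟩ := ((etPoint hX p hp).toPresheafFiber_eq_iff' E l s t).1 (h p hp l)
    exact ⟨Y, f, hf, y, hy⟩
  exact (hP _ hR).ext (fun Y f hf => hf)


include hX in
theorem eq_of_germ_eq_sheaf [(etTop X).HasSheafCompose (forget A)] (F : EtSh X A) (E : EtOver X)
    (s t : ToType (F.obj.obj (op E)))
    (h : ∀ (p : FieldPt X) (hp : p.IsGeometric) (l : (FieldPt.liftsTo p).obj E),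
      (etPoint hX p hp).toPresheafFiber E l F.obj s =
        (etPoint hX p hp).toPresheafFiber E l F.obj t) :
    s = t := by
  refine eq_of_germ_eq hX F.obj ?_ E s t h
  apply Presieve.IsSheaf.isSeparated
  rw [← isSheaf_iff_isSheaf_of_type]
  exact ((sheafCompose (etTop X) (forget A)).obj F).2

include hX in
/-- A morphism of sheaves of sets on the small etale site that is injective on all geometric
stalks is a monomorphism. -/
theorem mono_of_stalk_injective {F G : EtSh X (Type (u + 1))} (a : F ⟶ G)
    (h : ∀ (p : FieldPt X) (hp : p.IsGeometric),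
      Function.Injective ((etPoint hX p hp).presheafFiber.map a.hom)) : Mono a := by
  refine Sheaf.mono_of_injective a (fun E s t hst => ?_)
  obtain ⟨E⟩ := E
  refine eq_of_germ_eq_sheaf hX F E s t (fun p hp l => h p hp ?_)
  exact ((etPoint hX p hp).toPresheafFiber_naturality_apply a.hom E l s).trans
    ((congrArg _ hst).trans ((etPoint hX p hp).toPresheafFiber_naturality_apply a.hom E l t).symm)

include hX in
/-- A morphism of sheaves of sets on the small etale site that is surjective on all geometric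
stalks is an epimorphism. -/
theorem epi_of_stalk_surjective {F G : EtSh X (Type (u + 1))} (a : F ⟶ G)
    (h : ∀ (p : FieldPt X) (hp : p.IsGeometric),
      Function.Surjective ((etPoint hX p hp).presheafFiber.map a.hom)) : Epi a := by
  have : Sheaf.IsLocallySurjective a := by
    refine ⟨fun {E} s => mem_etTop_of_forall_geom _ (fun p hp l => ?_)⟩
    obtain ⟨q, hq⟩ := h p hp ((etPoint hX p hp).toPresheafFiber E l G.obj s)
    obtain ⟨Y, y, z, rfl⟩ := (etPoint hX p hp).toPresheafFiber_jointly_surjective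
      (A := Type (u + 1)) (P := F.obj) q
    have hq' := ((etPoint hX p hp).toPresheafFiber_naturality_apply a.hom Y y z).symm.trans hq
    obtain ⟨W, f, g, w, hf, hg, hfg⟩ :=
      (toPresheafFiber_eq_iff₂ (etPoint hX p hp) Y E y l _ s).1 hq'
    refine ⟨W, g, ⟨F.obj.map f.op z, ?_⟩, w, hg⟩
    rw [← hfg]
    exact ConcreteCategory.congr_hom (a.hom.naturality f.op) z
  infer_instance


theorem stalk_injective_of_mono {F G : EtSh X (Type (u + 1))} (a : F ⟶ G) [Mono a]
    (p : FieldPt X) (hp : p.IsGeometric) :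
    Function.Injective ((etPoint hX p hp).presheafFiber.map a.hom) := by
  have : Sheaf.IsLocallyInjective a := by
    rw [Sheaf.isLocallyInjective_iff_injective]
    intro E
    have h1 : Mono a.hom := (sheafToPresheaf _ _).map_mono a
    have h2 := (NatTrans.mono_iff_mono_app a.hom).1 h1 E
    exact (mono_iff_injective _).1 h2
  exact (etPoint hX p hp).toPresheafFiber_map_injective a.hom

theorem stalk_surjective_of_epi {F G : EtSh X (Type (u + 1))} (a : F ⟶ G) [Epi a]
    (p : FieldPt X) (hp : p.IsGeometric) :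
    Function.Surjective ((etPoint hX p hp).presheafFiber.map a.hom) := by
  have : Sheaf.IsLocallySurjective a := (Sheaf.isLocallySurjective_iff_epi a).2 inferInstance
  exact (etPoint hX p hp).toPresheafFiber_map_surjective a.hom

end Reflect

end Et

end Groth.Agent.Lib.Helper14.AS
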