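import Groth.Prelude.Def_AlgSpEt
import Groth.Agent.Lib.Helper14.EtStalk2

universe u
open CategoryTheory CategoryTheory.Limits AlgebraicGeometry Opposite

namespace Groth.Agent.Lib.Helper14.AS
open AlgSp

variable {S : Scheme.{u}} {X Y : Sp S}

/-- A sieve of the small etale site is covering iff its members are jointly surjective. -/
theorem mem_etTop_iff_jointly_surjective {E : EtOver X} (R : Sieve E) :
    R ∈ etTop X E ↔ ∀ x : ↥E.obj.left.left, ∃ (E' : EtOver X) (f : E' ⟶ E), R f ∧
      x ∈ Set.range f.hom.left.left := by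
  constructor
  · intro hR x
    obtain ⟨p, hp, l, hl⟩ := exists_geom_nbhd E x
    obtain ⟨E', f, hf, y, hy⟩ := jointly_surjective_liftsTo p hp R hR l
    refine ⟨E', f, hf, y.1.left (IsLocalRing.closedPoint p.K), ?_⟩
    rw [← hl, ← hy]
    rfl
  · intro key
    choose E' f hf hx using key
    have h1 : Sieve.ofArrows E' f ∈ etTop X E :=
      ofArrows_mem_etTop _ _ fun x => ⟨x, hx x⟩
    refine (etTop X).superset_covering ?_ h1
    rw [Sieve.ofArrows, Sieve.generate_le_iff]
    rintro _ _ ⟨x⟩
    exact hf x

section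
variable (f : X ⟶ Y) (hf : IsEtaleMor f)

theorem postcomp_toScheme : EtOver.postcomp f hf ⋙ EtOver.toScheme Y = EtOver.toScheme X := rfl

set_option backward.isDefEq.respectTransparency false in
instance preservesLimit_cospan_postcomp {E₁ E₂ E₀ : EtOver X} (g₁ : E₁ ⟶ E₀) (g₂ : E₂ ⟶ E₀) :
    PreservesLimit (cospan g₁ g₂) (EtOver.postcomp f hf) :=
  preservesLimit_of_preserves_limit_cone (EtOver.pullbackIsLimit g₁ g₂)
    ((isLimitMapConePullbackConeEquiv _ _).symm
      (PullbackCone.IsLimit.mk _
        (fun s => EtOver.homMk (pullback.lift s.fst.hom.left s.snd.hom.left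
          (congrArg (fun k => k.hom.left) s.condition)) (by
          have h1 : (yon S).map (pullback.lift s.fst.hom.left s.snd.hom.left
              (congrArg (fun k => k.hom.left) s.condition)) ≫
              (yon S).map (pullback.fst g₁.hom.left g₂.hom.left) = (yon S).map s.fst.hom.left := by
            rw [← CategoryTheory.Functor.map_comp, pullback.lift_fst]
          have h2 : (yon S).map s.fst.hom.left ≫ E₁.obj.hom ≫ f = s.pt.obj.hom := EtOver.w s.fst
          change (yon S).map _ ≫ ((yon S).map _ ≫ E₁.obj.hom) ≫ f = s.pt.obj.hom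
          rw [← h2, ← h1]
          simp only [Category.assoc]))
        (fun s => EtOver.hom_ext _ _ (pullback.lift_fst _ _ _))
        (fun s => EtOver.hom_ext _ _ (pullback.lift_snd _ _ _))
        (fun s m h₁ h₂ => EtOver.hom_ext _ _ (pullback.hom_ext
          ((congrArg (fun k => k.hom.left) h₁).trans (pullback.lift_fst _ _ _).symm)
          ((congrArg (fun k => k.hom.left) h₂).trans (pullback.lift_snd _ _ _).symm)))))

instance preservesPullbacks_postcomp :
    PreservesLimitsOfShape WalkingCospan (EtOver.postcomp f hf) where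
  preservesLimit {K} := preservesLimit_of_iso_diagram _ (diagramIsoCospan K).symm

theorem postcomp_isContinuous :
    (EtOver.postcomp f hf).IsContinuous (etTop X) (etTop Y) := by
  unfold etTop
  refine Functor.isContinuous_toGrothendieck_of_pullbacksPreservedBy (EtOver.postcomp f hf)
    (etPre X) (etPre Y) (le_of_eq ?_)
  unfold etPre
  rw [← Precoverage.comap_comp]
  rfl

set_option backward.isDefEq.respectTransparency false in
theorem postcomp_isCocontinuous :
    (EtOver.postcomp f hf).IsCocontinuous (etTop X) (etTop Y) := by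
  refine ⟨fun {E} R hR => ?_⟩
  rw [mem_etTop_iff_jointly_surjective] at hR ⊢
  intro x
  obtain ⟨Y', g, hg, hx⟩ := hR x
  have hge : Etale g.hom.left.left := EtOver.etale_left g
  let E' : EtOver X := EtOver.mk ((yon S).map g.hom.left ≫ E.obj.hom)
    ((repWith_isMultiplicative (S := S) @Etale).comp_mem _ _
      ((repWith_yon_map_iff _ _).2 hge) E.property)
  let φ : E' ⟶ E := EtOver.homMk g.hom.left rfl
  let ψ : (EtOver.postcomp f hf).obj E' ⟶ Y' := EtOver.homMk (𝟙 _) (by
    change (yon S).map (𝟙 _) ≫ Y'.obj.hom = ((yon S).map g.hom.left ≫ E.obj.hom) ≫ f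
    rw [CategoryTheory.Functor.map_id, Category.id_comp, Category.assoc]
    exact (EtOver.w g).symm)
  have hψ : ψ ≫ g = (EtOver.postcomp f hf).map φ := EtOver.hom_ext _ _ (by
    change 𝟙 _ ≫ g.hom.left = g.hom.left
    rw [Category.id_comp])
  refine ⟨E', φ, ?_, hx⟩
  change R ((EtOver.postcomp f hf).map φ)
  rw [← hψ]
  exact R.downward_closed hg ψ

end

end Groth.Agent.Lib.Helper14.AS
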