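import Groth.Prelude.Def_AlgSpCov
import Groth.Prelude.Def_AlgSpEt
import Groth.Agent.Lib.Helper14.EtPostcomp
import Groth.Agent.Lib.Helper14.AlgSpPoints

universe u
open CategoryTheory CategoryTheory.Limits AlgebraicGeometry Opposite

namespace Groth.Agent.Lib.Helper14.AS
open AlgSp

variable {S : Scheme.{u}}

/-- A morphism `h_T ⟶ Z` as a morphism of algebraic spaces. -/
noncomputable abbrev spHom {T : Over S} {Z : Space S} (t : (yon S).obj T ⟶ Z.obj) : (ofScheme S).obj T ⟶ Z :=
  ObjectProperty.homMk t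

set_option backward.isDefEq.respectTransparency false in
/-- Covering sieves of the big etale site of spaces can be refined, etale locally on schemes. -/
theorem exists_etale_refinement {Z : Space S} {R : Sieve Z}
    (hR : (spacesPre S IsEtaleMor).Saturate Z R) :
    ∀ (T : Over S) (t : (ofScheme S).obj T ⟶ Z) (p : ↥T.left),
      ∃ (T' : Over S) (g : T' ⟶ T), Etale g.left ∧ p ∈ Set.range g.left ∧
        R ((ofScheme S).map g ≫ t) := by
  induction hR with
  | of Z R₀ hR₀ =>
    intro T t p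
    obtain ⟨hP, hsurj⟩ := hR₀
    obtain ⟨Y', g, hg, y, hy⟩ := hsurj (Points.ofPt t.hom p)
    obtain ⟨V, b, hbe, hbs⟩ := Y'.property.atlas
    obtain ⟨v, rfl⟩ := ofPt_surjective_of_repWith hbs y
    have hbg : RepWith @Etale (b ≫ g.hom) := hP g hg b hbe
    obtain ⟨T', snd, fst, sq⟩ := hbg.1 t.hom
    obtain ⟨fst', rfl⟩ := (yon S).map_surjective fst
    have hsnd : Etale snd.left := hbg.2 t.hom _ snd sq
    have e : Points.ofPt (b ≫ g.hom) v = Points.ofPt t.hom p := by
      rw [← Points.map_ofPt]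
      exact hy
    obtain ⟨w, hw1, hw2⟩ := exists_point_of_isPullback_yon sq v p e
    refine ⟨T', snd, hsnd, ⟨w, hw2⟩, ?_⟩
    refine ⟨Y', (ofScheme S).map fst' ≫ spHom b, g, hg, ?_⟩
    apply ObjectProperty.hom_ext
    change ((yon S).map fst' ≫ b) ≫ g.hom = (yon S).map snd ≫ t.hom
    rw [Category.assoc]
    exact sq.w
  | top Z =>
    intro T t p
    exact ⟨T, 𝟙 T, by change Etale (𝟙 T.left); infer_instance, ⟨p, rfl⟩, trivial⟩
  | pullback Z R' _ Y' f ih =>
    intro T t p
    obtain ⟨T', g, hg, hp, hR'⟩ := ih T (t ≫ f) p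
    refine ⟨T', g, hg, hp, ?_⟩
    change R' (((ofScheme S).map g ≫ t) ≫ f)
    rw [Category.assoc]
    exact hR'
  | transitive Z R' R'' _ _ ih1 ih2 =>
    intro T t p
    obtain ⟨T', g, hg, ⟨p', hp'⟩, hR'⟩ := ih1 T t p
    obtain ⟨T'', g', hg', ⟨p'', hp''⟩, hR''⟩ := ih2 hR' T' (𝟙 _) p'
    refine ⟨T'', g' ≫ g, ?_, ⟨p'', ?_⟩, ?_⟩
    · change Etale (g'.left ≫ g.left)
      infer_instance
    · change (g'.left ≫ g.left) p'' = p
      rw [Scheme.Hom.comp_apply, hp'', hp']
    · change R'' (((ofScheme S).map g' ≫ 𝟙 _) ≫ (ofScheme S).map g ≫ t) at hR''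
      rw [Category.comp_id, ← Category.assoc, ← Functor.map_comp] at hR''
      exact hR''

/-- The comparison functor from the small etale site of `Y` to spaces over `Y`. -/
noncomputable abbrev toOverSp (Y : Space S) : EtOver Y.obj ⥤ Over Y :=
  EtOver.toEtSpOver Y ⋙ ObjectProperty.ι (fun E : Over Y => IsEtaleMor E.hom.hom)

theorem sieve_over_iff {C : Type*} [Category C] {X : C} {A B : Over X} (R : Sieve A) (h : B ⟶ A) :
    R h ↔ Sieve.overEquiv A R h.left := by
  obtain ⟨R, rfl⟩ := (Sieve.overEquiv A).symm.surjective R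
  rw [OrderIso.apply_symm_apply]
  exact Sieve.overEquiv_symm_iff R h

set_option backward.isDefEq.respectTransparency false in
theorem toOverSp_isCocontinuous (Y : Space S) :
    (toOverSp Y).IsCocontinuous (etTop Y.obj) (spacesTopOver IsEtaleMor Y) := by
  refine ⟨fun {E} R hR => ?_⟩
  rw [GrothendieckTopology.mem_over_iff] at hR
  have hsat : (spacesPre S IsEtaleMor).Saturate _ (Sieve.overEquiv _ R) := hR
  rw [mem_etTop_iff_jointly_surjective]
  intro x
  obtain ⟨T', g, hg, hx, hRg⟩ := exists_etale_refinement hsat E.obj.left (𝟙 _) x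
  let E' : EtOver Y.obj := EtOver.mk ((yon S).map g ≫ E.obj.hom)
    ((repWith_isMultiplicative (S := S) @Etale).comp_mem _ _
      ((repWith_yon_map_iff _ _).2 hg) E.property)
  let φ : E' ⟶ E := EtOver.homMk g rfl
  refine ⟨E', φ, ?_, hx⟩
  change R ((toOverSp Y).map φ)
  rw [sieve_over_iff]
  rw [Category.comp_id] at hRg
  exact hRg

theorem toSpacesOver_isCocontinuous {X Y : Space S} (f : Y ⟶ X) :
    (EtOver.toEtSpOver Y ⋙ ObjectProperty.ι (fun E : Over Y => IsEtaleMor E.hom.hom) ⋙
        Over.map f).IsCocontinuous (etTop Y.obj) (spacesTopOver IsEtaleMor X) := by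
  have := toOverSp_isCocontinuous Y
  exact CategoryTheory.isCocontinuous_comp (toOverSp Y) (Over.map f) (etTop Y.obj)
    (spacesTopOver IsEtaleMor Y)

set_option backward.isDefEq.respectTransparency false in
theorem generate_map_toOverSp_mem (Y : Space S) {E : EtOver Y.obj} {R : Presieve E}
    (hR : R ∈ etPre Y.obj E) :
    Sieve.generate (R.map (toOverSp Y)) ∈ spacesTopOver IsEtaleMor Y ((toOverSp Y).obj E) := by
  obtain ⟨ι, Z, g, rfl⟩ := R.exists_eq_ofArrows
  rw [ofArrows_mem_etPre_iff] at hR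
  rw [Presieve.map_ofArrows, GrothendieckTopology.mem_over_iff, ← Sieve.ofArrows,
    Sieve.overEquiv_ofArrows]
  refine Precoverage.Saturate.of _ _ ⟨?_, ?_⟩
  · rintro Y' h ⟨i⟩
    change IsEtaleMor ((yon S).map (g i).hom.left)
    rw [isEtaleMor_yon_map_iff]
    exact EtOver.etale_left (g i)
  · intro x
    obtain ⟨u, rfl⟩ := (Points.schemeHomeo E.obj.left).surjective x
    obtain ⟨i, v, hv⟩ := hR u
    refine ⟨_, _, ⟨i⟩, Points.schemeHomeo _ v, ?_⟩
    change Points.map ((yon S).map (g i).hom.left) (Points.ofPt (𝟙 _) v) = Points.ofPt (𝟙 _) u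
    rw [Points.map_ofPt, Category.id_comp, ← Category.comp_id ((yon S).map (g i).hom.left),
      ofPt_yon_map_comp]
    exact congrArg _ hv

set_option backward.isDefEq.respectTransparency false in
theorem isPullback_toOverSp (Y : Space S) {E₁ E₂ E₀ : EtOver Y.obj} (g₁ : E₁ ⟶ E₀)
    (g₂ : E₂ ⟶ E₀) :
    IsPullback ((toOverSp Y).map (EtOver.pullbackFst g₁ g₂))
      ((toOverSp Y).map (EtOver.pullbackSnd g₁ g₂)) ((toOverSp Y).map g₁)
      ((toOverSp Y).map g₂) := by
  have σ : IsPullback ((yon S).map (EtOver.pullbackFst g₁ g₂).hom.left)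
      ((yon S).map (EtOver.pullbackSnd g₁ g₂).hom.left)
      ((yon S).map g₁.hom.left) ((yon S).map g₂.hom.left) :=
    ((EtOver.isPullback g₁ g₂).map (EtOver.forget Y.obj)).map (yon S)
  have comm : (toOverSp Y).map (EtOver.pullbackFst g₁ g₂) ≫ (toOverSp Y).map g₁ =
      (toOverSp Y).map (EtOver.pullbackSnd g₁ g₂) ≫ (toOverSp Y).map g₂ := by
    rw [← Functor.map_comp, ← Functor.map_comp, EtOver.pullback_condition]
  exact IsPullback.of_map (Over.forget Y ⋙ ObjectProperty.ι _) comm σ

instance preservesLimit_cospan_toOverSp (Y : Space S) {E₁ E₂ E₀ : EtOver Y.obj} (g₁ : E₁ ⟶ E₀)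
    (g₂ : E₂ ⟶ E₀) : PreservesLimit (cospan g₁ g₂) (toOverSp Y) :=
  preservesLimit_of_preserves_limit_cone (EtOver.pullbackIsLimit g₁ g₂)
    ((isLimitMapConePullbackConeEquiv _ _).symm (isPullback_toOverSp Y g₁ g₂).isLimit)

instance preservesPullbacks_toOverSp (Y : Space S) :
    PreservesLimitsOfShape WalkingCospan (toOverSp Y) where
  preservesLimit {K} := preservesLimit_of_iso_diagram _ (diagramIsoCospan K).symm

theorem toOverSp_isContinuous (Y : Space S) :
    (toOverSp Y).IsContinuous (etTop Y.obj) (spacesTopOver IsEtaleMor Y) where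
  op_comp_isSheaf_of_types := fun ⟨G, H⟩ ↦ by
    rw [isSheaf_iff_isSheaf_of_type] at H
    unfold etTop
    rw [← Precoverage.toGrothendieck_toCoverage, Presieve.isSheaf_coverage]
    intro X R hR
    have : R.HasPairwisePullbacks := (etPre Y.obj).hasPairwisePullbacks_of_mem hR
    rw [Presieve.IsSheafFor.comp_iff_of_preservesPairwisePullbacks,
      Presieve.isSheafFor_iff_generate]
    exact H _ (generate_map_toOverSp_mem Y hR)

theorem toSpacesOver_isContinuous {X Y : Space S} (f : Y ⟶ X) :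
    (EtOver.toEtSpOver Y ⋙ ObjectProperty.ι (fun E : Over Y => IsEtaleMor E.hom.hom) ⋙
        Over.map f).IsContinuous (etTop Y.obj) (spacesTopOver IsEtaleMor X) := by
  have := toOverSp_isContinuous Y
  exact Functor.isContinuous_comp (toOverSp Y) (Over.map f) (etTop Y.obj)
    (spacesTopOver IsEtaleMor Y) (spacesTopOver IsEtaleMor X)

end Groth.Agent.Lib.Helper14.AS
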