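import Groth.Agent.S10397
import Groth.Agent.Lib.Helper24.DecentDim
import Groth.Agent.Lib.Helper21.BiratTop
import Groth.Agent.Lib.Helper14.HasAtMorChart
import Groth.Prelude.Def_W4stk3decentspacesp2Birat

/-!
# Birational morphisms of algebraic spaces, I (helper14)
-/

universe u
open CategoryTheory CategoryTheory.Limits AlgebraicGeometry Opposite Topology

namespace Groth.Agent.Lib.Helper14.AS
open AlgSp

variable {S : Scheme.{u}} {X Y : Sp S}

/-- A property of pointed morphisms of schemes invariant under squares with sides in `P`. -/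
def SqInvP (P : MorphismProperty Scheme.{u})
    (Q : ∀ (U V : Scheme.{u}), (U ⟶ V) → ↥U → Prop) : Prop :=
  ∀ ⦃U U' V V' : Scheme.{u}⦄ (h : U ⟶ V) (h' : U' ⟶ V') (a : U' ⟶ U) (b : V' ⟶ V),
    P a → P b → h' ≫ b = a ≫ h → ∀ u' : ↥U', Q U V h (a u') ↔ Q U' V' h' u'

set_option backward.isDefEq.respectTransparency.types false in
theorem Q_chart_indep_P {P : MorphismProperty Scheme.{u}} [P.IsStableUnderBaseChange]
    {Q : ∀ (U V : Scheme.{u}), (U ⟶ V) → ↥U → Prop} (hQ : SqInvP P Q)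
    (f : X ⟶ Y) {U V U₁ V₁ : Over S}
    (a : (yon S).obj U ⟶ X) (b : (yon S).obj V ⟶ Y) (h : U ⟶ V)
    (ha : RepWith P a) (hb : RepWith P b) (comm : a ≫ f = (yon S).map h ≫ b)
    (a₁ : (yon S).obj U₁ ⟶ X) (b₁ : (yon S).obj V₁ ⟶ Y) (h₁ : U₁ ⟶ V₁)
    (ha₁ : RepWith P a₁) (hb₁ : RepWith P b₁)
    (comm₁ : a₁ ≫ f = (yon S).map h₁ ≫ b₁) (u : ↥U.left) (u₁ : ↥U₁.left)
    (hu : Points.ofPt a u = Points.ofPt a₁ u₁) :
    Q U.left V.left h.left u ↔ Q U₁.left V₁.left h₁.left u₁ := by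
  have sqU := ha.rep.isPullback' a₁
  have sqV := hb.rep.isPullback' b₁
  have eU1 : P (ha.rep.snd a₁).left := ha.property_snd a₁
  have eU0 : P (ha.rep.fst' a₁).left := by
    have : RepWith P ((yon S).map (ha.rep.fst' a₁)) := repWith_of_isPullback _ sqU.flip ha₁
    exact (repWith_yon_map_iff _ _).1 this
  have eV1 : P (hb.rep.snd b₁).left := hb.property_snd b₁
  have eV0 : P (hb.rep.fst' b₁).left := by
    have : RepWith P ((yon S).map (hb.rep.fst' b₁)) := repWith_of_isPullback _ sqV.flip hb₁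
    exact (repWith_yon_map_iff _ _).1 this
  have compat : (yon S).map (ha.rep.fst' a₁ ≫ h) ≫ b = (yon S).map (ha.rep.snd a₁ ≫ h₁) ≫ b₁ := by
    rw [Functor.map_comp, Functor.map_comp, Category.assoc, Category.assoc, ← comm, ← comm₁,
      ← Category.assoc, ← Category.assoc, sqU.w]
  obtain ⟨h₃, hh₃⟩ := (yon S).map_surjective (sqV.lift _ _ compat)
  have c0 : h₃ ≫ hb.rep.fst' b₁ = ha.rep.fst' a₁ ≫ h :=
    (yon S).map_injective (by rw [Functor.map_comp, hh₃, sqV.lift_fst])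
  have c1 : h₃ ≫ hb.rep.snd b₁ = ha.rep.snd a₁ ≫ h₁ :=
    (yon S).map_injective (by rw [Functor.map_comp, hh₃, sqV.lift_snd])
  obtain ⟨w, hw0, hw1⟩ := exists_point_of_isPullback_yon sqU u u₁ hu
  have k0 := hQ h.left h₃.left (ha.rep.fst' a₁).left (hb.rep.fst' b₁).left eU0 eV0
    (by rw [← Over.comp_left, ← Over.comp_left, c0]) w
  have k1 := hQ h₁.left h₃.left (ha.rep.snd a₁).left (hb.rep.snd b₁).left eU1 eV1
    (by rw [← Over.comp_left, ← Over.comp_left, c1]) w
  rw [hw0] at k0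
  rw [hw1] at k1
  exact k0.trans k1.symm

theorem isIso_stalkMap_comp_openImm_right {U' V' V : Scheme.{u}} (h' : U' ⟶ V') (b : V' ⟶ V)
    [IsOpenImmersion b] (k : U' ⟶ V) (hk : k = h' ≫ b) (u' : U') :
    IsIso (k.stalkMap u') ↔ IsIso (h'.stalkMap u') := by
  subst hk
  rw [Scheme.Hom.stalkMap_comp]
  have : IsIso (b.stalkMap (h' u')) := inferInstance
  exact @isIso_comp_left_iff _ _ _ _ _ _ _ this

theorem isIso_stalkMap_comp_openImm_left {U' U V : Scheme.{u}} (a : U' ⟶ U) (h : U ⟶ V)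
    [IsOpenImmersion a] (k : U' ⟶ V) (hk : k = a ≫ h) (u' : U') :
    IsIso (k.stalkMap u') ↔ IsIso (h.stalkMap (a u')) := by
  subst hk
  rw [Scheme.Hom.stalkMap_comp]
  have : IsIso (a.stalkMap u') := inferInstance
  exact @isIso_comp_right_iff _ _ _ _ _ _ _ this

theorem sqInvP_isIso_stalkMap :
    SqInvP @IsOpenImmersion (fun _ _ h u => IsIso (h.stalkMap u)) := by
  intro U U' V V' h h' a b ha hb comm u'
  exact (isIso_stalkMap_comp_openImm_left a h _ comm u').symm.trans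
    (isIso_stalkMap_comp_openImm_right h' b _ rfl u')

/-- For a birational morphism, any open-subscheme chart diagram through a generic point induces
an isomorphism of local rings. -/
theorem isIso_stalkMap_of_isBirational {f : X ⟶ Y} (hf : W4stk3decentspacesp2.IsBirational f)
    {U V : Over S} (a : (yon S).obj U ⟶ X) (b : (yon S).obj V ⟶ Y) (g : U ⟶ V)
    (ha : RepWith @IsOpenImmersion a) (hb : RepWith @IsOpenImmersion b)
    (comm : a ≫ f = (yon S).map g ≫ b) (u : ↥U.left)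
    (hu : Points.ofPt a u ∈ genericPoints (Points X)) : IsIso (g.left.stalkMap u) := by
  obtain ⟨U₁, V₁, a₁, b₁, g₁, u₁, ha₁, hb₁, comm₁, hu₁, hiso⟩ := hf.stalkIso _ hu
  exact (Q_chart_indep_P sqInvP_isIso_stalkMap f a b g ha hb comm a₁ b₁ g₁ ha₁ hb₁ comm₁ u u₁
    hu₁.symm).2 hiso

end Groth.Agent.Lib.Helper14.AS
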