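import Groth.Agent.Lib.Helper6.NormIsoE
import Groth.Agent.Lib.Helper21.BiratTop

/-!
# Integral birational morphisms onto normal schemes (helper14)
-/

universe u
open CategoryTheory CategoryTheory.Limits AlgebraicGeometry Opposite Topology TopologicalSpace

namespace Groth.Agent.Lib.Helper14.AS
open Groth.Agent.Lib.Helper21.Birat Groth.Agent.Lib.Helper6.NormIso

theorem irreducibleSpace_of_specializes {T : Type*} [TopologicalSpace T] (O : Set T) (ξ : T)
    (hξ : ξ ∈ O) (h : ∀ x ∈ O, ξ ⤳ x) : IrreducibleSpace O := by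
  have hs : ∀ x : O, (⟨ξ, hξ⟩ : O) ⤳ x := fun x => (subtype_specializes_iff _ _).2 (h x.1 x.2)
  refine @IrreducibleSpace.mk _ _ ⟨?_⟩ ⟨⟨ξ, hξ⟩⟩
  rintro A B hA hB ⟨a, -, ha⟩ ⟨b, -, hb⟩
  exact ⟨⟨ξ, hξ⟩, trivial, (hs a).mem_open hA ha, (hs b).mem_open hB hb⟩

theorem eq_of_gen_specializes_of_isDomain_stalk {V : Scheme.{u}} (v : V)
    [IsDomain (V.presheaf.stalk v)] {η η' : V} (hη : closure {η} ∈ irreducibleComponents V)
    (hη' : closure {η'} ∈ irreducibleComponents V) (h : η ⤳ v) (h' : η' ⤳ v) : η = η' := by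
  have key : ∀ ζ : V, closure {ζ} ∈ irreducibleComponents V → ζ ⤳ v →
      ζ = V.fromSpecStalk v (⊥ : PrimeSpectrum (V.presheaf.stalk v)) := by
    intro ζ hζ hζv
    have : ζ ∈ Set.range (V.fromSpecStalk v) := by
      rw [Scheme.range_fromSpecStalk]; exact hζv
    obtain ⟨p, rfl⟩ := this
    have h1 : (⊥ : PrimeSpectrum (V.presheaf.stalk v)) ⤳ p :=
      (PrimeSpectrum.le_iff_specializes _ _).1 bot_le
    exact (eq_of_specializes_gen hζ (h1.map (V.fromSpecStalk v).continuous)).symm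
  rw [key η hη h, key η' hη' h']

theorem mem_nbhd_of_isDomain_stalk {V : Scheme.{u}} (v : V)
    [IsDomain (V.presheaf.stalk v)] {η : V} (hη : closure {η} ∈ irreducibleComponents V)
    (h : η ⤳ v) : v ∈ nbhd η := by
  simp only [nbhd, Set.mem_compl_iff, Set.mem_iUnion, not_exists]
  rintro η' ⟨hη', hne⟩ hmem
  exact hne (eq_of_gen_specializes_of_isDomain_stalk v hη' hη
    (specializes_iff_mem_closure.mpr hmem) h)

theorem val_genericPoint_opens {U : Scheme.{u}} (M : U.Opens) [IrreducibleSpace (M : Scheme.{u})] {ξ : U}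
    (hξ : closure {ξ} ∈ irreducibleComponents U) (hξM : ξ ∈ M) :
    M.ι (genericPoint (M : Scheme.{u})) = ξ := by
  have h1 : genericPoint (M : Scheme.{u}) ⤳ (⟨ξ, hξM⟩ : (M : Scheme.{u})) :=
    (genericPoint_spec (M : Scheme.{u})).specializes (Set.mem_univ _)
  exact eq_of_specializes_gen hξ (h1.map M.ι.continuous)


/-- An integral birational morphism from a reduced scheme onto a normal scheme with finitely many
irreducible components is an isomorphism. -/
theorem isIso_of_integral_birational_normal {U V : Scheme.{u}} (h : U ⟶ V) [IsIntegralHom h]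
    [IsReduced U] (hV : Pi1.IsNormalScheme V) (hVf : (irreducibleComponents V).Finite)
    (hbij : Set.BijOn h (genericPoints U) (genericPoints V))
    (hiso : ∀ ξ ∈ genericPoints U, IsIso (h.stalkMap ξ)) : IsIso h := by
  have : ∀ x, _root_.IsReduced (V.presheaf.stalk x) := fun x => by
    have := (hV x).1; infer_instance
  have : IsReduced V := isReduced_of_isReduced_stalk V
  let N : genericPoints V → V.Opens := fun η => ⟨nbhd η.1, isOpen_nbhd hVf η.1⟩
  have hcov : ⨆ η, N η = ⊤ := by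
    rw [eq_top_iff]
    intro v _
    obtain ⟨η, hη, hηv⟩ := exists_gen_specializes v
    have := (hV v).1
    exact Opens.mem_iSup.2 ⟨⟨η, hη⟩, mem_nbhd_of_isDomain_stalk v hη hηv⟩
  refine (IsZariskiLocalAtTarget.iff_of_iSup_eq_top
    (P := MorphismProperty.isomorphisms Scheme.{u}) N hcov).2 fun η => ?_
  show IsIso (h ∣_ N η)
  obtain ⟨ξ, hξ, hξη⟩ := hbij.surjOn η.2
  have hηN : η.1 ∈ N η := mem_nbhd_self η.2
  have hξM : ξ ∈ h ⁻¹ᵁ N η := by
    show h ξ ∈ N η
    rw [hξη]; exact hηN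
  have : IrreducibleSpace (N η : Scheme.{u}) :=
    irreducibleSpace_of_specializes (nbhd η.1) η.1 hηN fun x hx => specializes_of_mem_nbhd hx
  have : IrreducibleSpace (h ⁻¹ᵁ N η : Scheme.{u}) := by
    refine irreducibleSpace_of_specializes (h ⁻¹' (nbhd η.1)) ξ hξM fun x hx => ?_
    obtain ⟨ξ', hξ', hξ'x⟩ := exists_gen_specializes x
    have h1 : ξ' ∈ h ⁻¹ᵁ N η := hξ'x.mem_open (h ⁻¹ᵁ N η).isOpen hx
    have h2 : h ξ' = η.1 := eq_of_gen_mem_nbhd (hbij.mapsTo hξ') h1
    have h3 : ξ' = ξ := hbij.injOn hξ' hξ (h2.trans hξη.symm)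
    exact h3 ▸ hξ'x
  have : IsReduced (N η : Scheme.{u}) := isReduced_of_isOpenImmersion (N η).ι
  have : IsReduced (h ⁻¹ᵁ N η : Scheme.{u}) := isReduced_of_isOpenImmersion (h ⁻¹ᵁ N η).ι
  have : IsIntegral (N η : Scheme.{u}) := isIntegral_of_irreducibleSpace_of_isReduced _
  have : IsIntegral (h ⁻¹ᵁ N η : Scheme.{u}) := isIntegral_of_irreducibleSpace_of_isReduced _
  have : IsIntegralHom (h ∣_ N η) :=
    MorphismProperty.of_isPullback (P := @IsIntegralHom) (isPullback_morphismRestrict h (N η)).flip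
      inferInstance
  have e1 : (h ⁻¹ᵁ N η).ι (genericPoint (h ⁻¹ᵁ N η : Scheme.{u})) = ξ :=
    val_genericPoint_opens _ hξ hξM
  have e2 : (N η).ι (genericPoint (N η : Scheme.{u})) = η.1 :=
    val_genericPoint_opens _ η.2 hηN
  have hgen : (h ∣_ N η) (genericPoint (h ⁻¹ᵁ N η : Scheme.{u})) =
      genericPoint (N η : Scheme.{u}) := by
    apply (N η).ι.isOpenEmbedding.injective
    rw [e2, ← Scheme.Hom.comp_apply, morphismRestrict_ι, Scheme.Hom.comp_apply, e1, hξη]
  have hst : IsIso ((h ∣_ N η).stalkMap (genericPoint (h ⁻¹ᵁ N η : Scheme.{u}))) := by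
    have := morphismRestrictStalkMap h (N η) (genericPoint (h ⁻¹ᵁ N η : Scheme.{u}))
    refine ((MorphismProperty.isomorphisms _).arrow_mk_iso_iff this).2 ?_
    show IsIso (h.stalkMap _)
    have e1' : (genericPoint (h ⁻¹ᵁ N η : Scheme.{u})).1 = ξ := e1
    rw [e1']
    exact hiso ξ hξ
  exact isIso_of_birational_of_normal (N η : Scheme.{u}) (isNormalScheme_opens hV (N η))
    (h ∣_ N η) hgen hst

end Groth.Agent.Lib.Helper14.AS
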