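import Groth.Agent.Lib.Helper14.Zmt2

/-!
# Zariski's main theorem, quasi-finite locus: globalization (helper14)
-/

universe u
open CategoryTheory CategoryTheory.Limits AlgebraicGeometry Opposite
open AlgSp

namespace Groth.Agent.Lib.Helper14.AS

variable {S : Scheme.{u}}

/-- A morphism of sheaves along which every `T`-point lifts uniquely is an isomorphism. -/
theorem isIso_of_existsUnique_lift {F G : Sp S} (f : F ⟶ G)
    (h : ∀ ⦃T : Over S⦄ (u : (yon S).obj T ⟶ G), ∃! p : (yon S).obj T ⟶ F, p ≫ f = u) :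
    IsIso f := by
  have key : ∀ T : Over S, Function.Bijective (f.hom.app (op T)) := by
    intro T
    constructor
    · intro y y' hyy'
      obtain ⟨p, -, hp⟩ := h (yEquiv.symm y ≫ f)
      have e1 : yEquiv.symm y = p := hp _ rfl
      have e2 : yEquiv.symm y' = p := hp _ (by
        show yEquiv.symm y' ≫ f = yEquiv.symm y ≫ f
        rw [yEquiv_symm_comp, yEquiv_symm_comp, hyy'])
      exact yEquiv.symm.injective (e1.trans e2.symm)
    · intro x
      obtain ⟨p, hp, -⟩ := h (yEquiv.symm x)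
      refine ⟨yEquiv p, ?_⟩
      rw [← yEquiv_comp, hp, Equiv.apply_symm_apply]
  have h1 : IsIso f.hom := by
    have : ∀ X, IsIso (f.hom.app X) := fun X => by
      rw [isIso_iff_bijective]
      exact key X.unop
    exact NatIso.isIso_of_isIso_app f.hom
  have : IsIso ((sheafToPresheaf (AlgSp.J S) (Type (u + 1))).map f) := h1
  exact isIso_of_reflects_iso f (sheafToPresheaf (AlgSp.J S) (Type (u + 1)))

/-- Quasi-finiteness of a morphism of schemes near a point. -/
abbrev QfNear : ∀ (U V : Scheme.{u}), (U ⟶ V) → ↥U → Prop := fun U _ h u =>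
  ∃ W : U.Opens, u ∈ W ∧ LocallyQuasiFinite (W.ι ≫ h) ∧ LocallyOfFiniteType (W.ι ≫ h)

/-- Local splitting data: an etale map `c : N ⟶ Y'` from a scheme over which `f'` becomes an
isomorphism, the points of the inverse image being quasi-finite points of `f`. -/
structure ZmtDatum {X Y Y' : Sp S} (f : X ⟶ Y) (f' : X ⟶ Y') where
  N : Over S
  c : (yon S).obj N ⟶ Y'
  hc : RepWith @Etale c
  good : ∀ ⦃P : Sp S⦄ (fst : P ⟶ X) (snd : P ⟶ (yon S).obj N), IsPullback fst snd f' c →
    IsIso snd ∧ ∀ p : Points P, HasAtMor QfNear f (Points.map fst p)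

/-- The locus of `Y'` covered by splitting data. -/
def zmtLocus {X Y Y' : Sp S} (f : X ⟶ Y) (f' : X ⟶ Y') : Set (Points Y') :=
  {y' | ∃ D : ZmtDatum f f', y' ∈ Set.range (Points.ofPt D.c)}

theorem isOpen_zmtLocus {X Y Y' : Sp S} (f : X ⟶ Y) (f' : X ⟶ Y') : IsOpen (zmtLocus f f') := by
  have : zmtLocus f f' = ⋃ D : ZmtDatum f f', Set.range (Points.ofPt D.c) := by
    ext y'
    simp only [zmtLocus, Set.mem_setOf_eq, Set.mem_iUnion]
  rw [this]
  exact isOpen_iUnion fun D => (isOpenMap_ofPt D.c D.hc).isOpen_range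

/-- A `T`-point of `Y'` landing in the locus factors, locally on `T`, through splitting data. -/
theorem zmt_cover {X Y Y' : Sp S} (f : X ⟶ Y) (f' : X ⟶ Y') {T : Over S}
    (u' : (yon S).obj T ⟶ Y') (hu' : ∀ τ : ↥T.left, Points.ofPt u' τ ∈ zmtLocus f f') :
    ∃ Sv ∈ J S T, ∀ ⦃W : Over S⦄ (w : W ⟶ T), Sv w →
      ∃ (D : ZmtDatum f f') (n : W ⟶ D.N), (yon S).map n ≫ D.c = (yon S).map w ≫ u' := by
  let Sv : Sieve T :=
    { arrows := fun W w => ∃ (D : ZmtDatum f f') (n : W ⟶ D.N),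
        (yon S).map n ≫ D.c = (yon S).map w ≫ u'
      downward_closed := fun {W W'} w hw k => by
        obtain ⟨D, n, hn⟩ := hw
        exact ⟨D, k ≫ n, by rw [Functor.map_comp, Category.assoc, hn, Functor.map_comp,
          Category.assoc]⟩ }
  refine ⟨Sv, mem_J_of_pointwise Sv fun τ => ?_, fun W w hw => hw⟩
  obtain ⟨D, n₀, hn₀⟩ := hu' τ
  have sq := D.hc.rep.isPullback' u'
  have het : Etale (D.hc.rep.snd u').left := D.hc.property_snd u'
  obtain ⟨v, -, hv⟩ := exists_point_of_isPullback_yon sq n₀ τ hn₀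
  exact ⟨_, D.hc.rep.snd u', inferInstance, inferInstance, ⟨v, hv⟩, D, D.hc.rep.fst' u', sq.w⟩

/-- Over the locus, `T`-points lift uniquely along `f'`. -/
theorem zmt_existsUnique_lift {X Y Y' : Sp S} (f : X ⟶ Y) (f' : X ⟶ Y') {T : Over S}
    (u' : (yon S).obj T ⟶ Y') (hu' : ∀ τ : ↥T.left, Points.ofPt u' τ ∈ zmtLocus f f') :
    ∃! x : (yon S).obj T ⟶ X, x ≫ f' = u' := by
  have huniq : ∀ ⦃T : Over S⦄ (u' : (yon S).obj T ⟶ Y'),
      (∀ τ : ↥T.left, Points.ofPt u' τ ∈ zmtLocus f f') →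
      ∀ x x' : (yon S).obj T ⟶ X, x ≫ f' = u' → x' ≫ f' = u' → x = x' := by
    intro T u' hu' x x' hx hx'
    obtain ⟨Sv, hSv, hl⟩ := zmt_cover f f' u' hu'
    refine yon_hom_ext_of_cover x x' Sv hSv fun W w hw => ?_
    obtain ⟨D, n, hn⟩ := hl w hw
    have sqD := IsPullback.of_hasPullback f' D.c
    have hiso : IsIso (pullback.snd f' D.c) := (D.good _ _ sqD).1
    have e1 : sqD.lift ((yon S).map w ≫ x) ((yon S).map n) (by rw [Category.assoc, hx, hn]) =
        sqD.lift ((yon S).map w ≫ x') ((yon S).map n) (by rw [Category.assoc, hx', hn]) := by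
      rw [← cancel_mono (pullback.snd f' D.c), sqD.lift_snd, sqD.lift_snd]
    have := congrArg (· ≫ pullback.fst f' D.c) e1
    simpa only [sqD.lift_fst] using this
  obtain ⟨Sv, hSv, hl⟩ := zmt_cover f f' u' hu'
  have hpts : ∀ ⦃W : Over S⦄ (w : W ⟶ T) (τ : ↥W.left),
      Points.ofPt ((yon S).map w ≫ u') τ ∈ zmtLocus f f' := by
    intro W w τ
    rw [ofPt_yon_map_comp]
    exact hu' _
  obtain ⟨z, hz⟩ := exists_glue_of_unique (F := X) (T := T)
    (fun W w z => z ≫ f' = (yon S).map w ≫ u')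
    (by
      intro W W' w k z hz
      show ((yon S).map k ≫ z) ≫ f' = (yon S).map (k ≫ w) ≫ u'
      rw [Category.assoc, hz, Functor.map_comp, Category.assoc])
    (fun W w z z' hz hz' => huniq _ (hpts w) z z' hz hz')
    Sv hSv
    (by
      intro W w hw
      obtain ⟨D, n, hn⟩ := hl w hw
      have sqD := IsPullback.of_hasPullback f' D.c
      have hiso : IsIso (pullback.snd f' D.c) := (D.good _ _ sqD).1
      refine ⟨(yon S).map n ≫ inv (pullback.snd f' D.c) ≫ pullback.fst f' D.c, ?_⟩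
      show ((yon S).map n ≫ inv (pullback.snd f' D.c) ≫ pullback.fst f' D.c) ≫ f' = _
      rw [Category.assoc, Category.assoc, sqD.w, IsIso.inv_hom_id_assoc, hn])
  have hzf : z ≫ f' = u' := by
    refine yon_hom_ext_of_cover _ _ Sv hSv fun W w hw => ?_
    rw [← Category.assoc]
    exact hz w hw
  exact ⟨z, hzf, fun x hx => huniq u' hu' x z hx hzf⟩

end Groth.Agent.Lib.Helper14.AS
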