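import Groth.Agent.Lib.Helper14.Birat9
import Groth.Agent.Lib.Helper14.Birat10
import Groth.Agent.Lib.Helper14.SchImg2
import Groth.Agent.Lib.Helper14.Zmt3
import Groth.Agent.Lib.Helper14.AlgSpOnePt

/-!
# Integral birational morphisms onto normal algebraic spaces (helper14)
-/

universe u
open CategoryTheory CategoryTheory.Limits AlgebraicGeometry Opposite Topology TopologicalSpace

namespace Groth.Agent.Lib.Helper14.AS
open AlgSp Groth.Agent.Lib.Helper24.DecentDim Groth.Agent.Lib.Helper21.Birat
  Groth.Agent.Lib.Helper24.IrrComp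

variable {S : Scheme.{u}}

set_option backward.isDefEq.respectTransparency.types false in
/-- An affine open of a prescribed atlas around a point of a scheme mapping to the space. -/
theorem exists_affine_chart_at_of_atlas {Y : Sp S} {Y₀ : Over S} (p : (yon S).obj Y₀ ⟶ Y)
    (hpe : RepWith @Etale p) (hps : RepWith @Surjective p) {T : Over S}
    (g₀ : (yon S).obj T ⟶ Y) (x : T.left) :
    ∃ (W : Over S) (O : Y₀.left.Opens) (_ : IsAffineOpen O) (w : W ⟶ T)
      (t₀ : W ⟶ openSub Y₀ O), Etale w.left ∧ x ∈ Set.range w.left ∧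
        (yon S).map w ≫ g₀ = (yon S).map t₀ ≫ (yon S).map (openSubι Y₀ O) ≫ p := by
  let pK := hpe.rep.snd g₀
  let qP := hpe.rep.fst' g₀
  have sqP : IsPullback ((yon S).map qP) ((yon S).map pK) p g₀ := hpe.rep.isPullback' g₀
  have hpKet : Etale pK.left := hpe.property_snd g₀
  have hpKsurj : Surjective pK.left := hps.property _ _ _ sqP
  obtain ⟨y₀, hy₀⟩ := hpKsurj.surj x
  obtain ⟨V₀', hV₀', hyV₀', -⟩ := exists_isAffineOpen_mem_and_subset (x := qP.left y₀)
    (U := (⊤ : Y₀.left.Opens)) trivial
  let W' : (hpe.rep.pullback g₀).left.Opens := qP.left ⁻¹ᵁ V₀'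
  have hrange : Set.range ((openSubι _ W').left ≫ qP.left) ⊆ Set.range (openSubι Y₀ V₀').left := by
    rintro _ ⟨z, rfl⟩
    rw [range_openSubι]
    exact z.2
  let t₀' : (openSub _ W').left ⟶ (openSub Y₀ V₀').left :=
    IsOpenImmersion.lift (openSubι Y₀ V₀').left ((openSubι _ W').left ≫ qP.left) hrange
  have ht₀' : t₀' ≫ (openSubι Y₀ V₀').left = (openSubι _ W').left ≫ qP.left :=
    IsOpenImmersion.lift_fac _ _ _
  let t₀ : openSub _ W' ⟶ openSub Y₀ V₀' := Over.homMk t₀' (by
    rw [← Over.w (openSubι Y₀ V₀'), ← Category.assoc, ht₀', Category.assoc, Over.w, Over.w])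
  have ht₀ : t₀ ≫ openSubι Y₀ V₀' = openSubι _ W' ≫ qP := by
    apply Over.OverMorphism.ext
    exact ht₀'
  refine ⟨openSub _ W', V₀', hV₀', openSubι _ W' ≫ pK, t₀, ?_, ?_, ?_⟩
  · change Etale ((openSubι _ W').left ≫ pK.left)
    infer_instance
  · refine ⟨⟨y₀, hyV₀'⟩, ?_⟩
    rw [Over.comp_left, Scheme.Hom.comp_apply]
    exact hy₀
  · rw [Functor.map_comp, Category.assoc, ← sqP.w, ← Category.assoc, ← Functor.map_comp, ← ht₀,
      Functor.map_comp, Category.assoc]

/-- A morphism of sheaves which becomes an isomorphism over charts through which every point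
factors locally is an isomorphism. -/
theorem isIso_of_local_charts {F G : Sp S} (f : F ⟶ G)
    (hcov : ∀ ⦃T : Over S⦄ (g : (yon S).obj T ⟶ G), ∃ Sv ∈ J S T, ∀ ⦃W : Over S⦄ (w : W ⟶ T),
      Sv w → ∃ (N : Over S) (c : (yon S).obj N ⟶ G) (n : W ⟶ N), IsIso (pullback.snd f c) ∧
        (yon S).map n ≫ c = (yon S).map w ≫ g) : IsIso f := by
  have huniq : ∀ ⦃T : Over S⦄ (u' : (yon S).obj T ⟶ G),
      ∀ x x' : (yon S).obj T ⟶ F, x ≫ f = u' → x' ≫ f = u' → x = x' := by
    intro T u' x x' hx hx'
    obtain ⟨Sv, hSv, hl⟩ := hcov u'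
    refine yon_hom_ext_of_cover x x' Sv hSv fun W w hw => ?_
    obtain ⟨N, c, n, hiso, hn⟩ := hl w hw
    have sqD := IsPullback.of_hasPullback f c
    have e1 : sqD.lift ((yon S).map w ≫ x) ((yon S).map n) (by rw [Category.assoc, hx, hn]) =
        sqD.lift ((yon S).map w ≫ x') ((yon S).map n) (by rw [Category.assoc, hx', hn]) := by
      rw [← cancel_mono (pullback.snd f c), sqD.lift_snd, sqD.lift_snd]
    have := congrArg (· ≫ pullback.fst f c) e1
    simpa only [sqD.lift_fst] using this
  refine isIso_of_existsUnique_lift f fun T u' => ?_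
  obtain ⟨Sv, hSv, hl⟩ := hcov u'
  obtain ⟨z, hz⟩ := exists_glue_of_unique (F := F) (T := T)
    (fun W w z => z ≫ f = (yon S).map w ≫ u')
    (by
      intro W W' w k z hz
      show ((yon S).map k ≫ z) ≫ f = (yon S).map (k ≫ w) ≫ u'
      rw [Category.assoc, hz, Functor.map_comp, Category.assoc])
    (fun W w z z' hz hz' => huniq _ z z' hz hz')
    Sv hSv
    (by
      intro W w hw
      obtain ⟨N, c, n, hiso, hn⟩ := hl w hw
      have sqD := IsPullback.of_hasPullback f c
      refine ⟨(yon S).map n ≫ inv (pullback.snd f c) ≫ pullback.fst f c, ?_⟩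
      show ((yon S).map n ≫ inv (pullback.snd f c) ≫ pullback.fst f c) ≫ f = _
      rw [Category.assoc, Category.assoc, sqD.w, IsIso.inv_hom_id_assoc, hn])
  have hzf : z ≫ f = u' := by
    refine yon_hom_ext_of_cover _ _ Sv hSv fun W w hw => ?_
    rw [← Category.assoc]
    exact hz w hw
  exact ⟨z, hzf, fun x hx => huniq u' x z hx hzf⟩


set_option backward.isDefEq.respectTransparency.types false in
/-- Over a normal affine etale chart, an integral birational morphism from a reduced space is an
isomorphism. -/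
theorem isIso_snd_of_normal_affine_chart {X Y : Space S} (f : X ⟶ Y)
    (hX : IsDecent X.obj) (hY : IsDecent Y.obj)
    (hXf : (irreducibleComponents (Points X.obj)).Finite)
    (hYf : (irreducibleComponents (Points Y.obj)).Finite)
    (hi : IsIntegralMor f.hom) (hf : W4stk3decentspacesp2.IsBirational f.hom)
    (hXr : EtaleLocally (fun T => IsReduced T) X.obj)
    {V : Over S} [hVa : IsAffine V.left] (b : (yon S).obj V ⟶ Y.obj) (hb : RepWith @Etale b)
    (hVn : Pi1.IsNormalScheme V.left) : IsIso (pullback.snd f.hom b) := by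
  obtain ⟨W, i, fst, sq, hW, hi'⟩ := hi hVa b
  have hfst : RepWith @Etale fst := repWith_of_isPullback _ sq.flip hb
  have : IsAffine W.left := hW
  obtain ⟨-, -, -, hbir⟩ :=
    isBirational_baseChange_affine_etale f hX hY hXf hYf hf b hb fst ((yon S).map i) sq
  have hWred : IsReduced W.left := isReduced_of_etale_chart hXr fst hfst
  have hVf : (irreducibleComponents ↥V.left).Finite :=
    finite_irreducibleComponents_affine_chart Y hY hYf b hb
  have hmap : ∀ w : ↥W.left, Points.map ((yon S).map i) (Points.ofScheme W w) =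
      Points.ofScheme V (i.left w) := fun w => by
    rw [← Points.ofPt_eq_map_ofScheme, ofPt_yon_map]
  have hbij : Set.BijOn i.left (genericPoints ↥W.left) (genericPoints ↥V.left) := by
    refine ⟨fun w hw => ?_, fun w hw w' hw' hww' => ?_, fun v hv => ?_⟩
    · have := hbir.bijOn.mapsTo ((mem_genericPoints_ofScheme_iff W w).2 hw)
      rw [hmap] at this
      exact (mem_genericPoints_ofScheme_iff V _).1 this
    · have := hbir.bijOn.injOn ((mem_genericPoints_ofScheme_iff W w).2 hw)
        ((mem_genericPoints_ofScheme_iff W w').2 hw') (by rw [hmap, hmap, hww'])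
      exact (Points.schemeHomeo W).injective this
    · obtain ⟨x, hx, hxv⟩ := hbir.bijOn.surjOn ((mem_genericPoints_ofScheme_iff V v).2 hv)
      obtain ⟨w, rfl⟩ := (Points.schemeHomeo W).surjective x
      refine ⟨w, (mem_genericPoints_ofScheme_iff W w).1 hx, ?_⟩
      have : Points.ofScheme V (i.left w) = Points.ofScheme V v := by
        rw [← hmap]; exact hxv
      exact (Points.schemeHomeo V).injective this
  have hiso : ∀ ξ ∈ genericPoints ↥W.left, IsIso (i.left.stalkMap ξ) := fun ξ hξ =>
    isIso_stalkMap_of_isBirational hbir (𝟙 _) (𝟙 _) i (repWith_id (@IsOpenImmersion) W)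
      (repWith_id (@IsOpenImmersion) V) (by rw [Category.id_comp, Category.comp_id]) ξ
      ((mem_genericPoints_ofScheme_iff W ξ).2 hξ)
  have : IsIntegralHom i.left := hi'
  have : IsIso i.left := isIso_of_integral_birational_normal i.left hVn hVf hbij hiso
  have : IsIso ((Over.forget S).map i) := ‹IsIso i.left›
  have : IsIso i := isIso_of_reflects_iso i (Over.forget S)
  rw [← sq.isoPullback_inv_snd]
  infer_instance

set_option backward.isDefEq.respectTransparency.types false in
/-- An integral birational morphism from a reduced decent space onto a normal decent space (both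
with finitely many irreducible components) is an isomorphism. -/
theorem isIso_of_isIntegralMor_isBirational_of_normal {X Y : Space S} (f : X ⟶ Y)
    (hX : IsDecent X.obj) (hY : IsDecent Y.obj)
    (hXf : (irreducibleComponents (Points X.obj)).Finite)
    (hYf : (irreducibleComponents (Points Y.obj)).Finite)
    (hi : IsIntegralMor f.hom) (hf : W4stk3decentspacesp2.IsBirational f.hom)
    (hYn : EtaleLocally (fun T => ∀ t : ↥T, IsDomain ↥(T.presheaf.stalk t) ∧
      IsIntegrallyClosed ↥(T.presheaf.stalk t)) Y.obj)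
    (hXr : EtaleLocally (fun T => IsReduced T) X.obj) : IsIso f.hom := by
  obtain ⟨Y₀, p, hpe, hps, hN⟩ := hYn
  refine isIso_of_local_charts f.hom fun T g => ?_
  let Sv : Sieve T :=
    { arrows := fun W w => ∃ (O : Y₀.left.Opens) (_ : IsAffineOpen O) (n : W ⟶ openSub Y₀ O),
        (yon S).map n ≫ (yon S).map (openSubι Y₀ O) ≫ p = (yon S).map w ≫ g
      downward_closed := fun {W W'} w hw k => by
        obtain ⟨O, hO, n, hn⟩ := hw
        exact ⟨O, hO, k ≫ n, by rw [Functor.map_comp, Category.assoc, hn, Functor.map_comp,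
          Category.assoc]⟩ }
  refine ⟨Sv, mem_J_of_pointwise Sv fun τ => ?_, fun W w hw => ?_⟩
  · obtain ⟨W, O, hO, w, t₀, hw, hτ, hcomm⟩ := exists_affine_chart_at_of_atlas p hpe hps g τ
    exact ⟨W, w, inferInstance, inferInstance, hτ, O, hO, t₀, hcomm.symm⟩
  · obtain ⟨O, hO, n, hn⟩ := hw
    have : IsAffine (openSub Y₀ O).left := hO
    refine ⟨openSub Y₀ O, (yon S).map (openSubι Y₀ O) ≫ p, n, ?_, hn⟩
    exact isIso_snd_of_normal_affine_chart f hX hY hXf hYf hi hf hXr _
      (repWith_etale_restrict hpe O)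
      (Groth.Agent.Lib.Helper6.NormIso.isNormalScheme_opens hN O)

end Groth.Agent.Lib.Helper14.AS
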