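import Groth.Agent.Lib.Helper14.Birat1
import Groth.Agent.S9678
import Groth.Agent.Lib.Helper14.AlgSpOnePt

/-!
# Birational morphisms of algebraic spaces, II: dense open subschemes (helper14)
-/

universe u
set_option linter.style.haveILetI false
open CategoryTheory CategoryTheory.Limits AlgebraicGeometry Opposite Topology

namespace Groth.Agent.Lib.Helper14.AS
open AlgSp Groth.Agent.Lib.Helper24.DecentDim Groth.Agent.Lib.Helper21.Birat
  Groth.Agent.Lib.Helper24.IrrComp

variable {S : Scheme.{u}}

theorem mem_genericPoints_iff_exists {α : Type*} [TopologicalSpace α] (x : α) :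
    x ∈ genericPoints α ↔ ∃ T ∈ irreducibleComponents α, IsGenericPoint x T := by
  constructor
  · intro h
    exact ⟨closure {x}, h, rfl⟩
  · rintro ⟨T, hT, hx⟩
    change closure {x} ∈ irreducibleComponents α
    rw [hx.def]
    exact hT

attribute [local instance] specializationOrder in
/-- Generic points can be read on etale charts of a decent space. -/
theorem mem_genericPoints_ofPt_iff (X : Space S) (hX : IsDecent X.obj) {U : Over S}
    (a : (yon S).obj U ⟶ X.obj) (hae : RepWith @Etale a) (u : ↥U.left) :
    Points.ofPt a u ∈ genericPoints (Points X.obj) ↔ u ∈ genericPoints ↥U.left := by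
  haveI : T0Space (Points X.obj) := Groth.Agent.S10338.result X hX
  haveI : QuasiSober (Points X.obj) := Groth.Agent.S10339.result X hX
  rw [mem_genericPoints_iff_exists, mem_genericPoints_iff_exists,
    generic_component_iff_coheight, generic_component_iff_coheight, coheight_ofPt' X hX a hae u]

theorem isOpenImmersion_le_etale'' :
    (@IsOpenImmersion : MorphismProperty Scheme.{u}) ≤ @Etale := fun _ _ _ h => by
  have := h
  infer_instance

/-- With finitely many irreducible components, a dense open subscheme of a decent space contains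
all generic points. -/
theorem genericPoints_subset_range_of_dense (X : Space S) (hX : IsDecent X.obj)
    (hXf : (irreducibleComponents (Points X.obj)).Finite) {X' : Over S}
    (j : (yon S).obj X' ⟶ X.obj) (hj : RepWith @IsOpenImmersion j)
    (hd : Dense (Set.range (Points.ofPt j))) :
    genericPoints (Points X.obj) ⊆ Set.range (Points.ofPt j) := by
  haveI : T0Space (Points X.obj) := Groth.Agent.S10338.result X hX
  haveI : QuasiSober (Points X.obj) := Groth.Agent.S10339.result X hX
  intro x hx
  exact gen_mem_of_dense_isOpen hXf (Groth.Agent.S10397.isOpenEmbedding_ofPt j hj).isOpen_range hd hx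

end Groth.Agent.Lib.Helper14.AS

namespace Groth.Agent.Lib.Helper14.AS
open AlgSp Groth.Agent.Lib.Helper24.DecentDim Groth.Agent.Lib.Helper21.Birat
  Groth.Agent.Lib.Helper24.IrrComp

variable {S : Scheme.{u}}

set_option backward.isDefEq.respectTransparency.types false in
/-- The open subscheme chart of a birational morphism over an open subscheme of the target. -/
theorem exists_birational_chart {X Y : Space S} (f : X ⟶ Y)
    (hX : IsDecent X.obj) (hY : IsDecent Y.obj)
    (hXf : (irreducibleComponents (Points X.obj)).Finite)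
    (hYf : (irreducibleComponents (Points Y.obj)).Finite)
    (hf : W4stk3decentspacesp2.IsBirational f.hom) {V : Over S} (b : (yon S).obj V ⟶ Y.obj)
    (hb : RepWith @IsOpenImmersion b) :
    ∃ (W : Over S) (a : (yon S).obj W ⟶ X.obj) (g : W ⟶ V), RepWith @IsOpenImmersion a ∧
      a ≫ f.hom = (yon S).map g ≫ b ∧
      (irreducibleComponents ↥W.left).Finite ∧ (irreducibleComponents ↥V.left).Finite ∧
      Set.BijOn (fun w : W.left => g.left.base w)
        {w : W.left | closure {w} ∈ irreducibleComponents ↥W.left}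
        {v : V.left | closure {v} ∈ irreducibleComponents ↥V.left} ∧
      (∀ w : W.left, closure {w} ∈ irreducibleComponents ↥W.left → IsIso (g.left.stalkMap w)) ∧
      (∀ x ∈ genericPoints (Points X.obj), Points.map f.hom x ∈ Set.range (Points.ofPt b) →
        x ∈ Set.range (Points.ofPt a)) := by
  obtain ⟨X', jX, hjX, hdX, -, -⟩ := (Groth.Agent.S10397.result X).1 ⟨hX, hXf⟩
  have hgenX := genericPoints_subset_range_of_dense X hX hXf jX hjX hdX
  have sq := hb.rep.isPullback' (jX ≫ f.hom)
  have hsnd : IsOpenImmersion (hb.rep.snd (jX ≫ f.hom)).left := hb.property_snd (jX ≫ f.hom)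
  have ha : RepWith @IsOpenImmersion ((yon S).map (hb.rep.snd (jX ≫ f.hom)) ≫ jX) :=
    repWith_comp _ ((repWith_yon_map_iff _ _).2 hsnd) hjX
  have comm : ((yon S).map (hb.rep.snd (jX ≫ f.hom)) ≫ jX) ≫ f.hom =
      (yon S).map (hb.rep.fst' (jX ≫ f.hom)) ≫ b := by
    rw [Category.assoc]; exact sq.w.symm
  have hae := repWith_mono isOpenImmersion_le_etale'' ha
  have hbe := repWith_mono isOpenImmersion_le_etale'' hb
  have hembA := Groth.Agent.S10397.isOpenEmbedding_ofPt _ ha
  have hembB := Groth.Agent.S10397.isOpenEmbedding_ofPt _ hb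
  -- the key compatibility on points
  have hpt : ∀ w, Points.ofPt b ((hb.rep.fst' (jX ≫ f.hom)).left w) =
      Points.map f.hom (Points.ofPt ((yon S).map (hb.rep.snd (jX ≫ f.hom)) ≫ jX) w) := by
    intro w
    rw [Points.map_ofPt, comm, ofPt_yon_map_comp]
  have hlast : ∀ x ∈ genericPoints (Points X.obj),
      Points.map f.hom x ∈ Set.range (Points.ofPt b) →
      x ∈ Set.range (Points.ofPt ((yon S).map (hb.rep.snd (jX ≫ f.hom)) ≫ jX)) := by
    rintro x hx ⟨v, hv⟩
    obtain ⟨x', rfl⟩ := hgenX hx
    rw [Points.map_ofPt] at hv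
    obtain ⟨w, hw0, hw1⟩ := exists_point_of_isPullback_yon sq v x' hv
    refine ⟨w, ?_⟩
    rw [ofPt_yon_map_comp, hw1]
  refine ⟨_, _, hb.rep.fst' (jX ≫ f.hom), ha, comm,
    finite_irreducibleComponents_of_isOpenEmbedding hembA hXf,
    finite_irreducibleComponents_of_isOpenEmbedding hembB hYf, ⟨?_, ?_, ?_⟩, ?_, hlast⟩
  · intro w hw
    have h1 := (mem_genericPoints_ofPt_iff X hX _ hae w).2 hw
    have h2 := hf.bijOn.mapsTo h1
    rw [← hpt] at h2
    exact (mem_genericPoints_ofPt_iff Y hY b hbe _).1 h2
  · intro w1 hw1 w2 hw2 h12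
    have h1 := (mem_genericPoints_ofPt_iff X hX _ hae w1).2 hw1
    have h2 := (mem_genericPoints_ofPt_iff X hX _ hae w2).2 hw2
    have h3 : Points.map f.hom (Points.ofPt ((yon S).map (hb.rep.snd (jX ≫ f.hom)) ≫ jX) w1) =
        Points.map f.hom (Points.ofPt ((yon S).map (hb.rep.snd (jX ≫ f.hom)) ≫ jX) w2) := by
      rw [← hpt, ← hpt]
      exact congrArg _ h12
    exact hembA.injective (hf.bijOn.injOn h1 h2 h3)
  · intro v hv
    have h1 := (mem_genericPoints_ofPt_iff Y hY b hbe v).2 hv
    obtain ⟨x, hx, hxv⟩ := hf.bijOn.surjOn h1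
    obtain ⟨w, hw⟩ := hlast x hx ⟨v, hxv.symm⟩
    refine ⟨w, ?_, ?_⟩
    · apply (mem_genericPoints_ofPt_iff X hX _ hae w).1
      rw [hw]; exact hx
    · apply hembB.injective
      change Points.ofPt b ((hb.rep.fst' (jX ≫ f.hom)).left w) = _
      rw [hpt, hw, hxv]
  · intro w hw
    exact isIso_stalkMap_of_isBirational hf _ b _ ha hb comm w
      ((mem_genericPoints_ofPt_iff X hX _ hae w).2 hw)

end Groth.Agent.Lib.Helper14.AS
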