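import Groth.Agent.Lib.Helper14.Birat2

/-!
# Birational morphisms of algebraic spaces, III: isomorphic dense opens (helper14)
-/

universe u
set_option linter.style.haveILetI false
open CategoryTheory CategoryTheory.Limits AlgebraicGeometry Opposite Topology

namespace Groth.Agent.Lib.Helper14.AS
open AlgSp Groth.Agent.Lib.Helper24.DecentDim Groth.Agent.Lib.Helper21.Birat
  Groth.Agent.Lib.Helper24.IrrComp

variable {S : Scheme.{u}}

/-- Restriction of a chart to an open subscheme. -/
def openOver (W : Over S) (U : W.left.Opens) : Over S := Over.mk (U.ι ≫ W.hom)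

def openOverι (W : Over S) (U : W.left.Opens) : openOver W U ⟶ W := Over.homMk U.ι rfl

theorem repWith_openImmersion_openOverι (W : Over S) (U : W.left.Opens) :
    RepWith @IsOpenImmersion ((yon S).map (openOverι W U)) :=
  (repWith_yon_map_iff _ _).2 (by change IsOpenImmersion U.ι; infer_instance)

theorem range_ofPt_openOverι_comp {F : Sp S} {W : Over S} (U : W.left.Opens)
    (a : (yon S).obj W ⟶ F) :
    Set.range (Points.ofPt ((yon S).map (openOverι W U) ≫ a)) = Points.ofPt a '' (U : Set W.left) := by
  ext x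
  constructor
  · rintro ⟨u, rfl⟩
    rw [ofPt_yon_map_comp]
    exact ⟨_, u.2, rfl⟩
  · rintro ⟨w, hw, rfl⟩
    refine ⟨(⟨w, hw⟩ : U.toScheme), ?_⟩
    exact ofPt_yon_map_comp (openOverι W U) a (⟨w, hw⟩ : U.toScheme)

set_option backward.isDefEq.respectTransparency.types false in
/-- S10435, with the extra information that the open of `Y` lies in a given dense open subscheme. -/
theorem exists_dense_open_isIso_of_isBirational {X Y : Space S} (f : X ⟶ Y)
    (hX : IsDecent X.obj) (hY : IsDecent Y.obj)
    (hXf : (irreducibleComponents (Points X.obj)).Finite)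
    (hYf : (irreducibleComponents (Points Y.obj)).Finite)
    (hf : W4stk3decentspacesp2.IsBirational f.hom)
    (h : (LocP @LocallyOfFiniteType f.hom ∧ EtaleLocally (fun T => IsReduced T) Y.obj) ∨
      LocP @LocallyOfFinitePresentation f.hom) :
    ∃ (U V : Over S) (a : (yon S).obj U ⟶ X.obj) (b : (yon S).obj V ⟶ Y.obj) (g : U ⟶ V),
      RepWith @IsOpenImmersion a ∧ RepWith @IsOpenImmersion b ∧
        Dense (Set.range (Points.ofPt a)) ∧ Dense (Set.range (Points.ofPt b)) ∧
          a ≫ f.hom = (yon S).map g ≫ b ∧ IsIso g.left := by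
  haveI : T0Space (Points X.obj) := Groth.Agent.S10338.result X hX
  haveI : QuasiSober (Points X.obj) := Groth.Agent.S10339.result X hX
  obtain ⟨Y', jY, hjY, hdY, -, -⟩ := (Groth.Agent.S10397.result Y).1 ⟨hY, hYf⟩
  have hgenY := genericPoints_subset_range_of_dense Y hY hYf jY hjY hdY
  obtain ⟨W, a, g, ha, comm, hWf, hY'f, hbij, hiso, hlast⟩ :=
    exists_birational_chart f hX hY hXf hYf hf jY hjY
  have hae := repWith_mono isOpenImmersion_le_etale'' ha
  have hbe := repWith_mono isOpenImmersion_le_etale'' hjY
  have hdW : Dense (Set.range (Points.ofPt a)) := by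
    apply dense_of_gen_subset
    intro x hx
    exact hlast x hx (hgenY (hf.bijOn.mapsTo hx))
  have hg : (LocallyOfFiniteType g.left ∧ IsReduced Y'.left) ∨
      LocallyOfFinitePresentation g.left := by
    rcases h with ⟨h1, h2⟩ | h1
    · exact Or.inl ⟨h1 a jY g hae hbe comm, isReduced_of_etale_chart h2 jY hbe⟩
    · exact Or.inr (h1 a jY g hae hbe comm)
  obtain ⟨U, V, hUV, hUd, hVd, hUViso⟩ := Groth.Agent.S9678.result g.left hWf hY'f hbij hiso hg
  have hw : g.left.resLE V U hUV ≫ (openOver Y' V).hom = (openOver W U).hom := by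
    change g.left.resLE V U hUV ≫ V.ι ≫ Y'.hom = U.ι ≫ W.hom
    rw [← Category.assoc, Scheme.Hom.resLE_comp_ι, Category.assoc, Over.w]
  have hcomp : (Over.homMk (g.left.resLE V U hUV) hw : openOver W U ⟶ openOver Y' V) ≫
      openOverι Y' V = openOverι W U ≫ g := by
    ext
    exact Scheme.Hom.resLE_comp_ι _ _
  refine ⟨openOver W U, openOver Y' V, (yon S).map (openOverι W U) ≫ a,
    (yon S).map (openOverι Y' V) ≫ jY, Over.homMk (g.left.resLE V U hUV) hw,
    repWith_comp _ (repWith_openImmersion_openOverι W U) ha,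
    repWith_comp _ (repWith_openImmersion_openOverι Y' V) hjY, ?_, ?_, ?_, hUViso⟩
  · rw [range_ofPt_openOverι_comp]
    exact DenseRange.dense_image hdW (Points.continuous_ofPt a) hUd
  · rw [range_ofPt_openOverι_comp]
    exact DenseRange.dense_image hdY (Points.continuous_ofPt jY) hVd
  · rw [Category.assoc, comm, ← Category.assoc, ← Functor.map_comp, ← hcomp, Functor.map_comp,
      Category.assoc]

end Groth.Agent.Lib.Helper14.AS
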