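import Groth.Agent.Lib.Helper14.Birat3
import Groth.Agent.Lib.Helper14.AlgSpRedFactor
import Groth.Agent.Lib.Helper14.AlgSpQCMor2
import Groth.Agent.Lib.Helper14.AlgSpClosed
import Groth.Agent.Lib.Helper14.AlgSpLargestOpen
import Groth.Agent.Lib.Helper14.AlgSpPoints2
import Groth.Agent.Lib.Helper14.AlgSpDiag2

/-!
# Birational morphisms of algebraic spaces, IV: isomorphism over a dense open (helper14)
-/

universe u
set_option linter.style.haveILetI false
open CategoryTheory CategoryTheory.Limits AlgebraicGeometry Opposite Topology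

namespace Groth.Agent.Lib.Helper14.AS
open AlgSp Groth.Agent.Lib.Helper24.DecentDim Groth.Agent.Lib.Helper21.Birat
  Groth.Agent.Lib.Helper24.IrrComp

variable {S : Scheme.{u}}

theorem range_points_map_yon_eq {F : Sp S} {U : Over S} (a : (yon S).obj U ⟶ F) :
    Set.range (Points.map a) = Set.range (Points.ofPt a) := by
  ext x
  constructor
  · rintro ⟨y, rfl⟩
    obtain ⟨u, rfl⟩ := (Points.schemeHomeo U).surjective y
    exact ⟨u, Points.ofPt_eq_map_ofScheme a u⟩
  · rintro ⟨u, rfl⟩
    exact ⟨_, (Points.ofPt_eq_map_ofScheme a u).symm⟩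

theorem isOpenImmersion_inf_surjective_le_isomorphisms :
    (@IsOpenImmersion ⊓ @Surjective : MorphismProperty Scheme.{u}) ≤
      MorphismProperty.isomorphisms Scheme.{u} := by
  rintro X Y f ⟨h1, h2⟩
  have : IsOpenImmersion f := h1
  have : Surjective f := h2
  have : Epi f.base := (TopCat.epi_iff_surjective _).2 f.surjective
  exact IsOpenImmersion.isIso f

/-- An open immersion which is surjective on points is an isomorphism. -/
theorem isIso_of_openImmersion_of_surjective {F G : Sp S} {s : F ⟶ G}
    (hs : RepWith @IsOpenImmersion s) (hsurj : Function.Surjective (Points.map s)) : IsIso s :=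
  isIso_of_repWith_isomorphisms (repWith_mono isOpenImmersion_inf_surjective_le_isomorphisms
    (repWith_inf hs (repWith_surjective_of_isSurjectiveMor hs.rep hsurj)))

set_option backward.isDefEq.respectTransparency.types false in
/-- If the preimage of an open subscheme `V` of `Y` lies in an open subscheme `U` of `X` which `f`
maps isomorphically to `V`, then `f` is an isomorphism over `V`. -/
theorem isIso_snd_of_preimage_subset {X Y : Sp S} (f : X ⟶ Y) {U V : Over S}
    (a : (yon S).obj U ⟶ X) (b : (yon S).obj V ⟶ Y) (g : U ⟶ V)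
    (ha : RepWith @IsOpenImmersion a) (hb : RepWith @IsOpenImmersion b)
    (comm : a ≫ f = (yon S).map g ≫ b) [IsIso g.left]
    (hpre : ∀ x : Points X, Points.map f x ∈ Set.range (Points.ofPt b) →
      x ∈ Set.range (Points.ofPt a))
    {P : Sp S} (fst : P ⟶ X) (snd : P ⟶ (yon S).obj V) (sq : IsPullback fst snd f b) :
    IsIso snd := by
  have hfst : RepWith @IsOpenImmersion fst := repWith_of_isPullback _ sq.flip hb
  have : Mono fst := mono_of_openImmersion hfst
  have hs1 : sq.lift a ((yon S).map g) comm ≫ fst = a := sq.lift_fst _ _ _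
  have hs2 : sq.lift a ((yon S).map g) comm ≫ snd = (yon S).map g := sq.lift_snd _ _ _
  have hs : RepWith @IsOpenImmersion (sq.lift a ((yon S).map g) comm) :=
    repWith_of_isPullback _ (isPullback_id_of_mono hs1) ha
  have hsurj : Function.Surjective (Points.map (sq.lift a ((yon S).map g) comm)) := by
    intro p
    have h1 : Points.map f (Points.map fst p) ∈ Set.range (Points.ofPt b) := by
      rw [← range_points_map_yon_eq, ← Points.map_comp, sq.w, Points.map_comp]
      exact ⟨_, rfl⟩
    obtain ⟨u, hu⟩ := hpre _ h1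
    refine ⟨Points.ofScheme U u, ?_⟩
    apply injective_of_openImmersion hfst
    rw [← Points.map_comp, hs1, ← Points.ofPt_eq_map_ofScheme, hu]
  have := isIso_of_openImmersion_of_surjective hs hsurj
  have hgi : IsIso g := by
    have : IsIso ((Over.forget S).map g) := by change IsIso g.left; infer_instance
    exact isIso_of_reflects_iso g (Over.forget S)
  have : IsIso ((yon S).map g) := inferInstance
  have : snd = inv (sq.lift a ((yon S).map g) comm) ≫ (yon S).map g := by
    rw [IsIso.eq_inv_comp, hs2]
  rw [this]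
  infer_instance

theorem isOpenImmersion_le_universallyOpen' :
    (@IsOpenImmersion : MorphismProperty Scheme.{u}) ≤ @UniversallyOpen := fun _ _ _ h => by
  have := h
  infer_instance

set_option backward.isDefEq.respectTransparency.types false in
/-- For a separated morphism mapping a dense open subscheme `U` of `X` isomorphically to an open
subscheme `V` of `Y`, the preimage of `V` is `U`. -/
theorem preimage_subset_of_isSeparatedMor {X Y : Space S} (f : X ⟶ Y) (hX : IsDecent X.obj)
    (hXf : (irreducibleComponents (Points X.obj)).Finite) {U V : Over S}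
    (a : (yon S).obj U ⟶ X.obj) (b : (yon S).obj V ⟶ Y.obj) (g : U ⟶ V)
    (ha : RepWith @IsOpenImmersion a) (hb : RepWith @IsOpenImmersion b)
    (comm : a ≫ f.hom = (yon S).map g ≫ b) [IsIso g.left]
    (hda : Dense (Set.range (Points.ofPt a))) (hsep : IsSeparatedMor f.hom) :
    ∀ x : Points X.obj, Points.map f.hom x ∈ Set.range (Points.ofPt b) →
      x ∈ Set.range (Points.ofPt a) := by
  haveI : T0Space (Points X.obj) := Groth.Agent.S10338.result X hX
  haveI : QuasiSober (Points X.obj) := Groth.Agent.S10339.result X hX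
  have hgi : IsIso g := by
    have : IsIso ((Over.forget S).map g) := by change IsIso g.left; infer_instance
    exact isIso_of_reflects_iso g (Over.forget S)
  have hgy : IsIso ((yon S).map g) := inferInstance
  obtain ⟨s₀, hs₀⟩ : ∃ s₀ : (yon S).obj V ⟶ X.obj, s₀ = inv ((yon S).map g) ≫ a := ⟨_, rfl⟩
  have hs₀f : s₀ ≫ f.hom = b := by
    rw [hs₀, Category.assoc, comm, IsIso.inv_hom_id_assoc]
  have hs₀a : (yon S).map g ≫ s₀ = a := by rw [hs₀, IsIso.hom_inv_id_assoc]
  have hb' : RepWith @IsOpenImmersion (s₀ ≫ f.hom) := hs₀f ▸ hb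
  have sqP := IsPullback.of_hasPullback (s₀ ≫ f.hom) f.hom
  have hP' : IsAlgSpace (pullback (s₀ ≫ f.hom) f.hom) :=
    isAlgSpace_of_isPullback (repDiag_of_isAlgSpace Y.property) (IsAlgSpace.yon_obj V) X.property sqP
  have hΓ : RepWith @IsClosedImmersion
      (pullback.lift (𝟙 _) s₀ (by simp) : (yon S).obj V ⟶ pullback (s₀ ≫ f.hom) f.hom) :=
    MorphismProperty.of_isPullback (P := RepWith @IsClosedImmersion)
      (isPullback_graph s₀ f.hom).flip hsep
  have e1 : (pullback.lift (𝟙 _) s₀ (by simp) : (yon S).obj V ⟶ pullback (s₀ ≫ f.hom) f.hom) ≫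
      pullback.snd (s₀ ≫ f.hom) f.hom = s₀ := pullback.lift_snd _ _ _
  have hcl : IsClosed (Set.range (Points.map
      (pullback.lift (𝟙 _) s₀ (by simp) : (yon S).obj V ⟶ pullback (s₀ ≫ f.hom) f.hom))) :=
    (isClosedMap_points_of_repWith_universallyClosed hP'
      (repWith_mono isClosedImmersion_le_universallyClosed hΓ)).isClosed_range
  have hsnd : RepWith @IsOpenImmersion (pullback.snd (s₀ ≫ f.hom) f.hom) :=
    repWith_of_isPullback _ sqP hb'
  have hsndo : IsOpenMap (Points.map (pullback.snd (s₀ ≫ f.hom) f.hom)) :=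
    isOpenMap_points_of_repWith_universallyOpen X.property
      (repWith_mono isOpenImmersion_le_universallyOpen' hsnd)
  have hsndi := injective_of_openImmersion hsnd
  have hgen := genericPoints_subset_range_of_dense X hX hXf a ha hda
  -- every point of the pullback is in the image of the section
  have hall : ∀ p : Points (pullback (s₀ ≫ f.hom) f.hom), p ∈ Set.range (Points.map
      (pullback.lift (𝟙 _) s₀ (by simp) : (yon S).obj V ⟶ pullback (s₀ ≫ f.hom) f.hom)) := by
    intro p
    by_contra hp
    have hO := hsndo _ hcl.isOpen_compl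
    obtain ⟨ξ, hξ, hξO, -⟩ := exists_gen_mem_of_isOpen hO ⟨p, hp, rfl⟩
    obtain ⟨c', hc', hc'ξ⟩ := hξO
    obtain ⟨u, hu⟩ := hgen hξ
    apply hc'
    refine ⟨Points.ofScheme V (g.left u), ?_⟩
    apply hsndi
    have hyg : Points.map ((yon S).map g) (Points.ofScheme U u) = Points.ofScheme V (g.left u) :=
      Points.map_yon_map_apply g u
    rw [← Points.map_comp, e1, hc'ξ, ← hu, ← hyg, ← Points.map_comp, hs₀a,
      ← Points.ofPt_eq_map_ofScheme]
  intro x hx
  obtain ⟨v, hv⟩ := hx
  have e : Points.map (s₀ ≫ f.hom) (Points.ofScheme V v) = Points.map f.hom x := by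
    rw [hs₀f, ← Points.ofPt_eq_map_ofScheme, hv]
  obtain ⟨p', -, hp'2⟩ := points_exists_of_isPullback sqP _ _ e
  obtain ⟨y, hy⟩ := hall p'
  rw [← range_points_map_yon_eq]
  refine ⟨Points.map (inv ((yon S).map g)) y, ?_⟩
  rw [← Points.map_comp, ← hs₀, ← e1, Points.map_comp, hy, hp'2]

end Groth.Agent.Lib.Helper14.AS
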