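import Groth.Agent.Lib.Helper14.Birat4
import Groth.Agent.Lib.Helper14.IntegralQf
import Groth.Agent.Lib.Helper12.QCSpecialization
import Groth.Agent.Lib.Helper14.AlgSpQCMor

/-!
# Birational morphisms of algebraic spaces, V: fibres over generic points, finite type case
(helper14)
-/

universe u
set_option linter.style.haveILetI false
open CategoryTheory CategoryTheory.Limits AlgebraicGeometry Opposite Topology

namespace Groth.Agent.Lib.Helper14.AS
open AlgSp Groth.Agent.Lib.Helper24.DecentDim Groth.Agent.Lib.Helper21.Birat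
  Groth.Agent.Lib.Helper24.IrrComp

variable {S : Scheme.{u}}

theorem resTrdeg_eq_zero_of_surjective_stalkMap {U V : Scheme.{u}} (h : U ⟶ V) (u : U)
    (hs : Function.Surjective (h.stalkMap u).hom) : Dual3.resTrdeg h u = 0 := by
  unfold Dual3.resTrdeg
  letI := (h.residueFieldMap u).hom.toAlgebra
  have hs' : Function.Surjective (algebraMap (V.residueField (h u)) (U.residueField u)) := by
    intro z
    obtain ⟨s, rfl⟩ := IsLocalRing.residue_surjective z
    obtain ⟨r, rfl⟩ := hs s
    exact ⟨IsLocalRing.residue _ r, rfl⟩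
  have := Algebra.isIntegral_of_surjective hs'
  have : Algebra.IsAlgebraic (V.residueField (h u)) (U.residueField u) :=
    Algebra.IsIntegral.isAlgebraic
  exact trdeg_eq_zero

theorem resTrdeg_eq_zero_of_isIso_stalkMap {U V : Scheme.{u}} (h : U ⟶ V) (u : U)
    [IsIso (h.stalkMap u)] : Dual3.resTrdeg h u = 0 :=
  resTrdeg_eq_zero_of_surjective_stalkMap h u
    ((ConcreteCategory.isIso_iff_bijective (h.stalkMap u)).1 inferInstance).2

set_option backward.isDefEq.respectTransparency.types false in
/-- For a birational morphism locally of finite type, a point over a generic point of the target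
is a generic point of the source. -/
theorem mem_genericPoints_of_map_mem_of_lft {X Y : Space S} (f : X ⟶ Y)
    (hX : IsDecent X.obj) (hY : IsDecent Y.obj)
    (hf : W4stk3decentspacesp2.IsBirational f.hom) (hlft : LocP @LocallyOfFiniteType f.hom)
    (x : Points X.obj) (hx : Points.map f.hom x ∈ genericPoints (Points Y.obj)) :
    x ∈ genericPoints (Points X.obj) := by
  haveI : T0Space (Points X.obj) := Groth.Agent.S10338.result X hX
  haveI : QuasiSober (Points X.obj) := Groth.Agent.S10339.result X hX
  haveI : T0Space (Points Y.obj) := Groth.Agent.S10338.result Y hY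
  obtain ⟨ξ, hξ, hξx⟩ := exists_gen_specializes x
  have hfξ : Points.map f.hom ξ = Points.map f.hom x :=
    eq_of_specializes_gen hx (hξx.map (Points.continuous_map f.hom))
  obtain ⟨V, b, hbe, hbs⟩ := Y.property.atlas
  obtain ⟨U, a, k, hae, has, comm⟩ := exists_chart_diagram X.property f.hom b hbe hbs
  have hk : LocallyOfFiniteType k.left := hlft a b k hae hbe comm
  obtain ⟨u', rfl⟩ := ofPt_surjective_of_repWith has x
  obtain ⟨u₁, hu₁s, hu₁⟩ := exists_generization_lift_of_isDecent hX a hae hξx
  have hpt : ∀ w : ↥U.left, Points.map f.hom (Points.ofPt a w) = Points.ofPt b (k.left w) := by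
    intro w
    rw [Points.map_ofPt, comm, ofPt_yon_map_comp]
  have h0 : HasAtMor (fun _ _ h u => Dual3.resTrdeg h u = 0) f.hom ξ := by
    obtain ⟨U₁, V₁, a₁, b₁, g₁, w, ha₁, hb₁, comm₁, hw, hiso⟩ := hf.stalkIso ξ hξ
    exact ⟨U₁, V₁, a₁, b₁, g₁, w, repWith_mono isOpenImmersion_le_etale'' ha₁,
      repWith_mono isOpenImmersion_le_etale'' hb₁, comm₁, hw,
      resTrdeg_eq_zero_of_isIso_stalkMap g₁.left w⟩
  rw [← hu₁] at h0
  have hr := (hasAtMor_ofPt_iff (etSqInv_resTrdeg (fun z => z = 0)) f.hom a b k hae hbe comm u₁).1 h0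
  have hkk : k.left u' = k.left u₁ := by
    refine eq_of_specializes_of_isDecent hY b hbe ?_ (hu₁s.map k.left.continuous)
    rw [← hpt, ← hpt, hu₁, hfξ]
  have := eq_of_specializes_of_resTrdeg_eq_zero k.left hu₁s hkk.symm hr
  rw [← this, hu₁]
  exact hξ

end Groth.Agent.Lib.Helper14.AS

namespace Groth.Agent.Lib.Helper14.AS
open AlgSp Groth.Agent.Lib.Helper24.DecentDim Groth.Agent.Lib.Helper21.Birat
  Groth.Agent.Lib.Helper24.IrrComp

variable {S : Scheme.{u}}

set_option backward.isDefEq.respectTransparency.types false in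
/-- Quasi-compact case: after shrinking `V` to an open containing all its generic points, the
preimage of `V` lies in `U`. -/
theorem exists_open_preimage_subset_of_isQuasiCompactMor {X Y : Space S} (f : X ⟶ Y)
    (hX : IsDecent X.obj) (hY : IsDecent Y.obj)
    (hXf : (irreducibleComponents (Points X.obj)).Finite)
    (hf : W4stk3decentspacesp2.IsBirational f.hom) (hlft : LocP @LocallyOfFiniteType f.hom)
    (hqc : IsQuasiCompactMor f.hom) {U V : Over S}
    (a : (yon S).obj U ⟶ X.obj) (b : (yon S).obj V ⟶ Y.obj)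
    (ha : RepWith @IsOpenImmersion a) (hb : RepWith @IsOpenImmersion b)
    (hda : Dense (Set.range (Points.ofPt a))) :
    ∃ V' : V.left.Opens, genericPoints ↥V.left ⊆ (V' : Set V.left) ∧
      ∀ x : Points X.obj, Points.map f.hom x ∈ Points.ofPt b '' (V' : Set V.left) →
        x ∈ Set.range (Points.ofPt a) := by
  have hbe := repWith_mono isOpenImmersion_le_etale'' hb
  have hgenX := genericPoints_subset_range_of_dense X hX hXf a ha hda
  obtain ⟨B, hB⟩ : ∃ B : Set V.left, B = {v | ∃ x : Points X.obj,
      Points.map f.hom x = Points.ofPt b v ∧ x ∉ Set.range (Points.ofPt a)} := ⟨_, rfl⟩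
  refine ⟨⟨(closure B)ᶜ, isClosed_closure.isOpen_compl⟩, ?_, ?_⟩
  · intro η hη hηB
    apply hηB
    obtain ⟨W₀, hW₀aff, hηW₀, -⟩ :=
      exists_isAffineOpen_mem_and_subset (x := η) (U := ⊤) trivial
    have hb₀ : RepWith @IsOpenImmersion ((yon S).map (openOverι V W₀) ≫ b) :=
      repWith_comp _ (repWith_openImmersion_openOverι V W₀) hb
    have sq := IsPullback.of_hasPullback f.hom ((yon S).map (openOverι V W₀) ≫ b)
    have hP₀qc : IsQuasiCompactSp (pullback f.hom ((yon S).map (openOverι V W₀) ≫ b)) :=
      (isQuasiCompactMor_iff_affine X.property Y.property f.hom).1 hqc (openOver V W₀) hW₀aff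
        _ _ _ _ sq
    obtain ⟨T, q, hT, hqe, hqs⟩ := isQuasiCompactSp_iff_exists_affine_chart.1 hP₀qc
    obtain ⟨h, hh⟩ := (yon S).map_surjective
      (q ≫ pullback.snd f.hom ((yon S).map (openOverι V W₀) ≫ b))
    have hfst : RepWith @IsOpenImmersion
        (pullback.fst f.hom ((yon S).map (openOverι V W₀) ≫ b)) :=
      repWith_of_isPullback _ sq.flip hb₀
    have hce : RepWith @Etale (q ≫ pullback.fst f.hom ((yon S).map (openOverι V W₀) ≫ b)) :=
      repWith_comp _ hqe (repWith_mono isOpenImmersion_le_etale'' hfst)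
    have hcomm : (q ≫ pullback.fst f.hom ((yon S).map (openOverι V W₀) ≫ b)) ≫ f.hom =
        (yon S).map h ≫ (yon S).map (openOverι V W₀) ≫ b := by
      rw [Category.assoc, sq.w, ← Category.assoc, hh]
    obtain ⟨c, hc⟩ : ∃ c : (yon S).obj T ⟶ X.obj,
      c = q ≫ pullback.fst f.hom ((yon S).map (openOverι V W₀) ≫ b) := ⟨_, rfl⟩
    rw [← hc] at hce hcomm
    have hptc : ∀ t : ↥T.left, Points.map f.hom (Points.ofPt c t) =
        Points.ofPt b ((openOverι V W₀).left (h.left t)) := by
      intro t
      rw [Points.map_ofPt, hcomm, ofPt_yon_map_comp, ofPt_yon_map_comp]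
    have hιemb : Topology.IsOpenEmbedding ((openOverι V W₀).left) := W₀.ι.isOpenEmbedding
    have hιrange : Set.range ((openOverι V W₀).left) = (W₀ : Set V.left) :=
      Scheme.Opens.range_ι W₀
    obtain ⟨Z, hZdef⟩ : ∃ Z : Set T.left,
      Z = (Points.ofPt c ⁻¹' Set.range (Points.ofPt a))ᶜ := ⟨_, rfl⟩
    have hZ : IsClosed Z := by
      rw [hZdef]
      exact ((Groth.Agent.S10397.isOpenEmbedding_ofPt a ha).isOpen_range.preimage
        (Points.continuous_ofPt c)).isClosed_compl
    have hsub : B ∩ (W₀ : Set V.left) ⊆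
        (openOverι V W₀).left '' (h.left '' Z) := by
      rintro v ⟨hvB, hvW⟩
      rw [hB] at hvB
      obtain ⟨x, hxv, hxa⟩ := hvB
      rw [← hιrange] at hvW
      obtain ⟨v₀, rfl⟩ := hvW
      have e : Points.map f.hom x = Points.map ((yon S).map (openOverι V W₀) ≫ b)
          (Points.ofScheme (openOver V W₀) v₀) := by
        rw [← Points.ofPt_eq_map_ofScheme, ofPt_yon_map_comp, hxv]
      obtain ⟨p, hp1, hp2⟩ := points_exists_of_isPullback sq x _ e
      obtain ⟨t, ht⟩ := ofPt_surjective_of_repWith hqs p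
      have hct : Points.ofPt c t = x := by
        rw [hc, ← Points.map_ofPt, ht, hp1]
      refine ⟨v₀, ⟨t, ?_, ?_⟩, rfl⟩
      · rw [hZdef]
        intro htU
        apply hxa
        rw [← hct]
        exact htU
      · have h8 := hptc t
        rw [hct, hxv] at h8
        have h9 := (Groth.Agent.S10397.isOpenEmbedding_ofPt b hb).injective h8
        exact (hιemb.injective h9).symm
    have h1 : η ∈ closure (B ∩ (W₀ : Set V.left)) := by
      have := W₀.2.inter_closure (t := B) ⟨hηW₀, hηB⟩
      rwa [Set.inter_comm] at this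
    have h2 := closure_mono hsub h1
    rw [← SetLike.mem_coe, ← hιrange] at hηW₀
    obtain ⟨η₀, rfl⟩ := hηW₀
    have h3 : η₀ ∈ closure (h.left '' Z) := by
      rw [hιemb.isInducing.closure_eq_preimage_closure_image]
      exact h2
    haveI : IsAffine T.left := hT
    haveI : IsAffine (openOver V W₀).left := hW₀aff
    haveI : QuasiCompact h.left := inferInstance
    obtain ⟨z, hzZ, hzη⟩ :=
      Groth.Agent.Lib.Helper12.exists_specializes_of_mem_closure_image h.left Z hZ _ h3
    have h4 : (openOverι V W₀).left (h.left z) ⤳ (openOverι V W₀).left η₀ :=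
      hzη.map hιemb.continuous
    have h5 : (openOverι V W₀).left (h.left z) = (openOverι V W₀).left η₀ :=
      eq_of_specializes_gen hη h4
    have h6 := hptc z
    rw [h5] at h6
    have h7 : Points.ofPt c z ∈ genericPoints (Points X.obj) :=
      mem_genericPoints_of_map_mem_of_lft f hX hY hf hlft _
        (h6 ▸ (mem_genericPoints_ofPt_iff Y hY b hbe _).2 hη)
    rw [hZdef] at hzZ
    exact absurd (hgenX h7) hzZ
  · rintro x ⟨v, hvV', hv⟩
    by_contra hxa
    apply hvV'
    apply subset_closure
    rw [hB]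
    exact ⟨x, hv.symm, hxa⟩

end Groth.Agent.Lib.Helper14.AS
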