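import Groth.Agent.Lib.Helper14.Birat5

/-!
# Birational morphisms of algebraic spaces, VI: isomorphism over a dense open (helper14)
-/

universe u
set_option linter.style.haveILetI false
open CategoryTheory CategoryTheory.Limits AlgebraicGeometry Opposite Topology

namespace Groth.Agent.Lib.Helper14.AS
open AlgSp Groth.Agent.Lib.Helper24.DecentDim Groth.Agent.Lib.Helper21.Birat
  Groth.Agent.Lib.Helper24.IrrComp

variable {S : Scheme.{u}}

theorem lfp_le_lft :
    (@LocallyOfFinitePresentation : MorphismProperty Scheme.{u}) ≤ @LocallyOfFiniteType :=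
  fun _ _ _ h => by
    have := h
    infer_instance

theorem locP_mono' {P Q : MorphismProperty Scheme.{u}} (hPQ : P ≤ Q) {F G : Sp S} {f : F ⟶ G}
    (h : LocP P f) : LocP Q f := fun _ _ a b k ha hb comm => hPQ _ (h a b k ha hb comm)

set_option backward.isDefEq.respectTransparency.types false in
theorem exists_dense_open_isIso_pullback_of_isBirational {X Y : Space S} (f : X ⟶ Y)
    (hX : IsDecent X.obj) (hY : IsDecent Y.obj)
    (hXf : (irreducibleComponents (Points X.obj)).Finite)
    (hYf : (irreducibleComponents (Points Y.obj)).Finite)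
    (hf : W4stk3decentspacesp2.IsBirational f.hom)
    (h₁ : IsQuasiCompactMor f.hom ∨ IsSeparatedMor f.hom)
    (h₂ : (LocP @LocallyOfFiniteType f.hom ∧ EtaleLocally (fun T => IsReduced T) Y.obj) ∨
      LocP @LocallyOfFinitePresentation f.hom) :
    ∃ (V : Over S) (b : (yon S).obj V ⟶ Y.obj), RepWith @IsOpenImmersion b ∧
      Dense (Set.range (Points.ofPt b)) ∧
        ∀ ⦃P : Sp S⦄ (fst : P ⟶ X.obj) (snd : P ⟶ (yon S).obj V),
          IsPullback fst snd f.hom b → IsIso snd := by
  haveI : T0Space (Points Y.obj) := Groth.Agent.S10338.result Y hY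
  haveI : QuasiSober (Points Y.obj) := Groth.Agent.S10339.result Y hY
  obtain ⟨U, V, a, b, g, ha, hb, hda, hdb, comm, hgiso⟩ :=
    exists_dense_open_isIso_of_isBirational f hX hY hXf hYf hf h₂
  have hlft : LocP @LocallyOfFiniteType f.hom := by
    rcases h₂ with h | h
    · exact h.1
    · exact locP_mono' lfp_le_lft h
  rcases h₁ with hqc | hsep
  · obtain ⟨V', hV'gen, hV'pre⟩ :=
      exists_open_preimage_subset_of_isQuasiCompactMor f hX hY hXf hf hlft hqc a b ha hb hda
    have hbe := repWith_mono isOpenImmersion_le_etale'' hb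
    have hgenY := genericPoints_subset_range_of_dense Y hY hYf b hb hdb
    have hw : g.left.resLE V' (g.left ⁻¹ᵁ V') le_rfl ≫ (openOver V V').hom =
        (openOver U (g.left ⁻¹ᵁ V')).hom := by
      change g.left.resLE V' (g.left ⁻¹ᵁ V') le_rfl ≫ V'.ι ≫ V.hom = (g.left ⁻¹ᵁ V').ι ≫ U.hom
      rw [← Category.assoc, Scheme.Hom.resLE_comp_ι, Category.assoc, Over.w]
    have hcomp : (Over.homMk (g.left.resLE V' (g.left ⁻¹ᵁ V') le_rfl) hw :
        openOver U (g.left ⁻¹ᵁ V') ⟶ openOver V V') ≫ openOverι V V' =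
          openOverι U (g.left ⁻¹ᵁ V') ≫ g := by
      ext
      exact Scheme.Hom.resLE_comp_ι _ _
    have hiso' : IsIso (Over.homMk (g.left.resLE V' (g.left ⁻¹ᵁ V') le_rfl) hw :
        openOver U (g.left ⁻¹ᵁ V') ⟶ openOver V V').left := by
      change IsIso (g.left.resLE V' (g.left ⁻¹ᵁ V') le_rfl)
      rw [Scheme.Hom.resLE_eq_morphismRestrict]
      infer_instance
    have hcomm' : ((yon S).map (openOverι U (g.left ⁻¹ᵁ V')) ≫ a) ≫ f.hom =
        (yon S).map (Over.homMk (g.left.resLE V' (g.left ⁻¹ᵁ V') le_rfl) hw :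
          openOver U (g.left ⁻¹ᵁ V') ⟶ openOver V V') ≫ (yon S).map (openOverι V V') ≫ b := by
      rw [Category.assoc, comm, ← Category.assoc, ← Functor.map_comp, ← hcomp, Functor.map_comp,
        Category.assoc]
    refine ⟨openOver V V', (yon S).map (openOverι V V') ≫ b,
      repWith_comp _ (repWith_openImmersion_openOverι V V') hb, ?_, ?_⟩
    · apply dense_of_gen_subset
      intro y hy
      obtain ⟨v, rfl⟩ := hgenY hy
      rw [range_ofPt_openOverι_comp]
      exact ⟨v, hV'gen ((mem_genericPoints_ofPt_iff Y hY b hbe v).1 hy), rfl⟩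
    · intro P fst snd sq
      refine isIso_snd_of_preimage_subset f.hom _ _ _
        (repWith_comp _ (repWith_openImmersion_openOverι U (g.left ⁻¹ᵁ V')) ha)
        (repWith_comp _ (repWith_openImmersion_openOverι V V') hb) hcomm' ?_ fst snd sq
      intro x hx
      rw [range_ofPt_openOverι_comp] at hx ⊢
      obtain ⟨u, rfl⟩ := hV'pre x hx
      obtain ⟨v, hv, hvx⟩ := hx
      refine ⟨u, ?_, rfl⟩
      have h1 : Points.ofPt b (g.left u) = Points.ofPt b v := by
        rw [hvx, Points.map_ofPt, comm, ofPt_yon_map_comp]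
      have h2 := (Groth.Agent.S10397.isOpenEmbedding_ofPt b hb).injective h1
      change g.left u ∈ V'
      rw [h2]
      exact hv
  · exact ⟨V, b, hb, hdb, fun P fst snd sq =>
      isIso_snd_of_preimage_subset f.hom a b g ha hb comm
        (preimage_subset_of_isSeparatedMor f hX hXf a b g ha hb comm hda hsep) fst snd sq⟩

end Groth.Agent.Lib.Helper14.AS
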