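import Groth.Agent.Lib.Helper14.ResInt2

/-!
# Residually integral morphisms at a point: etale morphisms, composition (helper14)
-/

universe u
set_option linter.style.haveILetI false
open CategoryTheory AlgebraicGeometry Polynomial

namespace Groth.Agent.Lib.Helper14.AS

theorem resInt_of_residueField_isIntegral {R S : Type*} [CommRing R] [CommRing S] [IsLocalRing R]
    [IsLocalRing S] (ψ : R →+* S) [IsLocalHom ψ]
    (h : (IsLocalRing.ResidueField.map ψ).IsIntegral) : ResInt ψ := by
  intro z
  obtain ⟨Pbar, hPm, hPz⟩ := h (IsLocalRing.residue S z)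
  obtain ⟨P, hP, -, hPmon⟩ := Polynomial.lifts_and_natDegree_eq_and_monic
    (Polynomial.mem_lifts_of_surjective (f := IsLocalRing.residue R)
      IsLocalRing.residue_surjective Pbar) hPm
  refine ⟨P, hPmon, ?_⟩
  have h1 : IsLocalRing.residue S (P.eval₂ ψ z) = 0 := by
    rw [Polynomial.hom_eval₂, ← IsLocalRing.ResidueField.map_comp_residue, ← Polynomial.eval₂_map,
      hP]
    exact hPz
  rw [IsLocalRing.residue_eq_zero_iff] at h1
  exact (IsLocalRing.mem_maximalIdeal _).1 h1

/-- The stalk maps of a morphism that is unramified and locally of finite type are residually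
integral. -/
theorem resInt_stalkMap_of_formallyUnramified {X Y : Scheme.{u}} (f : X ⟶ Y)
    [FormallyUnramified f] [LocallyOfFiniteType f] (x : X) : ResInt (f.stalkMap x).hom := by
  apply resInt_of_residueField_isIntegral
  letI : Algebra (Y.residueField (f.base x)) (X.residueField x) :=
    (f.residueFieldMap x).hom.toAlgebra
  have hsep : Algebra.IsSeparable (Y.residueField (f.base x)) (X.residueField x) := inferInstance
  have halg : Algebra.IsAlgebraic (Y.residueField (f.base x)) (X.residueField x) :=
    Algebra.IsSeparable.isAlgebraic _ _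
  have hint : Algebra.IsIntegral (Y.residueField (f.base x)) (X.residueField x) :=
    Algebra.IsAlgebraic.isIntegral
  exact algebraMap_isIntegral_iff.2 hint

theorem resInt_toMorphismProperty_respectsIso :
    (RingHom.toMorphismProperty (fun {R S : Type u} [CommRing R] [CommRing S] (f : R →+* S) =>
      ResInt f)).RespectsIso :=
  RingHom.toMorphismProperty_respectsIso_iff.mp resInt_respectsIso.{u}

theorem resInt_comp_isIso_left {R S T : CommRingCat.{u}} (e : R ⟶ S) [IsIso e] (ψ : S ⟶ T) :
    ResInt (e ≫ ψ).hom ↔ ResInt ψ.hom := by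
  have := resInt_toMorphismProperty_respectsIso.{u}
  exact (RingHom.toMorphismProperty (fun f => ResInt f)).cancel_left_of_respectsIso e ψ

theorem resInt_comp_isIso_right {R S T : CommRingCat.{u}} (ψ : R ⟶ S) (e : S ⟶ T) [IsIso e] :
    ResInt (ψ ≫ e).hom ↔ ResInt ψ.hom := by
  have := resInt_toMorphismProperty_respectsIso.{u}
  exact (RingHom.toMorphismProperty (fun f => ResInt f)).cancel_right_of_respectsIso ψ e

/-- Transfer of residual integrality across a commutative square whose left side is an open
immersion, top is etale, and right side induces an isomorphism of local rings. -/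
theorem resInt_stalkMap_of_square {T₁ T U V : Scheme.{u}} (k : T ⟶ V) (g : U ⟶ V)
    (j : T₁ ⟶ T) (e : T₁ ⟶ U) [IsOpenImmersion j] [Etale e] (comm : j ≫ k = e ≫ g) (t₁ : T₁)
    [IsIso (g.stalkMap (e t₁))] : ResInt (k.stalkMap (j t₁)).hom := by
  have h1 : ResInt ((e ≫ g).stalkMap t₁).hom := by
    rw [Scheme.Hom.stalkMap_comp]
    have : IsIso (g.stalkMap (e t₁)) := inferInstance
    exact (@resInt_comp_isIso_left _ _ _ _ this _).2 (resInt_stalkMap_of_formallyUnramified e t₁)
  rw [← comm, Scheme.Hom.stalkMap_comp] at h1
  have : IsIso (j.stalkMap t₁) := inferInstance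
  exact (@resInt_comp_isIso_right _ _ _ _ _ this).1 h1

end Groth.Agent.Lib.Helper14.AS
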