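import Groth.Agent.Lib.Helper14.Birat6
import Groth.Agent.Lib.Helper14.ResInt3

/-!
# Birational morphisms of algebraic spaces, VII: fibres over generic points (helper14)
-/

universe u
set_option linter.style.haveILetI false
open CategoryTheory CategoryTheory.Limits AlgebraicGeometry Opposite Topology

namespace Groth.Agent.Lib.Helper14.AS
open AlgSp Groth.Agent.Lib.Helper24.DecentDim Groth.Agent.Lib.Helper21.Birat
  Groth.Agent.Lib.Helper24.IrrComp

variable {S : Scheme.{u}}

set_option backward.isDefEq.respectTransparency.types false in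
/-- A chart diagram through a point of `X` whose image lies in a given open subscheme of `Y`. -/
theorem exists_chart_over_open {X Y : Sp S} (hX : IsAlgSpace X) (hY : IsAlgSpace Y) (f : X ⟶ Y)
    {V : Over S} (b : (yon S).obj V ⟶ Y) (hb : RepWith @IsOpenImmersion b) (x : Points X)
    (hx : Points.map f x ∈ Set.range (Points.ofPt b)) :
    ∃ (T : Over S) (c : (yon S).obj T ⟶ X) (k : T ⟶ V) (t : ↥T.left), RepWith @Etale c ∧
      c ≫ f = (yon S).map k ≫ b ∧ Points.ofPt c t = x := by
  obtain ⟨v, hv⟩ := hx
  have sq := IsPullback.of_hasPullback f b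
  have hP : IsAlgSpace (pullback f b) :=
    isAlgSpace_of_isPullback (repDiag_of_isAlgSpace hY) hX (IsAlgSpace.yon_obj V) sq
  have e : Points.map f x = Points.map b (Points.ofScheme V v) := by
    rw [← Points.ofPt_eq_map_ofScheme, hv]
  obtain ⟨p, hp1, -⟩ := points_exists_of_isPullback sq x _ e
  obtain ⟨T, q, hqe, hqs⟩ := hP.atlas
  obtain ⟨t, ht⟩ := ofPt_surjective_of_repWith hqs p
  obtain ⟨k, hk⟩ := (yon S).map_surjective (q ≫ pullback.snd f b)
  have hfst : RepWith @IsOpenImmersion (pullback.fst f b) := repWith_of_isPullback _ sq.flip hb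
  refine ⟨T, q ≫ pullback.fst f b, k, t,
    repWith_comp _ hqe (repWith_mono isOpenImmersion_le_etale'' hfst), ?_, ?_⟩
  · rw [Category.assoc, sq.w, ← Category.assoc, hk]
  · rw [← Points.map_ofPt, ht, hp1]

set_option backward.isDefEq.respectTransparency.types false in
/-- For a birational morphism of decent spaces, a point over a generic point of the target is a
generic point of the source. -/
theorem mem_genericPoints_of_map_mem {X Y : Space S} (f : X ⟶ Y)
    (hX : IsDecent X.obj) (hY : IsDecent Y.obj)
    (hf : W4stk3decentspacesp2.IsBirational f.hom)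
    (x : Points X.obj) (hx : Points.map f.hom x ∈ genericPoints (Points Y.obj)) :
    x ∈ genericPoints (Points X.obj) := by
  haveI : T0Space (Points X.obj) := Groth.Agent.S10338.result X hX
  haveI : QuasiSober (Points X.obj) := Groth.Agent.S10339.result X hX
  haveI : T0Space (Points Y.obj) := Groth.Agent.S10338.result Y hY
  obtain ⟨ξ, hξ, hξx⟩ := exists_gen_specializes x
  have hfξ : Points.map f.hom ξ = Points.map f.hom x :=
    eq_of_specializes_gen hx (hξx.map (Points.continuous_map f.hom))
  obtain ⟨U₁, V₁, a₁, b₁, g₁, w, ha₁, hb₁, comm₁, hw, hiso⟩ := hf.stalkIso ξ hξ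
  have hfx : Points.map f.hom x ∈ Set.range (Points.ofPt b₁) := by
    refine ⟨g₁.left w, ?_⟩
    rw [← hfξ, ← hw, Points.map_ofPt, comm₁, ofPt_yon_map_comp]
  obtain ⟨T, c, k, t, hce, commc, rfl⟩ :=
    exists_chart_over_open X.property Y.property f.hom b₁ hb₁ x hfx
  obtain ⟨t', ht's, ht'⟩ := exists_generization_lift_of_isDecent hX c hce hξx
  have hptc : ∀ s : ↥T.left, Points.map f.hom (Points.ofPt c s) = Points.ofPt b₁ (k.left s) := by
    intro s
    rw [Points.map_ofPt, commc, ofPt_yon_map_comp]
  have hkk : k.left t = k.left t' := by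
    apply (Groth.Agent.S10397.isOpenEmbedding_ofPt b₁ hb₁).injective
    rw [← hptc, ← hptc, ht', hfξ]
  -- the fibre product of the two charts of `X`
  have sq := ha₁.rep.isPullback' c
  have hsnd : IsOpenImmersion (ha₁.rep.snd c).left := ha₁.property_snd c
  have hfst : Etale (ha₁.rep.fst' c).left := by
    have : RepWith @Etale ((yon S).map (ha₁.rep.fst' c)) := repWith_of_isPullback _ sq.flip hce
    exact (repWith_yon_map_iff _ _).1 this
  obtain ⟨t₁, ht₁w, ht₁t⟩ := exists_point_of_isPullback_yon sq w t' (hw.trans ht'.symm)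
  have hmono : Mono b₁ := mono_of_openImmersion hb₁
  have hcomm : ha₁.rep.snd c ≫ k = ha₁.rep.fst' c ≫ g₁ := by
    apply (yon S).map_injective
    rw [← cancel_mono b₁, Functor.map_comp, Functor.map_comp, Category.assoc, Category.assoc,
      ← commc, ← comm₁, ← Category.assoc, ← Category.assoc, sq.w]
  have hcomm' : (ha₁.rep.snd c).left ≫ k.left = (ha₁.rep.fst' c).left ≫ g₁.left := by
    rw [← Over.comp_left, ← Over.comp_left, hcomm]
  have hiso' : IsIso (g₁.left.stalkMap ((ha₁.rep.fst' c).left t₁)) := by
    rw [ht₁w]; exact hiso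
  have hres := resInt_stalkMap_of_square k.left g₁.left (ha₁.rep.snd c).left (ha₁.rep.fst' c).left
    hcomm' t₁
  rw [ht₁t] at hres
  have := eq_of_specializes_of_resInt k.left ht's hkk hres
  rw [this, ht']
  exact hξ

end Groth.Agent.Lib.Helper14.AS
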