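import Groth.Agent.Lib.Helper14.Birat7
import Groth.Agent.S9677
import Groth.Agent.Lib.Helper14.AlgSpSect

/-!
# Birational morphisms of algebraic spaces, VIII: base change to the local ring at a generic point
(helper14)
-/

universe u
set_option linter.style.haveILetI false
open CategoryTheory CategoryTheory.Limits AlgebraicGeometry Opposite Topology

namespace Groth.Agent.Lib.Helper14.AS
open AlgSp Groth.Agent.Lib.Helper24.DecentDim Groth.Agent.Lib.Helper21.Birat
  Groth.Agent.Lib.Helper24.IrrComp

variable {S : Scheme.{u}}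

set_option backward.isDefEq.respectTransparency.types false in
theorem isIso_baseChange_specStalk_of_isBirational {X Y : Space S} (f : X ⟶ Y)
    (hX : IsDecent X.obj) (hY : IsDecent Y.obj)
    (hXf : (irreducibleComponents (Points X.obj)).Finite)
    (hYf : (irreducibleComponents (Points Y.obj)).Finite)
    (hf : W4stk3decentspacesp2.IsBirational f.hom) {V : Over S} (b : (yon S).obj V ⟶ Y.obj)
    (hb : RepWith @IsOpenImmersion b) (v : ↥V.left)
    (hv : Points.ofPt b v ∈ genericPoints (Points Y.obj)) {P : Sp S} (fst : P ⟶ X.obj)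
    (snd : P ⟶ (yon S).obj (Over.mk (V.left.fromSpecStalk v ≫ V.hom)))
    (hP : IsPullback fst snd f.hom
      ((yon S).map (Over.homMk (V.left.fromSpecStalk v) rfl) ≫ b)) :
    IsIso snd := by
  have hbe := repWith_mono isOpenImmersion_le_etale'' hb
  have hvgen : closure {v} ∈ irreducibleComponents ↥V.left :=
    (mem_genericPoints_ofPt_iff Y hY b hbe v).1 hv
  obtain ⟨W, a, g, ha, comm, hWf, hVf, hbij, hiso, hlast⟩ :=
    exists_birational_chart f hX hY hXf hYf hf b hb
  have hsch : IsIso (pullback.snd g.left (V.left.fromSpecStalk v)) :=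
    Groth.Agent.S9677.result g.left hWf hVf hbij hiso v hvgen
  -- the scheme pullback as an object over `S`
  obtain ⟨D, hD⟩ : ∃ D : Over S, D = Over.mk (V.left.fromSpecStalk v ≫ V.hom) := ⟨_, rfl⟩
  obtain ⟨ιv, hιv⟩ : ∃ ιv : Over.mk (V.left.fromSpecStalk v ≫ V.hom) ⟶ V,
    ιv = Over.homMk (V.left.fromSpecStalk v) rfl := ⟨_, rfl⟩
  rw [← hιv] at hP
  have hw2 : pullback.snd g.left (V.left.fromSpecStalk v) ≫
      (Over.mk (V.left.fromSpecStalk v ≫ V.hom)).hom =
      (Over.mk (pullback.fst g.left (V.left.fromSpecStalk v) ≫ W.hom)).hom := by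
    change pullback.snd g.left (V.left.fromSpecStalk v) ≫ V.left.fromSpecStalk v ≫ V.hom =
      pullback.fst g.left (V.left.fromSpecStalk v) ≫ W.hom
    rw [← Category.assoc, ← pullback.condition, Category.assoc, Over.w]
  obtain ⟨pr₁, hpr₁⟩ : ∃ pr₁ : Over.mk (pullback.fst g.left (V.left.fromSpecStalk v) ≫ W.hom) ⟶ W,
    pr₁ = Over.homMk (pullback.fst g.left (V.left.fromSpecStalk v)) rfl := ⟨_, rfl⟩
  obtain ⟨pr₂, hpr₂⟩ : ∃ pr₂ : Over.mk (pullback.fst g.left (V.left.fromSpecStalk v) ≫ W.hom) ⟶
      Over.mk (V.left.fromSpecStalk v ≫ V.hom),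
    pr₂ = Over.homMk (pullback.snd g.left (V.left.fromSpecStalk v)) hw2 := ⟨_, rfl⟩
  have hcommO : pr₁ ≫ g = pr₂ ≫ ιv := by
    ext
    rw [hpr₁, hpr₂, hιv]
    exact pullback.condition
  have sqO : IsPullback pr₁ pr₂ g ιv := by
    apply IsPullback.of_map (Over.forget S) hcommO
    rw [hpr₁, hpr₂, hιv]
    exact IsPullback.of_hasPullback g.left (V.left.fromSpecStalk v)
  have sqY := sqO.map (yon S)
  have hpr₂iso : IsIso pr₂ := by
    have : IsIso ((Over.forget S).map pr₂) := by
      rw [hpr₂]
      exact hsch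
    exact isIso_of_reflects_iso pr₂ (Over.forget S)
  have hypr₂ : IsIso ((yon S).map pr₂) := inferInstance
  have hbmono : Mono b := mono_of_openImmersion hb
  -- the comparison map
  have hmcond : ((yon S).map pr₁ ≫ a) ≫ f.hom = (yon S).map pr₂ ≫ (yon S).map ιv ≫ b := by
    rw [Category.assoc, comm, ← Category.assoc, sqY.w, Category.assoc]
  have hm1 : hP.lift ((yon S).map pr₁ ≫ a) ((yon S).map pr₂) hmcond ≫ fst =
      (yon S).map pr₁ ≫ a := hP.lift_fst _ _ _
  have hm2 : hP.lift ((yon S).map pr₁ ≫ a) ((yon S).map pr₂) hmcond ≫ snd =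
      (yon S).map pr₂ := hP.lift_snd _ _ _
  have sqm : IsPullback ((yon S).map pr₁)
      (hP.lift ((yon S).map pr₁ ≫ a) ((yon S).map pr₂) hmcond) a fst := by
    refine isPullback_of_exists_unique hm1.symm ?_ ?_
    · intro T α β hαβ
      have hc : α ≫ (yon S).map g = (β ≫ snd) ≫ (yon S).map ιv := by
        rw [← cancel_mono b, Category.assoc, Category.assoc, ← comm, ← Category.assoc, hαβ,
          Category.assoc, Category.assoc, hP.w]
      refine ⟨sqY.lift α (β ≫ snd) hc, sqY.lift_fst _ _ _, ?_⟩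
      apply hP.hom_ext
      · rw [Category.assoc, hm1, ← Category.assoc, sqY.lift_fst, hαβ]
      · rw [Category.assoc, hm2, sqY.lift_snd]
    · intro T z z' h1 h2
      apply sqY.hom_ext h1
      rw [← hm2, ← Category.assoc, h2, Category.assoc]
  have hmo : RepWith @IsOpenImmersion
      (hP.lift ((yon S).map pr₁ ≫ a) ((yon S).map pr₂) hmcond) :=
    repWith_of_isPullback _ sqm ha
  have hsurj : Function.Surjective
      (Points.map (hP.lift ((yon S).map pr₁ ≫ a) ((yon S).map pr₂) hmcond)) := by
    intro p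
    -- the image of `p` in `Y` is the generic point
    obtain ⟨d, hd⟩ := (Points.schemeHomeo (Over.mk (V.left.fromSpecStalk v ≫ V.hom))).surjective
      (Points.map snd p)
    have hιd : ιv.left d = v := by
      apply eq_of_specializes_gen hvgen
      have : ιv.left d ∈ Set.range (V.left.fromSpecStalk v) := by
        rw [hιv]; exact ⟨d, rfl⟩
      rw [Scheme.range_fromSpecStalk] at this
      exact this
    have hfp : Points.map f.hom (Points.map fst p) = Points.ofPt b v := by
      rw [← Points.map_comp, hP.w, Points.map_comp, ← hd]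
      change Points.map ((yon S).map ιv ≫ b) (Points.ofScheme _ d) = _
      rw [← Points.ofPt_eq_map_ofScheme, ofPt_yon_map_comp, hιd]
    have hgen : Points.map fst p ∈ genericPoints (Points X.obj) :=
      mem_genericPoints_of_map_mem f hX hY hf _ (hfp ▸ hv)
    obtain ⟨w, hw⟩ := hlast _ hgen ⟨v, hfp.symm⟩
    have e : Points.map a (Points.ofScheme W w) = Points.map fst p := by
      rw [← Points.ofPt_eq_map_ofScheme, hw]
    obtain ⟨z, -, hz⟩ := points_exists_of_isPullback sqm _ _ e
    exact ⟨z, hz⟩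
  have := isIso_of_openImmersion_of_surjective hmo hsurj
  have hsnd : snd = inv (hP.lift ((yon S).map pr₁ ≫ a) ((yon S).map pr₂) hmcond) ≫
      (yon S).map pr₂ := by
    rw [IsIso.eq_inv_comp, hm2]
  rw [hsnd]
  infer_instance

end Groth.Agent.Lib.Helper14.AS
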