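import Mathlib
import Groth.Agent.Lib.Helper10.FibreProductStalk

/-!
# Scheme-level lemmas on base change to local rings (helper14)
-/

universe u
set_option linter.style.haveILetI false
open CategoryTheory CategoryTheory.Limits AlgebraicGeometry

namespace Groth.Agent.Lib.Helper14.AS

set_option backward.isDefEq.respectTransparency.types false in
/-- A flat morphism which is surjective on stalks induces isomorphisms on stalks. -/
theorem isIso_stalkMap_of_flat_of_surjectiveOnStalks {A B : Scheme.{u}} (k : A ⟶ B)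
    [SurjectiveOnStalks k] [Flat k] (a : A) : IsIso (k.stalkMap a) := by
  rw [ConcreteCategory.isIso_iff_bijective]
  refine ⟨?_, k.stalkMap_surjective a⟩
  algebraize [(k.stalkMap a).hom]
  have : Module.FaithfullyFlat (B.presheaf.stalk (k a)) (A.presheaf.stalk a) :=
    @Module.FaithfullyFlat.of_flat_of_isLocalHom _ _ _ _ _ _ _
      (Flat.stalkMap k a) (k.toLRSHom.prop a)
  exact ‹RingHom.FaithfullyFlat _›.injective

/-- If the base change of `h` to the local ring at `h r` is an isomorphism then `h` induces an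
isomorphism of local rings at `r`. -/
theorem isIso_stalkMap_of_isIso_snd_fromSpecStalk {R V : Scheme.{u}} (h : R ⟶ V) (r : R)
    [IsIso (pullback.snd h (V.fromSpecStalk (h r)))] : IsIso (h.stalkMap r) := by
  haveI : Flat (V.fromSpecStalk (h r)) :=
    Groth.Agent.Lib.Helper10.FibreProductStalk.flat_fromSpecStalk V (h r)
  obtain ⟨q, hq1, hq2⟩ := Scheme.Pullback.exists_preimage_pullback (f := h)
    (g := V.fromSpecStalk (h r)) r (IsLocalRing.closedPoint _)
    (Scheme.fromSpecStalk_closedPoint).symm
  have h1 : IsIso ((pullback.snd h (V.fromSpecStalk (h r)) ≫ V.fromSpecStalk (h r)).stalkMap q) := by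
    rw [Scheme.Hom.stalkMap_comp]
    have i1 : IsIso ((V.fromSpecStalk (h r)).stalkMap (pullback.snd h (V.fromSpecStalk (h r)) q)) :=
      isIso_stalkMap_of_flat_of_surjectiveOnStalks _ _
    have i2 : IsIso ((pullback.snd h (V.fromSpecStalk (h r))).stalkMap q) := inferInstance
    exact @IsIso.comp_isIso _ _ _ _ _ _ _ i1 i2
  rw [← pullback.condition, Scheme.Hom.stalkMap_comp] at h1
  have h2 : IsIso ((pullback.fst h (V.fromSpecStalk (h r))).stalkMap q) :=
    isIso_stalkMap_of_flat_of_surjectiveOnStalks _ _
  have h3 : IsIso (h.stalkMap (pullback.fst h (V.fromSpecStalk (h r)) q)) :=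
    @IsIso.of_isIso_comp_right _ _ _ _ _ _ ((pullback.fst h (V.fromSpecStalk (h r))).stalkMap q)
      h2 h1
  rw [hq1] at h3
  exact h3

/-- If the base change of `h` to the local ring at `v` is an isomorphism then the fibre of `h`
over `v` has at most one point. -/
theorem eq_of_isIso_snd_fromSpecStalk {R V : Scheme.{u}} (h : R ⟶ V) (v : V)
    [IsIso (pullback.snd h (V.fromSpecStalk v))] {r₁ r₂ : R} (h₁ : h r₁ = v) (h₂ : h r₂ = v) :
    r₁ = r₂ := by
  obtain ⟨q₁, hq11, hq12⟩ := Scheme.Pullback.exists_preimage_pullback (f := h)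
    (g := V.fromSpecStalk v) r₁ (IsLocalRing.closedPoint _)
    (h₁.trans (Scheme.fromSpecStalk_closedPoint).symm)
  obtain ⟨q₂, hq21, hq22⟩ := Scheme.Pullback.exists_preimage_pullback (f := h)
    (g := V.fromSpecStalk v) r₂ (IsLocalRing.closedPoint _)
    (h₂.trans (Scheme.fromSpecStalk_closedPoint).symm)
  have hinj : Function.Injective (pullback.snd h (V.fromSpecStalk v)) :=
    (Scheme.homeoOfIso (asIso (pullback.snd h (V.fromSpecStalk v)))).injective
  have : q₁ = q₂ := hinj (hq12.trans hq22.symm)
  rw [← hq11, ← hq21, this]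

/-- Base change of the previous property along an arbitrary morphism. -/
theorem isIso_snd_fromSpecStalk_of_isPullback {W Y V R : Scheme.{u}} {g : W ⟶ Y} {e : V ⟶ Y}
    {prW : R ⟶ W} {prV : R ⟶ V} (sq : IsPullback prW prV g e) (v : V)
    [IsIso (pullback.snd g (Y.fromSpecStalk (e v)))] :
    IsIso (pullback.snd prV (V.fromSpecStalk v)) := by
  -- the pullback of the isomorphism along `Spec.map (e.stalkMap v)`
  have sqA := IsPullback.of_hasPullback g (Y.fromSpecStalk (e v))
  have sqB := IsPullback.of_hasPullback (pullback.snd g (Y.fromSpecStalk (e v)))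
    (Spec.map (e.stalkMap v))
  have hB : IsIso (pullback.snd (pullback.snd g (Y.fromSpecStalk (e v)))
      (Spec.map (e.stalkMap v))) := inferInstance
  have big := sqB.paste_horiz sqA
  have hbot : Spec.map (e.stalkMap v) ≫ Y.fromSpecStalk (e v) = V.fromSpecStalk v ≫ e :=
    Scheme.SpecMap_stalkMap_fromSpecStalk e
  rw [hbot] at big
  have hcond : (pullback.fst (pullback.snd g (Y.fromSpecStalk (e v))) (Spec.map (e.stalkMap v)) ≫
      pullback.fst g (Y.fromSpecStalk (e v))) ≫ g =
      (pullback.snd (pullback.snd g (Y.fromSpecStalk (e v))) (Spec.map (e.stalkMap v)) ≫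
        V.fromSpecStalk v) ≫ e := by
    rw [big.w, Category.assoc]
  have big' : IsPullback (sq.lift _ _ hcond ≫ prW)
      (pullback.snd (pullback.snd g (Y.fromSpecStalk (e v))) (Spec.map (e.stalkMap v))) g
      (V.fromSpecStalk v ≫ e) := by
    rw [sq.lift_fst]
    exact big
  have left := IsPullback.of_right big' (sq.lift_snd _ _ hcond) sq
  rw [← left.isoPullback_inv_snd]
  infer_instance

end Groth.Agent.Lib.Helper14.AS
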