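import Groth.Agent.Lib.Helper14.LocFinIrr
import Groth.Agent.Lib.Helper24.DecentDim
import Groth.Agent.Lib.Helper14.AlgSpQCMor
import Groth.Agent.Lib.Helper14.AlgSpDim

/-!
# Equivalent forms of "locally finitely many irreducible components" (helper14)
-/

universe u
open CategoryTheory CategoryTheory.Limits AlgebraicGeometry Opposite TopologicalSpace
open AlgSp

namespace Groth.Agent.Lib.Helper14.AS

open Groth.Agent.S13834

theorem finite_irreducibleComponents_of_surjective {A B : Type*} [TopologicalSpace A]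
    [TopologicalSpace B] (f : A → B) (hc : Continuous f) (hs : Function.Surjective f)
    (hA : (irreducibleComponents A).Finite) : (irreducibleComponents B).Finite := by
  classical
  refine (hA.image (fun Z => closure (f '' Z))).subset ?_
  intro T hT
  have hcov : T ⊆ ⋃₀ ↑(hA.toFinset.image (fun Z => closure (f '' Z))) := by
    intro b _
    obtain ⟨a, rfl⟩ := hs b
    refine Set.mem_sUnion.2 ⟨closure (f '' irreducibleComponent a), ?_,
      subset_closure ⟨a, mem_irreducibleComponent, rfl⟩⟩
    rw [Finset.coe_image]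
    exact ⟨_, hA.mem_toFinset.2 (irreducibleComponent_mem_irreducibleComponents a), rfl⟩
  obtain ⟨z, hz, hTz⟩ := isIrreducible_iff_sUnion_isClosed.mp hT.1
    (hA.toFinset.image (fun Z => closure (f '' Z))) (by
      intro z hz
      obtain ⟨Z, -, rfl⟩ := Finset.mem_image.1 hz
      exact isClosed_closure) hcov
  obtain ⟨Z, hZ, rfl⟩ := Finset.mem_image.1 hz
  have hZ' : Z ∈ irreducibleComponents A := hA.mem_toFinset.1 hZ
  have hirr : IsIrreducible (closure (f '' Z)) := (hZ'.1.image f hc.continuousOn).closure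
  exact ⟨Z, hZ', (hT.2 hirr hTz).antisymm hTz |>.symm ▸ rfl⟩

/-- The property: quasi-compact opens have finitely many irreducible components. -/
abbrev LFIC (U : Scheme.{u}) : Prop :=
  ∀ W : U.Opens, IsCompact (W : Set ↥U) → (irreducibleComponents ↥W).Finite

/-- descent of `LFIC` along open surjective morphisms -/
theorem lfic_of_open_surjective {W' U : Scheme.{u}} (f : W' ⟶ U) (ho : IsOpenMap f)
    (hs : Function.Surjective f) (h : LFIC W') : LFIC U := by
  intro W hW
  -- cover the preimage of `W` by affine opens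
  have hcov : (W : Set ↥U) ⊆ ⋃ (V : {V : W'.Opens // IsAffineOpen V ∧ V ≤ f ⁻¹ᵁ W}),
      f '' (V.1 : Set ↥W') := by
    intro x hx
    obtain ⟨y, rfl⟩ := hs x
    obtain ⟨_, ⟨V, hV, rfl⟩, hyV, hVW⟩ := W'.isBasis_affineOpens.exists_subset_of_mem_open
      (show y ∈ ((f ⁻¹ᵁ W : W'.Opens) : Set ↥W') from hx) (f ⁻¹ᵁ W).2
    exact Set.mem_iUnion.2 ⟨⟨V, hV, hVW⟩, y, hyV, rfl⟩
  obtain ⟨t, ht⟩ := hW.elim_finite_subcover _ (fun V => ho _ V.1.2) hcov
  let W'' : W'.Opens := ⨆ V ∈ t, V.1
  have hW''c : IsCompact (W'' : Set ↥W') := by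
    have : (W'' : Set ↥W') = ⋃ V ∈ t, (V.1 : Set ↥W') := by
      simp [W'']
    rw [this]
    exact t.finite_toSet.isCompact_biUnion fun V _ => V.2.1.isCompact
  have hW''le : W'' ≤ f ⁻¹ᵁ W := iSup₂_le fun V _ => V.2.2
  have hfin := h W'' hW''c
  let φ : ↥W'' → ↥W := fun y => ⟨f y.1, hW''le y.2⟩
  have hφc : Continuous φ := (f.continuous.comp continuous_subtype_val).subtype_mk _
  have hφs : Function.Surjective φ := by
    rintro ⟨x, hx⟩
    obtain ⟨V, hVt, y, hyV, rfl⟩ := Set.mem_iUnion₂.1 (ht hx)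
    refine ⟨⟨y, ?_⟩, rfl⟩
    exact (le_iSup₂ (f := fun V (_ : V ∈ t) => V.1) V hVt) hyV
  exact finite_irreducibleComponents_of_surjective φ hφc hφs hfin

variable {S : Scheme.{u}}

set_option backward.isDefEq.respectTransparency.types false in
/-- (1) → (2) -/
theorem lfic_chart_of_etaleLocally {X : Sp S}
    (h : EtaleLocally (fun U => LFIC U) X) {U : Over S} (a : (yon S).obj U ⟶ X)
    (ha : RepWith @Etale a) : LFIC U.left := by
  obtain ⟨V₀, b, hbe, hbs, hV₀⟩ := h
  have sq := hbe.rep.isPullback' a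
  have hsndE : Etale (hbe.rep.snd a).left := hbe.property_snd a
  have hsndS : Surjective (hbe.rep.snd a).left := hbs.property_snd a
  have hfstE : Etale (hbe.rep.fst' a).left := by
    have : RepWith @Etale ((yon S).map (hbe.rep.fst' a)) := repWith_of_isPullback _ sq.flip ha
    exact (repWith_yon_map_iff _ _).1 this
  have h1 : LFIC (hbe.rep.pullback a).left :=
    finite_irreducibleComponents_of_flat_lft (hbe.rep.fst' a).left hV₀
  exact lfic_of_open_surjective (hbe.rep.snd a).left (hbe.rep.snd a).left.isOpenMap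
    (hbe.rep.snd a).left.surjective h1

end Groth.Agent.Lib.Helper14.AS

namespace Groth.Agent.Lib.Helper14.AS

open Groth.Agent.S13834

variable {S : Scheme.{u}}

/-- irreducible components of `|h_T|` and of `T` -/
theorem finite_irreducibleComponents_points_yon_iff (T : Over S) :
    (irreducibleComponents (Points ((yon S).obj T))).Finite ↔
      (irreducibleComponents ↥T.left).Finite :=
  ⟨finite_irreducibleComponents_of_homeomorph (Points.schemeHomeo T).symm,
    finite_irreducibleComponents_of_homeomorph (Points.schemeHomeo T)⟩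

theorem finite_irreducibleComponents_top_iff (U : Scheme.{u}) :
    (irreducibleComponents ↥(⊤ : U.Opens)).Finite ↔ (irreducibleComponents ↥U).Finite := by
  let e : ↥(⊤ : U.Opens) ≃ₜ ↥U := (Homeomorph.Set.univ ↥U)
  exact ⟨finite_irreducibleComponents_of_homeomorph e,
    finite_irreducibleComponents_of_homeomorph e.symm⟩

/-- the points of codimension `0` of `|h_T|` are the generic points of irreducible components -/
theorem setOf_hasAt_codimZero_yon (T : Over S) :
    {y : Points ((yon S).obj T) |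
      HasAt (fun U u => ringKrullDim ↥(U.presheaf.stalk u) = 0) ((yon S).obj T) y} =
      genericPoints (Points ((yon S).obj T)) := by
  ext y
  have h := Groth.Agent.Lib.Helper24.DecentDim.generic_iff_dim_zero
    (⟨(yon S).obj T, IsAlgSpace.yon_obj T⟩ : Space S) (isDecent_yon T) y
  rw [Set.mem_setOf_eq, ← h]
  constructor
  · rintro ⟨Z, hZ, hy⟩
    change closure {y} ∈ irreducibleComponents _
    rw [hy.def]
    exact hZ
  · intro hy
    exact ⟨closure {y}, hy, rfl⟩

theorem finite_codimZero_yon_iff (T : Over S) :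
    {y : Points ((yon S).obj T) |
      HasAt (fun U u => ringKrullDim ↥(U.presheaf.stalk u) = 0) ((yon S).obj T) y}.Finite ↔
      (irreducibleComponents ↥T.left).Finite := by
  rw [setOf_hasAt_codimZero_yon, ← finite_irreducibleComponents_points_yon_iff]
  have : T0Space (Points ((yon S).obj T)) :=
    Groth.Agent.S10338.result (⟨(yon S).obj T, IsAlgSpace.yon_obj T⟩ : Space S) (isDecent_yon T)
  have : QuasiSober (Points ((yon S).obj T)) :=
    Groth.Agent.S10339.result (⟨(yon S).obj T, IsAlgSpace.yon_obj T⟩ : Space S) (isDecent_yon T)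
  constructor
  · intro h
    have : Finite (genericPoints (Points ((yon S).obj T))) := h
    exact Set.finite_coe_iff.1 (Finite.of_surjective _ genericPoints.component_surjective)
  · intro h
    exact genericPoints.finite h

end Groth.Agent.Lib.Helper14.AS

namespace Groth.Agent.Lib.Helper14.AS

open Groth.Agent.S13834

variable {S : Scheme.{u}}

set_option backward.isDefEq.respectTransparency.types false in
/-- a quasi-compact open of a chart as a quasi-compact space etale over `X` -/
theorem exists_qc_etale_of_open {X : Space S} {V₀ : Over S} (b : (yon S).obj V₀ ⟶ X.obj)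
    (hbe : RepWith @Etale b) (W : V₀.left.Opens) (hW : IsCompact (W : Set ↥V₀.left)) :
    ∃ (Y : Space S) (g : Y ⟶ X), IsEtaleMor g.hom ∧ IsQuasiCompactSp Y.obj ∧
      Y.obj = (yon S).obj (openSub V₀ W) := by
  have hg : RepWith @Etale ((yon S).map (openSubι V₀ W) ≫ b) :=
    repWith_comp _ (repWith_etale_openSubι V₀ W) hbe
  refine ⟨⟨(yon S).obj (openSub V₀ W), IsAlgSpace.yon_obj _⟩,
    ObjectProperty.homMk ((yon S).map (openSubι V₀ W) ≫ b),
    fun T φ hφ => repWith_comp _ hφ hg, ?_, rfl⟩
  rw [isQuasiCompactSp_yon_iff]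
  exact isCompact_iff_compactSpace.mp hW

set_option backward.isDefEq.respectTransparency.types false in
theorem locFiniteIrredComp_tfae (X : Space S) :
    (EtaleLocally (fun U => ∀ W : U.Opens, IsCompact (W : Set ↥U) →
        (irreducibleComponents ↥W).Finite) X.obj ↔
      ∀ (U : Over S) (a : (yon S).obj U ⟶ X.obj), RepWith @Etale a →
        ∀ W : U.left.Opens, IsCompact (W : Set ↥U.left) → (irreducibleComponents ↥W).Finite) ∧
    (EtaleLocally (fun U => ∀ W : U.Opens, IsCompact (W : Set ↥U) →
        (irreducibleComponents ↥W).Finite) X.obj ↔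
      ∀ (Y : Space S) (g : Y ⟶ X), IsEtaleMor g.hom → IsQuasiCompactSp Y.obj →
        {y : Points Y.obj |
          HasAt (fun U u => ringKrullDim ↥(U.presheaf.stalk u) = 0) Y.obj y}.Finite) ∧
    (EtaleLocally (fun U => ∀ W : U.Opens, IsCompact (W : Set ↥U) →
        (irreducibleComponents ↥W).Finite) X.obj ↔
      ∀ (Y : Space S) (g : Y ⟶ X), IsEtaleMor g.hom → IsQuasiCompactSp Y.obj →
        (irreducibleComponents (Points Y.obj)).Finite) := by
  -- a quasi-compact chart of a quasi-compact space etale over `X` has finitely many components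
  have key : EtaleLocally (fun U => LFIC U) X.obj → ∀ (Y : Space S) (g : Y ⟶ X),
      IsEtaleMor g.hom → ∀ (U₁ : Over S) (c : (yon S).obj U₁ ⟶ Y.obj), RepWith @Etale c →
      CompactSpace ↥U₁.left → (irreducibleComponents ↥U₁.left).Finite := by
    intro h Y g hg U₁ c hce hU₁
    have h1 : LFIC U₁.left := lfic_chart_of_etaleLocally h (c ≫ g.hom) (hg c hce)
    rw [← finite_irreducibleComponents_top_iff]
    exact h1 ⊤ (by
      have : ((⊤ : U₁.left.Opens) : Set ↥U₁.left) = Set.univ := rfl
      rw [this]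
      exact isCompact_univ)
  refine ⟨⟨fun h U a ha => lfic_chart_of_etaleLocally h a ha, fun h => ?_⟩,
    ⟨fun h Y g hg hqc => ?_, fun h => ?_⟩, ⟨fun h Y g hg hqc => ?_, fun h => ?_⟩⟩
  · obtain ⟨V₀, b, hbe, hbs⟩ := X.2.atlas
    exact ⟨V₀, b, hbe, hbs, h V₀ b hbe⟩
  · obtain ⟨U₁, c, hce, hcs, hU₁⟩ := hqc
    have hfin := key h Y g hg U₁ c hce hU₁
    have h2 : {u : ↥U₁.left | ringKrullDim ↥(U₁.left.presheaf.stalk u) = 0}.Finite := by
      have h3 := (finite_codimZero_yon_iff U₁).2 hfin
      refine (h3.preimage (f := Points.ofScheme U₁)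
        (Points.schemeHomeo U₁).injective.injOn).subset ?_
      intro u hu
      exact ⟨U₁, 𝟙 _, u, repWith_id _ _, rfl, hu⟩
    refine (h2.image (Points.ofPt c)).subset ?_
    rintro y ⟨U', a', u', ha', hu', hdim⟩
    obtain ⟨u, rfl⟩ := ofPt_surjective_of_repWith hcs y
    refine ⟨u, ?_, rfl⟩
    change ringKrullDim ↥(U₁.left.presheaf.stalk u) = 0
    rw [ringKrullDim_stalk_chart_indep c hce a' ha' u u' hu'.symm]
    exact hdim
  · obtain ⟨V₀, b, hbe, hbs⟩ := X.2.atlas
    refine ⟨V₀, b, hbe, hbs, fun W hW => ?_⟩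
    obtain ⟨Y, g, hg, hqc, hY⟩ := exists_qc_etale_of_open b hbe W hW
    have h1 := h Y g hg hqc
    obtain ⟨Y₀, hY₀⟩ := Y
    subst hY
    exact (finite_codimZero_yon_iff (openSub V₀ W)).1 h1
  · obtain ⟨U₁, c, hce, hcs, hU₁⟩ := hqc
    have hfin := key h Y g hg U₁ c hce hU₁
    exact finite_irreducibleComponents_of_surjective (Points.ofPt c) (Points.continuous_ofPt c)
      (ofPt_surjective_of_repWith hcs) hfin
  · obtain ⟨V₀, b, hbe, hbs⟩ := X.2.atlas
    refine ⟨V₀, b, hbe, hbs, fun W hW => ?_⟩
    obtain ⟨Y, g, hg, hqc, hY⟩ := exists_qc_etale_of_open b hbe W hW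
    have h1 := h Y g hg hqc
    obtain ⟨Y₀, hY₀⟩ := Y
    subst hY
    exact (finite_irreducibleComponents_points_yon_iff (openSub V₀ W)).1 h1

end Groth.Agent.Lib.Helper14.AS
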