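import Groth.Agent.Lib.Helper14.Birat8
import Groth.Agent.Lib.Helper14.BiratSch
import Groth.Agent.Lib.Helper14.FpqcBase4
import Groth.Agent.Lib.Helper14.LocFinIrr2

/-!
# Birational morphisms of algebraic spaces, IX: etale base change (helper14)
-/

universe u
set_option linter.style.haveILetI false
open CategoryTheory CategoryTheory.Limits AlgebraicGeometry Opposite Topology

namespace Groth.Agent.Lib.Helper14.AS
open AlgSp Groth.Agent.Lib.Helper24.DecentDim Groth.Agent.Lib.Helper21.Birat
  Groth.Agent.Lib.Helper24.IrrComp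

variable {S : Scheme.{u}}

theorem finite_irreducibleComponents_of_finite_genericPoints {α : Type*} [TopologicalSpace α]
    [QuasiSober α] (h : (genericPoints α).Finite) : (irreducibleComponents α).Finite := by
  have : Finite (genericPoints α) := h
  have : Finite (irreducibleComponents α) :=
    Finite.of_surjective _ (genericPoints.component_surjective (α := α))
  exact Set.toFinite _

/-- An affine etale chart of a decent space with finitely many irreducible components has finitely
many irreducible components. -/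
theorem finite_irreducibleComponents_affine_chart (Y : Space S) (hY : IsDecent Y.obj)
    (hYf : (irreducibleComponents (Points Y.obj)).Finite) {V : Over S} [IsAffine V.left]
    (b : (yon S).obj V ⟶ Y.obj) (hb : RepWith @Etale b) :
    (irreducibleComponents ↥V.left).Finite := by
  haveI : T0Space (Points Y.obj) := Groth.Agent.S10338.result Y hY
  apply finite_irreducibleComponents_of_finite_genericPoints
  have hfin : (⋃ y ∈ genericPoints (Points Y.obj), Points.ofPt b ⁻¹' {y}).Finite :=
    (genericPoints.finite hYf).biUnion fun y _ => finite_fibre_of_isDecent hY y V b inferInstance hb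
  refine hfin.subset ?_
  intro v hv
  simp only [Set.mem_iUnion]
  exact ⟨Points.ofPt b v, (mem_genericPoints_ofPt_iff Y hY b hb v).2 hv, rfl⟩

end Groth.Agent.Lib.Helper14.AS

namespace Groth.Agent.Lib.Helper14.AS
open AlgSp Groth.Agent.Lib.Helper24.DecentDim Groth.Agent.Lib.Helper21.Birat
  Groth.Agent.Lib.Helper24.IrrComp

variable {S : Scheme.{u}}

set_option backward.isDefEq.respectTransparency.types false in
theorem mem_genericPoints_ofScheme_iff (V : Over S) (v : ↥V.left) :
    Points.ofScheme V v ∈ genericPoints (Points ((yon S).obj V)) ↔ v ∈ genericPoints ↥V.left :=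
  mem_genericPoints_ofPt_iff (⟨(yon S).obj V, IsAlgSpace.yon_obj V⟩ : Space S) (isDecent_yon V)
    (𝟙 _) (repWith_id (@Etale) V) v

theorem ofPt_yon_map {T T' : Over S} (φ : T ⟶ T') (t : ↥T.left) :
    Points.ofPt ((yon S).map φ) t = Points.ofScheme T' (φ.left t) := by
  have := ofPt_yon_map_comp φ (𝟙 ((yon S).obj T')) t
  rwa [Category.comp_id] at this

set_option backward.isDefEq.respectTransparency.types false in
theorem isBirational_baseChange_affine_etale {X Y : Space S} (f : X ⟶ Y)
    (hX : IsDecent X.obj) (hY : IsDecent Y.obj)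
    (hXf : (irreducibleComponents (Points X.obj)).Finite)
    (hYf : (irreducibleComponents (Points Y.obj)).Finite)
    (hf : W4stk3decentspacesp2.IsBirational f.hom) {V : Over S} [IsAffine V.left]
    (b : (yon S).obj V ⟶ Y.obj) (hb : RepWith @Etale b) {P : Sp S} (fst : P ⟶ X.obj)
    (snd : P ⟶ (yon S).obj V) (hP : IsPullback fst snd f.hom b) :
    IsDecent P ∧ (irreducibleComponents (Points P)).Finite ∧
      (irreducibleComponents (Points ((yon S).obj V))).Finite ∧
        W4stk3decentspacesp2.IsBirational snd := by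
  haveI : T0Space (Points Y.obj) := Groth.Agent.S10338.result Y hY
  have hPalg : IsAlgSpace P :=
    isAlgSpace_of_isPullback (repDiag_of_isAlgSpace Y.property) X.property (IsAlgSpace.yon_obj V) hP
  have hfste : RepWith @Etale fst := repWith_of_isPullback _ hP.flip hb
  have hfstEt : IsEtaleMor fst := isEtaleMor_of_repWith_etale hfste
  have hPd : IsDecent P := isDecent_of_isEtaleMor hPalg X.property fst hfstEt hX
  haveI : T0Space (Points P) := Groth.Agent.S10338.result ⟨P, hPalg⟩ hPd
  haveI : QuasiSober (Points P) := Groth.Agent.S10339.result ⟨P, hPalg⟩ hPd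
  haveI : T0Space (Points ((yon S).obj V)) :=
    Groth.Agent.S10338.result ⟨(yon S).obj V, IsAlgSpace.yon_obj V⟩ (isDecent_yon V)
  have hVf := finite_irreducibleComponents_affine_chart Y hY hYf b hb
  have hVf' : (irreducibleComponents (Points ((yon S).obj V))).Finite :=
    (finite_irreducibleComponents_points_yon_iff V).2 hVf
  have hgenP : ∀ p : Points P, p ∈ genericPoints (Points P) ↔
      Points.map fst p ∈ genericPoints (Points X.obj) := by
    intro p
    rw [mem_genericPoints_iff_exists, mem_genericPoints_iff_exists]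
    exact generic_iff_of_etale (X := X) (Y := ⟨P, hPalg⟩) hX (ObjectProperty.homMk fst) hfstEt p
  -- dense open subscheme of `Y` and the birational chart over it
  obtain ⟨Y', jY, hjY, hdY, -, -⟩ := (Groth.Agent.S10397.result Y).1 ⟨hY, hYf⟩
  have hgenY := genericPoints_subset_range_of_dense Y hY hYf jY hjY hdY
  obtain ⟨W, a, g, ha, comm, hWf, hY'f, hbij, hiso, hlast⟩ :=
    exists_birational_chart f hX hY hXf hYf hf jY hjY
  have hjYe := repWith_mono isOpenImmersion_le_etale'' hjY
  -- the open `V'` of `V` over `Y'`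
  have sqV := hjY.rep.isPullback' b
  have ho : IsOpenImmersion (hjY.rep.snd b).left := hjY.property_snd b
  have hoY : RepWith @IsOpenImmersion ((yon S).map (hjY.rep.snd b)) :=
    (repWith_yon_map_iff _ _).2 ho
  obtain ⟨V', e, o, hV'⟩ : ∃ (V' : Over S) (e : V' ⟶ Y') (o : V' ⟶ V),
      IsPullback ((yon S).map e) ((yon S).map o) jY b ∧
      RepWith @IsOpenImmersion ((yon S).map o) := ⟨_, _, _, sqV, hoY⟩
  obtain ⟨sqV, hoY⟩ := hV'
  have hobe : RepWith @Etale ((yon S).map o ≫ b) :=
    repWith_comp _ (repWith_mono isOpenImmersion_le_etale'' hoY) hb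
  -- the scheme `R = W ×_{Y'} V'`
  have hw2 : pullback.snd g.left e.left ≫ V'.hom =
      (Over.mk (pullback.fst g.left e.left ≫ W.hom)).hom := by
    change pullback.snd g.left e.left ≫ V'.hom = pullback.fst g.left e.left ≫ W.hom
    rw [← Over.w e, ← Category.assoc, ← pullback.condition, Category.assoc, Over.w]
  obtain ⟨prW, hprW⟩ : ∃ prW : Over.mk (pullback.fst g.left e.left ≫ W.hom) ⟶ W,
    prW = Over.homMk (pullback.fst g.left e.left) rfl := ⟨_, rfl⟩
  obtain ⟨prV, hprV⟩ : ∃ prV : Over.mk (pullback.fst g.left e.left ≫ W.hom) ⟶ V',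
    prV = Over.homMk (pullback.snd g.left e.left) hw2 := ⟨_, rfl⟩
  have hcommO : prW ≫ g = prV ≫ e := by
    ext
    rw [hprW, hprV]
    exact pullback.condition
  have sqRsch : IsPullback prW.left prV.left g.left e.left := by
    rw [hprW, hprV]
    exact IsPullback.of_hasPullback g.left e.left
  have sqRO : IsPullback prW prV g e := IsPullback.of_map (Over.forget S) hcommO sqRsch
  have sqRY := sqRO.map (yon S)
  -- the open immersion of `R` into `P`
  have hcond : ((yon S).map prW ≫ a) ≫ f.hom = (yon S).map (prV ≫ o) ≫ b := by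
    rw [Category.assoc, comm, ← Category.assoc, sqRY.w, Category.assoc, sqV.w, Functor.map_comp,
      Category.assoc]
  have haP1 : hP.lift ((yon S).map prW ≫ a) ((yon S).map (prV ≫ o)) hcond ≫ fst =
      (yon S).map prW ≫ a := hP.lift_fst _ _ _
  have haP2 : hP.lift ((yon S).map prW ≫ a) ((yon S).map (prV ≫ o)) hcond ≫ snd =
      (yon S).map (prV ≫ o) := hP.lift_snd _ _ _
  obtain ⟨aP, haPdef⟩ : ∃ aP : (yon S).obj (Over.mk (pullback.fst g.left e.left ≫ W.hom)) ⟶ P,
    aP = hP.lift ((yon S).map prW ≫ a) ((yon S).map (prV ≫ o)) hcond := ⟨_, rfl⟩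
  rw [← haPdef] at haP1 haP2
  have hoMono : Mono ((yon S).map o) := mono_of_openImmersion hoY
  have sqa : IsPullback ((yon S).map prW) aP a fst := by
    refine isPullback_of_exists_unique haP1.symm ?_ ?_
    · intro T α β hαβ
      have hc1 : (α ≫ (yon S).map g) ≫ jY = (β ≫ snd) ≫ b := by
        rw [Category.assoc, ← comm, ← Category.assoc, hαβ, Category.assoc, Category.assoc, hP.w]
      have hc2 : α ≫ (yon S).map g = sqV.lift _ _ hc1 ≫ (yon S).map e := (sqV.lift_fst _ _ hc1).symm
      refine ⟨sqRY.lift α (sqV.lift _ _ hc1) hc2, sqRY.lift_fst _ _ _, ?_⟩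
      apply hP.hom_ext
      · rw [Category.assoc, haP1, ← Category.assoc, sqRY.lift_fst, hαβ]
      · rw [Category.assoc, haP2, Functor.map_comp, ← Category.assoc, sqRY.lift_snd,
          sqV.lift_snd]
    · intro T z z' h1 h2
      apply sqRY.hom_ext h1
      rw [← cancel_mono ((yon S).map o), Category.assoc, Category.assoc, ← Functor.map_comp,
        ← haP2, ← Category.assoc, h2, Category.assoc]
  have haP : RepWith @IsOpenImmersion aP := repWith_of_isPullback _ sqa ha
  have haPe := repWith_mono isOpenImmersion_le_etale'' haP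
  -- generic points of `P` lie in `R`
  have hG1 : ∀ p ∈ genericPoints (Points P), ∃ r, Points.ofPt aP r = p := by
    intro p hp
    have h1 := (hgenP p).1 hp
    have h2 : Points.map f.hom (Points.map fst p) ∈ Set.range (Points.ofPt jY) :=
      hgenY (hf.bijOn.mapsTo h1)
    obtain ⟨w, hw⟩ := hlast _ h1 h2
    have e1 : Points.map a (Points.ofScheme W w) = Points.map fst p := by
      rw [← Points.ofPt_eq_map_ofScheme, hw]
    obtain ⟨z, -, hz⟩ := points_exists_of_isPullback sqa _ _ e1
    obtain ⟨r, rfl⟩ := (Points.schemeHomeo _).surjective z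
    exact ⟨r, (Points.ofPt_eq_map_ofScheme aP r).trans hz⟩
  have hG2 : ∀ r, Points.ofPt aP r ∈ genericPoints (Points P) ↔ r ∈ genericPoints _ :=
    fun r => mem_genericPoints_ofPt_iff ⟨P, hPalg⟩ hPd aP haPe r
  have hG3 : ∀ r, Points.map snd (Points.ofPt aP r) = Points.ofPt ((yon S).map o) (prV.left r) := by
    intro r
    rw [Points.map_ofPt, haP2, Functor.map_comp, ofPt_yon_map_comp]
  have hG3' : ∀ r, Points.map f.hom (Points.map fst (Points.ofPt aP r)) =
      Points.ofPt ((yon S).map o ≫ b) (prV.left r) := by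
    intro r
    rw [← Points.map_comp, hP.w, Points.map_comp, hG3, Points.map_ofPt]
  have hG4 : ∀ r, r ∈ genericPoints _ → prV.left r ∈ genericPoints ↥V'.left := by
    intro r hr
    have h1 := (hgenP _).1 ((hG2 r).2 hr)
    have h2 := hf.bijOn.mapsTo h1
    rw [hG3'] at h2
    exact (mem_genericPoints_ofPt_iff Y hY _ hobe _).1 h2
  have hG5 : ∀ r, r ∈ genericPoints _ →
      IsIso (pullback.snd prV.left (V'.left.fromSpecStalk (prV.left r))) := by
    intro r hr
    have h1 := hG4 r hr
    have h2 : e.left (prV.left r) ∈ genericPoints ↥Y'.left := by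
      apply (mem_genericPoints_ofPt_iff Y hY jY hjYe _).1
      rw [← ofPt_yon_map_comp, sqV.w]
      exact (mem_genericPoints_ofPt_iff Y hY _ hobe _).2 h1
    haveI : IsIso (pullback.snd g.left (Y'.left.fromSpecStalk (e.left (prV.left r)))) :=
      Groth.Agent.S9677.result g.left hWf hY'f hbij hiso _ h2
    exact isIso_snd_fromSpecStalk_of_isPullback sqRsch (prV.left r)
  refine ⟨hPd, ?_, hVf', ?hbir⟩
  case hbir =>
    refine ⟨⟨?_, ?_, ?_⟩, ?_⟩
    · intro p hp
      obtain ⟨r, rfl⟩ := hG1 p hp
      rw [hG3]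
      exact (mem_genericPoints_ofPt_iff ⟨(yon S).obj V, IsAlgSpace.yon_obj V⟩ (isDecent_yon V) _
        (repWith_mono isOpenImmersion_le_etale'' hoY) _).2 (hG4 r ((hG2 r).1 hp))
    · intro p₁ hp₁ p₂ hp₂ h12
      obtain ⟨r₁, rfl⟩ := hG1 p₁ hp₁
      obtain ⟨r₂, rfl⟩ := hG1 p₂ hp₂
      rw [hG3, hG3] at h12
      have h3 : prV.left r₁ = prV.left r₂ :=
        (Groth.Agent.S10397.isOpenEmbedding_ofPt _ hoY).injective h12
      haveI := hG5 r₁ ((hG2 r₁).1 hp₁)
      rw [eq_of_isIso_snd_fromSpecStalk prV.left (prV.left r₁) rfl h3.symm]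
    · intro z hz
      obtain ⟨v, rfl⟩ := (Points.schemeHomeo V).surjective z
      have hv : v ∈ genericPoints ↥V.left := (mem_genericPoints_ofScheme_iff V v).1 hz
      have h1 := (mem_genericPoints_ofPt_iff Y hY b hb v).2 hv
      obtain ⟨ξ, hξ, hξv⟩ := hf.bijOn.surjOn h1
      have e1 : Points.map f.hom ξ = Points.map b (Points.ofScheme V v) := by
        rw [← Points.ofPt_eq_map_ofScheme]; exact hξv
      obtain ⟨p, hp1, hp2⟩ := points_exists_of_isPullback hP ξ _ e1
      exact ⟨p, (hgenP p).2 (hp1 ▸ hξ), hp2⟩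
    · intro p hp
      obtain ⟨r, rfl⟩ := hG1 p hp
      have hr := (hG2 r).1 hp
      haveI := hG5 r hr
      refine ⟨_, V', aP, (yon S).map o, prV, r, haP, hoY, ?_, rfl,
        isIso_stalkMap_of_isIso_snd_fromSpecStalk prV.left r⟩
      rw [haP2, Functor.map_comp]
  · apply finite_irreducibleComponents_of_finite_genericPoints
    refine Set.Finite.of_injOn (f := Points.map snd) (t := genericPoints (Points ((yon S).obj V)))
      ?_ ?_ (genericPoints.finite hVf')
    · intro p hp
      obtain ⟨r, rfl⟩ := hG1 p hp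
      rw [hG3]
      exact (mem_genericPoints_ofPt_iff ⟨(yon S).obj V, IsAlgSpace.yon_obj V⟩ (isDecent_yon V) _
        (repWith_mono isOpenImmersion_le_etale'' hoY) _).2 (hG4 r ((hG2 r).1 hp))
    · intro p₁ hp₁ p₂ hp₂ h12
      obtain ⟨r₁, rfl⟩ := hG1 p₁ hp₁
      obtain ⟨r₂, rfl⟩ := hG1 p₂ hp₂
      rw [hG3, hG3] at h12
      have h3 : prV.left r₁ = prV.left r₂ :=
        (Groth.Agent.S10397.isOpenEmbedding_ofPt _ hoY).injective h12
      haveI := hG5 r₁ ((hG2 r₁).1 hp₁)
      rw [eq_of_isIso_snd_fromSpecStalk prV.left (prV.left r₁) rfl h3.symm]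

end Groth.Agent.Lib.Helper14.AS
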