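import Mathlib
import Groth.Agent.Lib.Helper21.FibDim4
import Groth.Agent.Lib.Helper12.FlatFib2

/-!
# Morphisms between varieties of the same dimension are generically quasi-finite (I)
-/

set_option autoImplicit false
set_option linter.style.haveILetI false
set_option linter.unusedSectionVars false
universe u

open AlgebraicGeometry CategoryTheory Limits TopologicalSpace

namespace Groth.Agent.Lib.Helper14.CorrFin

open Groth.Agent.Lib.Helper21.FibDim

section K

variable (k : Type u) [Field k] (X : Scheme.{u}) [X.Over (Spec (CommRingCat.of k))]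
  [LocallyOfFiniteType (X ↘ Spec (CommRingCat.of k))]

/-- residue fields of a scheme l.f.t. over a field have finite transcendence degree -/
theorem exists_nat_trdeg (y : X) :
    ∃ s : ℕ, @Algebra.trdeg k (X.residueField y) _ _ (Curv2.resAlgebra k X y) = s := by
  obtain ⟨n, -, -, hall⟩ := exists_localDim_eq_trdeg k X y
  have h1 := hall y specializes_rfl
  have h2 := lt_of_le_of_lt h1 (Cardinal.natCast_lt_aleph0 (n := n))
  obtain ⟨s, hs⟩ := Cardinal.lt_aleph0.mp h2
  exact ⟨s, hs⟩

end K

section L

variable (k : Type u) [Field k] (Z W : Scheme.{u}) [Z.Over (Spec (CommRingCat.of k))]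
  [W.Over (Spec (CommRingCat.of k))]
  [LocallyOfFiniteType (Z ↘ Spec (CommRingCat.of k))]
  [LocallyOfFiniteType (W ↘ Spec (CommRingCat.of k))]

/-- if `dim Z ≤ n = dim W`, residue field extensions at points over a generic point of `W`
are algebraic -/
theorem trdeg_eq_zero_of_generic (π : Z ⟶ W)
    (hπ : π ≫ (W ↘ Spec (CommRingCat.of k)) = Z ↘ Spec (CommRingCat.of k))
    (n : ℕ) (hZ : topologicalKrullDim Z ≤ n) (hW : topologicalKrullDim W = n)
    (z : Z) (hz : closure ({π z} : Set W) = Set.univ) :
    @Algebra.trdeg (W.residueField (π z)) (Z.residueField z) _ _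
      (π.residueFieldMap z).hom.toAlgebra = 0 := by
  obtain ⟨sz, hsz⟩ := exists_nat_trdeg k Z z
  obtain ⟨sw, hsw⟩ := exists_nat_trdeg k W (π z)
  have h1 := topologicalKrullDim_closure_singleton k Z z sz hsz
  have h2 := topologicalKrullDim_closure_singleton k W (π z) sw hsw
  have h3 : topologicalKrullDim (closure ({π z} : Set W)) = topologicalKrullDim W := by
    rw [hz]
    exact IsHomeomorph.topologicalKrullDim_eq _ (Homeomorph.Set.univ W).isHomeomorph
  have h4 : topologicalKrullDim (closure ({z} : Set Z)) ≤ topologicalKrullDim Z :=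
    topologicalKrullDim_subspace_le Z _
  have hswn : sw = n := by
    have : ((sw : ℕ) : WithBot ℕ∞) = n := by rw [← h2, h3, hW]
    exact_mod_cast this
  have hszn : sz ≤ n := by
    have : ((sz : ℕ) : WithBot ℕ∞) ≤ n := by rw [← h1]; exact h4.trans hZ
    exact_mod_cast this
  letI a1 : Algebra k (W.residueField (π z)) := Curv2.resAlgebra k W (π z)
  letI a2 : Algebra k (Z.residueField z) := Curv2.resAlgebra k Z z
  letI a3 : Algebra (W.residueField (π z)) (Z.residueField z) :=
    (π.residueFieldMap z).hom.toAlgebra
  haveI : IsScalarTower k (W.residueField (π z)) (Z.residueField z) := by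
    refine IsScalarTower.of_algebraMap_eq' ?_
    exact resMap_comp k Z W π hπ z
  have h5 := _root_.trdeg_add_eq k (W.residueField (π z)) (A := Z.residueField z)
  change Algebra.trdeg (W.residueField (π z)) (Z.residueField z) = 0
  have hsw' : Algebra.trdeg k (W.residueField (π z)) = sw := hsw
  have hsz' : Algebra.trdeg k (Z.residueField z) = sz := hsz
  rw [hsw', hsz'] at h5
  generalize Algebra.trdeg (W.residueField (π z)) (Z.residueField z) = t at h5 ⊢
  have ht : t < Cardinal.aleph0 := by
    refine lt_of_le_of_lt ?_ (Cardinal.natCast_lt_aleph0 (n := sz))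
    rw [← h5]
    exact le_add_self
  obtain ⟨m, rfl⟩ := Cardinal.lt_aleph0.mp ht
  have h6 : sw + m = sz := by exact_mod_cast h5
  have : m = 0 := by omega
  subst this
  simp

end L

end Groth.Agent.Lib.Helper14.CorrFin
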