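import Groth.Agent.Lib.Helper14.FibreDim2
import Groth.Agent.Lib.Helper23.FibDimLSC
import Groth.Agent.Lib.Helper18.TopDim

/-!
# Lower semicontinuity of the fibre dimension for flat morphisms locally of finite presentation
of algebraic spaces (helper14)
-/

universe u
open CategoryTheory CategoryTheory.Limits AlgebraicGeometry Opposite
open AlgSp

namespace Groth.Agent.Lib.Helper14.AS

open Groth.Agent.Lib.Helper21.FibDim Groth.Agent.Lib.Helper23.FibDimLSC

/-- Scheme-level: for a flat morphism locally of finite presentation, the set of points of the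
target over which some point has fibre dimension `> n` is open. -/
theorem isOpen_exists_lt_fibreDimAt {X T : Scheme.{u}} (f : X ⟶ T) [Flat f]
    [LocallyOfFinitePresentation f] (n : ℕ) :
    IsOpen {s : T | ∃ x : X, f x = s ∧ (n : WithBot ℕ∞) < FlatMor.fibreDimAt f x} := by
  rw [isOpen_iff_forall_mem_open]
  rintro s₀ ⟨x₀, hx₀, hy₀⟩
  obtain ⟨m₀, hm₀, ⟨ξ, -, hξx₀, hξn⟩, -⟩ := exists_fibreDimAt_eq_trdeg f x₀
  rw [hm₀] at hy₀
  obtain ⟨N, hξN, hN⟩ := exists_open_forall_exists_le_trdeg f ξ m₀ hξn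
  refine ⟨N, ?_, N.2, ?_⟩
  · intro s hs
    obtain ⟨x, rfl, hx⟩ := hN s hs
    obtain ⟨m, hm, -, hall⟩ := exists_fibreDimAt_eq_trdeg f x
    have h1 := hall x specializes_rfl rfl
    have h2 : (m₀ : Cardinal.{u}) ≤ (m : Cardinal.{u}) := hx.trans h1
    have h3 : m₀ ≤ m := by exact_mod_cast h2
    have h4 : (m₀ : WithBot ℕ∞) ≤ (m : WithBot ℕ∞) := by exact_mod_cast h3
    refine ⟨x, rfl, ?_⟩
    rw [hm]
    exact lt_of_lt_of_le hy₀ h4
  · rw [← hx₀, ← hξx₀]
    exact hξN

variable {S : Scheme.{u}}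

set_option backward.isDefEq.respectTransparency.types false in
/-- The image of a flat morphism locally of finite presentation is open. -/
theorem isOpen_range_points_map_of_flat_lfp {X Y : Sp S} (hX : IsAlgSpace X) (hY : IsAlgSpace Y)
    (f : X ⟶ Y) (hfl : LocP @Flat f) (hfp : LocP @LocallyOfFinitePresentation f) :
    IsOpen (Set.range (Points.map f)) := by
  rw [isOpen_iff_forall_mem_open]
  rintro _ ⟨x, rfl⟩
  obtain ⟨U, V, a, b, h, u, hae, hbe, comm, rfl⟩ := exists_chart_diagram_at hX hY f x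
  have : Flat h.left := hfl a b h hae hbe comm
  have : LocallyOfFinitePresentation h.left := hfp a b h hae hbe comm
  have hO : IsOpen (Set.range h.left) := h.left.isOpenMap.isOpen_range
  refine ⟨Points.ofPt b '' Set.range h.left, ?_, isOpenMap_ofPt b hbe _ hO, ⟨h.left u, ⟨u, rfl⟩, ?_⟩⟩
  · rintro _ ⟨_, ⟨u', rfl⟩, rfl⟩
    refine ⟨Points.ofPt a u', ?_⟩
    rw [Points.map_ofPt, comm, ofPt_yon_map_comp]
  · rw [Points.map_ofPt, comm, ofPt_yon_map_comp]

set_option backward.isDefEq.respectTransparency.types false in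
theorem isOpen_exists_not_hasAtMor_le {X Y : Sp S} (hX : IsAlgSpace X) (hY : IsAlgSpace Y)
    (f : X ⟶ Y) (hfl : LocP @Flat f) (hfp : LocP @LocallyOfFinitePresentation f) (n : ℕ) :
    IsOpen {y : Points Y | ∃ x : Points X, Points.map f x = y ∧
      ¬ HasAtMor (fun _ _ h u => FlatMor.fibreDimAt h u ≤ (n : WithBot ℕ∞)) f x} := by
  rw [isOpen_iff_forall_mem_open]
  rintro _ ⟨x, rfl, hx⟩
  obtain ⟨U, V, a, b, h, u, hae, hbe, comm, rfl⟩ := exists_chart_diagram_at hX hY f x
  have : Flat h.left := hfl a b h hae hbe comm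
  have : LocallyOfFinitePresentation h.left := hfp a b h hae hbe comm
  rw [hasAtMor_ofPt_iff (etSqInv_fibreDimAt (fun z => z ≤ (n : WithBot ℕ∞))) f a b h hae hbe comm u,
    not_le] at hx
  have hO := isOpen_exists_lt_fibreDimAt h.left n
  refine ⟨Points.ofPt b '' {s | ∃ x, h.left x = s ∧ (n : WithBot ℕ∞) < FlatMor.fibreDimAt h.left x},
    ?_, isOpenMap_ofPt b hbe _ hO, ⟨h.left u, ⟨u, rfl, hx⟩, ?_⟩⟩
  · rintro _ ⟨_, ⟨u', rfl, hu'⟩, rfl⟩
    refine ⟨Points.ofPt a u', ?_, ?_⟩
    · rw [Points.map_ofPt, comm, ofPt_yon_map_comp]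
    · rw [hasAtMor_ofPt_iff (etSqInv_fibreDimAt (fun z => z ≤ (n : WithBot ℕ∞))) f a b h hae hbe
        comm u', not_le]
      exact hu'
  · rw [Points.map_ofPt, comm, ofPt_yon_map_comp]

set_option backward.isDefEq.respectTransparency.types false in
/-- Lower semicontinuity of the fibre dimension. -/
theorem isOpen_lt_dim_fibre {X Y : Sp S} (hX : IsAlgSpace X) (hY : IsAlgSpace Y) (f : X ⟶ Y)
    (hfl : LocP @Flat f) (hfp : LocP @LocallyOfFinitePresentation f)
    (hft : LocP @LocallyOfFiniteType f) (d : WithBot ℕ∞) :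
    IsOpen {y : Points Y | ∀ (k : FieldPt Y), Points.mk k = y →
      ∀ (Xk : Sp S) (fst : Xk ⟶ X) (snd : Xk ⟶ (yon S).obj k.pt),
        IsPullback fst snd f k.toHom → d < AlgSp.dim Xk} := by
  induction d using WithBot.recBotCoe with
  | bot =>
    convert isOpen_range_points_map_of_flat_lfp hX hY f hfl hfp using 1
    ext y
    simp only [Set.mem_setOf_eq, bot_lt_iff_ne_bot]
    constructor
    · intro h
      by_contra hy
      obtain ⟨k, hk⟩ := Points.mk_surjective y
      exact h k hk _ _ _ (IsPullback.of_hasPullback f k.toHom)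
        ((dim_fibre_eq_bot_iff hX hY f hft y).2 hy k hk _ _ _ (IsPullback.of_hasPullback _ _))
    · intro hy k hk Xk fst snd sq hbot
      exact ((dim_fibre_eq_sup_relDim hX hY f hft y k hk Xk fst snd sq).1.1 hbot) hy
  | coe e =>
    induction e using ENat.recTopCoe with
    | top =>
      convert isOpen_empty
      ext y
      simp only [Set.mem_setOf_eq, Set.mem_empty_iff_false, iff_false]
      intro h
      obtain ⟨k, hk⟩ := Points.mk_surjective y
      exact not_top_lt (a := (AlgSp.dim (pullback f k.toHom)))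
        (h k hk _ _ _ (IsPullback.of_hasPullback f k.toHom))
    | coe n =>
      convert isOpen_exists_not_hasAtMor_le hX hY f hfl hfp n using 1
      ext y
      simp only [Set.mem_setOf_eq]
      constructor
      · intro h
        by_contra hcon
        push Not at hcon
        obtain ⟨k, hk⟩ := Points.mk_surjective y
        have h1 := h k hk _ _ _ (IsPullback.of_hasPullback f k.toHom)
        have h2 := ((dim_fibre_eq_sup_relDim hX hY f hft y k hk _ _ _
          (IsPullback.of_hasPullback f k.toHom)).2 n).2 hcon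
        exact absurd (lt_of_lt_of_le h1 h2) (lt_irrefl _)
      · rintro ⟨x, hxy, hx⟩ k hk Xk fst snd sq
        by_contra hcon
        rw [not_lt] at hcon
        exact hx (((dim_fibre_eq_sup_relDim hX hY f hft y k hk Xk fst snd sq).2 n).1 hcon x hxy)

end Groth.Agent.Lib.Helper14.AS
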