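import Mathlib
import Groth.Agent.Lib.Helper14.CorrFin1
import Groth.Agent.Lib.Helper6.DimZ2

/-!
# Morphisms between varieties of the same dimension are generically quasi-finite (II)
-/

set_option autoImplicit false
set_option linter.style.haveILetI false
set_option linter.unusedSectionVars false
universe u

open AlgebraicGeometry CategoryTheory Limits TopologicalSpace

namespace Groth.Agent.Lib.Helper14.CorrFin

open Groth.Agent.Lib.Helper21.FibDim Groth.Agent.Lib.Helper18 Groth.Agent.Lib.Helper21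

section Q

variable (k : Type u) [Field k] (Z W : Scheme.{u}) [Z.Over (Spec (CommRingCat.of k))]
  [W.Over (Spec (CommRingCat.of k))]
  [LocallyOfFiniteType (Z ↘ Spec (CommRingCat.of k))]
  [LocallyOfFiniteType (W ↘ Spec (CommRingCat.of k))]

/-- if `dim Z ≤ n = dim W`, then `π` is quasi-finite at every point over a generic point of `W` -/
theorem quasiFiniteAt_of_generic (π : Z ⟶ W) [LocallyOfFiniteType π] [QuasiCompact π]
    (hπ : π ≫ (W ↘ Spec (CommRingCat.of k)) = Z ↘ Spec (CommRingCat.of k))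
    (n : ℕ) (hZ : topologicalKrullDim Z ≤ n) (hW : topologicalKrullDim W = n)
    (z : Z) (hz : closure ({π z} : Set W) = Set.univ) : π.QuasiFiniteAt z := by
  obtain ⟨m, hm, ⟨y, hyz, hfy, hym⟩, -⟩ := exists_fibreDimAt_eq_trdeg π z
  have hy0 := trdeg_eq_zero_of_generic k Z W π hπ n hZ hW y (by rw [hfy]; exact hz)
  have hm0 : m = 0 := by
    rw [hy0] at hym
    exact_mod_cast hym.symm
  subst hm0
  have h2 : FlatMor.localDim (π.fiber (π z)) (π.asFiber z) = 0 := by
    rw [Nat.cast_zero] at hm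
    exact hm
  haveI : LocallyOfFiniteType (π.fiberToSpecResidueField (π z)) :=
    MorphismProperty.pullback_snd _ _ inferInstance
  haveI : IsLocallyNoetherian (π.fiber (π z)) :=
    LocallyOfFiniteType.isLocallyNoetherian (π.fiberToSpecResidueField (π z))
  haveI : IsNoetherian (π.fiber (π z)) := { }
  exact Scheme.Hom.quasiFiniteAt_iff_isOpen_singleton_asFiber.mpr
    ((TopDim.isOpen_singleton_iff_localDim_eq_zero _).mpr h2)

end Q

section F

variable {Z W : Scheme.{u}} (π : Z ⟶ W)

/-- transfer of finiteness of fibres from a restriction -/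
theorem finite_preimage_of_restrict (V : W.Opens) (w : W) (hw : w ∈ V)
    (h : ((π ∣_ V) ⁻¹' {⟨w, hw⟩}).Finite) : (π ⁻¹' {w}).Finite := by
  have hsub : π ⁻¹' {w} ⊆ (π ⁻¹ᵁ V).ι '' ((π ∣_ V) ⁻¹' {⟨w, hw⟩}) := by
    intro z hz
    have hz' : π z = w := hz
    have hzV : z ∈ π ⁻¹ᵁ V := by
      change π z ∈ V
      rw [hz']; exact hw
    refine ⟨⟨z, hzV⟩, ?_, rfl⟩
    change (π ∣_ V) ⟨z, hzV⟩ = ⟨w, hw⟩
    apply Subtype.ext
    rw [morphismRestrict_base_coe]
    exact hz'
  exact (h.image _).subset hsub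

/-- transfer of finiteness of fibres to a restriction -/
theorem finite_preimage_restrict (V : W.Opens) (x : V)
    (h : (π ⁻¹' {x.1}).Finite) : ((π ∣_ V) ⁻¹' {x}).Finite := by
  have hsub : (π ∣_ V) ⁻¹' {x} ⊆ (π ⁻¹ᵁ V).ι ⁻¹' (π ⁻¹' {x.1}) := by
    intro t ht
    have ht' : (π ∣_ V) t = x := ht
    change π ((π ⁻¹ᵁ V).ι t) = x.1
    rw [← ht', morphismRestrict_base_coe]
    rfl
  exact (h.preimage (Set.injOn_of_injective (π ⁻¹ᵁ V).ι.isOpenEmbedding.injective)).subset hsub

/-- a proper morphism has finite fibre over a point all of whose preimages are quasi-finite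
points -/
theorem finite_preimage_of_quasiFiniteAt [IsProper π] (w : W)
    (h : ∀ z, π z = w → π.QuasiFiniteAt z) : (π ⁻¹' {w}).Finite := by
  let V : W.Opens :=
    ⟨_, (π.isClosedMap _ π.quasiFiniteLocus.isOpen.isClosed_compl).isOpen_compl⟩
  have hwV : w ∈ V := by
    suffices ∀ x, π x = w → π.QuasiFiniteAt x by simpa [V, not_imp_not]
    exact h
  haveI : LocallyQuasiFinite (π ∣_ V) := by
    rw [← Scheme.Hom.quasiFiniteLocus_eq_top_iff]
    ext x
    have : π.QuasiFiniteAt ((π ⁻¹ᵁ V).ι x) := by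
      by_contra H; exact x.2 ⟨_, H, by simp⟩
    rw [← Scheme.Hom.quasiFiniteAt_comp_iff_of_isOpenImmersion, ← morphismRestrict_ι,
      Scheme.Hom.quasiFiniteAt_comp_iff] at this
    simpa
  exact finite_preimage_of_restrict π V w hwV ((π ∣_ V).finite_preimage_singleton ⟨w, hwV⟩)

/-- for a proper morphism the locus of finite fibres is open and the morphism is finite over it -/
theorem exists_opens_finite [IsProper π] :
    ∃ U : W.Opens, (U : Set W) = {w : W | (π ⁻¹' {w}).Finite} ∧ IsFinite (π ∣_ U) := by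
  have hopen : IsOpen {w : W | (π ⁻¹' {w}).Finite} := by
    rw [isOpen_iff_forall_mem_open]
    intro w hw
    obtain ⟨V, hwV, hV⟩ := exists_isFinite_morphismRestrict_of_finite_preimage_singleton π w hw
    refine ⟨V, ?_, V.isOpen, hwV⟩
    intro w' hw'
    exact finite_preimage_of_restrict π V w' hw' ((π ∣_ V).finite_preimage_singleton ⟨w', hw'⟩)
  refine ⟨⟨_, hopen⟩, rfl, ?_⟩
  suffices LocallyQuasiFinite (π ∣_ (⟨_, hopen⟩ : W.Opens)) from
    .of_isProper_of_locallyQuasiFinite _
  rw [locallyQuasiFinite_iff_finite_preimage_singleton]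
  intro x
  exact finite_preimage_restrict π _ x x.2

end F

end Groth.Agent.Lib.Helper14.CorrFin
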