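import Mathlib

/-!
# Rank of a finite flat morphism: affine formulas and the rank over a field / at fraction fields
-/

set_option autoImplicit false
set_option linter.style.haveILetI false
set_option linter.unusedSectionVars false
universe u

open AlgebraicGeometry CategoryTheory Limits TopologicalSpace

namespace Groth.Agent.Lib.Helper14.GenRank

/-- the rank at any prime of a finite flat algebra over a domain is the degree of the extension of
fraction fields -/
theorem rankAtStalk_eq_finrank_fractionRing (A K B L : Type*) [CommRing A] [IsDomain A]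
    [CommRing K] [CommRing B] [CommRing L] [Algebra A B] [Algebra K L] [Algebra A K] [Algebra B L]
    [Algebra A L] [IsScalarTower A K L] [IsScalarTower A B L] [IsFractionRing A K]
    [IsFractionRing B L] [Module.Finite A B] [Module.Flat A B] (p : PrimeSpectrum A) :
    Module.rankAtStalk B p = Module.finrank K L := by
  rw [Module.rankAtStalk_eq, Ideal.finrank_fiber_eq_finrank, IsFractionRing.finrank_eq A K B L]

/-- the rank of a finite flat morphism to an affine scheme, via global sections -/
theorem finrank_eq_of_isAffine {P S : Scheme.{u}} (h : P ⟶ S) [IsAffine S] [Flat h] [IsFinite h]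
    (s : S) : h.finrank s = h.appTop.hom.finrank (S.isoSpec.hom s) := by
  haveI : IsAffine P := isAffine_of_isAffineHom h
  have hfl : h.appTop.hom.Flat := h.flat_appTop
  have hfi : h.appTop.hom.Finite := h.finite_appTop
  haveI : Flat (Spec.map h.appTop) := (Flat.SpecMap_iff).mpr hfl
  haveI : IsFinite (Spec.map h.appTop) := (IsFinite.SpecMap_iff _).mpr hfi
  have sq : IsPullback P.isoSpec.hom h (Spec.map h.appTop) S.isoSpec.hom :=
    IsPullback.of_horiz_isIso ⟨Scheme.isoSpec_hom_naturality h⟩
  rw [Scheme.Hom.finrank_of_isPullback _ _ _ _ sq s, Scheme.Hom.finrank_SpecMap_eq_finrank hfi hfl]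

/-- ranks of isomorphic arrows of rings -/
theorem finrank_const_of_arrow_iso {R S R' S' : CommRingCat.{u}} (φ : R ⟶ S) (ψ : R' ⟶ S')
    (e : Arrow.mk φ ≅ Arrow.mk ψ) (hfin : φ.hom.Finite) (hfl : φ.hom.Flat) (c : ℕ)
    (hc : ∀ q, ψ.hom.finrank q = c) (p : PrimeSpectrum R) : φ.hom.finrank p = c := by
  have hfin' : ψ.hom.Finite := (RingHom.finite_respectsIso.arrow_mk_iso_iff e).mp hfin
  have hfl' : ψ.hom.Flat := (RingHom.Flat.respectsIso.arrow_mk_iso_iff e).mp hfl
  -- φ = e.left ≫ ψ ≫ e.right⁻¹
  have hw : e.hom.left ≫ ψ = φ ≫ e.hom.right := by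
    have hw0 := e.hom.w
    dsimp at hw0
    exact hw0
  have hφ : φ = e.hom.left ≫ ψ ≫ e.inv.right := by
    rw [← Category.assoc, hw, Category.assoc]
    have : e.hom.right ≫ e.inv.right = 𝟙 S := Arrow.hom_inv_id_right e
    rw [this, Category.comp_id]
  have hb1 : Function.Bijective e.hom.left.hom := ConcreteCategory.bijective_of_isIso e.hom.left
  have hb2 : Function.Bijective e.inv.right.hom := ConcreteCategory.bijective_of_isIso e.inv.right
  have hφ' : φ.hom = ((e.inv.right.hom).comp ψ.hom).comp e.hom.left.hom := by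
    conv_lhs => rw [hφ]
    rfl
  rw [hφ']
  have hy : p = PrimeSpectrum.comap e.hom.left.hom (PrimeSpectrum.comap e.inv.left.hom p) := by
    rw [← PrimeSpectrum.comap_comp_apply]
    have : (e.inv.left.hom).comp e.hom.left.hom = RingHom.id _ := by
      have h1 : e.hom.left ≫ e.inv.left = 𝟙 R := Arrow.hom_inv_id_left e
      exact congrArg CommRingCat.Hom.hom h1
    rw [this]
    rfl
  rw [RingHom.finrank_comp_right_of_bijective e.hom.left.hom ((e.inv.right.hom).comp ψ.hom) hb1
    ((RingHom.Finite.of_surjective _ hb2.2).comp hfin')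
    (hfl'.comp (RingHom.Flat.of_bijective hb2)) p _ hy,
    RingHom.finrank_comp_left_of_bijective ψ.hom e.inv.right.hom hb2 hfin' hfl']
  exact hc _

/-- the rank of a finite scheme over a field is the dimension of its ring of global sections -/
theorem finrank_eq_finrank_field {κ : Type u} [Field κ] {P : Scheme.{u}}
    (h : P ⟶ Spec (CommRingCat.of κ)) [IsFinite h] [Flat h] (s : ↥(Spec (CommRingCat.of κ))) :
    h.finrank s =
      (letI := ((Scheme.ΓSpecIso (CommRingCat.of κ)).inv ≫ h.appTop).hom.toAlgebra;
        Module.finrank κ ↑(Γ(P, ⊤))) := by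
  rw [finrank_eq_of_isAffine h s]
  haveI : IsAffine P := isAffine_of_isAffineHom h
  have hbij : Function.Bijective (Scheme.ΓSpecIso (CommRingCat.of κ)).inv.hom :=
    ConcreteCategory.bijective_of_isIso _
  have h1 := RingHom.finrank_comp_right_of_bijective (Scheme.ΓSpecIso (CommRingCat.of κ)).inv.hom
    h.appTop.hom hbij h.finite_appTop h.flat_appTop
    (PrimeSpectrum.comap (Scheme.ΓSpecIso (CommRingCat.of κ)).inv.hom
      ((Spec (CommRingCat.of κ)).isoSpec.hom s)) ((Spec (CommRingCat.of κ)).isoSpec.hom s) rfl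
  rw [← h1]
  letI := ((Scheme.ΓSpecIso (CommRingCat.of κ)).inv ≫ h.appTop).hom.toAlgebra
  change Module.rankAtStalk (R := κ) ↑(Γ(P, ⊤)) _ = Module.finrank κ ↑(Γ(P, ⊤))
  rw [Module.rankAtStalk_eq_finrank_of_free]
  rfl

end Groth.Agent.Lib.Helper14.GenRank
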