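import Mathlib
import Groth.Agent.Lib.Helper14.GenRank1
import Groth.Agent.Lib.Helper21.GenFin2

/-!
# Rank of a finite flat dominant morphism of integral schemes: fibres and the function field degree
-/

set_option autoImplicit false
set_option linter.style.haveILetI false
set_option linter.unusedSectionVars false
universe u

open AlgebraicGeometry CategoryTheory Limits TopologicalSpace

namespace Groth.Agent.Lib.Helper14.GenRank

variable {X Y : Scheme.{u}}

/-- the fibre square over a point of an open subscheme -/
theorem exists_isPullback_fibre (f : X ⟶ Y) (U : Y.Opens) (y : Y) (hy : y ∈ U) :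
    ∃ (i : pullback f (Y.fromSpecResidueField y) ⟶ (f ⁻¹ᵁ U).toScheme)
      (j : Spec (Y.residueField y) ⟶ U.toScheme),
      j ≫ U.ι = Y.fromSpecResidueField y ∧
      IsPullback i (pullback.snd f (Y.fromSpecResidueField y)) (f ∣_ U) j := by
  have hr : Set.range (Y.fromSpecResidueField y) ⊆ Set.range U.ι := by
    rw [Scheme.range_fromSpecResidueField, Scheme.Opens.range_ι]
    simpa using hy
  obtain ⟨j, hj0⟩ : ∃ j, j = IsOpenImmersion.lift U.ι (Y.fromSpecResidueField y) hr := ⟨_, rfl⟩
  have hj : j ≫ U.ι = Y.fromSpecResidueField y := by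
    rw [hj0]; exact IsOpenImmersion.lift_fac _ _ _
  have right : IsPullback (f ⁻¹ᵁ U).ι (f ∣_ U) f U.ι := (isPullback_morphismRestrict f U).flip
  have hw : pullback.fst f (Y.fromSpecResidueField y) ≫ f =
      (pullback.snd f (Y.fromSpecResidueField y) ≫ j) ≫ U.ι := by
    rw [Category.assoc, hj]; exact pullback.condition
  refine ⟨right.lift (pullback.fst f _) (pullback.snd f _ ≫ j) hw, j, hj,
    IsPullback.of_right ?_ (right.lift_snd _ _ _) right⟩
  rw [right.lift_fst, hj]
  exact IsPullback.of_hasPullback _ _

/-- the fibres over the points of an open over which `f` is finite and flat are finite, and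
their rings of global sections have dimension the rank of `f` -/
theorem fibre_finite_and_finrank (f : X ⟶ Y) (U : Y.Opens) [IsFinite (f ∣_ U)] [Flat (f ∣_ U)]
    (y : Y) (hy : y ∈ U) :
    IsFinite (pullback.snd f (Y.fromSpecResidueField y)) ∧
      (letI := ((Scheme.ΓSpecIso (CommRingCat.of (Y.residueField y))).inv ≫
          (pullback.snd f (Y.fromSpecResidueField y)).appTop).hom.toAlgebra;
        Module.finrank (Y.residueField y) ↑(Γ(pullback f (Y.fromSpecResidueField y), ⊤))) =
      (f ∣_ U).finrank ⟨y, hy⟩ := by
  obtain ⟨i, j, hj, sq⟩ := exists_isPullback_fibre f U y hy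
  haveI : IsFinite (pullback.snd f (Y.fromSpecResidueField y)) :=
    MorphismProperty.of_isPullback sq inferInstance
  haveI : Flat (pullback.snd f (Y.fromSpecResidueField y)) :=
    MorphismProperty.of_isPullback sq inferInstance
  refine ⟨inferInstance, ?_⟩
  obtain ⟨s⟩ : Nonempty ↥(Spec (Y.residueField y)) := inferInstance
  have h1 := Scheme.Hom.finrank_of_isPullback i _ (f ∣_ U) j sq s
  have h2 : j s = ⟨y, hy⟩ := by
    apply Subtype.ext
    change (U.ι (j s) : Y) = y
    rw [← Scheme.Hom.comp_apply, hj]
    exact Scheme.fromSpecResidueField_apply y s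
  rw [h2] at h1
  rw [← h1]
  exact (finrank_eq_finrank_field (κ := Y.residueField y)
    (pullback.snd f (Y.fromSpecResidueField y)) s).symm

end Groth.Agent.Lib.Helper14.GenRank
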