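import Mathlib
import Groth.Agent.Lib.Helper14.GenRank2
import Groth.Agent.Lib.Helper21.GenFin5
import Groth.Agent.Lib.Helper14.CorrFin2
import Groth.Agent.Lib.Helper25.GFScheme
import Groth.Agent.Lib.Helper6.EtLocUnr1

/-!
# Generic finiteness and the fibre rank of a dominant morphism of varieties of the same dimension
-/

set_option autoImplicit false
set_option linter.style.haveILetI false
set_option linter.unusedSectionVars false
universe u

open AlgebraicGeometry CategoryTheory Limits TopologicalSpace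

namespace Groth.Agent.Lib.Helper14.GenRank

open Groth.Agent.Lib.Helper20.DimTrdeg Groth.Agent.Lib.Helper21.GenFin

section R

variable {X Y : Scheme.{u}} [IsIntegral X] [IsIntegral Y] (f : X ⟶ Y) [IsDominant f]

/-- the rank of a finite flat dominant morphism of integral schemes is the degree of the function
field extension -/
theorem finrank_morphismRestrict_eq (U : Y.Opens) (hU : IsAffineOpen U) (hne : Nonempty U)
    [IsFinite (f ∣_ U)] [Flat (f ∣_ U)] (u : U) :
    (f ∣_ U).finrank u = (letI := (f.residueFieldMap (genericPoint X)).hom.toAlgebra;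
      Module.finrank (Y.residueField (f (genericPoint X))) (X.residueField (genericPoint X))) := by
  have hfξ : f (genericPoint X) = genericPoint Y := map_genericPoint f
  haveI : IsAffine U.toScheme := hU
  haveI : IsAffine (f ⁻¹ᵁ U).toScheme := isAffine_of_isAffineHom (f ∣_ U)
  have hW : IsAffineOpen (f ⁻¹ᵁ U) := ‹IsAffine (f ⁻¹ᵁ U).toScheme›
  have hfξU : f (genericPoint X) ∈ U := by rw [hfξ]; exact genericPoint_mem U
  have hξW : genericPoint X ∈ f ⁻¹ᵁ U := hfξU
  haveI hneW : Nonempty ↥(f ⁻¹ᵁ U) := ⟨⟨_, hξW⟩⟩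
  rw [finrank_eq_of_isAffine]
  have e := arrowResLEAppIso f U (f ⁻¹ᵁ U) le_rfl
  rw [Scheme.Hom.resLE_eq_morphismRestrict] at e
  have hfinφ : (f.appLE U (f ⁻¹ᵁ U) le_rfl).hom.Finite :=
    (RingHom.finite_respectsIso.arrow_mk_iso_iff e).mp (f ∣_ U).finite_appTop
  have hflφ : (f.appLE U (f ⁻¹ᵁ U) le_rfl).hom.Flat :=
    (RingHom.Flat.respectsIso.arrow_mk_iso_iff e).mp (f ∣_ U).flat_appTop
  refine finrank_const_of_arrow_iso (f ∣_ U).appTop (f.appLE U (f ⁻¹ᵁ U) le_rfl) e
    (f ∣_ U).finite_appTop (f ∣_ U).flat_appTop _ ?_ _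
  intro q
  letI aRS : Algebra Γ(Y, U) Γ(X, f ⁻¹ᵁ U) := (f.appLE U (f ⁻¹ᵁ U) le_rfl).hom.toAlgebra
  letI aRK : Algebra Γ(Y, U) (Y.residueField (f (genericPoint X))) :=
    (Y.evaluation U (f (genericPoint X)) hfξU).hom.toAlgebra
  letI aKL : Algebra (Y.residueField (f (genericPoint X))) (X.residueField (genericPoint X)) :=
    (f.residueFieldMap (genericPoint X)).hom.toAlgebra
  letI aSL : Algebra Γ(X, f ⁻¹ᵁ U) (X.residueField (genericPoint X)) :=
    (X.evaluation (f ⁻¹ᵁ U) (genericPoint X) hξW).hom.toAlgebra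
  letI aRL : Algebra Γ(Y, U) (X.residueField (genericPoint X)) :=
    ((algebraMap (Y.residueField (f (genericPoint X))) (X.residueField (genericPoint X))).comp
      (algebraMap Γ(Y, U) (Y.residueField (f (genericPoint X))))).toAlgebra
  haveI : IsScalarTower Γ(Y, U) (Y.residueField (f (genericPoint X)))
      (X.residueField (genericPoint X)) := IsScalarTower.of_algebraMap_eq fun _ => rfl
  haveI : IsScalarTower Γ(Y, U) Γ(X, f ⁻¹ᵁ U) (X.residueField (genericPoint X)) := by
    refine IsScalarTower.of_algebraMap_eq fun r => ?_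
    change (f.residueFieldMap (genericPoint X)).hom
        ((Y.evaluation U (f (genericPoint X)) hfξU).hom r) =
      (X.evaluation (f ⁻¹ᵁ U) (genericPoint X) hξW).hom ((f.appLE U (f ⁻¹ᵁ U) le_rfl).hom r)
    have h1 := Scheme.evaluation_naturality_apply f (genericPoint X) hfξU r
    rw [h1, Scheme.Hom.appLE]
    simp only [CommRingCat.hom_comp, RingHom.comp_apply]
    have h2 := congrArg (fun g => g.hom ((f.app U).hom r))
      (Groth.Agent.Lib.Helper20.DimTrdeg.map_evaluation (le_refl (f ⁻¹ᵁ U)) (genericPoint X) hξW)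
    exact h2.symm
  haveI hfrK := isFractionRing_evaluation_of_eq_genericPoint U hU (f (genericPoint X)) hfξU hfξ
  haveI hfrL : IsFractionRing Γ(X, f ⁻¹ᵁ U) (X.residueField (genericPoint X)) :=
    isFractionRing_evη (f ⁻¹ᵁ U) hW hξW
  haveI : Module.Finite Γ(Y, U) Γ(X, f ⁻¹ᵁ U) := hfinφ
  haveI : Module.Flat Γ(Y, U) Γ(X, f ⁻¹ᵁ U) := hflφ
  haveI : IsDomain Γ(Y, U) := inferInstance
  exact rankAtStalk_eq_finrank_fractionRing Γ(Y, U) (Y.residueField (f (genericPoint X)))
    Γ(X, f ⁻¹ᵁ U) (X.residueField (genericPoint X)) q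

end R

open Groth.Agent.Lib.Helper14.CorrFin Groth.Agent.Lib.Helper21.FibDim in
theorem main (k : Type u) [Field k] {X Y : Scheme.{u}}
    [X.Over (Spec (CommRingCat.of k))] [Y.Over (Spec (CommRingCat.of k))]
    [LocallyOfFiniteType (X ↘ Spec (CommRingCat.of k))] [QuasiCompact (X ↘ Spec (CommRingCat.of k))]
    [LocallyOfFiniteType (Y ↘ Spec (CommRingCat.of k))] [QuasiCompact (Y ↘ Spec (CommRingCat.of k))]
    [IsIntegral X] [IsIntegral Y] (f : X ⟶ Y) [IsDominant f]
    (hf : f ≫ (Y ↘ Spec (CommRingCat.of k)) = X ↘ Spec (CommRingCat.of k))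
    (hdim : topologicalKrullDim ↥X = topologicalKrullDim ↥Y) :
    (letI := (f.residueFieldMap (genericPoint ↥X)).hom.toAlgebra;
      Module.Finite (Y.residueField (f.base (genericPoint ↥X))) (X.residueField (genericPoint ↥X))) ∧
    ∃ U : Y.Opens, Nonempty ↥U ∧ ∀ y : Y, y ∈ U →
      IsFinite (pullback.snd f (Y.fromSpecResidueField y)) ∧
        (letI := ((Scheme.ΓSpecIso (CommRingCat.of (Y.residueField y))).inv ≫
            (pullback.snd f (Y.fromSpecResidueField y)).appTop).hom.toAlgebra;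
          Module.finrank (Y.residueField y) ↑(Γ(pullback f (Y.fromSpecResidueField y), ⊤))) =
        (letI := (f.residueFieldMap (genericPoint ↥X)).hom.toAlgebra;
          Module.finrank (Y.residueField (f.base (genericPoint ↥X))) (X.residueField (genericPoint ↥X))) := by
  haveI : LocallyOfFiniteType f := by
    haveI : LocallyOfFiniteType (f ≫ (Y ↘ Spec (CommRingCat.of k))) := by rw [hf]; infer_instance
    exact locallyOfFiniteType_of_comp f (Y ↘ Spec (CommRingCat.of k))
  haveI : IsLocallyNoetherian Y :=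
    LocallyOfFiniteType.isLocallyNoetherian (Y ↘ Spec (CommRingCat.of k))
  haveI : QuasiSeparated (Y ↘ Spec (CommRingCat.of k)) :=
    HasAffineProperty.iff_of_isAffine.mpr (inferInstance : QuasiSeparatedSpace Y)
  haveI : QuasiCompact f := by
    haveI : QuasiCompact (f ≫ (Y ↘ Spec (CommRingCat.of k))) := by rw [hf]; infer_instance
    exact QuasiCompact.of_comp f (Y ↘ Spec (CommRingCat.of k))
  have hfξ : f (genericPoint X) = genericPoint Y := map_genericPoint f
  obtain ⟨n, hn⟩ := Groth.Agent.Lib.Helper14.CorrFin.exists_nat_trdeg k Y (genericPoint Y)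
  have hW : topologicalKrullDim Y = n := by
    have h2 := topologicalKrullDim_closure_singleton k Y (genericPoint Y) n hn
    have h3 : closure ({genericPoint Y} : Set Y) = Set.univ := (genericPoint_spec Y).def
    rw [← h2, h3]
    exact (IsHomeomorph.topologicalKrullDim_eq _ (Homeomorph.Set.univ Y).isHomeomorph).symm
  have hqf : f.QuasiFiniteAt (genericPoint X) :=
    quasiFiniteAt_of_generic k X Y f hf n (hdim.trans hW).le hW (genericPoint X)
      (by rw [hfξ]; exact (genericPoint_spec Y).def)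
  have hfin := (finite_iff_quasiFiniteAt_genericPoint f).mpr hqf
  refine ⟨hfin, ?_⟩
  obtain ⟨V, hV, hneV, hfinV⟩ :=
    exists_isFinite_morphismRestrict_of_quasiCompact f hfin (exists_isFinite_resLE f hfin)
  obtain ⟨U₁, hU₁d, hU₁f, -⟩ := Groth.Agent.Lib.Helper25.GFScheme.generic_flatness f
  have hηV : genericPoint Y ∈ V := by
    obtain ⟨⟨z, hz⟩⟩ := hneV
    exact (genericPoint_specializes z).mem_open V.isOpen hz
  have hηU₁ : genericPoint Y ∈ U₁ := by
    obtain ⟨z, hz⟩ := hU₁d.nonempty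
    exact (genericPoint_specializes z).mem_open U₁.isOpen hz
  obtain ⟨a, haU, hηa⟩ := hV.exists_basicOpen_le (V := U₁) ⟨genericPoint Y, hηU₁⟩ hηV
  have hUV : Y.basicOpen a ≤ V := Y.basicOpen_le a
  haveI : IsFinite (f ∣_ Y.basicOpen a) :=
    Groth.Agent.Lib.Helper6.EtLoc.restrict_of_le @IsFinite f hUV hfinV
  haveI : Flat (f ∣_ Y.basicOpen a) :=
    Groth.Agent.Lib.Helper6.EtLoc.restrict_of_le @Flat f haU hU₁f
  have hne : Nonempty ↥(Y.basicOpen a) := ⟨⟨_, hηa⟩⟩
  refine ⟨Y.basicOpen a, hne, fun y hy => ?_⟩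
  obtain ⟨h1, h2⟩ := fibre_finite_and_finrank f (Y.basicOpen a) y hy
  exact ⟨h1, h2.trans (finrank_morphismRestrict_eq f (Y.basicOpen a) (hV.basicOpen a) hne ⟨y, hy⟩)⟩

end Groth.Agent.Lib.Helper14.GenRank
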