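import Mathlib
import Groth.Agent.Lib.Helper14.GenRank3
import Groth.Agent.Lib.Helper21.BirRad1

/-!
# Number of points of the fibres of a finite unramified flat morphism over closed points
-/

set_option autoImplicit false
set_option linter.style.haveILetI false
set_option linter.unusedSectionVars false
universe u

open AlgebraicGeometry CategoryTheory Limits TopologicalSpace

namespace Groth.Agent.Lib.Helper14.CardFib

/-- a finite unramified algebra over a separably closed field has as many primes as its dimension -/
theorem card_primeSpectrum_eq_finrank (K A : Type u) [Field K] [IsSepClosed K] [CommRing A]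
    [Algebra K A] [Module.Finite K A] [Algebra.FormallyUnramified K A] :
    Nat.card (PrimeSpectrum A) = Module.finrank K A := by
  haveI : Algebra.EssFiniteType K A := inferInstance
  haveI : Algebra.FormallyEtale K A := Algebra.FormallyEtale.of_formallyUnramified_of_field K A
  have e := Algebra.FormallyEtale.equivPiOfIsSepClosed K A
  haveI : IsArtinianRing A := .of_finite K A
  haveI : Finite (PrimeSpectrum A) := inferInstance
  letI : Fintype (PrimeSpectrum A) := Fintype.ofFinite _
  rw [e.toLinearEquiv.finrank_eq, Module.finrank_fintype_fun_eq_card, Nat.card_eq_fintype_card]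

/-- a finite unramified scheme over a separably closed field has as many points as the dimension
of its ring of global sections -/
theorem card_eq_finrank_field {κ : Type u} [Field κ] [IsSepClosed κ] {P : Scheme.{u}}
    (h : P ⟶ Spec (CommRingCat.of κ)) [IsFinite h] [FormallyUnramified h] :
    Nat.card ↥P =
      (letI := ((Scheme.ΓSpecIso (CommRingCat.of κ)).inv ≫ h.appTop).hom.toAlgebra;
        Module.finrank κ ↑(Γ(P, ⊤))) := by
  haveI : IsAffine P := isAffine_of_isAffineHom h
  have hbij : Function.Bijective (Scheme.ΓSpecIso (CommRingCat.of κ)).inv.hom :=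
    ConcreteCategory.bijective_of_isIso _
  have hfin : ((Scheme.ΓSpecIso (CommRingCat.of κ)).inv ≫ h.appTop).hom.Finite :=
    RingHom.Finite.comp h.finite_appTop (RingHom.Finite.of_surjective _ hbij.2)
  have hun0 : h.appTop.hom.FormallyUnramified :=
    (HasRingHomProperty.iff_of_isAffine (P := @FormallyUnramified)).mp inferInstance
  have hun : ((Scheme.ΓSpecIso (CommRingCat.of κ)).inv ≫ h.appTop).hom.FormallyUnramified :=
    RingHom.FormallyUnramified.comp (RingHom.FormallyUnramified.of_surjective hbij.2) hun0
  letI := ((Scheme.ΓSpecIso (CommRingCat.of κ)).inv ≫ h.appTop).hom.toAlgebra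
  haveI : Module.Finite κ ↑(Γ(P, ⊤)) := hfin
  haveI : Algebra.FormallyUnramified κ ↑(Γ(P, ⊤)) := hun
  rw [← card_primeSpectrum_eq_finrank κ ↑(Γ(P, ⊤))]
  exact Nat.card_congr (P.isoSpec.hom.homeomorph).toEquiv

end Groth.Agent.Lib.Helper14.CardFib
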