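import Mathlib
import Groth.Agent.Lib.Helper14.CardFib1
import Groth.Agent.S10881
import Groth.Prelude.Def_ModelsG

/-!
# Number of points of the fibres of a finite unramified morphism of regular varieties
-/

set_option autoImplicit false
set_option linter.style.haveILetI false
set_option linter.unusedSectionVars false
universe u

open AlgebraicGeometry CategoryTheory Limits TopologicalSpace

namespace Groth.Agent.Lib.Helper14.CardFib

theorem stalkSpecializes_bijective_of_eq {X : Scheme.{u}} {x y : X} (h : x = y) :
    Function.Bijective (X.presheaf.stalkSpecializes (specializes_of_eq h)).hom := by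
  subst h
  rw [TopCat.Presheaf.stalkSpecializes_refl]
  exact Function.bijective_id

/-- the degree of the function field extension, computed on stalks or on residue fields -/
theorem homDegree_eq {X Y : Scheme.{u}} [IsIntegral X] [IsIntegral Y] (π : Y ⟶ X)
    (e : π.base (genericPoint Y) = genericPoint X) :
    Models.homDegree
        (X.presheaf.stalkSpecializes (specializes_of_eq e) ≫ π.stalkMap (genericPoint Y)).hom =
      (letI := (π.residueFieldMap (genericPoint Y)).hom.toAlgebra;
        Module.finrank (X.residueField (π.base (genericPoint Y)))
          (Y.residueField (genericPoint Y))) := by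
  have hb1 := stalkSpecializes_bijective_of_eq e
  have hb2 := Groth.Agent.Lib.Helper21.BirRad.residue_bijective_of_eq_genericPoint
    (π.base (genericPoint Y)) e
  have hb3 := Groth.Agent.Lib.Helper21.BirRad.residue_bijective_of_eq_genericPoint
    (genericPoint Y) rfl
  have sq := Scheme.residue_residueFieldMap π (genericPoint Y)
  unfold Models.homDegree
  letI a0 := (X.presheaf.stalkSpecializes (specializes_of_eq e) ≫
    π.stalkMap (genericPoint Y)).hom.toAlgebra
  letI a1 := (π.residueFieldMap (genericPoint Y)).hom.toAlgebra
  let i : ↑(X.presheaf.stalk (genericPoint X)) ≃+* ↑(X.residueField (π.base (genericPoint Y))) :=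
    RingEquiv.ofBijective
      ((X.residue (π.base (genericPoint Y))).hom.comp
        (X.presheaf.stalkSpecializes (specializes_of_eq e)).hom) (hb2.comp hb1)
  let j : ↑(Y.presheaf.stalk (genericPoint Y)) ≃+* ↑(Y.residueField (genericPoint Y)) :=
    RingEquiv.ofBijective (Y.residue (genericPoint Y)).hom hb3
  refine Algebra.finrank_eq_of_equiv_equiv i j ?_
  ext t
  have h1 := congrArg (fun g => g.hom ((X.presheaf.stalkSpecializes (specializes_of_eq e)).hom t)) sq
  simp only [CommRingCat.hom_comp, RingHom.comp_apply] at h1
  exact h1

end Groth.Agent.Lib.Helper14.CardFib
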