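import Mathlib
import Groth.Agent.Lib.Helper14.CardFib2

/-!
# Number of points of the fibres of a finite unramified morphism of regular varieties (main)
-/

set_option autoImplicit false
set_option linter.style.haveILetI false
set_option linter.unusedSectionVars false
universe u

open AlgebraicGeometry CategoryTheory Limits TopologicalSpace

namespace Groth.Agent.Lib.Helper14.CardFib

theorem main (k : Type u) [Field k] [IsAlgClosed k]
    (X Y : Scheme.{u}) [X.Over (Spec (CommRingCat.of k))] [Y.Over (Spec (CommRingCat.of k))]
    [IsIntegral X] [IsIntegral Y]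
    [LocallyOfFiniteType (X ↘ (Spec (CommRingCat.of k)))]
    [LocallyOfFiniteType (Y ↘ (Spec (CommRingCat.of k)))]
    (hregX : ∀ x : X, IsRegularLocalRing (X.presheaf.stalk x))
    (hregY : ∀ y : Y, IsRegularLocalRing (Y.presheaf.stalk y))
    (π : Y ⟶ X)
    [AlgebraicGeometry.IsFinite π] [AlgebraicGeometry.Surjective π]
    [AlgebraicGeometry.FormallyUnramified π]
    (e : π.base (genericPoint Y) = genericPoint X) (p : X) (hp : IsClosed ({p} : Set X)) :
    Nat.card {q : Y // π.base q = p} =
      Models.homDegree
        (X.presheaf.stalkSpecializes (specializes_of_eq e) ≫ π.stalkMap (genericPoint Y)).hom := by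
  haveI : IsLocallyNoetherian X :=
    LocallyOfFiniteType.isLocallyNoetherian (X ↘ Spec (CommRingCat.of k))
  haveI : IsLocallyNoetherian Y :=
    LocallyOfFiniteType.isLocallyNoetherian (Y ↘ Spec (CommRingCat.of k))
  haveI : IsDominant π := ⟨π.surjective.denseRange⟩
  haveI : Flat π := by
    refine Groth.Agent.S10881.result π hregY hregX ?_
    intro Z hZ
    rw [irreducibleComponents_eq_singleton] at hZ ⊢
    rw [Set.mem_singleton_iff.mp hZ, Set.image_univ, Set.mem_singleton_iff]
    exact π.surjective.denseRange.closure_range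
  haveI : IsAlgClosed (X.residueField p) :=
    IsAlgClosed.of_ringEquiv (k := k) (X.residueField p)
      (residueFieldIsoBase (X ↘ Spec (CommRingCat.of k)) p hp).symm.commRingCatIsoToRingEquiv
  haveI : IsSepClosed (X.residueField p) := inferInstance
  obtain ⟨U, hU, hpU, -⟩ := Opens.isBasis_iff_nbhd.mp X.isBasis_affineOpens
    (show p ∈ (⊤ : X.Opens) from trivial)
  have hU : IsAffineOpen U := hU
  haveI : IsFinite (π ∣_ U) := inferInstance
  haveI : Flat (π ∣_ U) := inferInstance
  obtain ⟨h1, h2⟩ := GenRank.fibre_finite_and_finrank π U p hpU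
  haveI := h1
  haveI : FormallyUnramified (pullback.snd π (X.fromSpecResidueField p)) :=
    MorphismProperty.pullback_snd (P := @FormallyUnramified) _ _ inferInstance
  have h3 := card_eq_finrank_field (κ := X.residueField p)
    (pullback.snd π (X.fromSpecResidueField p))
  have h4 := GenRank.finrank_morphismRestrict_eq π U hU ⟨⟨p, hpU⟩⟩ ⟨p, hpU⟩
  rw [homDegree_eq π e, ← h4, ← h2, ← h3]
  exact Nat.card_congr ((Equiv.subtypeEquivRight (fun q => Iff.rfl)).trans
    (π.fiberHomeo p).symm.toEquiv)

end Groth.Agent.Lib.Helper14.CardFib
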