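import Mathlib
import Groth.Prelude.Def_W4c6modpairsegaMP
set_option autoImplicit false
universe u
open CategoryTheory CategoryTheory.Limits AlgebraicGeometry

namespace Groth.Agent.Lib.Helper14.CartierDiff

section Alg

variable {A : Type u} [CommRing A] (f : A) (S : Type u) [CommRing S] [Algebra A S]
  [IsLocalization.Away f S]

lemma map_colon_le (I E : Ideal A) :
    (I.colon (E : Set A)).map (algebraMap A S) ≤
      (I.map (algebraMap A S)).colon ((E.map (algebraMap A S) : Ideal S) : Set S) := by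
  rw [Ideal.map_le_iff_le_comap]
  intro a ha
  rw [Ideal.mem_comap, Submodule.mem_colon]
  intro y hy
  rw [Submodule.mem_colon] at ha
  change y ∈ Ideal.span _ at hy
  refine Submodule.span_induction (p := fun y _ => algebraMap A S a • y ∈ I.map (algebraMap A S))
    ?_ ?_ ?_ ?_ hy
  · rintro _ ⟨e, he, rfl⟩
    rw [smul_eq_mul, ← map_mul]
    exact Ideal.mem_map_of_mem _ (ha e he)
  · simp
  · intro x y _ _ hx hy
    rw [smul_add]
    exact Ideal.add_mem _ hx hy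
  · intro c x _ hx
    rw [smul_eq_mul, smul_eq_mul, mul_left_comm]
    exact Ideal.mul_mem_left _ _ hx

include f in
lemma colon_map_le (I E : Ideal A) (hE : E.FG) :
    (I.map (algebraMap A S)).colon ((E.map (algebraMap A S) : Ideal S) : Set S) ≤
      (I.colon (E : Set A)).map (algebraMap A S) := by
  intro b hb
  obtain ⟨T, rfl⟩ := hE
  obtain ⟨⟨a, ⟨_, k, rfl⟩⟩, hab⟩ := IsLocalization.surj (Submonoid.powers f) b
  simp only at hab
  have h1 : ∀ t ∈ T, ∃ n : ℕ, f ^ n * (a * t) ∈ I := by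
    intro t ht
    have ht' : algebraMap A S t ∈ (Ideal.span (T : Set A)).map (algebraMap A S) :=
      Ideal.mem_map_of_mem _ (Ideal.subset_span ht)
    have h2 : b * algebraMap A S t ∈ I.map (algebraMap A S) :=
      (Submodule.mem_colon.mp hb) _ ht'
    have h3 : algebraMap A S (a * t) ∈ I.map (algebraMap A S) := by
      rw [map_mul, ← hab, mul_right_comm]
      exact Ideal.mul_mem_right _ _ h2
    obtain ⟨⟨⟨i, hi⟩, ⟨_, m, rfl⟩⟩, h4⟩ :=
      (IsLocalization.mem_map_algebraMap_iff (Submonoid.powers f) S).mp h3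
    simp only at h4
    rw [← map_mul] at h4
    obtain ⟨⟨_, l, rfl⟩, h5⟩ := (IsLocalization.eq_iff_exists (Submonoid.powers f) S).mp h4
    simp only at h5
    refine ⟨l + m, ?_⟩
    have : f ^ (l + m) * (a * t) = f ^ l * (a * t * f ^ m) := by ring
    rw [this, h5]
    exact Ideal.mul_mem_left _ _ hi
  choose! n hn using h1
  have h6 : f ^ (T.sup n) * a ∈ I.colon ((Ideal.span (T : Set A) : Ideal A) : Set A) := by
    rw [Ideal.colon_span, Submodule.mem_colon]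
    intro t ht
    have hle : n t ≤ T.sup n := Finset.le_sup ht
    have : (f ^ (T.sup n) * a) • t = f ^ (T.sup n - n t) * (f ^ (n t) * (a * t)) := by
      rw [smul_eq_mul, ← mul_assoc, ← pow_add, Nat.sub_add_cancel hle]
      ring
    rw [this]
    exact Ideal.mul_mem_left _ _ (hn t ht)
  have hu : IsUnit (algebraMap A S (f ^ (T.sup n + k))) :=
    IsLocalization.map_units S (⟨f ^ (T.sup n + k), _, rfl⟩ : Submonoid.powers f)
  rw [← Ideal.unit_mul_mem_iff_mem _ hu]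
  have : algebraMap A S (f ^ (T.sup n + k)) * b = algebraMap A S (f ^ (T.sup n) * a) := by
    rw [pow_add, map_mul, map_mul, ← hab]
    ring
  rw [this]
  exact Ideal.mem_map_of_mem _ h6

include f in
lemma map_colon_eq (I E : Ideal A) (hE : E.FG) :
    (I.colon (E : Set A)).map (algebraMap A S) =
      (I.map (algebraMap A S)).colon ((E.map (algebraMap A S) : Ideal S) : Set S) :=
  le_antisymm (map_colon_le S I E) (colon_map_le f S I E hE)

end Alg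

section Local

open nonZeroDivisors

theorem local_calc {B : Type u} [CommRing B] (I₁ I₂ : Ideal B) (d₁ d₂ e : B)
    (h₁ : I₁ = Ideal.span {d₁}) (h₂ : I₂ = Ideal.span {d₂}) (hE : I₁ ⊔ I₂ = Ideal.span {e})
    (hd₁ : d₁ ∈ B⁰) (hd₂ : d₂ ∈ B⁰) (he : e ∈ B⁰) :
    ∃ u₁ u₂ : B, u₁ ∈ B⁰ ∧ u₂ ∈ B⁰ ∧
      I₁.colon ((I₁ ⊔ I₂ : Ideal B) : Set B) = Ideal.span {u₁} ∧
      I₂.colon ((I₁ ⊔ I₂ : Ideal B) : Set B) = Ideal.span {u₂} ∧
      Ideal.span {u₁} ⊔ Ideal.span {u₂} = (⊤ : Ideal B) ∧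
      I₁ = Ideal.span {u₁} * (I₁ ⊔ I₂) ∧ I₂ = Ideal.span {u₂} * (I₁ ⊔ I₂) ∧
      I₁ ⊓ I₂ ≤ Ideal.span {u₁} * Ideal.span {u₂} * (I₁ ⊔ I₂) := by
  have hd₁E : d₁ ∈ Ideal.span {e} := by
    rw [← hE]; exact Ideal.mem_sup_left (h₁ ▸ Ideal.mem_span_singleton_self d₁)
  have hd₂E : d₂ ∈ Ideal.span {e} := by
    rw [← hE]; exact Ideal.mem_sup_right (h₂ ▸ Ideal.mem_span_singleton_self d₂)
  obtain ⟨u₁, hu₁⟩ := Ideal.mem_span_singleton.mp hd₁E
  obtain ⟨u₂, hu₂⟩ := Ideal.mem_span_singleton.mp hd₂E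
  have hu₁n : u₁ ∈ B⁰ := by
    rw [hu₁] at hd₁; exact (mul_mem_nonZeroDivisors.mp hd₁).2
  have hu₂n : u₂ ∈ B⁰ := by
    rw [hu₂] at hd₂; exact (mul_mem_nonZeroDivisors.mp hd₂).2
  have hcancel : ∀ x y : B, e * x = e * y → x = y := fun x y h =>
    mul_cancel_left_mem_nonZeroDivisors he |>.mp h
  have hcolon : ∀ (I : Ideal B) (d u : B), I = Ideal.span {d} → d = e * u →
      I.colon ((I₁ ⊔ I₂ : Ideal B) : Set B) = Ideal.span {u} := by
    intro I d u hI hdu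
    rw [hE, Ideal.colon_span]
    ext a
    rw [Submodule.mem_colon_singleton, smul_eq_mul, hI, Ideal.mem_span_singleton,
      Ideal.mem_span_singleton]
    constructor
    · rintro ⟨c, hc⟩
      refine ⟨c, hcancel _ _ ?_⟩
      rw [mul_comm e a, hc, hdu]; ring
    · rintro ⟨c, rfl⟩
      exact ⟨c, by rw [hdu]; ring⟩
  -- comaximality
  have hee : e ∈ I₁ ⊔ I₂ := by rw [hE]; exact Ideal.mem_span_singleton_self e
  obtain ⟨x₁, hx₁, x₂, hx₂, hx⟩ := Submodule.mem_sup.mp hee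
  rw [h₁] at hx₁
  rw [h₂] at hx₂
  obtain ⟨a, rfl⟩ := Ideal.mem_span_singleton.mp hx₁
  obtain ⟨b, rfl⟩ := Ideal.mem_span_singleton.mp hx₂
  have hone : u₁ * a + u₂ * b = 1 := by
    apply hcancel
    rw [mul_one]
    calc e * (u₁ * a + u₂ * b) = (e * u₁) * a + (e * u₂) * b := by ring
      _ = e := by rw [← hu₁, ← hu₂, hx]
  refine ⟨u₁, u₂, hu₁n, hu₂n, hcolon I₁ d₁ u₁ h₁ hu₁, hcolon I₂ d₂ u₂ h₂ hu₂, ?_, ?_, ?_, ?_⟩
  · rw [Ideal.eq_top_iff_one, ← hone]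
    exact Ideal.add_mem _
      (Ideal.mem_sup_left (Ideal.mul_mem_right _ _ (Ideal.mem_span_singleton_self u₁)))
      (Ideal.mem_sup_right (Ideal.mul_mem_right _ _ (Ideal.mem_span_singleton_self u₂)))
  · rw [hE, Ideal.span_singleton_mul_span_singleton, h₁, hu₁, mul_comm]
  · rw [hE, Ideal.span_singleton_mul_span_singleton, h₂, hu₂, mul_comm]
  · rw [hE, Ideal.span_singleton_mul_span_singleton, Ideal.span_singleton_mul_span_singleton,
      h₁, h₂]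
    intro x hx
    obtain ⟨hx1, hx2⟩ := hx
    obtain ⟨y₁, rfl⟩ := Ideal.mem_span_singleton.mp hx1
    obtain ⟨y₂, hy₂⟩ := Ideal.mem_span_singleton.mp hx2
    rw [Ideal.mem_span_singleton]
    have h3 : u₁ * y₁ = u₂ * y₂ := by
      apply hcancel
      rw [← mul_assoc, ← mul_assoc, ← hu₁, ← hu₂, hy₂]
    refine ⟨b * y₁ + a * y₂, ?_⟩
    have h4 : y₁ = u₂ * (a * y₂ + b * y₁) := by
      calc y₁ = (u₁ * a + u₂ * b) * y₁ := by rw [hone, one_mul]
        _ = a * (u₁ * y₁) + u₂ * b * y₁ := by ring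
        _ = a * (u₂ * y₂) + u₂ * b * y₁ := by rw [h3]
        _ = u₂ * (a * y₂ + b * y₁) := by ring
    rw [hu₁]
    nth_rewrite 1 [h4]
    ring

end Local

section Sch

variable {X : Scheme.{u}}

/-- a locally principal ideal sheaf has finitely generated ideals on all affine opens -/
theorem fg_of_locallyPrincipal (K : X.IdealSheafData)
    (hK : ∀ x : X, ∃ U : X.affineOpens, x ∈ U.1 ∧ ∃ e : Γ(X, U.1), K.ideal U = Ideal.span {e})
    (U : X.affineOpens) : (K.ideal U).FG := by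
  have key : ∀ x : U.1, ∃ r : Γ(X, U.1), x.1 ∈ X.basicOpen r ∧
      ((K.ideal U).map (X.presheaf.map (homOfLE (X.basicOpen_le r)).op).hom).FG := by
    rintro ⟨x, hxU⟩
    obtain ⟨V, hxV, e, hKV⟩ := hK x
    obtain ⟨r, g, hrg, hxr⟩ := exists_basicOpen_le_affine_inter U.2 V.2 x ⟨hxU, hxV⟩
    refine ⟨r, hxr, ?_⟩
    rw [K.map_ideal_basicOpen]
    have h1 : X.affineBasicOpen r = X.affineBasicOpen g := Subtype.ext hrg
    have aux : ∀ W W' : X.affineOpens, W = W' → (K.ideal W').FG → (K.ideal W).FG := by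
      rintro W _ rfl h
      exact h
    refine aux _ _ h1 ?_
    rw [← K.map_ideal_basicOpen, hKV, Ideal.map_span, Set.image_singleton]
    exact Submodule.fg_span_singleton _
  choose r hxr hfg using key
  have hspan : Ideal.span (Set.range r) = ⊤ := by
    rw [← U.2.self_le_iSup_basicOpen_iff]
    exact fun x hxU => TopologicalSpace.Opens.mem_iSup.mpr ⟨⟨_, _, rfl⟩, hxr ⟨x, hxU⟩⟩
  have inst := U.2.isLocalization_basicOpen
  refine Submodule.of_localizationSpan' (Set.range r) hspan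
    (Rₚ := fun g => Γ(X, X.basicOpen g.1)) (Mₚ := fun g => Γ(X, X.basicOpen g.1))
    (fun g => Algebra.linearMap Γ(X, U.1) Γ(X, X.basicOpen g.1)) ?_
  rintro ⟨_, x, rfl⟩
  rw [Ideal.localized'_eq_map]
  exact hfg x

/-- the colon ideal sheaf `(I : E)` for `E` of finite type -/
noncomputable def colonSheaf (I E : X.IdealSheafData) (hE : ∀ U, (E.ideal U).FG) :
    X.IdealSheafData where
  ideal U := (I.ideal U).colon ((E.ideal U : Ideal Γ(X, U.1)) : Set Γ(X, U.1))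
  map_ideal_basicOpen U f := by
    have inst := U.2.isLocalization_basicOpen f
    have h1 := map_colon_eq f Γ(X, X.basicOpen f) (I.ideal U) (E.ideal U) (hE U)
    rw [← I.map_ideal_basicOpen U f, ← E.map_ideal_basicOpen U f]
    exact h1

@[simp] lemma colonSheaf_ideal (I E : X.IdealSheafData) (hE : ∀ U, (E.ideal U).FG)
    (U : X.affineOpens) : (colonSheaf I E hE).ideal U =
      (I.ideal U).colon ((E.ideal U : Ideal Γ(X, U.1)) : Set Γ(X, U.1)) := rfl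

open nonZeroDivisors in
/-- restriction of a principal-by-nonzerodivisor ideal to a smaller affine open -/
theorem restrict_principal (K : X.IdealSheafData) {U W : X.affineOpens} (h : W ≤ U)
    (d : Γ(X, U.1)) (hd : d ∈ Γ(X, U.1)⁰) (hK : K.ideal U = Ideal.span {d}) :
    (X.presheaf.map (homOfLE (show W.1 ≤ U.1 from h)).op).hom d ∈ Γ(X, W.1)⁰ ∧
      K.ideal W = Ideal.span {(X.presheaf.map (homOfLE (show W.1 ≤ U.1 from h)).op).hom d} := by
  have h' : W.1 ≤ U.1 := h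
  constructor
  · have hfl : ((𝟙 X : X ⟶ X).appLE U.1 W.1 h').hom.Flat :=
      HasRingHomProperty.appLE (P := @Flat) (𝟙 X) inferInstance U W h'
    have heq : (𝟙 X : X ⟶ X).appLE U.1 W.1 h' = X.presheaf.map (homOfLE h').op := by
      simp only [Scheme.Hom.appLE, Scheme.Hom.id_app]
      exact Category.id_comp _
    rw [heq] at hfl
    let _ := (X.presheaf.map (homOfLE h').op).hom.toAlgebra
    have : Module.Flat Γ(X, U.1) Γ(X, W.1) := hfl
    have hreg : IsSMulRegular Γ(X, W.1) d := Module.Flat.isSMulRegular_of_nonZeroDivisors hd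
    rw [mem_nonZeroDivisors_iff_right]
    intro y hy
    apply hreg
    change (X.presheaf.map (homOfLE h').op).hom d * y = (X.presheaf.map (homOfLE h').op).hom d * 0
    rw [mul_zero, mul_comm, hy]
  · rw [← K.map_ideal h, hK, Ideal.map_span, Set.image_singleton]
    rfl

open nonZeroDivisors in
theorem exists_good (I₁ I₂ : X.IdealSheafData)
    (h₁ : BlowUp.IsEffCartierIdeal I₁) (h₂ : BlowUp.IsEffCartierIdeal I₂)
    (hE : BlowUp.IsEffCartierIdeal (I₁ ⊔ I₂)) (x : X) :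
    ∃ W : X.affineOpens, x ∈ W.1 ∧ ∃ d₁ d₂ e : Γ(X, W.1), d₁ ∈ Γ(X, W.1)⁰ ∧ d₂ ∈ Γ(X, W.1)⁰ ∧
      e ∈ Γ(X, W.1)⁰ ∧ I₁.ideal W = Ideal.span {d₁} ∧ I₂.ideal W = Ideal.span {d₂} ∧
      (I₁ ⊔ I₂).ideal W = Ideal.span {e} := by
  obtain ⟨U₁, hx₁, d₁, hd₁, hI₁⟩ := h₁ x
  obtain ⟨U₂, hx₂, d₂, hd₂, hI₂⟩ := h₂ x
  obtain ⟨U₃, hx₃, e, he, hI₃⟩ := hE x
  obtain ⟨W, hW, hxW, hle⟩ := TopologicalSpace.Opens.isBasis_iff_nbhd.mp X.isBasis_affineOpens
    (show x ∈ U₁.1 ⊓ U₂.1 ⊓ U₃.1 from ⟨⟨hx₁, hx₂⟩, hx₃⟩)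
  have l₁ : (⟨W, hW⟩ : X.affineOpens) ≤ U₁ := fun y hy => (hle hy).1.1
  have l₂ : (⟨W, hW⟩ : X.affineOpens) ≤ U₂ := fun y hy => (hle hy).1.2
  have l₃ : (⟨W, hW⟩ : X.affineOpens) ≤ U₃ := fun y hy => (hle hy).2
  obtain ⟨a1, a2⟩ := restrict_principal I₁ l₁ d₁ hd₁ hI₁
  obtain ⟨b1, b2⟩ := restrict_principal I₂ l₂ d₂ hd₂ hI₂
  obtain ⟨c1, c2⟩ := restrict_principal (I₁ ⊔ I₂) l₃ e he hI₃
  exact ⟨⟨W, hW⟩, hxW, _, _, _, a1, b1, c1, a2, b2, c2⟩

theorem main (I₁ I₂ : X.IdealSheafData)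
    (h₁ : BlowUp.IsEffCartierIdeal I₁) (h₂ : BlowUp.IsEffCartierIdeal I₂)
    (hE : BlowUp.IsEffCartierIdeal (I₁ ⊔ I₂)) :
    ∃ I₁' I₂' : X.IdealSheafData, BlowUp.IsEffCartierIdeal I₁' ∧ BlowUp.IsEffCartierIdeal I₂' ∧
      I₁ = I₁' * (I₁ ⊔ I₂) ∧ I₂ = I₂' * (I₁ ⊔ I₂) ∧ I₁' ⊔ I₂' = ⊤ ∧
      ∀ D : X.IdealSheafData, BlowUp.IsEffCartierIdeal D → D ≤ I₁ → D ≤ I₂ →
        D ≤ I₁' * I₂' * (I₁ ⊔ I₂) := by
  have hfg : ∀ U, ((I₁ ⊔ I₂).ideal U).FG := fun U =>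
    fg_of_locallyPrincipal (I₁ ⊔ I₂) (fun x => by
      obtain ⟨U, hx, e, -, hU⟩ := hE x
      exact ⟨U, hx, e, hU⟩) U
  choose W hxW d₁ d₂ e hd₁ hd₂ he hI₁ hI₂ hIE using exists_good I₁ I₂ h₁ h₂ hE
  have hcov : ⨆ x, (W x).1 = ⊤ := by
    rw [eq_top_iff]
    intro y _
    exact TopologicalSpace.Opens.mem_iSup.mpr ⟨y, hxW y⟩
  have hloc := fun x => local_calc (I₁.ideal (W x)) (I₂.ideal (W x)) (d₁ x) (d₂ x) (e x)
    (hI₁ x) (hI₂ x) (hIE x) (hd₁ x) (hd₂ x) (he x)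
  choose u₁ u₂ hu₁ hu₂ hc₁ hc₂ hco hm₁ hm₂ hinf using hloc
  refine ⟨colonSheaf I₁ (I₁ ⊔ I₂) hfg, colonSheaf I₂ (I₁ ⊔ I₂) hfg, ?_, ?_, ?_, ?_, ?_, ?_⟩
  · intro x
    exact ⟨W x, hxW x, u₁ x, hu₁ x, hc₁ x⟩
  · intro x
    exact ⟨W x, hxW x, u₂ x, hu₂ x, hc₂ x⟩
  · refine Scheme.IdealSheafData.ext_of_iSup_eq_top W hcov fun x => ?_
    change I₁.ideal (W x) = (colonSheaf I₁ (I₁ ⊔ I₂) hfg).ideal (W x) * (I₁ ⊔ I₂).ideal (W x)
    rw [colonSheaf_ideal]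
    change _ = Submodule.colon (I₁.ideal (W x)) ↑(I₁.ideal (W x) ⊔ I₂.ideal (W x)) *
      (I₁.ideal (W x) ⊔ I₂.ideal (W x))
    rw [hc₁ x]
    exact hm₁ x
  · refine Scheme.IdealSheafData.ext_of_iSup_eq_top W hcov fun x => ?_
    change I₂.ideal (W x) = (colonSheaf I₂ (I₁ ⊔ I₂) hfg).ideal (W x) * (I₁ ⊔ I₂).ideal (W x)
    rw [colonSheaf_ideal]
    change _ = Submodule.colon (I₂.ideal (W x)) ↑(I₁.ideal (W x) ⊔ I₂.ideal (W x)) *
      (I₁.ideal (W x) ⊔ I₂.ideal (W x))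
    rw [hc₂ x]
    exact hm₂ x
  · refine Scheme.IdealSheafData.ext_of_iSup_eq_top W hcov fun x => ?_
    change (colonSheaf I₁ (I₁ ⊔ I₂) hfg).ideal (W x) ⊔ (colonSheaf I₂ (I₁ ⊔ I₂) hfg).ideal (W x)
      = ⊤
    rw [colonSheaf_ideal, colonSheaf_ideal]
    change Submodule.colon (I₁.ideal (W x)) ↑(I₁.ideal (W x) ⊔ I₂.ideal (W x)) ⊔
      Submodule.colon (I₂.ideal (W x)) ↑(I₁.ideal (W x) ⊔ I₂.ideal (W x)) = ⊤
    rw [hc₁ x, hc₂ x]
    exact hco x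
  · intro D _ hD₁ hD₂
    refine Scheme.IdealSheafData.le_of_iSup_eq_top W hcov fun x => ?_
    change D.ideal (W x) ≤ (colonSheaf I₁ (I₁ ⊔ I₂) hfg).ideal (W x) *
      (colonSheaf I₂ (I₁ ⊔ I₂) hfg).ideal (W x) * (I₁ ⊔ I₂).ideal (W x)
    rw [colonSheaf_ideal, colonSheaf_ideal]
    change _ ≤ Submodule.colon (I₁.ideal (W x)) ↑(I₁.ideal (W x) ⊔ I₂.ideal (W x)) *
      Submodule.colon (I₂.ideal (W x)) ↑(I₁.ideal (W x) ⊔ I₂.ideal (W x)) *
      (I₁.ideal (W x) ⊔ I₂.ideal (W x))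
    rw [hc₁ x, hc₂ x]
    exact le_trans (le_inf (hD₁ (W x)) (hD₂ (W x))) (hinf x)

end Sch

end Groth.Agent.Lib.Helper14.CartierDiff
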