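import Groth.Agent.S7577
import Groth.Agent.S12444
import Groth.Agent.Lib.Helper14.IntegralQf
import Groth.Prelude.Def_W4stk3decentspacesp2Birat
import Groth.Prelude.Def_Cyc

/-!
# Catenary spaces of points: topological part and dimension functions from charts (helper14)
-/

universe u
open CategoryTheory CategoryTheory.Limits AlgebraicGeometry Opposite Topology TopologicalSpace

namespace Groth.Agent.Lib.Helper14.AS

open AlgSp Groth.Agent.Lib.Helper14.AS

theorem w4catenary_of_ptTop {Y : Type u} [TopologicalSpace Y] (h : PtTop.IsCatenarySpace Y) :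
    W4stk3decentspacesp2.IsCatenarySpace Y := by
  intro T T' hTT'
  obtain ⟨hfin, hsat⟩ := h T T' hTT'
  obtain ⟨n, hn⟩ := ENat.ne_top_iff_exists.1 hfin
  refine ⟨⟨n, fun p hp1 hp2 => ?_⟩, fun p q hp1 hp2 hq1 hq2 hps hqs => ?_⟩
  · have h1 : (p.length : ℕ∞) ≤ PtTop.codim T (T' : Set Y) :=
      le_iSup₂_of_le p ⟨hp1, by rw [hp2]⟩ le_rfl
    rw [← hn] at h1
    exact_mod_cast h1
  · have h1 := hsat p hp1 hp2 hps
    have h2 := hsat q hq1 hq2 hqs
    exact_mod_cast h1.trans h2.symm

theorem isCatenarySpace_of_local_dimFun {Y : Type u} [TopologicalSpace Y] [QuasiSober Y]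
    [T0Space Y]
    (h : ∀ y : Y, ∃ O : Opens Y, y ∈ O ∧ ∃ δ : O → ℤ, PtTop.IsDimensionFunction δ) :
    W4stk3decentspacesp2.IsCatenarySpace Y := by
  apply w4catenary_of_ptTop
  rw [(Groth.Agent.S12444.result Y).1]
  intro y
  obtain ⟨O, hyO, δ, hδ⟩ := h y
  have : QuasiSober O := O.isOpenEmbedding'.quasiSober
  exact ⟨O, hyO, (Groth.Agent.S7577.result δ hδ).1⟩

variable {S : Scheme.{u}}

/-- A dimension function on an etale chart of a decent space which is constant on the fibres of
the chart induces a dimension function on the image of the chart. -/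
theorem exists_isDimensionFunction_of_chart {X : Sp S} (hX : IsDecent X) {U : Over S}
    (a : (yon S).obj U ⟶ X) (ha : RepWith @Etale a) (O : Opens (Points X))
    (hO : (O : Set (Points X)) = Set.range (Points.ofPt a))
    (δU : U.left → ℤ) (hδU : Cyc.IsDimFun U.left δU)
    (hcompat : ∀ u u' : U.left, Points.ofPt a u = Points.ofPt a u' → δU u = δU u') :
    ∃ δ : O → ℤ, PtTop.IsDimensionFunction δ := by
  have hsurj : ∀ x : O, ∃ u : U.left, Points.ofPt a u = x.1 := fun x => by
    have : x.1 ∈ (O : Set (Points X)) := x.2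
    rw [hO] at this
    exact this
  choose lift hlift using hsurj
  have hδ : ∀ (x : O) (u : U.left), Points.ofPt a u = x.1 → δU (lift x) = δU u := fun x u hu =>
    hcompat _ _ ((hlift x).trans hu.symm)
  have key : ∀ x y : O, x ⤳ y → x ≠ y → δU (lift y) < δU (lift x) ∧
      ((∀ z : O, x ⤳ z → z ⤳ y → z = x ∨ z = y) → δU (lift x) = δU (lift y) + 1) := by
    intro x y hxy hne
    have hxy' : x.1 ⤳ y.1 := (subtype_specializes_iff _ _).1 hxy
    obtain ⟨ux, hux, hux2⟩ := exists_generization_lift_of_isDecent hX a ha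
      (x := x.1) (u' := lift y) (by rw [hlift y]; exact hxy')
    have hne' : ux ≠ lift y := by
      intro e
      apply hne
      apply Subtype.ext
      rw [← hux2, ← hlift y, e]
    obtain ⟨h1, h2⟩ := hδU ux (lift y) hux hne'
    rw [← hδ x ux hux2] at h1 h2
    refine ⟨h1, fun himm => h2 ?_⟩
    intro w hw1 hw2
    have hwO : Points.ofPt a w ∈ O := by
      change Points.ofPt a w ∈ (O : Set (Points X))
      rw [hO]
      exact ⟨w, rfl⟩
    have h3 : x ⤳ (⟨Points.ofPt a w, hwO⟩ : O) := by
      rw [subtype_specializes_iff]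
      change x.1 ⤳ Points.ofPt a w
      rw [← hux2]
      exact hw1.map (Points.continuous_ofPt a)
    have h4 : (⟨Points.ofPt a w, hwO⟩ : O) ⤳ y := by
      rw [subtype_specializes_iff]
      change Points.ofPt a w ⤳ y.1
      rw [← hlift y]
      exact hw2.map (Points.continuous_ofPt a)
    rcases himm _ h3 h4 with e | e
    · left
      have e' : Points.ofPt a w = x.1 := congrArg Subtype.val e
      exact eq_of_specializes_of_isDecent hX a ha (e'.trans hux2.symm) hw1
    · right
      have e' : Points.ofPt a w = y.1 := congrArg Subtype.val e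
      exact (eq_of_specializes_of_isDecent hX a ha ((hlift y).trans e'.symm) hw2).symm
  refine ⟨fun x => δU (lift x), fun x y hxy hne => (key x y hxy hne).1, ?_⟩
  rintro x y ⟨hxy, hne, himm⟩
  exact (key x y hxy hne).2 himm

end Groth.Agent.Lib.Helper14.AS
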