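import Groth.Agent.Lib.Helper14.CatSp1
import Groth.Agent.S12447
import Groth.Agent.S12459
import Groth.Agent.S9684
import Groth.Agent.S10338
import Groth.Agent.S10339
import Groth.Agent.Lib.Helper14.HasAtMorChart
import Groth.Agent.Lib.Helper14.RelDimComp
import Groth.Agent.Lib.Helper21.FibDim12
import Groth.Agent.Lib.Helper14.AlgSpQC
import Groth.Agent.Lib.Helper14.Norm5c
import Groth.Agent.Lib.Helper14.FibTop
import Groth.Agent.Lib.Helper14.Birat9
import Groth.Agent.Lib.Helper14.FlatClosure2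

/-!
# Catenary spaces of points: the local dimension function (helper14)
-/

universe u
open CategoryTheory CategoryTheory.Limits AlgebraicGeometry Opposite Topology TopologicalSpace

namespace Groth.Agent.Lib.Helper14.AS

open AlgSp Groth.Agent.Lib.Helper14.AS

theorem isUniversallyCatenary_of_ringEquiv {A B : Type u} [CommRing A] [CommRing B] (e : A ≃+* B)
    (hA : CAlg.IsUniversallyCatenary A) : CAlg.IsUniversallyCatenary B := by
  have hN : IsNoetherianRing A := hA.1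
  refine ⟨isNoetherianRing_of_ringEquiv A e, fun C _ _ hC => ?_⟩
  let _ : Algebra A B := e.toRingHom.toAlgebra
  let _ : Algebra A C := ((algebraMap B C).comp e.toRingHom).toAlgebra
  have : IsScalarTower A B C := IsScalarTower.of_algebraMap_eq fun x => rfl
  have hAB : Algebra.FiniteType A B :=
    Algebra.FiniteType.of_surjective (Algebra.ofId A B) e.surjective
  exact hA.2 C (Algebra.FiniteType.trans hAB hC)

variable {S : Scheme.{u}}

theorem isSetup_opens [IsLocallyNoetherian S]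
    (hS : ∀ s : ↥S, CAlg.IsUniversallyCatenary ↥(S.presheaf.stalk s)) (S₁ : S.Opens)
    (δ₁ : S₁ → ℤ) (hδ₁ : PtTop.IsDimensionFunction δ₁) :
    Cyc.IsSetup (S₁ : Scheme.{u}) δ₁ := by
  refine ⟨inferInstance, fun x => ?_, ?_⟩
  · exact isUniversallyCatenary_of_ringEquiv (S₁.stalkIso x).commRingCatIsoToRingEquiv.symm
      (hS x.1)
  · intro x y hxy hne
    exact ⟨hδ₁.1 x y hxy hne, fun h => hδ₁.2 x y ⟨hxy, hne, h⟩⟩

set_option backward.isDefEq.respectTransparency.types false in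
/-- Over an open `S₁` of the base carrying a dimension function, the part of an etale chart of
a decent space lying over `S₁` induces a dimension function on its (open) image. -/
theorem exists_local_dimFun_of_chart [IsLocallyNoetherian S]
    (hS : ∀ s : ↥S, CAlg.IsUniversallyCatenary ↥(S.presheaf.stalk s))
    {X : Sp S} (hX : IsDecent X) (p : X ⟶ (yon S).obj (Over.mk (𝟙 S)))
    {U : Over S} (a : (yon S).obj U ⟶ X) (ha : RepWith @Etale a) [LocallyOfFiniteType U.hom]
    (S₁ : S.Opens) (δ₁ : S₁ → ℤ) (hδ₁ : PtTop.IsDimensionFunction δ₁) :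
    ∃ O : Opens (Points X), (O : Set (Points X)) =
      Points.ofPt a '' ((U.hom ⁻¹ᵁ S₁ : U.left.Opens) : Set U.left) ∧
        ∃ δ : O → ℤ, PtTop.IsDimensionFunction δ := by
  let t' : U ⟶ Over.mk (𝟙 S) := Over.homMk U.hom (by simp)
  let V : U.left.Opens := t'.left ⁻¹ᵁ S₁
  let a₁ : (yon S).obj (openSub U V) ⟶ X := (yon S).map (openSubι U V) ≫ a
  have ha₁ : RepWith @Etale a₁ := repWith_etale_restrict ha V
  let h₁ : openSub U V ⟶ openSub (Over.mk (𝟙 S)) S₁ := openSubRes t' S₁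
  let b₁ : (yon S).obj (openSub (Over.mk (𝟙 S)) S₁) ⟶ (yon S).obj (Over.mk (𝟙 S)) :=
    (yon S).map (openSubι (Over.mk (𝟙 S)) S₁)
  have hb₁ : RepWith @Etale b₁ := repWith_etale_openSubι (Over.mk (𝟙 S)) S₁
  have comm₁ : a₁ ≫ p = (yon S).map h₁ ≫ b₁ := hom_ext_terminal _ _
  let f₁ : (V : Scheme.{u}) ⟶ (S₁ : Scheme.{u}) := h₁.left
  have hlft : LocallyOfFiniteType f₁ := by
    change LocallyOfFiniteType (U.hom ∣_ S₁)
    infer_instance
  have hsetup := isSetup_opens hS S₁ δ₁ hδ₁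
  have hn : ∀ u : ↥V.toScheme, ∃ n : ℕ, Dual3.resTrdeg f₁ u = n := fun u => by
    obtain ⟨n, b, h1, -, -⟩ := Groth.Agent.Lib.Helper21.FibDim.exists_fibreDimAt_eq_add (f := f₁) u
    exact ⟨n, h1⟩
  choose n hn using hn
  let δV : ↥V.toScheme → ℤ := fun u => δ₁ (f₁ u) + n u
  have hcomp : Cyc.DeltaCompat f₁ δV δ₁ := fun u => ⟨n u, hn u, rfl⟩
  have hdim : Cyc.IsDimFun (V : Scheme.{u}) δV := Groth.Agent.S9684.result f₁ δ₁ hsetup δV hcomp
  have hrange : Set.range (Points.ofPt a₁) = Points.ofPt a '' (V : Set U.left) :=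
    range_ofPt_restrict a V
  have hopen : IsOpen (Set.range (Points.ofPt a₁)) := (isOpenMap_ofPt a₁ ha₁).isOpen_range
  refine ⟨⟨_, hopen⟩, hrange,
    exists_isDimensionFunction_of_chart hX a₁ ha₁ ⟨_, hopen⟩ rfl δV hdim ?_⟩
  intro u u' huu'
  have h2 : f₁ u = f₁ u' := by
    have e1 := map_ofPt_chart p a₁ b₁ h₁ comm₁ u
    have e2 := map_ofPt_chart p a₁ b₁ h₁ comm₁ u'
    rw [huu'] at e1
    have e3 : Points.ofPt b₁ (f₁ u) = Points.ofPt b₁ (f₁ u') := e1.symm.trans e2
    rw [ofPt_yon_map, ofPt_yon_map] at e3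
    have e4 := (Points.schemeEquiv _).injective e3
    exact (openSubι (Over.mk (𝟙 S)) S₁).left.isOpenEmbedding.injective e4
  have h3 : Dual3.resTrdeg f₁ u' = Dual3.resTrdeg f₁ u :=
    (Q_chart_indep (etSqInv_resTrdeg (· = Dual3.resTrdeg f₁ u)) p a₁ b₁ h₁ ha₁ hb₁ comm₁
      a₁ b₁ h₁ ha₁ hb₁ comm₁ u u' huu').1 rfl
  have h4 : (n u : Cardinal.{u}) = n u' := by rw [← hn u, ← hn u', h3]
  have h5 : n u = n u' := by exact_mod_cast h4
  change δ₁ (f₁ u) + n u = δ₁ (f₁ u') + n u'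
  rw [h2, h5]

end Groth.Agent.Lib.Helper14.AS
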