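import Mathlib

/-!
# Chain rules for `MvPolynomial.aeval` and scaling of homogeneous polynomials
-/

set_option autoImplicit false

namespace Groth.Agent.Lib.Helper14

open MvPolynomial

/-- Chain rule: a derivation applied to `aeval v f`. -/
theorem derivation_aeval {k B N σ : Type*} [CommRing k] [CommRing B] [Algebra k B]
    [AddCommGroup N] [Module k N] [Module B N] [Fintype σ]
    (d : Derivation k B N) (v : σ → B) (f : MvPolynomial σ k) :
    d (aeval v f) = ∑ i, aeval v (pderiv i f) • d (v i) := by
  classical
  induction f using MvPolynomial.induction_on with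
  | C a => simp
  | add p q hp hq => simp [hp, hq, add_smul, Finset.sum_add_distrib]
  | mul_X p i h =>
    simp only [map_mul, aeval_X, Derivation.leibniz, pderiv_X, h, map_add, smul_eq_mul,
      add_smul, Finset.sum_add_distrib, Finset.smul_sum, smul_smul]
    congr 1
    rw [Finset.sum_eq_single i]
    · simp
    · intro j _ hj
      simp [hj.symm]
    · simp

/-- Chain rule for `pderiv` of a substitution. -/
theorem pderiv_aeval {k σ τ : Type*} [CommRing k] [Fintype σ]
    (L : σ → MvPolynomial τ k) (t : τ) (f : MvPolynomial σ k) :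
    pderiv t (aeval L f) = ∑ i, aeval L (pderiv i f) * pderiv t (L i) := by
  have := derivation_aeval (pderiv t : Derivation k (MvPolynomial τ k) (MvPolynomial τ k)) L f
  simpa [smul_eq_mul] using this

/-- Scaling the argument of a homogeneous polynomial. -/
theorem aeval_smul_of_isHomogeneous {k B σ : Type*} [CommRing k] [CommRing B] [Algebra k B]
    {g : MvPolynomial σ k} {n : ℕ} (hg : g.IsHomogeneous n) (c : B) (v : σ → B) :
    aeval (fun i => c * v i) g = c ^ n * aeval v g := by
  rw [aeval_def, aeval_def, eval₂_eq, eval₂_eq, Finset.mul_sum]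
  refine Finset.sum_congr rfl fun d hd => ?_
  have hdeg := hg.degree_eq_sum_deg_support hd
  simp only [mul_pow, Finset.prod_mul_distrib, Finset.prod_pow_eq_pow_sum]
  rw [← hdeg]
  ring

/-- The cofactor identity `Aᵀ ((A u) × (A w)) = det A • (u × w)` (third component), with `u` a
vector of scalars and `w` a vector in a module. -/
theorem cross_cofactor_third {K N : Type*} [CommRing K] [AddCommGroup N] [Module K N]
    (a : Matrix (Fin 3) (Fin 3) K) (u : Fin 3 → K) (w : Fin 3 → N)
    (X : Fin 3 → K) (W : Fin 3 → N)
    (hX : ∀ i, X i = ∑ j, a i j * u j) (hW : ∀ i, W i = ∑ j, a i j • w j) :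
    a 0 2 • (X 1 • W 2 - X 2 • W 1) + a 1 2 • (X 2 • W 0 - X 0 • W 2)
      + a 2 2 • (X 0 • W 1 - X 1 • W 0) = a.det • (u 0 • w 1 - u 1 • w 0) := by
  simp only [hX, hW, Fin.sum_univ_three, Matrix.det_fin_three]
  module

end Groth.Agent.Lib.Helper14
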