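import Groth.Agent.Lib.Helper14.AlgSpVC4
import Groth.Agent.Lib.Helper14.AlgSpFibreEmb

/-!
# Lifting a valuation-ring point to an etale chart after a finite separable extension (helper14)
-/

open CategoryTheory CategoryTheory.Limits AlgebraicGeometry Opposite AlgSp
open CategoryTheory.Functor Groth.Agent.Lib.Helper14.AS

universe u

noncomputable section

namespace Groth.Agent.Lib.Helper14.AS

variable {S : Scheme.{u}}

set_option backward.isDefEq.respectTransparency.types false in
set_option maxHeartbeats 1600000 in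
/-- A morphism `Spec A ⟶ Z` from the spectrum of a valuation ring lifts to any etale surjective
chart `U ⟶ Z` after a dominating extension of `A` whose fraction field extension is finite
separable. -/
theorem exists_chart_lift_valuationRing {Z : Sp S} {U : Over S} (a : (yon S).obj U ⟶ Z)
    (hae : RepWith @Etale a) (has : RepWith @Surjective a)
    (A : Type u) [CommRing A] [IsDomain A] [ValuationRing A] (K : Type u) [Field K] [Algebra A K]
    [IsFractionRing A K] (str : Spec (.of A) ⟶ S) (l : (yon S).obj (Over.mk str) ⟶ Z) :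
    ∃ (L : Type u) (_ : Field L) (A' : ValuationSubring L) (φ : A →+* A') (ψ : K →+* L)
      (_ : (algebraMap A' L).comp φ = ψ.comp (algebraMap A K)) (_ : IsLocalHom φ)
      (m : Over.mk (Spec.map (CommRingCat.ofHom φ) ≫ str) ⟶ U),
      (letI := ψ.toAlgebra; Module.Finite K L ∧ Algebra.IsSeparable K L) ∧
      (yon S).map m ≫ a = (yon S).map (Over.homMk (Spec.map (CommRingCat.ofHom φ)) rfl :
        Over.mk (Spec.map (CommRingCat.ofHom φ) ≫ str) ⟶ Over.mk str) ≫ l := by
  classical
  let ptA : Over S := Over.mk str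
  let ptK : Over S := Over.mk (Spec.map (CommRingCat.ofHom (algebraMap A K)) ≫ str)
  let j : ptK ⟶ ptA := Over.homMk (Spec.map (CommRingCat.ofHom (algebraMap A K))) rfl
  let c : ↥(Spec (CommRingCat.of A)) := IsLocalRing.closedPoint A
  let tK : ↥(Spec (CommRingCat.of K)) := IsLocalRing.closedPoint K
  let p := hae.rep.snd l
  let q := hae.rep.fst' l
  have sqV : IsPullback ((yon S).map q) ((yon S).map p) a l := hae.rep.isPullback' l
  have hpet : Etale p.left := hae.property_snd l
  have hpsurj : Surjective p.left := has.property _ _ _ sqV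
  obtain ⟨v, hv⟩ := hpsurj.surj c
  have hgen : GeneralizingMap p.left := Flat.generalizingMap p.left
  have hη : j.left tK ⤳ p.left v := by
    rw [hv]; exact IsLocalRing.specializes_closedPoint _
  obtain ⟨v', hv'1, hv'2⟩ := hgen hη
  -- the generic fibre
  let fstP := pullback.fst p j
  let sndP := pullback.snd p j
  have sqPl : IsPullback fstP.left sndP.left p.left j.left :=
    (IsPullback.of_hasPullback p j).map (Over.forget S)
  have hsndet : Etale sndP.left :=
    MorphismProperty.of_isPullback (P := @Etale) sqPl hpet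
  obtain ⟨w', hw'1, hw'2⟩ := exists_preimage_of_isPullback' sqPl v' tK hv'2
  obtain ⟨B, jB, hjB, ⟨𝔮, h𝔮⟩, -⟩ :=
    Scheme.exists_affine_mem_range_and_range_subset (x := w')
      (U := (⊤ : (pullback p j).left.Opens)) trivial
  let gB : Spec B ⟶ Spec (CommRingCat.of K) := jB ≫ sndP.left
  let φB : CommRingCat.of K ⟶ B := Spec.preimage gB
  have hφB : Spec.map φB = gB := Spec.map_preimage _
  have hφBet : φB.hom.Etale := by
    rw [← HasRingHomProperty.Spec_iff (P := @Etale), hφB]
    infer_instance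
  have h𝔮max : 𝔮.asIdeal.IsMaximal := isMaximal_of_etale_field φB.hom hφBet 𝔮.asIdeal
  let _ : Field (↑B ⧸ 𝔮.asIdeal) := Ideal.Quotient.field 𝔮.asIdeal
  let L : Type u := ↑B ⧸ 𝔮.asIdeal
  let ρ : ↑B →+* L := Ideal.Quotient.mk 𝔮.asIdeal
  have hρ : Function.Surjective ρ := Ideal.Quotient.mk_surjective
  let ψ₀ : K →+* L := ρ.comp φB.hom
  have hfs := finite_separable_of_etale_field φB.hom hφBet ρ hρ
  let tL : ↥(Spec (CommRingCat.of L)) := IsLocalRing.closedPoint L
  let rL : Spec (CommRingCat.of L) ⟶ (pullback p j).left := Spec.map (CommRingCat.ofHom ρ) ≫ jB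
  have hrL : rL tL = w' := by
    rw [← h𝔮]
    change jB (Spec.map (CommRingCat.ofHom ρ) tL) = jB 𝔮
    congr 1
    apply PrimeSpectrum.ext
    change Ideal.comap ρ (IsLocalRing.maximalIdeal L) = 𝔮.asIdeal
    rw [IsLocalRing.maximalIdeal_eq_bot, ← RingHom.ker_eq_comap_bot]
    exact Ideal.mk_ker
  let rE : Spec (CommRingCat.of L) ⟶ (hae.rep.pullback l).left := rL ≫ fstP.left
  have hrE : rE tL ⤳ v := by
    change fstP.left (rL tL) ⤳ v
    rw [hrL, hw'1]; exact hv'1
  let ι : (hae.rep.pullback l).left.residueField (rE tL) ⟶ CommRingCat.of L :=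
    (hae.rep.pullback l).left.descResidueField (K := L) (Scheme.stalkClosedPointTo rE)
  have hι : Spec.map ι ≫ (hae.rep.pullback l).left.fromSpecResidueField (rE tL) = rE :=
    Scheme.descResidueField_stalkClosedPointTo_fromSpecResidueField L _ rE
  obtain ⟨A', m, hm1, hm2⟩ := exists_valuationSubring_lift hrE ι
  rw [hι] at hm1
  let φ₀ : CommRingCat.of A ⟶ CommRingCat.of ↥A' := Spec.preimage (m ≫ p.left)
  have hφ₀ : Spec.map φ₀ = m ≫ p.left := Spec.map_preimage _
  have hψ₀ : Spec.map (CommRingCat.ofHom ψ₀) = rL ≫ sndP.left := by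
    change Spec.map (φB ≫ CommRingCat.ofHom ρ) = _
    rw [Spec.map_comp, hφB, Category.assoc]
  have hcomm₀ : φ₀ ≫ CommRingCat.ofHom (algebraMap ↥A' L) =
      CommRingCat.ofHom (algebraMap A K) ≫ CommRingCat.ofHom ψ₀ := by
    apply Spec.map_injective
    rw [Spec.map_comp, Spec.map_comp, hφ₀, ← Category.assoc, hm1, hψ₀]
    have h4 : ∀ r : Spec (CommRingCat.of L) ⟶ (pullback p j).left,
        (r ≫ fstP.left) ≫ p.left = (r ≫ sndP.left) ≫ j.left := by
      intro r
      rw [Category.assoc, Category.assoc, sqPl.w]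
    exact h4 rL
  have hloc : IsLocalHom φ₀.hom := by
    rw [IsLocalRing.isLocalHom_iff_comap_closedPoint]
    change Spec.map φ₀ (IsLocalRing.closedPoint ↥A' : ↥(Spec (CommRingCat.of ↥A'))) = c
    rw [hφ₀, Scheme.Hom.comp_apply, hm2, hv]
  have hmw : m ≫ (hae.rep.pullback l).hom = Spec.map (CommRingCat.ofHom φ₀.hom) ≫ str := by
    change m ≫ (hae.rep.pullback l).hom = Spec.map φ₀ ≫ str
    rw [hφ₀, Category.assoc]
    congr 1
    exact (Over.w p).symm
  let mo : Over.mk (Spec.map (CommRingCat.ofHom φ₀.hom) ≫ str) ⟶ hae.rep.pullback l :=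
    Over.homMk m hmw
  refine ⟨L, inferInstance, A', φ₀.hom, ψ₀, congrArg CommRingCat.Hom.hom hcomm₀, hloc, mo ≫ q,
    hfs, ?_⟩
  rw [Functor.map_comp, Category.assoc, sqV.w, ← Category.assoc, ← Functor.map_comp]
  congr 2
  apply Over.OverMorphism.ext
  exact hφ₀.symm

end Groth.Agent.Lib.Helper14.AS
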