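import Mathlib

/-!
# A closed immersion into a scheme flat over an integral scheme which is an isomorphism
generically is an isomorphism (helper14)
-/

set_option autoImplicit false
universe u
open CategoryTheory CategoryTheory.Limits AlgebraicGeometry IsLocalRing

namespace Groth.Agent.Lib.Helper14.ClImmGen

/-- An element of a flat algebra over a domain which dies in all localizations at primes lying over
the zero ideal is zero. -/
theorem eq_zero_of_forall_prime_comap_bot {A B : Type u} [CommRing A] [IsDomain A] [CommRing B]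
    (ρ : A →+* B) (hρ : ρ.Flat) (b : B)
    (h : ∀ y : PrimeSpectrum B, y.asIdeal.comap ρ = ⊥ → ∃ t ∉ y.asIdeal, t * b = 0) : b = 0 := by
  algebraize [ρ]
  by_contra hb
  let I : Ideal B := Ideal.span {b} |>.annihilator
  have hI : ∀ t : B, t ∈ I ↔ t * b = 0 := fun t => by
    rw [Submodule.mem_annihilator_span_singleton, smul_eq_mul]
  let M : Submonoid B := Submonoid.map (algebraMap A B) (nonZeroDivisors A)
  have hdisj : Disjoint (I : Set B) (M : Set B) := by
    rw [Set.disjoint_left]
    rintro _ ht ⟨a, ha, rfl⟩
    have h1 : a • b = 0 := by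
      rw [Algebra.smul_def]
      exact (hI _).1 ht
    exact hb (Module.Flat.isSMulRegular_of_nonZeroDivisors ha (by
      change a • b = a • (0 : B)
      rw [h1, smul_zero]))
  obtain ⟨p, hp, hIp, hpM⟩ := Ideal.exists_le_prime_disjoint I M hdisj
  obtain ⟨t, htp, htb⟩ := h ⟨p, hp⟩ (by
    rw [eq_bot_iff]
    intro a ha
    rw [Ideal.mem_bot]
    by_contra ha0
    exact Set.disjoint_left.1 hpM ha ⟨a, mem_nonZeroDivisors_of_ne_zero ha0, rfl⟩)
  exact htp (hIp ((hI t).2 htb))

end Groth.Agent.Lib.Helper14.ClImmGen
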