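import Groth.Agent.Lib.Helper14.ClImmGen1

set_option autoImplicit false
universe u
open CategoryTheory CategoryTheory.Limits AlgebraicGeometry IsLocalRing

namespace Groth.Agent.Lib.Helper14.ClImmGen

/-- The canonical morphism from the spectrum of a local ring of a scheme is flat. -/
theorem flat_fromSpecStalk (X : Scheme.{u}) (x : X) : Flat (X.fromSpecStalk x) := by
  obtain ⟨_, ⟨U, hU, rfl⟩, hxU, -⟩ :=
    X.isBasis_affineOpens.exists_subset_of_mem_open (Set.mem_univ x) isOpen_univ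
  rw [← hU.fromSpecStalk_eq_fromSpecStalk hxU]
  change Flat (Spec.map (X.presheaf.germ U x hxU) ≫ hU.fromSpec)
  have h1 : Flat (Spec.map (X.presheaf.germ U x hxU)) := by
    rw [Flat.SpecMap_iff]
    let _ : Algebra Γ(X, U) (X.presheaf.stalk x) :=
      TopCat.Presheaf.algebra_section_stalk X.presheaf ⟨x, hxU⟩
    have := hU.isLocalization_stalk ⟨x, hxU⟩
    exact IsLocalization.flat (X.presheaf.stalk x) (hU.primeIdealOf ⟨x, hxU⟩).asIdeal.primeCompl
  have h2 : IsOpenImmersion hU.fromSpec := hU.isOpenImmersion_fromSpec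
  have h3 : Flat hU.fromSpec := inferInstance
  exact MorphismProperty.comp_mem @Flat _ _ h1 h3

theorem germ_eq_zero_of_eq {X : Scheme.{u}} {U : X.Opens} {x x' : X} (h : x = x') (hx : x ∈ U)
    (hx' : x' ∈ U) (b : Γ(X, U)) (hb : X.presheaf.germ U x hx b = 0) :
    X.presheaf.germ U x' hx' b = 0 := by
  subst h
  exact hb

/-- stalk maps of flat morphisms are injective -/
theorem stalkMap_injective_of_flat {X Y : Scheme.{u}} (f : X ⟶ Y) [Flat f] (x : X) :
    Function.Injective (f.stalkMap x).hom := by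
  have hflat := Flat.stalkMap f x
  algebraize [(f.stalkMap x).hom]
  have hloc : IsLocalHom (algebraMap (Y.presheaf.stalk (f x)) (X.presheaf.stalk x)) :=
    inferInstanceAs (IsLocalHom (f.stalkMap x).hom)
  have hff : Module.FaithfullyFlat (Y.presheaf.stalk (f x)) (X.presheaf.stalk x) :=
    Module.FaithfullyFlat.of_flat_of_isLocalHom
  exact FaithfulSMul.algebraMap_injective _ _

set_option maxHeartbeats 800000 in
/-- the local statement: injectivity on sections over a small affine open -/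
theorem ker_app_eq_bot {C P C' Q : Scheme.{u}} [IsIntegral C] (π : P ⟶ C) [Flat π]
    (φ : C' ⟶ P) (ψ : Q ⟶ P) [Flat ψ]
    (hψ : ∀ p' : P, π p' = genericPoint C → p' ∈ Set.range ψ)
    (hgen : IsIso (pullback.snd φ ψ)) {V : P.Opens} (hV : IsAffineOpen V) {U : C.Opens}
    (hU : IsAffineOpen U) (hVU : V ≤ π ⁻¹ᵁ U) [hne : Nonempty U] (b : Γ(P, V))
    (hb : (φ.app V).hom b = 0) : b = 0 := by
  refine eq_zero_of_forall_prime_comap_bot (π.appLE U V hVU).hom
    (HasRingHomProperty.appLE (P := @Flat) π inferInstance ⟨U, hU⟩ ⟨V, hV⟩ hVU) b (fun y hy => ?_)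
  -- the point of `P` corresponding to `y`
  have hp'V : hV.fromSpec y ∈ V := by
    have h0 : hV.fromSpec y ∈ hV.fromSpec.opensRange := ⟨y, rfl⟩
    rwa [hV.opensRange_fromSpec] at h0
  have hπp' : π (hV.fromSpec y) = genericPoint C := by
    have e1 := IsAffineOpen.SpecMap_appLE_fromSpec π hU hV hVU
    have e2 := congrArg (fun k : Spec Γ(P, V) ⟶ C => k y) e1
    change hU.fromSpec (Spec.map (π.appLE U V hVU) y) = π (hV.fromSpec y) at e2
    have e3 : Spec.map (π.appLE U V hVU) y = genericPoint (Spec Γ(C, U)) := by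
      rw [genericPoint_eq_bot_of_affine]
      exact PrimeSpectrum.ext hy
    rw [← e2, e3, ← hU.primeIdealOf_genericPoint, hU.fromSpec_primeIdealOf]
  obtain ⟨q', hq'⟩ := hψ _ hπp'
  -- the point of the fibre product
  have hsurj : Function.Surjective (pullback.snd φ ψ) :=
    (ConcreteCategory.bijective_of_isIso (pullback.snd φ ψ).base).2
  obtain ⟨z', hz'⟩ := hsurj q'
  have hx₂ : ψ ((pullback.snd φ ψ) z') = hV.fromSpec y := by rw [hz', hq']
  have hx₂V : ψ ((pullback.snd φ ψ) z') ∈ V := hx₂ ▸ hp'V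
  have hx₁V : (pullback.fst φ ψ ≫ φ) z' ∈ V := by
    rw [pullback.condition]
    exact hx₂V
  have key := Scheme.Hom.stalkMap_congr_hom (pullback.fst φ ψ ≫ φ) (pullback.snd φ ψ ≫ ψ)
    pullback.condition z'
  have hL : (pullback.fst φ ψ ≫ φ).stalkMap z' (P.presheaf.germ V _ hx₁V b) = 0 := by
    have h0 : (pullback.fst φ ψ ≫ φ).app V b = 0 := by
      rw [Scheme.Hom.comp_app]
      change ((pullback.fst φ ψ).app (φ ⁻¹ᵁ V)).hom ((φ.app V).hom b) = 0
      rw [hb, map_zero]
    rw [Scheme.Hom.germ_stalkMap_apply, h0, map_zero]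
  rw [key] at hL
  have hsp : (pullback.snd φ ψ ≫ ψ) z' ⤳ (pullback.fst φ ψ ≫ φ) z' :=
    specializes_of_eq (by rw [pullback.condition])
  change ((pullback.snd φ ψ ≫ ψ).stalkMap z').hom ((P.presheaf.stalkSpecializes hsp).hom
    (P.presheaf.germ V _ hx₁V b)) = 0 at hL
  rw [TopCat.Presheaf.germ_stalkSpecializes_apply] at hL
  rw [Scheme.Hom.stalkMap_comp] at hL
  change ((pullback.snd φ ψ).stalkMap z').hom ((ψ.stalkMap ((pullback.snd φ ψ) z')).hom
    (P.presheaf.germ V (ψ ((pullback.snd φ ψ) z')) hx₂V b)) = 0 at hL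
  have hinj1 : Function.Injective ((pullback.snd φ ψ).stalkMap z').hom :=
    ((ConcreteCategory.isIso_iff_bijective _).1 inferInstance).1
  have h1 := hinj1 (hL.trans (map_zero _).symm)
  have h2 := stalkMap_injective_of_flat ψ _ (h1.trans (map_zero _).symm)
  have h3 := germ_eq_zero_of_eq hx₂ hx₂V hp'V b h2
  have hloc := hV.isLocalization_stalk' y hp'V
  obtain ⟨⟨t, ht⟩, htb⟩ := (@IsLocalization.map_eq_zero_iff Γ(P, V) _ y.asIdeal.primeCompl
    (P.presheaf.stalk (hV.fromSpec y)) _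
    (TopCat.Presheaf.algebra_section_stalk P.presheaf ⟨_, hp'V⟩) hloc b).1 h3
  exact ⟨t, ht, htb⟩

/-- **A closed immersion into a scheme flat over an integral scheme, which becomes an isomorphism
after a flat base change hitting all points over the generic point, is an isomorphism.** -/
theorem isIso_of_isIso_generic {C P C' Q : Scheme.{u}} [IsIntegral C] (π : P ⟶ C) [Flat π]
    (φ : C' ⟶ P) [IsClosedImmersion φ] (ψ : Q ⟶ P) [Flat ψ]
    (hψ : ∀ p' : P, π p' = genericPoint C → p' ∈ Set.range ψ)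
    (hgen : IsIso (pullback.snd φ ψ)) : IsIso φ := by
  rw [IsClosedImmersion.isIso_iff_ker_eq_bot]
  have hcov : ∀ p : P, ∃ (V : P.affineOpens) (U : C.affineOpens), p ∈ V.1 ∧ V.1 ≤ π ⁻¹ᵁ U.1 := by
    intro p
    obtain ⟨_, ⟨U, hU, rfl⟩, hpU, -⟩ :=
      C.isBasis_affineOpens.exists_subset_of_mem_open (Set.mem_univ (π p)) isOpen_univ
    obtain ⟨_, ⟨V, hV, rfl⟩, hpV, hVU⟩ := P.isBasis_affineOpens.exists_subset_of_mem_open
      (show p ∈ (π ⁻¹ᵁ U : Set P) from hpU) (π ⁻¹ᵁ U).isOpen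
    exact ⟨⟨V, hV⟩, ⟨U, hU⟩, hpV, hVU⟩
  choose V U hpV hVU using hcov
  refine Scheme.IdealSheafData.ext_of_iSup_eq_top V ?_ (fun p => ?_)
  · rw [eq_top_iff]
    intro p _
    exact TopologicalSpace.Opens.mem_iSup.2 ⟨p, hpV p⟩
  change φ.ker.ideal (V p) = ⊥
  rw [eq_bot_iff]
  refine le_trans (Scheme.Hom.ideal_ker_le φ (V p)) ?_
  intro b hb
  rw [RingHom.mem_ker] at hb
  rw [Ideal.mem_bot]
  have hne : Nonempty (U p).1 := ⟨⟨π p, hVU p (hpV p)⟩⟩
  exact ker_app_eq_bot π φ ψ hψ hgen (V p).2 (U p).2 (hVU p) b hb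

end Groth.Agent.Lib.Helper14.ClImmGen
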