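import Mathlib
import Groth.Prelude.Def_AlgSpModX

universe u
open CategoryTheory CategoryTheory.Limits AlgebraicGeometry Opposite

namespace Groth.Agent.Lib.Helper14.AS

set_option backward.isDefEq.respectTransparency false

variable {S : Scheme.{u}}

/-- The object of the small étale site given by an open subscheme of an object. -/
noncomputable def openObj {X : AlgSp.Sp S} (E : AlgSp.EtOver X) (V : E.obj.left.left.Opens) :
    AlgSp.EtOver X :=
  AlgSp.EtOver.mk (U := Over.mk (V.ι ≫ E.obj.left.hom))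
    ((AlgSp.yon S).map (Over.homMk V.ι rfl : Over.mk (V.ι ≫ E.obj.left.hom) ⟶ E.obj.left) ≫ E.obj.hom)
    ((AlgSp.repWith_isMultiplicative (S := S) @Etale).comp_mem _ _
      ((AlgSp.repWith_yon_map_iff _ _).2 (show Etale V.ι from inferInstance)) E.property)

noncomputable def openHom {X : AlgSp.Sp S} (E : AlgSp.EtOver X) (V : E.obj.left.left.Opens) :
    openObj E V ⟶ E :=
  AlgSp.EtOver.homMk (Over.homMk V.ι rfl) rfl

theorem affine_cover_mem_etTop {X : AlgSp.Sp S} (E : AlgSp.EtOver X) :
    Sieve.ofArrows (fun V : E.obj.left.left.affineOpens => openObj E V.1)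
      (fun V => openHom E V.1) ∈ AlgSp.etTop X E := by
  refine AlgSp.ofArrows_mem_etTop _ _ fun x => ?_
  obtain ⟨_, ⟨V, hV, rfl⟩, hxV, -⟩ := (E.obj.left.left.isBasis_affineOpens).exists_subset_of_mem_open
    (Set.mem_univ x) isOpen_univ
  refine ⟨⟨V, hV⟩, ?_⟩
  change x ∈ Set.range (Scheme.Opens.ι (X := E.obj.left.left) V)
  rw [Scheme.Opens.range_ι]
  exact hxV

theorem isLocallySurjective_bcRingHom {Z X : AlgSp.Space S} (i : Z ⟶ X)
    (hi : AlgSp.RepWith @IsClosedImmersion i.hom) :
    Presheaf.IsLocallySurjective (AlgSp.etTop X.obj) (AlgSp.bcRingHom hi.1).hom := by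
  refine ⟨fun {E} s => ?_⟩
  refine (AlgSp.etTop X.obj).superset_covering ?_ (affine_cover_mem_etTop E)
  rintro E' g ⟨_, a, _, ⟨V⟩, rfl⟩
  refine Sieve.downward_closed _ ?_ a
  -- the closed immersion over the affine V
  have hcl : IsClosedImmersion (hi.1.snd (openObj E V.1).obj.hom).left := hi.property_snd _
  have haff : IsAffine (openObj E V.1).obj.left.left := V.2
  obtain ⟨-, hsurj⟩ := IsClosedImmersion.isAffine_surjective_of_isAffine
    (hi.1.snd (openObj E V.1).obj.hom).left
  change ∃ t, _ = _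
  generalize (ConcreteCategory.hom
          ((((AlgSp.EtOver.bc hi.1).sheafPushforwardContinuous RingCat (AlgSp.etTop X.obj) (AlgSp.etTop Z.obj)).obj
                  (AlgSp.OEtRing Z.obj)).obj.map
            (openHom E ↑V).op)) s = y
  change ULift.{u + 1} Γ((hi.1.pullback (openObj E V.1).obj.hom).left, ⊤) at y
  obtain ⟨t0, ht0⟩ := hsurj y.down
  refine ⟨(ULift.up t0 : ULift.{u + 1} Γ((openObj E V.1).obj.left.left, ⊤)), ?_⟩
  exact ULift.ext _ _ ht0

end Groth.Agent.Lib.Helper14.AS
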