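import Groth.Prelude.Def_AlgSpModX
import Groth.Prelude.Def_AlgSp4
import Groth.Agent.Lib.Helper14.AlgSpLocP2
import Groth.Agent.Lib.Helper14.EtSite1
import Groth.Agent.Lib.Helper14.AlgSpPoints

universe u
open CategoryTheory CategoryTheory.Limits AlgebraicGeometry Opposite

namespace Groth.Agent.Lib.Helper14.AS
open AlgSp

theorem lfp_iff_ker_fg_of_isClosedImmersion {W V : Scheme.{u}} (π : W ⟶ V) [IsAffine V]
    [IsClosedImmersion π] :
    LocallyOfFinitePresentation π ↔ (RingHom.ker π.appTop.hom).FG := by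
  obtain ⟨hW, hsurj⟩ := IsClosedImmersion.isAffine_surjective_of_isAffine π
  rw [HasRingHomProperty.iff_of_isAffine (P := @LocallyOfFinitePresentation)]
  constructor
  · intro h
    algebraize [π.appTop.hom]
    have h1 : Algebra.FinitePresentation Γ(V, ⊤) Γ(W, ⊤) := h
    have := Algebra.FinitePresentation.ker_fG_of_surjective (Algebra.ofId Γ(V, ⊤) Γ(W, ⊤)) hsurj
    exact this
  · intro h
    exact RingHom.FinitePresentation.of_surjective _ hsurj h

variable {S : Scheme.{u}} {Z X : Sp S}

set_option backward.isDefEq.respectTransparency false in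
theorem locP_lfp_iff_idealOfRep_fg (hX : IsAlgSpace X) (i : Z ⟶ X)
    (hi : RepWith @IsClosedImmersion i) :
    LocP @LocallyOfFinitePresentation i ↔
      ∀ (E : EtOver X) (hE : IsAffine E.obj.left.left), ((idealOfRep hi.1).ideal E hE).FG := by
  have hcl : ∀ E : EtOver X, IsClosedImmersion (EtOver.bcπ hi.1 E).left :=
    fun E => hi.property_snd E.obj.hom
  constructor
  · intro h E hE
    have := hcl E
    have h1 : LocallyOfFinitePresentation (EtOver.bcπ hi.1 E).left :=
      h (EtOver.bcObj hi.1 E).obj.hom E.obj.hom (EtOver.bcπ hi.1 E) (EtOver.bcObj hi.1 E).property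
        E.property (EtOver.isPullback_bcObj hi.1 E).w
    exact (lfp_iff_ker_fg_of_isClosedImmersion (EtOver.bcπ hi.1 E).left).1 h1
  · intro h
    obtain ⟨V, b, hbe, hbs⟩ := hX.atlas
    let E₀ : EtOver X := EtOver.mk b hbe
    let ι := E₀.obj.left.left.affineOpens
    let Ej : ι → EtOver X := fun j => openObj E₀ j.1
    refine locP_of_etCover etLocal_lfp (fun j => (yon S).obj (EtOver.bcObj hi.1 (Ej j)).obj.left)
      (fun j => (EtOver.bcObj hi.1 (Ej j)).obj.hom) (fun j => IsAlgSpace.yon_obj _)
      (fun j => isEtaleMor_of_repWith _ (EtOver.bcObj hi.1 (Ej j)).property) ?_ i ?_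
    · intro z
      obtain ⟨v, hv⟩ := ofPt_surjective_of_repWith hbs (Points.map i z)
      obtain ⟨_, ⟨W, hW, rfl⟩, hvW, -⟩ := (E₀.obj.left.left.isBasis_affineOpens).exists_subset_of_mem_open
        (Set.mem_univ v) isOpen_univ
      let j : ι := ⟨W, hW⟩
      have sq := EtOver.isPullback_bcObj hi.1 (Ej j)
      have e : Points.map i z = Points.map (Ej j).obj.hom
          (Points.ofScheme (Ej j).obj.left ⟨v, hvW⟩) := by
        rw [← hv, Points.map_ofPt, Category.id_comp]
        have := ofPt_yon_map_comp (openHom E₀ W).hom.left b ⟨v, hvW⟩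
        exact this.symm
      obtain ⟨w, hw1, -⟩ := points_exists_of_isPullback sq z _ e
      exact ⟨j, w, hw1⟩
    · intro j
      have hjA : IsAffine (Ej j).obj.left.left := j.2
      have := hcl (Ej j)
      have h1 : LocallyOfFinitePresentation (EtOver.bcπ hi.1 (Ej j)).left :=
        (lfp_iff_ker_fg_of_isClosedImmersion (EtOver.bcπ hi.1 (Ej j)).left).2 (h (Ej j) hjA)
      refine locP_of_chart etLocal_lfp _ (𝟙 _) (Ej j).obj.hom (EtOver.bcπ hi.1 (Ej j))
        (repWith_id _ _) (repWith_id _ _) (Ej j).property ?_ h1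
      rw [Category.id_comp]
      exact (EtOver.isPullback_bcObj hi.1 (Ej j)).w

end Groth.Agent.Lib.Helper14.AS
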