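import Groth.Agent.Lib.Helper14.SchImg7

/-!
# Closed subspaces of an algebraic space from compatible ideals on etale charts (helper14)

An `IdealFam Y` assigns an ideal sheaf `K b` on `V` to every point `b : h_V ⟶ Y`, compatibly on
admissible etale charts.  It cuts out a closed subspace of `Y` whose pullback to every admissible
etale chart is the closed subscheme of `K b`.
-/

universe u
open CategoryTheory CategoryTheory.Limits AlgebraicGeometry Opposite Topology

namespace Groth.Agent.Lib.Helper14.AS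

open AlgSp Groth.Agent.Lib.Helper14.AS

variable {S : Scheme.{u}}

/-- A compatible family of ideal sheaves on the admissible etale charts of `Y`. -/
structure IdealFam (Y : Sp S) where
  A : Over S → Prop
  hA : ∀ (V : Over S) (x : V.left), ∃ O : V.left.Opens, x ∈ O ∧ A (openSub V O)
  K : ∀ ⦃V : Over S⦄, ((yon S).obj V ⟶ Y) → V.left.IdealSheafData
  compat : ∀ ⦃V₀ V : Over S⦄, A V₀ → A V → ∀ (b₀ : (yon S).obj V₀ ⟶ Y) (b : (yon S).obj V ⟶ Y),
    RepWith @Etale b₀ → RepWith @Etale b → ∀ ⦃T : Over S⦄ (t₀ : T ⟶ V₀) (v : T ⟶ V),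
      (yon S).map t₀ ≫ b₀ = (yon S).map v ≫ b → (K b₀ ≤ t₀.left.ker ↔ K b ≤ v.left.ker)

namespace IdealFam

variable {Y : Sp S} (F : IdealFam Y)

/-- The predicate cutting out the closed subspace. -/
noncomputable def pred : SubPred Y where
  P T g := ∀ (V : Over S) (_ : F.A V) (b : (yon S).obj V ⟶ Y), RepWith @Etale b →
    ∀ (T' : Over S) (t : T' ⟶ T) (v : T' ⟶ V), (yon S).map t ≫ g = (yon S).map v ≫ b →
      F.K b ≤ v.left.ker
  comp T T' s g h V hV b hb T'' t v hv :=
    h V hV b hb T'' (t ≫ s) v (by rw [Functor.map_comp, Category.assoc, hv])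
  loc T g R hR h V hV b hb T' t v hv := by
    refine le_ker_of_locally _ v (Sieve.pullback t (Sieve.generate R))
      ((AlgSp.J S).pullback_stable t ((mem_J_iff _).2 ⟨R, hR, Sieve.le_generate R⟩)) ?_
    rintro W w ⟨W', a, r, hr, har⟩
    exact h r hr V hV b hb W a (w ≫ v) (by
      rw [← Functor.map_comp_assoc, har, Functor.map_comp_assoc, hv, Functor.map_comp_assoc])

theorem pred_iff {V₀ : Over S} (hV₀ : F.A V₀) (b₀ : (yon S).obj V₀ ⟶ Y) (hb₀ : RepWith @Etale b₀)
    {T : Over S} (t₀ : T ⟶ V₀) :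
    F.pred.P ((yon S).map t₀ ≫ b₀) ↔ F.K b₀ ≤ t₀.left.ker := by
  constructor
  · intro h
    exact h V₀ hV₀ b₀ hb₀ T (𝟙 T) t₀ (by rw [CategoryTheory.Functor.map_id, Category.id_comp])
  · intro h V hV b hb T' t v hv
    refine (F.compat hV₀ hV b₀ b hb₀ hb (t ≫ t₀) v
      (by rw [Functor.map_comp, Category.assoc, hv])).1 ?_
    rw [Over.comp_left]
    exact h.trans (Scheme.Hom.le_ker_comp _ _)

set_option backward.isDefEq.respectTransparency.types false in
/-- An admissible etale chart around a point of a scheme mapping to `Y`. -/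
theorem exists_chart_at (hY : IsAlgSpace Y) {T : Over S} (g₀ : (yon S).obj T ⟶ Y) (x : T.left) :
    ∃ (W V₀ : Over S) (_ : F.A V₀) (w : W ⟶ T) (t₀ : W ⟶ V₀)
      (b₀ : (yon S).obj V₀ ⟶ Y), RepWith @Etale b₀ ∧ Etale w.left ∧ x ∈ Set.range w.left ∧
        (yon S).map w ≫ g₀ = (yon S).map t₀ ≫ b₀ := by
  obtain ⟨Y₀, p, hpe, hps⟩ := hY.atlas
  let pK := hpe.rep.snd g₀
  let qP := hpe.rep.fst' g₀
  have sqP : IsPullback ((yon S).map qP) ((yon S).map pK) p g₀ := hpe.rep.isPullback' g₀
  have hpKet : Etale pK.left := hpe.property_snd g₀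
  have hpKsurj : Surjective pK.left := hps.property _ _ _ sqP
  obtain ⟨y₀, hy₀⟩ := hpKsurj.surj x
  obtain ⟨V₀', hyV₀', hV₀'⟩ := F.hA Y₀ (qP.left y₀)
  obtain ⟨t₀, ht₀⟩ := exists_restrict qP V₀'
  refine ⟨openSub _ (qP.left ⁻¹ᵁ V₀'), openSub Y₀ V₀', hV₀', openSubι _ _ ≫ pK, t₀,
    (yon S).map (openSubι Y₀ V₀') ≫ p, repWith_etale_restrict hpe V₀', ?_, ?_, ?_⟩
  · change Etale ((openSubι _ (qP.left ⁻¹ᵁ V₀')).left ≫ pK.left)
    infer_instance
  · refine ⟨⟨y₀, hyV₀'⟩, ?_⟩
    rw [Over.comp_left, Scheme.Hom.comp_apply]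
    exact hy₀
  · rw [Functor.map_comp, Category.assoc, ← sqP.w, ← Category.assoc, ← Functor.map_comp, ← ht₀,
      Functor.map_comp, Category.assoc]

set_option backward.isDefEq.respectTransparency.types false in
/-- The subsheaf cut out by the family is a closed subspace. -/
theorem repWith (hY : IsAlgSpace Y) : RepWith @IsClosedImmersion F.pred.ι := by
  refine Groth.Agent.Lib.Helper24.RepLocal.repWith_of_locally @IsClosedImmersion
    (fun X Y f hf => ⟨inferInstance, inferInstance, inferInstance⟩) _ ?_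
  intro T g₀ x
  obtain ⟨W, V₀, hV₀, w, t₀, b₀, hb₀, hwe, hxw, hcomm⟩ := F.exists_chart_at hY g₀ x
  have sqc := IsPullback.of_hasPullback (subOverι (F.K b₀)) t₀
  have hc : IsClosedImmersion (pullback.snd (subOverι (F.K b₀)) t₀).left :=
    MorphismProperty.of_isPullback (P := @IsClosedImmersion) (sqc.map (Over.forget S))
      (inferInstanceAs (IsClosedImmersion (subOverι (F.K b₀)).left))
  obtain ⟨fst, sq⟩ := F.pred.exists_isPullback ((yon S).map w ≫ g₀)
    (pullback.snd (subOverι (F.K b₀)) t₀) (fun T' t => by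
      rw [hcomm, ← Category.assoc, ← Functor.map_comp, F.pred_iff hV₀ b₀ hb₀ (t ≫ t₀),
        le_ker_iff_factors]
      constructor
      · rintro ⟨l, hl⟩
        exact ⟨pullback.lift l t hl, pullback.lift_snd _ _ _⟩
      · rintro ⟨w', rfl⟩
        exact ⟨w' ≫ pullback.fst _ _, by rw [Category.assoc, pullback.condition, Category.assoc]⟩)
  exact ⟨W, _, w, _, fst, sq, inferInstance, inferInstance, hxw, hc⟩

theorem isAlgSpace (hY : IsAlgSpace Y) : IsAlgSpace F.pred.sheaf :=
  isAlgSpace_of_representable_to hY _ (F.repWith hY).rep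

/-- Chart description of the closed subspace. -/
theorem factors_iff {V : Over S} (hV : F.A V) (b : (yon S).obj V ⟶ Y) (hb : RepWith @Etale b)
    {T : Over S} (t : T ⟶ V) :
    (∃ l : (yon S).obj T ⟶ F.pred.sheaf, l ≫ F.pred.ι = (yon S).map t ≫ b) ↔
      F.K b ≤ t.left.ker := by
  rw [← F.pred.P_iff, F.pred_iff hV b hb]

/-- The pullback of the closed subspace to an admissible etale chart. -/
theorem exists_isPullback {V : Over S} (hV : F.A V) (b : (yon S).obj V ⟶ Y)
    (hb : RepWith @Etale b) :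
    ∃ fst : (yon S).obj (subOver (F.K b)) ⟶ F.pred.sheaf,
      IsPullback fst ((yon S).map (subOverι (F.K b))) F.pred.ι b := by
  refine F.pred.exists_isPullback b (subOverι (F.K b)) fun T' t => ?_
  rw [F.pred_iff hV b hb, le_ker_iff_factors]

end IdealFam

end Groth.Agent.Lib.Helper14.AS
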