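import Groth.Agent.Lib.Helper24.CoprodSp2
import Groth.Agent.Lib.Helper14.Norm5c
import Groth.Agent.Lib.Helper14.SheafQuot2
import Groth.Prelude.Def_AlgSp4

/-!
# Finite coproducts of finite morphisms are finite (helper14)
-/

set_option autoImplicit false
universe u
open CategoryTheory CategoryTheory.Limits AlgebraicGeometry Opposite
open AlgSp

namespace Groth.Agent.Lib.Helper14.AS

/-- A finite coproduct of finite morphisms of schemes is finite. -/
theorem isFinite_sigmaDesc : ∀ (ι : Type u) [Finite ι] (X : ι → Scheme.{u}) (Y : Scheme.{u})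
    (f : ∀ i, X i ⟶ Y), (∀ i, IsFinite (f i)) → IsFinite (Sigma.desc f) := by
  intro ι _
  refine Finite.induction_empty_option
    (P := fun ι : Type u => ∀ (X : ι → Scheme.{u}) (Y : Scheme.{u})
      (f : ∀ i, X i ⟶ Y), (∀ i, IsFinite (f i)) → IsFinite (Sigma.desc f)) ?_ ?_ ?_ ι
  · intro α β e ih X Y f hf
    have h1 : IsFinite (Sigma.desc (f := X ∘ e) (fun a => f (e a))) :=
      ih (X ∘ e) Y (fun a => f (e a)) (fun a => hf (e a))
    have heq : Sigma.desc (f := X ∘ e) (fun a => f (e a)) =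
        (Sigma.reindex e X).hom ≫ Sigma.desc f := by
      apply Sigma.hom_ext
      intro a
      rw [Sigma.ι_desc, ← Category.assoc, Sigma.ι_reindex_hom, Sigma.ι_desc]
    rw [heq] at h1
    have h2 : IsFinite (inv (Sigma.reindex e X).hom) := inferInstance
    have h3 := IsIso.inv_hom_id_assoc (Sigma.reindex e X).hom (Sigma.desc f)
    rw [← h3]
    infer_instance
  · intro X Y f hf
    have : IsEmpty ↥(∐ X) := ⟨fun x => by
      obtain ⟨⟨i, _⟩, _⟩ := (sigmaMk X).surjective x
      exact i.elim⟩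
    infer_instance
  · intro α _ ih X Y f hf
    let φ : ∐ X ⟶ X none ⨿ (∐ (fun a => X (some a))) := Sigma.desc (fun o => match o with
      | none => coprod.inl
      | some a => Sigma.ι (fun a => X (some a)) a ≫ coprod.inr)
    let ψ : X none ⨿ (∐ (fun a => X (some a))) ⟶ ∐ X :=
      coprod.desc (Sigma.ι X none) (Sigma.desc fun a => Sigma.ι X (some a))
    have hφn : Sigma.ι X none ≫ φ = coprod.inl := Sigma.ι_desc _ _
    have hφs : ∀ a, Sigma.ι X (some a) ≫ φ =
        Sigma.ι (fun a => X (some a)) a ≫ coprod.inr := fun a => Sigma.ι_desc _ _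
    have hψl : coprod.inl ≫ ψ = Sigma.ι X none := coprod.inl_desc _ _
    have hψr : coprod.inr ≫ ψ = (Sigma.desc fun a => Sigma.ι X (some a)) := coprod.inr_desc _ _
    have h1 : φ ≫ ψ = 𝟙 _ := by
      apply Sigma.hom_ext
      rintro (_ | a)
      · rw [← Category.assoc, hφn, hψl, Category.comp_id]
      · rw [← Category.assoc, hφs, Category.assoc, hψr, Sigma.ι_desc, Category.comp_id]
    have h2 : ψ ≫ φ = 𝟙 _ := by
      apply coprod.hom_ext
      · rw [← Category.assoc, hψl, hφn, Category.comp_id]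
      · apply Sigma.hom_ext
        intro a
        rw [Category.comp_id, ← Category.assoc coprod.inr ψ φ, hψr,
          Sigma.ι_desc_assoc, hφs]
    have hdesc : Sigma.desc f = φ ≫ coprod.desc (f none) (Sigma.desc fun a => f (some a)) := by
      apply Sigma.hom_ext
      rintro (_ | a)
      · rw [Sigma.ι_desc, ← Category.assoc, hφn, coprod.inl_desc]
      · rw [Sigma.ι_desc, ← Category.assoc, hφs, Category.assoc, coprod.inr_desc, Sigma.ι_desc]
    have : IsIso φ := ⟨ψ, h1, h2⟩
    have hA : IsFinite (Sigma.desc fun a => f (some a)) := ih _ _ _ (fun a => hf (some a))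
    have := hf none
    rw [hdesc]
    infer_instance


open Groth.Agent.Lib.Helper24.CoprodSp Groth.Agent.Lib.Helper24.ZarGlue

variable {S : Scheme.{u}}

/-- Reindexing a cofan over `Fin n` by `ULift (Fin n)`. -/
def cofanULift {n : ℕ} {F : Fin n → Sp S} (c : Cofan F) :
    Cofan (fun i : ULift.{u} (Fin n) => F i.down) :=
  Cofan.mk c.pt (fun i => c.inj i.down)

/-- The reindexed cofan is again a colimit. -/
def isColimitCofanULift {n : ℕ} {F : Fin n → Sp S} {c : Cofan F} (hc : IsColimit c) :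
    IsColimit (cofanULift c) :=
  mkCofanColimit _ (fun s => Cofan.IsColimit.desc hc (fun i => s.inj ⟨i⟩))
    (fun s i => Cofan.IsColimit.fac hc _ i.down)
    (fun s m hm => Cofan.IsColimit.hom_ext hc _ _ (fun i => by
      rw [Cofan.IsColimit.fac]
      exact hm ⟨i⟩))

set_option backward.isDefEq.respectTransparency.types false in
/-- **A finite disjoint union of sheaves finite over `Y` is finite over `Y`.** -/
theorem isFiniteMor_of_cofan {ι : Type u} [Finite ι] {F : ι → Sp S} {Y : Sp S} {c : Cofan F}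
    (hc : IsColimit c) (g : ∀ i, F i ⟶ Y) (hg : ∀ i, IsFiniteMor (g i)) (d : c.pt ⟶ Y)
    (hd : ∀ i, c.inj i ≫ d = g i) : IsFiniteMor d := by
  intro Z hZ γ
  choose W r φ sq hWaff hrfin using fun i => hg i hZ γ
  obtain ⟨q, hq, hqu⟩ := existsUnique_desc_yon_sigmaOver W (fun i => φ i ≫ c.inj i)
  -- uniqueness of points of `⊔ W i` with given images
  have huniq : ∀ (W' : Over S) (z z' : (yon S).obj W' ⟶ (yon S).obj (sigmaOver W)),
      z ≫ q = z' ≫ q → z ≫ (yon S).map (sigmaOverDesc W r) = z' ≫ (yon S).map (sigmaOverDesc W r) →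
      z = z' := by
    intro W' z z' hzq hzr
    obtain ⟨z₀, rfl⟩ := (yon S).map_surjective z
    obtain ⟨z₀', rfl⟩ := (yon S).map_surjective z'
    congr 1
    refine over_hom_ext_of_locally z₀ z₀' fun t => ?_
    obtain ⟨i, hi⟩ := exists_mem_range_sigmaOverι W (z₀.left t)
    obtain ⟨j, hj⟩ := exists_mem_range_sigmaOverι W (z₀'.left t)
    let O : W'.left.Opens := z₀.left ⁻¹ᵁ (sigmaOverι W i).left.opensRange ⊓
      z₀'.left ⁻¹ᵁ (sigmaOverι W j).left.opensRange
    have htO : t ∈ O := ⟨hi, hj⟩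
    have hr : Set.range (O.ι ≫ z₀.left) ⊆ Set.range (sigmaOverι W i).left := by
      rintro _ ⟨s, rfl⟩
      exact s.2.1
    have hr' : Set.range (O.ι ≫ z₀'.left) ⊆ Set.range (sigmaOverι W j).left := by
      rintro _ ⟨s, rfl⟩
      exact s.2.2
    let b₀ : (O : Scheme.{u}) ⟶ (W i).left :=
      IsOpenImmersion.lift (sigmaOverι W i).left (O.ι ≫ z₀.left) hr
    have hb₀ : b₀ ≫ (sigmaOverι W i).left = O.ι ≫ z₀.left := IsOpenImmersion.lift_fac _ _ _
    let b₀' : (O : Scheme.{u}) ⟶ (W j).left :=
      IsOpenImmersion.lift (sigmaOverι W j).left (O.ι ≫ z₀'.left) hr'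
    have hb₀' : b₀' ≫ (sigmaOverι W j).left = O.ι ≫ z₀'.left := IsOpenImmersion.lift_fac _ _ _
    let b : resOpen W' O ⟶ W i := Over.homMk b₀ (by
      change b₀ ≫ (W i).hom = O.ι ≫ W'.hom
      rw [← Over.w (sigmaOverι W i), ← Category.assoc, hb₀, Category.assoc, Over.w])
    let b' : resOpen W' O ⟶ W j := Over.homMk b₀' (by
      change b₀' ≫ (W j).hom = O.ι ≫ W'.hom
      rw [← Over.w (sigmaOverι W j), ← Category.assoc, hb₀', Category.assoc, Over.w])
    have hb : b ≫ sigmaOverι W i = resOpenι W' O ≫ z₀ := by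
      ext1
      exact hb₀
    have hb' : b' ≫ sigmaOverι W j = resOpenι W' O ≫ z₀' := by
      ext1
      exact hb₀'
    have hinj : ((yon S).map b ≫ φ i) ≫ c.inj i = ((yon S).map b' ≫ φ j) ≫ c.inj j := by
      rw [Category.assoc, Category.assoc, ← hq i, ← hq j, ← Functor.map_comp_assoc,
        ← Functor.map_comp_assoc, hb, hb', Functor.map_comp, Functor.map_comp, Category.assoc,
        Category.assoc, hzq]
    have hij : i = j := by
      by_contra hne
      have hE : IsEmpty (resOpen W' O).left := isEmpty_of_inj_eq hc hne _ _ hinj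
      exact hE.false ⟨t, htO⟩
    subst hij
    have hmono := mono_inj hc i
    have hbb : (yon S).map b = (yon S).map b' := by
      refine (sq i).hom_ext ?_ ?_
      · exact (cancel_mono (c.inj i)).1 hinj
      · have e1 : b ≫ r i = resOpenι W' O ≫ z₀ ≫ sigmaOverDesc W r := by
          rw [← sigmaOverι_desc W r i, ← Category.assoc, hb, Category.assoc]
        have e2 : b' ≫ r i = resOpenι W' O ≫ z₀' ≫ sigmaOverDesc W r := by
          rw [← sigmaOverι_desc W r i, ← Category.assoc, hb', Category.assoc]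
        rw [← Functor.map_comp, ← Functor.map_comp, e1, e2, Functor.map_comp, Functor.map_comp,
          Functor.map_comp, Functor.map_comp, hzr]
    have hbb' : b = b' := (yon S).map_injective hbb
    have h3 : resOpenι W' O ≫ z₀ = resOpenι W' O ≫ z₀' := by rw [← hb, ← hb', hbb']
    exact ⟨O, htO, congrArg CommaMorphism.left h3⟩
  refine ⟨sigmaOver W, sigmaOverDesc W r, q, ?_, ?_, ?_⟩
  · refine isPullback_iff_yon.2 ⟨?_, fun T' x y hxy => ?_⟩
    · obtain ⟨e, -, heu⟩ := existsUnique_desc_yon_sigmaOver (F := Y) W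
        (fun i => (yon S).map (r i) ≫ γ)
      have h1 : q ≫ d = e := heu _ (fun i => by
        rw [← Category.assoc, hq i, Category.assoc, hd i, (sq i).w])
      have h2 : (yon S).map (sigmaOverDesc W r) ≫ γ = e := heu _ (fun i => by
        rw [← Category.assoc, ← Functor.map_comp, sigmaOverι_desc])
      exact h1.trans h2.symm
    · let Q : ∀ ⦃W' : Over S⦄, (W' ⟶ T') → ((yon S).obj W' ⟶ (yon S).obj (sigmaOver W)) → Prop :=
        fun W' w z => z ≫ q = (yon S).map w ≫ x ∧
          z ≫ (yon S).map (sigmaOverDesc W r) = (yon S).map w ≫ y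
      have hpull : ∀ ⦃W₁ W₂ : Over S⦄ (w : W₁ ⟶ T') (g' : W₂ ⟶ W₁)
          (z : (yon S).obj W₁ ⟶ (yon S).obj (sigmaOver W)), Q w z →
          Q (g' ≫ w) ((yon S).map g' ≫ z) := by
        rintro W₁ W₂ w g' z ⟨h1, h2⟩
        exact ⟨by rw [Category.assoc, h1, Functor.map_comp, Category.assoc],
          by rw [Category.assoc, h2, Functor.map_comp, Category.assoc]⟩
      have huq : ∀ ⦃W₁ : Over S⦄ (w : W₁ ⟶ T')
          (z z' : (yon S).obj W₁ ⟶ (yon S).obj (sigmaOver W)), Q w z → Q w z' → z = z' := by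
        rintro W₁ w z z' ⟨h1, h2⟩ ⟨h1', h2'⟩
        exact huniq W₁ z z' (h1.trans h1'.symm) (h2.trans h2'.symm)
      let Sv : Sieve T' :=
        { arrows := fun W' w => ∃ z, Q w z
          downward_closed := fun {W₁ W₂} w hw g' => by
            obtain ⟨z, hz⟩ := hw
            exact ⟨_, hpull w g' z hz⟩ }
      have hSv : Sv ∈ J S T' := mem_J_of_pointwise Sv (fun τ => by
        obtain ⟨W', w, i, a, hF, hL, hx, ha⟩ := exists_lift_locally hc x τ
        refine ⟨W', w, hF, hL, hx, ?_⟩
        have hcomp : a ≫ g i = ((yon S).map w ≫ y) ≫ γ := by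
          rw [← hd i, ← Category.assoc, ha, Category.assoc, hxy, Category.assoc]
        refine ⟨(sq i).lift a ((yon S).map w ≫ y) hcomp ≫ (yon S).map (sigmaOverι W i), ?_, ?_⟩
        · rw [Category.assoc, hq i, ← Category.assoc, (sq i).lift_fst, ha]
        · rw [Category.assoc, ← Functor.map_comp, sigmaOverι_desc, (sq i).lift_snd])
      obtain ⟨z, hz⟩ := exists_glue_of_unique Q hpull huq Sv hSv (fun W' w hw => hw)
      have hz1 : z ≫ q = x := yon_hom_ext_of_cover _ _ Sv hSv (fun W' w hw => by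
        rw [← Category.assoc]
        exact (hz w hw).1)
      have hz2 : z ≫ (yon S).map (sigmaOverDesc W r) = y :=
        yon_hom_ext_of_cover _ _ Sv hSv (fun W' w hw => by
          rw [← Category.assoc]
          exact (hz w hw).2)
      refine ⟨z, ⟨hz1, hz2⟩, ?_⟩
      rintro z' ⟨h1, h2⟩
      exact huniq T' z' z (h1.trans hz1.symm) (h2.trans hz2.symm)
  · have : ∀ i, IsAffine (W i).left := hWaff
    exact inferInstanceAs (IsAffine (∐ fun i => (W i).left))
  · have : ∀ i, IsFinite (r i).left := hrfin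
    exact isFinite_sigmaDesc ι _ _ (fun i => (r i).left) this

end Groth.Agent.Lib.Helper14.AS
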