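import Groth.Agent.Lib.Helper14.ColimSp6
import Groth.Prelude.Def_AlgSp4

universe u v w

open CategoryTheory Limits AlgebraicGeometry Opposite

namespace Groth.Agent.Lib.Helper14.AS

open AlgSp

variable {S : Scheme.{u}} {I : Type v} [Category.{w} I] {B : Space S}

section OWrap

/-- The underlying sheaf of an algebraic space over `B`. -/
abbrev osp (X : Over B) : Sp S := X.left.obj

/-- The structure morphism. -/
abbrev ostr (X : Over B) : osp X ⟶ B.obj := X.hom.hom

/-- The underlying morphism of sheaves. -/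
abbrev omor {X Y : Over B} (f : X ⟶ Y) : osp X ⟶ osp Y := f.left.hom

theorem omor_str {X Y : Over B} (f : X ⟶ Y) : omor f ≫ ostr Y = ostr X :=
  congrArg (fun k => k.hom) (Over.w f)

theorem omor_ext {X Y : Over B} {f g : X ⟶ Y} (h : omor f = omor g) : f = g := by
  apply Over.OverMorphism.ext
  apply InducedCategory.hom_ext
  exact h

/-- Objects from sheaves. -/
def omkObj (F : Sp S) (hF : IsAlgSpace F) (π : F ⟶ B.obj) : Over B :=
  Over.mk (ObjectProperty.homMk π : (⟨F, hF⟩ : Space S) ⟶ B)

/-- Morphisms from morphisms of sheaves. -/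
def omkHom {X Y : Over B} (φ : osp X ⟶ osp Y) (h : φ ≫ ostr Y = ostr X) : X ⟶ Y :=
  Over.homMk (ObjectProperty.homMk φ) (by
    apply InducedCategory.hom_ext
    exact h)

@[simp] theorem omor_omkHom {X Y : Over B} (φ : osp X ⟶ osp Y) (h : φ ≫ ostr Y = ostr X) :
    omor (omkHom φ h) = φ := rfl

theorem omor_comp {X Y Z : Over B} (f : X ⟶ Y) (g : Y ⟶ Z) : omor (f ≫ g) = omor f ≫ omor g := rfl

theorem omor_id (X : Over B) : omor (𝟙 X) = 𝟙 (osp X) := rfl

end OWrap

section CPB

variable {D : I ⥤ Over B} (s : Cocone D) {G : Sp S} (hG : IsAlgSpace G) (t : G ⟶ osp s.pt)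

theorem cocone_w {i j : I} (a : i ⟶ j) : omor (D.map a) ≫ omor (s.ι.app j) = omor (s.ι.app i) := by
  rw [← omor_comp, s.w]

include hG in
theorem cpb_isAlgSpace (i : I) : IsAlgSpace (pullback (omor (s.ι.app i)) t) :=
  isAlgSpace_of_isPullback (repDiag_of_isAlgSpace s.pt.left.property) (D.obj i).left.property hG
    (IsPullback.of_hasPullback _ _)

theorem cpbMap_cond {i j : I} (a : i ⟶ j) :
    (pullback.fst (omor (s.ι.app i)) t ≫ omor (D.map a)) ≫ omor (s.ι.app j) =
      pullback.snd (omor (s.ι.app i)) t ≫ t := by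
  rw [Category.assoc, cocone_w, pullback.condition]

/-- The transition maps of the base-changed diagram. -/
noncomputable def cpbMap {i j : I} (a : i ⟶ j) :
    pullback (omor (s.ι.app i)) t ⟶ pullback (omor (s.ι.app j)) t :=
  pullback.lift (pullback.fst _ t ≫ omor (D.map a)) (pullback.snd _ t) (cpbMap_cond s t a)

theorem cpbMap_fst {i j : I} (a : i ⟶ j) :
    cpbMap s t a ≫ pullback.fst (omor (s.ι.app j)) t =
      pullback.fst (omor (s.ι.app i)) t ≫ omor (D.map a) :=
  pullback.lift_fst _ _ _

theorem cpbMap_snd {i j : I} (a : i ⟶ j) :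
    cpbMap s t a ≫ pullback.snd (omor (s.ι.app j)) t = pullback.snd (omor (s.ι.app i)) t :=
  pullback.lift_snd _ _ _

theorem cpbMap_id (i : I) : cpbMap s t (𝟙 i) = 𝟙 _ := by
  apply pullback.hom_ext
  · rw [cpbMap_fst, Category.id_comp, D.map_id]
    exact Category.comp_id _
  · rw [cpbMap_snd, Category.id_comp]

theorem cpbMap_comp {i j k : I} (a : i ⟶ j) (b : j ⟶ k) :
    cpbMap s t (a ≫ b) = cpbMap s t a ≫ cpbMap s t b := by
  apply pullback.hom_ext
  · rw [cpbMap_fst, Category.assoc, cpbMap_fst, ← Category.assoc, cpbMap_fst, Category.assoc,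
      D.map_comp]
    rfl
  · rw [cpbMap_snd, Category.assoc, cpbMap_snd, cpbMap_snd]

/-- The objects of the base-changed diagram. -/
noncomputable def cpbObj (i : I) : Over B :=
  omkObj (pullback (omor (s.ι.app i)) t) (cpb_isAlgSpace s hG t i)
    (pullback.fst _ t ≫ ostr (D.obj i))

/-- The base change of the diagram `D` along `t : G ⟶ s.pt`. -/
noncomputable def cpbD : I ⥤ Over B where
  obj i := cpbObj s hG t i
  map {i j} a := omkHom (X := cpbObj s hG t i) (Y := cpbObj s hG t j) (cpbMap s t a) (by
      change cpbMap s t a ≫ pullback.fst _ t ≫ ostr (D.obj j) = pullback.fst _ t ≫ ostr (D.obj i)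
      rw [← Category.assoc, cpbMap_fst, Category.assoc, omor_str])
  map_id i := by
    apply omor_ext
    exact cpbMap_id s t i
  map_comp {i j k} a b := by
    apply omor_ext
    exact cpbMap_comp s t a b

/-- The projection to the original diagram. -/
noncomputable def cpbα : cpbD s hG t ⟶ D where
  app i := omkHom (X := cpbObj s hG t i) (pullback.fst _ t) rfl
  naturality {i j} a := by
    apply omor_ext
    exact cpbMap_fst s t a

/-- The source as an object over `B`. -/
noncomputable def cpbSrc : Over B := omkObj G hG (t ≫ ostr s.pt)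

/-- The map to `s.pt` as a morphism over `B`. -/
noncomputable def cpbHom : cpbSrc s hG t ⟶ s.pt := omkHom (X := cpbSrc s hG t) t rfl

/-- The projections to the source. -/
noncomputable def cpbι : cpbD s hG t ⟶ (Functor.const I).obj (cpbSrc s hG t) where
  app i := omkHom (X := cpbObj s hG t i) (Y := cpbSrc s hG t) (pullback.snd _ t) (by
    change pullback.snd _ t ≫ t ≫ ostr s.pt = pullback.fst _ t ≫ ostr (D.obj i)
    rw [← Category.assoc, ← pullback.condition, Category.assoc]
    exact congrArg (pullback.fst _ t ≫ ·) (omor_str (s.ι.app i)))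
  naturality {i j} a := by
    apply omor_ext
    change cpbMap s t a ≫ pullback.snd _ t = pullback.snd _ t ≫ 𝟙 _
    rw [cpbMap_snd, Category.comp_id]

theorem omor_cpbα (i : I) : omor ((cpbα s hG t).app i) = pullback.fst (omor (s.ι.app i)) t := rfl

theorem omor_cpbι (i : I) : omor ((cpbι s hG t).app i) = pullback.snd (omor (s.ι.app i)) t := rfl

theorem omor_cpbD_map {i j : I} (a : i ⟶ j) : omor ((cpbD s hG t).map a) = cpbMap s t a := rfl

theorem omor_cpbHom : omor (cpbHom s hG t) = t := rfl

theorem osp_cpbD (i : I) : osp ((cpbD s hG t).obj i) = pullback (omor (s.ι.app i)) t := rfl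

theorem cpb_sq (i : I) :
    IsPullback (omor ((cpbι s hG t).app i)) (omor ((cpbα s hG t).app i)) t (omor (s.ι.app i)) :=
  (IsPullback.of_hasPullback _ _).flip

theorem cpbα_equifibered {i j : I} (a : i ⟶ j) :
    IsPullback (cpbMap s t a) (pullback.fst (omor (s.ι.app i)) t)
      (pullback.fst (omor (s.ι.app j)) t) (omor (D.map a)) := by
  have big : IsPullback (cpbMap s t a ≫ pullback.snd _ t) (pullback.fst (omor (s.ι.app i)) t) t
      (omor (D.map a) ≫ omor (s.ι.app j)) := by
    rw [cocone_w, cpbMap_snd]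
    exact (IsPullback.of_hasPullback _ t).flip
  exact IsPullback.of_right big (cpbMap_fst s t a) (IsPullback.of_hasPullback _ t).flip

include hG in
theorem cpb_fst_etale (hte : IsEtaleMor t) (i : I) :
    IsEtaleMor (pullback.fst (omor (s.ι.app i)) t) :=
  isEtaleMor_of_isPullback hG s.pt.left.property (D.obj i).left.property
    (IsPullback.of_hasPullback _ t).flip hte

end CPB

end Groth.Agent.Lib.Helper14.AS
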