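import Groth.Agent.Lib.Helper14.ColimEq1

universe u v w

open CategoryTheory Limits AlgebraicGeometry Opposite

namespace Groth.Agent.Lib.Helper14.AS

open AlgSp

variable {S : Scheme.{u}} {I : Type v} [Category.{w} I] {B : Space S}

/-- Essential surjectivity hypothesis. -/
def H1 (D : I ⥤ Over B) (c : Cocone D) : Prop :=
  ∀ (D' : I ⥤ Over B) (α : D' ⟶ D),
      (∀ ⦃i j : I⦄ (g : i ⟶ j), IsPullback (D'.map g).left.hom (α.app i).left.hom (α.app j).left.hom (D.map g).left.hom) →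
      (∀ i, AlgSp.IsEtaleMor (α.app i).left.hom) →
        ∃ (c' : Cocone D') (a : c'.pt ⟶ c.pt), AlgSp.IsEtaleMor a.left.hom ∧
          ∀ i, IsPullback (c'.ι.app i).left.hom (α.app i).left.hom a.left.hom (c.ι.app i).left.hom

/-- Full faithfulness hypothesis. -/
def H1' (D : I ⥤ Over B) (c : Cocone D) : Prop :=
  ∀ (U U' : Over B) (u : U ⟶ c.pt) (u' : U' ⟶ c.pt), AlgSp.IsEtaleMor u.left.hom → AlgSp.IsEtaleMor u'.left.hom →
      ∀ (DU DU' : I ⥤ Over B) (αU : DU ⟶ D) (αU' : DU' ⟶ D) (ιU : DU ⟶ (Functor.const I).obj U)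
        (ιU' : DU' ⟶ (Functor.const I).obj U'),
        (∀ i, IsPullback (ιU.app i).left.hom (αU.app i).left.hom u.left.hom (c.ι.app i).left.hom) →
        (∀ i, IsPullback (ιU'.app i).left.hom (αU'.app i).left.hom u'.left.hom (c.ι.app i).left.hom) →
        ∀ (β : DU ⟶ DU'), β ≫ αU' = αU →
          ∃! m : U ⟶ U', m ≫ u' = u ∧ ∀ i, ιU.app i ≫ m = β.app i ≫ ιU'.app i

/-- Affine hypothesis. -/
def H2 (D : I ⥤ Over B) (c : Cocone D) : Prop :=
  ∀ (B' Zs Us : Over S) (b : (AlgSp.yon S).obj B' ⟶ B.obj) (z : Zs ⟶ B') {XB : AlgSp.Space S}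
      (x₁ : XB ⟶ c.pt.left) (x₂ : XB.obj ⟶ (AlgSp.yon S).obj B') (uu : (AlgSp.yon S).obj Us ⟶ XB.obj)
      (DU : I ⥤ AlgSp.Space S) (αU : DU ⟶ D ⋙ Over.forget B)
      (ιU : DU ⟶ (Functor.const I).obj ((AlgSp.ofScheme S).obj Us))
      (φ : DU ⟶ (Functor.const I).obj ((AlgSp.ofScheme S).obj Zs)),
      IsAffine B'.left → IsAffine Zs.left → IsAffine Us.left → AlgSp.RepWith @Etale b →
      IsPullback x₁.hom x₂ c.pt.hom.hom b → AlgSp.RepWith @Etale uu →
      (∀ i, IsPullback (ιU.app i).hom (αU.app i).hom (uu ≫ x₁.hom) (c.ι.app i).left.hom) →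
      (∀ i, (φ.app i).hom ≫ (AlgSp.yon S).map z = (ιU.app i).hom ≫ uu ≫ x₂) →
        ∃! fz : Us ⟶ Zs, (AlgSp.yon S).map fz ≫ (AlgSp.yon S).map z = uu ≫ x₂ ∧
          ∀ i, (ιU.app i).hom ≫ (AlgSp.yon S).map fz = (φ.app i).hom

variable {D : I ⥤ Over B} {c : Cocone D}

set_option backward.isDefEq.respectTransparency.types false in
/-- Morphisms between etale spaces over `c.pt` from morphisms of systems. -/
theorem existsUnique_of_H1' (h : H1' D c) (U : Over B) (u : U ⟶ c.pt) (hu : IsEtaleMor (omor u))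
    (DU : I ⥤ Over B) (αU : DU ⟶ D) (ιU : DU ⟶ (Functor.const I).obj U)
    (sqU : ∀ i, IsPullback (omor (ιU.app i)) (omor (αU.app i)) (omor u) (omor (c.ι.app i)))
    {V' : Sp S} (hV' : IsAlgSpace V') (v' : V' ⟶ osp c.pt) (hv' : IsEtaleMor v')
    (β : ∀ i, osp (DU.obj i) ⟶ V') (hβ : ∀ i, β i ≫ v' = omor (αU.app i) ≫ omor (c.ι.app i))
    (hnat : ∀ ⦃i j : I⦄ (a : i ⟶ j), omor (DU.map a) ≫ β j = β i) :
    ∃! m : osp U ⟶ V', m ≫ v' = omor u ∧ ∀ i, omor (ιU.app i) ≫ m = β i := by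
  let β' : DU ⟶ cpbD c hV' v' :=
    { app := fun i => omkHom (Y := cpbObj c hV' v' i)
        (pullback.lift (omor (αU.app i)) (β i) (hβ i).symm) (by
          change pullback.lift _ _ _ ≫ pullback.fst _ v' ≫ ostr (D.obj i) = ostr (DU.obj i)
          rw [← Category.assoc, pullback.lift_fst, omor_str])
      naturality := fun i j a => by
        apply omor_ext
        change omor (DU.map a) ≫ pullback.lift (omor (αU.app j)) (β j) (hβ j).symm =
          pullback.lift (omor (αU.app i)) (β i) (hβ i).symm ≫ cpbMap c v' a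
        apply pullback.hom_ext
        · rw [Category.assoc, pullback.lift_fst, Category.assoc, cpbMap_fst, ← Category.assoc,
            pullback.lift_fst, ← omor_comp, ← omor_comp, αU.naturality]
        · rw [Category.assoc, pullback.lift_snd, Category.assoc, cpbMap_snd, pullback.lift_snd,
            hnat] }
  have hβα : β' ≫ cpbα c hV' v' = αU := by
    apply NatTrans.ext
    funext i
    apply omor_ext
    exact pullback.lift_fst _ _ _
  obtain ⟨m, ⟨hm1, hm2⟩, hmu⟩ := h U (cpbSrc c hV' v') u (cpbHom c hV' v') hu hv' DU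
    (cpbD c hV' v') αU (cpbα c hV' v') ιU (cpbι c hV' v') sqU (cpb_sq c hV' v') β' hβα
  refine ⟨omor m, ⟨?_, ?_⟩, ?_⟩
  · exact congrArg omor hm1
  · intro i
    have := congrArg omor (hm2 i)
    exact this.trans (pullback.lift_snd _ _ _)
  · rintro φ ⟨hφ1, hφ2⟩
    have := hmu (omkHom (Y := cpbSrc c hV' v') φ (by
        change φ ≫ v' ≫ ostr c.pt = ostr U
        rw [← Category.assoc, hφ1, omor_str]))
      ⟨omor_ext hφ1, fun i => omor_ext (by
        change omor (ιU.app i) ≫ φ = pullback.lift (omor (αU.app i)) (β i) (hβ i).symm ≫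
          pullback.snd _ _
        rw [hφ2, pullback.lift_snd])⟩
    exact congrArg omor this

/-- The same with the canonical system on the source. -/
theorem existsUnique_of_H1'_cpb (h : H1' D c) {V : Sp S} (hV : IsAlgSpace V) (v : V ⟶ osp c.pt)
    (hv : IsEtaleMor v) {V' : Sp S} (hV' : IsAlgSpace V') (v' : V' ⟶ osp c.pt)
    (hv' : IsEtaleMor v')
    (β : ∀ i, pullback (omor (c.ι.app i)) v ⟶ V')
    (hβ : ∀ i, β i ≫ v' = pullback.snd _ v ≫ v)
    (hnat : ∀ ⦃i j : I⦄ (a : i ⟶ j), cpbMap c v a ≫ β j = β i) :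
    ∃! m : V ⟶ V', m ≫ v' = v ∧ ∀ i, pullback.snd (omor (c.ι.app i)) v ≫ m = β i :=
  existsUnique_of_H1' h (cpbSrc c hV v) (cpbHom c hV v) hv (cpbD c hV v) (cpbα c hV v)
    (cpbι c hV v) (cpb_sq c hV v) hV' v' hv' β
    (fun i => (hβ i).trans pullback.condition.symm) hnat

include c in
theorem isAlgSpace_XB {B' : Over S} (b : (yon S).obj B' ⟶ B.obj) :
    IsAlgSpace (pullback (ostr c.pt) b) :=
  isAlgSpace_of_isPullback (repDiag_of_isAlgSpace B.property) c.pt.left.property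
    (IsAlgSpace.yon_obj B') (IsPullback.of_hasPullback _ _)

set_option backward.isDefEq.respectTransparency.types false in
/-- The affine hypothesis in terms of sheaf-level pullbacks. -/
theorem existsUnique_of_H2 (h : H2 D c) {B' Zs Us : Over S} (b : (yon S).obj B' ⟶ B.obj)
    (z : Zs ⟶ B') (hB' : IsAffine B'.left) (hZs : IsAffine Zs.left) (hUs : IsAffine Us.left)
    (hb : RepWith @Etale b) (uu : (yon S).obj Us ⟶ pullback (ostr c.pt) b)
    (huu : RepWith @Etale uu)
    (φ : ∀ i, pullback (omor (c.ι.app i)) (uu ≫ pullback.fst (ostr c.pt) b) ⟶ (yon S).obj Zs)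
    (hφnat : ∀ ⦃i j : I⦄ (a : i ⟶ j), cpbMap c (uu ≫ pullback.fst (ostr c.pt) b) a ≫ φ j = φ i)
    (hφz : ∀ i, φ i ≫ (yon S).map z =
      pullback.snd (omor (c.ι.app i)) (uu ≫ pullback.fst (ostr c.pt) b) ≫ uu ≫
        pullback.snd (ostr c.pt) b) :
    ∃! fz : Us ⟶ Zs, (yon S).map fz ≫ (yon S).map z = uu ≫ pullback.snd (ostr c.pt) b ∧
      ∀ i, pullback.snd (omor (c.ι.app i)) (uu ≫ pullback.fst (ostr c.pt) b) ≫ (yon S).map fz =
        φ i := by
  have hUs' : IsAlgSpace ((yon S).obj Us) := IsAlgSpace.yon_obj Us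
  let XB : Space S := ⟨pullback (ostr c.pt) b, isAlgSpace_XB (c := c) b⟩
  let x₁ : XB ⟶ c.pt.left := ObjectProperty.homMk (pullback.fst (ostr c.pt) b)
  let t : (yon S).obj Us ⟶ osp c.pt := uu ≫ pullback.fst (ostr c.pt) b
  let DU : I ⥤ Space S := cpbD c hUs' t ⋙ Over.forget B
  let αU : DU ⟶ D ⋙ Over.forget B := Functor.whiskerRight (cpbα c hUs' t) (Over.forget B)
  let ιU : DU ⟶ (Functor.const I).obj ((ofScheme S).obj Us) :=
    { app := fun i => (ObjectProperty.homMk (pullback.snd (omor (c.ι.app i)) t) :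
        (cpbObj c hUs' t i).left ⟶ (ofScheme S).obj Us)
      naturality := fun i j a => by
        apply InducedCategory.hom_ext
        change cpbMap c t a ≫ pullback.snd _ t = pullback.snd _ t ≫ 𝟙 _
        rw [cpbMap_snd, Category.comp_id] }
  let φ' : DU ⟶ (Functor.const I).obj ((ofScheme S).obj Zs) :=
    { app := fun i => (ObjectProperty.homMk (φ i) :
        (cpbObj c hUs' t i).left ⟶ (ofScheme S).obj Zs)
      naturality := fun i j a => by
        apply InducedCategory.hom_ext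
        change cpbMap c t a ≫ φ j = φ i ≫ 𝟙 _
        rw [hφnat, Category.comp_id] }
  exact h B' Zs Us b z x₁ (pullback.snd (ostr c.pt) b) uu DU αU ιU φ' hB' hZs hUs hb
    (IsPullback.of_hasPullback _ _) huu (fun i => cpb_sq c hUs' t i) hφz

end Groth.Agent.Lib.Helper14.AS
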