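import Groth.Agent.Lib.Helper14.ColimEq2
import Groth.Agent.Lib.Helper14.SchImg2

universe u v w

open CategoryTheory Limits AlgebraicGeometry Opposite

namespace Groth.Agent.Lib.Helper14.AS

open AlgSp

variable {S : Scheme.{u}} {I : Type v} [Category.{w} I] {B : Space S}

/-- An affine etale chart through a given point of an algebraic space. -/
theorem exists_affine_chart_point {Y : Sp S} (hY : IsAlgSpace Y) (ξ : Points Y) :
    ∃ (V₀ : Over S) (_ : IsAffine V₀.left) (b₀ : (yon S).obj V₀ ⟶ Y) (v : V₀.left),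
      RepWith @Etale b₀ ∧ Points.ofPt b₀ v = ξ := by
  obtain ⟨Y₀, p, hpe, hps⟩ := hY.atlas
  obtain ⟨y₀, hy₀⟩ := ofPt_surjective_of_repWith hps ξ
  obtain ⟨W, V₀, hV₀, w, t₀, b₀, hb₀, -, ⟨ω, hω⟩, comm⟩ := exists_affine_chart_at hY p y₀
  refine ⟨V₀, hV₀, b₀, t₀.left ω, hb₀, ?_⟩
  rw [← ofPt_yon_map_comp, ← comm, ofPt_yon_map_comp, hω, hy₀]

/-- The affine etale charts of a sheaf. -/
abbrev AffCharts (W : Sp S) : Type (u + 1) :=
  Σ Us : Over S, {e : (yon S).obj Us ⟶ W // IsAffine Us.left ∧ RepWith @Etale e}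

/-- The source of a chart. -/
abbrev AffCharts.src {W : Sp S} (y : AffCharts W) : Sp S := (yon S).obj y.1

/-- The chart map. -/
abbrev AffCharts.map {W : Sp S} (y : AffCharts W) : y.src ⟶ W := y.2.1

/-- The family of affine etale charts of an algebraic space is jointly locally surjective. -/
theorem fjls_affine_charts {W : Sp S} (hW : IsAlgSpace W) :
    FJLS (AffCharts.map (W := W)) := by
  refine fjls_of_isEtaleMor_of_points (fun y : AffCharts W => IsAlgSpace.yon_obj y.1) hW _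
    (fun y : AffCharts W => isEtaleMor_of_repWith_etale y.2.2.2) (fun x => ?_)
  obtain ⟨V₀, hV₀, b₀, v, hb₀, hv⟩ := exists_affine_chart_point hW x
  exact ⟨⟨V₀, b₀, hV₀, hb₀⟩, Points.ofScheme V₀ v, by
    rw [← hv, Points.ofPt_eq_map_ofScheme]⟩

/-- A chart of `Z ⟶ B` by affine schemes. -/
structure ZChart {Z : Sp S} (πZ : Z ⟶ B.obj) where
  B' : Over S
  Zs : Over S
  b : (yon S).obj B' ⟶ B.obj
  z : Zs ⟶ B'
  ζ : (yon S).obj Zs ⟶ Z
  hB' : IsAffine B'.left
  hZs : IsAffine Zs.left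
  hb : RepWith @Etale b
  hζ : RepWith @Etale ζ
  comm : ζ ≫ πZ = (yon S).map z ≫ b

set_option backward.isDefEq.respectTransparency.types false in
theorem exists_zchart {Z : Sp S} (hZ : IsAlgSpace Z) (πZ : Z ⟶ B.obj) (ξ : Points Z) :
    ∃ (k : ZChart πZ) (zs : k.Zs.left), Points.ofPt k.ζ zs = ξ := by
  obtain ⟨B', hB', b, β₀, hb, hβ₀⟩ := exists_affine_chart_point B.property (Points.map πZ ξ)
  have sq : IsPullback (pullback.fst πZ b) (pullback.snd πZ b) πZ b := IsPullback.of_hasPullback _ _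
  have hZB : IsAlgSpace (pullback πZ b) :=
    isAlgSpace_of_isPullback (repDiag_of_isAlgSpace B.property) hZ (IsAlgSpace.yon_obj B') sq
  obtain ⟨ξ', hξ'1, -⟩ := points_exists_of_isPullback sq ξ (Points.ofScheme B' β₀)
    (by rw [← hβ₀, Points.ofPt_eq_map_ofScheme])
  obtain ⟨Zs, hZs, ζ', zs, hζ', hzs⟩ := exists_affine_chart_point hZB ξ'
  obtain ⟨z, hz⟩ := (yon S).map_surjective (ζ' ≫ pullback.snd πZ b)
  have hfst : RepWith @Etale (pullback.fst πZ b) := repWith_of_isPullback _ sq.flip hb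
  refine ⟨⟨B', Zs, b, z, ζ' ≫ pullback.fst πZ b, hB', hZs, hb, repWith_comp _ hζ' hfst, ?_⟩, zs, ?_⟩
  · rw [Category.assoc, sq.w, hz, Category.assoc]
  · change Points.ofPt (ζ' ≫ pullback.fst πZ b) zs = ξ
    rw [← Points.map_ofPt, hzs, hξ'1]

section UL

variable {D : I ⥤ Over B} {c : Cocone D} (h1' : H1' D c) (h2 : H2 D c)
  {Z : Sp S} (hZ : IsAlgSpace Z) (πZ : Z ⟶ B.obj)
  {V : Sp S} (hV : IsAlgSpace V) (v : V ⟶ osp c.pt) (hv : IsEtaleMor v) (a a' : V ⟶ Z)
  (ha : a ≫ πZ = v ≫ ostr c.pt) (ha' : a' ≫ πZ = v ≫ ostr c.pt)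
  (hag : ∀ i, pullback.snd (omor (c.ι.app i)) v ≫ a = pullback.snd (omor (c.ι.app i)) v ≫ a')

include h1' h2 hZ hV hv ha ha' hag in
set_option backward.isDefEq.respectTransparency.types false in
/-- Two maps to `Z` from an etale space over `c.pt` which agree on the system agree on each
chart. -/
theorem ul_chart (k : ZChart πZ) : pullback.fst a k.ζ ≫ a = pullback.fst a k.ζ ≫ a' := by
  -- notation
  let p₁ : pullback a k.ζ ⟶ V := pullback.fst a k.ζ
  let p₂ : pullback a k.ζ ⟶ (yon S).obj k.Zs := pullback.snd a k.ζ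
  let p₁' : pullback a' k.ζ ⟶ V := pullback.fst a' k.ζ
  let p₂' : pullback a' k.ζ ⟶ (yon S).obj k.Zs := pullback.snd a' k.ζ
  have hc : p₁ ≫ a = p₂ ≫ k.ζ := pullback.condition
  have hc' : p₁' ≫ a' = p₂' ≫ k.ζ := pullback.condition
  have hζe : IsEtaleMor k.ζ := isEtaleMor_of_repWith_etale k.hζ
  have hW : IsAlgSpace (pullback a k.ζ) :=
    isAlgSpace_of_isPullback (repDiag_of_isAlgSpace hZ) hV (IsAlgSpace.yon_obj k.Zs)
      (IsPullback.of_hasPullback _ _)
  have hW' : IsAlgSpace (pullback a' k.ζ) :=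
    isAlgSpace_of_isPullback (repDiag_of_isAlgSpace hZ) hV (IsAlgSpace.yon_obj k.Zs)
      (IsPullback.of_hasPullback _ _)
  have hp₁ : IsEtaleMor p₁ :=
    isEtaleMor_of_isPullback (IsAlgSpace.yon_obj k.Zs) hZ hV (IsPullback.of_hasPullback a k.ζ).flip
      hζe
  have hp₁' : IsEtaleMor p₁' :=
    isEtaleMor_of_isPullback (IsAlgSpace.yon_obj k.Zs) hZ hV
      (IsPullback.of_hasPullback a' k.ζ).flip hζe
  obtain ⟨vW, hvWd⟩ : ∃ vW : pullback a k.ζ ⟶ osp c.pt, vW = p₁ ≫ v := ⟨_, rfl⟩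
  obtain ⟨vW', hvW'd⟩ : ∃ vW' : pullback a' k.ζ ⟶ osp c.pt, vW' = p₁' ≫ v := ⟨_, rfl⟩
  have hvW : IsEtaleMor vW := by rw [hvWd]; exact isEtaleMor_comp hp₁ hv
  have hvW' : IsEtaleMor vW' := by rw [hvW'd]; exact isEtaleMor_comp hp₁' hv
  -- the comparison of the systems
  let sn : ∀ i, pullback (omor (c.ι.app i)) vW ⟶ pullback a k.ζ := fun i => pullback.snd _ vW
  let θ : ∀ i, pullback (omor (c.ι.app i)) vW ⟶ pullback (omor (c.ι.app i)) v := fun i =>
    pullback.lift (pullback.fst _ vW) (sn i ≫ p₁)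
      (pullback.condition.trans ((congrArg (sn i ≫ ·) hvWd).trans (Category.assoc _ _ _).symm))
  have hθ : ∀ i, θ i ≫ pullback.snd _ v = sn i ≫ p₁ := fun i => pullback.lift_snd _ _ _
  have hcond : ∀ i, (sn i ≫ p₁) ≫ a' = (sn i ≫ p₂) ≫ k.ζ := by
    intro i
    rw [← hθ, Category.assoc, ← hag i, ← Category.assoc, hθ, Category.assoc, hc, Category.assoc]
  let β : ∀ i, pullback (omor (c.ι.app i)) vW ⟶ pullback a' k.ζ := fun i =>
    pullback.lift (sn i ≫ p₁) (sn i ≫ p₂) (hcond i)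
  have hβ1 : ∀ i, β i ≫ p₁' = sn i ≫ p₁ := fun i => pullback.lift_fst _ _ _
  have hβ2 : ∀ i, β i ≫ p₂' = sn i ≫ p₂ := fun i => pullback.lift_snd _ _ _
  have hsn : ∀ ⦃i j : I⦄ (g : i ⟶ j), cpbMap c vW g ≫ sn j = sn i := fun i j g => cpbMap_snd c vW g
  have hβnat : ∀ ⦃i j : I⦄ (g : i ⟶ j), cpbMap c vW g ≫ β j = β i := by
    intro i j g
    apply pullback.hom_ext
    · rw [Category.assoc, hβ1, ← Category.assoc, hsn, hβ1]
    · rw [Category.assoc, hβ2, ← Category.assoc, hsn, hβ2]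
  obtain ⟨m, ⟨hm1, hm2⟩, -⟩ := existsUnique_of_H1'_cpb h1' hW vW hvW hW' vW' hvW' β
    (fun i => by
      have : β i ≫ vW' = (sn i ≫ p₁) ≫ v := by rw [hvW'd, ← Category.assoc, hβ1]
      exact this.trans ((Category.assoc _ _ _).trans (congrArg (sn i ≫ ·) hvWd.symm))) hβnat
  -- claim 1: `m` is a morphism over `V`
  have claim1 : m ≫ p₁' = p₁ := by
    have hu := existsUnique_of_H1'_cpb h1' hW vW hvW hV v hv (fun i => sn i ≫ p₁)
      (fun i => (Category.assoc _ _ _).trans (congrArg (sn i ≫ ·) hvWd.symm))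
      (fun i j g => by rw [← Category.assoc, hsn])
    refine hu.unique ⟨?_, fun i => ?_⟩ ⟨hvWd.symm, fun i => rfl⟩
    · rw [Category.assoc, ← hvW'd]; exact hm1
    · rw [← Category.assoc, hm2, hβ1]
  -- claim 1.5: compatibility with the maps to `B'`
  have hXB : IsAlgSpace (pullback (ostr c.pt) k.b) := isAlgSpace_XB (c := c) k.b
  have hx₁ : IsEtaleMor (pullback.fst (ostr c.pt) k.b) :=
    isEtaleMor_of_isPullback (IsAlgSpace.yon_obj k.B') B.property c.pt.left.property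
      (IsPullback.of_hasPullback (ostr c.pt) k.b).flip (isEtaleMor_of_repWith_etale k.hb)
  have cond₁ : vW ≫ ostr c.pt = (p₂ ≫ (yon S).map k.z) ≫ k.b := by
    rw [hvWd, Category.assoc, ← ha, ← Category.assoc, hc, Category.assoc, k.comm, Category.assoc]
  have cond₂ : vW ≫ ostr c.pt = (m ≫ p₂' ≫ (yon S).map k.z) ≫ k.b := by
    rw [← hm1, hvW'd]
    simp only [Category.assoc]
    rw [← ha', ← k.comm, ← Category.assoc p₂', ← hc', Category.assoc]
  let n₁ : pullback a k.ζ ⟶ pullback (ostr c.pt) k.b :=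
    pullback.lift vW (p₂ ≫ (yon S).map k.z) cond₁
  let n₂ : pullback a k.ζ ⟶ pullback (ostr c.pt) k.b :=
    pullback.lift vW (m ≫ p₂' ≫ (yon S).map k.z) cond₂
  have hn₁1 : n₁ ≫ pullback.fst _ _ = vW := pullback.lift_fst _ _ _
  have hn₁2 : n₁ ≫ pullback.snd _ _ = p₂ ≫ (yon S).map k.z := pullback.lift_snd _ _ _
  have hn₂1 : n₂ ≫ pullback.fst _ _ = vW := pullback.lift_fst _ _ _
  have hn₂2 : n₂ ≫ pullback.snd _ _ = m ≫ p₂' ≫ (yon S).map k.z := pullback.lift_snd _ _ _
  have claim15 : m ≫ p₂' ≫ (yon S).map k.z = p₂ ≫ (yon S).map k.z := by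
    have hu := existsUnique_of_H1'_cpb h1' hW vW hvW hXB (pullback.fst (ostr c.pt) k.b) hx₁
      (fun i => sn i ≫ n₁) (fun i => (Category.assoc _ _ _).trans (congrArg (sn i ≫ ·) hn₁1))
      (fun i j g => by rw [← Category.assoc, hsn])
    have : n₂ = n₁ := by
      refine hu.unique ⟨hn₂1, fun i => ?_⟩ ⟨hn₁1, fun i => rfl⟩
      apply pullback.hom_ext
      · rw [Category.assoc, hn₂1, Category.assoc, hn₁1]
      · rw [Category.assoc, hn₂2, Category.assoc, hn₁2, ← Category.assoc, hm2, ← Category.assoc,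
          hβ2, Category.assoc]
    rw [← hn₂2, this, hn₁2]
  -- claim 2: compatibility with the maps to `Zs`
  have claim2 : m ≫ p₂' = p₂ := by
    refine (fjls_affine_charts hW).hom_ext _ _ ?_
    rintro ⟨Us, e, hUs, he⟩
    change e ≫ m ≫ p₂' = e ≫ p₂
    obtain ⟨fz, hfz⟩ := (yon S).map_surjective (e ≫ p₂)
    obtain ⟨fz', hfz'⟩ := (yon S).map_surjective (e ≫ m ≫ p₂')
    obtain ⟨uu, huud⟩ : ∃ uu : (yon S).obj Us ⟶ pullback (ostr c.pt) k.b, uu = e ≫ n₁ := ⟨_, rfl⟩
    have huu1 : uu ≫ pullback.fst (ostr c.pt) k.b = e ≫ vW := by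
      rw [huud, Category.assoc, hn₁1]
    have huu2 : uu ≫ pullback.snd (ostr c.pt) k.b = e ≫ p₂ ≫ (yon S).map k.z := by
      rw [huud, Category.assoc, hn₁2]
    have huue : IsEtaleMor uu := by
      refine isEtaleMor_of_comp hXB (h := pullback.fst (ostr c.pt) k.b) ?_ hx₁
      rw [huu1]
      exact isEtaleMor_comp (isEtaleMor_of_repWith_etale he) hvW
    have huu : RepWith @Etale uu := by
      have := huue (𝟙 _) (repWith_id _ _)
      rwa [Category.id_comp] at this
    let sU : ∀ i, pullback (omor (c.ι.app i)) (uu ≫ pullback.fst (ostr c.pt) k.b) ⟶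
        (yon S).obj Us := fun i => pullback.snd _ _
    have hu := existsUnique_of_H2 h2 k.b k.z k.hB' k.hZs hUs k.hb uu huu
      (fun i => sU i ≫ (yon S).map fz)
      (fun i j g => by rw [← Category.assoc]; congr 1; exact cpbMap_snd c _ g)
      (fun i => by
        have h : (yon S).map fz ≫ (yon S).map k.z = uu ≫ pullback.snd (ostr c.pt) k.b := by
          rw [hfz, huu2, Category.assoc]
        exact (Category.assoc _ _ _).trans (congrArg (sU i ≫ ·) h))
    have hθ' : ∀ i, ∃ θ' : pullback (omor (c.ι.app i)) (uu ≫ pullback.fst (ostr c.pt) k.b) ⟶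
        pullback (omor (c.ι.app i)) vW, θ' ≫ sn i = sU i ≫ e := by
      intro i
      refine ⟨pullback.lift (pullback.fst _ _) (sU i ≫ e) ?_, pullback.lift_snd _ _ _⟩
      exact pullback.condition.trans ((congrArg (sU i ≫ ·) huu1).trans (Category.assoc _ _ _).symm)
    have : fz' = fz := by
      refine hu.unique ⟨?_, fun i => ?_⟩ ⟨?_, fun i => rfl⟩
      · rw [hfz', huu2, Category.assoc, Category.assoc, claim15]
      · obtain ⟨θ', hθ'⟩ := hθ' i
        rw [hfz', hfz, ← Category.assoc, ← hθ', Category.assoc, ← Category.assoc (sn i), hm2, hβ2,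
          ← Category.assoc, hθ', Category.assoc]
      · rw [hfz, huu2, Category.assoc]
    rw [← hfz', this, hfz]
  rw [hc, ← claim2, Category.assoc, ← hc', ← Category.assoc, claim1]

include h1' h2 hZ hV hv ha ha' hag in
set_option backward.isDefEq.respectTransparency.types false in
/-- Two maps to `Z` from an etale space over `c.pt` which agree on the system are equal. -/
theorem ul_eq : a = a' := by
  have hfam : FJLS (ι := ZChart πZ) (V := fun k => pullback a k.ζ)
      (fun k => pullback.fst a k.ζ) := by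
    refine fjls_of_isEtaleMor_of_points (fun k => ?_) hV _ (fun k => ?_) (fun x => ?_)
    · exact isAlgSpace_of_isPullback (repDiag_of_isAlgSpace hZ) hV (IsAlgSpace.yon_obj k.Zs)
        (IsPullback.of_hasPullback _ _)
    · exact isEtaleMor_of_isPullback (IsAlgSpace.yon_obj k.Zs) hZ hV
        (IsPullback.of_hasPullback a k.ζ).flip (isEtaleMor_of_repWith_etale k.hζ)
    · obtain ⟨k, zs, hzs⟩ := exists_zchart hZ πZ (Points.map a x)
      obtain ⟨w, hw1, -⟩ := points_exists_of_isPullback (IsPullback.of_hasPullback a k.ζ) x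
        (Points.ofScheme k.Zs zs) (by rw [← hzs, Points.ofPt_eq_map_ofScheme])
      exact ⟨k, w, hw1⟩
  exact hfam.hom_ext a a' fun k => ul_chart h1' h2 hZ πZ hV v hv a a' ha ha' hag k

end UL

end Groth.Agent.Lib.Helper14.AS
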