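import Groth.Agent.Lib.Helper14.ColimEq3
import Groth.Agent.Lib.Helper14.AlgSpLargestOpen

universe u v w

open CategoryTheory Limits AlgebraicGeometry Opposite

namespace Groth.Agent.Lib.Helper14.AS

open AlgSp Groth.Agent.Lib.Helper8.AlgSpOpen Groth.Agent.Lib.Helper8.AlgSpOpenSub

variable {S : Scheme.{u}} {I : Type v} [Category.{w} I] {B : Space S}

variable {D : I ⥤ Over B} (c s : Cocone D)

/-- Local data of a descent of the cocone `s` on an etale affine chart of `c.pt`. -/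
structure LocData : Type (u + 1) where
  Us : Over S
  q : (yon S).obj Us ⟶ osp c.pt
  g : (yon S).obj Us ⟶ osp s.pt
  hq : IsEtaleMor q
  hg1 : g ≫ ostr s.pt = q ≫ ostr c.pt
  hg2 : ∀ i, pullback.snd (omor (c.ι.app i)) q ≫ g =
    pullback.fst (omor (c.ι.app i)) q ≫ omor (s.ι.app i)

variable {c s}

theorem cocone_str (s : Cocone D) (i : I) : omor (s.ι.app i) ≫ ostr s.pt = ostr (D.obj i) :=
  omor_str (s.ι.app i)

section E1

variable (h1' : H1' D c) (h2 : H2 D c) (k : ZChart (ostr s.pt))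
  (c' : Cocone (cpbD s (IsAlgSpace.yon_obj k.Zs) k.ζ)) (a : c'.pt ⟶ c.pt)
  (hae : IsEtaleMor (omor a))
  (sq : ∀ i, IsPullback (omor (c'.ι.app i))
    (omor ((cpbα s (IsAlgSpace.yon_obj k.Zs) k.ζ).app i)) (omor a) (omor (c.ι.app i)))

include h1' h2 hae sq in
set_option backward.isDefEq.respectTransparency.types false in
/-- Local data through every point of the etale space over `c.pt` attached to a chart. -/
theorem exists_locData_of_chart (w : Points (osp c'.pt)) :
    ∃ (y : LocData c s) (v : Points ((yon S).obj y.Us)),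
      Points.map y.q v = Points.map (omor a) w := by
  have hW : IsAlgSpace (osp c'.pt) := c'.pt.left.property
  have hZsA : IsAlgSpace ((yon S).obj k.Zs) := IsAlgSpace.yon_obj k.Zs
  -- the map to `XB`
  have hXB : IsAlgSpace (pullback (ostr c.pt) k.b) := isAlgSpace_XB (c := c) k.b
  have hx₁ : IsEtaleMor (pullback.fst (ostr c.pt) k.b) :=
    isEtaleMor_of_isPullback (IsAlgSpace.yon_obj k.B') B.property c.pt.left.property
      (IsPullback.of_hasPullback (ostr c.pt) k.b).flip (isEtaleMor_of_repWith_etale k.hb)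
  let f₁ : ∀ i, pullback (omor (s.ι.app i)) k.ζ ⟶ osp (D.obj i) := fun i => pullback.fst _ _
  let f₂ : ∀ i, pullback (omor (s.ι.app i)) k.ζ ⟶ (yon S).obj k.Zs := fun i => pullback.snd _ _
  have hf12 : ∀ i, f₁ i ≫ omor (s.ι.app i) = f₂ i ≫ k.ζ := fun i => pullback.condition
  have hcondβ : ∀ i, (f₁ i ≫ omor (c.ι.app i)) ≫ ostr c.pt = (f₂ i ≫ (yon S).map k.z) ≫ k.b := by
    intro i
    rw [Category.assoc, cocone_str c i, ← cocone_str s i, ← Category.assoc, hf12,
      Category.assoc, k.comm, Category.assoc]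
  let β : ∀ i, pullback (omor (s.ι.app i)) k.ζ ⟶ pullback (ostr c.pt) k.b := fun i =>
    pullback.lift (f₁ i ≫ omor (c.ι.app i)) (f₂ i ≫ (yon S).map k.z) (hcondβ i)
  have hβ1 : ∀ i, β i ≫ pullback.fst _ _ = f₁ i ≫ omor (c.ι.app i) := fun i =>
    pullback.lift_fst _ _ _
  have hβ2 : ∀ i, β i ≫ pullback.snd _ _ = f₂ i ≫ (yon S).map k.z := fun i =>
    pullback.lift_snd _ _ _
  have hβnat : ∀ ⦃i j : I⦄ (g : i ⟶ j), cpbMap s k.ζ g ≫ β j = β i := by
    intro i j g
    apply pullback.hom_ext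
    · rw [Category.assoc, hβ1, hβ1, ← Category.assoc]
      change (cpbMap s k.ζ g ≫ pullback.fst _ _) ≫ _ = _
      rw [cpbMap_fst, Category.assoc, cocone_w]
    · rw [Category.assoc, hβ2, hβ2, ← Category.assoc]
      change (cpbMap s k.ζ g ≫ pullback.snd _ _) ≫ _ = _
      rw [cpbMap_snd]
  obtain ⟨m, ⟨hm1, hm2⟩, -⟩ := existsUnique_of_H1' h1' c'.pt a hae
    (cpbD s hZsA k.ζ) (cpbα s hZsA k.ζ) c'.ι sq hXB (pullback.fst (ostr c.pt) k.b) hx₁ β hβ1
    hβnat
  -- an affine chart through `w`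
  obtain ⟨Us, hUs, e, v₀, he, hv₀⟩ := exists_affine_chart_point hW w
  obtain ⟨uu, huud⟩ : ∃ uu : (yon S).obj Us ⟶ pullback (ostr c.pt) k.b, uu = e ≫ m := ⟨_, rfl⟩
  have huu1 : uu ≫ pullback.fst (ostr c.pt) k.b = e ≫ omor a := by
    rw [huud, Category.assoc, hm1]
  obtain ⟨q, hqd⟩ : ∃ q : (yon S).obj Us ⟶ osp c.pt, q = uu ≫ pullback.fst (ostr c.pt) k.b :=
    ⟨_, rfl⟩
  have hq1 : q = e ≫ omor a := hqd.trans huu1
  have hqe : IsEtaleMor q := by
    rw [hq1]
    exact isEtaleMor_comp (isEtaleMor_of_repWith_etale he) hae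
  have huue : IsEtaleMor uu := by
    refine isEtaleMor_of_comp hXB (h := pullback.fst (ostr c.pt) k.b) ?_ hx₁
    rw [← hqd]
    exact hqe
  have huu : RepWith @Etale uu := by
    have := huue (𝟙 _) (repWith_id _ _)
    rwa [Category.id_comp] at this
  subst hqd
  -- the system of `Us`
  let sU : ∀ i, pullback (omor (c.ι.app i)) (uu ≫ pullback.fst (ostr c.pt) k.b) ⟶
      (yon S).obj Us := fun i => pullback.snd _ _
  let fU : ∀ i, pullback (omor (c.ι.app i)) (uu ≫ pullback.fst (ostr c.pt) k.b) ⟶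
      osp (D.obj i) := fun i => pullback.fst _ _
  have hUcond : ∀ i, fU i ≫ omor (c.ι.app i) = sU i ≫ uu ≫ pullback.fst (ostr c.pt) k.b :=
    fun i => pullback.condition
  have hlcond : ∀ i, (sU i ≫ e) ≫ omor a = fU i ≫ omor (c.ι.app i) := by
    intro i
    rw [hUcond, Category.assoc]
    exact congrArg (sU i ≫ ·) huu1.symm
  let l : ∀ i, pullback (omor (c.ι.app i)) (uu ≫ pullback.fst (ostr c.pt) k.b) ⟶
      pullback (omor (s.ι.app i)) k.ζ := fun i => (sq i).lift (sU i ≫ e) (fU i) (hlcond i)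
  have hl1 : ∀ i, l i ≫ omor (c'.ι.app i) = sU i ≫ e := fun i => (sq i).lift_fst _ _ _
  have hl2 : ∀ i, l i ≫ f₁ i = fU i := fun i => (sq i).lift_snd _ _ _
  have hlnat : ∀ ⦃i j : I⦄ (g : i ⟶ j),
      cpbMap c (uu ≫ pullback.fst (ostr c.pt) k.b) g ≫ l j = l i ≫ cpbMap s k.ζ g := by
    intro i j g
    have e1 : cpbMap s k.ζ g ≫ omor (c'.ι.app j) = omor (c'.ι.app i) := cocone_w c' g
    have e2 : cpbMap s k.ζ g ≫ omor ((cpbα s hZsA k.ζ).app j) = f₁ i ≫ omor (D.map g) :=
      cpbMap_fst s k.ζ g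
    have e3 : l j ≫ omor ((cpbα s hZsA k.ζ).app j) = fU j := hl2 j
    apply (sq j).hom_ext
    · have L : (cpbMap c (uu ≫ pullback.fst (ostr c.pt) k.b) g ≫ l j) ≫ omor (c'.ι.app j) =
          sU i ≫ e :=
        (Category.assoc _ _ _).trans ((congrArg (cpbMap c _ g ≫ ·) (hl1 j)).trans
          ((Category.assoc _ _ _).symm.trans (congrArg (· ≫ e) (cpbMap_snd c _ g))))
      have R : (l i ≫ cpbMap s k.ζ g) ≫ omor (c'.ι.app j) = sU i ≫ e :=
        (Category.assoc _ _ _).trans ((congrArg (l i ≫ ·) e1).trans (hl1 i))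
      exact L.trans R.symm
    · have L : (cpbMap c (uu ≫ pullback.fst (ostr c.pt) k.b) g ≫ l j) ≫
          omor ((cpbα s hZsA k.ζ).app j) = fU i ≫ omor (D.map g) :=
        (Category.assoc _ _ _).trans ((congrArg (cpbMap c _ g ≫ ·) e3).trans
          (cpbMap_fst c _ g))
      have R : (l i ≫ cpbMap s k.ζ g) ≫ omor ((cpbα s hZsA k.ζ).app j) =
          fU i ≫ omor (D.map g) :=
        (Category.assoc _ _ _).trans ((congrArg (l i ≫ ·) e2).trans
          ((Category.assoc _ _ _).symm.trans (congrArg (· ≫ omor (D.map g)) (hl2 i))))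
      exact L.trans R.symm
  have hφnat : ∀ ⦃i j : I⦄ (g : i ⟶ j),
      cpbMap c (uu ≫ pullback.fst (ostr c.pt) k.b) g ≫ (l j ≫ f₂ j) = l i ≫ f₂ i := by
    intro i j g
    exact (Category.assoc _ _ _).symm.trans ((congrArg (· ≫ f₂ j) (hlnat g)).trans
      ((Category.assoc _ _ _).trans (congrArg (l i ≫ ·) (cpbMap_snd s k.ζ g))))
  have hφz : ∀ i, (l i ≫ f₂ i) ≫ (yon S).map k.z =
      sU i ≫ uu ≫ pullback.snd (ostr c.pt) k.b := by
    intro i
    have : sU i ≫ uu = l i ≫ β i :=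
      (congrArg (sU i ≫ ·) huud).trans ((Category.assoc _ _ _).symm.trans
        ((congrArg (· ≫ m) (hl1 i).symm).trans
          ((Category.assoc _ _ _).trans (congrArg (l i ≫ ·) (hm2 i)))))
    exact (Category.assoc _ _ _).trans ((congrArg (l i ≫ ·) (hβ2 i).symm).trans
      ((Category.assoc _ _ _).symm.trans
        ((congrArg (· ≫ pullback.snd (ostr c.pt) k.b) this.symm).trans (Category.assoc _ _ _))))
  obtain ⟨fz, ⟨hfz1, hfz2⟩, -⟩ := existsUnique_of_H2 h2 k.b k.z k.hB' k.hZs hUs k.hb uu huu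
    (fun i => l i ≫ f₂ i) hφnat hφz
  refine ⟨⟨Us, uu ≫ pullback.fst (ostr c.pt) k.b, (yon S).map fz ≫ k.ζ, hqe, ?_, ?_⟩,
    Points.ofScheme Us v₀, ?_⟩
  · rw [Category.assoc, k.comm, ← Category.assoc, hfz1, Category.assoc, Category.assoc,
      pullback.condition]
  · intro i
    change sU i ≫ (yon S).map fz ≫ k.ζ = fU i ≫ omor (s.ι.app i)
    rw [← Category.assoc, hfz2, Category.assoc, ← hf12, ← Category.assoc, hl2]
  · change Points.map (uu ≫ pullback.fst (ostr c.pt) k.b) (Points.ofScheme Us v₀) = _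
    rw [huu1, Points.map_comp, ← Points.ofPt_eq_map_ofScheme, hv₀]

end E1

section E2

variable (h1 : H1 D c) (h1' : H1' D c) (h2 : H2 D c)

include h1 h1' h2 in
set_option backward.isDefEq.respectTransparency.types false in
/-- The local data cover `c.pt`. -/
theorem exists_locData_at (x : Points (osp c.pt)) :
    ∃ (y : LocData c s) (v : Points ((yon S).obj y.Us)), Points.map y.q v = x := by
  let Ω : Set (Points (osp c.pt)) :=
    {x | ∃ (y : LocData c s) (v : Points ((yon S).obj y.Us)), Points.map y.q v = x}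
  have hΩ : IsOpen Ω := by
    have : Ω = ⋃ y : LocData c s, Set.range (Points.map y.q) := by
      ext x
      simp only [Ω, Set.mem_setOf_eq, Set.mem_iUnion, Set.mem_range]
    rw [this]
    exact isOpen_iUnion fun y =>
      (isOpenMap_points_of_isEtaleMor (IsAlgSpace.yon_obj y.Us) c.pt.left.property
        y.hq).isOpen_range
  obtain ⟨O, j, hj, hr⟩ := exists_openSubspace c.pt.left Ω hΩ
  have hjm : Mono j.hom := mono_of_openImmersion hj
  have hje : IsEtaleMor j.hom :=
    isEtaleMor_of_repWith_etale (repWith_mono isOpenImmersion_le_etale hj)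
  -- every `D i` maps into `Ω`
  have hsub : ∀ i, Set.range (Points.map (omor (c.ι.app i))) ⊆ Set.range (Points.map j.hom) := by
    intro i
    rw [hr]
    rintro _ ⟨d, rfl⟩
    obtain ⟨k, zs, hzs⟩ := exists_zchart s.pt.left.property (ostr s.pt)
      (Points.map (omor (s.ι.app i)) d)
    have hZsA : IsAlgSpace ((yon S).obj k.Zs) := IsAlgSpace.yon_obj k.Zs
    obtain ⟨c', a, hae, sq⟩ := h1 (cpbD s hZsA k.ζ) (cpbα s hZsA k.ζ)
      (fun i j g => cpbα_equifibered s k.ζ g)
      (fun i => cpb_fst_etale s hZsA k.ζ (isEtaleMor_of_repWith_etale k.hζ) i)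
    obtain ⟨p, hp1, -⟩ := points_exists_of_isPullback
      (IsPullback.of_hasPullback (omor (s.ι.app i)) k.ζ) d (Points.ofScheme k.Zs zs)
      (by rw [← hzs, Points.ofPt_eq_map_ofScheme])
    obtain ⟨y, v, hyv⟩ := exists_locData_of_chart h1' h2 k c' a hae sq
      (Points.map (omor (c'.ι.app i)) p)
    refine ⟨y, v, hyv.trans ?_⟩
    rw [← Points.map_comp, (sq i).w, Points.map_comp]
    congr 1
  choose e he using fun i =>
    exists_factor_of_range_subset j.hom hj (omor (c.ι.app i)) (hsub i)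
  have hid : IsEtaleMor (omor (𝟙 c.pt)) := fun U φ hφ => by
    change RepWith @Etale (φ ≫ 𝟙 _)
    rwa [Category.comp_id]
  obtain ⟨m, ⟨hm1, -⟩, -⟩ := existsUnique_of_H1' h1' c.pt (𝟙 c.pt) hid D (𝟙 D) c.ι
    (fun i => IsPullback.id_vert (omor (c.ι.app i))) O.property j.hom hje e
    (fun i => by rw [he]; exact (Category.id_comp _).symm)
    (fun i j' g => by
      rw [← cancel_mono j.hom, Category.assoc, he, he, cocone_w])
  have hxΩ : x ∈ Ω := by
    rw [← hr]
    refine ⟨Points.map m x, ?_⟩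
    rw [← Points.map_comp, hm1]
    exact Points.map_id x
  exact hxΩ

end E2

end Groth.Agent.Lib.Helper14.AS
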