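import Groth.Agent.Lib.Helper14.ColimEq4

universe u v w

open CategoryTheory Limits AlgebraicGeometry Opposite

namespace Groth.Agent.Lib.Helper14.AS

open AlgSp

variable {S : Scheme.{u}} {I : Type v} [Category.{w} I] {B : Space S}

variable {D : I ⥤ Over B} {c s : Cocone D}

/-- Base change of a jointly locally surjective family. -/
theorem FJLS.pullback_snd {ι : Type w} {V : ι → Sp S} {W W' : Sp S} {q : ∀ y, V y ⟶ W}
    (h : FJLS q) (r : W' ⟶ W) : FJLS (fun y => pullback.fst r (q y)) := by
  intro T w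
  obtain ⟨R, hR, hl⟩ := h T (w ≫ r)
  refine ⟨R, hR, fun T' t ht => ?_⟩
  obtain ⟨y, x, hx⟩ := hl t ht
  exact ⟨y, pullback.lift ((yon S).map t ≫ w) x (by rw [Category.assoc, hx]),
    pullback.lift_fst _ _ _⟩

section Compat

variable (h1' : H1' D c) (h2 : H2 D c)

include h1' h2 in
set_option backward.isDefEq.respectTransparency.types false in
/-- The local data agree on overlaps. -/
theorem locData_compat (y y' : LocData c s) {T : Sp S} (x : T ⟶ (yon S).obj y.Us)
    (x' : T ⟶ (yon S).obj y'.Us) (h : x ≫ y.q = x' ≫ y'.q) : x ≫ y.g = x' ≫ y'.g := by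
  have hC := c.pt.left.property
  have hV : IsAlgSpace (pullback y.q y'.q) :=
    isAlgSpace_of_isPullback (repDiag_of_isAlgSpace hC) (IsAlgSpace.yon_obj y.Us)
      (IsAlgSpace.yon_obj y'.Us) (IsPullback.of_hasPullback _ _)
  have hfst : IsEtaleMor (pullback.fst y.q y'.q) :=
    isEtaleMor_of_isPullback (IsAlgSpace.yon_obj y'.Us) hC (IsAlgSpace.yon_obj y.Us)
      (IsPullback.of_hasPullback y.q y'.q).flip y'.hq
  obtain ⟨v, hvd⟩ : ∃ v : pullback y.q y'.q ⟶ osp c.pt, v = pullback.fst y.q y'.q ≫ y.q :=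
    ⟨_, rfl⟩
  have hv' : v = pullback.snd y.q y'.q ≫ y'.q := hvd.trans pullback.condition
  have hv : IsEtaleMor v := by rw [hvd]; exact isEtaleMor_comp hfst y.hq
  have key : pullback.fst y.q y'.q ≫ y.g = pullback.snd y.q y'.q ≫ y'.g := by
    refine ul_eq h1' h2 s.pt.left.property (ostr s.pt) hV v hv _ _ ?_ ?_ ?_
    · rw [Category.assoc, y.hg1, ← Category.assoc, hvd]
    · rw [Category.assoc, y'.hg1, ← Category.assoc, hv']
    · intro i
      let sP : pullback (omor (c.ι.app i)) v ⟶ pullback y.q y'.q := pullback.snd _ _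
      let fP : pullback (omor (c.ι.app i)) v ⟶ osp (D.obj i) := pullback.fst _ _
      have hP : fP ≫ omor (c.ι.app i) = sP ≫ v := pullback.condition
      have h1 : (sP ≫ pullback.fst y.q y'.q) ≫ y.g = fP ≫ omor (s.ι.app i) := by
        have cnd : fP ≫ omor (c.ι.app i) = (sP ≫ pullback.fst y.q y'.q) ≫ y.q :=
          hP.trans ((congrArg (sP ≫ ·) hvd).trans (Category.assoc _ _ _).symm)
        have e1 : pullback.lift fP (sP ≫ pullback.fst y.q y'.q) cnd ≫ pullback.snd _ y.q =
            sP ≫ pullback.fst y.q y'.q := pullback.lift_snd _ _ _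
        have e2 : pullback.lift fP (sP ≫ pullback.fst y.q y'.q) cnd ≫ pullback.fst _ y.q = fP :=
          pullback.lift_fst _ _ _
        rw [← e1, Category.assoc, y.hg2 i, ← Category.assoc, e2]
      have h2 : (sP ≫ pullback.snd y.q y'.q) ≫ y'.g = fP ≫ omor (s.ι.app i) := by
        have cnd : fP ≫ omor (c.ι.app i) = (sP ≫ pullback.snd y.q y'.q) ≫ y'.q :=
          hP.trans ((congrArg (sP ≫ ·) hv').trans (Category.assoc _ _ _).symm)
        have e1 : pullback.lift fP (sP ≫ pullback.snd y.q y'.q) cnd ≫ pullback.snd _ y'.q =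
            sP ≫ pullback.snd y.q y'.q := pullback.lift_snd _ _ _
        have e2 : pullback.lift fP (sP ≫ pullback.snd y.q y'.q) cnd ≫ pullback.fst _ y'.q = fP :=
          pullback.lift_fst _ _ _
        rw [← e1, Category.assoc, y'.hg2 i, ← Category.assoc, e2]
      exact ((Category.assoc _ _ _).symm.trans h1).trans (h2.symm.trans (Category.assoc _ _ _))
  have e1 : pullback.lift x x' h ≫ pullback.fst y.q y'.q = x := pullback.lift_fst _ _ _
  have e2 : pullback.lift x x' h ≫ pullback.snd y.q y'.q = x' := pullback.lift_snd _ _ _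
  rw [← e1, Category.assoc, key, ← Category.assoc, e2]

end Compat

section Main

variable (h1 : H1 D c) (h1' : H1' D c) (h2 : H2 D c)

include h1 h1' h2 in
theorem fjls_locData (s : Cocone D) :
    FJLS (ι := LocData c s) (V := fun y : LocData c s => (yon S).obj y.Us)
      (fun y : LocData c s => y.q) :=
  fjls_of_isEtaleMor_of_points (fun y : LocData c s => IsAlgSpace.yon_obj y.Us)
    c.pt.left.property _ (fun y : LocData c s => y.hq)
    (fun x => exists_locData_at h1 h1' h2 x)

include h1 h1' h2 in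
set_option backward.isDefEq.respectTransparency.types false in
/-- Existence of the descended morphism. -/
theorem exists_desc_colimEq (s : Cocone D) :
    ∃ G : osp c.pt ⟶ osp s.pt, G ≫ ostr s.pt = ostr c.pt ∧
      ∀ i, omor (c.ι.app i) ≫ G = omor (s.ι.app i) := by
  have hF := fjls_locData h1 h1' h2 s
  obtain ⟨G, hG⟩ := exists_desc_of_FJLS hF (fun y : LocData c s => y.g)
    (fun T y y' x x' hxx => locData_compat h1' h2 y y' x x' hxx)
  refine ⟨G, ?_, fun i => ?_⟩
  · refine hF.hom_ext _ _ fun y => ?_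
    rw [← Category.assoc, hG, y.hg1]
  · refine (hF.pullback_snd (omor (c.ι.app i))).hom_ext _ _ fun y => ?_
    change pullback.fst (omor (c.ι.app i)) y.q ≫ omor (c.ι.app i) ≫ G =
      pullback.fst (omor (c.ι.app i)) y.q ≫ omor (s.ι.app i)
    rw [← Category.assoc, pullback.condition, Category.assoc, hG, y.hg2]

include h1' h2 in
set_option backward.isDefEq.respectTransparency.types false in
/-- Uniqueness of the descended morphism. -/
theorem desc_unique_colimEq (s : Cocone D) (G G' : osp c.pt ⟶ osp s.pt)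
    (hG : G ≫ ostr s.pt = ostr c.pt) (hG' : G' ≫ ostr s.pt = ostr c.pt)
    (hGi : ∀ i, omor (c.ι.app i) ≫ G = omor (s.ι.app i))
    (hGi' : ∀ i, omor (c.ι.app i) ≫ G' = omor (s.ι.app i)) : G = G' := by
  have hid : IsEtaleMor (𝟙 (osp c.pt)) := fun U φ hφ => by rwa [Category.comp_id]
  refine ul_eq h1' h2 s.pt.left.property (ostr s.pt) c.pt.left.property (𝟙 _) hid G G' ?_ ?_ ?_
  · rw [hG, Category.id_comp]
  · rw [hG', Category.id_comp]
  · intro i
    have hc : pullback.snd (omor (c.ι.app i)) (𝟙 (osp c.pt)) =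
        pullback.fst (omor (c.ι.app i)) (𝟙 (osp c.pt)) ≫ omor (c.ι.app i) := by
      rw [pullback.condition, Category.comp_id]
    rw [hc, Category.assoc, Category.assoc, hGi, hGi']

include h1 h1' h2 in
/-- The cocone is a colimit. -/
theorem nonempty_isColimit_colimEq : Nonempty (IsColimit c) := by
  have hex := fun s : Cocone D => exists_desc_colimEq h1 h1' h2 s
  choose G hG1 hG2 using hex
  refine ⟨{ desc := fun s => omkHom (G s) (hG1 s), fac := fun s i => ?_, uniq := fun s m hm => ?_ }⟩
  · apply omor_ext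
    exact hG2 s i
  · apply omor_ext
    refine desc_unique_colimEq h1' h2 s (omor m) (G s) (omor_str m) (hG1 s) (fun i => ?_) (hG2 s)
    rw [← omor_comp, hm]

end Main

end Groth.Agent.Lib.Helper14.AS
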