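import Groth.Agent.Lib.Helper14.AlgSpSect
import Groth.Agent.Lib.Helper14.AlgSpPoints

universe u v w

open CategoryTheory Limits AlgebraicGeometry Opposite

namespace Groth.Agent.Lib.Helper14.AS

open AlgSp

variable {S : Scheme.{u}} {I : Type v} [Category.{w} I]

section PB

variable (D : I ⥤ Over S) {Z : Sp S} (f : ∀ i, (yon S).obj (D.obj i) ⟶ Z)
  (hf : ∀ ⦃i j : I⦄ (a : i ⟶ j), (yon S).map (D.map a) ≫ f j = f i)
  {T : Over S} {t : (yon S).obj T ⟶ Z} (ht : Representable t)

include hf in
theorem pbD_aux {i j : I} (a : i ⟶ j) :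
    (yon S).map (ht.fst' (f i)) ≫ t = (yon S).map (ht.snd (f i) ≫ D.map a) ≫ f j := by
  rw [Functor.map_comp, Category.assoc, hf a]
  exact (ht.isPullback' (f i)).w

/-- The base change of a diagram of schemes over a sheaf along a representable morphism. -/
noncomputable def pbD : I ⥤ Over S where
  obj i := ht.pullback (f i)
  map {i j} a := ht.lift' (ht.fst' (f i)) (ht.snd (f i) ≫ D.map a) (pbD_aux D f hf ht a)
  map_id i := by
    apply ht.hom_ext'
    · rw [Functor.relativelyRepresentable.lift'_fst, Category.id_comp]
    · rw [Functor.relativelyRepresentable.lift'_snd, Category.id_comp, D.map_id, Category.comp_id]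
  map_comp {i j k} a b := by
    apply ht.hom_ext'
    · rw [Functor.relativelyRepresentable.lift'_fst, Category.assoc,
        Functor.relativelyRepresentable.lift'_fst, Functor.relativelyRepresentable.lift'_fst]
    · rw [Functor.relativelyRepresentable.lift'_snd, Category.assoc,
        Functor.relativelyRepresentable.lift'_snd, ← Category.assoc,
        Functor.relativelyRepresentable.lift'_snd, Category.assoc, D.map_comp]

/-- The projection of the base-changed diagram to the original one. -/
noncomputable def pbα : pbD D f hf ht ⟶ D where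
  app i := ht.snd (f i)
  naturality {i j} a := Functor.relativelyRepresentable.lift'_snd _ _ _ _

/-- The projections to the chart. -/
noncomputable def pbβ (i : I) : (pbD D f hf ht).obj i ⟶ T := ht.fst' (f i)

theorem pbD_map_β {i j : I} (a : i ⟶ j) :
    (pbD D f hf ht).map a ≫ pbβ D f hf ht j = pbβ D f hf ht i :=
  Functor.relativelyRepresentable.lift'_fst _ _ _ _

theorem pb_isPullback (i : I) :
    IsPullback ((yon S).map (pbβ D f hf ht i)) ((yon S).map ((pbα D f hf ht).app i)) t (f i) :=
  ht.isPullback' (f i)

theorem pbα_equifibered : NatTrans.Equifibered (pbα D f hf ht) := by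
  intro i j a
  apply IsPullback.of_map_of_faithful (yon S)
  have big : IsPullback ((yon S).map ((pbD D f hf ht).map a) ≫ (yon S).map (pbβ D f hf ht j))
      ((yon S).map ((pbα D f hf ht).app i)) t ((yon S).map (D.map a) ≫ f j) := by
    rw [hf a, ← Functor.map_comp, pbD_map_β]
    exact pb_isPullback D f hf ht i
  have hcomm : (yon S).map ((pbD D f hf ht).map a) ≫ (yon S).map ((pbα D f hf ht).app j) =
      (yon S).map ((pbα D f hf ht).app i) ≫ (yon S).map (D.map a) := by
    rw [← Functor.map_comp, ← Functor.map_comp, (pbα D f hf ht).naturality a]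
  exact IsPullback.of_right big hcomm (pb_isPullback D f hf ht j)

set_option backward.isDefEq.respectTransparency.types false in
theorem pbα_etale (hte : RepWith @Etale t) (i : I) : Etale ((pbα D f hf ht).app i).left :=
  hte.property (f i) ((yon S).map (pbβ D f hf ht i)) ((pbα D f hf ht).app i)
    (pb_isPullback D f hf ht i)

theorem pbα_isSeparated (hT : IsSeparated T.hom) (i : I) :
    IsSeparated ((pbα D f hf ht).app i).left := by
  let A := (pbα D f hf ht).app i
  let B := pbβ D f hf ht i
  let m : ((pbD D f hf ht).obj i).left ⟶ pullback (D.obj i).hom T.hom :=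
    pullback.lift A.left B.left (by rw [Over.w, Over.w])
  have hm : Mono m := by
    constructor
    intro X g h hgh
    have h1 : g ≫ A.left = h ≫ A.left := by
      have := congrArg (fun k => k ≫ pullback.fst _ _) hgh
      rw [Category.assoc, Category.assoc, pullback.lift_fst] at this
      exact this
    have h2 : g ≫ B.left = h ≫ B.left := by
      have := congrArg (fun k => k ≫ pullback.snd _ _) hgh
      rw [Category.assoc, Category.assoc, pullback.lift_snd] at this
      exact this
    have h3 : g ≫ ((pbD D f hf ht).obj i).hom = h ≫ ((pbD D f hf ht).obj i).hom := by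
      rw [← Over.w A, ← Category.assoc, h1, Category.assoc]
    let g' : Over.mk (g ≫ ((pbD D f hf ht).obj i).hom) ⟶ (pbD D f hf ht).obj i := Over.homMk g rfl
    let h' : Over.mk (g ≫ ((pbD D f hf ht).obj i).hom) ⟶ (pbD D f hf ht).obj i :=
      Over.homMk h h3.symm
    have : g' = h' := by
      apply ht.hom_ext'
      · apply Over.OverMorphism.ext
        exact h2
      · apply Over.OverMorphism.ext
        exact h1
    exact congrArg (fun k => k.left) this
  have e : A.left = m ≫ pullback.fst _ _ := (pullback.lift_fst _ _ _).symm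
  change IsSeparated A.left
  rw [e]
  infer_instance

end PB

/-- Morphisms from a colimit of schemes to an algebraic space are determined by their restrictions
to the members of the diagram. -/
theorem hom_ext_of_isColimit_forget {D : I ⥤ Over S} {c : Cocone D}
    (h₁ : IsColimit ((Over.forget S).mapCocone c)) {Z : Sp S} (hZ : IsAlgSpace Z)
    (g g' : (yon S).obj c.pt ⟶ Z)
    (h : ∀ i, (yon S).map (c.ι.app i) ≫ g = (yon S).map (c.ι.app i) ≫ g') : g = g' := by
  let a : (yon S).obj c.pt ⟶ Z ⨯ Z := prod.lift g g'
  have hd : Representable (Limits.diag Z) := hZ.diag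
  let e := hd.snd a
  let k := hd.fst a
  have sq : IsPullback k ((yon S).map e) (Limits.diag Z) a := hd.isPullback a
  have hl : ∀ i, ((yon S).map (c.ι.app i) ≫ g) ≫ Limits.diag Z = (yon S).map (c.ι.app i) ≫ a := by
    intro i
    rw [prod.comp_diag, prod.comp_lift, ← h i]
  let ℓ : ∀ i, D.obj i ⟶ hd.pullback a := fun i => hd.lift _ (c.ι.app i) (hl i)
  have hℓ1 : ∀ i, (yon S).map (ℓ i) ≫ k = (yon S).map (c.ι.app i) ≫ g := fun i =>
    Functor.relativelyRepresentable.lift_fst _ _ _ _
  have hℓ2 : ∀ i, ℓ i ≫ e = c.ι.app i := fun i =>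
    Functor.relativelyRepresentable.lift_snd _ _ _ _
  have hℓ : ∀ ⦃i j : I⦄ (u : i ⟶ j), D.map u ≫ ℓ j = ℓ i := by
    intro i j u
    apply hd.hom_ext
    · rw [Functor.map_comp, Category.assoc]
      erw [hℓ1 j, hℓ1 i]
      rw [← Category.assoc, ← Functor.map_comp, c.w]
    · rw [Category.assoc]
      erw [hℓ2 j, hℓ2 i]
      exact c.w u
  let s : Cocone (D ⋙ Over.forget S) :=
    { pt := (hd.pullback a).left
      ι := { app := fun i => (ℓ i).left
             naturality := fun i j u => by
               have := congrArg (fun m => m.left) (hℓ u)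
               simpa using this } }
  let σ : c.pt.left ⟶ (hd.pullback a).left := h₁.desc s
  have hσ : ∀ i, (c.ι.app i).left ≫ σ = (ℓ i).left := fun i => h₁.fac s i
  have hσe : σ ≫ e.left = 𝟙 _ := by
    apply h₁.hom_ext
    intro i
    have : ((c.ι.app i).left ≫ σ) ≫ e.left = (c.ι.app i).left := by
      rw [hσ i, ← Over.comp_left, hℓ2 i]
    exact (Category.assoc _ _ _).symm.trans (this.trans (Category.comp_id _).symm)
  let σ' : c.pt ⟶ hd.pullback a := Over.homMk σ (by
    rw [← Over.w e, ← Category.assoc, hσe, Category.id_comp])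
  have hσ' : σ' ≫ e = 𝟙 _ := by
    apply Over.OverMorphism.ext
    exact hσe
  have hw := sq.w
  rw [prod.comp_diag, prod.comp_lift] at hw
  have e1 : (yon S).map e ≫ g = k := by
    have := congrArg (fun m => m ≫ prod.fst) hw
    simp only [prod.lift_fst] at this
    exact this.symm
  have e2 : (yon S).map e ≫ g' = k := by
    have := congrArg (fun m => m ≫ prod.snd) hw
    simp only [prod.lift_snd] at this
    exact this.symm
  calc g = (yon S).map (σ' ≫ e) ≫ g := by rw [hσ', CategoryTheory.Functor.map_id, Category.id_comp]
    _ = (yon S).map (σ' ≫ e) ≫ g' := by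
      rw [Functor.map_comp, Category.assoc, Category.assoc, e1, e2]
    _ = g' := by rw [hσ', CategoryTheory.Functor.map_id, Category.id_comp]

end Groth.Agent.Lib.Helper14.AS
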