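import Groth.Agent.Lib.Helper14.ColimSp1
import Groth.Agent.Lib.Helper14.AlgSpQC
import Groth.Agent.Lib.Helper14.AlgSpRedFactor2
import Groth.Agent.Lib.Helper14.LimJ
import Groth.Agent.Lib.Helper24.ZarGlue

universe u v w

open CategoryTheory Limits AlgebraicGeometry Opposite

namespace Groth.Agent.Lib.Helper14.AS

open AlgSp

variable {S : Scheme.{u}} {I : Type v} [Category.{w} I]

theorem yon_map_comp_assoc' {A B C : Over S} {Z : Sp S} (x : A ⟶ B) (y : B ⟶ C)
    (g : (yon S).obj C ⟶ Z) :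
    (yon S).map x ≫ (yon S).map y ≫ g = (yon S).map (x ≫ y) ≫ g := by
  rw [Functor.map_comp, Category.assoc]

section

variable (D : I ⥤ Over S) (c : Cocone D) {Z : Sp S} (f : ∀ i, (yon S).obj (D.obj i) ⟶ Z)
  (hf : ∀ ⦃i j : I⦄ (a : i ⟶ j), (yon S).map (D.map a) ≫ f j = f i)

/-- The compatibility property of a local descent of the cocone `f` on an etale chart of `c.pt`. -/
def IsLocDesc {V : Over S} (q : V ⟶ c.pt) (g : (yon S).obj V ⟶ Z) : Prop :=
  ∀ ⦃A : Over S⦄ (x : A ⟶ V) ⦃i : I⦄ (z : A ⟶ D.obj i), x ≫ q = z ≫ c.ι.app i →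
    (yon S).map x ≫ g = (yon S).map z ≫ f i

/-- Lemma A: the local descent over a chart. -/
theorem exists_isLocDesc {T : Over S} {t : (yon S).obj T ⟶ Z} (ht : Representable t)
    (c' : Cocone (pbD D f hf ht)) (q : c'.pt ⟶ c.pt)
    (hsq : ∀ i, IsPullback (c'.ι.app i) ((pbα D f hf ht).app i) q (c.ι.app i))
    (hcol : IsColimit ((Over.forget S).mapCocone c')) :
    ∃ g : (yon S).obj c'.pt ⟶ Z, IsLocDesc D c f q g := by
  let s : Cocone (pbD D f hf ht ⋙ Over.forget S) :=
    { pt := T.left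
      ι := { app := fun i => (pbβ D f hf ht i).left
             naturality := fun i j a => by
               have := congrArg (fun m => m.left) (pbD_map_β D f hf ht a)
               simpa using this } }
  let b₀ : c'.pt.left ⟶ T.left := hcol.desc s
  have hb₀ : ∀ i, (c'.ι.app i).left ≫ b₀ = (pbβ D f hf ht i).left := fun i => hcol.fac s i
  have hb₀S : b₀ ≫ T.hom = c'.pt.hom := by
    apply hcol.hom_ext
    intro i
    have e1 : ((c'.ι.app i).left ≫ b₀) ≫ T.hom = (c'.ι.app i).left ≫ c'.pt.hom := by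
      rw [hb₀ i, Over.w]
      exact (Over.w (c'.ι.app i)).symm
    exact (Category.assoc _ _ _).symm.trans e1
  let b : c'.pt ⟶ T := Over.homMk b₀ hb₀S
  have hb : ∀ i, c'.ι.app i ≫ b = pbβ D f hf ht i := by
    intro i
    apply Over.OverMorphism.ext
    exact hb₀ i
  refine ⟨(yon S).map b ≫ t, ?_⟩
  intro A x i z hxz
  let r : A ⟶ (pbD D f hf ht).obj i := (hsq i).lift x z hxz
  have hr1 : r ≫ c'.ι.app i = x := (hsq i).lift_fst _ _ _
  have hr2 : r ≫ (pbα D f hf ht).app i = z := (hsq i).lift_snd _ _ _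
  rw [← hr1, ← hr2, ← Category.assoc, ← Functor.map_comp, Category.assoc, hb i,
    Functor.map_comp, Functor.map_comp, Category.assoc, Category.assoc,
    (pb_isPullback D f hf ht i).w]

/-- Lemma B: two local descents agree on overlaps. -/
theorem compat_of_isLocDesc (hZ : IsAlgSpace Z)
    (h₃ : ∀ (D' : I ⥤ Over S) (α : D' ⟶ D) (c' : Cocone D') (a : c'.pt ⟶ c.pt), Etale a.left →
      (∀ i, IsPullback (c'.ι.app i) (α.app i) a (c.ι.app i)) →
        Nonempty (IsColimit ((Over.forget S).mapCocone c')))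
    {V₁ V₂ : Over S} (q₁ : V₁ ⟶ c.pt) (q₂ : V₂ ⟶ c.pt) (hq₂ : Etale q₂.left)
    (hq₁ : Etale q₁.left)
    {g₁ : (yon S).obj V₁ ⟶ Z} {g₂ : (yon S).obj V₂ ⟶ Z} (h1 : IsLocDesc D c f q₁ g₁)
    (h2 : IsLocDesc D c f q₂ g₂) {V : Over S} (m : V ⟶ V₁) (n : V ⟶ V₂)
    (hmn : m ≫ q₁ = n ≫ q₂) : (yon S).map m ≫ g₁ = (yon S).map n ≫ g₂ := by
  let p1 := pullback.fst q₁ q₂
  let p2 := pullback.snd q₁ q₂
  let q'' := p1 ≫ q₁
  have hp1 : Etale p1.left := by
    have sq := (IsPullback.of_hasPullback q₁ q₂).map (Over.forget S)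
    exact MorphismProperty.of_isPullback (P := @Etale) sq.flip hq₂
  have het : Etale q''.left := by
    change Etale (p1.left ≫ q₁.left)
    infer_instance
  let F : ∀ i, (yon S).obj (D.obj i) ⟶ (yon S).obj c.pt := fun i => (yon S).map (c.ι.app i)
  have hF : ∀ ⦃i j : I⦄ (a : i ⟶ j), (yon S).map (D.map a) ≫ F j = F i := by
    intro i j a
    change (yon S).map (D.map a) ≫ (yon S).map (c.ι.app j) = (yon S).map (c.ι.app i)
    rw [← Functor.map_comp, c.w]
  have ht'' : Representable ((yon S).map q'') := representable_yon_map q''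
  let c'' : Cocone (pbD D F hF ht'') :=
    { pt := pullback q₁ q₂
      ι := { app := fun i => pbβ D F hF ht'' i
             naturality := fun i j a => by
               have := pbD_map_β D F hF ht'' a
               simpa using this } }
  have hsq : ∀ i, IsPullback (c''.ι.app i) ((pbα D F hF ht'').app i) q'' (c.ι.app i) := fun i =>
    IsPullback.of_map_of_faithful (yon S) (pb_isPullback D F hF ht'' i)
  obtain ⟨hcol⟩ := h₃ _ (pbα D F hF ht'') c'' q'' het hsq
  have key : (yon S).map p1 ≫ g₁ = (yon S).map p2 ≫ g₂ := by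
    refine hom_ext_of_isColimit_forget hcol hZ _ _ (fun i => ?_)
    have e1 : (c''.ι.app i ≫ p1) ≫ q₁ = (pbα D F hF ht'').app i ≫ c.ι.app i := by
      rw [Category.assoc]
      exact (hsq i).w
    have e2 : (c''.ι.app i ≫ p2) ≫ q₂ = (pbα D F hF ht'').app i ≫ c.ι.app i := by
      rw [Category.assoc, ← pullback.condition]
      exact (hsq i).w
    have l1 := h1 _ _ e1
    have l2 := h2 _ _ e2
    have l1' : (yon S).map (c''.ι.app i) ≫ (yon S).map p1 ≫ g₁ =
        (yon S).map (c''.ι.app i ≫ p1) ≫ g₁ := yon_map_comp_assoc' _ _ _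
    have l2' : (yon S).map (c''.ι.app i) ≫ (yon S).map p2 ≫ g₂ =
        (yon S).map (c''.ι.app i ≫ p2) ≫ g₂ := yon_map_comp_assoc' _ _ _
    exact l1'.trans (l1.trans (l2.symm.trans l2'.symm))
  let l : V ⟶ pullback q₁ q₂ := pullback.lift m n hmn
  have hl1 : l ≫ p1 = m := pullback.lift_fst _ _ _
  have hl2 : l ≫ p2 = n := pullback.lift_snd _ _ _
  rw [← hl1, ← hl2, Functor.map_comp, Functor.map_comp, Category.assoc, Category.assoc, key]

include hf in
open Groth.Agent.Lib.Helper24.ZarGlue in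
set_option backward.isDefEq.respectTransparency.types false in
/-- Existence of the descended morphism. -/
theorem exists_desc_of_colim (hZ : IsAlgSpace Z)
    (h₂ : ∀ x : ↥c.pt.left, ∃ (i : I) (y : ↥(D.obj i).left), (c.ι.app i).left y = x)
    (h₃ : ∀ (D' : I ⥤ Over S) (α : D' ⟶ D) (c' : Cocone D') (a : c'.pt ⟶ c.pt), Etale a.left →
      (∀ i, IsPullback (c'.ι.app i) (α.app i) a (c.ι.app i)) →
        Nonempty (IsColimit ((Over.forget S).mapCocone c')))
    (h₄ : ∀ (D' : I ⥤ Over S) (α : D' ⟶ D), NatTrans.Equifibered α →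
      (∀ i, Etale (α.app i).left) → (∀ i, IsSeparated (α.app i).left) →
      ∃ (c' : Cocone D') (a : c'.pt ⟶ c.pt), Etale a.left ∧
        ∀ i, IsPullback (c'.ι.app i) (α.app i) a (c.ι.app i)) :
    ∃ g : (yon S).obj c.pt ⟶ Z, ∀ i, (yon S).map (c.ι.app i) ≫ g = f i := by
  obtain ⟨Y₀, p, hpe, hps⟩ := hZ.atlas
  have haff : ∀ y : Y₀.left, ∃ V : Y₀.left.Opens, IsAffineOpen V ∧ y ∈ V := fun y => by
    obtain ⟨V, hV, hy, -⟩ := exists_isAffineOpen_mem_and_subset (x := y)
      (U := (⊤ : Y₀.left.Opens)) trivial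
    exact ⟨V, hV, hy⟩
  choose V hV hyV using haff
  let T : Y₀.left → Over S := fun y => openSub Y₀ (V y)
  let t : ∀ y, (yon S).obj (T y) ⟶ Z := fun y => (yon S).map (openSubι Y₀ (V y)) ≫ p
  have hte : ∀ y, RepWith @Etale (t y) := fun y => repWith_etale_restrict hpe (V y)
  have ht : ∀ y, Representable (t y) := fun y => (hte y).rep
  have hTsep : ∀ y, IsSeparated (T y).hom := fun y => by
    have : IsAffine (T y).left := hV y
    infer_instance
  have H4 : ∀ y, ∃ (c' : Cocone (pbD D f hf (ht y))) (a : c'.pt ⟶ c.pt), Etale a.left ∧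
      ∀ i, IsPullback (c'.ι.app i) ((pbα D f hf (ht y)).app i) a (c.ι.app i) := fun y =>
    h₄ _ (pbα D f hf (ht y)) (pbα_equifibered D f hf (ht y)) (pbα_etale D f hf (ht y) (hte y))
      (pbα_isSeparated D f hf (ht y) (hTsep y))
  choose c' q hqet hsq using H4
  have H3 : ∀ y, Nonempty (IsColimit ((Over.forget S).mapCocone (c' y))) := fun y =>
    h₃ _ _ (c' y) (q y) (hqet y) (hsq y)
  have HA : ∀ y, ∃ g : (yon S).obj (c' y).pt ⟶ Z, IsLocDesc D c f (q y) g := fun y => by
    obtain ⟨hcol⟩ := H3 y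
    exact exists_isLocDesc D c f hf (ht y) (c' y) (q y) (hsq y) hcol
  choose g hg using HA
  have hsurjα : ∀ (i : I) (d : (D.obj i).left), ∃ (y : Y₀.left)
      (v : ((pbD D f hf (ht y)).obj i).left), ((pbα D f hf (ht y)).app i).left v = d := by
    intro i d
    obtain ⟨y₀, hy₀⟩ := ofPt_surjective_of_repWith hps (Points.ofPt (f i) d)
    have e : Points.ofPt (t y₀) (⟨y₀, hyV y₀⟩ : ↥(V y₀)) = Points.ofPt (f i) d := by
      rw [ofPt_yon_map_comp]
      exact hy₀
    obtain ⟨v, -, hv2⟩ := exists_point_of_isPullback_yon (pb_isPullback D f hf (ht y₀) i) _ d e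
    exact ⟨y₀, v, hv2⟩
  have hKS : Presieve.ofArrows (fun y => (c' y).pt) q ∈ KS S c.pt := by
    refine ofArrows_mem_KS _ q (fun y => ?_) (fun x => ?_)
    · have := hqet y
      exact ⟨inferInstance, inferInstance⟩
    · obtain ⟨i, d, rfl⟩ := h₂ x
      obtain ⟨y, v, hv⟩ := hsurjα i d
      refine ⟨y, ((c' y).ι.app i).left v, ?_⟩
      have := congrArg (fun m => m.left v) (hsq y i).w
      simp only [Over.comp_left, Scheme.Hom.comp_apply] at this
      rw [this, hv]
  obtain ⟨G, hG, -⟩ := existsUnique_desc_of_cover (fun y => (c' y).pt) q hKS g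
    (fun y y' A m n hmn => compat_of_isLocDesc D c f hZ h₃ (q y) (q y') (hqet y') (hqet y)
      (hg y) (hg y') m n hmn)
  refine ⟨G, fun i => ?_⟩
  refine yon_hom_ext_of_KS _ _ (Presieve.ofArrows (fun y => (pbD D f hf (ht y)).obj i)
    (fun y => (pbα D f hf (ht y)).app i)) (ofArrows_mem_KS _ _ (fun y => ?_) (fun d => ?_)) ?_
  · have := pbα_etale D f hf (ht y) (hte y) i
    exact ⟨inferInstance, inferInstance⟩
  · obtain ⟨y, v, hv⟩ := hsurjα i d
    exact ⟨y, v, hv⟩
  · rintro _ _ ⟨y⟩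
    have e1 := hg y ((c' y).ι.app i) ((pbα D f hf (ht y)).app i) (hsq y i).w
    rw [yon_map_comp_assoc', ← (hsq y i).w, ← yon_map_comp_assoc', hG y]
    exact e1

end

end Groth.Agent.Lib.Helper14.AS
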