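import Groth.Agent.Lib.Helper14.Glue2
universe u w
open CategoryTheory CategoryTheory.Limits AlgebraicGeometry Opposite
namespace Groth.Agent.Lib.Helper14.AS
variable {S : Scheme.{u}}
open AlgSp

/-- A family of morphisms of sheaves is jointly locally surjective. -/
def FJLS {ι : Type w} {V : ι → Sp S} {W : Sp S} (q : ∀ y, V y ⟶ W) : Prop :=
  ∀ (T : Over S) (w : (yon S).obj T ⟶ W), ∃ R ∈ AlgSp.J S T, ∀ ⦃T' : Over S⦄ (t : T' ⟶ T), R t →
    ∃ (y : ι) (x : (yon S).obj T' ⟶ V y), x ≫ q y = (yon S).map t ≫ w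

theorem FJLS.hom_ext {ι : Type w} {V : ι → Sp S} {W Z : Sp S} {q : ∀ y, V y ⟶ W} (h : FJLS q)
    (k k' : W ⟶ Z) (h1 : ∀ y, q y ≫ k = q y ≫ k') : k = k' := by
  apply GrothendieckTopology.hom_ext_uliftYoneda.{u + 1} (AlgSp.J S)
  intro T w
  obtain ⟨R, hR, hl⟩ := h T w
  refine yon_hom_ext_of_cover _ _ R hR fun T' t ht => ?_
  obtain ⟨y, x, hx⟩ := hl t ht
  rw [← Category.assoc, ← Category.assoc, ← hx, Category.assoc, Category.assoc, h1]

/-- The sieve of arrows along which a point of `W ⨯ Z` comes from some `(q y, g y)`. -/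
def fgraphSieve {ι : Type w} {V : ι → Sp S} {W Z : Sp S} (q : ∀ y, V y ⟶ W) (g : ∀ y, V y ⟶ Z)
    {T : Over S} (p : (yon S).obj T ⟶ W ⨯ Z) : Sieve T where
  arrows T' t :=
    ∃ (y : ι) (x : (yon S).obj T' ⟶ V y), x ≫ q y = (yon S).map t ≫ p ≫ prod.fst ∧
      x ≫ g y = (yon S).map t ≫ p ≫ prod.snd
  downward_closed := by
    rintro T' T'' t ⟨y, x, h1, h2⟩ s
    exact ⟨y, (yon S).map s ≫ x, by rw [Category.assoc, h1, Functor.map_comp, Category.assoc],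
        by rw [Category.assoc, h2, Functor.map_comp, Category.assoc]⟩

theorem fgraphSieve_pullback {ι : Type w} {V : ι → Sp S} {W Z : Sp S} (q : ∀ y, V y ⟶ W)
    (g : ∀ y, V y ⟶ Z) {T T' : Over S} (p : (yon S).obj T ⟶ W ⨯ Z) (t : T' ⟶ T) :
    (fgraphSieve q g p).pullback t = fgraphSieve q g ((yon S).map t ≫ p) := by
  ext T'' s
  simp only [Sieve.pullback_apply, fgraphSieve, Functor.map_comp, Category.assoc]

/-- The graph predicate. -/
def fgraphPred {ι : Type w} {V : ι → Sp S} {W Z : Sp S} (q : ∀ y, V y ⟶ W) (g : ∀ y, V y ⟶ Z) :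
    SubPred (W ⨯ Z) where
  P T p := fgraphSieve q g p ∈ AlgSp.J S T
  comp T T' t p hp := by
    rw [← fgraphSieve_pullback]
    exact (AlgSp.J S).pullback_stable t hp
  loc T p R hR h := by
    have hR' : Sieve.generate R ∈ AlgSp.J S T := (mem_J_iff _).2 ⟨R, hR, Sieve.le_generate R⟩
    refine (AlgSp.J S).transitive hR' _ ?_
    rintro T' t ⟨T'', s, r, hr, rfl⟩
    rw [Sieve.pullback_comp, fgraphSieve_pullback]
    exact (AlgSp.J S).pullback_stable s (h r hr)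

theorem fgraphPred_of {ι : Type w} {V : ι → Sp S} {W Z : Sp S} (q : ∀ y, V y ⟶ W)
    (g : ∀ y, V y ⟶ Z) (y : ι) {T : Over S} (x : (yon S).obj T ⟶ V y) :
    (fgraphPred q g).P (x ≫ prod.lift (q y) (g y)) := by
  change fgraphSieve q g _ ∈ AlgSp.J S T
  convert (AlgSp.J S).top_mem T
  rw [eq_top_iff]
  intro T' t _
  exact ⟨y, (yon S).map t ≫ x, by simp only [Category.assoc, prod.lift_fst],
    by simp only [Category.assoc, prod.lift_snd]⟩

theorem exists_desc_of_FJLS {ι : Type w} {V : ι → Sp S} {W Z : Sp S} {q : ∀ y, V y ⟶ W}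
    (h : FJLS q) (g : ∀ y, V y ⟶ Z)
    (hc : ∀ (T : Over S) (y y' : ι) (x : (yon S).obj T ⟶ V y) (x' : (yon S).obj T ⟶ V y'),
      x ≫ q y = x' ≫ q y' → x ≫ g y = x' ≫ g y') :
    ∃ k : W ⟶ Z, ∀ y, q y ≫ k = g y := by
  let A := fgraphPred q g
  let π : A.sheaf ⟶ W := A.ι ≫ prod.fst
  have hmono : Mono π := by
    apply mono_of_yon_injective
    intro T γ₁ γ₂ hγ
    rw [← cancel_mono A.ι]
    have h1 : (γ₁ ≫ A.ι) ≫ prod.fst = (γ₂ ≫ A.ι) ≫ prod.fst := by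
      simpa only [Category.assoc, π] using hγ
    have hP₁ : A.P (γ₁ ≫ A.ι) := (A.P_iff _).2 ⟨γ₁, rfl⟩
    have hP₂ : A.P (γ₂ ≫ A.ι) := (A.P_iff _).2 ⟨γ₂, rfl⟩
    apply Limits.prod.hom_ext h1
    refine yon_hom_ext_of_cover _ _ _ ((AlgSp.J S).intersection_covering hP₁ hP₂) ?_
    rintro T' t ⟨ht₁, ht₂⟩
    have e : (yon S).map t ≫ (γ₁ ≫ A.ι) ≫ prod.fst = (yon S).map t ≫ (γ₂ ≫ A.ι) ≫ prod.fst := by
      rw [h1]
    simp only [Category.assoc] at e ⊢
    obtain ⟨y₁, x₁, p1, q1⟩ := ht₁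
    obtain ⟨y₂, x₂, p2, q2⟩ := ht₂
    simp only [Category.assoc] at p1 q1 p2 q2
    rw [← q1, ← q2]
    exact hc _ _ _ _ _ (by rw [p1, p2, e])
  have hls : Sheaf.IsLocallySurjective π := by
    apply isLocallySurjective_of_cover_lifts
    intro T w
    obtain ⟨R, hR, hl⟩ := h T w
    refine ⟨R, hR, fun T' t ht => ?_⟩
    obtain ⟨y, x, hx⟩ := hl t ht
    obtain ⟨γ, hγ⟩ := (A.P_iff _).1 (fgraphPred_of q g y x)
    exact ⟨γ, by simp only [π]; rw [← Category.assoc, hγ, Category.assoc, prod.lift_fst, hx]⟩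
  have : Epi π := (Sheaf.isLocallySurjective_iff_epi _).1 hls
  have : IsIso π := isIso_of_mono_of_epi _
  refine ⟨inv π ≫ A.ι ≫ prod.snd, fun y => ?_⟩
  obtain ⟨jh, hjh⟩ := (A.factors_iff (prod.lift (q y) (g y))).2 fun T x => fgraphPred_of q g y x
  have e : jh ≫ π = q y := by simp only [π]; rw [← Category.assoc, hjh, prod.lift_fst]
  rw [← e, Category.assoc, IsIso.hom_inv_id_assoc, ← Category.assoc, hjh, prod.lift_snd]

end Groth.Agent.Lib.Helper14.AS
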