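import Groth.Agent.Lib.Helper14.Norm7
import Groth.Agent.Lib.Helper14.FpqcBase4
import Groth.Agent.Lib.Helper14.AlgSpProper
import Groth.Agent.Lib.Helper14.LimJ
import Groth.Agent.S10298
import Groth.Agent.S10260

/-!
# Zariski's main theorem for the relative normalization of algebraic spaces (helper14)
-/

universe u
open CategoryTheory CategoryTheory.Limits AlgebraicGeometry Opposite
open AlgSp

namespace Groth.Agent.Lib.Helper14.AS

variable {S : Scheme.{u}}

theorem isSeparatedMor_of_isPullback {F G G' F' : Sp S} {f : F ⟶ G} {g : G' ⟶ G}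
    {fst : F' ⟶ F} {snd : F' ⟶ G'} (sq : IsPullback fst snd f g) (hf : IsSeparatedMor f) :
    IsSeparatedMor snd :=
  repWith_of_isPullback _ (isPullback_diagonal_of_isPullback sq) hf

theorem isQuasiSeparatedMor_of_isSeparatedMor {F G : Sp S} {f : F ⟶ G} (hf : IsSeparatedMor f) :
    IsQuasiSeparatedMor f :=
  repWith_mono (P := @IsClosedImmersion) (Q := @QuasiCompact)
    (fun _ _ k hk => by have : IsClosedImmersion k := hk; infer_instance) hf

set_option backward.isDefEq.respectTransparency.types false in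
/-- Zariski's main theorem over a scheme base, in terms of the sheaf-theoretic normalization. -/
theorem isOpenImmersion_of_isRelNormalization_yon {T XV N : Over S} (fV : XV ⟶ T)
    [LocallyQuasiFinite fV.left] [LocallyOfFiniteType fV.left] [IsSeparated fV.left]
    [QuasiCompact fV.left] (i : N ⟶ T) (η₀ : XV ⟶ N)
    (hn : IsRelNormalization ((yon S).map fV) ((yon S).map i) ((yon S).map η₀)) :
    IsOpenImmersion η₀.left := by
  let N' : Over S := Over.mk (fV.left.fromNormalization ≫ T.hom)
  let f'' : XV ⟶ N' := Over.homMk fV.left.toNormalization (by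
    show fV.left.toNormalization ≫ fV.left.fromNormalization ≫ T.hom = XV.hom
    rw [← Category.assoc, fV.left.toNormalization_fromNormalization, Over.w])
  let ν' : N' ⟶ T := Over.homMk fV.left.fromNormalization rfl
  have hn' := Groth.Agent.S10298.result fV f'' ν' (Iso.refl _) (Category.comp_id _)
    (Category.id_comp _)
  obtain ⟨e, he1, he2⟩ := isRelNormalization_iso (IsAlgSpace.yon_obj N) (IsAlgSpace.yon_obj N')
    hn hn'
  let e₀ : N ≅ N' := (yon S).preimageIso e
  have h1 : η₀ ≫ e₀.hom = f'' := by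
    apply (yon S).map_injective
    rw [Functor.map_comp]
    simp only [e₀, Functor.preimageIso_hom, Functor.map_preimage]
    exact he1
  have h2 : η₀ = f'' ≫ e₀.inv := by rw [← h1, Category.assoc, Iso.hom_inv_id, Category.comp_id]
  have h3 : η₀.left = fV.left.toNormalization ≫ e₀.inv.left := by
    rw [h2]; rfl
  have : IsIso e₀.inv.left := inferInstanceAs (IsIso ((Over.forget S).map e₀.inv))
  rw [h3]
  infer_instance

set_option backward.isDefEq.respectTransparency.types false in
/-- **Zariski's main theorem for algebraic spaces**: for a quasi-finite separated morphism the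
canonical morphism to the relative normalization is an open immersion. -/
theorem repWith_isOpenImmersion_toNormalization {X Y Y' : Sp S} (hX : IsAlgSpace X)
    (hY : IsAlgSpace Y) (hY' : IsAlgSpace Y') (f : X ⟶ Y)
    (hqf : LocP (@LocallyQuasiFinite ⊓ @LocallyOfFiniteType) f) (hqc : IsQuasiCompactMor f)
    (hsep : IsSeparatedMor f) (ν : Y' ⟶ Y) (f' : X ⟶ Y') (hn : IsRelNormalization f ν f') :
    RepWith @IsOpenImmersion f' := by
  have H : NormHyp f := ⟨hX, hY, hqc, isQuasiSeparatedMor_of_isSeparatedMor hsep⟩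
  have hrep : Representable f := Groth.Agent.S10260.core hX hY f hqf hsep
  obtain ⟨ι, Vi, gi, hVi, hgi, hcov⟩ := exists_affine_fpqcCover hY
  choose N ρ fstN sqN hNaff hρint using fun i => hn.2.1 (hVi i) (gi i)
  have sqX : ∀ i, IsPullback (hrep.fst (gi i)) ((yon S).map (hrep.snd (gi i))) f (gi i) :=
    fun i => hrep.isPullback (gi i)
  have hcη : ∀ i, (hrep.fst (gi i) ≫ f') ≫ ν = (yon S).map (hrep.snd (gi i)) ≫ gi i := fun i => by
    rw [Category.assoc, hn.1]; exact (sqX i).w
  choose η₀ hη₀ using fun i => (yon S).map_surjective ((sqN i).lift _ _ (hcη i))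
  have hη1 : ∀ i, (yon S).map (η₀ i) ≫ fstN i = hrep.fst (gi i) ≫ f' := fun i => by
    rw [hη₀, (sqN i).lift_fst]
  have hη2 : ∀ i, (yon S).map (η₀ i) ≫ (yon S).map (ρ i) = (yon S).map (hrep.snd (gi i)) :=
    fun i => by rw [hη₀, (sqN i).lift_snd]
  have hoi : ∀ i, IsOpenImmersion (η₀ i).left := by
    intro i
    have hnE : IsRelNormalization ((yon S).map (hrep.snd (gi i))) ((yon S).map (ρ i))
        ((yon S).map (η₀ i)) :=
      H.isRelNormalization_chart hY' hn ⟨Vi i, gi i, hgi i, hVi i⟩ (sqX i) (sqN i) _ (hη2 i) (hη1 i)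
    have hfst_et : RepWith @Etale (hrep.fst (gi i)) := repWith_of_isPullback _ (sqX i).flip (hgi i)
    have hq := hqf (hrep.fst (gi i)) (gi i) (hrep.snd (gi i)) hfst_et (hgi i) (sqX i).w
    have : LocallyQuasiFinite (hrep.snd (gi i)).left := hq.1
    have : LocallyOfFiniteType (hrep.snd (gi i)).left := hq.2
    have : IsSeparated (hrep.snd (gi i)).left :=
      (isSeparatedMor_yon_map_iff _).1 (isSeparatedMor_of_isPullback (sqX i) hsep)
    have : QuasiCompact (hrep.snd (gi i)).left := by
      have : IsAffine (Vi i).left := hVi i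
      rw [HasAffineProperty.iff_of_isAffine (P := @QuasiCompact)]
      refine (isQuasiCompactSp_yon_iff _).1 ?_
      exact hqc (IsAlgSpace.yon_obj (Vi i)) ((isQuasiCompactSp_yon_iff _).2 inferInstance) (gi i)
        _ _ (sqX i)
    exact isOpenImmersion_of_isRelNormalization_yon (hrep.snd (gi i)) (ρ i) (η₀ i) hnE
  -- the fpqc covering of `Y'`
  have hcov' : IsFpqcCover (fun i => (yon S).obj (N i)) fstN :=
    isFpqcCover_of_isPullback hY hY' ν _ gi (fun i => IsAlgSpace.yon_obj _) _ fstN
      (fun i => (yon S).map (ρ i)) sqN hcov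
  have hsq : ∀ i, IsPullback (hrep.fst (gi i)) ((yon S).map (η₀ i)) f' (fstN i) := fun i => by
    refine IsPullback.of_bot ?_ (hη1 i).symm (sqN i)
    rw [hη2, hn.1]
    exact sqX i
  exact (isLocalOnBase_fpqc_repWith_isOpenImmersion _ fstN hY' (fun i => IsAlgSpace.yon_obj _) hcov'
    f' hX _ (fun i => (yon S).map (η₀ i)) (fun i => hrep.fst (gi i))
    (fun i => IsAlgSpace.yon_obj _) hsq).2 fun i => (repWith_yon_map_iff _ _).2 (hoi i)


set_option backward.isDefEq.respectTransparency.types false in
/-- The canonical morphism to the relative normalization is quasi-compact. -/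
theorem isQuasiCompactMor_toNormalization {X Y Y' : Sp S} (hX : IsAlgSpace X)
    (hY : IsAlgSpace Y) (hY' : IsAlgSpace Y') (f : X ⟶ Y) (hqc : IsQuasiCompactMor f)
    (ν : Y' ⟶ Y) (f' : X ⟶ Y') (hn : IsRelNormalization f ν f') : IsQuasiCompactMor f' := by
  have hνqs : IsQuasiSeparatedMor ν :=
    isQuasiSeparatedMor_of_isSeparatedMor
      (isSeparatedMor_of_isAffineMor hY'.diag ν (CartFun.isAffineMor_of_isIntegralMor hn.2.1))
  refine isQuasiCompactMor_of_comp hX hY' (repDiag_of_isAlgSpace hY) f' ν ?_ hνqs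
  rw [hn.1]
  exact hqc

set_option backward.isDefEq.respectTransparency.types false in
/-- A quasi-finite separated quasi-compact morphism of algebraic spaces is quasi-affine. -/
theorem isQuasiAffineMor_of_quasiFinite_separated {X Y Y' : Sp S} (f : X ⟶ Y)
    (hqc : IsQuasiCompactMor f) (ν : Y' ⟶ Y) (f' : X ⟶ Y') (hn : IsRelNormalization f ν f')
    (hoi : RepWith @IsOpenImmersion f') : IsQuasiAffineMor f := by
  intro Z hZ g
  obtain ⟨NZ, i, fstN, sqN, hNZ, -⟩ := hn.2.1 hZ g
  have sqW := hoi.rep.isPullback fstN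
  have hj : IsOpenImmersion (hoi.rep.snd fstN).left := hoi.property_snd fstN
  have big : IsPullback (hoi.rep.fst fstN) ((yon S).map (hoi.rep.snd fstN ≫ i)) f g := by
    have := sqW.paste_vert sqN
    rw [hn.1, ← Functor.map_comp] at this
    exact this
  refine ⟨_, hoi.rep.snd fstN ≫ i, hoi.rep.fst fstN, big, ?_⟩
  have : IsAffine Z.left := hZ
  have : IsAffine NZ.left := hNZ
  have : CompactSpace ↥(hoi.rep.pullback fstN).left :=
    (isQuasiCompactSp_yon_iff _).1
      (hqc (IsAlgSpace.yon_obj Z) ((isQuasiCompactSp_yon_iff _).2 inferInstance) g _ _ big)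
  exact Scheme.IsQuasiAffine.of_isImmersion (hoi.rep.snd fstN).left

end Groth.Agent.Lib.Helper14.AS
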