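import Groth.Agent.Lib.Helper14.ColimSp2
import Groth.Agent.Lib.Helper14.FamDesc
import Groth.Agent.Lib.Helper14.AlgSpSep
import Groth.Agent.Lib.Helper14.AlgSpFibre
import Groth.Agent.Lib.Helper14.AlgSpRepTo
import Groth.Agent.Lib.Helper14.AlgSpImm
import Groth.Agent.Lib.Helper14.Norm9
import Groth.Agent.Lib.Helper14.FpqcBase4
import Groth.Agent.Lib.Helper24.AlgStProps3

universe u v w

open CategoryTheory Limits AlgebraicGeometry Opposite

namespace Groth.Agent.Lib.Helper14.AS

open AlgSp

variable {S : Scheme.{u}}

/-- A base change of a chart from a separated scheme is separated. -/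
theorem isSeparated_of_isPullback_yon {F : Sp S} {T W V : Over S} {t : (yon S).obj T ⟶ F}
    {g : (yon S).obj W ⟶ F} {β : V ⟶ T} {α : V ⟶ W}
    (sq : IsPullback ((yon S).map β) ((yon S).map α) t g) (hT : IsSeparated T.hom) :
    IsSeparated α.left := by
  let m : V.left ⟶ pullback W.hom T.hom :=
    pullback.lift α.left β.left (by rw [Over.w, Over.w])
  have hm : Mono m := by
    constructor
    intro X a b hab
    have h1 : a ≫ α.left = b ≫ α.left := by
      have := congrArg (fun k => k ≫ pullback.fst _ _) hab
      rw [Category.assoc, Category.assoc, pullback.lift_fst] at this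
      exact this
    have h2 : a ≫ β.left = b ≫ β.left := by
      have := congrArg (fun k => k ≫ pullback.snd _ _) hab
      rw [Category.assoc, Category.assoc, pullback.lift_snd] at this
      exact this
    have h3 : a ≫ V.hom = b ≫ V.hom := by
      rw [← Over.w α, ← Category.assoc, h1, Category.assoc]
    let a' : Over.mk (a ≫ V.hom) ⟶ V := Over.homMk a rfl
    let b' : Over.mk (a ≫ V.hom) ⟶ V := Over.homMk b h3.symm
    have : a' = b' := by
      apply (yon S).map_injective
      apply sq.hom_ext
      · rw [← Functor.map_comp, ← Functor.map_comp]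
        congr 1
        apply Over.OverMorphism.ext
        exact h2
      · rw [← Functor.map_comp, ← Functor.map_comp]
        congr 1
        apply Over.OverMorphism.ext
        exact h1
    exact congrArg (fun k => k.left) this
  have e : α.left = m ≫ pullback.fst _ _ := (pullback.lift_fst _ _ _).symm
  rw [e]
  infer_instance

set_option backward.isDefEq.respectTransparency.types false in
/-- A chart from a scheme separated over `S` to an algebraic space is separated. -/
theorem isSeparatedMor_of_isSeparated_chart {F : Sp S} (hF : IsAlgSpace F) {T : Over S}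
    (t : (yon S).obj T ⟶ F) (hT : IsSeparated T.hom) : IsSeparatedMor t := by
  have hrep : Representable t := hF.representable_from_yon t
  refine (isSeparatedMor_iff_of_representable (IsAlgSpace.yon_obj T) hrep).1.2
    ⟨hrep, fun W V g fst snd sq => ?_⟩
  obtain ⟨β, rfl⟩ := (yon S).map_surjective fst
  exact isSeparated_of_isPullback_yon sq hT

section Wrap

variable {B : Space S} {P : ObjectProperty (Over B)}

/-- The underlying sheaf. -/
abbrev sp (T : P.FullSubcategory) : Sp S := T.obj.left.obj

/-- The structure morphism. -/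
abbrev str (T : P.FullSubcategory) : sp T ⟶ B.obj := T.obj.hom.hom

/-- The underlying morphism of sheaves. -/
abbrev mor {T T' : P.FullSubcategory} (f : T ⟶ T') : sp T ⟶ sp T' := f.hom.left.hom

theorem mor_str {T T' : P.FullSubcategory} (f : T ⟶ T') : mor f ≫ str T' = str T :=
  congrArg (fun k => k.hom) (Over.w f.hom)

theorem mor_ext {T T' : P.FullSubcategory} {f g : T ⟶ T'} (h : mor f = mor g) : f = g := by
  apply InducedCategory.hom_ext
  apply Over.OverMorphism.ext
  apply InducedCategory.hom_ext
  exact h

variable (hP : ∀ T : Over B, P T ↔ IsSeparatedMor T.hom.hom)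

/-- Objects from sheaves. -/
def mkObj (F : Sp S) (hF : IsAlgSpace F) (π : F ⟶ B.obj) (hπ : IsSeparatedMor π) :
    P.FullSubcategory :=
  ⟨Over.mk (ObjectProperty.homMk π : (⟨F, hF⟩ : Space S) ⟶ B), (hP _).2 hπ⟩

/-- Morphisms from morphisms of sheaves. -/
def mkHom {T T' : P.FullSubcategory} (φ : sp T ⟶ sp T') (h : φ ≫ str T' = str T) : T ⟶ T' :=
  ObjectProperty.homMk (Over.homMk (ObjectProperty.homMk φ) (by
    apply InducedCategory.hom_ext
    exact h))

@[simp] theorem mor_mkHom {T T' : P.FullSubcategory} (φ : sp T ⟶ sp T')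
    (h : φ ≫ str T' = str T) : mor (mkHom φ h) = φ := rfl

theorem mor_comp {T T' T'' : P.FullSubcategory} (f : T ⟶ T') (g : T' ⟶ T'') :
    mor (f ≫ g) = mor f ≫ mor g := rfl

theorem mor_id (T : P.FullSubcategory) : mor (𝟙 T) = 𝟙 (sp T) := rfl

end Wrap

end Groth.Agent.Lib.Helper14.AS
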