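import Groth.Agent.Lib.Helper14.ColimSp3

universe u v w

open CategoryTheory Limits AlgebraicGeometry Opposite

namespace Groth.Agent.Lib.Helper14.AS

open AlgSp

variable {S : Scheme.{u}} {I : Type v} [Category.{w} I]
variable {B : Space S} {P : ObjectProperty (Over B)}
  (hP : ∀ T : Over B, P T ↔ IsSeparatedMor T.hom.hom)

section PB

variable (D : I ⥤ P.FullSubcategory) {Z : Sp S} (hZ : IsAlgSpace Z)
  (f : ∀ i, sp (D.obj i) ⟶ Z)
  (hf : ∀ ⦃i j : I⦄ (a : i ⟶ j), mor (D.map a) ≫ f j = f i)
  {G : Sp S} (hG : IsAlgSpace G) (t : G ⟶ Z) (hts : IsSeparatedMor t)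

include hZ hG in
theorem spbD_isAlgSpace (i : I) : IsAlgSpace (pullback (f i) t) :=
  isAlgSpace_of_isPullback (repDiag_of_isAlgSpace hZ) (D.obj i).obj.left.property hG
    (IsPullback.of_hasPullback (f i) t)

include hts in
theorem spbD_fst_sep (i : I) : IsSeparatedMor (pullback.fst (f i) t) :=
  isSeparatedMor_of_isPullback (IsPullback.of_hasPullback (f i) t).flip hts

include hZ hG hts hP in
theorem spbD_sep (i : I) : IsSeparatedMor (pullback.fst (f i) t ≫ str (D.obj i)) :=
  Groth.Agent.Lib.Helper24.AlgStProps.stableComp_isSeparatedMor (spbD_isAlgSpace D hZ f hG t i)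
    (D.obj i).obj.left.property B.property _ _ (spbD_fst_sep D f t hts i)
    ((hP _).1 (D.obj i).property)

include hf in
theorem spbMap_cond {i j : I} (a : i ⟶ j) :
    (pullback.fst (f i) t ≫ mor (D.map a)) ≫ f j = pullback.snd (f i) t ≫ t := by
  rw [Category.assoc, hf a, pullback.condition]

/-- The transition maps of the base-changed diagram. -/
noncomputable def spbMap {i j : I} (a : i ⟶ j) : pullback (f i) t ⟶ pullback (f j) t :=
  pullback.lift (pullback.fst (f i) t ≫ mor (D.map a)) (pullback.snd (f i) t)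
    (spbMap_cond D f hf t a)

theorem spbMap_fst {i j : I} (a : i ⟶ j) :
    spbMap D f hf t a ≫ pullback.fst (f j) t = pullback.fst (f i) t ≫ mor (D.map a) :=
  pullback.lift_fst _ _ _

theorem spbMap_snd {i j : I} (a : i ⟶ j) :
    spbMap D f hf t a ≫ pullback.snd (f j) t = pullback.snd (f i) t :=
  pullback.lift_snd _ _ _

theorem spbMap_id (i : I) : spbMap D f hf t (𝟙 i) = 𝟙 _ := by
  apply pullback.hom_ext
  · rw [spbMap_fst, Category.id_comp, D.map_id]
    exact Category.comp_id _
  · rw [spbMap_snd, Category.id_comp]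

theorem spbMap_comp {i j k : I} (a : i ⟶ j) (b : j ⟶ k) :
    spbMap D f hf t (a ≫ b) = spbMap D f hf t a ≫ spbMap D f hf t b := by
  apply pullback.hom_ext
  · rw [spbMap_fst, Category.assoc, spbMap_fst, ← Category.assoc, spbMap_fst, Category.assoc,
      D.map_comp]
    rfl
  · rw [spbMap_snd, Category.assoc, spbMap_snd, spbMap_snd]

/-- The objects of the base-changed diagram. -/
noncomputable def spbObj (i : I) : P.FullSubcategory :=
  mkObj hP (pullback (f i) t) (spbD_isAlgSpace D hZ f hG t i)
    (pullback.fst (f i) t ≫ str (D.obj i)) (spbD_sep hP D hZ f hG t hts i)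

/-- The base change of a diagram of separated spaces over `B` along a separated morphism. -/
noncomputable def spbD : I ⥤ P.FullSubcategory where
  obj i := spbObj hP D hZ f hG t hts i
  map {i j} a := mkHom (T := spbObj hP D hZ f hG t hts i) (T' := spbObj hP D hZ f hG t hts j)
    (spbMap D f hf t a) (by
      change spbMap D f hf t a ≫ pullback.fst (f j) t ≫ str (D.obj j) =
        pullback.fst (f i) t ≫ str (D.obj i)
      rw [← Category.assoc, spbMap_fst, Category.assoc, mor_str])
  map_id i := by
    apply mor_ext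
    exact spbMap_id D f hf t i
  map_comp {i j k} a b := by
    apply mor_ext
    exact spbMap_comp D f hf t a b

/-- The projection to the original diagram. -/
noncomputable def spbα : spbD hP D hZ f hf hG t hts ⟶ D where
  app i := mkHom (T := spbObj hP D hZ f hG t hts i) (pullback.fst (f i) t) rfl
  naturality {i j} a := by
    apply mor_ext
    exact spbMap_fst D f hf t a

theorem mor_spbα (i : I) : mor ((spbα hP D hZ f hf hG t hts).app i) = pullback.fst (f i) t := rfl

theorem mor_spbD_map {i j : I} (a : i ⟶ j) :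
    mor ((spbD hP D hZ f hf hG t hts).map a) = spbMap D f hf t a := rfl

theorem spbα_equifibered {i j : I} (a : i ⟶ j) :
    IsPullback (spbMap D f hf t a) (pullback.fst (f i) t) (pullback.fst (f j) t)
      (mor (D.map a)) := by
  have big : IsPullback (spbMap D f hf t a ≫ pullback.snd (f j) t) (pullback.fst (f i) t) t
      (mor (D.map a) ≫ f j) := by
    rw [hf a, spbMap_snd]
    exact (IsPullback.of_hasPullback (f i) t).flip
  exact IsPullback.of_right big (spbMap_fst D f hf t a) (IsPullback.of_hasPullback (f j) t).flip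

include hZ hG in
theorem spbD_fst_etale (hte : IsEtaleMor t) (i : I) : IsEtaleMor (pullback.fst (f i) t) :=
  isEtaleMor_of_isPullback hG hZ (D.obj i).obj.left.property
    (IsPullback.of_hasPullback (f i) t).flip hte

end PB

include hP in
/-- Morphisms from a colimit of separated spaces over `B` to an algebraic space are determined
by their restrictions to the members of the diagram. -/
theorem hom_ext_of_isColimit_sep {D : I ⥤ P.FullSubcategory} {c : Cocone D} (h₂ : IsColimit c)
    {Z : Sp S} (hZ : IsAlgSpace Z) (γ γ' : sp c.pt ⟶ Z)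
    (h : ∀ i, mor (c.ι.app i) ≫ γ = mor (c.ι.app i) ≫ γ') : γ = γ' := by
  have sq := isPullback_equalizer_prod γ γ'
  have hrep : Representable (equalizer.ι γ γ') :=
    MorphismProperty.of_isPullback (P := Representable) sq.flip hZ.diag
  have hE : IsAlgSpace (equalizer γ γ') :=
    isAlgSpace_of_representable_to c.pt.obj.left.property _ hrep
  have hιsep : IsSeparatedMor (equalizer.ι γ γ') := isSeparatedMor_of_mono _
  have hEsep : IsSeparatedMor (equalizer.ι γ γ' ≫ str c.pt) :=
    Groth.Agent.Lib.Helper24.AlgStProps.stableComp_isSeparatedMor hE c.pt.obj.left.property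
      B.property _ _ hιsep ((hP _).1 c.pt.property)
  let E : P.FullSubcategory := mkObj hP (equalizer γ γ') hE (equalizer.ι γ γ' ≫ str c.pt) hEsep
  let ιE : E ⟶ c.pt := mkHom (T := E) (equalizer.ι γ γ') rfl
  let ℓ : ∀ i, D.obj i ⟶ E := fun i => mkHom (T' := E) (equalizer.lift (mor (c.ι.app i)) (h i)) (by
    change equalizer.lift _ _ ≫ equalizer.ι γ γ' ≫ str c.pt = str (D.obj i)
    rw [← Category.assoc, equalizer.lift_ι, mor_str])
  have hℓι : ∀ i, ℓ i ≫ ιE = c.ι.app i := fun i => mor_ext (equalizer.lift_ι _ _)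
  let s : Cocone D :=
    { pt := E
      ι := { app := ℓ
             naturality := fun i j u => by
               apply mor_ext
               apply equalizer.hom_ext
               change (mor (D.map u) ≫ equalizer.lift _ _) ≫ equalizer.ι γ γ' =
                 (equalizer.lift _ _ ≫ 𝟙 _) ≫ equalizer.ι γ γ'
               rw [Category.assoc, equalizer.lift_ι, Category.comp_id, equalizer.lift_ι]
               exact congrArg mor (c.w u) } }
  let σ := h₂.desc s
  have hσ : ∀ i, c.ι.app i ≫ σ = ℓ i := h₂.fac s
  have hσι : σ ≫ ιE = 𝟙 c.pt := h₂.hom_ext (fun i => by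
    rw [← Category.assoc, hσ, hℓι, Category.comp_id])
  let σ₀ : sp c.pt ⟶ equalizer γ γ' := mor σ
  have e : σ₀ ≫ equalizer.ι γ γ' = 𝟙 _ := congrArg mor hσι
  have e2 : σ₀ ≫ equalizer.ι γ γ' ≫ γ = σ₀ ≫ equalizer.ι γ γ' ≫ γ' := by
    rw [equalizer.condition]
  rw [← Category.assoc, ← Category.assoc, e, Category.id_comp, Category.id_comp] at e2
  exact e2

end Groth.Agent.Lib.Helper14.AS
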