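import Groth.Agent.Lib.Helper14.ColimSp4

universe u v w

open CategoryTheory Limits AlgebraicGeometry Opposite

namespace Groth.Agent.Lib.Helper14.AS

open AlgSp

variable {S : Scheme.{u}} {I : Type v} [Category.{w} I]

set_option backward.isDefEq.respectTransparency.types false in
/-- Local lifting of a scheme point of the target of an etale morphism of algebraic spaces at a
point in the image. -/
theorem exists_etale_lift_at_point {V C : Sp S} (hV : IsAlgSpace V) (hC : IsAlgSpace C)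
    {a : V ⟶ C} (ha : IsEtaleMor a) {T : Over S} (w : (yon S).obj T ⟶ C) (τ : T.left)
    (v : Points V) (hv : Points.map a v = Points.ofPt w τ) :
    ∃ (U : Over S) (e : U ⟶ T) (x : (yon S).obj U ⟶ V), Etale e.left ∧ τ ∈ Set.range e.left ∧
      x ≫ a = (yon S).map e ≫ w := by
  have hQ : IsAlgSpace (pullback a w) :=
    isAlgSpace_of_isPullback (repDiag_of_isAlgSpace hC) hV (IsAlgSpace.yon_obj T)
      (IsPullback.of_hasPullback a w)
  have hsnd : IsEtaleMor (pullback.snd a w) :=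
    isEtaleMor_of_isPullback hV hC (IsAlgSpace.yon_obj T) (IsPullback.of_hasPullback a w) ha
  obtain ⟨q, hq1, hq2⟩ := points_exists_of_isPullback (IsPullback.of_hasPullback a w) v
    (Points.ofScheme T τ) (hv.trans (Points.ofPt_eq_map_ofScheme w τ))
  obtain ⟨U, p, hpe, hps⟩ := hQ.atlas
  obtain ⟨u, hu⟩ := ofPt_surjective_of_repWith hps q
  have het : RepWith @Etale (p ≫ pullback.snd a w) := hsnd p hpe
  obtain ⟨e, he⟩ := (yon S).map_surjective (p ≫ pullback.snd a w)
  have hee : Etale e.left := by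
    rw [← he] at het
    exact (repWith_yon_map_iff _ _).1 het
  have heu : e.left u = τ := by
    have h1 : Points.ofPt (p ≫ pullback.snd a w) u = Points.ofScheme T τ := by
      rw [← Points.map_ofPt, hu, hq2]
    rw [← he] at h1
    have h2 : Points.ofPt ((yon S).map e) u = Points.ofScheme T (e.left u) := by
      have := ofPt_yon_map_comp e (𝟙 _) u
      rw [Category.comp_id] at this
      exact this
    rw [h2] at h1
    exact (Points.schemeHomeo T).injective h1
  refine ⟨U, e, p ≫ pullback.fst a w, hee, ⟨u, heu⟩, ?_⟩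
  rw [Category.assoc, pullback.condition, ← Category.assoc, ← he]

variable {B : Space S} {P : ObjectProperty (Over B)}
  (hP : ∀ T : Over B, P T ↔ IsSeparatedMor T.hom.hom)

section

variable (D : I ⥤ P.FullSubcategory) (c : Cocone D) {Z : Sp S} (hZ : IsAlgSpace Z)
  (f : ∀ i, sp (D.obj i) ⟶ Z)
  (hf : ∀ ⦃i j : I⦄ (a : i ⟶ j), mor (D.map a) ≫ f j = f i)

/-- The compatibility property of a local descent of the cocone `f` on a chart of `c.pt`. -/
def IsLocDesc' {V : Sp S} (q : V ⟶ sp c.pt) (g : V ⟶ Z) : Prop :=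
  ∀ ⦃A : Sp S⦄ (x : A ⟶ V) ⦃i : I⦄ (z : A ⟶ sp (D.obj i)), x ≫ q = z ≫ mor (c.ι.app i) →
    x ≫ g = z ≫ f i

/-- Lemma A': the local descent over a chart. -/
theorem exists_isLocDesc' (πZ : Z ⟶ B.obj) (hfB : ∀ i, f i ≫ πZ = str (D.obj i))
    {T : Over S} (t : (yon S).obj T ⟶ Z) (hT : IsSeparated T.hom) (hts : IsSeparatedMor t)
    (c' : Cocone (spbD hP D hZ f hf (IsAlgSpace.yon_obj T) t hts)) (a : c'.pt ⟶ c.pt)
    (hsq : ∀ i, IsPullback (mor (c'.ι.app i)) (pullback.fst (f i) t) (mor a) (mor (c.ι.app i)))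
    (hcol : IsColimit c') :
    ∃ g : sp c'.pt ⟶ Z, IsLocDesc' D c f (mor a) g := by
  have hTB : IsSeparatedMor (t ≫ πZ) := isSeparatedMor_of_isSeparated_chart B.property _ hT
  let Tt : P.FullSubcategory := mkObj hP ((yon S).obj T) (IsAlgSpace.yon_obj T) (t ≫ πZ) hTB
  let s : Cocone (spbD hP D hZ f hf (IsAlgSpace.yon_obj T) t hts) :=
    { pt := Tt
      ι := { app := fun i => mkHom (T := spbObj hP D hZ f (IsAlgSpace.yon_obj T) t hts i)
               (T' := Tt) (pullback.snd (f i) t) (by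
                 change pullback.snd (f i) t ≫ t ≫ πZ = pullback.fst (f i) t ≫ str (D.obj i)
                 rw [← Category.assoc, ← pullback.condition, Category.assoc, hfB])
             naturality := fun i j u => by
               apply mor_ext
               change spbMap D f hf t u ≫ pullback.snd (f j) t = pullback.snd (f i) t ≫ 𝟙 _
               rw [spbMap_snd, Category.comp_id] } }
  let b := hcol.desc s
  have hb : ∀ i, mor (c'.ι.app i) ≫ mor b = pullback.snd (f i) t := fun i =>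
    congrArg mor (hcol.fac s i)
  let b₀ : sp c'.pt ⟶ (yon S).obj T := mor b
  refine ⟨b₀ ≫ t, ?_⟩
  intro A x i z hxz
  let ci : pullback (f i) t ⟶ sp c'.pt := mor (c'.ι.app i)
  have hsq' : IsPullback ci (pullback.fst (f i) t) (mor a) (mor (c.ι.app i)) := hsq i
  let r : A ⟶ pullback (f i) t := hsq'.lift x z hxz
  have hr1 : r ≫ ci = x := hsq'.lift_fst _ _ _
  have hr2 : r ≫ pullback.fst (f i) t = z := hsq'.lift_snd _ _ _
  have hb' : ci ≫ b₀ = pullback.snd (f i) t := hb i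
  calc x ≫ b₀ ≫ t = (r ≫ ci) ≫ b₀ ≫ t := by rw [hr1]
    _ = r ≫ (ci ≫ b₀) ≫ t := by simp only [Category.assoc]
    _ = r ≫ pullback.snd (f i) t ≫ t := by rw [hb']
    _ = (r ≫ pullback.fst (f i) t) ≫ f i := by rw [← pullback.condition, Category.assoc]
    _ = z ≫ f i := by rw [hr2]

include hP hZ in
/-- Lemma B': two local descents agree on overlaps. -/
theorem compat_of_isLocDesc'
    (h₄ : ∀ (D' : I ⥤ P.FullSubcategory) (α : D' ⟶ D) (c' : Cocone D') (a : c'.pt ⟶ c.pt),
      IsEtaleMor (mor a) → IsSeparatedMor (mor a) →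
      (∀ i, IsPullback (mor (c'.ι.app i)) (mor (α.app i)) (mor a) (mor (c.ι.app i))) →
        Nonempty (IsColimit c'))
    {V₁ V₂ : P.FullSubcategory} (a₁ : V₁ ⟶ c.pt) (a₂ : V₂ ⟶ c.pt)
    (he₁ : IsEtaleMor (mor a₁)) (hs₁ : IsSeparatedMor (mor a₁))
    (he₂ : IsEtaleMor (mor a₂)) (hs₂ : IsSeparatedMor (mor a₂))
    {g₁ : sp V₁ ⟶ Z} {g₂ : sp V₂ ⟶ Z} (h1 : IsLocDesc' D c f (mor a₁) g₁)
    (h2 : IsLocDesc' D c f (mor a₂) g₂) {A : Sp S} (m : A ⟶ sp V₁) (n : A ⟶ sp V₂)
    (hmn : m ≫ mor a₁ = n ≫ mor a₂) : m ≫ g₁ = n ≫ g₂ := by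
  have hC : IsAlgSpace (sp c.pt) := c.pt.obj.left.property
  have hV₁ : IsAlgSpace (sp V₁) := V₁.obj.left.property
  have hV₂ : IsAlgSpace (sp V₂) := V₂.obj.left.property
  let p1 : pullback (mor a₁) (mor a₂) ⟶ sp V₁ := pullback.fst (mor a₁) (mor a₂)
  let p2 : pullback (mor a₁) (mor a₂) ⟶ sp V₂ := pullback.snd (mor a₁) (mor a₂)
  have sqW := IsPullback.of_hasPullback (mor a₁) (mor a₂)
  have hW : IsAlgSpace (pullback (mor a₁) (mor a₂)) :=
    isAlgSpace_of_isPullback (repDiag_of_isAlgSpace hC) hV₁ hV₂ sqW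
  have hp1e : IsEtaleMor p1 := isEtaleMor_of_isPullback hV₂ hC hV₁ sqW.flip he₂
  have hp1s : IsSeparatedMor p1 := isSeparatedMor_of_isPullback sqW.flip hs₂
  have hqe : IsEtaleMor (p1 ≫ mor a₁) := isEtaleMor_comp hp1e he₁
  have hqs : IsSeparatedMor (p1 ≫ mor a₁) :=
    Groth.Agent.Lib.Helper24.AlgStProps.stableComp_isSeparatedMor hW hV₁ hC _ _ hp1s hs₁
  let F : ∀ i, sp (D.obj i) ⟶ sp c.pt := fun i => mor (c.ι.app i)
  have hF : ∀ ⦃i j : I⦄ (u : i ⟶ j), mor (D.map u) ≫ F j = F i := fun i j u =>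
    congrArg mor (c.w u)
  have hWB : IsSeparatedMor ((p1 ≫ mor a₁) ≫ str c.pt) :=
    Groth.Agent.Lib.Helper24.AlgStProps.stableComp_isSeparatedMor hW hC B.property _ _ hqs
      ((hP _).1 c.pt.property)
  let Wt : P.FullSubcategory := mkObj hP (pullback (mor a₁) (mor a₂)) hW
    ((p1 ≫ mor a₁) ≫ str c.pt) hWB
  let c'' : Cocone (spbD hP D hC F hF hW (p1 ≫ mor a₁) hqs) :=
    { pt := Wt
      ι := { app := fun i => mkHom (T := spbObj hP D hC F hW (p1 ≫ mor a₁) hqs i) (T' := Wt)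
               (pullback.snd (F i) (p1 ≫ mor a₁)) (by
                 change pullback.snd (F i) (p1 ≫ mor a₁) ≫ (p1 ≫ mor a₁) ≫ str c.pt =
                   pullback.fst (F i) (p1 ≫ mor a₁) ≫ str (D.obj i)
                 rw [← Category.assoc, ← pullback.condition, Category.assoc]
                 congr 1
                 exact mor_str (c.ι.app i))
             naturality := fun i j u => by
               apply mor_ext
               change spbMap D F hF (p1 ≫ mor a₁) u ≫ pullback.snd (F j) (p1 ≫ mor a₁) =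
                 pullback.snd (F i) (p1 ≫ mor a₁) ≫ 𝟙 _
               rw [spbMap_snd, Category.comp_id] } }
  let a'' : c''.pt ⟶ c.pt := mkHom (T := Wt) (p1 ≫ mor a₁) rfl
  have hsq'' : ∀ i, IsPullback (mor (c''.ι.app i))
      (mor ((spbα hP D hC F hF hW (p1 ≫ mor a₁) hqs).app i)) (mor a'') (mor (c.ι.app i)) :=
    fun i => (IsPullback.of_hasPullback (F i) (p1 ≫ mor a₁)).flip
  obtain ⟨hcol''⟩ := h₄ _ (spbα hP D hC F hF hW (p1 ≫ mor a₁) hqs) c'' a'' hqe hqs hsq''
  have key : p1 ≫ g₁ = p2 ≫ g₂ := by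
    refine hom_ext_of_isColimit_sep hP hcol'' hZ (p1 ≫ g₁) (p2 ≫ g₂) (fun i => ?_)
    let si : pullback (F i) (p1 ≫ mor a₁) ⟶ pullback (mor a₁) (mor a₂) :=
      pullback.snd (F i) (p1 ≫ mor a₁)
    have e1 : (si ≫ p1) ≫ mor a₁ = pullback.fst (F i) (p1 ≫ mor a₁) ≫ mor (c.ι.app i) := by
      rw [Category.assoc]
      exact pullback.condition.symm
    have e2 : (si ≫ p2) ≫ mor a₂ = pullback.fst (F i) (p1 ≫ mor a₁) ≫ mor (c.ι.app i) := by
      rw [Category.assoc, ← pullback.condition (f := mor a₁) (g := mor a₂)]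
      exact pullback.condition.symm
    have l1 := h1 _ _ e1
    have l2 := h2 _ _ e2
    change si ≫ p1 ≫ g₁ = si ≫ p2 ≫ g₂
    rw [← Category.assoc, l1, ← Category.assoc, l2]
  let l : A ⟶ pullback (mor a₁) (mor a₂) := pullback.lift m n hmn
  have hl1 : l ≫ p1 = m := pullback.lift_fst _ _ _
  have hl2 : l ≫ p2 = n := pullback.lift_snd _ _ _
  rw [← hl1, ← hl2, Category.assoc, Category.assoc, key]

end

end Groth.Agent.Lib.Helper14.AS
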