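import Groth.Agent.Lib.Helper14.ColimSp5
import Groth.Agent.Lib.Helper14.Norm5c

universe u v w w'

open CategoryTheory Limits AlgebraicGeometry Opposite

namespace Groth.Agent.Lib.Helper14.AS

open AlgSp

variable {S : Scheme.{u}} {I : Type v} [Category.{w} I]

/-- A family of etale morphisms of algebraic spaces which is jointly surjective on points is
jointly locally surjective. -/
theorem fjls_of_isEtaleMor_of_points {ι : Type w'} {V : ι → Sp S} {C : Sp S}
    (hV : ∀ y, IsAlgSpace (V y)) (hC : IsAlgSpace C) (q : ∀ y, V y ⟶ C)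
    (hq : ∀ y, IsEtaleMor (q y))
    (hsurj : ∀ x : Points C, ∃ (y : ι) (v : Points (V y)), Points.map (q y) v = x) : FJLS q := by
  intro T₀ w
  let Sv : Sieve T₀ :=
    { arrows := fun T' e => ∃ (y : ι) (x : (yon S).obj T' ⟶ V y), x ≫ q y = (yon S).map e ≫ w
      downward_closed := by
        rintro T' T'' e ⟨y, x, hx⟩ s
        exact ⟨y, (yon S).map s ≫ x, by
          rw [Category.assoc, hx, Functor.map_comp, Category.assoc]⟩ }
  refine ⟨Sv, mem_J_of_pointwise Sv (fun τ => ?_), fun T' e he => he⟩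
  obtain ⟨y, v, hv⟩ := hsurj (Points.ofPt w τ)
  obtain ⟨U, e, x, hee, hτ, hx⟩ := exists_etale_lift_at_point (hV y) hC (hq y) w τ v hv
  exact ⟨U, e, inferInstance, inferInstance, hτ, y, x, hx⟩

variable {B : Space S} {P : ObjectProperty (Over B)}
  (hP : ∀ T : Over B, P T ↔ IsSeparatedMor T.hom.hom)

include hP in
set_option backward.isDefEq.respectTransparency.types false in
/-- Existence of the descended morphism. -/
theorem exists_desc_sep (D : I ⥤ P.FullSubcategory) (c : Cocone D)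
    (h₃ : ∀ x : Points (sp c.pt), ∃ (i : I) (y : Points (sp (D.obj i))),
      Points.map (mor (c.ι.app i)) y = x)
    (h₄ : ∀ (D' : I ⥤ P.FullSubcategory) (α : D' ⟶ D) (c' : Cocone D') (a : c'.pt ⟶ c.pt),
      IsEtaleMor (mor a) → IsSeparatedMor (mor a) →
      (∀ i, IsPullback (mor (c'.ι.app i)) (mor (α.app i)) (mor a) (mor (c.ι.app i))) →
        Nonempty (IsColimit c'))
    (h₅ : ∀ (D' : I ⥤ P.FullSubcategory) (α : D' ⟶ D),
      (∀ ⦃i j : I⦄ (g : i ⟶ j), IsPullback (mor (D'.map g)) (mor (α.app i)) (mor (α.app j))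
        (mor (D.map g))) →
      (∀ i, IsEtaleMor (mor (α.app i))) → (∀ i, IsSeparatedMor (mor (α.app i))) →
        ∃ (c' : Cocone D') (a : c'.pt ⟶ c.pt), IsEtaleMor (mor a) ∧ IsSeparatedMor (mor a) ∧
          ∀ i, IsPullback (mor (c'.ι.app i)) (mor (α.app i)) (mor a) (mor (c.ι.app i)))
    {Z : Sp S} (hZ : IsAlgSpace Z) (πZ : Z ⟶ B.obj) (f : ∀ i, sp (D.obj i) ⟶ Z)
    (hf : ∀ ⦃i j : I⦄ (a : i ⟶ j), mor (D.map a) ≫ f j = f i)
    (hfB : ∀ i, f i ≫ πZ = str (D.obj i)) :
    ∃ G : sp c.pt ⟶ Z, ∀ i, mor (c.ι.app i) ≫ G = f i := by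
  obtain ⟨Y₀, p, hpe, hps⟩ := hZ.atlas
  have haff : ∀ y : Y₀.left, ∃ V : Y₀.left.Opens, IsAffineOpen V ∧ y ∈ V := fun y => by
    obtain ⟨V, hV, hy, -⟩ := exists_isAffineOpen_mem_and_subset (x := y)
      (U := (⊤ : Y₀.left.Opens)) trivial
    exact ⟨V, hV, hy⟩
  choose V hV hyV using haff
  let T : Y₀.left → Over S := fun y => openSub Y₀ (V y)
  let t : ∀ y, (yon S).obj (T y) ⟶ Z := fun y => (yon S).map (openSubι Y₀ (V y)) ≫ p
  have hte : ∀ y, RepWith @Etale (t y) := fun y => repWith_etale_restrict hpe (V y)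
  have hTsep : ∀ y, IsSeparated (T y).hom := fun y => by
    have : IsAffine (T y).left := hV y
    infer_instance
  have hts : ∀ y, IsSeparatedMor (t y) := fun y =>
    isSeparatedMor_of_isSeparated_chart hZ (t y) (hTsep y)
  have hteM : ∀ y, IsEtaleMor (t y) := fun y => isEtaleMor_of_repWith_etale (hte y)
  have hTA : ∀ y, IsAlgSpace ((yon S).obj (T y)) := fun y => IsAlgSpace.yon_obj (T y)
  have H5 : ∀ y, ∃ (c' : Cocone (spbD hP D hZ f hf (hTA y) (t y) (hts y))) (a : c'.pt ⟶ c.pt),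
      IsEtaleMor (mor a) ∧ IsSeparatedMor (mor a) ∧
        ∀ i, IsPullback (mor (c'.ι.app i)) (mor ((spbα hP D hZ f hf (hTA y) (t y) (hts y)).app i))
          (mor a) (mor (c.ι.app i)) := fun y =>
    h₅ _ (spbα hP D hZ f hf (hTA y) (t y) (hts y))
      (fun i j g => spbα_equifibered D f hf (t y) g)
      (fun i => spbD_fst_etale D hZ f (hTA y) (t y) (hteM y) i)
      (fun i => spbD_fst_sep D f (t y) (hts y) i)
  choose c' a hae has hsq using H5
  have H4 : ∀ y, Nonempty (IsColimit (c' y)) := fun y =>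
    h₄ _ _ (c' y) (a y) (hae y) (has y) (hsq y)
  have HA : ∀ y, ∃ g : sp (c' y).pt ⟶ Z, IsLocDesc' D c f (mor (a y)) g := fun y => by
    obtain ⟨hcol⟩ := H4 y
    exact exists_isLocDesc' hP D c hZ f hf πZ hfB (t y) (hTsep y) (hts y) (c' y) (a y)
      (hsq y) hcol
  choose g hg using HA
  have hptsurj : ∀ (i : I) (d : Points (sp (D.obj i))), ∃ (y : Y₀.left)
      (d' : Points (pullback (f i) (t y))), Points.map (pullback.fst (f i) (t y)) d' = d := by
    intro i d
    obtain ⟨y₀, hy₀⟩ := ofPt_surjective_of_repWith hps (Points.map (f i) d)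
    have e0 : Points.map (f i) d =
        Points.map (t y₀) (Points.ofScheme (T y₀) (⟨y₀, hyV y₀⟩ : ↥(V y₀))) := by
      rw [← Points.ofPt_eq_map_ofScheme, ofPt_yon_map_comp]
      exact hy₀.symm
    obtain ⟨d', hd'1, -⟩ := points_exists_of_isPullback
      (IsPullback.of_hasPullback (f i) (t y₀)) d _ e0
    exact ⟨y₀, d', hd'1⟩
  have hFJ : FJLS (fun y => mor (a y)) := by
    refine fjls_of_isEtaleMor_of_points (fun y => (c' y).pt.obj.left.property)
      c.pt.obj.left.property _ hae (fun x => ?_)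
    obtain ⟨i, d, hd⟩ := h₃ x
    obtain ⟨y, d', hd'⟩ := hptsurj i d
    let ci : pullback (f i) (t y) ⟶ sp (c' y).pt := mor ((c' y).ι.app i)
    have hsq' : IsPullback ci (pullback.fst (f i) (t y)) (mor (a y)) (mor (c.ι.app i)) :=
      hsq y i
    refine ⟨y, Points.map ci d', ?_⟩
    rw [← Points.map_comp, hsq'.w, Points.map_comp, hd', hd]
  obtain ⟨G, hG⟩ := exists_desc_of_FJLS hFJ g (fun T₀ y y' x x' hxx =>
    compat_of_isLocDesc' hP D c hZ f h₄ (a y) (a y') (hae y) (has y) (hae y') (has y')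
      (hg y) (hg y') x x' hxx)
  refine ⟨G, fun i => ?_⟩
  have hFi : FJLS (fun y => pullback.fst (f i) (t y)) :=
    fjls_of_isEtaleMor_of_points
      (fun y => spbD_isAlgSpace D hZ f (hTA y) (t y) i) (D.obj i).obj.left.property _
      (fun y => spbD_fst_etale D hZ f (hTA y) (t y) (hteM y) i) (fun d => hptsurj i d)
  apply hFi.hom_ext
  intro y
  let ci : pullback (f i) (t y) ⟶ sp (c' y).pt := mor ((c' y).ι.app i)
  have hsq' : IsPullback ci (pullback.fst (f i) (t y)) (mor (a y)) (mor (c.ι.app i)) := hsq y i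
  have e1 : ci ≫ g y = pullback.fst (f i) (t y) ≫ f i := hg y ci _ hsq'.w
  change pullback.fst (f i) (t y) ≫ mor (c.ι.app i) ≫ G = pullback.fst (f i) (t y) ≫ f i
  rw [← Category.assoc, ← hsq'.w, Category.assoc, hG y, e1]

end Groth.Agent.Lib.Helper14.AS
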