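import Groth.Agent.Lib.Helper14.RLP2
universe w v₁ u₁ u
open CategoryTheory CategoryTheory.Limits Opposite
namespace Groth.Agent.Lib.Helper14.AS

section Sq
variable {C : Type u₁} [Category.{v₁} C] {F G : Cᵒᵖ ⥤ Type w} (a : F ⟶ G)
  {I : Type u} [SmallCategory I] (D : I ⥤ C) (c : Cone D)
  [HasColimit (D.op ⋙ F)] [HasColimit (D.op ⋙ G)]

theorem gmap_comp_apply (F : Cᵒᵖ ⥤ Type w) {A B C' : C} (f : A ⟶ B) (g : B ⟶ C')
    (t : F.obj (op C')) : F.map (f ≫ g).op t = F.map f.op (F.map g.op t) := by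
  rw [op_comp, Functor.map_comp_apply]

theorem gnat_apply {A B : C} (f : A ⟶ B)
    (t : F.obj (op B)) : a.app (op A) (F.map f.op t) = G.map f.op (a.app (op B) t) :=
  NatTrans.naturality_apply a f.op t

theorem gcolimMap_ι_apply (i : Iᵒᵖ) (x : F.obj (op (D.obj i.unop))) :
    colimMap (Functor.whiskerLeft D.op a) (colimit.ι (D.op ⋙ F) i x) =
      colimit.ι (D.op ⋙ G) i (a.app _ x) :=
  congrFun (congrArg (fun k => (ConcreteCategory.hom k : _ → _))
    (ι_colimMap (Functor.whiskerLeft D.op a) i)) x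

theorem gdesc_ι_apply (F : Cᵒᵖ ⥤ Type w) [HasColimit (D.op ⋙ F)] (i : Iᵒᵖ)
    (x : F.obj (op (D.obj i.unop))) :
    colimit.desc (D.op ⋙ F) (F.mapCocone c.op) (colimit.ι (D.op ⋙ F) i x) =
      F.map (c.π.app i.unop).op x :=
  congrFun (congrArg (fun k => (ConcreteCategory.hom k : _ → _))
    (colimit.ι_desc (F.mapCocone c.op) i)) x

theorem gsq_comm :
    colimMap (Functor.whiskerLeft D.op a) ≫ colimit.desc (D.op ⋙ G) (G.mapCocone c.op) =
      colimit.desc (D.op ⋙ F) (F.mapCocone c.op) ≫ a.app (op c.pt) := by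
  apply colimit.hom_ext
  intro i
  rw [ι_colimMap_assoc, colimit.ι_desc, colimit.ι_desc_assoc]
  exact (a.naturality (c.π.app i.unop).op).symm

theorem gι_map_apply (F : Cᵒᵖ ⥤ Type w) [HasColimit (D.op ⋙ F)] {i j : I} (φ : j ⟶ i)
    (x : F.obj (op (D.obj i))) :
    colimit.ι (D.op ⋙ F) (op j) (F.map (D.map φ).op x) = colimit.ι (D.op ⋙ F) (op i) x :=
  congrFun (congrArg (fun k => (ConcreteCategory.hom k : _ → _))
    (colimit.w (D.op ⋙ F) φ.op)) x

variable [IsCofiltered I]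

theorem gisPullback_of_E
    (E1 : ∀ (i : I) (y : G.obj (op (D.obj i))) (x : F.obj (op c.pt)),
        a.app _ x = G.map (c.π.app i).op y →
        ∃ (j : I) (φ : j ⟶ i) (xj : F.obj (op (D.obj j))),
          F.map (c.π.app j).op xj = x ∧ a.app _ xj = G.map (D.map φ).op y)
    (E2 : ∀ (i : I) (x x' : F.obj (op (D.obj i))), a.app _ x = a.app _ x' →
        F.map (c.π.app i).op x = F.map (c.π.app i).op x' →
        ∃ (j : I) (φ : j ⟶ i), F.map (D.map φ).op x = F.map (D.map φ).op x') :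
    IsPullback (colimMap (Functor.whiskerLeft D.op a)) (colimit.desc (D.op ⋙ F) (F.mapCocone c.op))
      (colimit.desc (D.op ⋙ G) (G.mapCocone c.op)) (a.app (op c.pt)) := by
  rw [Types.isPullback_iff]
  refine ⟨gsq_comm a D c, ?_, ?_⟩
  · rintro x₁ y₁ ⟨ht, hl⟩
    obtain ⟨i, x, x', rfl, rfl⟩ :=
      Types.FilteredColimit.jointly_surjective_of_isColimit₂ (colimit.isColimit (D.op ⋙ F)) x₁ y₁
    change colimMap (Functor.whiskerLeft D.op a) (colimit.ι (D.op ⋙ F) i x) =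
      colimMap (Functor.whiskerLeft D.op a) (colimit.ι (D.op ⋙ F) i x') at ht
    change colimit.desc (D.op ⋙ F) (F.mapCocone c.op) (colimit.ι (D.op ⋙ F) i x) =
      colimit.desc (D.op ⋙ F) (F.mapCocone c.op) (colimit.ι (D.op ⋙ F) i x') at hl
    change colimit.ι (D.op ⋙ F) i x = colimit.ι (D.op ⋙ F) i x'
    rw [gcolimMap_ι_apply, gcolimMap_ι_apply] at ht
    rw [gdesc_ι_apply, gdesc_ι_apply] at hl
    obtain ⟨k, f, hf⟩ := (Types.FilteredColimit.isColimit_eq_iff' (colimit.isColimit (D.op ⋙ G))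
      _ _).1 ht
    obtain ⟨i⟩ := i
    obtain ⟨k⟩ := k
    have hf' : G.map (D.map f.unop).op (a.app _ x) = G.map (D.map f.unop).op (a.app _ x') := hf
    rw [← gnat_apply, ← gnat_apply] at hf'
    have h2 : F.map (c.π.app k).op (F.map (D.map f.unop).op x) =
        F.map (c.π.app k).op (F.map (D.map f.unop).op x') := by
      rw [← gmap_comp_apply, ← gmap_comp_apply, Cone.w]
      exact hl
    obtain ⟨j, φ, hφ⟩ := E2 k _ _ hf' h2
    rw [← gι_map_apply D F f.unop x, ← gι_map_apply D F f.unop x', ← gι_map_apply D F φ,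
      ← gι_map_apply D F φ (F.map (D.map f.unop).op x'), hφ]
  · intro x₂ x₃ h
    obtain ⟨i, y, rfl⟩ := Types.jointly_surjective' x₂
    obtain ⟨i⟩ := i
    rw [gdesc_ι_apply] at h
    obtain ⟨j, φ, xj, h1, h2⟩ := E1 i y x₃ h.symm
    refine ⟨colimit.ι (D.op ⋙ F) (op j) xj, ?_, ?_⟩
    · rw [gcolimMap_ι_apply]
      exact (congrArg _ h2).trans (gι_map_apply D G φ y)
    · rw [gdesc_ι_apply]
      exact h1

theorem gE_of_isPullback
    (h : IsPullback (colimMap (Functor.whiskerLeft D.op a))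
      (colimit.desc (D.op ⋙ F) (F.mapCocone c.op))
      (colimit.desc (D.op ⋙ G) (G.mapCocone c.op)) (a.app (op c.pt))) :
    (∀ (i : I) (y : G.obj (op (D.obj i))) (x : F.obj (op c.pt)),
        a.app _ x = G.map (c.π.app i).op y →
        ∃ (j : I) (φ : j ⟶ i) (xj : F.obj (op (D.obj j))),
          F.map (c.π.app j).op xj = x ∧ a.app _ xj = G.map (D.map φ).op y) ∧
    (∀ (i : I) (x x' : F.obj (op (D.obj i))), a.app _ x = a.app _ x' →
        F.map (c.π.app i).op x = F.map (c.π.app i).op x' →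
        ∃ (j : I) (φ : j ⟶ i), F.map (D.map φ).op x = F.map (D.map φ).op x') := by
  rw [Types.isPullback_iff] at h
  obtain ⟨-, hinj, hex⟩ := h
  constructor
  · intro i y x hx
    obtain ⟨x₁, h1, h2⟩ := hex (colimit.ι (D.op ⋙ G) (op i) y) x (by
      rw [gdesc_ι_apply]
      exact hx.symm)
    obtain ⟨j, xj, rfl⟩ := Types.jointly_surjective' x₁
    obtain ⟨j⟩ := j
    rw [gcolimMap_ι_apply] at h1
    rw [gdesc_ι_apply] at h2
    obtain ⟨k, f, g, hfg⟩ := (Types.FilteredColimit.colimit_eq_iff (D.op ⋙ G)).1 h1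
    obtain ⟨k⟩ := k
    have hfg' : G.map (D.map f.unop).op (a.app _ xj) = G.map (D.map g.unop).op y := hfg
    refine ⟨k, g.unop, F.map (D.map f.unop).op xj, ?_, ?_⟩
    · rw [← gmap_comp_apply, Cone.w]
      exact h2
    · rw [gnat_apply]
      exact hfg'
  · intro i x x' hxx' hres
    have := hinj (colimit.ι (D.op ⋙ F) (op i) x) (colimit.ι (D.op ⋙ F) (op i) x') ⟨by
      rw [gcolimMap_ι_apply, gcolimMap_ι_apply]
      exact congrArg _ hxx', by
      rw [gdesc_ι_apply, gdesc_ι_apply]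
      exact hres⟩
    obtain ⟨k, f, hf⟩ := (Types.FilteredColimit.isColimit_eq_iff' (colimit.isColimit (D.op ⋙ F))
      _ _).1 this
    obtain ⟨k⟩ := k
    exact ⟨k, f.unop, hf⟩

end Sq

end Groth.Agent.Lib.Helper14.AS
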