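import Groth.Agent.Lib.Helper14.SchImg7
import Groth.Agent.Lib.Helper14.AlgSpProper
import Groth.Agent.Lib.Helper14.AlgSpSepDescent

/-!
# The scheme theoretic image of a proper space (helper14)
-/

universe u
open CategoryTheory CategoryTheory.Limits AlgebraicGeometry Opposite Topology

namespace Groth.Agent.Lib.Helper14.AS

open AlgSp Groth.Agent.Lib.Helper14.AS

variable {S : Scheme.{u}}

set_option backward.isDefEq.respectTransparency.types false in
theorem schImage_proper {X Y Z B : Sp S} (hX : IsAlgSpace X) (hY : IsAlgSpace Y)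
    (hZ : IsAlgSpace Z) (hB : IsAlgSpace B) (h : X ⟶ Y) (g : Y ⟶ B)
    (hf : IsProperMor (h ≫ g)) (hg : IsSeparatedMor g) (hg' : LocP @LocallyOfFiniteType g)
    (i : Z ⟶ Y) (hZi : IsSchImage h i) (h' : X ⟶ Z) (fac : h' ≫ i = h) :
    IsProperMor (i ≫ g) ∧ IsSurjectiveMor h' := by
  have hh : IsProperMor h := (univClosed_proper_over_separated hX hY hB h g hg).2 hf
  have hcl : IsClosedMap (Points.map h) := isClosedMap_points_of_isUnivClosedMor hY hh.2.2
  have hsub := range_subset_closure_of_isSchImage hY hh.2.1.2 i hZi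
  rw [hcl.isClosed_range.closure_eq] at hsub
  have hmono : Mono i := mono_of_repWith_isClosedImmersion hZi.1
  have hsurj : IsSurjectiveMor h' := by
    intro z
    obtain ⟨x, hx⟩ := hsub ⟨z, rfl⟩
    refine ⟨x, (fieldInj_of_mono i).injective_points ?_⟩
    rw [← Points.map_comp, fac, hx]
  have hci : MorphismProperty.ContainsIdentities @IsClosedImmersion.{u} :=
    ⟨fun X => inferInstance⟩
  have e : h' ≫ i ≫ g = h ≫ g := by rw [← Category.assoc, fac]
  refine ⟨⟨?_, ⟨?_, ?_⟩, ?_⟩, hsurj⟩
  · exact repWith_diagonal_comp _ i g (isSeparatedMor_of_repWith_isClosedImmersion hZi.1) hg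
  · exact locP_comp etLocal_lft hZ hY hB i g
      (locP_of_repWith etale_le_lft (repWith_mono isClosedImmersion_le_lft hZi.1)) hg'
  · exact isQuasiCompactMor_of_surjective_triangle hZ (repDiag_of_isAlgSpace hB) h' (i ≫ g) hsurj
      (by rw [e]; exact hf.2.1.2)
  · exact isUnivClosedMor_of_comp_surjective hsurj (by rw [e]; exact hf.2.2)

end Groth.Agent.Lib.Helper14.AS
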