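import Groth.Agent.S10650
import Groth.Agent.Lib.Helper14.SchImg8
import Groth.Agent.Lib.Helper14.LqfLocus
import Groth.Agent.Lib.Helper24.FinFib1
import Groth.Agent.Lib.Helper14.AlgSpDecent2
import Groth.Agent.Lib.Helper14.AlgSpFibrePt2
import Groth.Agent.Lib.Helper14.Norm9
import Groth.Agent.Lib.Helper14.AlgSpInj2
import Groth.Agent.Lib.Helper14.AlgSpImmTop

/-!
# Proper families with a collapsed fibre (helper14)
-/

universe u
open CategoryTheory CategoryTheory.Limits AlgebraicGeometry Opposite Topology TopologicalSpace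

namespace Groth.Agent.Lib.Helper14.AS
open AlgSp

variable {S : Scheme.{u}}

set_option backward.isDefEq.respectTransparency.types false in
/-- A space quasi-separated and locally of finite type over a scheme, with finitely many points,
has relative dimension zero at every point. -/
theorem hasAtMor_fibreDimAt_zero_of_finite_points {W : Sp S} (hW : IsAlgSpace W) {T : Over S}
    (p : W ⟶ (yon S).obj T) (hsep : IsQuasiSeparatedMor p)
    (hlft : LocP @LocallyOfFiniteType p) (hfin : Finite (Points W)) (w : Points W) :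
    HasAtMor (fun _ _ h u => FlatMor.fibreDimAt h u = 0) p w := by
  have hdec : IsDecent W := isDecent_of_isQuasiSeparatedMor_to_yon hW p hsep
  obtain ⟨U, V, a, b, h, u, hae, hbe, comm, rfl⟩ :=
    exists_chart_diagram_at hW (IsAlgSpace.yon_obj T) p w
  have hlfth : LocallyOfFiniteType h.left := hlft a b h hae hbe comm
  obtain ⟨_, ⟨N, hN, rfl⟩, huN, -⟩ :=
    U.left.isBasis_affineOpens.exists_subset_of_mem_open (Set.mem_univ u) isOpen_univ
  have hA : IsAffine (openSub U N).left := hN
  have hfib := fun x => finite_fibre_of_isDecent hdec x (openSub U N)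
    ((yon S).map (openSubι U N) ≫ a) hA (repWith_etale_restrict hae N)
  have hNf : Finite ↥(openSub U N).left := by
    have hu : (Set.univ : Set ↥(openSub U N).left) =
        ⋃ x : Points W, Points.ofPt ((yon S).map (openSubι U N) ≫ a) ⁻¹' {x} := by
      ext t
      simp
    rw [← Set.finite_univ_iff, hu]
    exact Set.finite_iUnion hfib
  have hNfin : ((N : U.left.Opens) : Set ↥U.left).Finite := by
    have : Finite ↥((N : U.left.Opens) : Set ↥U.left) := hNf
    exact Set.toFinite _
  refine ⟨U, V, a, b, h, u, hae, hbe, comm, rfl, ?_⟩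
  exact Groth.Agent.Lib.Helper24.FinFib1.fibreDimAt_eq_zero_of_finite_inter h.left u N huN
    (hNfin.subset Set.inter_subset_right)

set_option backward.isDefEq.respectTransparency.types false in
/-- If the fibre over a field point has finitely many points, a separated morphism locally of
finite type is quasi-finite at every point over the class of the field point. -/
theorem hasAtMor_lqf_of_fibre_finite {Z B : Sp S} (hZ : IsAlgSpace Z) (hB : IsAlgSpace B)
    (φ : Z ⟶ B) (hsep : IsSeparatedMor φ) (hlft : LocP @LocallyOfFiniteType φ) (k : FieldPt B)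
    {Zk : Sp S} (pz : Zk ⟶ Z) (pk : Zk ⟶ (yon S).obj k.pt) (sq : IsPullback pz pk φ k.toHom)
    (hfin : Finite (Points Zk)) (z : Points Z) (hz : Points.map φ z = Points.mk k) :
    HasAtMor (fun U _ h u => ∃ W : U.Opens, u ∈ W ∧ LocallyQuasiFinite (W.ι ≫ h) ∧
      LocallyOfFiniteType (W.ι ≫ h)) φ z := by
  have hZk : IsAlgSpace Zk :=
    isAlgSpace_of_isPullback (repDiag_of_isAlgSpace hB) hZ (IsAlgSpace.yon_obj _) sq
  have hpk_sep : IsSeparatedMor pk := isSeparatedMor_of_isPullback sq hsep
  have hpk_lft : LocP @LocallyOfFiniteType pk :=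
    locP_baseChange etLocal_lft hZ hB (IsAlgSpace.yon_obj _) φ k.toHom pz pk sq hlft
  have hz' : Points.map φ z = Points.map k.toHom
      (Points.ofScheme k.pt (IsLocalRing.closedPoint k.K : ↥(Spec (CommRingCat.of k.K)))) := by
    rw [← Points.ofPt_eq_map_ofScheme, Points.ofPt_toHom]
    exact hz
  obtain ⟨zk, hzk1, -⟩ := points_exists_of_isPullback sq z _ hz'
  have h0 := hasAtMor_fibreDimAt_zero_of_finite_points hZk pk
    (isQuasiSeparatedMor_of_isSeparatedMor hpk_sep) hpk_lft hfin zk
  have h1 := (hasAtMor_fibreDimAt_baseChange_iff hZ hB (IsAlgSpace.yon_obj _) φ k.toHom pz pk sq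
    hlft (fun d => d = 0) zk).1 h0
  rw [hzk1] at h1
  obtain ⟨U, V, a, b, h, u, hae, hbe, comm, hu, hd⟩ := h1
  have : LocallyOfFiniteType h.left := hlft a b h hae hbe comm
  obtain ⟨W, huW, hW1, hW2⟩ := exists_opens_lqf_of_fibreDimAt_le_zero h.left u (le_of_eq hd)
  exact ⟨U, V, a, b, h, u, hae, hbe, comm, hu, W, huW, hW1, hW2⟩


set_option backward.isDefEq.respectTransparency.types false in
/-- Fibre of the scheme theoretic image over a field point with finite image of the fibre of the
source. -/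
theorem finite_points_fibre_schImage {X Y Z B : Sp S} (h : X ⟶ Y) (g : Y ⟶ B) (i : Z ⟶ Y)
    (hi : RepWith @IsClosedImmersion i) (h' : X ⟶ Z) (fac : h' ≫ i = h)
    (hsurj : IsSurjectiveMor h') (k : FieldPt B)
    (ha : ∀ (Yk : Sp S) (gY : Yk ⟶ Y) (sY : Yk ⟶ (yon S).obj k.pt),
      IsPullback gY sY g k.toHom →
      ∀ (Xk : Sp S) (gX : Xk ⟶ X) (hk' : Xk ⟶ Yk), IsPullback gX hk' h gY →
        (Set.range (Points.map hk')).Finite) :
    Finite (Points (pullback (i ≫ g) k.toHom)) := by
  have sqY := IsPullback.of_hasPullback g k.toHom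
  have sqX := IsPullback.of_hasPullback h (pullback.fst g k.toHom)
  have hfinr := ha _ _ _ sqY _ _ _ sqX
  have sqZ := IsPullback.of_hasPullback (i ≫ g) k.toHom
  obtain ⟨ιZ, hιZ⟩ : ∃ ιZ : pullback (i ≫ g) k.toHom ⟶ pullback g k.toHom,
      ιZ = pullback.lift (pullback.fst (i ≫ g) k.toHom ≫ i) (pullback.snd (i ≫ g) k.toHom)
        (by rw [Category.assoc, pullback.condition]) := ⟨_, rfl⟩
  have hι1 : ιZ ≫ pullback.fst g k.toHom = pullback.fst (i ≫ g) k.toHom ≫ i := by
    rw [hιZ, pullback.lift_fst]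
  have hι2 : ιZ ≫ pullback.snd g k.toHom = pullback.snd (i ≫ g) k.toHom := by
    rw [hιZ, pullback.lift_snd]
  have sqZY : IsPullback ιZ (pullback.fst (i ≫ g) k.toHom) (pullback.fst g k.toHom) i := by
    refine IsPullback.of_right ?_ hι1 sqY.flip
    rw [hι2]
    exact sqZ.flip
  have hιci : RepWith @IsClosedImmersion ιZ := repWith_of_isPullback _ sqZY.flip hi
  have hιmono : Mono ιZ := mono_of_repWith_isClosedImmersion hιci
  have hιinj : Function.Injective (Points.map ιZ) := (fieldInj_of_mono ιZ).injective_points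
  have hcomm : pullback.snd h (pullback.fst g k.toHom) ≫ pullback.fst g k.toHom =
      (pullback.fst h (pullback.fst g k.toHom) ≫ h') ≫ i := by
    rw [Category.assoc, fac, pullback.condition]
  obtain ⟨e, he⟩ : ∃ e, e = sqZY.lift (pullback.snd h (pullback.fst g k.toHom))
      (pullback.fst h (pullback.fst g k.toHom) ≫ h') hcomm := ⟨_, rfl⟩
  have he1 : e ≫ ιZ = pullback.snd h (pullback.fst g k.toHom) := by rw [he, sqZY.lift_fst]
  have he2 : e ≫ pullback.fst (i ≫ g) k.toHom = pullback.fst h (pullback.fst g k.toHom) ≫ h' := by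
    rw [he, sqZY.lift_snd]
  have sqXZ : IsPullback e (pullback.fst h (pullback.fst g k.toHom)) (pullback.fst (i ≫ g) k.toHom)
      h' := by
    refine IsPullback.of_right ?_ he2 sqZY
    rw [he1, fac]
    exact sqX.flip
  have hesurj : IsSurjectiveMor e := isSurjectiveMor_of_isPullback sqXZ.flip hsurj
  have hrange : Set.range (Points.map ιZ) ⊆
      Set.range (Points.map (pullback.snd h (pullback.fst g k.toHom))) := by
    rintro _ ⟨z, rfl⟩
    obtain ⟨x, rfl⟩ := hesurj z
    exact ⟨x, by rw [← he1, Points.map_comp]⟩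
  have hfin2 : (Set.range (Points.map ιZ)).Finite := hfinr.subset hrange
  have : Finite (Set.range (Points.map ιZ)) := hfin2.to_subtype
  exact Finite.of_injective (Set.rangeFactorization (Points.map ιZ))
    (fun a b hab => hιinj (congrArg Subtype.val hab))


set_option backward.isDefEq.respectTransparency.types false in
theorem proper_family_collapsed_fibre_nhd_aux {X Y B Z₀ : Space S} (h : X ⟶ Y) (f : X ⟶ B)
    (g : Y ⟶ B)
    (hc : h ≫ g = f) (b : Points B.obj) (k : FieldPt B.obj) (hk : Points.mk k = b)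
    (hf : IsProperMor f.hom) (hg1 : IsSeparatedMor g.hom)
    (hg2 : LocP @LocallyOfFiniteType g.hom)
    (h3 : (∀ (Yk : Sp S) (gY : Yk ⟶ Y.obj) (sY : Yk ⟶ (yon S).obj k.pt),
            IsPullback gY sY g.hom k.toHom →
            ∀ (Xk : Sp S) (gX : Xk ⟶ X.obj) (hk' : Xk ⟶ Yk), IsPullback gX hk' h.hom gY →
              (Set.range (Points.map hk')).Finite) ∨
          ((Points.map h.hom '' (Points.map f.hom ⁻¹' {b})).Finite ∧ IsDecent B.obj))
    (i₀ : Z₀ ⟶ Y) (hZimg : IsSchImage h.hom i₀.hom) (h' : X ⟶ Z₀) (fac : h' ≫ i₀ = h) :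
    ∃ (B' : Space S) (j : B' ⟶ B), RepWith @IsOpenImmersion j.hom ∧
      b ∈ Set.range (Points.map j.hom) ∧
        ∀ (YB : Space S) (gY : YB ⟶ Y) (sY : YB ⟶ B'), IsPullback gY.hom sY.hom g.hom j.hom →
          ∀ (XB : Space S) (gX : XB ⟶ X) (hB : XB ⟶ YB), IsPullback gX.hom hB.hom h.hom gY.hom →
            ∃ (Z : Space S) (i : Z ⟶ YB) (e : XB ⟶ Z), RepWith @IsClosedImmersion i.hom ∧
              IsFiniteMor (i ≫ sY).hom ∧ e ≫ i = hB := by
  have hc' : h.hom ≫ g.hom = f.hom := by rw [← hc]; rfl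
  have fac' : h'.hom ≫ i₀.hom = h.hom := by rw [← fac]; rfl
  have hfp : IsProperMor (h.hom ≫ g.hom) := by rw [hc']; exact hf
  have hZalg : IsAlgSpace Z₀.obj := Z₀.2
  obtain ⟨hφprop, hh'surj⟩ := schImage_proper X.2 Y.2 hZalg B.2 h.hom g.hom hfp hg1 hg2 i₀.hom
    hZimg h'.hom fac'
  have hhx : ∀ x, Points.map h.hom x = Points.map i₀.hom (Points.map h'.hom x) := fun x => by
    rw [← Points.map_comp, fac']
  have hstar : ∃ k' : FieldPt B.obj, Points.mk k' = b ∧
      Finite (Points (pullback (i₀.hom ≫ g.hom) k'.toHom)) := by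
    rcases h3 with ha | ⟨hb, hBdec⟩
    · exact ⟨k, hk, finite_points_fibre_schImage h.hom g.hom i₀.hom hZimg.1 h'.hom fac' hh'surj k
        ha⟩
    · obtain ⟨k', hk', hmono, -⟩ := hBdec b
      refine ⟨k', hk', ?_⟩
      have hmono' : Mono (pullback.fst (i₀.hom ≫ g.hom) k'.toHom) := inferInstance
      have hinj : Function.Injective (Points.map (pullback.fst (i₀.hom ≫ g.hom) k'.toHom)) :=
        (fieldInj_of_mono _).injective_points
      have himono : Mono i₀.hom := mono_of_repWith_isClosedImmersion hZimg.1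
      have hiinj : Function.Injective (Points.map i₀.hom) :=
        (fieldInj_of_mono _).injective_points
      have hsub : Set.range (fun z => Points.map i₀.hom
          (Points.map (pullback.fst (i₀.hom ≫ g.hom) k'.toHom) z)) ⊆
          Points.map h.hom '' (Points.map f.hom ⁻¹' {b}) := by
        rintro _ ⟨zk, rfl⟩
        obtain ⟨x, hx⟩ := hh'surj (Points.map (pullback.fst (i₀.hom ≫ g.hom) k'.toHom) zk)
        refine ⟨x, ?_, ?_⟩
        · show Points.map f.hom x = b
          rw [← hc', Points.map_comp, hhx, hx, ← Points.map_comp, ← Points.map_comp,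
            pullback.condition, Points.map_comp]
          obtain ⟨t, ht⟩ := (Points.schemeHomeo k'.pt).surjective
            (Points.map (pullback.snd (i₀.hom ≫ g.hom) k'.toHom) zk)
          rw [← ht]
          have := Points.ofPt_toHom k' t
          rw [Points.ofPt_eq_map_ofScheme] at this
          rw [← hk']
          exact this
        · show Points.map h.hom x = _
          rw [hhx, hx]
      have hfin2 := hb.subset hsub
      have : Finite (Set.range (fun z => Points.map i₀.hom
          (Points.map (pullback.fst (i₀.hom ≫ g.hom) k'.toHom) z))) := hfin2.to_subtype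
      exact Finite.of_injective (Set.rangeFactorization (fun z => Points.map i₀.hom
          (Points.map (pullback.fst (i₀.hom ≫ g.hom) k'.toHom) z)))
        (fun a b hab => hinj (hiinj (congrArg Subtype.val hab)))
  obtain ⟨k', hk', hfin⟩ := hstar
  have hφhom : (i₀ ≫ g).hom = i₀.hom ≫ g.hom := rfl
  obtain ⟨B', j, hj, hbj, hfinite⟩ := Groth.Agent.S10650.result (i₀ ≫ g) b
    (by rw [hφhom]; exact hφprop)
    (fun z hz => by
      rw [hφhom] at hz ⊢
      exact hasAtMor_lqf_of_fibre_finite hZalg B.2 (i₀.hom ≫ g.hom) hφprop.1 hφprop.2.1.1 k'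
        (pullback.fst _ _) (pullback.snd _ _) (IsPullback.of_hasPullback _ _) hfin z
        (hz.trans hk'.symm))
  refine ⟨B', j, hj, hbj, fun YB gY sY sqY XB gX hB sqX => ?_⟩
  have sqZ := IsPullback.of_hasPullback i₀.hom gY.hom
  have hZBalg : IsAlgSpace (pullback i₀.hom gY.hom) :=
    isAlgSpace_of_isPullback (repDiag_of_isAlgSpace Y.2) hZalg YB.2 sqZ
  have hici : RepWith @IsClosedImmersion (pullback.snd i₀.hom gY.hom) :=
    repWith_of_isPullback _ sqZ hZimg.1
  have hcomm : (gX.hom ≫ h'.hom) ≫ i₀.hom = hB.hom ≫ gY.hom := by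
    rw [Category.assoc, fac', sqX.w]
  refine ⟨⟨pullback i₀.hom gY.hom, hZBalg⟩, ObjectProperty.homMk (pullback.snd i₀.hom gY.hom),
    ObjectProperty.homMk (sqZ.lift (gX.hom ≫ h'.hom) hB.hom hcomm), hici, ?_, ?_⟩
  · have big : IsPullback (pullback.fst i₀.hom gY.hom) (pullback.snd i₀.hom gY.hom ≫ sY.hom)
        (i₀.hom ≫ g.hom) j.hom := sqZ.paste_vert sqY
    exact hfinite ⟨pullback i₀.hom gY.hom, hZBalg⟩
      (ObjectProperty.homMk (pullback.fst i₀.hom gY.hom))
      (ObjectProperty.homMk (pullback.snd i₀.hom gY.hom) ≫ sY) big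
  · apply ObjectProperty.hom_ext
    exact sqZ.lift_snd _ _ _

set_option backward.isDefEq.respectTransparency.types false in
theorem proper_family_collapsed_fibre_nhd {X Y B : Space S} (h : X ⟶ Y) (f : X ⟶ B) (g : Y ⟶ B)
    (hc : h ≫ g = f) (b : Points B.obj) (k : FieldPt B.obj) (hk : Points.mk k = b)
    (hf : IsProperMor f.hom) (hg1 : IsSeparatedMor g.hom)
    (hg2 : LocP @LocallyOfFiniteType g.hom)
    (h3 : (∀ (Yk : Sp S) (gY : Yk ⟶ Y.obj) (sY : Yk ⟶ (yon S).obj k.pt),
            IsPullback gY sY g.hom k.toHom →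
            ∀ (Xk : Sp S) (gX : Xk ⟶ X.obj) (hk' : Xk ⟶ Yk), IsPullback gX hk' h.hom gY →
              (Set.range (Points.map hk')).Finite) ∨
          ((Points.map h.hom '' (Points.map f.hom ⁻¹' {b})).Finite ∧ IsDecent B.obj)) :
    ∃ (B' : Space S) (j : B' ⟶ B), RepWith @IsOpenImmersion j.hom ∧
      b ∈ Set.range (Points.map j.hom) ∧
        ∀ (YB : Space S) (gY : YB ⟶ Y) (sY : YB ⟶ B'), IsPullback gY.hom sY.hom g.hom j.hom →
          ∀ (XB : Space S) (gX : XB ⟶ X) (hB : XB ⟶ YB), IsPullback gX.hom hB.hom h.hom gY.hom →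
            ∃ (Z : Space S) (i : Z ⟶ YB) (e : XB ⟶ Z), RepWith @IsClosedImmersion i.hom ∧
              IsFiniteMor (i ≫ sY).hom ∧ e ≫ i = hB := by
  have hc' : h.hom ≫ g.hom = f.hom := by rw [← hc]; rfl
  have hfp : IsProperMor (h.hom ≫ g.hom) := by rw [hc']; exact hf
  have hh : IsProperMor h.hom :=
    (univClosed_proper_over_separated X.2 Y.2 B.2 h.hom g.hom hg1).2 hfp
  obtain ⟨hZalg, hZimg⟩ := isSchImage_qcImgPred Y.2 hh.2.1.2
  obtain ⟨h', fac⟩ := hZimg.2.1
  exact proper_family_collapsed_fibre_nhd_aux (Z₀ := ⟨(qcImgPred h.hom).sheaf, hZalg⟩) h f g hc b k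
    hk hf hg1 hg2 h3 (ObjectProperty.homMk (qcImgPred h.hom).ι) hZimg (ObjectProperty.homMk h')
    (by apply ObjectProperty.hom_ext; exact fac)

end Groth.Agent.Lib.Helper14.AS
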