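import Mathlib
import Groth.Prelude.Def_FSch3
import Groth.Agent.Lib.Helper14.ComplNear2
import Groth.Agent.Lib.Helper14.FibIso4
import Groth.Agent.Lib.Helper7.StalkIso

set_option autoImplicit false
universe u
open AlgebraicGeometry CategoryTheory Limits

namespace Groth.Agent.Lib.Helper14.ComplNear

open Groth.Agent.Lib.Helper14.FibIso in
theorem mem_good_of_levels {X Y : Scheme.{u}} [IsLocallyNoetherian Y] (f : X ⟶ Y) [IsProper f]
    (𝓚 : Y.IdealSheafData) (hc : FSch.PowCompat f (𝓚.comap f) 𝓚)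
    (H : ∀ n : ℕ, IsIso ((FSch.completionMap f (𝓚.comap f) 𝓚 hc : FSch.Hom _ _).app n))
    (y : Y) (hy : y ∈ 𝓚.support) : y ∈ Good f := by
  have hy' : y ∈ Set.range (𝓚 ^ (0 + 1)).subschemeι := by
    rw [Scheme.IdealSheafData.range_subschemeι, Scheme.IdealSheafData.support_pow_succ]
    exact hy
  obtain ⟨y₀, hy₀⟩ := hy'
  have hiso : IsIso (f.fiberToSpecResidueField y) := by
    have := fiber_zero f 𝓚 hc (MorphismProperty.isomorphisms Scheme) (H 0) y₀
    rw [← hy₀]
    exact this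
  -- unique point of the fibre
  have e : ↥(f.fiber y) ≃ₜ ↥(Spec (Y.residueField y)) :=
    Scheme.homeoOfIso (asIso (f.fiberToSpecResidueField y))
  have hsub : Subsingleton ↥(f.fiber y) := by
    have : Subsingleton ↥(Spec (Y.residueField y)) :=
      inferInstanceAs (Subsingleton (PrimeSpectrum (Y.residueField y)))
    exact e.injective.subsingleton
  have hne : Nonempty ↥(f.fiber y) := by
    have : Nonempty ↥(Spec (Y.residueField y)) :=
      inferInstanceAs (Nonempty (PrimeSpectrum (Y.residueField y)))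
    exact ⟨e.symm (Classical.arbitrary _)⟩
  obtain ⟨x₀⟩ := hne
  obtain ⟨x, hx⟩ : ∃ x, x = f.fiberι y x₀ := ⟨_, rfl⟩
  have hfx : f x = y := by
    have : x ∈ Set.range (f.fiberι y) := ⟨x₀, hx.symm⟩
    rw [f.range_fiberι] at this
    exact this
  have huniq : ∀ x' : X, f x' = y → x' = x := by
    intro x' hx'
    have : x' ∈ Set.range (f.fiberι y) := by
      rw [f.range_fiberι]; exact hx'
    obtain ⟨z, rfl⟩ := this
    rw [Subsingleton.elim z x₀, hx]
  obtain ⟨V, hyV, hci⟩ :=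
    Groth.Agent.Lib.Helper25.ClosedImmNear.exists_isClosedImmersion_of_universallyClosed f y
      (Or.inr hiso)
  have hxV : x ∈ f ⁻¹ᵁ V := by
    change f x ∈ V
    rw [hfx]; exact hyV
  have hsurj : Function.Surjective (f.stalkMap x).hom := by
    have h1 : Function.Surjective ((f ∣_ V).stalkMap ⟨x, hxV⟩).hom :=
      (f ∣_ V).stalkMap_surjective ⟨x, hxV⟩
    exact (RingHom.surjective_respectsIso.arrow_mk_iso_iff
      (morphismRestrictStalkMap f V ⟨x, hxV⟩)).mp h1
  have hinj : Function.Injective (f.stalkMap x).hom :=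
    stalkMap_injective_of_levels f 𝓚 hc H x (hfx ▸ hy)
  obtain ⟨U, V', hle, hxU, hiso'⟩ :=
    Groth.Agent.Lib.Helper7.exists_isIso_resLE_of_stalkMap_bijective f x ⟨hinj, hsurj⟩
  refine ⟨U, ?_, ?_, ⟨x, hfx⟩⟩
  · intro p hp
    rw [huniq p hp]
    exact hxU
  · rw [← Scheme.Hom.resLE_comp_ι f hle]
    infer_instance

open Groth.Agent.Lib.Helper14.FibIso in
theorem exists_opens_isIso {X Y Z : Scheme.{u}} [IsLocallyNoetherian Z] (f : X ⟶ Y) (h : Y ⟶ Z)
    [IsProper (f ≫ h)] [IsProper h] (𝓙 : Z.IdealSheafData)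
    (hc : FSch.PowCompat f ((𝓙.comap h).comap f) (𝓙.comap h))
    (H : ∀ n : ℕ, IsIso
      ((FSch.completionMap f ((𝓙.comap h).comap f) (𝓙.comap h) hc : FSch.Hom _ _).app n)) :
    ∃ U : Z.Opens, (𝓙.support : Set Z) ⊆ U ∧ IsIso (f ∣_ h ⁻¹ᵁ U) := by
  haveI : IsLocallyNoetherian Y := LocallyOfFiniteType.isLocallyNoetherian h
  haveI : IsProper f := IsProper.of_comp f h
  have hopen : IsOpen (Good f) := isOpen_good f f.isClosedMap
  let U : Z.Opens := ⟨(h '' (Good f)ᶜ)ᶜ, (h.isClosedMap _ hopen.isClosed_compl).isOpen_compl⟩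
  refine ⟨U, ?_, ?_⟩
  · rintro z hz ⟨y, hy, hyz⟩
    refine hy (mem_good_of_levels f (𝓙.comap h) hc H y ?_)
    rw [Scheme.IdealSheafData.support_comap]
    change h y ∈ 𝓙.support
    rw [hyz]; exact hz
  · apply isIso_morphismRestrict_of_good
    intro y hy
    by_contra hcon
    exact hy ⟨y, hcon, rfl⟩

end Groth.Agent.Lib.Helper14.ComplNear
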