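import Mathlib.RingTheory.DiscreteValuationRing.Basic
import Mathlib.RingTheory.AdicCompletion.RingHom
import Mathlib.RingTheory.PowerSeries.Trunc
import Mathlib.RingTheory.LocalRing.ResidueField.Basic
import Mathlib.Tactic

/-!
# Complete DVRs with a coefficient field are power series rings (helper14 library)
-/

set_option autoImplicit false

namespace Groth.Agent.Lib.Helper14

universe u v

section trunc

variable {K : Type u} {A : Type v} [Field K] [CommRing A] [Algebra K A]

theorem mk_aeval_trunc_coe (I : Ideal A) (x : A) (hx : x ∈ I) (n : ℕ) (p : Polynomial K) :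
    Ideal.Quotient.mk (I ^ n) (Polynomial.aeval x (PowerSeries.trunc n (p : PowerSeries K))) =
      Ideal.Quotient.mk (I ^ n) (Polynomial.aeval x p) := by
  rw [Ideal.Quotient.eq, ← map_sub]
  have hq : ∀ i < n, (PowerSeries.trunc n (p : PowerSeries K) - p).coeff i = 0 := by
    intro i hi
    simp [PowerSeries.coeff_trunc, hi]
  rw [Polynomial.aeval_eq_sum_range]
  apply Ideal.sum_mem
  intro i _
  by_cases hi : i < n
  · rw [hq i hi, zero_smul]
    exact zero_mem _
  · push Not at hi
    rw [Algebra.smul_def]
    exact Ideal.mul_mem_left _ _ (Ideal.pow_le_pow_right hi (Ideal.pow_mem_pow hx i))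

/-- Truncation followed by evaluation at `x ∈ I`, as an algebra map `K⟦X⟧ → A ⧸ I ^ n`. -/
noncomputable def truncHom (I : Ideal A) (x : A) (hx : x ∈ I) (n : ℕ) :
    PowerSeries K →ₐ[K] A ⧸ I ^ n :=
  AlgHom.ofLinearMap
    ((Ideal.Quotient.mkₐ K (I ^ n)).toLinearMap ∘ₗ
      (Polynomial.aeval x : Polynomial K →ₐ[K] A).toLinearMap ∘ₗ PowerSeries.trunc n)
    (by
      have h := mk_aeval_trunc_coe (K := K) I x hx n 1
      rw [Polynomial.coe_one] at h
      show Ideal.Quotient.mk (I ^ n) (Polynomial.aeval x (PowerSeries.trunc n (1 : PowerSeries K))) = 1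
      rw [h, map_one (Polynomial.aeval x), map_one])
    (by
      intro f g
      show Ideal.Quotient.mk (I ^ n) (Polynomial.aeval x (PowerSeries.trunc n (f * g))) =
        Ideal.Quotient.mk (I ^ n) (Polynomial.aeval x (PowerSeries.trunc n f)) *
          Ideal.Quotient.mk (I ^ n) (Polynomial.aeval x (PowerSeries.trunc n g))
      rw [← PowerSeries.trunc_trunc_mul_trunc, ← Polynomial.coe_mul, mk_aeval_trunc_coe I x hx,
        map_mul, map_mul])

theorem truncHom_apply (I : Ideal A) (x : A) (hx : x ∈ I) (n : ℕ) (f : PowerSeries K) :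
    truncHom I x hx n f = Ideal.Quotient.mk (I ^ n)
      ((Finset.range n).sum (fun i => algebraMap K A (PowerSeries.coeff i f) * x ^ i)) := by
  show Ideal.Quotient.mk (I ^ n) (Polynomial.aeval x (PowerSeries.trunc n f)) = _
  rw [Polynomial.aeval_def, PowerSeries.eval₂_trunc_eq_sum_range]

theorem truncHom_compat (I : Ideal A) (x : A) (hx : x ∈ I) {m n : ℕ} (hle : m ≤ n) :
    (Ideal.Quotient.factorₐ K (Ideal.pow_le_pow_right hle)).comp (truncHom (K := K) I x hx n) =
      truncHom I x hx m := by
  apply AlgHom.ext
  intro f
  show Ideal.Quotient.factor (Ideal.pow_le_pow_right hle)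
      (Ideal.Quotient.mk (I ^ n) (Polynomial.aeval x (PowerSeries.trunc n f))) =
    Ideal.Quotient.mk (I ^ m) (Polynomial.aeval x (PowerSeries.trunc m f))
  rw [Ideal.Quotient.factor_mk, ← PowerSeries.trunc_trunc_of_le f hle, mk_aeval_trunc_coe I x hx]

end trunc

section main

open IsLocalRing

variable (K : Type u) (A : Type v) [Field K] [CommRing A] [Algebra K A]

theorem eq_zero_of_forall_mem_pow (I : Ideal A) [IsHausdorff I A] (a : A)
    (h : ∀ n : ℕ, a ∈ I ^ n) : a = 0 := by
  apply IsHausdorff.haus' (I := I) a
  intro n
  rw [SModEq.zero]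
  simpa using h n

theorem exists_powerSeries_algHom [IsDomain A] [IsDiscreteValuationRing A]
    [IsAdicComplete (maximalIdeal A) A]
    (hK : Function.Bijective ((residue A).comp (algebraMap K A)))
    (x : A) (hx : maximalIdeal A = Ideal.span {x}) :
    ∃ φ : PowerSeries K →ₐ[K] A, φ PowerSeries.X = x ∧ Function.Bijective φ ∧
      ∀ (f : PowerSeries K) (n : ℕ),
        φ f - (Finset.range n).sum (fun i => algebraMap K A (PowerSeries.coeff i f) * x ^ i) ∈
          maximalIdeal A ^ n := by
  classical
  have hxm : x ∈ maximalIdeal A := by rw [hx]; exact Ideal.mem_span_singleton_self x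
  have hx0 : x ≠ 0 := by
    rintro rfl
    apply IsDiscreteValuationRing.not_a_field A
    rw [hx]
    exact Ideal.span_singleton_eq_bot.mpr rfl
  let φ : PowerSeries K →ₐ[K] A := IsAdicComplete.liftAlgHom (maximalIdeal A)
    (truncHom (maximalIdeal A) x hxm) (truncHom_compat (maximalIdeal A) x hxm)
  have hφ : ∀ (f : PowerSeries K) (n : ℕ),
      φ f - (Finset.range n).sum (fun i => algebraMap K A (PowerSeries.coeff i f) * x ^ i) ∈
        maximalIdeal A ^ n := by
    intro f n
    rw [← Ideal.Quotient.eq, ← truncHom_apply (maximalIdeal A) x hxm n f]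
    exact IsAdicComplete.mk_liftAlgHom (maximalIdeal A) _ _ n f
  have hpow : ∀ n : ℕ, maximalIdeal A ^ n = Ideal.span {x ^ n} := by
    intro n
    rw [hx, Ideal.span_singleton_pow]
  have hxpow : ∀ n : ℕ, ∀ b : A, x ^ n * b ∈ maximalIdeal A ^ n := by
    intro n b
    rw [hpow]
    exact Ideal.mul_mem_right _ _ (Ideal.mem_span_singleton_self _)
  refine ⟨φ, ?_, ⟨?_, ?_⟩, hφ⟩
  · -- φ X = x
    rw [← sub_eq_zero]
    apply eq_zero_of_forall_mem_pow A (maximalIdeal A)
    intro n
    have h := hφ PowerSeries.X (n + 2)
    have hsum : (Finset.range (n + 2)).sum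
        (fun i => algebraMap K A (PowerSeries.coeff i (PowerSeries.X : PowerSeries K)) * x ^ i) = x := by
      rw [Finset.sum_eq_single 1]
      · simp
      · intro i _ hi
        rw [PowerSeries.coeff_X, if_neg hi, map_zero, zero_mul]
      · intro h1
        exact absurd (Finset.mem_range.mpr (by omega)) h1
    rw [hsum] at h
    exact Ideal.pow_le_pow_right (by omega) h
  · -- injective
    rw [injective_iff_map_eq_zero]
    intro f hf
    ext d
    rw [map_zero]
    induction d using Nat.strong_induction_on with
    | _ d ih =>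
      have h := hφ f (d + 1)
      rw [hf, zero_sub, neg_mem_iff] at h
      have hsum : (Finset.range (d + 1)).sum
          (fun i => algebraMap K A (PowerSeries.coeff i f) * x ^ i) =
          algebraMap K A (PowerSeries.coeff d f) * x ^ d := by
        rw [Finset.sum_eq_single d]
        · intro i hi hid
          have hid' : i < d := lt_of_le_of_ne (Nat.lt_succ_iff.mp (Finset.mem_range.mp hi)) hid
          rw [ih i hid', map_zero, zero_mul]
        · intro h1
          exact absurd (Finset.mem_range.mpr (Nat.lt_succ_self d)) h1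
      rw [hsum, hpow, Ideal.mem_span_singleton'] at h
      obtain ⟨b, hb⟩ := h
      have h2 : x ^ d * (algebraMap K A (PowerSeries.coeff d f) - b * x) = 0 := by
        rw [mul_sub, sub_eq_zero]
        rw [pow_succ] at hb
        linear_combination -hb
      rcases mul_eq_zero.mp h2 with h3 | h3
      · exact absurd h3 (pow_ne_zero _ hx0)
      · have h4 : algebraMap K A (PowerSeries.coeff d f) ∈ maximalIdeal A := by
          rw [sub_eq_zero.mp h3]
          exact Ideal.mul_mem_left _ _ hxm
        apply hK.1
        rw [map_zero]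
        show residue A (algebraMap K A (PowerSeries.coeff d f)) = 0
        rwa [residue_eq_zero_iff]
  · -- surjective
    intro a
    have hc : ∀ a' : A, ∃ r : K, residue A (algebraMap K A r) = residue A a' := fun a' => hK.2 _
    choose c hc using hc
    have hstep : ∀ a' : A, ∃ b : A, a' - algebraMap K A (c a') = x * b := by
      intro a'
      have : a' - algebraMap K A (c a') ∈ maximalIdeal A := by
        rw [← residue_eq_zero_iff, map_sub, hc, sub_self]
      rw [hx, Ideal.mem_span_singleton'] at this
      obtain ⟨b, hb⟩ := this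
      exact ⟨b, by rw [← hb, mul_comm]⟩
    choose step hstep using hstep
    let seq : ℕ → A := fun n => step^[n] a
    have hseq : ∀ n, seq (n + 1) = step (seq n) := fun n => Function.iterate_succ_apply' step n a
    let f : PowerSeries K := PowerSeries.mk (fun n => c (seq n))
    have hexp : ∀ n, a = (Finset.range n).sum
        (fun i => algebraMap K A (PowerSeries.coeff i f) * x ^ i) + x ^ n * seq n := by
      intro n
      induction n with
      | zero => simp [seq]
      | succ n ih =>
        rw [Finset.sum_range_succ, hseq]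
        have h5 := hstep (seq n)
        have h6 : PowerSeries.coeff n f = c (seq n) := PowerSeries.coeff_mk n _
        rw [h6]
        conv_lhs => rw [ih]
        rw [pow_succ]
        linear_combination (x ^ n) * h5
    refine ⟨f, ?_⟩
    rw [← sub_eq_zero]
    apply eq_zero_of_forall_mem_pow A (maximalIdeal A)
    intro n
    have h1 := hφ f n
    have h2 : a - (Finset.range n).sum
        (fun i => algebraMap K A (PowerSeries.coeff i f) * x ^ i) ∈ maximalIdeal A ^ n := by
      have := hexp n
      rw [sub_eq_iff_eq_add'.mpr this]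
      exact hxpow n _
    have := sub_mem h1 h2
    rwa [sub_sub_sub_cancel_right] at this

end main

end Groth.Agent.Lib.Helper14
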