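import Mathlib
import Groth.Agent.Lib.Helper14.CorrFin2

/-!
# Flat locus and finite locus of a proper morphism between varieties of the same dimension
-/

set_option autoImplicit false
set_option linter.style.haveILetI false
set_option linter.unusedSectionVars false
universe u

open AlgebraicGeometry CategoryTheory Limits TopologicalSpace

namespace Groth.Agent.Lib.Helper14.CorrFin

theorem main (k : Type u) [Field k] {Z W : Scheme.{u}} [W.Over (Spec (CommRingCat.of k))]
    [LocallyOfFiniteType (W ↘ Spec (CommRingCat.of k))] [IsIntegral W]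
    (π : Z ⟶ W) [IsProper π] (n : ℕ)
    (hZ : topologicalKrullDim Z = n) (hW : topologicalKrullDim W = n) :
    (IsOpen {w : W | ∀ z : Z, π z = w → (π.stalkMap z).hom.Flat} ∧
      {w : W | ∀ z : Z, π z = w → (π.stalkMap z).hom.Flat}.Nonempty) ∧
    ∃ U : W.Opens, (U : Set W) = {w : W | (π ⁻¹' {w}).Finite} ∧
      (U : Set W).Nonempty ∧ IsFinite (π ∣_ U) := by
  haveI : IsLocallyNoetherian W :=
    LocallyOfFiniteType.isLocallyNoetherian (W ↘ Spec (CommRingCat.of k))
  haveI : LocallyOfFinitePresentation π :=
    LocallyOfFinitePresentation.iff_locallyOfFiniteType.mpr inferInstance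
  letI : Z.Over (Spec (CommRingCat.of k)) := ⟨π ≫ (W ↘ Spec (CommRingCat.of k))⟩
  haveI : LocallyOfFiniteType (Z ↘ Spec (CommRingCat.of k)) := by
    change LocallyOfFiniteType (π ≫ (W ↘ Spec (CommRingCat.of k)))
    infer_instance
  refine ⟨⟨?_, ?_⟩, ?_⟩
  · have hF := Groth.Agent.Lib.Helper18.Fl.isOpen_flatLocus_scheme π
    have hcl : IsClosed (π '' {z : Z | (π.stalkMap z).hom.Flat}ᶜ) :=
      π.isClosedMap _ hF.isClosed_compl
    convert hcl.isOpen_compl using 1
    ext w
    simp only [Set.mem_compl_iff, Set.mem_image, not_exists, not_and]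
    constructor
    · intro h z hz hzw; exact hz (h z hzw)
    · intro h z hzw; by_contra hz; exact h z hz hzw
  · exact ⟨genericPoint W, fun z hz =>
      Groth.Agent.Lib.Helper12.H12FlatFib.flat_stalkMap_of_genericPoint π z hz⟩
  · obtain ⟨U, hU, hfin⟩ := exists_opens_finite π
    refine ⟨U, hU, ?_, hfin⟩
    rw [hU]
    refine ⟨genericPoint W, ?_⟩
    apply finite_preimage_of_quasiFiniteAt
    intro z hz
    refine quasiFiniteAt_of_generic k Z W π rfl n hZ.le hW z ?_
    rw [hz]
    exact genericPoint_spec W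

end Groth.Agent.Lib.Helper14.CorrFin
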