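import Mathlib
import Groth.Prelude.Def_W4stkflatp2Cpct

/-!
# Right calculus of fractions for compactifications (helper14)
-/

set_option autoImplicit false
universe u
open CategoryTheory CategoryTheory.Limits AlgebraicGeometry Opposite

namespace Groth.Agent.Lib.Helper14.CpctLoc

variable {S : Scheme.{u}}

theorem restr_ι {A B : Cpct.Pair S} (f : A ⟶ B) :
    Cpct.restr f ≫ B.U.ι = A.U.ι ≫ f.bar.left :=
  Scheme.Hom.resLE_comp_ι _ _

theorem restr_id (A : Cpct.Pair S) : Cpct.restr (𝟙 A) = 𝟙 _ := by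
  rw [← cancel_mono A.U.ι, restr_ι]
  simp

theorem restr_comp {A B C : Cpct.Pair S} (f : A ⟶ B) (g : B ⟶ C) :
    Cpct.restr (f ≫ g) = Cpct.restr f ≫ Cpct.restr g := by
  rw [← cancel_mono C.U.ι, restr_ι, Category.assoc, restr_ι, ← Category.assoc, restr_ι,
    Category.assoc]
  rfl

instance isMultiplicative_isoOpen : (Cpct.isoOpen S).IsMultiplicative where
  id_mem A := by
    change IsIso (Cpct.restr (𝟙 A))
    rw [restr_id]
    infer_instance
  comp_mem f g hf hg := by
    change IsIso (Cpct.restr (f ≫ g))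
    rw [restr_comp]
    have : IsIso (Cpct.restr f) := hf
    have : IsIso (Cpct.restr g) := hg
    infer_instance

theorem isProper_bar_left {A B : Cpct.Pair S} (f : A ⟶ B) : IsProper f.bar.left := by
  have h1 : IsProper (f.bar.left ≫ B.bar.hom) := by
    rw [Over.w]
    exact A.isProper
  have h2 : IsSeparated B.bar.hom := by
    have := B.isProper
    infer_instance
  exact IsProper.of_comp f.bar.left B.bar.hom

/-- A morphism of pairs is in `isoOpen` as soon as the open part has a two-sided inverse after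
composing with the inclusions. -/
theorem isoOpen_of_inverse {A B : Cpct.Pair S} (f : A ⟶ B) (k : (B.U : Scheme.{u}) ⟶ A.bar.left)
    (hk1 : k ≫ f.bar.left = B.U.ι) (hk2 : ∀ x, k x ∈ A.U)
    (hk3 : Cpct.restr f ≫ k = A.U.ι) : Cpct.isoOpen S f := by
  have hr : Set.range k ⊆ Set.range A.U.ι := by
    rintro _ ⟨x, rfl⟩
    rw [Scheme.Opens.range_ι]
    exact hk2 x
  let k' : (B.U : Scheme.{u}) ⟶ (A.U : Scheme.{u}) := IsOpenImmersion.lift A.U.ι k hr
  have hk' : k' ≫ A.U.ι = k := IsOpenImmersion.lift_fac _ _ _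
  refine ⟨⟨k', ?_, ?_⟩⟩
  · rw [← cancel_mono A.U.ι, Category.assoc, hk', hk3, Category.id_comp]
  · rw [← cancel_mono B.U.ι, Category.assoc, restr_ι, ← Category.assoc, hk', hk1,
      Category.id_comp]

theorem isCompact_of_retract {P Y : Scheme.{u}} [CompactSpace Y] (U' : P.Opens)
    (p : (U' : Scheme.{u}) ⟶ Y) (k : Y ⟶ P) (hk : ∀ x, k x ∈ U') (hpk : p ≫ k = U'.ι) :
    IsCompact (U' : Set P) := by
  have : (U' : Set P) = Set.range k := by
    apply Set.Subset.antisymm
    · intro z hz
      refine ⟨p ⟨z, hz⟩, ?_⟩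
      rw [← Scheme.Hom.comp_apply, hpk]
      rfl
    · rintro _ ⟨x, rfl⟩
      exact hk x
  rw [this]
  exact isCompact_range k.continuous

theorem exists_rightFraction {A B C : Cpct.Pair S} (f : A ⟶ C) (s : B ⟶ C)
    (hs : Cpct.isoOpen S s) :
    ∃ (A' : Cpct.Pair S) (t : A' ⟶ A) (_ : Cpct.isoOpen S t) (g : A' ⟶ B), t ≫ f = g ≫ s := by
  have hsi : IsIso (Cpct.restr s) := hs
  let f' := f.bar.left
  let s' := s.bar.left
  have hsp : IsProper s' := isProper_bar_left s
  have hAp := A.isProper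
  have hw : pullback.snd f' s' ≫ B.bar.hom = pullback.fst f' s' ≫ A.bar.hom := by
    rw [← Over.w s.bar, ← Over.w f.bar, ← Category.assoc, ← Category.assoc, pullback.condition]
  -- the section over the open part
  let k : (A.U : Scheme.{u}) ⟶ pullback f' s' :=
    pullback.lift A.U.ι (Cpct.restr f ≫ inv (Cpct.restr s) ≫ B.U.ι) (by
      rw [Category.assoc, Category.assoc, ← restr_ι s, IsIso.inv_hom_id_assoc, restr_ι])
  let U' : (pullback f' s').Opens := pullback.fst f' s' ⁻¹ᵁ A.U ⊓ pullback.snd f' s' ⁻¹ᵁ B.U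
  have hkU : ∀ x, k x ∈ U' := by
    intro x
    constructor
    · change pullback.fst f' s' (k x) ∈ A.U
      rw [← Scheme.Hom.comp_apply, pullback.lift_fst]
      exact x.2
    · change pullback.snd f' s' (k x) ∈ B.U
      rw [← Scheme.Hom.comp_apply, pullback.lift_snd]
      simp only [Scheme.Hom.comp_apply]
      exact (inv (Cpct.restr s) (Cpct.restr f x)).2
  let r : (U' : Scheme.{u}) ⟶ (A.U : Scheme.{u}) :=
    (pullback.fst f' s').resLE A.U U' inf_le_left
  let r₂ : (U' : Scheme.{u}) ⟶ (B.U : Scheme.{u}) :=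
    (pullback.snd f' s').resLE B.U U' inf_le_right
  have hr : r ≫ A.U.ι = U'.ι ≫ pullback.fst f' s' := Scheme.Hom.resLE_comp_ι _ _
  have hr₂ : r₂ ≫ B.U.ι = U'.ι ≫ pullback.snd f' s' := Scheme.Hom.resLE_comp_ι _ _
  have hrr : r ≫ Cpct.restr f = r₂ ≫ Cpct.restr s := by
    rw [← cancel_mono C.U.ι, Category.assoc, Category.assoc, restr_ι, restr_ι,
      ← Category.assoc, ← Category.assoc, hr, hr₂, Category.assoc, Category.assoc,
      pullback.condition]
  have hrk : r ≫ k = U'.ι := by
    apply pullback.hom_ext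
    · rw [Category.assoc, pullback.lift_fst, hr]
    · rw [Category.assoc, pullback.lift_snd, ← Category.assoc, ← Category.assoc, hrr,
        Category.assoc, Category.assoc, IsIso.hom_inv_id_assoc, hr₂]
  have hc : CompactSpace (A.U : Scheme.{u}) := isCompact_iff_compactSpace.mp A.isCompact
  let A' : Cpct.Pair S :=
    { bar := Over.mk (pullback.fst f' s' ≫ A.bar.hom)
      U := U'
      isProper := by
        change IsProper (pullback.fst f' s' ≫ A.bar.hom)
        infer_instance
      isCompact := isCompact_of_retract U' r k hkU hrk }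
  let t : A' ⟶ A :=
    { bar := Over.homMk (pullback.fst f' s') rfl
      le := fun x hx => hx.1 }
  let g : A' ⟶ B :=
    { bar := Over.homMk (pullback.snd f' s') hw
      le := fun x hx => hx.2 }
  refine ⟨A', t, ?_, g, ?_⟩
  · exact isoOpen_of_inverse t k (pullback.lift_fst _ _ _) hkU hrk
  · apply Cpct.Pair.Hom.ext
    apply Over.OverMorphism.ext
    exact pullback.condition

theorem exists_equalizing {A B C : Cpct.Pair S} (f₁ f₂ : A ⟶ B) (s : B ⟶ C)
    (hs : Cpct.isoOpen S s) (h : f₁ ≫ s = f₂ ≫ s) :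
    ∃ (A' : Cpct.Pair S) (t : A' ⟶ A) (_ : Cpct.isoOpen S t), t ≫ f₁ = t ≫ f₂ := by
  have hsi : IsIso (Cpct.restr s) := hs
  have hrestr : Cpct.restr f₁ = Cpct.restr f₂ := by
    rw [← cancel_mono (Cpct.restr s), ← restr_comp, ← restr_comp, h]
  have hBp := B.isProper
  have hAp := A.isProper
  have hBsep : IsSeparated B.bar.hom := inferInstance
  let e := equalizer.ι f₁.bar f₂.bar
  have hcl : IsClosedImmersion e.left := inferInstance
  have hw : e.left ≫ A.bar.hom = (equalizer f₁.bar f₂.bar).hom := Over.w e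
  -- the section over the open part
  have hcond : (Over.homMk A.U.ι rfl : Over.mk (A.U.ι ≫ A.bar.hom) ⟶ A.bar) ≫ f₁.bar =
      (Over.homMk A.U.ι rfl : Over.mk (A.U.ι ≫ A.bar.hom) ⟶ A.bar) ≫ f₂.bar := by
    apply Over.OverMorphism.ext
    change A.U.ι ≫ f₁.bar.left = A.U.ι ≫ f₂.bar.left
    rw [← restr_ι, ← restr_ι, hrestr]
  let a₀ : Over.mk (A.U.ι ≫ A.bar.hom) ⟶ A.bar := Over.homMk A.U.ι rfl
  let k₀ : Over.mk (A.U.ι ≫ A.bar.hom) ⟶ equalizer f₁.bar f₂.bar :=
    equalizer.lift a₀ hcond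
  have hk₀ : k₀.left ≫ e.left = A.U.ι := by
    have := congrArg (fun φ => φ.left) (equalizer.lift_ι a₀ hcond)
    exact this
  let U' : (equalizer f₁.bar f₂.bar).left.Opens := e.left ⁻¹ᵁ A.U
  have hkU : ∀ x, k₀.left x ∈ U' := by
    intro x
    change e.left (k₀.left x) ∈ A.U
    rw [← Scheme.Hom.comp_apply, hk₀]
    exact x.2
  let A' : Cpct.Pair S :=
    { bar := equalizer f₁.bar f₂.bar
      U := U'
      isProper := by
        rw [← hw]
        infer_instance
      isCompact := QuasiCompact.isCompact_preimage (f := e.left) _ A.U.isOpen A.isCompact }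
  let t : A' ⟶ A :=
    { bar := e
      le := fun x hx => hx }
  refine ⟨A', t, ?_, ?_⟩
  · refine isoOpen_of_inverse t k₀.left hk₀ hkU ?_
    have hmono : Mono e.left := inferInstance
    rw [← cancel_mono e.left, Category.assoc, hk₀]
    exact restr_ι t
  · apply Cpct.Pair.Hom.ext
    exact equalizer.condition f₁.bar f₂.bar

theorem hasRightCalculusOfFractions_isoOpen (S : Scheme.{u}) :
    (Cpct.isoOpen S).HasRightCalculusOfFractions where
  exists_rightFraction := fun X Y φ => by
    obtain ⟨A', t, ht, g, hg⟩ := exists_rightFraction φ.f φ.s φ.hs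
    exact ⟨⟨t, ht, g⟩, hg⟩
  ext := fun X Y Y' f₁ f₂ s hs h => exists_equalizing f₁ f₂ s hs h

end Groth.Agent.Lib.Helper14.CpctLoc
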