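import Mathlib
import Groth.Prelude.Def_W4stkflatp2Cpct
import Groth.Agent.Lib.Helper14.Cpct1

/-!
# Compactifications: graph fractions and equalizing morphisms (helper14)
-/

set_option autoImplicit false
universe u
open CategoryTheory CategoryTheory.Limits AlgebraicGeometry Opposite

namespace Groth.Agent.Lib.Helper14.CpctLoc

variable {S : Scheme.{u}}

theorem exists_equalizing_of_restr_eq {A B : Cpct.Pair S} (f₁ f₂ : A ⟶ B)
    (hrestr : Cpct.restr f₁ = Cpct.restr f₂) :
    ∃ (A' : Cpct.Pair S) (t : A' ⟶ A) (_ : Cpct.isoOpen S t), t ≫ f₁ = t ≫ f₂ := by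
  have hBp := B.isProper
  have hAp := A.isProper
  have hBsep : IsSeparated B.bar.hom := inferInstance
  let e := equalizer.ι f₁.bar f₂.bar
  have hcl : IsClosedImmersion e.left := inferInstance
  have hw : e.left ≫ A.bar.hom = (equalizer f₁.bar f₂.bar).hom := Over.w e
  have hcond : (Over.homMk A.U.ι rfl : Over.mk (A.U.ι ≫ A.bar.hom) ⟶ A.bar) ≫ f₁.bar =
      (Over.homMk A.U.ι rfl : Over.mk (A.U.ι ≫ A.bar.hom) ⟶ A.bar) ≫ f₂.bar := by
    apply Over.OverMorphism.ext
    change A.U.ι ≫ f₁.bar.left = A.U.ι ≫ f₂.bar.left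
    rw [← restr_ι, ← restr_ι, hrestr]
  let a₀ : Over.mk (A.U.ι ≫ A.bar.hom) ⟶ A.bar := Over.homMk A.U.ι rfl
  let k₀ : Over.mk (A.U.ι ≫ A.bar.hom) ⟶ equalizer f₁.bar f₂.bar :=
    equalizer.lift a₀ hcond
  have hk₀ : k₀.left ≫ e.left = A.U.ι := by
    have := congrArg (fun φ => φ.left) (equalizer.lift_ι a₀ hcond)
    exact this
  let U' : (equalizer f₁.bar f₂.bar).left.Opens := e.left ⁻¹ᵁ A.U
  have hkU : ∀ x, k₀.left x ∈ U' := by
    intro x
    change e.left (k₀.left x) ∈ A.U
    rw [← Scheme.Hom.comp_apply, hk₀]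
    exact x.2
  let A' : Cpct.Pair S :=
    { bar := equalizer f₁.bar f₂.bar
      U := U'
      isProper := by
        rw [← hw]
        infer_instance
      isCompact := QuasiCompact.isCompact_preimage (f := e.left) _ A.U.isOpen A.isCompact }
  let t : A' ⟶ A :=
    { bar := e
      le := fun x hx => hx }
  refine ⟨A', t, ?_, ?_⟩
  · refine isoOpen_of_inverse t k₀.left hk₀ hkU ?_
    have hmono : Mono e.left := inferInstance
    rw [← cancel_mono e.left, Category.assoc, hk₀]
    exact restr_ι t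
  · apply Cpct.Pair.Hom.ext
    exact equalizer.condition f₁.bar f₂.bar

/-- Every morphism between the open parts over `S` is a right fraction: the closure of the
graph. -/
theorem exists_graph_fraction [QuasiSeparatedSpace S] {A B : Cpct.Pair S}
    (ψ : (A.U : Scheme.{u}) ⟶ (B.U : Scheme.{u}))
    (hψ : ψ ≫ B.U.ι ≫ B.bar.hom = A.U.ι ≫ A.bar.hom) :
    ∃ (A' : Cpct.Pair S) (t : A' ⟶ A) (_ : Cpct.isoOpen S t) (g : A' ⟶ B),
      Cpct.restr g = Cpct.restr t ≫ ψ := by
  have hAp := A.isProper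
  have hBp := B.isProper
  let P := pullback A.bar.hom B.bar.hom
  let γ : (A.U : Scheme.{u}) ⟶ P := pullback.lift A.U.ι (ψ ≫ B.U.ι) (by
    rw [Category.assoc, hψ])
  have hγ1 : γ ≫ pullback.fst A.bar.hom B.bar.hom = A.U.ι := pullback.lift_fst _ _ _
  have hγ2 : γ ≫ pullback.snd A.bar.hom B.bar.hom = ψ ≫ B.U.ι := pullback.lift_snd _ _ _
  have himm : IsImmersion γ := by
    have : IsImmersion (γ ≫ pullback.fst A.bar.hom B.bar.hom) := by
      rw [hγ1]
      infer_instance
    exact IsImmersion.of_comp γ (pullback.fst A.bar.hom B.bar.hom)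
  have hc : CompactSpace (A.U : Scheme.{u}) := isCompact_iff_compactSpace.mp A.isCompact
  have hPS : IsProper (pullback.fst A.bar.hom B.bar.hom ≫ A.bar.hom) := inferInstance
  have hPqs : QuasiSeparatedSpace P :=
    quasiSeparatedSpace_of_quasiSeparated (pullback.fst A.bar.hom B.bar.hom ≫ A.bar.hom)
  have hqc : QuasiCompact γ := inferInstance
  let j := γ.toImage.isoOpensRange
  have hj : j.hom ≫ γ.toImage.opensRange.ι = γ.toImage := Scheme.Hom.isoOpensRange_hom_ι _
  have hti : γ.toImage ≫ γ.imageι = γ := γ.toImage_imageι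
  let A' : Cpct.Pair S :=
    { bar := Over.mk (γ.imageι ≫ pullback.fst A.bar.hom B.bar.hom ≫ A.bar.hom)
      U := γ.toImage.opensRange
      isProper := by
        change IsProper (γ.imageι ≫ pullback.fst A.bar.hom B.bar.hom ≫ A.bar.hom)
        infer_instance
      isCompact := by
        change IsCompact (Set.range γ.toImage)
        exact isCompact_range γ.toImage.continuous }
  let t : A' ⟶ A :=
    { bar := Over.homMk (γ.imageι ≫ pullback.fst A.bar.hom B.bar.hom) (by
        change (γ.imageι ≫ pullback.fst A.bar.hom B.bar.hom) ≫ A.bar.hom =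
          γ.imageι ≫ pullback.fst A.bar.hom B.bar.hom ≫ A.bar.hom
        rw [Category.assoc])
      le := by
        rintro _ ⟨a, rfl⟩
        change (γ.imageι ≫ pullback.fst A.bar.hom B.bar.hom) (γ.toImage a) ∈ A.U
        rw [← Scheme.Hom.comp_apply, ← Category.assoc, hti, hγ1]
        exact a.2 }
  let g : A' ⟶ B :=
    { bar := Over.homMk (γ.imageι ≫ pullback.snd A.bar.hom B.bar.hom) (by
        change (γ.imageι ≫ pullback.snd A.bar.hom B.bar.hom) ≫ B.bar.hom =
          γ.imageι ≫ pullback.fst A.bar.hom B.bar.hom ≫ A.bar.hom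
        rw [Category.assoc, pullback.condition])
      le := by
        rintro _ ⟨a, rfl⟩
        change (γ.imageι ≫ pullback.snd A.bar.hom B.bar.hom) (γ.toImage a) ∈ B.U
        rw [← Scheme.Hom.comp_apply, ← Category.assoc, hti, hγ2, Scheme.Hom.comp_apply]
        exact (ψ a).2 }
  have ht1 : j.hom ≫ Cpct.restr t = 𝟙 _ := by
    rw [← cancel_mono A.U.ι, Category.assoc, restr_ι, ← Category.assoc, hj, Category.id_comp]
    change γ.toImage ≫ γ.imageι ≫ pullback.fst A.bar.hom B.bar.hom = _
    rw [← Category.assoc, hti, hγ1]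
  have hg1 : j.hom ≫ Cpct.restr g = ψ := by
    rw [← cancel_mono B.U.ι, Category.assoc, restr_ι, ← Category.assoc, hj]
    change γ.toImage ≫ γ.imageι ≫ pullback.snd A.bar.hom B.bar.hom = _
    rw [← Category.assoc, hti, hγ2]
  refine ⟨A', t, ?_, g, ?_⟩
  · have : Cpct.restr t = j.inv := by
      rw [← cancel_epi j.hom, ht1, Iso.hom_inv_id]
    change IsIso (Cpct.restr t)
    rw [this]
    infer_instance
  · rw [← cancel_epi j.hom, hg1, ← Category.assoc, ht1, Category.id_comp]

end Groth.Agent.Lib.Helper14.CpctLoc
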