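import Mathlib
import Groth.Prelude.Def_W4stkflatp2Cpct
import Groth.Agent.Lib.Helper14.Cpct2

/-!
# The open-part functor on compactifications is a localization (helper14)
-/

set_option autoImplicit false
universe u
open CategoryTheory CategoryTheory.Limits AlgebraicGeometry Opposite

namespace Groth.Agent.Lib.Helper14.CpctLoc

variable (S : Scheme.{u})

theorem isInvertedBy_openFunctor : (Cpct.isoOpen S).IsInvertedBy (Cpct.openFunctor S) := by
  intro A B f hf
  have hf' : IsIso (Cpct.restr f) := hf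
  have h1 : IsIso ((Cpct.openOver (S := S)).map f) := by
    have : IsIso ((Over.forget S).map ((Cpct.openOver (S := S)).map f)) := hf'
    exact isIso_of_reflects_iso _ (Over.forget S)
  have h2 : IsIso ((ObjectProperty.ι (Cpct.IsCompactifyable S)).map
      ((Cpct.openFunctor S).map f)) := h1
  exact isIso_of_reflects_iso _ (ObjectProperty.ι (Cpct.IsCompactifyable S))

theorem openFunctor_map_hom_left {A B : Cpct.Pair S} (f : A ⟶ B) :
    ((Cpct.openFunctor S).map f).hom.left = Cpct.restr f := rfl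

theorem cfy_hom_ext {X Y : Cpct.Cfy S} (f g : X ⟶ Y) (h : f.hom.left = g.hom.left) : f = g := by
  apply InducedCategory.hom_ext
  exact Over.OverMorphism.ext h

theorem isLocalization_openFunctor [QuasiSeparatedSpace S] :
    (Cpct.openFunctor S).IsLocalization (Cpct.isoOpen S) := by
  have hcalc := hasRightCalculusOfFractions_isoOpen S
  have hG := isInvertedBy_openFunctor S
  let L := (Cpct.isoOpen S).Q
  let Gb : (Cpct.isoOpen S).Localization ⥤ Cpct.Cfy S :=
    Localization.lift (Cpct.openFunctor S) hG L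
  let e : L ⋙ Gb ≅ Cpct.openFunctor S := Localization.fac (Cpct.openFunctor S) hG L
  have key : ∀ {X Y : Cpct.Pair S} (h : X ⟶ Y),
      Gb.map (L.map h) = e.hom.app X ≫ (Cpct.openFunctor S).map h ≫ e.inv.app Y := by
    intro X Y h
    have := e.hom.naturality h
    rw [← Category.assoc, ← this, Category.assoc, Iso.hom_inv_id_app, Category.comp_id]
    rfl
  have key' : ∀ {X Y : Cpct.Pair S} (h₁ h₂ : X ⟶ Y), Gb.map (L.map h₁) = Gb.map (L.map h₂) →
      Cpct.restr h₁ = Cpct.restr h₂ := by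
    intro X Y h₁ h₂ hh
    rw [key, key, cancel_epi, cancel_mono] at hh
    exact congrArg (fun φ => φ.hom.left) hh
  have hfaith : ∀ (A B : Cpct.Pair S) (g₁ g₂ : L.obj A ⟶ L.obj B),
      Gb.map g₁ = Gb.map g₂ → g₁ = g₂ := by
    intro A B g₁ g₂ hg
    obtain ⟨φ₁, h₁⟩ := Localization.exists_rightFraction L (Cpct.isoOpen S) g₁
    obtain ⟨φ₂, h₂⟩ := Localization.exists_rightFraction L (Cpct.isoOpen S) g₂
    obtain ⟨A', t, ht, g, htg⟩ := exists_rightFraction φ₁.s φ₂.s φ₂.hs
    have hσ : Cpct.isoOpen S (t ≫ φ₁.s) :=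
      (Cpct.isoOpen S).comp_mem _ _ ht φ₁.hs
    have hσi : IsIso (L.map (t ≫ φ₁.s)) := Localization.inverts L (Cpct.isoOpen S) _ hσ
    have e1 : L.map (t ≫ φ₁.s) ≫ g₁ = L.map (t ≫ φ₁.f) := by
      rw [h₁, L.map_comp, Category.assoc, MorphismProperty.RightFraction.map_s_comp_map,
        ← L.map_comp]
    have e2 : L.map (t ≫ φ₁.s) ≫ g₂ = L.map (g ≫ φ₂.f) := by
      rw [htg, h₂, L.map_comp, Category.assoc, MorphismProperty.RightFraction.map_s_comp_map,
        ← L.map_comp]
    have e3 : Gb.map (L.map (t ≫ φ₁.f)) = Gb.map (L.map (g ≫ φ₂.f)) := by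
      rw [← e1, ← e2, Gb.map_comp, Gb.map_comp, hg]
    have e4 := key' _ _ e3
    obtain ⟨A'', t', ht', hcomp⟩ := exists_equalizing_of_restr_eq _ _ e4
    have e5 : L.map (t ≫ φ₁.f) = L.map (g ≫ φ₂.f) :=
      (MorphismProperty.map_eq_iff_precomp L (Cpct.isoOpen S) _ _).mpr ⟨A'', t', ht', hcomp⟩
    rw [← cancel_epi (L.map (t ≫ φ₁.s)), e1, e2, e5]
  have hfull : ∀ (A B : Cpct.Pair S) (φ : Gb.obj (L.obj A) ⟶ Gb.obj (L.obj B)),
      ∃ g : L.obj A ⟶ L.obj B, Gb.map g = φ := by
    intro A B φ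
    let φ' : (Cpct.openFunctor S).obj A ⟶ (Cpct.openFunctor S).obj B :=
      e.inv.app A ≫ φ ≫ e.hom.app B
    let ψ : (A.U : Scheme.{u}) ⟶ (B.U : Scheme.{u}) := φ'.hom.left
    have hψ : ψ ≫ B.U.ι ≫ B.bar.hom = A.U.ι ≫ A.bar.hom := Over.w φ'.hom
    obtain ⟨A', t, ht, g, hg⟩ := exists_graph_fraction ψ hψ
    have hti : IsIso (L.map t) := Localization.inverts L (Cpct.isoOpen S) _ ht
    refine ⟨inv (L.map t) ≫ L.map g, ?_⟩
    have hGg : (Cpct.openFunctor S).map g = (Cpct.openFunctor S).map t ≫ φ' := by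
      apply cfy_hom_ext
      exact hg
    have hφ : φ = e.hom.app A ≫ φ' ≫ e.inv.app B := by
      change φ = e.hom.app A ≫ (e.inv.app A ≫ φ ≫ e.hom.app B) ≫ e.inv.app B
      simp only [Category.assoc, Iso.hom_inv_id_app, Iso.hom_inv_id_app_assoc]
      exact (Category.comp_id φ).symm
    rw [Gb.map_comp, Functor.map_inv, IsIso.inv_comp_eq, key, key, hGg, hφ]
    simp only [Category.assoc, Iso.inv_hom_id_app_assoc]
  have hL : L.EssSurj := Localization.essSurj L (Cpct.isoOpen S)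
  have h1 : Gb.Faithful := by
    constructor
    intro X Y f g hfg
    let iX := L.objObjPreimageIso X
    let iY := L.objObjPreimageIso Y
    have := hfaith _ _ (iX.hom ≫ f ≫ iY.inv) (iX.hom ≫ g ≫ iY.inv) (by
      rw [Gb.map_comp, Gb.map_comp, Gb.map_comp, Gb.map_comp, hfg])
    rw [cancel_epi, cancel_mono] at this
    exact this
  have h2 : Gb.Full := by
    constructor
    intro X Y φ
    let iX := L.objObjPreimageIso X
    let iY := L.objObjPreimageIso Y
    obtain ⟨g, hg⟩ := hfull _ _ (Gb.map iX.hom ≫ φ ≫ Gb.map iY.inv)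
    refine ⟨iX.inv ≫ g ≫ iY.hom, ?_⟩
    rw [Gb.map_comp, Gb.map_comp, hg]
    simp only [Category.assoc, ← Gb.map_comp, Iso.inv_hom_id, Gb.map_id, Category.comp_id]
    rw [← Category.assoc, ← Gb.map_comp, Iso.inv_hom_id, Gb.map_id, Category.id_comp]
  have h3 : Gb.EssSurj := by
    constructor
    intro X
    obtain ⟨A, ⟨i⟩⟩ := X.property
    exact ⟨L.obj A, ⟨e.app A ≪≫ ObjectProperty.isoMk _ i⟩⟩
  have h4 : Gb.IsEquivalence := {}
  exact Functor.IsLocalization.of_equivalence_target L (Cpct.isoOpen S) (Cpct.openFunctor S)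
    Gb.asEquivalence e

end Groth.Agent.Lib.Helper14.CpctLoc
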