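import Mathlib

/-!
# Open ideals of the completion of a Noetherian local ring come from the ring (helper14)
-/

set_option autoImplicit false

universe u

namespace Groth.Agent.Lib.Helper14.CplBl

open IsLocalRing

variable (A : Type u) [CommRing A] [IsLocalRing A] [IsNoetherianRing A]

/-- Every element of the completion is congruent to an element of `A` modulo `𝔪ⁿ`. -/
theorem exists_sub_mem (x : AdicCompletion (maximalIdeal A) A) (n : ℕ) :
    ∃ a : A, x - algebraMap A (AdicCompletion (maximalIdeal A) A) a ∈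
      ((maximalIdeal A) ^ n).map (algebraMap A (AdicCompletion (maximalIdeal A) A)) := by
  obtain ⟨a, ha⟩ := Submodule.mkQ_surjective _ (AdicCompletion.eval (maximalIdeal A) A n x)
  refine ⟨a, ?_⟩
  have h1 : x - AdicCompletion.of (maximalIdeal A) A a ∈
      LinearMap.ker (AdicCompletion.eval (maximalIdeal A) A n) := by
    rw [LinearMap.mem_ker, map_sub, AdicCompletion.eval_of, ha, sub_self]
  rw [← AdicCompletion.pow_smul_top_eq_ker_eval (maximalIdeal A).fg_of_isNoetherianRing,
    Ideal.smul_top_eq_map] at h1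
  exact h1

/-- An ideal of the completion containing a power of the maximal ideal is extended from its
contraction. -/
theorem map_comap_eq (𝔍 : Ideal (AdicCompletion (maximalIdeal A) A)) (n : ℕ)
    (h : (maximalIdeal (AdicCompletion (maximalIdeal A) A)) ^ n ≤ 𝔍) :
    (𝔍.comap (algebraMap A (AdicCompletion (maximalIdeal A) A))).map
      (algebraMap A (AdicCompletion (maximalIdeal A) A)) = 𝔍 := by
  have hm : ((maximalIdeal A) ^ n).map (algebraMap A (AdicCompletion (maximalIdeal A) A)) ≤ 𝔍 := by
    rw [Ideal.map_pow, ← AdicCompletion.maximalIdeal_eq_map]; exact h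
  apply le_antisymm Ideal.map_comap_le
  intro x hx
  obtain ⟨a, ha⟩ := exists_sub_mem A x n
  have ha' : algebraMap A (AdicCompletion (maximalIdeal A) A) a ∈ 𝔍 := by
    have := 𝔍.sub_mem hx (hm ha)
    simpa using this
  have h1 : algebraMap A (AdicCompletion (maximalIdeal A) A) a ∈
      (𝔍.comap (algebraMap A (AdicCompletion (maximalIdeal A) A))).map
        (algebraMap A (AdicCompletion (maximalIdeal A) A)) :=
    Ideal.mem_map_of_mem _ (Ideal.mem_comap.mpr ha')
  have h2 : x - algebraMap A (AdicCompletion (maximalIdeal A) A) a ∈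
      (𝔍.comap (algebraMap A (AdicCompletion (maximalIdeal A) A))).map
        (algebraMap A (AdicCompletion (maximalIdeal A) A)) :=
    Ideal.map_mono (Ideal.map_le_iff_le_comap.mp hm) ha
  have := Ideal.add_mem _ h1 h2
  simpa using this

theorem pow_le_comap (𝔍 : Ideal (AdicCompletion (maximalIdeal A) A)) (n : ℕ)
    (h : (maximalIdeal (AdicCompletion (maximalIdeal A) A)) ^ n ≤ 𝔍) :
    (maximalIdeal A) ^ n ≤ 𝔍.comap (algebraMap A (AdicCompletion (maximalIdeal A) A)) := by
  rw [← Ideal.map_le_iff_le_comap, Ideal.map_pow, ← AdicCompletion.maximalIdeal_eq_map]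
  exact h

/-- An ideal of a local ring with finitely generated maximal ideal whose zero locus is contained in
the closed point contains a power of the maximal ideal. -/
theorem exists_pow_le_of_zeroLocus {R : Type u} [CommRing R] [IsLocalRing R]
    (hfg : (maximalIdeal R).FG) (𝔍 : Ideal R)
    (h : PrimeSpectrum.zeroLocus (𝔍 : Set R) ⊆ {closedPoint R}) :
    ∃ n, (maximalIdeal R) ^ n ≤ 𝔍 := by
  apply Ideal.exists_pow_le_of_le_radical_of_fg _ hfg
  rw [Ideal.radical_eq_sInf]
  refine le_sInf ?_
  rintro P ⟨hP1, hP2⟩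
  have : (⟨P, hP2⟩ : PrimeSpectrum R) ∈ PrimeSpectrum.zeroLocus (𝔍 : Set R) := hP1
  have h2 := h this
  rw [Set.mem_singleton_iff] at h2
  have h3 : P = maximalIdeal R := congrArg PrimeSpectrum.asIdeal h2
  rw [h3]

theorem zeroLocus_subset_of_pow_le {R : Type u} [CommRing R] [IsLocalRing R] (I : Ideal R) (n : ℕ)
    (h : (maximalIdeal R) ^ n ≤ I) :
    PrimeSpectrum.zeroLocus (I : Set R) ⊆ {closedPoint R} := by
  intro P hP
  rw [Set.mem_singleton_iff]
  have h1 : I ≤ P.asIdeal := hP
  have h2 : maximalIdeal R ≤ P.asIdeal := P.2.le_of_pow_le (h.trans h1)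
  ext1
  exact ((maximalIdeal.isMaximal R).eq_of_le P.2.ne_top h2).symm

end Groth.Agent.Lib.Helper14.CplBl
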