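import Groth.Agent.Lib.Helper14.CplBl1
import Groth.Prelude.Def_Curv2
import Groth.Prelude.Def_FEt
import Groth.Prelude.Def_BlowUp2
import Groth.Agent.Lib.Helper25.ProjReesMap
import Groth.Agent.Lib.Helper25.BlowUpLocal

/-!
# Admissible blow ups of the completion of a Noetherian local ring descend (helper14)
-/

set_option autoImplicit false

universe u

namespace Groth.Agent.Lib.Helper14.CplBl

open CategoryTheory CategoryTheory.Limits AlgebraicGeometry TopologicalSpace Opposite
open IsLocalRing Groth.Agent.Lib.Helper25.BlowUpUP Groth.Agent.Lib.Helper25.ProjRees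

/-- The support of the ideal sheaf on `Spec R` attached to an ideal. -/
theorem coe_support_specIdeal {R : Type u} [CommRing R] (I : Ideal R) :
    ((specIdeal I).support : Set (Spec (CommRingCat.of R))) =
      PrimeSpectrum.zeroLocus (I : Set R) := by
  rw [Scheme.IdealSheafData.coe_support_ofIdealTop, Ideal.map, Scheme.zeroLocus_span]
  exact Spec_zeroLocus_eq_zeroLocus (R := CommRingCat.of R) (I : Set R)

/-- Every ideal sheaf on `Spec R` comes from an ideal. -/
theorem exists_eq_specIdeal {R : Type u} [CommRing R]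
    (J : (Spec (CommRingCat.of R)).IdealSheafData) : ∃ 𝔍 : Ideal R, J = specIdeal 𝔍 := by
  refine ⟨(J.ideal ⟨⊤, isAffineOpen_top _⟩).comap (Scheme.ΓSpecIso (CommRingCat.of R)).inv.hom, ?_⟩
  refine Scheme.IdealSheafData.ext_of_isAffine ?_
  rw [ofIdealTop_ideal_top, Ideal.map_comap_of_surjective]
  exact (ConcreteCategory.bijective_of_isIso (Scheme.ΓSpecIso (CommRingCat.of R)).inv).2

theorem isFiniteTypeIdeal_of_isLocallyNoetherian {X : Scheme.{u}} [IsLocallyNoetherian X]
    (𝓘 : X.IdealSheafData) : BlowUp.IsFiniteTypeIdeal 𝓘 := by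
  intro U
  have : IsNoetherianRing Γ(X, U.1) := IsLocallyNoetherian.component_noetherian U
  exact (isNoetherianRing_iff_ideal_fg _).1 inferInstance _

theorem exists_descent (A : Type u) [CommRing A] [IsLocalRing A] [IsNoetherianRing A]
    (Y : Scheme.{u}) (c : Y ⟶ Spec (CommRingCat.of (Curv2.cpl A)))
    (J : (Spec (CommRingCat.of (Curv2.cpl A))).IdealSheafData)
    (hJ : BlowUp.IsAdmissibleFor (FEt.puncturedSpec (Curv2.cpl A)) J) (hc : BlowUp.IsBlowUp c J) :
    ∃ (I : (Spec (CommRingCat.of A)).IdealSheafData) (X : Scheme.{u})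
      (b : X ⟶ Spec (CommRingCat.of A)),
      BlowUp.IsAdmissibleFor (FEt.puncturedSpec A) I ∧ BlowUp.IsBlowUp b I ∧
      ∃ e : Y ≅ Curv2.bcCpl A b, e.hom ≫ Curv2.bcCplSnd A b = c := by
  obtain ⟨𝔍, rfl⟩ := exists_eq_specIdeal J
  -- the zero locus of `𝔍` is contained in the closed point
  have hzl : PrimeSpectrum.zeroLocus (𝔍 : Set (Curv2.cpl A)) ⊆ {closedPoint (Curv2.cpl A)} := by
    intro P hP
    by_contra hne
    have h1 : P ∈ ((specIdeal 𝔍).support : Set (Spec (CommRingCat.of (Curv2.cpl A)))) := by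
      rw [coe_support_specIdeal]; exact hP
    exact Set.disjoint_left.mp hJ.2 h1 hne
  have hfg : (maximalIdeal (Curv2.cpl A)).FG := by
    rw [AdicCompletion.maximalIdeal_eq_map]
    exact ((maximalIdeal A).fg_of_isNoetherianRing).map _
  obtain ⟨n, hn⟩ := exists_pow_le_of_zeroLocus hfg 𝔍 hzl
  set I : Ideal A := 𝔍.comap (algebraMap A (Curv2.cpl A)) with hI
  have hI1 : I.map (algebraMap A (Curv2.cpl A)) = 𝔍 := map_comap_eq A 𝔍 n hn
  have hI2 : (maximalIdeal A) ^ n ≤ I := pow_le_comap A 𝔍 n hn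
  obtain ⟨X, b, hb⟩ := exists_isBlowUp (Spec (CommRingCat.of A)) (specIdeal I)
  refine ⟨specIdeal I, X, b, ⟨isFiniteTypeIdeal_of_isLocallyNoetherian _, ?_⟩, hb, ?_⟩
  · rw [Set.disjoint_left]
    intro P hP hP'
    rw [coe_support_specIdeal] at hP
    exact hP' (zeroLocus_subset_of_pow_le I n hI2 hP)
  · set g : Spec (CommRingCat.of (Curv2.cpl A)) ⟶ Spec (CommRingCat.of A) :=
      Spec.map (CommRingCat.ofHom (algebraMap A (Curv2.cpl A))) with hg
    have hflat : Flat g := by
      rw [hg, HasRingHomProperty.Spec_iff (P := @Flat)]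
      exact (RingHom.flat_algebraMap_iff).mpr inferInstance
    have h1 := isBlowUp_pullback_fst_of_flat g (specIdeal I) b hb
    rw [hg, specIdeal_comap_SpecMap I (algebraMap A (Curv2.cpl A)), hI1] at h1
    have h2 := isBlowUp_iso_comp _ _ (pullbackSymmetry b g) h1
    rw [pullbackSymmetry_hom_comp_fst] at h2
    exact exists_iso_of_isBlowUp c (pullback.snd b g) (specIdeal 𝔍) hc h2

end Groth.Agent.Lib.Helper14.CplBl
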