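import Groth.Agent.Lib.Helper14.ClosedSub
import Groth.Agent.Lib.Helper14.ReducedEtale
import Groth.Agent.Lib.Helper16.ReducedSub

/-!
# The reduced induced closed subspace structure (helper14)
-/

universe u
open CategoryTheory CategoryTheory.Limits AlgebraicGeometry Opposite Topology

namespace Groth.Agent.Lib.Helper14.AS

open AlgSp Groth.Agent.Lib.Helper14.AS
open Scheme.IdealSheafData

variable {S : Scheme.{u}}

theorem le_ker_comp_iff_comap_le {T V' V : Scheme.{u}} (K : V.IdealSheafData) (w : V' ⟶ V)
    (t : T ⟶ V') : K ≤ (t ≫ w).ker ↔ K.comap w ≤ t.ker := by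
  rw [← Scheme.IdealSheafData.map_bot, Scheme.IdealSheafData.map_comp,
    Scheme.IdealSheafData.le_map_iff_comap_le, Scheme.IdealSheafData.map_bot]

/-- Etale pullback of the reduced induced closed subscheme structure. -/
theorem comap_vanishingIdeal_of_etale {V' V : Scheme.{u}} (w : V' ⟶ V) [Etale w]
    (C : TopologicalSpace.Closeds V) :
    (vanishingIdeal C).comap w =
      vanishingIdeal ⟨w ⁻¹' (C : Set V), C.isClosed.preimage w.continuous⟩ := by
  have hred : IsReduced (vanishingIdeal C).subscheme :=
    Groth.Agent.Lib.Helper16.isReduced_subscheme_vanishingIdeal C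
  have : IsReduced (pullback w (vanishingIdeal C).subschemeι) :=
    Groth.Agent.Lib.Helper14.isReduced_of_etale_scheme
      (pullback.snd w (vanishingIdeal C).subschemeι)
  change (pullback.fst w (vanishingIdeal C).subschemeι).ker = _
  rw [Groth.Agent.Lib.Helper16.ker_eq_vanishingIdeal_of_isReduced]
  congr 1
  ext1
  change closure (Set.range (pullback.fst w (vanishingIdeal C).subschemeι)) = w ⁻¹' (C : Set V)
  rw [Scheme.Pullback.range_fst, Scheme.IdealSheafData.range_subschemeι,
    Scheme.IdealSheafData.coe_support_vanishingIdeal]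
  exact (C.isClosed.preimage w.continuous).closure_eq

/-- The preimage of a closed set of points in a chart. -/
def preT {X : Sp S} (T : Set (Points X)) (hT : IsClosed T) {V : Over S}
    (b : (yon S).obj V ⟶ X) : TopologicalSpace.Closeds V.left :=
  ⟨Points.ofPt b ⁻¹' T, hT.preimage (Points.continuous_ofPt b)⟩

theorem preT_comp {X : Sp S} (T : Set (Points X)) (hT : IsClosed T) {V V' : Over S}
    (b : (yon S).obj V ⟶ X) (w : V' ⟶ V) :
    preT T hT ((yon S).map w ≫ b) =
      ⟨w.left ⁻¹' (preT T hT b : Set V.left), (preT T hT b).isClosed.preimage w.left.continuous⟩ := by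
  ext1
  ext x
  change Points.ofPt ((yon S).map w ≫ b) x ∈ T ↔ Points.ofPt b (w.left x) ∈ T
  rw [ofPt_yon_map_comp]

/-- The family of vanishing ideals of the preimages of a closed set of points. -/
noncomputable def redFam {X : Sp S} (T : Set (Points X)) (hT : IsClosed T) : IdealFam X where
  A _ := True
  hA V x := ⟨⊤, trivial, trivial⟩
  K V b := vanishingIdeal (preT T hT b)
  compat V₀ V _ _ b₀ b hb₀ hb T' t₀ v h := by
    have sq := hb.rep.isPullback b₀
    obtain ⟨π₁, hπ₁⟩ := (yon S).map_surjective (hb.rep.fst b₀)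
    rw [← hπ₁] at sq
    have e0 : Etale (hb.rep.snd b₀).left := hb.property_snd b₀
    have e1 : Etale π₁.left := hb₀.property b _ _ sq.flip
    obtain ⟨τ, hτ⟩ := (yon S).map_surjective (sq.lift ((yon S).map v) ((yon S).map t₀) h.symm)
    have h1 : τ ≫ π₁ = v := by
      apply (yon S).map_injective
      rw [Functor.map_comp, hτ, sq.lift_fst]
    have h0 : τ ≫ hb.rep.snd b₀ = t₀ := by
      apply (yon S).map_injective
      rw [Functor.map_comp, hτ, sq.lift_snd]
    rw [← h0, ← h1, Over.comp_left, Over.comp_left, le_ker_comp_iff_comap_le,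
      le_ker_comp_iff_comap_le, comap_vanishingIdeal_of_etale, comap_vanishingIdeal_of_etale,
      ← preT_comp, ← preT_comp, sq.w]

set_option backward.isDefEq.respectTransparency.types false in
/-- Existence of the reduced induced closed subspace structure on a closed set of points. -/
theorem isRedInduced_redFam {X : Sp S} (hX : IsAlgSpace X) (T : Set (Points X))
    (hT : IsClosed T) :
    IsAlgSpace (redFam T hT).pred.sheaf ∧ IsRedInduced T (redFam T hT).pred.ι := by
  set F := redFam T hT with hF
  refine ⟨F.isAlgSpace hX, F.repWith hX, ?_, ?_⟩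
  · obtain ⟨V, φ, hφe, hφs⟩ := hX.atlas
    obtain ⟨fst, sq⟩ := F.exists_isPullback trivial φ hφe
    have hrange : Set.range (subOverι (F.K φ)).left = Points.ofPt φ ⁻¹' T := by
      change Set.range (F.K φ).subschemeι = _
      rw [Scheme.IdealSheafData.range_subschemeι]
      exact Scheme.IdealSheafData.coe_support_vanishingIdeal _
    apply Set.Subset.antisymm
    · rintro _ ⟨z, rfl⟩
      obtain ⟨v, hv⟩ := ofPt_surjective_of_repWith hφs (Points.map F.pred.ι z)
      have e : Points.map F.pred.ι z = Points.map φ (Points.schemeHomeo _ v) := by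
        rw [← hv, Points.ofPt_eq_map_ofScheme]
        rfl
      obtain ⟨zV, -, hzV⟩ := points_exists_of_isPullback sq z _ e
      obtain ⟨zV', rfl⟩ := (Points.schemeHomeo _).surjective zV
      have hzV' : (subOverι (F.K φ)).left zV' = v := by
        apply (Points.schemeHomeo _).injective
        rw [← hzV]
        exact (Points.map_yon_map_apply _ _).symm
      have : v ∈ Points.ofPt φ ⁻¹' T := by
        rw [← hrange]
        exact ⟨zV', hzV'⟩
      rw [← hv]
      exact this
    · intro x hx
      obtain ⟨v, rfl⟩ := ofPt_surjective_of_repWith hφs x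
      have : v ∈ Set.range (subOverι (F.K φ)).left := by
        rw [hrange]
        exact hx
      obtain ⟨v', rfl⟩ := this
      refine ⟨Points.ofPt fst v', ?_⟩
      rw [Points.map_ofPt, sq.w, ofPt_yon_map_comp]
  · obtain ⟨V, φ, hφe, hφs⟩ := hX.atlas
    obtain ⟨fst, sq⟩ := F.exists_isPullback trivial φ hφe
    refine ⟨subOver (F.K φ), fst, repWith_of_isPullback _ sq.flip hφe,
      repWith_of_isPullback _ sq.flip hφs, ?_⟩
    exact Groth.Agent.Lib.Helper16.isReduced_subscheme_vanishingIdeal _

end Groth.Agent.Lib.Helper14.AS
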