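import Groth.Agent.Lib.Helper14.SchImg10
import Groth.Agent.Lib.Helper14.ClosedSub
import Groth.Agent.Lib.Helper14.RedInd
import Groth.Prelude.Def_AlgSpModX

universe u
open CategoryTheory CategoryTheory.Limits AlgebraicGeometry Opposite Topology

namespace Groth.Agent.Lib.Helper14.AS

open AlgSp Groth.Agent.Lib.Helper14.AS

variable {S : Scheme.{u}}

theorem ofIdealTop_le_ker_iff {T V : Scheme.{u}} [IsAffine V] (t : T ⟶ V) (𝔞 : Ideal Γ(V, ⊤)) :
    Scheme.IdealSheafData.ofIdealTop 𝔞 ≤ t.ker ↔ 𝔞 ≤ RingHom.ker t.appTop.hom := by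
  rw [Scheme.ker_of_isAffine]
  exact map_le_map_iff (Scheme.IdealSheafData.equivOfIsAffine (X := V)).symm

theorem ideal_comap_ofIdealTop {P V : Scheme.{u}} [IsAffine V] (p : P ⟶ V) (𝔞 : Ideal Γ(V, ⊤))
    (W : P.affineOpens) (e : W.1 ≤ p ⁻¹ᵁ ⊤) :
    ((Scheme.IdealSheafData.ofIdealTop 𝔞).comap p).ideal W =
      𝔞.map (p.appLE ⊤ W.1 e).hom := by
  rw [Groth.Agent.Lib.Helper1.ideal_comap _ p W ⟨⊤, isAffineOpen_top V⟩ e]
  simp

theorem comp_appTop_eq_appLE {P V : Scheme.{u}} (p : P ⟶ V) (W : P.Opens) (e : W ≤ p ⁻¹ᵁ ⊤) :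
    (W.ι ≫ p).appTop = p.appLE ⊤ W e ≫ W.topIso.inv := by
  rw [Scheme.Hom.comp_appTop, Scheme.Opens.ι_appTop, Scheme.Opens.topIso_inv]
  unfold Scheme.Hom.appLE
  erw [Category.assoc, ← Functor.map_comp]
  rfl

theorem map_comp_topIso {R : CommRingCat.{u}} {P : Scheme.{u}} (W : P.Opens)
    (φ : R ⟶ Γ(P, W)) (J : Ideal R) :
    (J.map (φ ≫ W.topIso.inv).hom).map W.topIso.hom.hom = J.map φ.hom := by
  rw [Ideal.map_map]
  congr 1
  rw [← CommRingCat.hom_comp, Category.assoc, Iso.inv_hom_id, Category.comp_id]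

set_option backward.isDefEq.respectTransparency.types false in
theorem map_appLE_eq_of_isQCoh {X : Sp S} (I : IdealEt X) (hI : I.IsQCoh) {V₀ P : Over S}
    (hV₀ : IsAffine V₀.left) (b₀ : (yon S).obj V₀ ⟶ X) (hb₀ : RepWith @Etale b₀)
    (p₀ : P ⟶ V₀) [Etale p₀.left] (W : P.left.affineOpens) (e : W.1 ≤ p₀.left ⁻¹ᵁ ⊤) :
    (I.ideal (EtOver.mk b₀ hb₀) hV₀).map (p₀.left.appLE ⊤ W.1 e).hom =
      (I.ideal (EtOver.mk ((yon S).map (openSubι P W.1 ≫ p₀) ≫ b₀)
        (repWith_comp _ ((repWith_yon_map_iff _ _).2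
          (inferInstanceAs (Etale ((openSubι P W.1).left ≫ p₀.left)))) hb₀)) W.2).map
        W.1.topIso.hom.hom := by
  set EW := EtOver.mk ((yon S).map (openSubι P W.1 ≫ p₀) ≫ b₀)
        (repWith_comp _ ((repWith_yon_map_iff _ _).2
          (inferInstanceAs (Etale ((openSubι P W.1).left ≫ p₀.left)))) hb₀) with hEW
  let g₀ : EW ⟶ EtOver.mk b₀ hb₀ := EtOver.homMk (openSubι P W.1 ≫ p₀) rfl
  have e₀ : I.ideal EW W.2 = (I.ideal (EtOver.mk b₀ hb₀) hV₀).map g₀.hom.left.left.appTop.hom :=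
    le_antisymm (hI g₀ hV₀ W.2) (I.map_le g₀ hV₀ W.2)
  have h1 : g₀.hom.left.left.appTop = p₀.left.appLE ⊤ W.1 e ≫ W.1.topIso.inv :=
    comp_appTop_eq_appLE p₀.left W.1 e
  rw [e₀, h1]
  exact (map_comp_topIso W.1 _ _).symm

theorem ideal_mk_congr {X : Sp S} (I : IdealEt X) {U : Over S} {a a' : (yon S).obj U ⟶ X}
    (h : a = a') (ha : RepWith @Etale a) (ha' : RepWith @Etale a') (hU : IsAffine U.left) :
    I.ideal (EtOver.mk a ha) hU = I.ideal (EtOver.mk a' ha') hU := by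
  subst h
  rfl

set_option backward.isDefEq.respectTransparency.types false in
theorem comap_eq_of_isQCoh {X : Sp S} (I : IdealEt X) (hI : I.IsQCoh) {V₀ V P : Over S}
    (hV₀ : IsAffine V₀.left) (hV : IsAffine V.left)
    (b₀ : (yon S).obj V₀ ⟶ X) (b : (yon S).obj V ⟶ X) (hb₀ : RepWith @Etale b₀)
    (hb : RepWith @Etale b) (p₀ : P ⟶ V₀) (p : P ⟶ V) [Etale p₀.left] [Etale p.left]
    (h : (yon S).map p₀ ≫ b₀ = (yon S).map p ≫ b) :
    (Scheme.IdealSheafData.ofIdealTop (I.ideal (EtOver.mk b₀ hb₀) hV₀)).comap p₀.left =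
      (Scheme.IdealSheafData.ofIdealTop (I.ideal (EtOver.mk b hb) hV)).comap p.left := by
  apply Scheme.IdealSheafData.ext
  funext W
  rw [@ideal_comap_ofIdealTop _ _ hV₀ p₀.left _ W le_top,
    @ideal_comap_ofIdealTop _ _ hV p.left _ W le_top,
    map_appLE_eq_of_isQCoh I hI hV₀ b₀ hb₀ p₀ W, map_appLE_eq_of_isQCoh I hI hV b hb p W]
  congr 1
  exact ideal_mk_congr I (by
    rw [Functor.map_comp, Category.assoc, h, Functor.map_comp, Category.assoc]) _ _ _

open Classical in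
set_option backward.isDefEq.respectTransparency.types false in
/-- The family of ideals on affine etale charts given by a quasi-coherent ideal of the small
etale site. -/
noncomputable def famOfIdealEt {X : Sp S} (I : IdealEt X) (hI : I.IsQCoh) : IdealFam X where
  A V := IsAffine V.left
  hA V x := by
    obtain ⟨_, ⟨O, hO, rfl⟩, hxO, -⟩ :=
      V.left.isBasis_affineOpens.exists_subset_of_mem_open (Set.mem_univ x) isOpen_univ
    exact ⟨O, hxO, hO⟩
  K V b := if h : RepWith @Etale b ∧ IsAffine V.left then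
      Scheme.IdealSheafData.ofIdealTop (I.ideal (EtOver.mk b h.1) h.2) else ⊥
  compat V₀ V hV₀ hV b₀ b hb₀ hb T' t₀ v h := by
    rw [dif_pos ⟨hb₀, hV₀⟩, dif_pos ⟨hb, hV⟩]
    have sq := hb.rep.isPullback b₀
    obtain ⟨π₁, hπ₁⟩ := (yon S).map_surjective (hb.rep.fst b₀)
    rw [← hπ₁] at sq
    have e0 : Etale (hb.rep.snd b₀).left := hb.property_snd b₀
    have e1 : Etale π₁.left := hb₀.property b _ _ sq.flip
    obtain ⟨τ, hτ⟩ := (yon S).map_surjective (sq.lift ((yon S).map v) ((yon S).map t₀) h.symm)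
    have h1 : τ ≫ π₁ = v := by
      apply (yon S).map_injective
      rw [Functor.map_comp, hτ, sq.lift_fst]
    have h0 : τ ≫ hb.rep.snd b₀ = t₀ := by
      apply (yon S).map_injective
      rw [Functor.map_comp, hτ, sq.lift_snd]
    rw [← h0, ← h1, Over.comp_left, Over.comp_left, le_ker_comp_iff_comap_le,
      le_ker_comp_iff_comap_le,
      comap_eq_of_isQCoh I hI hV₀ hV b₀ b hb₀ hb (hb.rep.snd b₀) π₁ sq.w.symm]

theorem ker_le_of_isPullback {X Y : Sp S} {f : X ⟶ Y} {V W₁ W₂ : Over S}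
    {b : (yon S).obj V ⟶ Y} {fst₁ : (yon S).obj W₁ ⟶ X} {fst₂ : (yon S).obj W₂ ⟶ X}
    {r₁ : W₁ ⟶ V} {r₂ : W₂ ⟶ V} (sq₁ : IsPullback fst₁ ((yon S).map r₁) f b)
    (sq₂ : IsPullback fst₂ ((yon S).map r₂) f b) : r₂.left.ker ≤ r₁.left.ker := by
  obtain ⟨l, hl⟩ := (yon S).map_surjective (sq₂.lift fst₁ ((yon S).map r₁) sq₁.w)
  have : l ≫ r₂ = r₁ := by
    apply (yon S).map_injective
    rw [Functor.map_comp, hl, sq₂.lift_snd]
  rw [← this, Over.comp_left]
  exact Scheme.Hom.le_ker_comp _ _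

theorem ker_eq_of_isPullback {X Y : Sp S} {f : X ⟶ Y} {V W₁ W₂ : Over S}
    {b : (yon S).obj V ⟶ Y} {fst₁ : (yon S).obj W₁ ⟶ X} {fst₂ : (yon S).obj W₂ ⟶ X}
    {r₁ : W₁ ⟶ V} {r₂ : W₂ ⟶ V} (sq₁ : IsPullback fst₁ ((yon S).map r₁) f b)
    (sq₂ : IsPullback fst₂ ((yon S).map r₂) f b) : r₁.left.ker = r₂.left.ker :=
  le_antisymm (ker_le_of_isPullback sq₂ sq₁) (ker_le_of_isPullback sq₁ sq₂)

set_option backward.isDefEq.respectTransparency.types false in
/-- Every quasi-coherent ideal of the small etale site cuts out a closed subspace. -/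
theorem isCutOutBy_famOfIdealEt {X : Sp S} (hX : IsAlgSpace X) (I : IdealEt X) (hI : I.IsQCoh) :
    IsCutOutBy I (famOfIdealEt I hI).pred.ι := by
  refine ⟨(famOfIdealEt I hI).repWith hX, ?_⟩
  apply IdealEt.ext
  funext E hE
  obtain ⟨fst, sq⟩ := (famOfIdealEt I hI).exists_isPullback hE E.obj.hom E.property
  have h1 := ker_eq_of_isPullback (((famOfIdealEt I hI).repWith hX).1.isPullback E.obj.hom) sq
  have h2 : (subOverι ((famOfIdealEt I hI).K E.obj.hom)).left.ker =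
      (famOfIdealEt I hI).K E.obj.hom := Scheme.IdealSheafData.ker_subschemeι _
  have h3 : (famOfIdealEt I hI).K E.obj.hom =
      Scheme.IdealSheafData.ofIdealTop (I.ideal E hE) := dif_pos ⟨E.property, hE⟩
  rw [h2, h3, Scheme.ker_of_isAffine] at h1
  exact (Scheme.IdealSheafData.equivOfIsAffine (X := E.obj.left.left)).symm.injective h1

end Groth.Agent.Lib.Helper14.AS
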