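import Groth.Agent.Lib.Helper14.CutOut1
import Groth.Agent.Lib.Helper14.RedInd2

universe u
open CategoryTheory CategoryTheory.Limits AlgebraicGeometry Opposite Topology

namespace Groth.Agent.Lib.Helper14.AS

open AlgSp Groth.Agent.Lib.Helper14.AS

variable {S : Scheme.{u}}

theorem ker_le_ker_iff_of_isAffine {W₁ W₂ V : Scheme.{u}} [IsAffine V] (r₁ : W₁ ⟶ V)
    (r₂ : W₂ ⟶ V) :
    r₁.ker ≤ r₂.ker ↔ RingHom.ker r₁.appTop.hom ≤ RingHom.ker r₂.appTop.hom := by
  rw [Scheme.ker_of_isAffine r₁, ofIdealTop_le_ker_iff]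

set_option backward.isDefEq.respectTransparency.types false in
theorem ker_le_of_factors {Y Z' : Sp S} (i' : Z' ⟶ Y) (hi' : RepWith @IsClosedImmersion i')
    {V T : Over S} (b : (yon S).obj V ⟶ Y) (t : T ⟶ V)
    (h : ∃ l : (yon S).obj T ⟶ Z', l ≫ i' = (yon S).map t ≫ b) :
    (hi'.rep.snd b).left.ker ≤ t.left.ker := by
  obtain ⟨l, hl⟩ := h
  have sq := hi'.rep.isPullback b
  obtain ⟨k, hk⟩ := (yon S).map_surjective (sq.lift l ((yon S).map t) hl)
  have : k ≫ hi'.rep.snd b = t := by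
    apply (yon S).map_injective
    rw [Functor.map_comp, hk, sq.lift_snd]
  rw [← this, Over.comp_left]
  exact Scheme.Hom.le_ker_comp _ _

set_option backward.isDefEq.respectTransparency.types false in
/-- A point of `X` factors through the closed subspace cut out by `I` iff `I` is contained in its
kernel family. -/
theorem factors_iff_le_idealOfRep {Z X : Sp S} (hX : IsAlgSpace X) (i : Z ⟶ X) (I : IdealEt X)
    (hZ : IsCutOutBy I i) {T : Over S} (h : (yon S).obj T ⟶ X) (hh : Representable h) :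
    (∃ k : (yon S).obj T ⟶ Z, k ≫ i = h) ↔ I ≤ idealOfRep hh := by
  obtain ⟨hi, rfl⟩ := hZ
  constructor
  · rintro ⟨k, hk⟩ E hE
    have h1 := ker_le_of_factors i hi E.obj.hom (hh.snd E.obj.hom)
      ⟨hh.fst E.obj.hom ≫ k, by rw [Category.assoc, hk, (hh.isPullback E.obj.hom).w]⟩
    exact (@ker_le_ker_iff_of_isAffine _ _ _ hE _ _).1 h1
  · intro H
    have : Mono i := mono_of_repWith_isClosedImmersion hi
    refine exists_lift_of_pointwise i h fun x => ?_
    obtain ⟨W, V₀, hV₀, w, t₀, b₀, hb₀, hwe, hxw, hcomm⟩ := exists_affine_chart_at hX h x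
    refine ⟨W, w, inferInstance, inferInstance, hxw, ?_⟩
    rw [hcomm]
    apply factors_of_ker_le i hi b₀ t₀
    have sq := hh.isPullback b₀
    obtain ⟨τ, hτ⟩ := (yon S).map_surjective (sq.lift ((yon S).map w) ((yon S).map t₀) hcomm)
    have h0 : τ ≫ hh.snd b₀ = t₀ := by
      apply (yon S).map_injective
      rw [Functor.map_comp, hτ, sq.lift_snd]
    have h1 : (hi.rep.snd b₀).left.ker ≤ (hh.snd b₀).left.ker :=
      (@ker_le_ker_iff_of_isAffine _ _ _ hV₀ _ _).2 (H (EtOver.mk b₀ hb₀) hV₀)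
    rw [← h0, Over.comp_left]
    exact h1.trans (Scheme.Hom.le_ker_comp _ _)

set_option backward.isDefEq.respectTransparency.types false in
/-- Inclusion of ideals corresponds to factorisation of closed subspaces. -/
theorem le_iff_factors_of_isCutOutBy {X Z Z' : Sp S} (hX : IsAlgSpace X) (i : Z ⟶ X)
    (i' : Z' ⟶ X) (I I' : IdealEt X) (h : IsCutOutBy I i) (h' : IsCutOutBy I' i') :
    I ≤ I' ↔ ∃ k : Z' ⟶ Z, k ≫ i = i' := by
  constructor
  · intro hle
    have : Mono i := mono_of_repWith_isClosedImmersion h.1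
    refine exists_lift_of_points i i' fun T z => ?_
    refine (factors_iff_le_idealOfRep hX i I h (z ≫ i') (hX.representable_from_yon _)).2 ?_
    intro E hE
    exact (hle E hE).trans
      ((factors_iff_le_idealOfRep hX i' I' h' (z ≫ i') (hX.representable_from_yon _)).1
        ⟨z, rfl⟩ E hE)
  · rintro ⟨k, hk⟩
    obtain ⟨hi, rfl⟩ := h
    obtain ⟨hi', rfl⟩ := h'
    intro E hE
    have h1 := ker_le_of_factors i hi E.obj.hom (hi'.rep.snd E.obj.hom)
      ⟨hi'.rep.fst E.obj.hom ≫ k, by rw [Category.assoc, hk, (hi'.rep.isPullback E.obj.hom).w]⟩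
    exact (@ker_le_ker_iff_of_isAffine _ _ _ hE _ _).1 h1

end Groth.Agent.Lib.Helper14.AS
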