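import Groth.Agent.Lib.Helper14.CutOut2
import Groth.Agent.Lib.Helper25.BlowUpReg
import Groth.Agent.Lib.Helper25.BlowUpProd
import Groth.Prelude.Def_AlgSpSub

universe u
open CategoryTheory CategoryTheory.Limits AlgebraicGeometry Opposite Topology

namespace Groth.Agent.Lib.Helper14.AS

open AlgSp Groth.Agent.Lib.Helper14.AS

variable {S : Scheme.{u}}

/-- Ideal sheaves agreeing on all affine opens (after restriction) are equal. -/
theorem eq_of_comap_ι_eq {V : Scheme.{u}} (K K' : V.IdealSheafData)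
    (h : ∀ W : V.affineOpens, K.comap W.1.ι = K'.comap W.1.ι) : K = K' := by
  apply Scheme.IdealSheafData.ext
  funext W
  have hW : IsAffine W.1.toScheme := W.2
  have e : (⊤ : W.1.toScheme.Opens) ≤ W.1.ι ⁻¹ᵁ W.1 := by
    intro x _
    exact x.2
  have h1 := congrArg (fun J => J.ideal ⟨⊤, isAffineOpen_top W.1.toScheme⟩) (h W)
  simp only at h1
  rw [Groth.Agent.Lib.Helper1.ideal_comap K W.1.ι ⟨⊤, isAffineOpen_top _⟩ W e,
    Groth.Agent.Lib.Helper1.ideal_comap K' W.1.ι ⟨⊤, isAffineOpen_top _⟩ W e] at h1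
  have hb : Function.Bijective (W.1.ι.appLE W.1 ⊤ e).hom := by
    have : IsIso (W.1.ι.appLE W.1 ⊤ e) := by
      rw [Scheme.Opens.ι_appLE]
      have heq : W.1.ι ''ᵁ ⊤ = W.1 := W.1.ι_image_top
      have h1 : IsIso (homOfLE (x := W.1.ι ''ᵁ ⊤) (y := W.1) heq.le) :=
        ⟨homOfLE heq.ge, Subsingleton.elim _ _, Subsingleton.elim _ _⟩
      have h2 : IsIso (homOfLE (x := W.1.ι ''ᵁ ⊤) (y := W.1) heq.le).op := inferInstance
      exact Functor.map_isIso V.presheaf _
    exact ConcreteCategory.bijective_of_isIso _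
  rw [← Ideal.comap_map_of_bijective _ hb (I := K.ideal W), h1,
    Ideal.comap_map_of_bijective _ hb]

/-- The kernel ideal on a chart of the pullback of a closed subspace. -/
noncomputable abbrev kerOf {Z X : Sp S} {i : Z ⟶ X} (hi : RepWith @IsClosedImmersion i)
    {V : Over S} (b : (yon S).obj V ⟶ X) : V.left.IdealSheafData :=
  (hi.rep.snd b).left.ker

set_option backward.isDefEq.respectTransparency.types false in
theorem kerOf_comp {Z X : Sp S} {i : Z ⟶ X} (hi : RepWith @IsClosedImmersion i)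
    {V V' : Over S} (b : (yon S).obj V ⟶ X) (w : V' ⟶ V) [Flat w.left] :
    kerOf hi ((yon S).map w ≫ b) = (kerOf hi b).comap w.left := by
  have hc : IsClosedImmersion (hi.rep.snd b).left := hi.property_snd b
  have hq : QuasiCompact (ImgChart.ofIsPullback (hi.rep.isPullback b)).u.left :=
    inferInstanceAs (QuasiCompact (hi.rep.snd b).left)
  have := (ImgChart.ofIsPullback (hi.rep.isPullback b)).imgKer_comap w
  rw [imgKer_eq_ker_snd hi.rep, imgKer_eq_ker_snd hi.rep] at this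
  exact this

set_option backward.isDefEq.respectTransparency.types false in
theorem kerOf_eq_ofIdealTop {Z X : Sp S} {i : Z ⟶ X} (hi : RepWith @IsClosedImmersion i)
    {V : Over S} (hV : IsAffine V.left) (b : (yon S).obj V ⟶ X) (hb : RepWith @Etale b) :
    kerOf hi b =
      Scheme.IdealSheafData.ofIdealTop ((idealOfRep hi.1).ideal (EtOver.mk b hb) hV) :=
  Scheme.ker_of_isAffine _

set_option backward.isDefEq.respectTransparency.types false in
theorem kerOf_eq_of_isPullback {Z X : Sp S} {i : Z ⟶ X} (hi : RepWith @IsClosedImmersion i)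
    {V : Over S} (b : (yon S).obj V ⟶ X) (K : V.left.IdealSheafData)
    (fst : (yon S).obj (subOver K) ⟶ Z)
    (sq : IsPullback fst ((yon S).map (subOverι K)) i b) : kerOf hi b = K := by
  rw [kerOf, ker_eq_of_isPullback (hi.rep.isPullback b) sq]
  exact Scheme.IdealSheafData.ker_subschemeι _

set_option backward.isDefEq.respectTransparency.types false in
/-- The pullback of a closed subspace to a chart is the closed subscheme of its kernel. -/
theorem exists_isPullback_subOver {Z X : Sp S} {i : Z ⟶ X} (hi : RepWith @IsClosedImmersion i)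
    {V : Over S} (b : (yon S).obj V ⟶ X) :
    ∃ fst : (yon S).obj (subOver (kerOf hi b)) ⟶ Z,
      IsPullback fst ((yon S).map (subOverι (kerOf hi b))) i b := by
  have hc : IsClosedImmersion (hi.rep.snd b).left := hi.property_snd b
  let e₀ : (hi.rep.pullback b).left ≅ (kerOf hi b).subscheme := asIso (hi.rep.snd b).left.toImage
  have he₀ : e₀.hom ≫ (kerOf hi b).subschemeι = (hi.rep.snd b).left :=
    (hi.rep.snd b).left.toImage_imageι
  let e : hi.rep.pullback b ≅ subOver (kerOf hi b) := Over.isoMk e₀ (by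
    change e₀.hom ≫ (kerOf hi b).subschemeι ≫ V.hom = _
    rw [← Category.assoc, he₀, Over.w])
  have he : e.hom ≫ subOverι (kerOf hi b) = hi.rep.snd b := by
    apply Over.OverMorphism.ext
    exact he₀
  refine ⟨(yon S).map e.inv ≫ hi.rep.fst b, ?_⟩
  refine (hi.rep.isPullback b).of_iso ((yon S).mapIso e) (Iso.refl _) (Iso.refl _) (Iso.refl _)
    ?_ ?_ ?_ ?_
  · simp
  · simp only [Iso.refl_hom, Category.comp_id, Functor.mapIso_hom, ← Functor.map_comp, he]
  · simp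
  · simp

set_option backward.isDefEq.respectTransparency.types false in
/-- On every etale chart, the kernel of the closed subspace cut out by a product of ideals is the
product of the kernels. -/
theorem kerOf_mul {X Z₁ Z₂ D : Sp S} {i₁ : Z₁ ⟶ X} {i₂ : Z₂ ⟶ X} {i : D ⟶ X}
    (I₁ I₂ : IdealEt X) (h₁ : IsCutOutBy I₁ i₁) (h₂ : IsCutOutBy I₂ i₂)
    (hD : IsCutOutBy (I₁ * I₂) i) {V : Over S} (b : (yon S).obj V ⟶ X) (hb : RepWith @Etale b) :
    kerOf hD.1 b = kerOf h₁.1 b * kerOf h₂.1 b := by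
  apply eq_of_comap_ι_eq
  intro W
  rw [Groth.Agent.Lib.Helper1.comap_mul]
  have hfl : Flat (openSubι V W.1).left := inferInstanceAs (Flat W.1.ι)
  have e1 := kerOf_comp hD.1 b (openSubι V W.1)
  have e2 := kerOf_comp h₁.1 b (openSubι V W.1)
  have e3 := kerOf_comp h₂.1 b (openSubι V W.1)
  change _ = (kerOf hD.1 b).comap W.1.ι at e1
  change _ = (kerOf h₁.1 b).comap W.1.ι at e2
  change _ = (kerOf h₂.1 b).comap W.1.ι at e3
  rw [← e1, ← e2, ← e3]
  have hbW : RepWith @Etale ((yon S).map (openSubι V W.1) ≫ b) := repWith_etale_restrict hb W.1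
  have hW : IsAffine (openSub V W.1).left := W.2
  rw [kerOf_eq_ofIdealTop hD.1 hW _ hbW, kerOf_eq_ofIdealTop h₁.1 hW _ hbW,
    kerOf_eq_ofIdealTop h₂.1 hW _ hbW, hD.2, h₁.2, h₂.2, IdealEt.mul_ideal]
  exact map_mul (Scheme.IdealSheafData.equivOfIsAffine (X := (openSub V W.1).left)).symm _ _

open Groth.Agent.Lib.Helper25.BlowUpUP in
set_option backward.isDefEq.respectTransparency.types false in
/-- The sum of two effective Cartier divisors is an effective Cartier divisor. -/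
theorem isEffCartierSub_mul {X D₁ D₂ D : Sp S} {i₁ : D₁ ⟶ X} {i₂ : D₂ ⟶ X} {i : D ⟶ X}
    (I₁ I₂ : IdealEt X) (h₁ : IsCutOutBy I₁ i₁) (h₂ : IsCutOutBy I₂ i₂)
    (hD : IsCutOutBy (I₁ * I₂) i) (e₁ : IsEffCartierSub i₁) (e₂ : IsEffCartierSub i₂) :
    IsEffCartierSub i := by
  obtain ⟨-, V₁, φ₁, 𝓘₁, fst₁, hφ₁e, hφ₁s, sq₁, c₁⟩ := e₁
  obtain ⟨-, V₂, φ₂, 𝓘₂, fst₂, hφ₂e, hφ₂s, sq₂, c₂⟩ := e₂
  have sq := hφ₁e.rep.isPullback' φ₂
  have hq₂e : Etale (hφ₁e.rep.snd φ₂).left := hφ₁e.property_snd φ₂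
  have hq₂s : Surjective (hφ₁e.rep.snd φ₂).left := hφ₁s.property _ _ _ sq
  have hq₁e : Etale (hφ₁e.rep.fst' φ₂).left := hφ₂e.property _ _ _ sq.flip
  have hq₁s : Surjective (hφ₁e.rep.fst' φ₂).left := hφ₂s.property _ _ _ sq.flip
  have hφe : RepWith @Etale ((yon S).map (hφ₁e.rep.fst' φ₂) ≫ φ₁) :=
    repWith_comp _ ((repWith_yon_map_iff _ _).2 hq₁e) hφ₁e
  have hφs : RepWith @Surjective ((yon S).map (hφ₁e.rep.fst' φ₂) ≫ φ₁) :=
    repWith_comp _ ((repWith_yon_map_iff _ _).2 hq₁s) hφ₁s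
  obtain ⟨fst, sqD⟩ := exists_isPullback_subOver hD.1 ((yon S).map (hφ₁e.rep.fst' φ₂) ≫ φ₁)
  refine ⟨hD.1, hφ₁e.rep.pullback φ₂, (yon S).map (hφ₁e.rep.fst' φ₂) ≫ φ₁,
    kerOf hD.1 ((yon S).map (hφ₁e.rep.fst' φ₂) ≫ φ₁), fst, hφe, hφs, sqD, ?_⟩
  rw [kerOf_mul I₁ I₂ h₁ h₂ hD _ hφe]
  apply isEffCartierIdeal_mul
  · have : Flat (hφ₁e.rep.fst' φ₂).left := inferInstance
    rw [kerOf_comp h₁.1 φ₁ (hφ₁e.rep.fst' φ₂), kerOf_eq_of_isPullback h₁.1 φ₁ 𝓘₁ fst₁ sq₁]
    exact isEffCartierIdeal_comap_of_flat _ 𝓘₁ c₁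
  · have : Flat (hφ₁e.rep.snd φ₂).left := inferInstance
    rw [sq.w, kerOf_comp h₂.1 φ₂ (hφ₁e.rep.snd φ₂), kerOf_eq_of_isPullback h₂.1 φ₂ 𝓘₂ fst₂ sq₂]
    exact isEffCartierIdeal_comap_of_flat _ 𝓘₂ c₂

open Groth.Agent.Lib.Helper25.BlowUpUP in
set_option backward.isDefEq.respectTransparency.types false in
/-- If the closed subspace cut out by a product of ideals is an effective Cartier divisor, so are
the closed subspaces cut out by the factors. -/
theorem isEffCartierSub_of_mul {X Z Y D : Sp S} {iZ : Z ⟶ X} {iY : Y ⟶ X} {iD : D ⟶ X}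
    (I J : IdealEt X) (hZ : IsCutOutBy I iZ) (hY : IsCutOutBy J iY)
    (hD : IsCutOutBy (I * J) iD) (hDc : IsEffCartierSub iD) :
    IsEffCartierSub iZ ∧ IsEffCartierSub iY := by
  obtain ⟨-, V, φ, 𝓚, fst, hφe, hφs, sq, c⟩ := hDc
  have hK : kerOf hD.1 φ = 𝓚 := kerOf_eq_of_isPullback hD.1 φ 𝓚 fst sq
  have hmul := kerOf_mul I J hZ hY hD φ hφe
  rw [hK] at hmul
  rw [hmul] at c
  constructor
  · obtain ⟨fstZ, sqZ⟩ := exists_isPullback_subOver hZ.1 φ
    exact ⟨hZ.1, V, φ, _, fstZ, hφe, hφs, sqZ, isEffCartierIdeal_of_mul_left _ _ c⟩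
  · obtain ⟨fstY, sqY⟩ := exists_isPullback_subOver hY.1 φ
    exact ⟨hY.1, V, φ, _, fstY, hφe, hφs, sqY, isEffCartierIdeal_of_mul_right _ _ c⟩

end Groth.Agent.Lib.Helper14.AS
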