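import Groth.Prelude.Def_AlgSp4
import Groth.Prelude.Def_AlgSpDec
import Groth.Prelude.Def_Flat
import Groth.Agent.Lib.Helper14.HasAtMorChart
import Groth.Agent.Lib.Helper14.LqfDim0
import Groth.Agent.Lib.Helper6.EtaleSq

universe u
open CategoryTheory CategoryTheory.Limits AlgebraicGeometry Opposite

namespace Groth.Agent.Lib.Helper14.AS
open AlgSp

variable {S : Scheme.{u}} {X Y : Sp S}

theorem etSqInv_fibreDimAt (P : WithBot ℕ∞ → Prop) :
    EtSqInv (fun _ _ h u => P (FlatMor.fibreDimAt h u)) := by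
  intro U U' V V' h h' a b ha hb comm u'
  change P (FlatMor.fibreDimAt h (a u')) ↔ P (FlatMor.fibreDimAt h' u')
  rw [Groth.Agent.Lib.Helper6.EtaleSq.fibreDimAt_etale_square h h' a b comm u']

theorem locP_lqf_iff_relDim_zero (hX : IsAlgSpace X) (hY : IsAlgSpace Y) (f : X ⟶ Y)
    (hf : LocP @LocallyOfFiniteType f) :
    LocP (@LocallyQuasiFinite ⊓ @LocallyOfFiniteType) f ↔
      ∀ x : Points X, HasAtMor (fun _ _ h u => FlatMor.fibreDimAt h u = 0) f x := by
  constructor
  · intro h x
    obtain ⟨U, V, a, b, k, u, hae, hbe, comm, rfl⟩ := exists_chart_diagram_at hX hY f x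
    have hk := h a b k hae hbe comm
    have : LocallyOfFiniteType k.left := hk.2
    exact ⟨U, V, a, b, k, u, hae, hbe, comm, rfl,
      (locallyQuasiFinite_iff_fibreDimAt_eq_zero k.left).1 hk.1 u⟩
  · intro h U V a b k hae hbe comm
    have hlft : LocallyOfFiniteType k.left := hf a b k hae hbe comm
    refine ⟨(locallyQuasiFinite_iff_fibreDimAt_eq_zero k.left).2 fun u => ?_, hlft⟩
    exact (hasAtMor_ofPt_iff (etSqInv_fibreDimAt (fun d => d = 0)) f a b k hae hbe comm u).1
      (h (Points.ofPt a u))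

end Groth.Agent.Lib.Helper14.AS
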