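import Groth.Prelude.Def_AlgSpDec
import Groth.Prelude.Def_AlgSp3
import Groth.Agent.Lib.Helper14.LqfDim0

universe u
open CategoryTheory CategoryTheory.Limits AlgebraicGeometry Opposite

namespace Groth.Agent.Lib.Helper14.AS
open AlgSp

variable {k : Type u} [Field k]

theorem fibreDimAt_eq_zero_of_dim_le_zero {U V : Scheme.{u}} (h : U ⟶ V)
    (hU : topologicalKrullDim ↥U ≤ 0) (u : ↥U) : FlatMor.fibreDimAt h u = 0 := by
  unfold FlatMor.fibreDimAt FlatMor.localDim
  apply le_antisymm
  · refine (iInf_le _ ⟨⊤, trivial⟩).trans ?_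
    have h1 : topologicalKrullDim ↥((⊤ : TopologicalSpace.Opens ↥(h.fiber (h u))) : Set _) ≤
        topologicalKrullDim ↥(h.fiber (h u)) :=
      Topology.IsInducing.topologicalKrullDim_le Topology.IsInducing.subtypeVal
    have h2 : topologicalKrullDim ↥(h.fiber (h u)) ≤ topologicalKrullDim ↥U :=
      Topology.IsInducing.topologicalKrullDim_le (h.fiberι (h u)).isEmbedding.isInducing
    exact h1.trans (h2.trans hU)
  · refine le_iInf fun O => ?_
    have : Nonempty ↥(O.1 : Set ↥(h.fiber (h u))) := ⟨⟨_, O.2⟩⟩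
    exact topologicalKrullDim_nonneg' _

theorem dim_le_zero_of_lqf_field {U : Scheme.{u}} (h : U ⟶ Spec (CommRingCat.of k))
    [LocallyQuasiFinite h] : topologicalKrullDim ↥U ≤ 0 := by
  have hd := h.isDiscrete_preimage_singleton
  by_cases hne : Nonempty ↥U
  · obtain ⟨u⟩ := hne
    have h1 : h ⁻¹' {h u} = Set.univ := by
      ext v
      simp only [Set.mem_preimage, Set.mem_singleton_iff, Set.mem_univ, iff_true]
      exact Subsingleton.elim _ _
    have h2 := hd (h u)
    rw [h1] at h2
    have : DiscreteTopology ↥U := by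
      rw [← isDiscrete_univ_iff]
      exact h2
    exact topologicalKrullDim_zero_of_discreteTopology ↥U
  · have : IsEmpty ↥U := not_nonempty_iff.1 hne
    have : IsEmpty (TopologicalSpace.IrreducibleCloseds ↥U) :=
      ⟨fun Z => by obtain ⟨z, -⟩ := Z.2.1; exact this.elim z⟩
    unfold topologicalKrullDim
    rw [Order.krullDim_eq_bot]
    exact bot_le

set_option backward.isDefEq.respectTransparency.types false in
theorem locP_lqf_field_iff (X : Space (Spec (CommRingCat.of k)))
    (p : X.obj ⟶ (yon (Spec (CommRingCat.of k))).obj (Over.mk (𝟙 _))) :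
    LocP (@LocallyQuasiFinite ⊓ @LocallyOfFiniteType : MorphismProperty Scheme.{u}) p ↔
      LocP @LocallyOfFiniteType p ∧ AlgSp.dim X.obj ≤ 0 := by
  constructor
  · intro h
    refine ⟨fun U V a b g ha hb comm => (h a b g ha hb comm).2, ?_⟩
    unfold AlgSp.dim
    refine iSup_le fun U => iSup_le fun a => iSup_le fun ha => ?_
    obtain ⟨g, hg⟩ := (yon _).map_surjective (a ≫ p)
    have hq : LocallyQuasiFinite g.left :=
      (h a (𝟙 _) g ha (repWith_id _ _) (by rw [hg, Category.comp_id])).1
    exact dim_le_zero_of_lqf_field (k := k) g.left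
  · rintro ⟨hlft, hdim⟩ U V a b g ha hb comm
    have hft : LocallyOfFiniteType g.left := hlft a b g ha hb comm
    refine ⟨?_, hft⟩
    rw [locallyQuasiFinite_iff_fibreDimAt_eq_zero]
    intro u
    apply fibreDimAt_eq_zero_of_dim_le_zero
    refine le_trans ?_ hdim
    unfold AlgSp.dim
    exact le_iSup_of_le U (le_iSup_of_le a (le_iSup_of_le ha le_rfl))

end Groth.Agent.Lib.Helper14.AS
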