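import Groth.Prelude.Def_AlgSp4
import Groth.Agent.Lib.Helper14.LqfField
import Groth.Agent.Lib.Helper14.AlgSpDim
import Groth.Agent.Lib.Helper14.AlgSpLocP3
import Groth.Agent.Lib.Helper14.AlgSpFibre
import Groth.Agent.Lib.Helper14.SchemeFieldStalk

universe u
open CategoryTheory CategoryTheory.Limits AlgebraicGeometry Opposite

namespace Groth.Agent.Lib.Helper14.AS
open AlgSp

variable {S : Scheme.{u}}

/-- An etale chart of a sheaf with discrete space of points has dimension at most `0`. -/
theorem topologicalKrullDim_le_zero_of_discrete_points {P : Sp S} [DiscreteTopology (Points P)]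
    {W : Over S} (c : (yon S).obj W ⟶ P) (hc : RepWith @Etale c) :
    topologicalKrullDim ↥W.left ≤ 0 := by
  rw [topologicalKrullDim_eq_iSup_stalk]
  refine iSup_le fun w => ?_
  obtain ⟨η, hη, hd⟩ := exists_generization_codimZero w
  have hO : IsOpen (Points.ofPt c ⁻¹' {Points.ofPt c w}) :=
    (isOpen_discrete _).preimage (Points.continuous_ofPt c)
  have hηO : η ∈ Points.ofPt c ⁻¹' {Points.ofPt c w} := hη.mem_open hO rfl
  have := ringKrullDim_stalk_chart_indep c hc c hc η w hηO
  rw [← this, hd]

set_option backward.isDefEq.respectTransparency.types false in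
theorem discrete_points_fibre_of_locP_lqf {X Y : Sp S} (hX : IsAlgSpace X) (hY : IsAlgSpace Y)
    (f : X ⟶ Y)
    (hf : LocP ((@LocallyQuasiFinite : MorphismProperty Scheme.{u}) ⊓ @LocallyOfFiniteType) f)
    (k : Type u) [Field k] (str : Spec (CommRingCat.of k) ⟶ S)
    (y : (yon S).obj (Over.mk str) ⟶ Y) (P : Sp S) (fst : P ⟶ X)
    (snd : P ⟶ (yon S).obj (Over.mk str)) (sq : IsPullback fst snd f y) :
    DiscreteTopology (Points P) := by
  have hPa : IsAlgSpace P :=
    isAlgSpace_of_isPullback (repDiag_of_isAlgSpace hY) hX (IsAlgSpace.yon_obj _) sq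
  have hsnd : LocP ((@LocallyQuasiFinite : MorphismProperty Scheme.{u}) ⊓ @LocallyOfFiniteType)
      snd := locP_baseChange etLocal_lqf_lft hX hY (IsAlgSpace.yon_obj _) f y fst snd sq hf
  obtain ⟨W, c, hce, hcs⟩ := hPa.atlas
  obtain ⟨g, hg⟩ := (yon S).map_surjective (c ≫ snd)
  have hq : LocallyQuasiFinite g.left :=
    (hsnd c (𝟙 _) g hce (repWith_id _ _) (by rw [hg, Category.comp_id])).1
  have hW : DiscreteTopology ↥W.left := discreteTopology_of_lqf_field (K := k) g.left
  rw [discreteTopology_iff_isOpen_singleton]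
  intro p
  have : ({p} : Set (Points P)) = Points.ofPt c '' (Points.ofPt c ⁻¹' {p}) := by
    rw [Set.image_preimage_eq _ (ofPt_surjective_of_repWith hcs)]
  rw [this]
  exact isOpenMap_ofPt c hce _ (isOpen_discrete _)

set_option backward.isDefEq.respectTransparency.types false in
/-- If all fibres over field-valued points have discrete spaces of points, then a morphism locally
of finite type is locally quasi-finite. -/
theorem locP_lqf_of_discrete_fibres {X Y : Sp S} (hX : IsAlgSpace X) (hY : IsAlgSpace Y)
    (f : X ⟶ Y) (hf : LocP @LocallyOfFiniteType f)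
    (hd : ∀ (k : Type u) [Field k] (str : Spec (CommRingCat.of k) ⟶ S)
      (y : (yon S).obj (Over.mk str) ⟶ Y) (P : Sp S) (fst : P ⟶ X)
      (snd : P ⟶ (yon S).obj (Over.mk str)), IsPullback fst snd f y →
        DiscreteTopology (Points P)) :
    LocP ((@LocallyQuasiFinite : MorphismProperty Scheme.{u}) ⊓ @LocallyOfFiniteType) f := by
  intro U V a b h ha hb comm
  have hlft : LocallyOfFiniteType h.left := hf a b h ha hb comm
  refine ⟨?_, hlft⟩
  rw [locallyQuasiFinite_iff_isDiscrete_preimage_singleton]
  intro v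
  -- the field-valued point `Spec κ(v) ⟶ V ⟶ Y`
  let str : Spec (CommRingCat.of ↑(V.left.residueField v)) ⟶ S :=
    V.left.fromSpecResidueField v ≫ V.hom
  let T : Over S := Over.mk str
  let t : T ⟶ V := Over.homMk (V.left.fromSpecResidueField v) rfl
  let y : (yon S).obj T ⟶ Y := (yon S).map t ≫ b
  have sq := IsPullback.of_hasPullback f y
  have hdisc : DiscreteTopology (Points (pullback f y)) :=
    hd ↑(V.left.residueField v) str y _ _ _ sq
  -- the scheme `W = U ×_Y Spec κ(v)`
  have hrep : Representable (a ≫ f) := hY.representable_from_yon (a ≫ f)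
  have sqW := hrep.isPullback' y
  let c : (yon S).obj (hrep.pullback y) ⟶ pullback f y :=
    sq.lift ((yon S).map (hrep.fst' y) ≫ a) ((yon S).map (hrep.snd y)) (by
      rw [Category.assoc]; exact sqW.w)
  have hc1 : c ≫ pullback.fst f y = (yon S).map (hrep.fst' y) ≫ a := sq.lift_fst _ _ _
  have hc2 : c ≫ pullback.snd f y = (yon S).map (hrep.snd y) := sq.lift_snd _ _ _
  have left : IsPullback c ((yon S).map (hrep.fst' y)) (pullback.fst f y) a := by
    refine IsPullback.of_right ?_ hc1 sq.flip
    rw [hc2]
    exact sqW.flip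
  have hce : RepWith @Etale c := MorphismProperty.of_isPullback (P := RepWith @Etale) left.flip ha
  have hW0 : topologicalKrullDim ↥(hrep.pullback y).left ≤ 0 :=
    topologicalKrullDim_le_zero_of_discrete_points c hce
  -- `W ⟶ Spec κ(v)` is locally of finite type
  have haf : LocP @LocallyOfFiniteType (a ≫ f) :=
    locP_comp etLocal_lft (IsAlgSpace.yon_obj _) hX hY a f
      (fun U' V' a' b' h' ha' hb' comm' =>
        etale_le_lft _ _ _ (locP_of_repWith le_rfl ha a' b' h' ha' hb' comm')) hf
  have hsndW : LocallyOfFiniteType (hrep.snd y).left :=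
    locP_yon_map (locP_baseChange etLocal_lft (IsAlgSpace.yon_obj _) hY (IsAlgSpace.yon_obj _)
      (a ≫ f) y _ _ sqW haf)
  have hqW : LocallyQuasiFinite (hrep.snd y).left := by
    rw [locallyQuasiFinite_iff_fibreDimAt_eq_zero]
    intro w
    exact fibreDimAt_eq_zero_of_dim_le_zero _ hW0 w
  have hWd : DiscreteTopology ↥(hrep.pullback y).left :=
    discreteTopology_of_lqf_field (K := ↑(V.left.residueField v)) (hrep.snd y).left
  -- the fibre of `h` over `v` maps injectively to `W`
  let Fib : Over S := Over.mk (h.left.fiberι v ≫ U.hom)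
  let jU : Fib ⟶ U := Over.homMk (h.left.fiberι v) rfl
  let jT : Fib ⟶ T := Over.homMk (h.left.fiberToSpecResidueField v) (by
    change h.left.fiberToSpecResidueField v ≫ V.left.fromSpecResidueField v ≫ V.hom =
      h.left.fiberι v ≫ U.hom
    rw [← Scheme.Hom.fiber_fac_assoc, Over.w])
  have hj : jU ≫ h = jT ≫ t := by
    ext
    exact h.left.fiber_fac v
  have hjc : (yon S).map jU ≫ a ≫ f = (yon S).map jT ≫ y := by
    rw [comm, ← Category.assoc, ← Functor.map_comp, hj, Functor.map_comp, Category.assoc]
  obtain ⟨j, hj'⟩ := (yon S).map_surjective (sqW.lift _ _ hjc)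
  have hj1 : j ≫ hrep.fst' y = jU := (yon S).map_injective (by
    rw [Functor.map_comp, hj', sqW.lift_fst])
  have hinj : Function.Injective j.left := by
    intro p p' hpp'
    apply (h.left.fiberι v).isEmbedding.injective
    have e : j.left ≫ (hrep.fst' y).left = h.left.fiberι v := congrArg (fun m => m.left) hj1
    rw [← e, Scheme.Hom.comp_apply, Scheme.Hom.comp_apply, hpp']
  have hFd : DiscreteTopology ↥(h.left.fiber v) :=
    DiscreteTopology.of_continuous_injective j.left.continuous hinj
  exact ⟨(h.left.fiberHomeo v).symm.isEmbedding.discreteTopology⟩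

end Groth.Agent.Lib.Helper14.AS
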