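import Groth.Agent.S1240
import Groth.Agent.S10649
import Groth.Agent.Lib.Helper14.LqfLocus
import Groth.Agent.Lib.Helper14.AlgSpQCMor
import Groth.Agent.Lib.Helper14.RelDim0

/-!
# Flat morphisms with small fibres over a dense open subspace (helper14)
-/

universe u
open CategoryTheory CategoryTheory.Limits AlgebraicGeometry Opposite
open AlgSp

namespace Groth.Agent.Lib.Helper14.AS

theorem isRetrocompact_range_of_quasiCompact {W V : Scheme.{u}} (ι : W ⟶ V) [QuasiCompact ι] :
    IsRetrocompact (Set.range ι) := by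
  intro T hTc hTo
  have h1 : IsCompact (ι ⁻¹' T) := QuasiCompact.isCompact_preimage T hTo hTc
  have h2 : Set.range ι ∩ T = ι '' (ι ⁻¹' T) := (Set.image_preimage_eq_range_inter).symm
  rw [h2]
  exact h1.image ι.continuous

variable {S : Scheme.{u}}

set_option backward.isDefEq.respectTransparency.types false in
/-- A flat morphism locally of finite type whose fibres have dimension `≤ d` over a dense open
subspace has all fibres of dimension `≤ d`, if it is locally of finite presentation or the open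
subspace is quasi-compact over the base. -/
theorem hasAtMor_fibreDimAt_le_of_dense_open {X Y V P : Sp S} (hX : IsAlgSpace X)
    (hY : IsAlgSpace Y) (hV : IsAlgSpace V) (f : X ⟶ Y) (j : V ⟶ Y) (d : ℕ)
    (hf1 : LocP @Flat f) (hf2 : LocP @LocallyOfFiniteType f)
    (hj1 : RepWith @IsOpenImmersion j) (hj2 : Dense (Set.range (Points.map j)))
    (fst : P ⟶ X) (snd : P ⟶ V) (hP : IsPullback fst snd f j)
    (hVd : ∀ x, HasAtMor (fun _ _ h u => FlatMor.fibreDimAt h u ≤ (d : WithBot ℕ∞)) snd x)
    (h : LocP @LocallyOfFinitePresentation f ∨ IsQuasiCompactMor j) (x : Points X) :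
    HasAtMor (fun _ _ h u => FlatMor.fibreDimAt h u ≤ (d : WithBot ℕ∞)) f x := by
  obtain ⟨U, V', a, b, k, u, hae, hbe, comm, rfl⟩ := exists_chart_diagram_at hX hY f x
  have : Flat k.left := hf1 a b k hae hbe comm
  have : LocallyOfFiniteType k.left := hf2 a b k hae hbe comm
  have sqj := hj1.rep.isPullback b
  have hoi : IsOpenImmersion (hj1.rep.snd b).left := hj1.property_snd b
  let O : V'.left.Opens := (hj1.rep.snd b).left.opensRange
  have hmemO : ∀ t : ↥V'.left, Points.ofPt b t ∈ Set.range (Points.map j) → t ∈ O := by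
    rintro t ⟨v, hv⟩
    obtain ⟨z, -, hz2⟩ := points_exists_of_isPullback sqj v (Points.ofScheme V' t) (by
      rw [hv, Points.ofPt_eq_map_ofScheme])
    obtain ⟨w, rfl⟩ := (Points.schemeHomeo (hj1.rep.pullback b)).surjective z
    refine ⟨w, ?_⟩
    have := (Points.map_yon_map_apply (hj1.rep.snd b) w).symm.trans hz2
    exact (Points.schemeHomeo V').injective this
  have hdense : Dense (O : Set ↥V'.left) := by
    rw [dense_iff_inter_open]
    intro T hTo hTne
    have h1 : IsOpen (Points.ofPt b '' T) := isOpenMap_ofPt b hbe T hTo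
    obtain ⟨y, hy1, hy2⟩ := hj2.inter_open_nonempty _ h1 (hTne.image _)
    obtain ⟨t, ht, rfl⟩ := hy1
    exact ⟨t, ht, hmemO t hy2⟩
  have hle : ∀ u' : ↥U.left, k.left u' ∈ O → FlatMor.fibreDimAt k.left u' ≤ (d : ℕ) := by
    rintro u' ⟨w, hw⟩
    have e1 : Points.map f (Points.ofPt a u') =
        Points.map j (Points.ofPt (hj1.rep.fst b) w) := by
      rw [Points.map_ofPt, comm, ofPt_yon_map_comp, Points.map_ofPt, sqj.w, ofPt_yon_map_comp]
      exact congrArg _ hw.symm
    obtain ⟨p, hp1, -⟩ := points_exists_of_isPullback hP _ _ e1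
    have h1 := (hasAtMor_fibreDimAt_baseChange_iff hX hY hV f j fst snd hP hf2
      (fun z => z ≤ (d : WithBot ℕ∞)) p).1 (hVd p)
    rw [hp1] at h1
    exact (hasAtMor_ofPt_iff (etSqInv_fibreDimAt (fun z => z ≤ (d : WithBot ℕ∞))) f a b k hae hbe
      comm u').1 h1
  have halt : LocallyOfFinitePresentation k.left ∨ IsRetrocompact (O : Set ↥V'.left) := by
    rcases h with h | h
    · exact Or.inl (h a b k hae hbe comm)
    · right
      have hq : QuasiCompact (hj1.rep.snd b).left :=
        (repWith_quasiCompact_of_isQuasiCompactMor hj1.rep h).property_snd b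
      exact isRetrocompact_range_of_quasiCompact (hj1.rep.snd b).left
  have hres := Groth.Agent.S1240.result k.left O hdense d hle halt u
  exact ⟨U, V', a, b, k, u, hae, hbe, comm, rfl, hres⟩

end Groth.Agent.Lib.Helper14.AS

namespace Groth.Agent.Lib.Helper14.AS

variable {S : Scheme.{u}}

theorem hasAtMor_fibreDimAt_le_zero_iff {X Y : Sp S} (f : X ⟶ Y) (x : Points X) :
    HasAtMor (fun _ _ h u => FlatMor.fibreDimAt h u ≤ ((0 : ℕ) : WithBot ℕ∞)) f x ↔
      HasAtMor (fun _ _ h u => FlatMor.fibreDimAt h u = 0) f x := by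
  constructor
  · rintro ⟨U, V, a, b, h, u, hae, hbe, comm, hu, hq⟩
    exact ⟨U, V, a, b, h, u, hae, hbe, comm, hu,
      le_antisymm (by exact_mod_cast hq) (fibreDimAt_nonneg _ _)⟩
  · rintro ⟨U, V, a, b, h, u, hae, hbe, comm, hu, hq⟩
    exact ⟨U, V, a, b, h, u, hae, hbe, comm, hu, le_of_eq hq⟩

set_option backward.isDefEq.respectTransparency.types false in
theorem isFiniteMor_of_flat_proper_finite_over_dense_open {X Y V P : Space S} (f : X ⟶ Y)
    (j : V ⟶ Y) (hf1 : LocP @Flat f.hom) (hf2 : IsProperMor f.hom)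
    (hj1 : RepWith @IsOpenImmersion j.hom) (hj2 : Dense (Set.range (Points.map j.hom)))
    (fst : P ⟶ X) (snd : P ⟶ V) (hP : IsPullback fst.hom snd.hom f.hom j.hom)
    (hV : IsFiniteMor snd.hom)
    (h : LocP @LocallyOfFinitePresentation f.hom ∨ IsQuasiCompactMor j.hom) :
    IsFiniteMor f.hom := by
  have h1 := ((Groth.Agent.S10649.result snd).out 0 1).1 hV
  have hzero := (locP_lqf_iff_relDim_zero P.2 V.2 snd.hom h1.1.2.1.1).1 h1.2
  have hle : ∀ x, HasAtMor (fun _ _ h u => FlatMor.fibreDimAt h u ≤ ((0 : ℕ) : WithBot ℕ∞))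
      snd.hom x := fun x => (hasAtMor_fibreDimAt_le_zero_iff snd.hom x).2 (hzero x)
  have key := hasAtMor_fibreDimAt_le_of_dense_open X.2 Y.2 V.2 f.hom j.hom 0 hf1 hf2.2.1.1 hj1 hj2
    fst.hom snd.hom hP hle h
  have hlqf : LocP (@LocallyQuasiFinite ⊓ @LocallyOfFiniteType) f.hom :=
    (locP_lqf_iff_relDim_zero X.2 Y.2 f.hom hf2.2.1.1).2 fun x =>
      (hasAtMor_fibreDimAt_le_zero_iff f.hom x).1 (key x)
  have h2 := ((Groth.Agent.S10649.result f).out 1 0).1
  exact h2 ⟨hf2, hlqf⟩

end Groth.Agent.Lib.Helper14.AS
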