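import Groth.Agent.S0591
import Groth.Agent.S2075
import Mathlib.AlgebraicGeometry.AffineTransitionLimit
universe u
open CategoryTheory CategoryTheory.Limits AlgebraicGeometry
namespace Groth.Agent.Lib.Helper14.AS

theorem isPullback_exists_preimage {P X Y Z : Scheme.{u}} {fst : P ⟶ X} {snd : P ⟶ Y}
    {f : X ⟶ Z} {g : Y ⟶ Z} (sq : IsPullback fst snd f g) (x : X) (y : Y) (h : f x = g y) :
    ∃ z : P, fst z = x ∧ snd z = y := by
  obtain ⟨z, hz1, hz2⟩ := Scheme.Pullback.exists_preimage_pullback (f := f) (g := g) x y h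
  refine ⟨sq.isoPullback.inv z, ?_, ?_⟩
  · have e1 : sq.isoPullback.inv ≫ fst = pullback.fst _ _ := sq.isoPullback_inv_fst
    rw [← Scheme.Hom.comp_apply, e1]
    exact hz1
  · have e1 : sq.isoPullback.inv ≫ snd = pullback.snd _ _ := sq.isoPullback_inv_snd
    rw [← Scheme.Hom.comp_apply, e1]
    exact hz2

theorem isAffine_of_isPullback {P X Y Z : Scheme.{u}} {fst : P ⟶ X} {snd : P ⟶ Y}
    {f : X ⟶ Z} {g : Y ⟶ Z} (sq : IsPullback fst snd f g) [IsAffine X] [IsAffine Y]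
    [IsAffine Z] : IsAffine P := by
  have h1 : IsAffine (pullback f g) := inferInstance
  exact .of_isIso sq.isoPullback.hom

variable {I : Type u} [SmallCategory I] [IsCofiltered I]

/-- descent of a flat, locally finitely presented morphism of affine schemes to finite stages,
up to a finite affine open covering -/
theorem exists_descend_flat_lfp (D : I ⥤ Scheme.{u}) (c : Cone D) (hc : IsLimit c)
    (hD : ∀ i, IsAffine (D.obj i)) (hca : IsAffine c.pt) {W : Scheme.{u}} (hW : IsAffine W)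
    (f : W ⟶ c.pt) [Flat f] [LocallyOfFinitePresentation f] :
    ∃ (A : Type u) (_ : Finite A) (i : A → I) (V : A → Scheme.{u})
      (v : ∀ a, V a ⟶ D.obj (i a)),
      (∀ a, IsAffine (V a)) ∧ (∀ a, Flat (v a)) ∧ (∀ a, LocallyOfFinitePresentation (v a)) ∧
      (∀ a (Z : Scheme.{u}) (z₁ : Z ⟶ c.pt) (z₂ : Z ⟶ V a),
        z₁ ≫ c.π.app (i a) = z₂ ≫ v a → ∃ l : Z ⟶ W, l ≫ f = z₁) ∧
      (∀ w : W, ∃ a, c.π.app (i a) (f w) ∈ Set.range (v a)) := by
  have : ∀ (i j : I) (φ : i ⟶ j), IsAffineHom (D.map φ) := fun i j φ => by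
    have := hD i
    have := hD j
    infer_instance
  have : ∀ i, CompactSpace (D.obj i) := fun i => by have := hD i; infer_instance
  have : ∀ i, QuasiSeparatedSpace (D.obj i) := fun i => by have := hD i; infer_instance
  obtain ⟨i₁, X₁, f₁, g₁, hf₁, hqc, hqs, hpb⟩ := Groth.Agent.S0591.result D c hc W f
  have hX₁ : CompactSpace X₁ := QuasiCompact.compactSpace_of_compactSpace f₁
  let 𝒪 := X₁.affineCover.finiteSubcover
  have hfin : Finite 𝒪.I₀ := inferInstance
  -- the flat morphisms over the limit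
  have hflat : ∀ a : 𝒪.I₀, Flat (pullback.snd (𝒪.f a ≫ f₁) (c.π.app i₁)) := by
    intro a
    let ga : pullback (𝒪.f a ≫ f₁) (c.π.app i₁) ⟶ W :=
      hpb.lift (pullback.fst _ _ ≫ 𝒪.f a) (pullback.snd _ _)
        (by rw [Category.assoc, pullback.condition])
    have h1 : ga ≫ g₁ = pullback.fst _ _ ≫ 𝒪.f a := hpb.lift_fst _ _ _
    have h2 : ga ≫ f = pullback.snd _ _ := hpb.lift_snd _ _ _
    have sq : IsPullback (pullback.fst (𝒪.f a ≫ f₁) (c.π.app i₁)) ga (𝒪.f a) g₁ := by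
      refine IsPullback.of_bot ?_ h1.symm hpb
      rw [h2]
      exact IsPullback.of_hasPullback _ _
    have : IsOpenImmersion ga :=
      MorphismProperty.of_isPullback (P := @IsOpenImmersion) sq inferInstance
    rw [← h2]
    infer_instance
  have key : ∀ a : 𝒪.I₀, ∃ (i : I) (φ : i ⟶ i₁) (Xi : Scheme.{u}) (vi : Xi ⟶ D.obj i)
      (pX : Xi ⟶ 𝒪.X a), IsPullback pX vi (𝒪.f a ≫ f₁) (D.map φ) ∧ Flat vi := by
    intro a
    have := hflat a
    have hY : IsPullback (c.π.app i₁) (𝟙 c.pt) (𝟙 (D.obj i₁)) (c.π.app i₁) := IsPullback.of_id_snd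
    obtain ⟨i, φ, Xi, Yi, fi, gi, pY, pX, h1, h2, hfl⟩ := Groth.Agent.S2075.result D c hc i₁
      (𝒪.f a ≫ f₁) (𝟙 _) (pullback.snd (𝒪.f a ≫ f₁) (c.π.app i₁)) (𝟙 c.pt) (c.π.app i₁)
      (pullback.fst _ _) hY (IsPullback.of_hasPullback _ _)
    have : IsIso gi := h1.isIso_snd_of_isIso
    refine ⟨i, φ, Xi, fi ≫ gi, pX, ?_, inferInstance⟩
    have := h2.paste_vert h1
    rwa [Category.comp_id] at this
  choose i φ Xi vi pX hsq hfl using key
  refine ⟨𝒪.I₀, hfin, i, Xi, vi, fun a => ?_, hfl, fun a => ?_, fun a Z z₁ z₂ hz => ?_,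
    fun w => ?_⟩
  · have := hD (i a)
    have := hD i₁
    exact isAffine_of_isPullback (hsq a)
  · exact MorphismProperty.of_isPullback (P := @LocallyOfFinitePresentation) (hsq a)
      inferInstance
  · refine ⟨hpb.lift (z₂ ≫ pX a ≫ 𝒪.f a) z₁ ?_, hpb.lift_snd _ _ _⟩
    rw [Category.assoc, Category.assoc, (hsq a).w, ← Category.assoc, ← hz, Category.assoc,
      c.w]
  · obtain ⟨a, x, hx⟩ := 𝒪.exists_eq (g₁ w)
    refine ⟨a, ?_⟩
    obtain ⟨z, -, hz⟩ := isPullback_exists_preimage (hsq a) x (c.π.app (i a) (f w)) (by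
      rw [Scheme.Hom.comp_apply, hx, ← Scheme.Hom.comp_apply, ← Scheme.Hom.comp_apply,
        ← Scheme.Hom.comp_apply, hpb.w, c.w])
    exact ⟨z, hz⟩

end Groth.Agent.Lib.Helper14.AS
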