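import Groth.Agent.Lib.Helper14.DescCov
import Groth.Agent.Lib.Helper14.StdCov
universe u
open CategoryTheory CategoryTheory.Limits AlgebraicGeometry Opposite
namespace Groth.Agent.Lib.Helper14.AS
variable {S : Scheme.{u}}
open AlgSp

variable {I : Type u} [SmallCategory I]

/-- the base change of `v : V ⟶ D.obj i` to the limit lies in the sieve `R` -/
def GoodFor (D : I ⥤ Over S) (c : Cone D) (R : Sieve c.pt) (i : I) {V : Over S}
    (v : V ⟶ D.obj i) : Prop :=
  ∀ ⦃Z : Over S⦄ (z₁ : Z ⟶ c.pt) (z₂ : Z ⟶ V), z₁ ≫ c.π.app i = z₂ ≫ v → R z₁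

variable [IsCofiltered I]

set_option backward.isDefEq.respectTransparency.types false in
/-- a covering sieve of the limit of an affine system contains the base change of a standard
covering of some stage -/
theorem exists_stdCov_stage (D : I ⥤ Over S) (c : Cone D)
    (hc : IsLimit ((Over.forget S).mapCone c)) (hD : ∀ i, IsAffine (D.obj i).left)
    (hca : IsAffine c.pt.left) (R : Sieve c.pt) (hR : R ∈ AlgSp.J S c.pt) :
    ∃ (i : I) (𝒱 : StdCov (D.obj i)), ∀ m, GoodFor D c R i (𝒱.w m) := by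
  classical
  obtain ⟨𝒲, h𝒲⟩ := exists_stdCov_of_mem_J hca R hR
  have hfin := 𝒲.fin
  have hD' : ∀ i, IsAffine ((D ⋙ Over.forget S).obj i) := hD
  have hca' : IsAffine ((Over.forget S).mapCone c).pt := hca
  have key : ∀ m : 𝒲.ι, ∃ (A : Type u) (_ : Finite A) (i : A → I) (V : A → Scheme.{u})
      (v : ∀ a, V a ⟶ (D.obj (i a)).left),
      (∀ a, IsAffine (V a)) ∧ (∀ a, Flat (v a)) ∧ (∀ a, LocallyOfFinitePresentation (v a)) ∧
      (∀ a (Z : Scheme.{u}) (z₁ : Z ⟶ c.pt.left) (z₂ : Z ⟶ V a),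
        z₁ ≫ (c.π.app (i a)).left = z₂ ≫ v a → ∃ l : Z ⟶ (𝒲.W m).left, l ≫ (𝒲.w m).left = z₁) ∧
      (∀ w : (𝒲.W m).left, ∃ a, (c.π.app (i a)).left ((𝒲.w m).left w) ∈ Set.range (v a)) := by
    intro m
    have hfl : Flat (X := (𝒲.W m).left) (Y := ((Over.forget S).mapCone c).pt) (𝒲.w m).left :=
      𝒲.flat m
    have hfp : LocallyOfFinitePresentation (X := (𝒲.W m).left)
        (Y := ((Over.forget S).mapCone c).pt) (𝒲.w m).left := 𝒲.lfp m
    exact exists_descend_flat_lfp (D ⋙ Over.forget S) ((Over.forget S).mapCone c) hc hD' hca'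
      (𝒲.aff m) (𝒲.w m).left
  choose A hA i V v haff hflat hlfp hgood hcover using key
  let B := Σ m : 𝒲.ι, A m
  have hB : Finite B := inferInstance
  have := Fintype.ofFinite B
  obtain ⟨j, hj⟩ := IsCofiltered.inf_objs_exists (Finset.univ.image (fun β : B => i β.1 β.2))
  have hψ : ∀ β : B, Nonempty (j ⟶ i β.1 β.2) := fun β =>
    hj (Finset.mem_image_of_mem _ (Finset.mem_univ β))
  let ψ : ∀ β : B, j ⟶ i β.1 β.2 := fun β => (hψ β).some
  -- the open subset of the stage `j` covered by the family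
  have hopen : ∀ β : B, IsOpen ((D.map (ψ β)).left ⁻¹' Set.range (v β.1 β.2)) := fun β => by
    have := hflat β.1 β.2
    have := hlfp β.1 β.2
    exact ((v β.1 β.2).isOpenMap.isOpen_range).preimage (D.map (ψ β)).left.continuous
  let U : (D.obj j).left.Opens :=
    ⟨⋃ β : B, (D.map (ψ β)).left ⁻¹' Set.range (v β.1 β.2), isOpen_iUnion hopen⟩
  have hU : ((Over.forget S).mapCone c).π.app j ⁻¹ᵁ U = ⊤ := by
    ext t
    simp only [TopologicalSpace.Opens.coe_top, Set.mem_univ, iff_true]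
    change (c.π.app j).left t ∈ ⋃ β : B, (D.map (ψ β)).left ⁻¹' Set.range (v β.1 β.2)
    obtain ⟨m, w, hw⟩ := 𝒲.surj t
    obtain ⟨a, x, hx⟩ := hcover m w
    refine Set.mem_iUnion.2 ⟨⟨m, a⟩, x, ?_⟩
    change v m a x = (D.map (ψ ⟨m, a⟩)).left ((c.π.app j).left t)
    rw [hx, hw, ← Scheme.Hom.comp_apply, ← Over.comp_left, c.w]
  have : ∀ (i j : I) (φ : i ⟶ j), IsAffineHom ((D ⋙ Over.forget S).map φ) := fun i j φ => by
    have := hD' i
    have := hD' j
    infer_instance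
  have : ∀ i, CompactSpace ((D ⋙ Over.forget S).obj i) := fun i => by
    have := hD' i; infer_instance
  obtain ⟨j', φ, hφ⟩ := exists_map_eq_top (D ⋙ Over.forget S) ((Over.forget S).mapCone c) hc
    U hU
  have hcond : ∀ β : B, pullback.fst (v β.1 β.2) (D.map (φ ≫ ψ β)).left ≫ v β.1 β.2 =
      pullback.snd (v β.1 β.2) (D.map (φ ≫ ψ β)).left ≫ (D.map (φ ≫ ψ β)).left := fun β =>
    pullback.condition
  refine ⟨j', ⟨B, hB,
    fun β => Over.mk (pullback.snd (v β.1 β.2) (D.map (φ ≫ ψ β)).left ≫ (D.obj j').hom),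
    fun β => Over.homMk (pullback.snd (v β.1 β.2) (D.map (φ ≫ ψ β)).left) rfl,
    fun β => ?_, fun β => ?_, fun β => ?_, fun y => ?_⟩, fun β Z z₁ z₂ hz => ?_⟩
  · have := haff β.1 β.2
    have := hD j'
    have := hD (i β.1 β.2)
    change IsAffine (pullback (v β.1 β.2) (D.map (φ ≫ ψ β)).left)
    infer_instance
  · have := hflat β.1 β.2
    change Flat (pullback.snd (v β.1 β.2) (D.map (φ ≫ ψ β)).left)
    infer_instance
  · have := hlfp β.1 β.2
    change LocallyOfFinitePresentation (pullback.snd (v β.1 β.2) (D.map (φ ≫ ψ β)).left)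
    infer_instance
  · have hy : (D.map φ).left y ∈ U := by
      have : y ∈ ((D ⋙ Over.forget S).map φ ⁻¹ᵁ U) := by rw [hφ]; trivial
      exact this
    obtain ⟨β, x, hx⟩ := Set.mem_iUnion.1 hy
    have hx' : v β.1 β.2 x = (D.map (φ ≫ ψ β)).left y := by
      rw [D.map_comp, Over.comp_left, Scheme.Hom.comp_apply]
      exact hx
    obtain ⟨z, -, hz⟩ := Scheme.Pullback.exists_preimage_pullback (f := v β.1 β.2)
      (g := (D.map (φ ≫ ψ β)).left) x y hx'
    exact ⟨β, z, hz⟩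
  · have h1 : z₁.left ≫ (c.π.app (i β.1 β.2)).left =
        (z₂.left ≫ pullback.fst (v β.1 β.2) (D.map (φ ≫ ψ β)).left) ≫ v β.1 β.2 := by
      have h0 : z₁ ≫ c.π.app (i β.1 β.2) = (z₁ ≫ c.π.app j') ≫ D.map (φ ≫ ψ β) := by
        rw [Category.assoc, c.w]
      rw [hz] at h0
      have h2 := congrArg (fun f => f.left) h0
      simp only [Over.comp_left] at h2
      rw [Category.assoc, hcond, ← Category.assoc]
      exact h2
    obtain ⟨l, hl⟩ := hgood β.1 β.2 Z.left z₁.left _ h1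
    let l' : Z ⟶ 𝒲.W β.1 := Over.homMk l (by
      rw [← Over.w (𝒲.w β.1), ← Category.assoc, hl, Over.w])
    have e : z₁ = l' ≫ 𝒲.w β.1 := by
      ext
      exact hl.symm
    rw [e]
    exact R.downward_closed (h𝒲 β.1) l'

end Groth.Agent.Lib.Helper14.AS
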