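import Groth.Agent.Lib.Helper14.SchemeDim
import Groth.Agent.Lib.Helper14.IntegralQf
import Groth.Agent.S10338

/-!
# Chains of specializations and the dimension of a decent algebraic space (helper14)
-/

universe u
open CategoryTheory CategoryTheory.Limits AlgebraicGeometry Opposite Topology TopologicalSpace

namespace Groth.Agent.Lib.Helper14.AS

section Top
variable {α β : Type*} [TopologicalSpace α] [TopologicalSpace β]

/-- A closed continuous map lifts specializations. -/
theorem exists_specializes_of_isClosedMap (g : α → β) (hg : IsClosedMap g) {a : α} {b : β}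
    (h : g a ⤳ b) : ∃ a' : α, a ⤳ a' ∧ g a' = b := by
  have h1 : b ∈ closure {g a} := specializes_iff_mem_closure.1 h
  have h2 : closure {g a} ⊆ g '' closure {a} := by
    have := hg.closure_image_subset {a}
    rwa [Set.image_singleton] at this
  obtain ⟨a', ha', rfl⟩ := h2 h1
  exact ⟨a', specializes_iff_mem_closure.2 ha', rfl⟩

/-- Lifting chains of specializations along a closed continuous map. -/
theorem exists_ltSeries_of_isClosedMap (g : α → β) (hc : Continuous g) (hg : IsClosedMap g)
    (p : @LTSeries β (specializationPreorder β)) :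
    ∀ a : α, g a = p.last → ∃ q : @LTSeries α (specializationPreorder α),
      q.last = a ∧ q.length = p.length ∧ g q.head = p.head := by
  let _ := specializationPreorder α
  let _ := specializationPreorder β
  induction p using RelSeries.inductionOn' with
  | singleton x =>
    intro a ha
    exact ⟨RelSeries.singleton _ a, rfl, rfl, ha⟩
  | snoc p x hx ih =>
    intro a ha
    rw [RelSeries.last_snoc] at ha
    have hx' : p.last < x := hx
    have hspec : g a ⤳ p.last := by rw [ha]; exact hx'.le
    obtain ⟨a₁, ha₁s, ha₁⟩ := exists_specializes_of_isClosedMap g hg hspec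
    obtain ⟨q₁, hq₁l, hq₁len, hq₁h⟩ := ih a₁ ha₁
    have hlt : q₁.last < a := by
      rw [hq₁l]
      refine lt_of_le_not_ge ha₁s ?_
      intro (h : a₁ ⤳ a)
      have : g a₁ ⤳ g a := h.map hc
      rw [ha, ha₁] at this
      exact hx'.not_ge this
    refine ⟨q₁.snoc a hlt, RelSeries.last_snoc _ _ _, by simp [hq₁len], ?_⟩
    rw [RelSeries.head_snoc, RelSeries.head_snoc]
    exact hq₁h

end Top

open AlgSp

variable {S : Scheme.{u}}

/-- The coheight of a point of a decent algebraic space, in the specialization preorder, is the
dimension of the local ring at any chart point over it. -/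
theorem coheight_ofPt_eq {X : Sp S} (hXa : IsAlgSpace X) (hX : IsDecent X) {U : Over S}
    (a : (yon S).obj U ⟶ X) (ha : RepWith @Etale a) (u : ↥U.left) :
    ((@Order.coheight (Points X) (specializationPreorder _) (Points.ofPt a u) : ℕ∞) :
      WithBot ℕ∞) = ringKrullDim (U.left.presheaf.stalk u) := by
  have : T0Space (Points X) := Groth.Agent.S10338.result ⟨X, hXa⟩ hX
  rw [ringKrullDim_stalk_eq_coheight]
  congr 1
  symm
  refine coheight_eq_of_generalizingMap (Points.ofPt a) (Points.continuous_ofPt a) ?_ ?_ u
  · intro u' x hx
    obtain ⟨u'', h1, h2⟩ := exists_generization_lift_of_isDecent hX a ha hx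
    exact ⟨u'', h1, h2⟩
  · intro u₁ u₂ hs he
    exact (eq_of_specializes_of_isDecent hX a ha he.symm hs).symm

/-- The dimension of a decent algebraic space is the Krull dimension of its space of points in
the specialization preorder. -/
theorem dim_eq_krullDim_points {X : Sp S} (hXa : IsAlgSpace X) (hX : IsDecent X) :
    AlgSp.dim X = @Order.krullDim (Points X) (specializationPreorder _) := by
  let _ := specializationPreorder (Points X)
  unfold AlgSp.dim
  rw [Order.krullDim_eq_iSup_coheight]
  apply le_antisymm
  · refine iSup_le fun U => iSup_le fun a => iSup_le fun ha => ?_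
    rw [topologicalKrullDim_eq_iSup_stalk]
    refine iSup_le fun u => ?_
    rw [← coheight_ofPt_eq hXa hX a ha u]
    exact le_iSup (fun x : Points X => ((Order.coheight x : ℕ∞) : WithBot ℕ∞)) (Points.ofPt a u)
  · refine iSup_le fun x => ?_
    obtain ⟨U, a, hae, has⟩ := hXa.atlas
    obtain ⟨u, rfl⟩ := ofPt_surjective_of_repWith has x
    rw [coheight_ofPt_eq hXa hX a hae u]
    refine le_trans ?_ (le_iSup_of_le U (le_iSup_of_le a (le_iSup_of_le hae le_rfl)))
    rw [topologicalKrullDim_eq_iSup_stalk]
    exact le_iSup (fun u : ↥U.left => ringKrullDim (U.left.presheaf.stalk u)) u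

end Groth.Agent.Lib.Helper14.AS
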