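import Groth.Agent.Lib.Helper21.FibDim1
import Groth.Agent.Lib.Helper14.SchemeDim
import Groth.Prelude.Def_Dual3

/-!
# A chain of specializations of length the residue transcendence degree in a fibre (helper14)
-/

universe u
open CategoryTheory CategoryTheory.Limits AlgebraicGeometry Opposite Topology TopologicalSpace

namespace Groth.Agent.Lib.Helper14.AS

open Groth.Agent.Lib.Helper21.FibDim Groth.Agent.Lib.Helper21.ChartPt

/-- In a domain of Krull dimension `r` there is a chain of primes of length `r` starting at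
zero; pulled back to `A`: a chain of primes of length `r` starting at the prime `P`. -/
theorem exists_ltSeries_primes_of_dim_quotient {A : Type u} [CommRing A] (P : PrimeSpectrum A)
    (r : ℕ) (h : ringKrullDim (A ⧸ P.asIdeal) = r) :
    ∃ l : LTSeries (PrimeSpectrum A), l.head = P ∧ l.length = r := by
  have : P.asIdeal.IsPrime := P.2
  have hdom : IsDomain (A ⧸ P.asIdeal) := Ideal.Quotient.isDomain _
  have h1 : (r : ℕ∞) ≤ Order.coheight (⊥ : PrimeSpectrum (A ⧸ P.asIdeal)) := by
    have h2 : ((Order.coheight (⊥ : PrimeSpectrum (A ⧸ P.asIdeal)) : ℕ∞) : WithBot ℕ∞) = r := by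
      rw [Order.coheight_bot_eq_krullDim]
      exact h
    exact_mod_cast h2.ge
  obtain ⟨l, hl1, hl2⟩ := Order.exists_series_of_le_coheight _ h1
  have hsm : StrictMono (PrimeSpectrum.comap (Ideal.Quotient.mk P.asIdeal)) := by
    intro x y hxy
    refine lt_of_le_of_ne ?_ ?_
    · exact Ideal.comap_mono (f := Ideal.Quotient.mk P.asIdeal) hxy.le
    · intro e
      exact hxy.ne (PrimeSpectrum.comap_injective_of_surjective _ Ideal.Quotient.mk_surjective e)
  refine ⟨l.map _ hsm, ?_, by simpa using hl2⟩
  rw [LTSeries.head_map, hl1]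
  ext1
  change Ideal.comap (Ideal.Quotient.mk P.asIdeal) ⊥ = P.asIdeal
  rw [← RingHom.ker_eq_comap_bot, Ideal.mk_ker]

set_option backward.isDefEq.respectTransparency.types false in
/-- For a morphism locally of finite type and a point `u` whose residue field has transcendence
degree `r` over the residue field of its image, there is a chain of `r` strict specializations
starting at `u` inside the fibre through `u`. -/
theorem exists_ltSeries_fibre_of_resTrdeg {U V : Scheme.{u}} (h : U ⟶ V) [LocallyOfFiniteType h]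
    (u : U) (r : ℕ) (hr : Dual3.resTrdeg h u = r) :
    ∃ p : @LTSeries U (specializationPreorder U),
      p.last = u ∧ p.length = r ∧ ∀ i, h (p i) = h u := by
  let _ := specializationPreorder U
  let _ := fiberOver h (h u)
  have hlft : LocallyOfFiniteType
      (h.fiber (h u) ↘ Spec (CommRingCat.of (V.residueField (h u)))) :=
    MorphismProperty.pullback_snd (P := @LocallyOfFiniteType) _ _
      inferInstance
  have ht : h.fiberι (h u) (h.asFiber u) = u := h.fiberι_asFiber u
  have htr : @Algebra.trdeg (V.residueField (h u)) ((h.fiber (h u)).residueField (h.asFiber u)) _ _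
      (Curv2.resAlgebra (V.residueField (h u)) (h.fiber (h u)) (h.asFiber u)) = r := by
    rw [trdeg_fiber_eq h (h u) (h.asFiber u)]
    have : Dual3.resTrdeg h (h.fiberι (h u) (h.asFiber u)) = r := by rw [ht]; exact hr
    exact this
  obtain ⟨W, hW, htW, -⟩ := Opens.isBasis_iff_nbhd.mp (h.fiber (h u)).isBasis_affineOpens
    (show h.asFiber u ∈ (⊤ : (h.fiber (h u)).Opens) from trivial)
  have hW : IsAffineOpen W := hW
  obtain ⟨a, ha1, ha2⟩ := exists_nat_trdeg_eq_and_dim_quotient (V.residueField (h u))
    (h.fiber (h u)) hW (h.asFiber u) htW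
  have har : a = r := by exact_mod_cast ha1.symm.trans htr
  rw [har] at ha2
  obtain ⟨l, hl1, hl2⟩ := exists_ltSeries_primes_of_dim_quotient
    (hW.primeIdealOf ⟨h.asFiber u, htW⟩) r ha2
  let ψ : PrimeSpectrum Γ(h.fiber (h u), W) → U := fun x => h.fiberι (h u) (hW.fromSpec x)
  have hψinj : Function.Injective ψ := fun x y hxy =>
    hW.fromSpec.isOpenEmbedding.injective ((h.fiberι (h u)).isEmbedding.injective hxy)
  have hψ : ∀ x y : PrimeSpectrum Γ(h.fiber (h u), W), x < y → ψ y < ψ x := by
    intro x y hxy
    have h1 : x ⤳ y := (PrimeSpectrum.le_iff_specializes x y).1 hxy.le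
    have h2 : ψ x ⤳ ψ y :=
      (h1.map hW.fromSpec.continuous).map (h.fiberι (h u)).continuous
    refine lt_of_le_not_ge h2 ?_
    intro (h3 : ψ y ⤳ ψ x)
    exact hxy.ne (hψinj (h2.antisymm h3).eq)
  refine ⟨LTSeries.mk l.length (fun i => ψ (l (Fin.rev i))) ?_, ?_, hl2, ?_⟩
  · intro i j hij
    exact hψ _ _ (l.strictMono (Fin.rev_lt_rev.2 hij))
  · change ψ (l (Fin.rev (Fin.last _))) = u
    rw [Fin.rev_last]
    change ψ l.head = u
    rw [hl1]
    change h.fiberι (h u) (hW.fromSpec (hW.primeIdealOf ⟨h.asFiber u, htW⟩)) = u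
    rw [hW.fromSpec_primeIdealOf]
    exact ht
  · intro i
    have : ψ (l (Fin.rev i)) ∈ Set.range (h.fiberι (h u)) := ⟨_, rfl⟩
    rw [h.range_fiberι] at this
    exact this

end Groth.Agent.Lib.Helper14.AS
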