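import Groth.Agent.Lib.Helper14.DimChain1
import Groth.Agent.Lib.Helper14.DimChain2

/-!
# The dimension formula for proper dominant morphisms of integral algebraic spaces (helper14)
-/

universe u
open CategoryTheory CategoryTheory.Limits AlgebraicGeometry Opposite Topology TopologicalSpace

namespace Groth.Agent.Lib.Helper14.AS

theorem krullDim_add_le_of_forall_ltSeries {α : Type*} [Preorder α] [Nonempty α] (r : ℕ)
    (K : WithBot ℕ∞) (h : ∀ p : LTSeries α, ((p.length + r : ℕ) : WithBot ℕ∞) ≤ K) :
    Order.krullDim α + ((r : ℕ∞) : WithBot ℕ∞) ≤ K := by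
  have h0 : (0 : WithBot ℕ∞) ≤ K := by
    obtain ⟨a⟩ := ‹Nonempty α›
    refine le_trans ?_ (h (RelSeries.singleton _ a))
    exact_mod_cast Nat.zero_le _
  obtain ⟨k, rfl⟩ : ∃ k : ℕ∞, K = k := by
    cases K with
    | bot => simp at h0
    | coe k => exact ⟨k, rfl⟩
  have h1 : Order.krullDim α = ((⨆ p : LTSeries α, (p.length : ℕ∞) : ℕ∞) : WithBot ℕ∞) := by
    rw [Order.krullDim_eq_iSup_length]
  rw [h1]
  have h2 : (⨆ p : LTSeries α, (p.length : ℕ∞)) + (r : ℕ∞) ≤ k := by
    rw [ENat.iSup_add]
    refine iSup_le fun p => ?_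
    have := h p
    exact_mod_cast this
  exact_mod_cast h2

open AlgSp

variable {S : Scheme.{u}}

set_option backward.isDefEq.respectTransparency.types false in
/-- A chain of length `r` in the generic fibre ending at the generic point. -/
theorem exists_ltSeries_generic_fibre {X Y : Sp S} (hX : IsAlgSpace X) (hY : IsAlgSpace Y)
    (hXd : IsDecent X) (f : X ⟶ Y) (hf : LocP @LocallyOfFiniteType f)
    (x : Points X) (r : ℕ)
    (hr : HasAtMor (fun _ _ h u => Dual3.resTrdeg h u = (r : Cardinal.{u})) f x) :
    ∃ s : @LTSeries (Points X) (specializationPreorder _),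
      s.last = x ∧ s.length = r ∧ ∀ i, Points.map f (s i) = Points.map f x := by
  let _ := specializationPreorder (Points X)
  obtain ⟨U, V, a, b, k, u, hae, hbe, comm, rfl⟩ := exists_chart_diagram_at hX hY f x
  have hlft : LocallyOfFiniteType k.left := hf a b k hae hbe comm
  have hr' := (hasAtMor_ofPt_iff (etSqInv_resTrdeg (fun z => z = (r : Cardinal.{u}))) f a b k
    hae hbe comm u).1 hr
  obtain ⟨p, hp1, hp2, hp3⟩ := exists_ltSeries_fibre_of_resTrdeg k.left u r hr'
  have hpt : ∀ w : ↥U.left, Points.map f (Points.ofPt a w) = Points.ofPt b (k.left w) := by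
    intro w
    rw [Points.map_ofPt, comm, ofPt_yon_map_comp]
  have hsm : @StrictMono _ _ (specializationPreorder ↥U.left) _ (Points.ofPt a) := by
    intro w₁ w₂ h12
    have h1 : w₂ ⤳ w₁ := h12.le
    have h2 : Points.ofPt a w₂ ⤳ Points.ofPt a w₁ := h1.map (Points.continuous_ofPt a)
    refine lt_of_le_not_ge h2 ?_
    intro (h3 : Points.ofPt a w₁ ⤳ Points.ofPt a w₂)
    have := t0Space_points_of_isDecent hX hXd
    have h4 : Points.ofPt a w₁ = Points.ofPt a w₂ := (h3.antisymm h2).eq
    have h5 : w₁ = w₂ := eq_of_specializes_of_isDecent hXd a hae h4 h1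
    exact h12.ne h5
  refine ⟨@LTSeries.map _ _ (specializationPreorder ↥U.left) _ p (Points.ofPt a) hsm, ?_, ?_, ?_⟩
  · rw [LTSeries.last_map, hp1]
  · simpa using hp2
  · intro i
    change Points.map f (Points.ofPt a (p i)) = _
    rw [hpt, hpt, hp3]

/-- The lower bound in the dimension formula: `dim Y + r ≤ dim X` for a closed dominant morphism
locally of finite type between decent algebraic spaces, `X` with a generic point `x` whose residue
field has transcendence degree `r` over the image. -/
theorem dim_add_trdeg_le_dim_of_closed {X Y : Sp S} (hX : IsAlgSpace X) (hY : IsAlgSpace Y)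
    (hXd : IsDecent X) (hYd : IsDecent Y) (f : X ⟶ Y) (hf : LocP @LocallyOfFiniteType f)
    (hcl : IsClosedMap (Points.map f)) (hdom : IsDominantMor f)
    (x : Points X) (hx : IsGenericPoint x (Set.univ : Set (Points X))) (r : ℕ)
    (hr : HasAtMor (fun _ _ h u => Dual3.resTrdeg h u = (r : Cardinal.{u})) f x) :
    AlgSp.dim Y + ((r : ℕ∞) : WithBot ℕ∞) ≤ AlgSp.dim X := by
  rw [dim_eq_krullDim_points hX hXd, dim_eq_krullDim_points hY hYd]
  let _ := specializationPreorder (Points X)
  let _ := specializationPreorder (Points Y)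
  have hT0 := t0Space_points_of_isDecent hY hYd
  -- the image of the generic point is generic
  have hη : IsGenericPoint (Points.map f x) (Set.univ : Set (Points Y)) := by
    have h1 := hx.image (Points.continuous_map f)
    rwa [Set.image_univ, hdom.closure_range] at h1
  have : Nonempty (Points Y) := ⟨Points.map f x⟩
  obtain ⟨s, hs1, hs2, hs3⟩ := exists_ltSeries_generic_fibre hX hY hXd f hf x r hr
  refine krullDim_add_le_of_forall_ltSeries r _ fun q => ?_
  -- extend `q` to end at the generic point
  obtain ⟨q', hq'1, hq'2⟩ : ∃ q' : LTSeries (Points Y), q'.last = Points.map f x ∧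
      q.length ≤ q'.length := by
    by_cases hq : q.last = Points.map f x
    · exact ⟨q, hq, le_rfl⟩
    · have hlt : q.last < Points.map f x := by
        have h1 : Points.map f x ⤳ q.last := hη.specializes (Set.mem_univ _)
        refine lt_of_le_not_ge h1 ?_
        intro (h2 : q.last ⤳ Points.map f x)
        exact hq (h2.antisymm h1).eq
      exact ⟨q.snoc _ hlt, RelSeries.last_snoc _ _ _, by simp⟩
  obtain ⟨t, ht1, ht2, -⟩ := exists_ltSeries_of_isClosedMap (Points.map f)
    (Points.continuous_map f) hcl q' s.head (by rw [hq'1]; exact hs3 0)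
  have hlen : (RelSeries.smash t s ht1).length = q'.length + r := by
    rw [RelSeries.smash_length, ht2, hs2]
  have h1 := Order.LTSeries.length_le_krullDim (RelSeries.smash t s ht1)
  rw [hlen] at h1
  refine le_trans ?_ h1
  have : q.length + r ≤ q'.length + r := by omega
  exact_mod_cast this

end Groth.Agent.Lib.Helper14.AS
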