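import Groth.Agent.Lib.Helper21.KA8
import Mathlib.FieldTheory.IsAlgClosed.AlgebraicClosure
import Mathlib.FieldTheory.IntermediateField.Adjoin.Algebra
import Mathlib.FieldTheory.Minpoly.Field

/-!
# From valuation rings to discrete valuation rings: the algebraic core (helper14)
-/

set_option autoImplicit false
universe u

namespace Groth.Agent.Lib.Helper14.AS

/-- If `φ : A → W` is a local homomorphism of valuation subrings compatible with a field
homomorphism `ψ`, then `W ∩ K = A`. -/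
theorem mem_of_isLocalHom_valuationSubring {K L : Type*} [Field K] [Field L]
    (A : ValuationSubring K) (W : ValuationSubring L) (ψ : K →+* L) (φ : A →+* W)
    (hφ : IsLocalHom φ) (hcomm : ∀ a : A, ((φ a : W) : L) = ψ (a : K)) (z : K) (hz : ψ z ∈ W) :
    z ∈ A := by
  by_contra hzA
  have h1 : z⁻¹ ∈ A := (A.mem_or_inv_mem z).resolve_left hzA
  have hz0 : z ≠ 0 := fun h => hzA (h ▸ zero_mem A)
  let a : A := ⟨z⁻¹, h1⟩
  let w : W := ⟨ψ z, hz⟩
  have h2 : φ a * w = 1 := by
    apply Subtype.ext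
    change ((φ a : W) : L) * ψ z = 1
    rw [hcomm a]
    change ψ z⁻¹ * ψ z = 1
    rw [← map_mul, inv_mul_cancel₀ hz0, map_one]
  have h3 : IsUnit (φ a) := IsUnit.of_mul_eq_one _ h2
  have h4 : IsUnit a := hφ.map_nonunit a h3
  obtain ⟨a', ha'⟩ := h4.exists_right_inv
  have h5 : z⁻¹ * (a' : K) = 1 := congrArg Subtype.val ha'
  have h6 : (a' : K) = z := by
    have := congrArg (fun t => z * t) h5
    simpa [← mul_assoc, mul_inv_cancel₀ hz0] using this
  exact hzA (h6 ▸ a'.2)

open Groth.Agent.Lib.Helper21 in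
set_option maxHeartbeats 1600000 in
/-- **The algebraic core.**  `R` Noetherian, `κ` a field finitely generated over the image of `R`,
`𝒱` a valuation subring of `κ` containing the image of `R`, `C` a nonzero finite `κ`-algebra and
`β : B → C`.  There is a finite extension `κ'` of `κ` with: either a valuation subring `𝒱'` of
`κ'` extending `𝒱` and a `κ'`-point `σ` of `C` with `σ (β B) ⊆ 𝒱'`; or a discrete valuation
subring `A` of `κ'` containing the image of `R` such that no point `θ` of `C` in an algebraic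
extension `L` of `κ'` maps `β B` into a valuation subring of `L` dominating `A`. -/
theorem exists_split_or_dvr (R : Type u) [CommRing R] [IsNoetherianRing R]
    (κ : Type u) [Field κ] [Algebra R κ] (S₀ : Finset κ)
    (hS₀ : Subfield.closure (Set.range (algebraMap R κ) ∪ (S₀ : Set κ)) = ⊤)
    (B : Type u) [CommRing B] (C : Type u) [CommRing C] [Algebra κ C] [Module.Finite κ C]
    [Nontrivial C] (β : B →+* C) (𝒱 : ValuationSubring κ) (h𝒱 : ∀ r : R, algebraMap R κ r ∈ 𝒱) :
    ∃ (κ' : Type u) (_ : Field κ') (_ : Algebra κ κ') (_ : Module.Finite κ κ'),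
      (∃ (𝒱' : ValuationSubring κ') (σ : C →ₐ[κ] κ'),
        (∀ z : κ, algebraMap κ κ' z ∈ 𝒱' ↔ z ∈ 𝒱) ∧ ∀ b, σ (β b) ∈ 𝒱') ∨
      (∃ A : ValuationSubring κ', IsDiscreteValuationRing A ∧
        (∀ r : R, algebraMap κ κ' (algebraMap R κ r) ∈ A) ∧
        ∀ (L : Type u) [Field L] [Algebra κ' L] [Algebra.IsAlgebraic κ' L]
          (𝒲 : ValuationSubring L) (_ : ∀ z : κ', algebraMap κ' L z ∈ 𝒲 → z ∈ A)
          (θ : C →+* L) (_ : θ.comp (algebraMap κ C) = (algebraMap κ' L).comp (algebraMap κ κ')),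
          ¬ ∀ b, θ (β b) ∈ 𝒲) := by
  classical
  let Ω := AlgebraicClosure κ
  have : Fintype (C →ₐ[κ] Ω) := minpoly.AlgHom.fintype κ C Ω
  -- generators of `C`
  obtain ⟨G, hG⟩ := (Module.Finite.fg_top : (⊤ : Submodule κ C).FG)
  let T₁ : Finset Ω := (Finset.univ ×ˢ G).image (fun p : (C →ₐ[κ] Ω) × C => p.1 p.2)
  let κ' : IntermediateField κ Ω := IntermediateField.adjoin κ (T₁ : Set Ω)
  have hfin : FiniteDimensional κ κ' :=
    IntermediateField.finiteDimensional_adjoin (fun x _ => Algebra.IsIntegral.isIntegral x)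
  have hσκ' : ∀ (σ : C →ₐ[κ] Ω) (c : C), σ c ∈ κ' := by
    intro σ c
    have hc : c ∈ Submodule.span κ (G : Set C) := by rw [hG]; trivial
    induction hc using Submodule.span_induction with
    | mem g hg =>
      exact IntermediateField.subset_adjoin κ _
        (Finset.mem_coe.mpr (Finset.mem_image.mpr ⟨(σ, g), by simpa using hg, rfl⟩))
    | zero => rw [map_zero]; exact zero_mem _
    | add x y _ _ hx hy => rw [map_add]; exact add_mem hx hy
    | smul a x _ hx =>
      rw [map_smul, Algebra.smul_def]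
      exact mul_mem (κ'.algebraMap_mem a) hx
  let σ' : (C →ₐ[κ] Ω) → (C →ₐ[κ] κ') := fun σ =>
    σ.codRestrict κ'.toSubalgebra (hσκ' σ)
  have hσ' : ∀ σ c, ((σ' σ c : κ') : Ω) = σ c := fun _ _ => rfl
  -- the valuation subring of `κ'`
  let f₀ : 𝒱 →+* κ' := (algebraMap κ κ').comp 𝒱.subtype
  obtain ⟨𝒱', h𝒱', hloc⟩ := IsLocalRing.exists_factor_valuationRing f₀
  have hcomap : ∀ z : κ, algebraMap κ κ' z ∈ 𝒱' ↔ z ∈ 𝒱 := by
    intro z
    constructor
    · intro hz
      exact mem_of_isLocalHom_valuationSubring 𝒱 𝒱' (algebraMap κ κ') _ hloc (fun _ => rfl) z hz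
    · intro hz
      exact h𝒱' ⟨z, hz⟩
  refine ⟨κ', inferInstance, inferInstance, hfin, ?_⟩
  by_cases hcase : ∃ σ : C →ₐ[κ] Ω, ∀ b, σ' σ (β b) ∈ 𝒱'
  · obtain ⟨σ, hσ⟩ := hcase
    exact Or.inl ⟨𝒱', σ' σ, hcomap, hσ⟩
  · right
    push Not at hcase
    choose b hb using hcase
    let c : (C →ₐ[κ] Ω) → κ' := fun σ => (σ' σ (β (b σ)))⁻¹
    let T : Finset κ' := Finset.univ.image c
    have hTval : ∀ t ∈ T, 𝒱'.valuation t < 1 := by
      intro t ht
      obtain ⟨σ, -, rfl⟩ := Finset.mem_image.mp ht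
      change 𝒱'.valuation (σ' σ (β (b σ)))⁻¹ < 1
      rw [map_inv₀]
      have h1 : ¬ 𝒱'.valuation (σ' σ (β (b σ))) ≤ 1 := fun hle =>
        hb σ ((𝒱'.valuation_le_one_iff _).mp hle)
      exact inv_lt_one_of_one_lt₀ (not_le.mp h1)
    have hTV : ∀ t ∈ T, t ∈ 𝒱' := fun t ht => (𝒱'.valuation_le_one_iff t).mp (hTval t ht).le
    let ρ : R →+* κ' := (algebraMap κ κ').comp (algebraMap R κ)
    let algR : Algebra R κ' := ρ.toAlgebra
    have hρ𝒱' : ∀ r : R, ρ r ∈ 𝒱' := fun r => (hcomap _).mpr (h𝒱 r)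
    let R' : Subalgebra R κ' := Algebra.adjoin R (T : Set κ')
    have hR'fg : R'.FG := Subalgebra.fg_adjoin_finset T
    have hR'ft : Algebra.FiniteType R R' := (Subalgebra.fg_iff_finiteType R').mp hR'fg
    have hR'N : IsNoetherianRing R' := Algebra.FiniteType.isNoetherianRing R R'
    let V' : Subalgebra R κ' :=
      { 𝒱'.toSubring with algebraMap_mem' := fun r => hρ𝒱' r }
    have hR'V : R' ≤ V' := Algebra.adjoin_le fun t ht => hTV t (Finset.mem_coe.mp ht)
    let ι : R' →+* 𝒱' := (R'.val : R' →+* κ').codRestrict 𝒱'.toSubring (fun r => hR'V r.2)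
    let 𝔭' : Ideal R' := (IsLocalRing.maximalIdeal 𝒱').comap ι
    have h𝔭'prime : 𝔭'.IsPrime := Ideal.comap_isPrime ι _
    have hmem𝔭' : ∀ r : R', r ∈ 𝔭' ↔ 𝒱'.valuation (r : κ') < 1 := by
      intro r
      change ι r ∈ IsLocalRing.maximalIdeal 𝒱' ↔ _
      rw [𝒱'.valuation_lt_one_iff]
      rfl
    -- a point of `C`
    obtain ⟨σ₀⟩ : Nonempty (C →ₐ[κ] Ω) := by
      obtain ⟨𝔪, h𝔪⟩ := Ideal.exists_maximal C
      let _ : Field (C ⧸ 𝔪) := Ideal.Quotient.field 𝔪
      have : Algebra.IsAlgebraic κ (C ⧸ 𝔪) := Algebra.IsAlgebraic.of_finite κ (C ⧸ 𝔪)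
      exact ⟨(IsAlgClosed.lift : (C ⧸ 𝔪) →ₐ[κ] Ω).comp (Ideal.Quotient.mkₐ κ 𝔪)⟩
    have hcT : ∀ σ, c σ ∈ T := fun σ => Finset.mem_image_of_mem c (Finset.mem_univ σ)
    have hc0 : ∀ σ, c σ ≠ 0 := by
      intro σ
      refine inv_ne_zero fun h0 => hb σ ?_
      rw [h0]; exact zero_mem 𝒱'
    have h𝔭'0 : 𝔭' ≠ ⊥ := by
      intro hbot
      have h1 : (⟨c σ₀, Algebra.subset_adjoin (Finset.mem_coe.mpr (hcT σ₀))⟩ : R') ∈ 𝔭' :=
        (hmem𝔭' _).mpr (hTval _ (hcT σ₀))
      rw [hbot, Ideal.mem_bot] at h1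
      exact hc0 σ₀ (congrArg Subtype.val h1)
    -- generators of `κ'` as a field
    obtain ⟨G', hG'⟩ := (Module.Finite.fg_top : (⊤ : Submodule κ κ').FG)
    let S₀' : Finset κ' := S₀.image (algebraMap κ κ') ∪ G'
    have hS₀' : Subfield.closure (Set.range (algebraMap R' κ') ∪ (S₀' : Set κ')) = ⊤ := by
      set F := Subfield.closure (Set.range (algebraMap R' κ') ∪ (S₀' : Set κ')) with hF
      have hκ : ∀ z : κ, algebraMap κ κ' z ∈ F := by
        have h1 : Subfield.closure (Set.range (algebraMap R κ) ∪ (S₀ : Set κ)) ≤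
            F.comap (algebraMap κ κ') := by
          rw [Subfield.closure_le]
          rintro z (⟨r, rfl⟩ | hz)
          · refine Subfield.subset_closure (Or.inl ⟨algebraMap R R' r, rfl⟩)
          · refine Subfield.subset_closure (Or.inr ?_)
            exact Finset.mem_coe.mpr (Finset.mem_union_left _ (Finset.mem_image_of_mem _ hz))
        intro z
        have : z ∈ Subfield.closure (Set.range (algebraMap R κ) ∪ (S₀ : Set κ)) := by
          rw [hS₀]; trivial
        exact h1 this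
      rw [eq_top_iff]
      intro z _
      have hz : z ∈ Submodule.span κ (G' : Set κ') := by rw [hG']; trivial
      induction hz using Submodule.span_induction with
      | mem g hg =>
        exact Subfield.subset_closure (Or.inr (Finset.mem_coe.mpr (Finset.mem_union_right _ hg)))
      | zero => exact zero_mem _
      | add x y _ _ hx hy => exact add_mem (hx trivial) (hy trivial)
      | smul a x _ hx =>
        rw [Algebra.smul_def]
        exact mul_mem (hκ a) (hx trivial)
    obtain ⟨A, hAdvr, hR'A, hAval⟩ :=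
      KA.exists_dvr_of_closure_eq_top R' κ' Subtype.val_injective S₀' hS₀' 𝔭' h𝔭'0
    refine ⟨A, hAdvr, fun r => hR'A (algebraMap R R' r), ?_⟩
    intro L _ _ _ 𝒲 h𝒲 θ hθ hall
    let τ : L →ₐ[κ'] Ω := IsAlgClosed.lift
    let σ : C →ₐ[κ] Ω :=
      { (τ : L →+* Ω).comp θ with
        commutes' := by
          intro k
          change τ (θ (algebraMap κ C k)) = algebraMap κ Ω k
          have h1 : θ (algebraMap κ C k) = algebraMap κ' L (algebraMap κ κ' k) :=
            congrArg (fun g => g k) hθ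
          rw [h1, τ.commutes]
          rfl }
    have hσ : ∀ c, σ c = τ (θ c) := fun _ => rfl
    let z : κ' := σ' σ (β (b σ))
    have hz1 : algebraMap κ' L z = θ (β (b σ)) := by
      have hinj : Function.Injective τ := (τ : L →+* Ω).injective
      apply hinj
      rw [τ.commutes]
      exact (hσ' σ _).trans (hσ _)
    have hzA : z ∈ A := h𝒲 z (hz1 ▸ hall (b σ))
    have h1 : A.valuation (c σ) < 1 := by
      have h2 := (hAval ⟨c σ, Algebra.subset_adjoin (Finset.mem_coe.mpr (hcT σ))⟩).mpr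
        ((hmem𝔭' _).mpr (hTval _ (hcT σ)))
      exact h2
    have h3 : A.valuation z ≤ 1 := (A.valuation_le_one_iff _).mpr hzA
    have h4 : z ≠ 0 := by
      intro h0
      apply hb σ
      change z ∈ 𝒱'
      rw [h0]
      exact zero_mem 𝒱'
    have h5 : A.valuation (c σ) * A.valuation z = 1 := by
      rw [← map_mul]
      change A.valuation (z⁻¹ * z) = 1
      rw [inv_mul_cancel₀ h4, map_one]
    have h6 : A.valuation (c σ) * A.valuation z < 1 :=
      (mul_le_of_le_one_right' h3).trans_lt h1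
    exact absurd h5 h6.ne

end Groth.Agent.Lib.Helper14.AS
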