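import Groth.Agent.Lib.Helper14.DvrLift2
import Groth.Agent.Lib.Helper14.AlgSpQCMor2
import Groth.Agent.Lib.Helper14.AlgSpVC2
import Groth.Agent.Lib.Helper21.VE1

/-!
# Lifts for discrete valuation rings give lifts for all valuation rings, III (helper14)
-/

open CategoryTheory CategoryTheory.Limits AlgebraicGeometry Opposite AlgSp
open CategoryTheory.Functor Groth.Agent.Lib.Helper14.AS

universe u

noncomputable section

namespace Groth.Agent.Lib.Helper14.AS

variable {S : Scheme.{u}}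

/-- Lifts of squares with discrete valuation rings are inherited by base changes. -/
theorem dvr_hasLift_of_isPullback {X Y Z X' : Sp S} {f : X ⟶ Y} {g : Z ⟶ Y} {fst : X' ⟶ X}
    {f' : X' ⟶ Z} (sqX : IsPullback fst f' f g)
    (hdvr : ∀ sq : ValSq f, IsDiscreteValuationRing sq.A → sq.HasLift)
    (sq' : ValSq f') (h' : IsDiscreteValuationRing sq'.A) : sq'.HasLift := by
  obtain ⟨l, hl1, hl2⟩ := hdvr (ValSq.ofIsPullback sqX sq') h'
  let l' : (yon S).obj sq'.ptA ⟶ X := l
  have hl1' : (yon S).map sq'.j ≫ l' = sq'.top ≫ fst := hl1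
  have hl2' : l' ≫ f = sq'.bot ≫ g := hl2
  refine ⟨sqX.lift l' sq'.bot hl2', ?_, sqX.lift_snd _ _ _⟩
  apply sqX.hom_ext
  · rw [Category.assoc, sqX.lift_fst, hl1']
  · rw [Category.assoc, sqX.lift_snd, sq'.comm]

open Groth.Agent.Lib.Helper21 in
set_option backward.isDefEq.respectTransparency.types false in
set_option maxHeartbeats 1600000 in
/-- A separated morphism of finite type from an algebraic space to a locally Noetherian scheme,
all of whose valuative squares with discrete valuation rings have lifts, satisfies the existence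
part of the valuative criterion. -/
theorem existVC_of_dvr_lift {V : Over S} [IsLocallyNoetherian V.left] {X : Sp S}
    (hX : IsAlgSpace X) (f : X ⟶ (yon S).obj V) (hsep : IsSeparatedMor f)
    (hqc : IsQuasiCompactMor f) (hlft : LocP @LocallyOfFiniteType f)
    (hdvr : ∀ sq : ValSq f, IsDiscreteValuationRing sq.A → sq.HasLift) : ExistVC f := by
  classical
  intro sq
  obtain ⟨β, hβ⟩ := (yon S).map_surjective sq.bot
  -- an affine open of `V` through the closed point
  obtain ⟨W₀, hW₀, hsW₀⟩ : ∃ W₀ : V.left.Opens, IsAffineOpen W₀ ∧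
      β.left (IsLocalRing.closedPoint sq.A) ∈ W₀ := by
    obtain ⟨W, h1, h2, -⟩ := TopologicalSpace.Opens.isBasis_iff_nbhd.mp V.left.isBasis_affineOpens
      (show β.left (IsLocalRing.closedPoint sq.A) ∈ (⊤ : V.left.Opens) from trivial)
    exact ⟨W, h1, h2⟩
  obtain ⟨φ, hφ⟩ := DVRExt.exists_factor_fromSpec (R := CommRingCat.of sq.A) β.left hW₀ hsW₀
  let R : CommRingCat.{u} := Γ(V.left, W₀)
  have hRN : IsNoetherianRing R := IsLocallyNoetherian.component_noetherian ⟨W₀, hW₀⟩
  let w : Spec R ⟶ S := hW₀.fromSpec ≫ V.hom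
  let W : Over S := Over.mk w
  let ι₀ : W ⟶ V := Over.homMk hW₀.fromSpec rfl
  have hι₀open : IsOpenImmersion ι₀.left := inferInstanceAs (IsOpenImmersion hW₀.fromSpec)
  have hβ₀w : Spec.map φ ≫ W.hom = sq.ptA.hom := by
    change Spec.map φ ≫ hW₀.fromSpec ≫ V.hom = sq.str
    rw [← Category.assoc, hφ]
    exact Over.w β
  let β₀ : sq.ptA ⟶ W := Over.homMk (Spec.map φ) hβ₀w
  have hβ₀ι : β₀ ≫ ι₀ = β := by
    apply Over.OverMorphism.ext
    exact hφ
  -- the base change to `W`
  let X₀ := pullback f ((yon S).map ι₀)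
  let pX : X₀ ⟶ X := pullback.fst f ((yon S).map ι₀)
  let f₀ : X₀ ⟶ (yon S).obj W := pullback.snd f ((yon S).map ι₀)
  have sqX : IsPullback pX f₀ f ((yon S).map ι₀) := IsPullback.of_hasPullback _ _
  have hX₀ : IsAlgSpace X₀ :=
    isAlgSpace_of_isPullback (repDiag_of_isAlgSpace (IsAlgSpace.yon_obj V)) hX
      (IsAlgSpace.yon_obj W) sqX
  have hsep₀ : IsSeparatedMor f₀ :=
    MorphismProperty.of_isPullback (P := (RepWith (S := S) @IsClosedImmersion).diagonal) sqX hsep
  have hdvr₀ : ∀ sq' : ValSq f₀, IsDiscreteValuationRing sq'.A → sq'.HasLift :=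
    fun sq' h' => dvr_hasLift_of_isPullback sqX hdvr sq' h'
  have hWc : CompactSpace ↥W.left := inferInstanceAs (CompactSpace ↥(Spec R))
  have hX₀qc : IsQuasiCompactSp X₀ :=
    hqc (IsAlgSpace.yon_obj W) ((isQuasiCompactSp_yon_iff W).2 hWc) _ _ _ sqX
  obtain ⟨U', a', hU'aff, hae', has'⟩ := isQuasiCompactSp_iff_exists_affine_chart.1 hX₀qc
  obtain ⟨h', hh'⟩ := (yon S).map_surjective (a' ≫ f₀)
  -- `h'` is locally of finite type
  have hpXet : RepWith @Etale pX := by
    have h1 : RepWith @Etale ((yon S).map ι₀) := (repWith_yon_map_iff _ _).2 inferInstance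
    exact repWith_of_isPullback _ sqX.flip h1
  have hh'lft : LocallyOfFiniteType h'.left := by
    have h1 : LocallyOfFiniteType (h' ≫ ι₀).left := by
      refine hlft (a' ≫ pX) (𝟙 _) (h' ≫ ι₀) (repWith_comp _ hae' hpXet) (repWith_id _ V) ?_
      rw [Category.assoc, sqX.w, ← Category.assoc, ← hh', ← Functor.map_comp, Category.comp_id]
    have h2 : LocallyOfFiniteType (h'.left ≫ ι₀.left) := h1
    exact locallyOfFiniteType_of_comp h'.left ι₀.left
  -- the chart as a spectrum
  let B : CommRingCat.{u} := Γ(U'.left, ⊤)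
  let eU : U'.left ≅ Spec B := U'.left.isoSpec
  let hB : R ⟶ B := Spec.preimage (eU.inv ≫ h'.left)
  have hhB : Spec.map hB = eU.inv ≫ h'.left := Spec.map_preimage _
  let U : Over S := Over.mk (Spec.map hB ≫ w)
  have hUw : eU.inv ≫ U'.hom = U.hom := by
    change eU.inv ≫ U'.hom = Spec.map hB ≫ w
    rw [hhB, Category.assoc]
    congr 1
    exact (Over.w h').symm
  let iU : U ≅ U' := Over.isoMk eU.symm hUw
  let a : (yon S).obj U ⟶ X₀ := (yon S).map iU.hom ≫ a'
  have hiUet : RepWith @Etale ((yon S).map iU.hom) :=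
    (repWith_yon_map_iff _ _).2 (inferInstanceAs (Etale eU.inv))
  have hiUsurj : RepWith @Surjective ((yon S).map iU.hom) :=
    (repWith_yon_map_iff _ _).2 (inferInstanceAs (Surjective eU.inv))
  have hae : RepWith @Etale a := repWith_comp _ hiUet hae'
  have has : RepWith @Surjective a := repWith_comp _ hiUsurj has'
  have hh : a ≫ f₀ = (yon S).map (Over.homMk (Spec.map hB) rfl : U ⟶ W) := by
    rw [Category.assoc, ← hh', ← Functor.map_comp]
    congr 1
    apply Over.OverMorphism.ext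
    exact hhB.symm
  have hft : hB.hom.FiniteType := by
    rw [← HasRingHomProperty.Spec_iff (P := @LocallyOfFiniteType), hhB]
    infer_instance
  -- the square over `W`
  have htop₀c : sq.top ≫ f = (yon S).map (sq.j ≫ β₀) ≫ (yon S).map ι₀ := by
    rw [← Functor.map_comp, Category.assoc, hβ₀ι, Functor.map_comp, hβ, sq.comm]
  let top₀ : (yon S).obj sq.ptK ⟶ X₀ := sqX.lift sq.top ((yon S).map (sq.j ≫ β₀)) htop₀c
  have htop₀1 : top₀ ≫ pX = sq.top := sqX.lift_fst _ _ _
  have htop₀2 : top₀ ≫ f₀ = (yon S).map (sq.j ≫ β₀) := sqX.lift_snd _ _ _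
  let sq₀ : ValSq f₀ :=
    { A := sq.A, K := sq.K, str := sq.str, top := top₀, bot := (yon S).map β₀,
      comm := by rw [htop₀2, Functor.map_comp] }
  obtain ⟨e₀, l₀, hl₀1, hl₀2⟩ :=
    hasLiftExt_affine_base w hB hft hX₀ f₀ hsep₀ a hae has hh hdvr₀ sq₀
  let e : sq.DomExt :=
    { A' := e₀.A', K' := e₀.K', φ := e₀.φ, ψ := e₀.ψ, comm := e₀.comm,
      isLocalHom := e₀.isLocalHom }
  let l₀' : (yon S).obj e.ptA' ⟶ X₀ := l₀
  refine ⟨e, l₀' ≫ pX, ?_, ?_⟩
  · have h1 : (yon S).map (Over.homMk (Spec.map (CommRingCat.ofHom (algebraMap e.A' e.K'))) rfl :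
        e.ptK' ⟶ e.ptA') ≫ l₀' = (yon S).map (Over.homMk (Spec.map (CommRingCat.ofHom e.ψ)) (by
          change Spec.map _ ≫ Spec.map _ ≫ _ = Spec.map _ ≫ Spec.map _ ≫ _
          rw [← Spec.map_comp_assoc, ← Spec.map_comp_assoc, ← CommRingCat.ofHom_comp,
            ← CommRingCat.ofHom_comp, e.comm]) : e.ptK' ⟶ sq.ptK) ≫ top₀ := hl₀1
    rw [← Category.assoc, h1, Category.assoc, htop₀1]
  · have h2 : l₀' ≫ f₀ = (yon S).map (Over.homMk (Spec.map (CommRingCat.ofHom e.φ)) rfl :
        e.ptA' ⟶ sq.ptA) ≫ (yon S).map β₀ := hl₀2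
    rw [Category.assoc, sqX.w, ← Category.assoc, h2, Category.assoc, ← Functor.map_comp, hβ₀ι, hβ]

end Groth.Agent.Lib.Helper14.AS
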