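import Groth.Agent.Lib.Helper21.DVRExt6
import Mathlib

/-!
# A discrete valuation ring realising a specialization (helper14)
-/

set_option autoImplicit false
universe u
open AlgebraicGeometry CategoryTheory Limits TopologicalSpace

namespace Groth.Agent.Lib.Helper14.AS

open Groth.Agent.Lib.Helper21

/-- For `g : U ⟶ W` locally of finite type with `W` locally Noetherian and `g u ⤳ v`, there is a
discrete valuation ring `A` with `Spec A ⟶ W` sending the closed point to `v` whose generic point
lifts to `U`. -/
theorem exists_dvr_of_specializes {U W : Scheme.{u}} [IsLocallyNoetherian W] (g : U ⟶ W)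
    [LocallyOfFiniteType g] (u : U) (v : W) (hsp : g u ⤳ v) :
    ∃ (A : Type u) (_ : CommRing A) (_ : IsDomain A) (_ : IsDiscreteValuationRing A)
      (m : Spec (CommRingCat.of A) ⟶ W) (n : Spec (CommRingCat.of (FractionRing A)) ⟶ U),
      m (IsLocalRing.closedPoint A) = v ∧
      Spec.map (CommRingCat.ofHom (algebraMap A (FractionRing A))) ≫ m = n ≫ g := by
  by_cases hne : v = g u
  · -- the constant case: power series over the residue field
    let k := U.residueField u
    refine ⟨PowerSeries k, inferInstance, inferInstance, inferInstance,
      Spec.map (CommRingCat.ofHom (PowerSeries.C : k →+* PowerSeries k)) ≫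
        U.fromSpecResidueField u ≫ g,
      Spec.map (CommRingCat.ofHom ((algebraMap (PowerSeries k) (FractionRing (PowerSeries k))).comp
        (PowerSeries.C : k →+* PowerSeries k))) ≫ U.fromSpecResidueField u, ?_, ?_⟩
    · rw [hne]
      let c : ↥(Spec (CommRingCat.of (PowerSeries k))) := IsLocalRing.closedPoint (PowerSeries k)
      change (Spec.map (CommRingCat.ofHom (PowerSeries.C : k →+* PowerSeries k)) ≫
        U.fromSpecResidueField u ≫ g) c = g u
      let c₀ : ↥(Spec (U.residueField u)) := IsLocalRing.closedPoint (U.residueField u)
      have h1 : (Spec.map (CommRingCat.ofHom (PowerSeries.C : k →+* PowerSeries k))) c = c₀ :=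
        Subsingleton.elim _ _
      have h2 : (U.fromSpecResidueField u) c₀ = u := Scheme.fromSpecResidueField_apply _ _
      rw [Scheme.Hom.comp_apply, h1, Scheme.Hom.comp_apply, h2]
    · rw [← Category.assoc, ← Spec.map_comp, Category.assoc]
      rfl
  · obtain ⟨A, h, hA, hcl, hgen⟩ := DVRExt.exists_dvr_valuationSubring_of_specializes g u v hsp hne
    let θ : U.residueField u →+* FractionRing A :=
      ((FractionRing.algEquiv A (U.residueField u)).symm : U.residueField u →+* FractionRing A)
    have hθ : θ.comp A.subtype = algebraMap A (FractionRing A) := by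
      ext a
      exact (FractionRing.algEquiv A (U.residueField u)).symm.commutes a
    refine ⟨A, inferInstance, inferInstance, hA, h,
      Spec.map (CommRingCat.ofHom θ) ≫ U.fromSpecResidueField u, hcl, ?_⟩
    rw [Category.assoc, ← hgen, ← Category.assoc, ← Spec.map_comp, ← CommRingCat.ofHom_comp, hθ]

end Groth.Agent.Lib.Helper14.AS
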