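import Groth.Agent.Lib.Helper14.GenSpec2
import Groth.Agent.Lib.Helper14.DvrSpec
import Groth.Agent.Lib.Helper14.AlgSpQCMor2
import Groth.Agent.Lib.Helper14.AlgSpPoints
import Groth.Agent.Lib.Helper14.AlgSpLocP2
import Groth.Agent.Lib.Helper14.DvrLift3

/-!
# A discrete valuation ring through a point of the closure of the image (helper14)
-/

open CategoryTheory CategoryTheory.Limits AlgebraicGeometry Opposite AlgSp
open CategoryTheory.Functor Groth.Agent.Lib.Helper14.AS

universe u

noncomputable section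

namespace Groth.Agent.Lib.Helper14.AS

variable {S : Scheme.{u}}

set_option backward.isDefEq.respectTransparency.types false in
set_option maxHeartbeats 1600000 in
theorem exists_dvr_diagram {X Y : Sp S} (hX : IsAlgSpace X) (hY : IsAlgSpace Y) (f : X ⟶ Y)
    (hqc : IsQuasiCompactMor f) (hlft : LocP @LocallyOfFiniteType f) (hYN : IsLocNoethSp Y)
    (y : Points Y) (hy : y ∈ closure (Set.range (Points.map f))) :
    ∃ (A : Type u) (_ : CommRing A) (_ : IsDomain A) (_ : IsDiscreteValuationRing A)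
      (a : Spec (CommRingCat.of A) ⟶ S) (α : (yon S).obj (Over.mk a) ⟶ Y)
      (κ : (yon S).obj (Over.mk (Spec.map (CommRingCat.ofHom
        (algebraMap A (FractionRing A))) ≫ a)) ⟶ X),
      κ ≫ f = (yon S).map (Over.homMk (Spec.map (CommRingCat.ofHom
        (algebraMap A (FractionRing A)))) rfl :
          Over.mk (Spec.map (CommRingCat.ofHom (algebraMap A (FractionRing A))) ≫ a) ⟶
            Over.mk a) ≫ α ∧
      Points.map α (Points.schemeEquiv (Over.mk a) (IsLocalRing.closedPoint A)) = y := by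
  classical
  obtain ⟨V, b, hbe, hbs, hVN⟩ := hYN
  have : IsLocallyNoetherian V.left := hVN
  obtain ⟨v, hv⟩ := ofPt_surjective_of_repWith hbs y
  obtain ⟨V₀, hV₀, hvV₀⟩ : ∃ V₀ : V.left.Opens, IsAffineOpen V₀ ∧ v ∈ V₀ := by
    obtain ⟨W, h1, h2, -⟩ := TopologicalSpace.Opens.isBasis_iff_nbhd.mp V.left.isBasis_affineOpens
      (show v ∈ (⊤ : V.left.Opens) from trivial)
    exact ⟨W, h1, h2⟩
  let W₀ : Over S := Over.mk (V₀.ι ≫ V.hom)
  let ι₀ : W₀ ⟶ V := Over.homMk V₀.ι rfl
  have hW₀aff : IsAffine W₀.left := hV₀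
  have hW₀N : IsLocallyNoetherian W₀.left := inferInstanceAs (IsLocallyNoetherian ↑V₀)
  have hι₀open : IsOpenImmersion ι₀.left := inferInstanceAs (IsOpenImmersion V₀.ι)
  let v₀ : ↥W₀.left := ⟨v, hvV₀⟩
  have hv₀ : ι₀.left v₀ = v := rfl
  let c : (yon S).obj W₀ ⟶ Y := (yon S).map ι₀ ≫ b
  have hι₀et : RepWith @Etale ((yon S).map ι₀) := (repWith_yon_map_iff _ _).2 inferInstance
  have hce : RepWith @Etale c := repWith_comp _ hι₀et hbe
  have hcv₀ : Points.ofPt c v₀ = y := by
    rw [ofPt_yon_map_comp, hv₀, hv]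
  -- the base change
  have sq := IsPullback.of_hasPullback f c
  have hP₀ : IsAlgSpace (pullback f c) :=
    isAlgSpace_of_isPullback (repDiag_of_isAlgSpace hY) hX (IsAlgSpace.yon_obj W₀) sq
  have hWc : CompactSpace ↥W₀.left := inferInstance
  have hP₀qc : IsQuasiCompactSp (pullback f c) :=
    hqc (IsAlgSpace.yon_obj W₀) ((isQuasiCompactSp_yon_iff W₀).2 hWc) _ _ _ sq
  obtain ⟨U', a', hU'aff, hae', has'⟩ := isQuasiCompactSp_iff_exists_affine_chart.1 hP₀qc
  obtain ⟨g, hg⟩ := (yon S).map_surjective (a' ≫ pullback.snd f c)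
  have hfstet : RepWith @Etale (pullback.fst f c) := repWith_of_isPullback _ sq.flip hce
  have hglft : LocallyOfFiniteType g.left := by
    refine hlft (a' ≫ pullback.fst f c) c g (repWith_comp _ hae' hfstet) hce ?_
    rw [Category.assoc, sq.w, ← Category.assoc, ← hg]
  -- `v₀` is in the closure of the image of `g`
  have hcl : v₀ ∈ closure (Set.range g.left) := by
    rw [mem_closure_iff]
    intro O hO hvO
    have h1 : IsOpen (Points.ofPt c '' O) := isOpenMap_ofPt c hce O hO
    have h2 : y ∈ Points.ofPt c '' O := ⟨v₀, hvO, hcv₀⟩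
    obtain ⟨_, ⟨o, hoO, rfl⟩, ⟨x, hx⟩⟩ := mem_closure_iff.1 hy _ h1 h2
    have e : Points.map f x = Points.map c (Points.ofScheme W₀ o) := by
      rw [hx, Points.ofPt_eq_map_ofScheme]
    obtain ⟨z, -, hz2⟩ := points_exists_of_isPullback sq x (Points.ofScheme W₀ o) e
    obtain ⟨u, hu⟩ := ofPt_surjective_of_repWith has' z
    refine ⟨o, hoO, u, ?_⟩
    have h3 : Points.toScheme W₀ (Points.ofPt ((yon S).map g) u) = g.left u :=
      Points.toScheme_ofPt g u
    rw [← h3, hg, ← Points.map_ofPt, hu, hz2, Points.toScheme_ofScheme]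
  obtain ⟨u, hu⟩ := exists_specializes_of_mem_closure_range g.left v₀ hcl
  obtain ⟨A, instA1, instA2, instA3, m, n, hm, hmn⟩ := exists_dvr_of_specializes g.left u v₀ hu
  let a : Spec (CommRingCat.of A) ⟶ S := m ≫ W₀.hom
  let mO : Over.mk a ⟶ W₀ := Over.homMk m rfl
  have hnw : n ≫ U'.hom = Spec.map (CommRingCat.ofHom (algebraMap A (FractionRing A))) ≫ a := by
    change n ≫ U'.hom = Spec.map _ ≫ m ≫ W₀.hom
    rw [← Category.assoc, hmn, Category.assoc]
    congr 1
    exact (Over.w g).symm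
  let nO : Over.mk (Spec.map (CommRingCat.ofHom (algebraMap A (FractionRing A))) ≫ a) ⟶ U' :=
    Over.homMk n hnw
  let jA : Over.mk (Spec.map (CommRingCat.ofHom (algebraMap A (FractionRing A))) ≫ a) ⟶
      Over.mk a := Over.homMk (Spec.map (CommRingCat.ofHom (algebraMap A (FractionRing A)))) rfl
  have hnj : nO ≫ g = jA ≫ mO := by
    apply Over.OverMorphism.ext
    exact hmn.symm
  refine ⟨A, instA1, instA2, instA3, a, (yon S).map mO ≫ c,
    (yon S).map nO ≫ a' ≫ pullback.fst f c, ?_, ?_⟩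
  · change ((yon S).map nO ≫ a' ≫ pullback.fst f c) ≫ f = (yon S).map jA ≫ (yon S).map mO ≫ c
    calc ((yon S).map nO ≫ a' ≫ pullback.fst f c) ≫ f
        = (yon S).map nO ≫ (a' ≫ pullback.snd f c) ≫ c := by
          simp only [Category.assoc, sq.w]
      _ = (yon S).map (nO ≫ g) ≫ c := by rw [← hg, Functor.map_comp, Category.assoc]
      _ = _ := by rw [hnj, Functor.map_comp, Category.assoc]
  · change Points.map ((yon S).map mO ≫ c) (Points.schemeHomeo (Over.mk a)
      (IsLocalRing.closedPoint A)) = y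
    rw [Points.map_comp, Points.map_yon_map_apply]
    change Points.map c (Points.ofScheme W₀ (m (IsLocalRing.closedPoint A))) = y
    rw [hm, ← Points.ofPt_eq_map_ofScheme, hcv₀]

end Groth.Agent.Lib.Helper14.AS
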