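import Mathlib

universe u
open IsLocalRing

namespace Groth.Agent.Lib.Helper14.DvrExtFin

section

variable {A K A' K' : Type*} [CommRing A] [IsDomain A] [ValuationRing A] [Field K] [Algebra A K]
  [IsFractionRing A K] [CommRing A'] [IsDomain A'] [Field K'] [Algebra A' K']
  [IsFractionRing A' K'] (φ : A →+* A') (ψ : K →+* K')
  (comm : (algebraMap A' K').comp φ = ψ.comp (algebraMap A K))

omit [IsDomain A'] in
include comm in
/-- More than `[K' : K]` elements of `A'` satisfy a linear relation over `A` with a unit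
coefficient. -/
theorem exists_relation (n : ℕ)
    (hn : letI := ψ.toAlgebra; Module.Finite K K' ∧ Module.finrank K K' = n)
    (x : Fin (n + 1) → A') :
    ∃ a : Fin (n + 1) → A, (∃ i, IsUnit (a i)) ∧ ∑ i, φ (a i) * x i = 0 := by
  classical
  let _ := ψ.toAlgebra
  obtain ⟨hfin, hrank⟩ := hn
  have hnotLI : ¬ LinearIndependent K (fun i => algebraMap A' K' (x i)) := by
    intro hLI
    have := hLI.fintype_card_le_finrank
    rw [Fintype.card_fin, hrank] at this
    omega
  obtain ⟨c, hc, i0, hi0⟩ := Fintype.not_linearIndependent_iff.1 hnotLI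
  obtain ⟨w, hw⟩ : ∃ w, w = ValuationRing.valuation A K := ⟨_, rfl⟩
  obtain ⟨im, -, him⟩ := Finset.exists_max_image Finset.univ (fun i => w (c i))
    ⟨i0, Finset.mem_univ _⟩
  have hcm : c im ≠ 0 := by
    intro h0
    have h1 := him i0 (Finset.mem_univ _)
    rw [h0, map_zero] at h1
    exact hi0 ((map_eq_zero w).1 (le_antisymm h1 zero_le'))
  have hd : ∀ i, ∃ a : A, algebraMap A K a = c i / c im := by
    intro i
    rw [← ValuationRing.mem_integer_iff, Valuation.mem_integer_iff, ← hw, map_div₀]
    exact div_le_one_of_le₀ (him i (Finset.mem_univ _)) zero_le'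
  choose a ha using hd
  refine ⟨a, ⟨im, ?_⟩, ?_⟩
  · have h1 : algebraMap A K (a im) = 1 := by rw [ha, div_self hcm]
    have h2 : a im = 1 := (IsFractionRing.injective A K) (by rw [h1, map_one])
    rw [h2]
    exact isUnit_one
  · apply IsFractionRing.injective A' K'
    rw [map_zero, map_sum]
    have h3 : ∀ i, algebraMap A' K' (φ (a i) * x i) = (c im)⁻¹ • (c i • algebraMap A' K' (x i)) := by
      intro i
      rw [map_mul]
      have : algebraMap A' K' (φ (a i)) = ψ (algebraMap A K (a i)) := by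
        have := congrArg (fun f => f (a i)) comm
        simpa using this
      rw [this, ha, smul_smul, Algebra.smul_def, RingHom.algebraMap_toAlgebra]
      congr 2
      field_simp
    simp_rw [h3]
    rw [← Finset.smul_sum, hc, smul_zero]

end

section

variable {A K A' K' : Type*} [CommRing A] [IsDomain A] [IsDiscreteValuationRing A] [Field K]
  [Algebra A K] [IsFractionRing A K] [CommRing A'] [IsDomain A'] [ValuationRing A'] [Field K']
  [Algebra A' K'] [IsFractionRing A' K'] (φ : A →+* A') (ψ : K →+* K')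
  (comm : (algebraMap A' K').comp φ = ψ.comp (algebraMap A K)) [IsLocalHom φ]

/-- Strict divisibility: `y = z c` with `c` in the maximal ideal. -/
def SD (y z : A') : Prop := ∃ c ∈ maximalIdeal A', y = z * c

theorem SD.trans {x y z : A'} (h1 : SD x y) (h2 : SD y z) : SD x z := by
  obtain ⟨c, hc, rfl⟩ := h1
  obtain ⟨d, hd, rfl⟩ := h2
  exact ⟨d * c, Ideal.mul_mem_left _ _ hc, by ring⟩

theorem SD.mem {x y : A'} (h : SD x y) : x ∈ maximalIdeal A' := by
  obtain ⟨c, hc, rfl⟩ := h
  exact Ideal.mul_mem_left _ _ hc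

omit [IsLocalHom φ] in
include comm in
/-- There is no strictly increasing chain of principal ideals of length `[K' : K] + 1` starting at
the image of a uniformizer. -/
theorem no_chain (n : ℕ) (hn : letI := ψ.toAlgebra; Module.Finite K K' ∧ Module.finrank K K' = n)
    (ϖ : A) (hϖ : Irreducible ϖ) (hp : φ ϖ ≠ 0) (x : ℕ → A') (hx0 : x 0 = φ ϖ)
    (hx : ∀ i < n, SD (x i) (x (i + 1))) (hxn : x n ∈ maximalIdeal A') : False := by
  classical
  obtain ⟨a, ⟨j0, hj0⟩, hsum⟩ := exists_relation φ ψ comm n hn (fun i => x i.1)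
  -- chain property
  have hchain : ∀ i j : ℕ, i < j → j ≤ n → SD (x i) (x j) := by
    intro i j hij hjn
    induction j with
    | zero => omega
    | succ k ih =>
      rcases Nat.lt_succ_iff_lt_or_eq.1 hij with h | h
      · exact SD.trans (ih h (by omega)) (hx k (by omega))
      · rw [h]; exact hx k (by omega)
  have hmem : ∀ i : ℕ, i ≤ n → x i ∈ maximalIdeal A' := by
    intro i hi
    rcases Nat.lt_or_eq_of_le hi with h | h
    · exact SD.mem (hx i h)
    · rw [h]; exact hxn
  -- the largest index with a unit coefficient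
  obtain ⟨i0, hi0mem, hi0max⟩ := Finset.exists_max_image
    (Finset.univ.filter (fun i : Fin (n + 1) => IsUnit (a i))) (fun i => i.1)
    ⟨j0, by simp [hj0]⟩
  have hi0u : IsUnit (a i0) := (Finset.mem_filter.1 hi0mem).2
  -- `φ ϖ` is a multiple of `x i0`
  have hpdiv : ∃ c', φ ϖ = x i0 * c' := by
    rcases Nat.eq_zero_or_pos i0.1 with h | h
    · exact ⟨1, by rw [h, hx0, mul_one]⟩
    · obtain ⟨c, -, hc⟩ := hchain 0 i0 h (Nat.lt_succ_iff.1 i0.2)
      exact ⟨c, by rw [← hx0, hc]⟩
  obtain ⟨c', hc'⟩ := hpdiv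
  have hx0ne : x i0 ≠ 0 := by
    intro h
    rw [h, zero_mul] at hc'
    exact hp hc'
  have hterm : ∀ i : Fin (n + 1), i ≠ i0 → ∃ c ∈ maximalIdeal A', φ (a i) * x i = x i0 * c := by
    intro i hi
    rcases lt_or_gt_of_ne (fun h => hi (Fin.ext h) : i.1 ≠ i0.1) with h | h
    · obtain ⟨c, hc, hc2⟩ := hchain i i0 h (Nat.lt_succ_iff.1 i0.2)
      exact ⟨c * φ (a i), Ideal.mul_mem_right _ _ hc, by rw [hc2]; ring⟩
    · have hnu : ¬ IsUnit (a i) := by
        intro hu
        have := hi0max i (Finset.mem_filter.2 ⟨Finset.mem_univ _, hu⟩)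
        omega
      have hmem' : a i ∈ maximalIdeal A := (mem_maximalIdeal _).2 hnu
      rw [hϖ.maximalIdeal_eq, Ideal.mem_span_singleton'] at hmem'
      obtain ⟨b, hb⟩ := hmem'
      refine ⟨c' * φ b * x i, Ideal.mul_mem_left _ _ (hmem i (Nat.lt_succ_iff.1 i.2)), ?_⟩
      rw [← hb, map_mul, hc']
      ring
  choose! cc hcc1 hcc2 using hterm
  have hsplit : φ (a i0) * x i0 + ∑ i ∈ Finset.univ.erase i0, φ (a i) * x i = 0 := by
    rw [Finset.add_sum_erase Finset.univ (fun i : Fin (n + 1) => φ (a i) * x i)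
      (Finset.mem_univ i0)]
    exact hsum
  have hrest : ∑ i ∈ Finset.univ.erase i0, φ (a i) * x i =
      x i0 * ∑ i ∈ Finset.univ.erase i0, cc i := by
    rw [Finset.mul_sum]
    exact Finset.sum_congr rfl fun i hi => hcc2 i (Finset.ne_of_mem_erase hi)
  rw [hrest, mul_comm (φ (a i0)), ← mul_add] at hsplit
  have h0 : φ (a i0) + ∑ i ∈ Finset.univ.erase i0, cc i = 0 :=
    (mul_eq_zero.1 hsplit).resolve_left hx0ne
  have hsm : ∑ i ∈ Finset.univ.erase i0, cc i ∈ maximalIdeal A' :=
    Ideal.sum_mem _ fun i hi => hcc1 i (Finset.ne_of_mem_erase hi)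
  have hφu : IsUnit (φ (a i0)) := hi0u.map φ
  have : φ (a i0) ∈ maximalIdeal A' := by
    have : φ (a i0) = -∑ i ∈ Finset.univ.erase i0, cc i := eq_neg_of_add_eq_zero_left h0
    rw [this]
    exact Ideal.neg_mem_iff _ |>.2 hsm
  exact (mem_maximalIdeal _).1 this hφu

include comm in
/-- A valuation ring dominating a discrete valuation ring, with finite extension of fraction
fields, is a discrete valuation ring. -/
theorem isDiscreteValuationRing_of_finite
    (hfin : letI := ψ.toAlgebra; Module.Finite K K') : IsDiscreteValuationRing A' := by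
  classical
  obtain ⟨n, hn⟩ : ∃ n, (letI := ψ.toAlgebra; Module.Finite K K' ∧ Module.finrank K K' = n) :=
    ⟨_, hfin, rfl⟩
  obtain ⟨ϖ, hϖ⟩ := IsDiscreteValuationRing.exists_irreducible A
  have hφinj : Function.Injective φ := by
    rw [injective_iff_map_eq_zero]
    intro a ha
    have h1 := congrArg (fun f => f a) comm
    simp only [RingHom.comp_apply] at h1
    rw [ha, map_zero] at h1
    have h2 : algebraMap A K a = 0 := (map_eq_zero ψ).1 h1.symm
    exact (IsFractionRing.injective A K) (by rw [h2, map_zero])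
  have hp : φ ϖ ≠ 0 := fun h => hϖ.ne_zero (hφinj (by rw [h, map_zero]))
  have hpm : φ ϖ ∈ maximalIdeal A' := by
    rw [mem_maximalIdeal, mem_nonunits_iff]
    intro hu
    exact hϖ.not_isUnit ((isUnit_map_iff φ ϖ).1 hu)
  -- strict divisibility from non-divisibility
  have hSD : ∀ y z : A', ¬ y ∣ z → SD y z := by
    intro y z hyz
    rcases ValuationRing.dvd_total y z with h | ⟨c, hc⟩
    · exact (hyz h).elim
    · refine ⟨c, ?_, hc⟩
      rw [mem_maximalIdeal, mem_nonunits_iff]
      intro hu
      obtain ⟨u, rfl⟩ := hu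
      exact hyz ⟨↑u⁻¹, by rw [hc, mul_assoc, Units.mul_inv, mul_one]⟩
  -- the maximal ideal is principal
  have hprinc : ∃ x ∈ maximalIdeal A', ∀ y ∈ maximalIdeal A', x ∣ y := by
    by_contra hcon
    push Not at hcon
    have hnext : ∀ y : A', ∃ z : A', y ∈ maximalIdeal A' → z ∈ maximalIdeal A' ∧ SD y z := by
      intro y
      by_cases hy : y ∈ maximalIdeal A'
      · obtain ⟨z, hz, hyz⟩ := hcon y hy
        exact ⟨z, fun _ => ⟨hz, hSD y z hyz⟩⟩
      · exact ⟨0, fun h => (hy h).elim⟩
    choose next hnext using hnext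
    have hmemx : ∀ i : ℕ, next^[i] (φ ϖ) ∈ maximalIdeal A' := by
      intro i
      induction i with
      | zero => exact hpm
      | succ k ih =>
        rw [Function.iterate_succ_apply']
        exact (hnext _ ih).1
    refine no_chain φ ψ comm n hn ϖ hϖ hp (fun i => next^[i] (φ ϖ)) rfl (fun i _ => ?_) (hmemx n)
    change SD (next^[i] (φ ϖ)) (next^[i + 1] (φ ϖ))
    rw [Function.iterate_succ_apply']
    exact (hnext _ (hmemx i)).2
  obtain ⟨x, hxm, hxdiv⟩ := hprinc
  have hx0 : x ≠ 0 := by
    intro h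
    obtain ⟨c, hc⟩ := hxdiv _ hpm
    rw [h, zero_mul] at hc
    exact hp hc
  have hxnu : ¬ IsUnit x := (mem_maximalIdeal _).1 hxm
  -- some power of `x` is divisible by `φ ϖ`
  have hpow : ∃ j, φ ϖ ∣ x ^ j := by
    by_contra hcon
    push Not at hcon
    have hSDp : ∀ j, SD (φ ϖ) (x ^ j) := fun j => hSD _ _ (hcon j)
    refine no_chain φ ψ comm n hn ϖ hϖ hp (fun i => if i = 0 then φ ϖ else x ^ (n + 1 - i)) rfl
      (fun i hi => ?_) ?_
    · by_cases h0 : i = 0
      · subst h0
        simp only [if_true, zero_add, one_ne_zero, if_false]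
        exact hSDp _
      · simp only [h0, if_false, Nat.add_one_ne_zero]
        refine ⟨x, hxm, ?_⟩
        have : n + 1 - i = (n + 1 - (i + 1)) + 1 := by omega
        rw [this, pow_succ]
    · by_cases h0 : n = 0
      · simp only [h0, if_true]
        exact hpm
      · simp only [h0, if_false]
        have : n + 1 - n = 1 := by omega
        rw [this, pow_one]
        exact hxm
  obtain ⟨j, hj⟩ := hpow
  -- every nonzero element divides a power of `x`
  have hdivpow : ∀ y : A', y ≠ 0 → ∃ N, y ∣ x ^ N := by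
    intro y hy
    let _ := ψ.toAlgebra
    let _ := φ.toAlgebra
    let _ : Algebra A K' := ((algebraMap A' K').comp φ).toAlgebra
    have t1 : IsScalarTower A A' K' := IsScalarTower.of_algebraMap_eq fun _ => rfl
    have t2 : IsScalarTower A K K' := IsScalarTower.of_algebraMap_eq fun a => by
      have := congrArg (fun f => f a) comm
      exact this
    have halgK : IsAlgebraic K (algebraMap A' K' y) :=
      (Algebra.IsAlgebraic.of_finite K K').isAlgebraic _
    have halgA : IsAlgebraic A (algebraMap A' K' y) :=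
      (IsFractionRing.isAlgebraic_iff A K K').2 halgK
    have halg : IsAlgebraic A y :=
      (isAlgebraic_algebraMap_iff (IsFractionRing.injective A' K')).1 halgA
    obtain ⟨r, hr0, hr⟩ := halg.exists_nonzero_dvd (mem_nonZeroDivisors_of_ne_zero hy)
    obtain ⟨M, u, hu⟩ := IsDiscreteValuationRing.eq_unit_mul_pow_irreducible hr0 hϖ
    refine ⟨j * M, ?_⟩
    have h1 : algebraMap A A' r = φ ↑u * φ ϖ ^ M := by
      rw [hu, RingHom.algebraMap_toAlgebra, map_mul, map_pow]
    have h2 : y ∣ φ ϖ ^ M := by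
      have hu' : IsUnit (φ ↑u) := u.isUnit.map φ
      rw [h1] at hr
      exact (hu'.dvd_mul_left).1 hr
    have h3 : φ ϖ ^ M ∣ x ^ (j * M) := by
      rw [pow_mul]
      exact pow_dvd_pow_of_dvd hj M
    exact h2.trans h3
  -- factorization
  have hassoc : ∀ N : ℕ, ∀ y d : A', x ^ N = y * d → ∃ k, Associated (x ^ k) y := by
    intro N
    induction N with
    | zero =>
      intro y d h
      rw [pow_zero] at h
      exact ⟨0, by rw [pow_zero]; exact (associated_one_iff_isUnit.2
        (IsUnit.of_mul_eq_one _ h.symm)).symm⟩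
    | succ N ih =>
      intro y d h
      by_cases hyu : IsUnit y
      · exact ⟨0, by rw [pow_zero]; exact (associated_one_iff_isUnit.2 hyu).symm⟩
      · obtain ⟨y', rfl⟩ := hxdiv y ((mem_maximalIdeal _).2 hyu)
        have h' : x ^ N = y' * d := by
          apply mul_left_cancel₀ hx0
          rw [← pow_succ', h]
          ring
        obtain ⟨k, hk⟩ := ih y' d h'
        exact ⟨k + 1, by rw [pow_succ']; exact hk.mul_left x⟩
  have hirr : Irreducible x := by
    rw [irreducible_iff]
    refine ⟨hxnu, fun a b hab => ?_⟩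
    by_contra hcon
    push Not at hcon
    obtain ⟨a', rfl⟩ := hxdiv a ((mem_maximalIdeal _).2 hcon.1)
    have h1 : x * 1 = x * (a' * b) := by rw [mul_one, ← mul_assoc]; exact hab
    have h2 : 1 = a' * b := mul_left_cancel₀ hx0 h1
    exact hcon.2 (IsUnit.of_mul_eq_one_right _ h2.symm)
  refine IsDiscreteValuationRing.ofHasUnitMulPowIrreducibleFactorization ⟨x, hirr, ?_⟩
  intro y hy
  obtain ⟨N, d, hd⟩ := hdivpow y hy
  exact hassoc N y d hd

end

end Groth.Agent.Lib.Helper14.DvrExtFin
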