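import Groth.Agent.Lib.Helper14.Normal5

/-!
# Gluing a quotient of global sections (helper14)
-/

set_option autoImplicit false
universe u
open CategoryTheory AlgebraicGeometry Opposite TopologicalSpace

namespace Groth.Agent.Lib.Helper14.DvrFib

open Groth.Agent.Lib.Helper14.Normal

/-- If `β` is regular on sections over every open and divides `α` locally, it divides `α`. -/
theorem exists_mul_eq_of_locally {Y : Scheme.{u}} (α β : Γ(Y, ⊤))
    (hreg : ∀ (W : Y.Opens) (u v : Γ(Y, W)), resTop Y W β * u = resTop Y W β * v → u = v)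
    (hloc : ∀ y : Y, ∃ W : Y.Opens, y ∈ W ∧ ∃ s : Γ(Y, W), resTop Y W β * s = resTop Y W α) :
    ∃ t : Γ(Y, ⊤), β * t = α := by
  choose W hyW s hs using hloc
  have hcompat : TopCat.Presheaf.IsCompatible Y.presheaf W s := by
    intro i j
    apply hreg (W i ⊓ W j)
    have e1 := congrArg (Y.presheaf.map (Opens.infLELeft (W i) (W j)).op).hom (hs i)
    have e2 := congrArg (Y.presheaf.map (Opens.infLERight (W i) (W j)).op).hom (hs j)
    rw [map_mul, map_resTop, map_resTop] at e1 e2
    exact e1.trans e2.symm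
  obtain ⟨t', ht', -⟩ := Y.sheaf.existsUnique_gluing' W ⊤ (fun i => homOfLE le_top)
    (fun y _ => Opens.mem_iSup.2 ⟨y, hyW y⟩) s hcompat
  obtain ⟨t, ht⟩ : ∃ t : Γ(Y, ⊤), ∀ i, resTop Y (W i) t = s i := ⟨t', ht'⟩
  refine ⟨t, ?_⟩
  refine TopCat.Presheaf.section_ext Y.sheaf ⊤ (β * t) α (fun x hx => ?_)
  change (Y.presheaf.germ ⊤ x hx).hom (β * t) = (Y.presheaf.germ ⊤ x hx).hom α
  rw [map_mul, ← germ_resTop Y (W x) x (hyW x) t, ← germ_resTop Y (W x) x (hyW x) β,
    ← germ_resTop Y (W x) x (hyW x) α, ← map_mul]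
  congr 1
  have : resTop Y (W x) t = s x := ht x
  rw [this, hs x]

/-- Regularity on sections over all opens follows from regularity over affine opens. -/
theorem regular_of_affine {Y : Scheme.{u}} (β : Γ(Y, ⊤))
    (h : ∀ (V : Y.Opens), IsAffineOpen V → ∀ u v : Γ(Y, V),
      resTop Y V β * u = resTop Y V β * v → u = v)
    (W : Y.Opens) (u v : Γ(Y, W)) (huv : resTop Y W β * u = resTop Y W β * v) : u = v := by
  refine TopCat.Presheaf.section_ext Y.sheaf W u v (fun x hx => ?_)
  obtain ⟨_, ⟨V, hV, rfl⟩, hxV, hVW⟩ :=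
    Y.isBasis_affineOpens.exists_subset_of_mem_open hx W.isOpen
  have hVW' : V ≤ W := hVW
  have e := congrArg (Y.presheaf.map (homOfLE hVW').op).hom huv
  rw [map_mul, map_mul, map_resTop] at e
  have := h V hV _ _ e
  have h2 := congrArg (Y.presheaf.germ V x hxV).hom this
  change (Y.presheaf.germ W x hx).hom u = (Y.presheaf.germ W x hx).hom v
  rw [← TopCat.Presheaf.germ_res_apply Y.presheaf (homOfLE hVW') x hxV u,
    ← TopCat.Presheaf.germ_res_apply Y.presheaf (homOfLE hVW') x hxV v]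
  exact h2

end Groth.Agent.Lib.Helper14.DvrFib
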