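import Groth.Agent.Lib.Helper14.DvrFib1

/-!
# Fibres of `X ⟶ Spec Γ(X)`: pushout kernels and the flat case (helper14)
-/

set_option autoImplicit false
universe u
open CategoryTheory CategoryTheory.Limits AlgebraicGeometry Opposite TopologicalSpace

namespace Groth.Agent.Lib.Helper14.DvrFib

open Groth.Agent.Lib.Helper14.Normal

/-- In a pushout square of rings along a surjection with principal kernel, the kernel of the
other leg is generated by the image of the generator. -/
theorem ker_inl_le_of_isPushout {R M κ P : CommRingCat.{u}} {φ : R ⟶ M} {ρ : R ⟶ κ} {inl : M ⟶ P}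
    {inr : κ ⟶ P} (h : IsPushout φ ρ inl inr) (hρ : Function.Surjective ρ.hom) (ϖ : R)
    (hker : RingHom.ker ρ.hom = Ideal.span {ϖ}) :
    RingHom.ker inl.hom ≤ Ideal.span {φ.hom ϖ} := by
  let I : Ideal M := Ideal.span {φ.hom ϖ}
  let q : M →+* M ⧸ I := Ideal.Quotient.mk I
  have hle : RingHom.ker ρ.hom ≤ RingHom.ker (q.comp φ.hom) := by
    rw [hker, Ideal.span_singleton_le_iff_mem, RingHom.mem_ker]
    exact Ideal.Quotient.eq_zero_iff_mem.2 (Ideal.subset_span rfl)
  let k : κ →+* M ⧸ I := RingHom.liftOfSurjective ρ.hom hρ ⟨q.comp φ.hom, hle⟩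
  have hk : k.comp ρ.hom = q.comp φ.hom := RingHom.liftOfSurjective_comp ρ.hom hρ _
  have hw : φ ≫ CommRingCat.ofHom q = ρ ≫ CommRingCat.ofHom k := by
    apply CommRingCat.hom_ext
    exact hk.symm
  have hd : inl ≫ h.desc (CommRingCat.ofHom q) (CommRingCat.ofHom k) hw = CommRingCat.ofHom q :=
    h.inl_desc _ _ _
  intro x hx
  have e1 : q x = 0 := by
    have e2 := congrArg (fun g : M ⟶ CommRingCat.of (M ⧸ I) => g.hom x) hd
    simp only [CommRingCat.hom_comp, RingHom.comp_apply, CommRingCat.hom_ofHom] at e2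
    rw [← e2, (RingHom.mem_ker).1 hx, map_zero]
  exact Ideal.Quotient.eq_zero_iff_mem.1 e1

/-- The base change of `X ⟶ Spec Γ(X)` along a flat morphism is scheme theoretically dominant. -/
theorem ker_eq_bot_of_flat {X S T : Scheme.{u}} [CompactSpace X] (f : X ⟶ S)
    (g : Spec Γ(X, ⊤) ⟶ S) (hg : X.toSpecΓ ≫ g = f) (ρ : T ⟶ S) [Flat ρ] :
    (pullback.map f ρ g ρ X.toSpecΓ (𝟙 _) (𝟙 _) ((Category.comp_id f).trans hg.symm)
        ((Category.comp_id _).trans (Category.id_comp _).symm)).ker = ⊥ := by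
  set cs := pullback.map f ρ g ρ X.toSpecΓ (𝟙 _) (𝟙 _) ((Category.comp_id f).trans hg.symm)
        ((Category.comp_id _).trans (Category.id_comp _).symm) with hcs
  have t : IsPullback (pullback.snd g ρ) (pullback.fst g ρ) ρ g :=
    (IsPullback.of_hasPullback g ρ).flip
  have e1 : cs ≫ pullback.snd g ρ = pullback.snd f ρ :=
    (pullback.lift_snd _ _ _).trans (Category.comp_id _)
  have e2 : cs ≫ pullback.fst g ρ = pullback.fst f ρ ≫ X.toSpecΓ := pullback.lift_fst _ _ _
  have s : IsPullback (cs ≫ pullback.snd g ρ) (pullback.fst f ρ) ρ (X.toSpecΓ ≫ g) := by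
    rw [e1, hg]
    exact (IsPullback.of_hasPullback f ρ).flip
  have sq : IsPullback cs (pullback.fst f ρ) (pullback.fst g ρ) X.toSpecΓ :=
    IsPullback.of_right s e2 t
  have : IsSchemeTheoreticallyDominant X.toSpecΓ := ⟨X.ker_toSpecΓ⟩
  have := IsSchemeTheoreticallyDominant.of_isPullback sq.flip
  exact cs.ker_eq_bot

end Groth.Agent.Lib.Helper14.DvrFib
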