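import Groth.Agent.Lib.Helper14.DvrFib3

/-!
# Fibres of `X ⟶ Spec Γ(X)`: the principal closed case, conclusion (helper14)
-/

set_option autoImplicit false
universe u
open CategoryTheory CategoryTheory.Limits AlgebraicGeometry Opposite TopologicalSpace

namespace Groth.Agent.Lib.Helper14.DvrFib

open Groth.Agent.Lib.Helper14.Normal

set_option backward.isDefEq.respectTransparency.types false in
theorem ker_eq_bot_of_principal {X S T : Scheme.{u}} [IsAffine S] [IsAffine T]
    (f : X ⟶ S) [Flat f] [QuasiCompact f] (g : Spec Γ(X, ⊤) ⟶ S) (hg : X.toSpecΓ ≫ g = f)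
    (ρ : T ⟶ S) (hρ : Function.Surjective ρ.appTop.hom) (ϖ : Γ(S, ⊤))
    (hker : RingHom.ker ρ.appTop.hom = Ideal.span {ϖ})
    (hreg : ϖ ∈ nonZeroDivisors Γ(S, ⊤)) :
    (pullback.map f ρ g ρ X.toSpecΓ (𝟙 _) (𝟙 _) ((Category.comp_id f).trans hg.symm)
        ((Category.comp_id _).trans (Category.id_comp _).symm)).ker = ⊥ := by
  set cs := pullback.map f ρ g ρ X.toSpecΓ (𝟙 _) (𝟙 _) ((Category.comp_id f).trans hg.symm)
        ((Category.comp_id _).trans (Category.id_comp _).symm) with hcs
  have e2 : cs ≫ pullback.fst g ρ = pullback.fst f ρ ≫ X.toSpecΓ := pullback.lift_fst _ _ _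
  have : IsClosedImmersion ρ := IsClosedImmersion.of_surjective_of_isAffine ρ hρ
  have hsurj : Function.Surjective (pullback.fst g ρ).appTop :=
    (IsClosedImmersion.isAffine_surjective_of_isAffine (f := pullback.fst g ρ)).2
  have hcpt : CompactSpace (pullback f ρ : Scheme.{u}) := inferInstance
  have hqc : QuasiCompact cs := (HasAffineProperty.iff_of_isAffine (P := @QuasiCompact)).2 hcpt
  have hinj : Function.Injective cs.appTop.hom := by
    rw [injective_iff_map_eq_zero]
    intro z hz
    obtain ⟨b', rfl⟩ := hsurj z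
    have hb : (pullback.fst f ρ).appTop.hom (X.toSpecΓ.appTop.hom b') = 0 := by
      have h1 := congrArg (fun k => k.appTop.hom b') e2
      simp only [Scheme.Hom.comp_appTop, CommRingCat.hom_comp, RingHom.comp_apply] at h1
      rw [← h1]
      exact hz
    obtain ⟨t, ht⟩ := exists_mul_eq_of_locally (X.toSpecΓ.appTop.hom b') (f.appTop.hom ϖ)
      (regular_of_affine _ (regular_affine f ϖ hreg)) (fun x => by
        obtain ⟨_, ⟨U, hU, rfl⟩, hxU, -⟩ :=
          X.isBasis_affineOpens.exists_subset_of_mem_open (Set.mem_univ x) isOpen_univ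
        exact ⟨U, hxU, locally_dvd f ρ hρ ϖ hker _ hb U hU⟩)
    have hbij : Function.Bijective X.toSpecΓ.appTop.hom := by
      rw [Scheme.toSpecΓ_appTop]
      exact ConcreteCategory.bijective_of_isIso _
    obtain ⟨t', rfl⟩ := hbij.2 t
    have hfg : X.toSpecΓ.appTop.hom (g.appTop.hom ϖ) = f.appTop.hom ϖ := by
      have h1 := congrArg (fun k => k.appTop.hom ϖ) hg
      simpa only [Scheme.Hom.comp_appTop, CommRingCat.hom_comp, RingHom.comp_apply] using h1
    have hb' : b' = g.appTop.hom ϖ * t' := by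
      apply hbij.1
      rw [map_mul, hfg, ht]
    have h0 : (pullback.fst g ρ).appTop.hom (g.appTop.hom ϖ) = 0 := by
      have h1 := congrArg (fun k => k.appTop.hom ϖ) (pullback.condition (f := g) (g := ρ))
      simp only [Scheme.Hom.comp_appTop, CommRingCat.hom_comp, RingHom.comp_apply] at h1
      rw [h1]
      have h2 : ρ.appTop.hom ϖ = 0 := by
        rw [← RingHom.mem_ker, hker]
        exact Ideal.subset_span rfl
      rw [h2, map_zero]
    change (pullback.fst g ρ).appTop.hom b' = 0
    rw [hb', map_mul, h0, zero_mul]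
  have hinj' : Function.Injective (cs.app ⊤).hom := hinj
  apply Scheme.IdealSheafData.ext_of_isAffine
  rw [cs.ker_apply ⟨⊤, isAffineOpen_top _⟩]
  simp only [Scheme.IdealSheafData.ideal_bot, Pi.bot_apply]
  exact (RingHom.injective_iff_ker_eq_bot _).1 hinj'

end Groth.Agent.Lib.Helper14.DvrFib
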