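import Groth.Agent.Lib.Helper14.DvrFib4

/-!
# Fibres of `X ⟶ Spec Γ(X)` over a discrete valuation ring (helper14)
-/

set_option autoImplicit false
universe u
open CategoryTheory CategoryTheory.Limits AlgebraicGeometry Opposite TopologicalSpace

namespace Groth.Agent.Lib.Helper14.DvrFib

theorem flat_algebraMap_residueField_of_eq_bot {A : Type u} [CommRing A] [IsDomain A]
    (I : Ideal A) [I.IsPrime] (hI : I = ⊥) : Module.Flat A I.ResidueField := by
  have h1 : Module.Flat (A ⧸ I) I.ResidueField :=
    IsLocalization.flat I.ResidueField (nonZeroDivisors (A ⧸ I))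
  have h2 : Module.Flat A (A ⧸ I) :=
    Module.Flat.of_linearEquiv (Submodule.quotEquivOfEqBot I hI)
  exact Module.Flat.trans A (A ⧸ I) I.ResidueField

set_option backward.isDefEq.respectTransparency.types false in
theorem main (A : Type u) [CommRing A] [IsDomain A] [IsDiscreteValuationRing A]
    (X : Scheme.{u}) (f : X ⟶ Spec (CommRingCat.of A)) [Flat f] [QuasiCompact f]
    (g : Spec Γ(X, ⊤) ⟶ Spec (CommRingCat.of A)) (hg : X.toSpecΓ ≫ g = f)
    (s : ↥(Spec (CommRingCat.of A))) :
    (pullback.map f ((Spec (CommRingCat.of A)).fromSpecResidueField s) g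
        ((Spec (CommRingCat.of A)).fromSpecResidueField s)
        X.toSpecΓ (𝟙 _) (𝟙 _) ((Category.comp_id f).trans hg.symm)
        ((Category.comp_id _).trans (Category.id_comp _).symm)).ker = ⊥ := by
  have hcpt : CompactSpace X := QuasiCompact.compactSpace_of_compactSpace f
  have hρeq : (Spec (CommRingCat.of A)).fromSpecResidueField s =
      Spec.map (CommRingCat.ofHom (algebraMap A s.asIdeal.ResidueField) ≫
        (Scheme.Spec.residueFieldIso (CommRingCat.of A) s).inv) := by
    rw [Spec.map_comp]
    exact (Scheme.Spec.map_residueFieldIso_inv_eq_fromSpecResidueField _ s).symm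
  by_cases hs : s.asIdeal = ⊥
  · have hfl : Module.Flat A s.asIdeal.ResidueField :=
      flat_algebraMap_residueField_of_eq_bot s.asIdeal hs
    have : Flat ((Spec (CommRingCat.of A)).fromSpecResidueField s) := by
      rw [hρeq, Spec.map_comp]
      have : Flat (Spec.map (CommRingCat.ofHom (algebraMap A s.asIdeal.ResidueField))) := by
        rw [HasRingHomProperty.Spec_iff (P := @Flat)]
        exact RingHom.flat_algebraMap_iff.2 hfl
      infer_instance
    exact ker_eq_bot_of_flat f g hg _
  · have hmax : s.asIdeal.IsMaximal := Ideal.IsPrime.isMaximal s.isPrime hs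
    have hsm : s.asIdeal = IsLocalRing.maximalIdeal A := IsLocalRing.eq_maximalIdeal hmax
    obtain ⟨π, hπ⟩ := IsDiscreteValuationRing.exists_irreducible A
    have hsπ : s.asIdeal = Ideal.span {π} := hsm.trans hπ.maximalIdeal_eq
    set ψ : CommRingCat.of A ⟶ (Spec (CommRingCat.of A)).residueField s :=
      CommRingCat.ofHom (algebraMap A s.asIdeal.ResidueField) ≫
        (Scheme.Spec.residueFieldIso (CommRingCat.of A) s).inv with hψ
    have hψsurj : Function.Surjective ψ.hom := by
      rw [hψ, CommRingCat.hom_comp]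
      exact (ConcreteCategory.bijective_of_isIso
        (Scheme.Spec.residueFieldIso (CommRingCat.of A) s).inv).2.comp
        (Ideal.algebraMap_residueField_surjective s.asIdeal)
    have hψker : ∀ a : A, ψ.hom a = 0 ↔ a ∈ s.asIdeal := by
      intro a
      rw [hψ, CommRingCat.hom_comp, RingHom.comp_apply]
      have hinj := (ConcreteCategory.bijective_of_isIso
        (Scheme.Spec.residueFieldIso (CommRingCat.of A) s).inv).1
      rw [← Ideal.algebraMap_residueField_eq_zero]
      constructor
      · intro h
        apply hinj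
        rw [map_zero]
        exact h
      · intro h
        rw [CommRingCat.hom_ofHom, h, map_zero]
    have hnat : (Spec.map ψ).appTop =
        (Scheme.ΓSpecIso (CommRingCat.of A)).hom ≫ ψ ≫ (Scheme.ΓSpecIso _).inv := by
      rw [← Category.assoc, ← Scheme.ΓSpecIso_naturality ψ, Category.assoc, Iso.hom_inv_id,
        Category.comp_id]
    have happ : ∀ x, ((Spec (CommRingCat.of A)).fromSpecResidueField s).appTop.hom x =
        (Scheme.ΓSpecIso _).inv.hom (ψ.hom ((Scheme.ΓSpecIso (CommRingCat.of A)).hom.hom x)) := by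
      intro x
      rw [hρeq, hnat]
      rfl
    have hbijhom := ConcreteCategory.bijective_of_isIso (Scheme.ΓSpecIso (CommRingCat.of A)).hom
    have hbijinv := ConcreteCategory.bijective_of_isIso
      (Scheme.ΓSpecIso ((Spec (CommRingCat.of A)).residueField s)).inv
    have hρsurj : Function.Surjective
        ((Spec (CommRingCat.of A)).fromSpecResidueField s).appTop.hom := by
      intro y
      obtain ⟨y', rfl⟩ := hbijinv.2 y
      obtain ⟨a, rfl⟩ := hψsurj y'
      obtain ⟨x, rfl⟩ := hbijhom.2 a
      exact ⟨x, happ x⟩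
    set ϖ : Γ(Spec (CommRingCat.of A), ⊤) := (Scheme.ΓSpecIso (CommRingCat.of A)).inv.hom π
      with hϖ
    have hϖπ : (Scheme.ΓSpecIso (CommRingCat.of A)).hom.hom ϖ = π := by
      rw [hϖ]
      change ((Scheme.ΓSpecIso (CommRingCat.of A)).inv ≫
        (Scheme.ΓSpecIso (CommRingCat.of A)).hom).hom π = π
      rw [Iso.inv_hom_id]
      rfl
    have hker : RingHom.ker ((Spec (CommRingCat.of A)).fromSpecResidueField s).appTop.hom =
        Ideal.span {ϖ} := by
      ext x
      rw [RingHom.mem_ker, happ]
      constructor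
      · intro h
        have h1 : ψ.hom ((Scheme.ΓSpecIso (CommRingCat.of A)).hom.hom x) = 0 := by
          apply hbijinv.1
          rw [map_zero]
          exact h
        rw [hψker, hsπ, Ideal.mem_span_singleton'] at h1
        obtain ⟨a, ha⟩ := h1
        obtain ⟨a', rfl⟩ := hbijhom.2 a
        rw [Ideal.mem_span_singleton']
        refine ⟨a', hbijhom.1 ?_⟩
        rw [map_mul, hϖπ]
        exact ha
      · intro h
        rw [Ideal.mem_span_singleton'] at h
        obtain ⟨a', rfl⟩ := h
        have h1 : ψ.hom ((Scheme.ΓSpecIso (CommRingCat.of A)).hom.hom (a' * ϖ)) = 0 := by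
          rw [hψker, hsπ, map_mul, hϖπ]
          exact Ideal.mul_mem_left _ _ (Ideal.subset_span rfl)
        rw [h1, map_zero]
    have hreg : ϖ ∈ nonZeroDivisors Γ(Spec (CommRingCat.of A), ⊤) := by
      have hdom : IsDomain Γ(Spec (CommRingCat.of A), ⊤) :=
        MulEquiv.isDomain A
          (Scheme.ΓSpecIso (CommRingCat.of A)).commRingCatIsoToRingEquiv.toMulEquiv
      apply mem_nonZeroDivisors_of_ne_zero
      intro h0
      apply hπ.ne_zero
      rw [← hϖπ, h0, map_zero]
    exact ker_eq_bot_of_principal f g hg _ hρsurj ϖ hker hreg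

end Groth.Agent.Lib.Helper14.DvrFib
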