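import Groth.Agent.Lib.Helper14.SepVal5

open CategoryTheory CategoryTheory.Limits AlgebraicGeometry Opposite AlgSp
open CategoryTheory.Functor Groth.Agent.Lib.Helper14.AS

universe u

noncomputable section

namespace Groth.Agent.Lib.Helper14.AS

variable {S : Scheme.{u}}

set_option backward.isDefEq.respectTransparency.types false in
set_option maxHeartbeats 1600000 in
/-- For a separated morphism of algebraic spaces, a valuative square which has a lift after a
dominating extension has a lift. -/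
theorem hasLift_of_domExt_of_isSeparatedMor {X Y : Sp S} (hX : IsAlgSpace X) (hY : IsAlgSpace Y)
    (f : X ⟶ Y) (hf : IsSeparatedMor f) (sq : ValSq f) (e : sq.DomExt) (he : e.HasLift) :
    sq.HasLift := by
  classical
  have sqW := IsPullback.of_hasPullback f sq.bot
  have hW : IsAlgSpace (pullback f sq.bot) :=
    isAlgSpace_of_isPullback (repDiag_of_isAlgSpace hY) hX (IsAlgSpace.yon_obj _) sqW
  let pX := pullback.fst f sq.bot
  let g := pullback.snd f sq.bot
  have hsep : IsSeparatedMor g :=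
    MorphismProperty.of_isPullback (P := (RepWith (S := S) @IsClosedImmersion).diagonal) sqW hf
  let ξ : (yon S).obj sq.ptK ⟶ pullback f sq.bot := sqW.lift sq.top ((yon S).map sq.j) sq.comm
  have hξ1 : ξ ≫ pX = sq.top := sqW.lift_fst _ _ _
  have hξ2 : ξ ≫ g = (yon S).map sq.j := sqW.lift_snd _ _ _
  obtain ⟨l, hl1, hl2⟩ := he
  let c' : ↥(Spec (CommRingCat.of e.A')) := IsLocalRing.closedPoint e.A'
  let tK' : ↥(Spec (CommRingCat.of e.K')) := IsLocalRing.closedPoint e.K'
  let tK : ↥(Spec (CommRingCat.of sq.K)) := IsLocalRing.closedPoint sq.K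
  let 𝔪 : ↥(Spec (CommRingCat.of sq.A)) := IsLocalRing.closedPoint sq.A
  let km' : e.ptK' ⟶ e.ptA' :=
    Over.homMk (Spec.map (CommRingCat.ofHom (algebraMap e.A' e.K'))) rfl
  let φm' : e.ptA' ⟶ sq.ptA := Over.homMk (Spec.map (CommRingCat.ofHom e.φ)) rfl
  have hψw' : Spec.map (CommRingCat.ofHom e.ψ) ≫ sq.ptK.hom = e.ptK'.hom := by
    change Spec.map _ ≫ Spec.map _ ≫ _ = Spec.map _ ≫ Spec.map _ ≫ _
    rw [← Spec.map_comp_assoc, ← Spec.map_comp_assoc, ← CommRingCat.ofHom_comp,
      ← CommRingCat.ofHom_comp, e.comm]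
  let ψm' : e.ptK' ⟶ sq.ptK := Over.homMk (Spec.map (CommRingCat.ofHom e.ψ)) hψw'
  have hl1₀ : (yon S).map km' ≫ l = (yon S).map ψm' ≫ sq.top := hl1
  have hl2₀ : l ≫ f = (yon S).map φm' ≫ sq.bot := hl2
  have hkφ : km' ≫ φm' = ψm' ≫ sq.j := by
    apply Over.OverMorphism.ext
    change Spec.map _ ≫ Spec.map _ = Spec.map _ ≫ Spec.map _
    rw [← Spec.map_comp, ← Spec.map_comp, ← CommRingCat.ofHom_comp, ← CommRingCat.ofHom_comp,
      e.comm]
  let l' : (yon S).obj e.ptA' ⟶ pullback f sq.bot := sqW.lift l ((yon S).map φm') hl2₀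
  have hl'1 : l' ≫ pX = l := sqW.lift_fst _ _ _
  have hl2' : l' ≫ g = (yon S).map φm' := sqW.lift_snd _ _ _
  have hl1' : (yon S).map km' ≫ l' = (yon S).map ψm' ≫ ξ := by
    apply sqW.hom_ext
    · rw [Category.assoc, Category.assoc]
      change _ ≫ l' ≫ pX = _ ≫ ξ ≫ pX
      rw [hl'1, hξ1, hl1₀]
    · rw [Category.assoc, Category.assoc]
      change _ ≫ l' ≫ g = _ ≫ ξ ≫ g
      rw [hl2', hξ2, ← Functor.map_comp, ← Functor.map_comp, hkφ]
  -- an affine chart through the image of the closed point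
  obtain ⟨U₁, a₁, hae₁, has₁⟩ := hW.atlas
  obtain ⟨u₁, hu₁⟩ := ofPt_surjective_of_repWith has₁ (Points.ofPt l' c')
  obtain ⟨U₀, hU₀, hu₁U₀, -⟩ :=
    exists_isAffineOpen_mem_and_subset (x := u₁) (U := (⊤ : U₁.left.Opens)) trivial
  let U : Over S := Over.mk (U₀.ι ≫ U₁.hom)
  let ι₀ : U ⟶ U₁ := Over.homMk U₀.ι rfl
  have hUaff : IsAffine U.left := hU₀
  let a : (yon S).obj U ⟶ pullback f sq.bot := (yon S).map ι₀ ≫ a₁
  have hι₀e : RepWith @Etale ((yon S).map ι₀) :=
    (repWith_yon_map_iff _ _).2 (inferInstanceAs (Etale U₀.ι))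
  have hae : RepWith @Etale a := repWith_comp _ hι₀e hae₁
  let u : ↥U.left := ⟨u₁, hu₁U₀⟩
  have hu : Points.ofPt a u = Points.ofPt l' c' := by
    rw [ofPt_yon_map_comp]
    exact hu₁
  let p := hae.rep.snd l'
  let q := hae.rep.fst' l'
  have sqV : IsPullback ((yon S).map q) ((yon S).map p) a l' := hae.rep.isPullback' l'
  have hpet : Etale p.left := hae.property_snd l'
  obtain ⟨v, hv1, hv2⟩ := exists_point_of_isPullback_yon sqV u c' hu
  have hgen : GeneralizingMap p.left := Flat.generalizingMap p.left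
  have hη : km'.left tK' ⤳ p.left v := by
    rw [hv2]; exact IsLocalRing.specializes_closedPoint _
  obtain ⟨v', hv'1, hv'2⟩ := hgen hη
  have hu' : q.left v' ⤳ u := by
    rw [← hv1]; exact hv'1.map q.left.continuous
  have sqPP : IsPullback ((yon S).map (hae.rep.fst' ξ)) ((yon S).map (hae.rep.snd ξ)) a ξ :=
    hae.rep.isPullback' ξ
  have hψtK : ψm'.left tK' = tK := Subsingleton.elim (α := ↥(Spec (CommRingCat.of sq.K))) _ _
  have hcompat : Points.ofPt a (q.left v') = Points.ofPt ξ tK := by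
    rw [← ofPt_yon_map_comp, sqV.w, ofPt_yon_map_comp, hv'2, ← ofPt_yon_map_comp, hl1',
      ofPt_yon_map_comp, hψtK]
  obtain ⟨w', hw'1, hw'2⟩ := exists_point_of_isPullback_yon sqPP (q.left v') tK hcompat
  obtain ⟨γ, hγ⟩ := (yon S).map_surjective (a ≫ g)
  have hγu : γ.left u = 𝔪 := by
    have h1 : Points.toScheme sq.ptA (Points.map g (Points.ofPt a u)) = γ.left u := by
      rw [Points.map_ofPt, ← hγ, Points.toScheme_ofPt]
    rw [← h1, hu, Points.map_ofPt, hl2', Points.toScheme_ofPt]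
    have hloc : IsLocalHom e.φ := e.isLocalHom
    exact IsLocalRing.comap_closedPoint e.φ
  have hmonoj : Mono sq.j := by
    have : Mono ((Over.forget S).map sq.j) :=
      inferInstanceAs (Mono (Spec.map (CommRingCat.ofHom (algebraMap sq.A sq.K))))
    exact (Over.forget S).mono_of_mono_map this
  have hjdom : IsSchemeTheoreticallyDominant sq.j.left :=
    inferInstanceAs (IsSchemeTheoreticallyDominant
      (Spec.map (CommRingCat.ofHom (algebraMap sq.A sq.K))))
  have hjflat : Flat sq.j.left :=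
    inferInstanceAs (Flat (Spec.map (CommRingCat.ofHom (algebraMap sq.A sq.K))))
  have hjqc : QuasiCompact sq.j.left :=
    inferInstanceAs (QuasiCompact (Spec.map (CommRingCat.ofHom (algebraMap sq.A sq.K))))
  have hAaff : IsAffine sq.ptA.left := inferInstanceAs (IsAffine (Spec (CommRingCat.of sq.A)))
  have hKaff : IsAffine sq.ptK.left := inferInstanceAs (IsAffine (Spec (CommRingCat.of sq.K)))
  obtain ⟨s, hs1, hs2⟩ := exists_section_core sq.j g hsep ξ hξ2
    (fun γVs θs pKs h _ _ => flat_of_dominant_over_fractionField γVs θs pKs h)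
    𝔪 (fun x => IsLocalRing.specializes_closedPoint x) a hae γ hγ u hγu w'
    (by rw [hw'1]; exact hu')
  refine ⟨s ≫ pX, ?_, ?_⟩
  · rw [← Category.assoc, hs2, hξ1]
  · rw [Category.assoc, sqW.w, ← Category.assoc, hs1, Category.id_comp]

end Groth.Agent.Lib.Helper14.AS
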