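import Groth.Agent.Lib.Helper14.DvrCore
import Groth.Agent.Lib.Helper14.ChartLift
import Groth.Agent.Lib.Helper14.SepVal6
import Groth.Agent.Lib.Helper14.AlgSpQC

/-!
# Lifts for discrete valuation rings give lifts for all valuation rings (helper14)
-/

open CategoryTheory CategoryTheory.Limits AlgebraicGeometry Opposite AlgSp
open CategoryTheory.Functor Groth.Agent.Lib.Helper14.AS

universe u

noncomputable section

namespace Groth.Agent.Lib.Helper14.AS

variable {S : Scheme.{u}}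

theorem finite_of_etale_field {K B : Type u} [Field K] [CommRing B] (φ : K →+* B)
    (hφ : φ.Etale) : letI := φ.toAlgebra; Module.Finite K B := by
  algebraize [φ]
  exact Algebra.FormallyUnramified.finite_of_free K B

set_option backward.isDefEq.respectTransparency.types false in
/-- The fibre of an affine etale chart over an affine point, for a separated morphism to an
affine scheme, as the spectrum of a ring. -/
theorem exists_spec_fibre {W : Sp S} {ptA ptK U : Over S} [IsAffine ptA.left] [IsAffine ptK.left]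
    [IsAffine U.left] (j : ptK ⟶ ptA) (g : W ⟶ (yon S).obj ptA) (hsep : IsSeparatedMor g)
    (ξ : (yon S).obj ptK ⟶ W) (hξ : ξ ≫ g = (yon S).map j) (a : (yon S).obj U ⟶ W)
    (hae : RepWith @Etale a) (γ : U ⟶ ptA) (hγ : (yon S).map γ = a ≫ g) :
    ∃ (C : CommRingCat.{u}) (x : Spec C ⟶ S) (qF : Over.mk x ⟶ U) (pF : Over.mk x ⟶ ptK),
      IsPullback ((yon S).map qF) ((yon S).map pF) a ξ ∧ Etale pF.left := by
  let qF := hae.rep.fst' ξ
  let pF := hae.rep.snd ξ
  have sqF : IsPullback ((yon S).map qF) ((yon S).map pF) a ξ := hae.rep.isPullback' ξ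
  have hpFet : Etale pF.left := hae.property_snd ξ
  have hFaff : IsAffine (hae.rep.pullback ξ).left :=
    isAffine_fibre_of_isSeparatedMor j g hsep ξ hξ a γ hγ qF pF sqF
  let F := hae.rep.pullback ξ
  let eF : F.left ≅ Spec Γ(F.left, ⊤) := F.left.isoSpec
  let F' : Over S := Over.mk (eF.inv ≫ F.hom)
  let iF : F' ≅ F := Over.isoMk eF.symm (by simp [F'])
  refine ⟨Γ(F.left, ⊤), eF.inv ≫ F.hom, iF.hom ≫ qF, iF.hom ≫ pF, ?_, ?_⟩
  · refine IsPullback.of_iso sqF ((yon S).mapIso iF.symm) (Iso.refl _) (Iso.refl _) (Iso.refl _)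
      ?_ ?_ (by simp) (by simp)
    · rw [Functor.mapIso_hom, Iso.refl_hom, Category.comp_id, ← Functor.map_comp, Iso.symm_hom,
        Iso.inv_hom_id_assoc]
    · rw [Functor.mapIso_hom, Iso.refl_hom, Category.comp_id, ← Functor.map_comp, Iso.symm_hom,
        Iso.inv_hom_id_assoc]
  · change Etale (eF.inv ≫ pF.left)
    infer_instance

/-- The valuative square of a point of an affine chart, with valuation ring a valuation subring of
the field of the point. -/
def coreSq {R B : CommRingCat.{u}} (w : Spec R ⟶ S) (hB : R ⟶ B) {X₀ : Sp S}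
    (f₀ : X₀ ⟶ (yon S).obj (Over.mk w))
    (a : (yon S).obj (Over.mk (Spec.map hB ≫ w)) ⟶ X₀)
    (hh : a ≫ f₀ = (yon S).map (Over.homMk (Spec.map hB) rfl :
      Over.mk (Spec.map hB ≫ w) ⟶ Over.mk w))
    (κ : Type u) [Field κ] (𝒱 : ValuationSubring κ) (evB : B ⟶ CommRingCat.of κ)
    (r𝒱 : R ⟶ CommRingCat.of 𝒱) (hr : r𝒱 ≫ CommRingCat.ofHom 𝒱.subtype = hB ≫ evB) :
    ValSq f₀ where
  A := 𝒱
  K := κ
  str := Spec.map r𝒱 ≫ w
  top := (yon S).map (Over.homMk (Spec.map evB) (by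
      change Spec.map evB ≫ Spec.map hB ≫ w = Spec.map _ ≫ Spec.map r𝒱 ≫ w
      rw [← Spec.map_comp_assoc, ← Spec.map_comp_assoc, ← hr]
      rfl) : Over.mk (Spec.map (CommRingCat.ofHom (algebraMap 𝒱 κ)) ≫ Spec.map r𝒱 ≫ w) ⟶
        Over.mk (Spec.map hB ≫ w)) ≫ a
  bot := (yon S).map (Over.homMk (Spec.map r𝒱) rfl : Over.mk (Spec.map r𝒱 ≫ w) ⟶ Over.mk w)
  comm := by
    rw [Category.assoc, hh, ← Functor.map_comp, ← Functor.map_comp]
    congr 1
    apply Over.OverMorphism.ext
    change Spec.map evB ≫ Spec.map hB = Spec.map _ ≫ Spec.map r𝒱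
    rw [← Spec.map_comp, ← Spec.map_comp, ← hr]
    rfl

set_option backward.isDefEq.respectTransparency.types false in
set_option maxHeartbeats 1600000 in
theorem exists_lift_core {R B : CommRingCat.{u}} [IsNoetherianRing R] (w : Spec R ⟶ S)
    (hB : R ⟶ B) (hft : hB.hom.FiniteType)
    {X₀ : Sp S} (hX₀ : IsAlgSpace X₀) (f₀ : X₀ ⟶ (yon S).obj (Over.mk w))
    (hsep : IsSeparatedMor f₀)
    (a : (yon S).obj (Over.mk (Spec.map hB ≫ w)) ⟶ X₀) (hae : RepWith @Etale a)
    (has : RepWith @Surjective a)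
    (hh : a ≫ f₀ = (yon S).map (Over.homMk (Spec.map hB) rfl :
      Over.mk (Spec.map hB ≫ w) ⟶ Over.mk w))
    (hdvr : ∀ sq : ValSq f₀, IsDiscreteValuationRing sq.A → sq.HasLift)
    (κ : Type u) [Field κ] (𝒱 : ValuationSubring κ) (evB : B ⟶ CommRingCat.of κ)
    (hgen : Subfield.closure (Set.range evB.hom) = ⊤)
    (r𝒱 : R ⟶ CommRingCat.of 𝒱) (hr : r𝒱 ≫ CommRingCat.ofHom 𝒱.subtype = hB ≫ evB) :
    (coreSq w hB f₀ a hh κ 𝒱 evB r𝒱 hr).HasLift := by
  classical
  let sq₀ := coreSq w hB f₀ a hh κ 𝒱 evB r𝒱 hr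
  let W : Over S := Over.mk w
  let U : Over S := Over.mk (Spec.map hB ≫ w)
  let h : U ⟶ W := Over.homMk (Spec.map hB) rfl
  let ptA : Over S := Over.mk (Spec.map r𝒱 ≫ w)
  let ptK : Over S := Over.mk (Spec.map (CommRingCat.ofHom (algebraMap 𝒱 κ)) ≫ Spec.map r𝒱 ≫ w)
  let j : ptK ⟶ ptA := Over.homMk (Spec.map (CommRingCat.ofHom (algebraMap 𝒱 κ))) rfl
  let β₀ : ptA ⟶ W := Over.homMk (Spec.map r𝒱) rfl
  have hξw : Spec.map evB ≫ U.hom = ptK.hom := by
    change Spec.map evB ≫ Spec.map hB ≫ w = Spec.map _ ≫ Spec.map r𝒱 ≫ w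
    rw [← Spec.map_comp_assoc, ← Spec.map_comp_assoc, ← hr]
    rfl
  let ξ : ptK ⟶ U := Over.homMk (Spec.map evB) hξw
  have hξh : ξ ≫ h = j ≫ β₀ := by
    apply Over.OverMorphism.ext
    change Spec.map evB ≫ Spec.map hB = Spec.map _ ≫ Spec.map r𝒱
    rw [← Spec.map_comp, ← Spec.map_comp, ← hr]
    rfl
  let top₀ : (yon S).obj ptK ⟶ X₀ := (yon S).map ξ ≫ a
  have htop₀ : sq₀.top = top₀ := rfl
  have htopf : top₀ ≫ f₀ = (yon S).map (ξ ≫ h) := by
    rw [Category.assoc, hh, ← Functor.map_comp]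
  have hWaff : IsAffine W.left := inferInstanceAs (IsAffine (Spec R))
  have hUaff : IsAffine U.left := inferInstanceAs (IsAffine (Spec B))
  have hKaff : IsAffine ptK.left := inferInstanceAs (IsAffine (Spec (CommRingCat.of κ)))
  obtain ⟨C, x, qF, pF, sqF, hpFet⟩ :=
    exists_spec_fibre (ξ ≫ h) f₀ hsep top₀ htopf a hae h hh.symm
  let F : Over S := Over.mk x
  let αC : CommRingCat.of κ ⟶ C := Spec.preimage pF.left
  have hαC : Spec.map αC = pF.left := Spec.map_preimage _
  let βC : B ⟶ C := Spec.preimage qF.left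
  have hβC : Spec.map βC = qF.left := Spec.map_preimage _
  have hαet : αC.hom.Etale := by
    rw [← HasRingHomProperty.Spec_iff (P := @Etale), hαC]
    exact hpFet
  let algC : Algebra κ C := αC.hom.toAlgebra
  have hCfin : Module.Finite κ C := finite_of_etale_field αC.hom hαet
  -- the fibre maps to the base through the point
  have hqFh : qF ≫ h = pF ≫ ξ ≫ h := by
    apply (yon S).map_injective
    rw [Functor.map_comp, ← hh, ← Category.assoc, sqF.w, Category.assoc, htopf, ← Functor.map_comp]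
  have hβα : hB ≫ βC = (hB ≫ evB) ≫ αC := by
    apply Spec.map_injective
    rw [Spec.map_comp, Spec.map_comp, Spec.map_comp, hβC, hαC]
    exact congrArg (fun t => t.left) hqFh
  -- the fibre is nonempty
  have hCnt : Nontrivial C := by
    obtain ⟨s, hs⟩ := (yon S).map_surjective (sqF.lift ((yon S).map ξ) (𝟙 _) (by rw [Category.id_comp]))
    let θ₀ : C ⟶ CommRingCat.of κ := Spec.preimage s.left
    exact θ₀.hom.domain_nontrivial
  let algRκ : Algebra R κ := (hB ≫ evB).hom.toAlgebra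
  obtain ⟨t, ht⟩ := hft
  let S₀ : Finset κ := t.image evB.hom
  have hS₀ : Subfield.closure (Set.range (algebraMap R κ) ∪ (S₀ : Set κ)) = ⊤ := by
    set G := Subfield.closure (Set.range (algebraMap R κ) ∪ (S₀ : Set κ)) with hG
    have hBG : ∀ b : B, evB.hom b ∈ G := by
      intro b
      let algRB : Algebra R B := hB.hom.toAlgebra
      have hb' : b ∈ Algebra.adjoin R (t : Set B) := by
        rw [ht]; exact Algebra.mem_top
      induction hb' using Algebra.adjoin_induction with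
      | mem g hg =>
        exact Subfield.subset_closure
          (Or.inr (Finset.mem_coe.mpr (Finset.mem_image_of_mem _ hg)))
      | algebraMap r => exact Subfield.subset_closure (Or.inl ⟨r, rfl⟩)
      | add b₁ b₂ _ _ h₁ h₂ => rw [_root_.map_add]; exact add_mem h₁ h₂
      | mul b₁ b₂ _ _ h₁ h₂ => rw [_root_.map_mul]; exact mul_mem h₁ h₂
    rw [eq_top_iff, ← hgen, Subfield.closure_le]
    rintro _ ⟨b, rfl⟩
    exact hBG b
  have h𝒱 : ∀ r : R, algebraMap R κ r ∈ 𝒱 := by
    intro r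
    have h1 : algebraMap R κ r = ((r𝒱.hom r : 𝒱) : κ) := by
      have := congrArg (fun g => g.hom r) hr
      exact this.symm
    rw [h1]
    exact (r𝒱.hom r).2
  obtain ⟨κ', instF, instA, hfin, hcases⟩ :=
    exists_split_or_dvr R κ S₀ hS₀ B C βC.hom 𝒱 h𝒱
  rcases hcases with ⟨𝒱', σ, hcomap, hσ⟩ | ⟨A, hAdvr, hRA, hno⟩
  · -- a lift after the extension `(κ', 𝒱')`
    let φ₁ : 𝒱 →+* 𝒱' := ((algebraMap κ κ').comp 𝒱.subtype).codRestrict 𝒱'.toSubring
      (fun a => (hcomap _).mpr a.2)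
    have hφ₁loc : IsLocalHom φ₁ := by
      constructor
      intro a ha
      obtain ⟨w', hw'⟩ := ha.exists_right_inv
      have h1 : algebraMap κ κ' (a : κ) * (w' : κ') = 1 := congrArg Subtype.val hw'
      have ha0 : (a : κ) ≠ 0 := by
        intro h0
        rw [h0, _root_.map_zero, zero_mul] at h1
        exact zero_ne_one h1
      have h2 : (w' : κ') = algebraMap κ κ' ((a : κ)⁻¹) := by
        rw [map_inv₀]
        exact eq_inv_of_mul_eq_one_right h1
      have h3 : (a : κ)⁻¹ ∈ 𝒱 := (hcomap _).mp (h2 ▸ w'.2)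
      exact IsUnit.of_mul_eq_one ⟨(a : κ)⁻¹, h3⟩ (Subtype.ext (mul_inv_cancel₀ ha0))
    let e : sq₀.DomExt :=
      { A' := 𝒱', K' := κ', φ := φ₁, ψ := algebraMap κ κ', comm := rfl, isLocalHom := hφ₁loc }
    let mR : B ⟶ CommRingCat.of 𝒱' :=
      CommRingCat.ofHom (((σ : C →+* κ').comp βC.hom).codRestrict 𝒱'.toSubring hσ)
    have hασ : αC ≫ CommRingCat.ofHom (σ : C →+* κ') =
        CommRingCat.ofHom (algebraMap κ κ') := by
      ext z
      exact σ.commutes z
    have hring : hB ≫ mR = r𝒱 ≫ CommRingCat.ofHom φ₁ := by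
      ext r
      change σ (βC.hom (hB.hom r)) = algebraMap κ κ' ((r𝒱.hom r : 𝒱) : κ)
      have h1 : βC.hom (hB.hom r) = algebraMap κ C (evB.hom (hB.hom r)) :=
        congrArg (fun g => g.hom r) hβα
      have h2 : evB.hom (hB.hom r) = ((r𝒱.hom r : 𝒱) : κ) :=
        (congrArg (fun g => g.hom r) hr).symm
      rw [h1, σ.commutes, h2]
    have hmw : Spec.map mR ≫ U.hom = e.ptA'.hom := by
      change Spec.map mR ≫ Spec.map hB ≫ w = Spec.map (CommRingCat.ofHom φ₁) ≫ Spec.map r𝒱 ≫ w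
      rw [← Spec.map_comp_assoc, ← Spec.map_comp_assoc, hring]
    let mo : e.ptA' ⟶ U := Over.homMk (Spec.map mR) hmw
    have he : e.HasLift := by
      refine ⟨(yon S).map mo ≫ a, ?_, ?_⟩
      · have hsw : Spec.map (CommRingCat.ofHom (σ : C →+* κ')) ≫ F.hom = e.ptK'.hom := by
          have h1 : pF.left ≫ ptK.hom = F.hom := Over.w pF
          rw [← h1, ← hαC, ← Spec.map_comp_assoc, hασ]
          have h5 : Spec.map (CommRingCat.ofHom (algebraMap κ κ')) ≫
              Spec.map (CommRingCat.ofHom (algebraMap 𝒱 κ)) =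
              Spec.map (CommRingCat.ofHom (algebraMap 𝒱' κ')) ≫
                Spec.map (CommRingCat.ofHom φ₁) := by
            rw [← Spec.map_comp, ← Spec.map_comp]; rfl
          change Spec.map (CommRingCat.ofHom (algebraMap κ κ')) ≫
              Spec.map (CommRingCat.ofHom (algebraMap 𝒱 κ)) ≫ (Spec.map r𝒱 ≫ w) =
            Spec.map (CommRingCat.ofHom (algebraMap 𝒱' κ')) ≫
              Spec.map (CommRingCat.ofHom φ₁) ≫ (Spec.map r𝒱 ≫ w)
          rw [← Category.assoc, h5, Category.assoc]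
        let sκ : e.ptK' ⟶ F := Over.homMk (Spec.map (CommRingCat.ofHom (σ : C →+* κ'))) hsw
        have h1 : sκ ≫ qF = (Over.homMk (Spec.map (CommRingCat.ofHom (algebraMap e.A' e.K'))) rfl :
            e.ptK' ⟶ e.ptA') ≫ mo := by
          apply Over.OverMorphism.ext
          change Spec.map (CommRingCat.ofHom (σ : C →+* κ')) ≫ qF.left =
            Spec.map (CommRingCat.ofHom (algebraMap 𝒱' κ')) ≫ Spec.map mR
          rw [← hβC, ← Spec.map_comp, ← Spec.map_comp]
          rfl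
        have h2 : sκ ≫ pF = (Over.homMk (Spec.map (CommRingCat.ofHom e.ψ)) (by
            change Spec.map _ ≫ Spec.map _ ≫ _ = Spec.map _ ≫ Spec.map _ ≫ _
            rw [← Spec.map_comp_assoc, ← Spec.map_comp_assoc, ← CommRingCat.ofHom_comp,
              ← CommRingCat.ofHom_comp, e.comm]) : e.ptK' ⟶ sq₀.ptK) := by
          apply Over.OverMorphism.ext
          change Spec.map (CommRingCat.ofHom (σ : C →+* κ')) ≫ pF.left =
            Spec.map (CommRingCat.ofHom (algebraMap κ κ'))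
          rw [← hαC, ← Spec.map_comp, hασ]
        rw [← Category.assoc, ← Functor.map_comp, ← h1, Functor.map_comp, Category.assoc, sqF.w,
          ← Category.assoc, ← Functor.map_comp, h2]
        rfl
      · rw [Category.assoc, hh, ← Functor.map_comp]
        change _ = (yon S).map _ ≫ (yon S).map β₀
        rw [← Functor.map_comp]
        congr 1
        apply Over.OverMorphism.ext
        change Spec.map mR ≫ Spec.map hB = Spec.map (CommRingCat.ofHom φ₁) ≫ Spec.map r𝒱
        rw [← Spec.map_comp, ← Spec.map_comp, hring]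
    exact hasLift_of_domExt_of_isSeparatedMor hX₀ (IsAlgSpace.yon_obj _) f₀ hsep sq₀ e he
  · -- the discrete valuation ring `A` gives a contradiction
    exfalso
    let ρA : R →+* κ' := (algebraMap κ κ').comp (hB ≫ evB).hom
    let rA : R ⟶ CommRingCat.of A := CommRingCat.ofHom (ρA.codRestrict A.toSubring hRA)
    have hrA : rA ≫ CommRingCat.ofHom (algebraMap A κ') =
        (r𝒱 ≫ CommRingCat.ofHom (algebraMap 𝒱 κ)) ≫ CommRingCat.ofHom (algebraMap κ κ') := by
      ext r
      change algebraMap κ κ' (evB.hom (hB.hom r)) = algebraMap κ κ' ((r𝒱.hom r : 𝒱) : κ)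
      have h2 : evB.hom (hB.hom r) = ((r𝒱.hom r : 𝒱) : κ) :=
        (congrArg (fun g => g.hom r) hr).symm
      rw [h2]
    let ptA₁ : Over S := Over.mk (Spec.map rA ≫ w)
    let ptK₁ : Over S := Over.mk (Spec.map (CommRingCat.ofHom (algebraMap A κ')) ≫ Spec.map rA ≫ w)
    let j₁ : ptK₁ ⟶ ptA₁ := Over.homMk (Spec.map (CommRingCat.ofHom (algebraMap A κ'))) rfl
    let β₁ : ptA₁ ⟶ W := Over.homMk (Spec.map rA) rfl
    have hψ₁w : Spec.map (CommRingCat.ofHom (algebraMap κ κ')) ≫ ptK.hom = ptK₁.hom := by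
      change Spec.map (CommRingCat.ofHom (algebraMap κ κ')) ≫
          Spec.map (CommRingCat.ofHom (algebraMap 𝒱 κ)) ≫ Spec.map r𝒱 ≫ w =
        Spec.map (CommRingCat.ofHom (algebraMap A κ')) ≫ Spec.map rA ≫ w
      have h5 : Spec.map (CommRingCat.ofHom (algebraMap κ κ')) ≫
          Spec.map (CommRingCat.ofHom (algebraMap 𝒱 κ)) ≫ Spec.map r𝒱 =
          Spec.map (CommRingCat.ofHom (algebraMap A κ')) ≫ Spec.map rA := by
        rw [← Spec.map_comp, ← Spec.map_comp, ← Spec.map_comp, hrA]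
      rw [← Category.assoc, ← Category.assoc, ← Category.assoc, Category.assoc (Spec.map _), h5]
    let ψ₁ : ptK₁ ⟶ ptK := Over.homMk (Spec.map (CommRingCat.ofHom (algebraMap κ κ'))) hψ₁w
    have hψ₁ξh : ψ₁ ≫ ξ ≫ h = j₁ ≫ β₁ := by
      apply Over.OverMorphism.ext
      change Spec.map (CommRingCat.ofHom (algebraMap κ κ')) ≫ Spec.map evB ≫ Spec.map hB =
        Spec.map (CommRingCat.ofHom (algebraMap A κ')) ≫ Spec.map rA
      rw [← Spec.map_comp, ← Spec.map_comp, ← Spec.map_comp]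
      rfl
    let sq₁ : ValSq f₀ :=
      { A := A, K := κ', str := Spec.map rA ≫ w, top := (yon S).map ψ₁ ≫ top₀,
        bot := (yon S).map β₁,
        comm := by
          change ((yon S).map ψ₁ ≫ top₀) ≫ f₀ = (yon S).map j₁ ≫ (yon S).map β₁
          rw [Category.assoc, htopf, ← Functor.map_comp, ← Functor.map_comp, hψ₁ξh] }
    obtain ⟨l₁, hl₁a, hl₁b⟩ := hdvr sq₁ hAdvr
    obtain ⟨L, instL, 𝒲, φ, ψ, hcomm, hloc, m, ⟨hfinL, -⟩, hm⟩ :=
      exists_chart_lift_valuationRing a hae has A κ' (Spec.map rA ≫ w) l₁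
    let algL : Algebra κ' L := ψ.toAlgebra
    have hfinL' : Module.Finite κ' L := hfinL
    have halg : Algebra.IsAlgebraic κ' L := Algebra.IsAlgebraic.of_finite κ' L
    have h𝒲 : ∀ z : κ', algebraMap κ' L z ∈ 𝒲 → z ∈ A := fun z hz =>
      mem_of_isLocalHom_valuationSubring A 𝒲 ψ φ hloc
        (fun a => congrArg (fun g => g a) hcomm) z hz
    let ptA₂ : Over S := Over.mk (Spec.map (CommRingCat.ofHom φ) ≫ Spec.map rA ≫ w)
    let ptL : Over S := Over.mk (Spec.map (CommRingCat.ofHom (algebraMap 𝒲 L)) ≫ ptA₂.hom)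
    let kL : ptL ⟶ ptA₂ := Over.homMk (Spec.map (CommRingCat.ofHom (algebraMap 𝒲 L))) rfl
    let φm : ptA₂ ⟶ ptA₁ := Over.homMk (Spec.map (CommRingCat.ofHom φ)) rfl
    have h5 : Spec.map (CommRingCat.ofHom ψ) ≫ Spec.map (CommRingCat.ofHom (algebraMap A κ')) =
        Spec.map (CommRingCat.ofHom (algebraMap 𝒲 L)) ≫ Spec.map (CommRingCat.ofHom φ) := by
      rw [← Spec.map_comp, ← Spec.map_comp, ← CommRingCat.ofHom_comp, ← CommRingCat.ofHom_comp,
        hcomm]
    have hψLw : Spec.map (CommRingCat.ofHom ψ) ≫ ptK₁.hom = ptL.hom := by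
      change Spec.map (CommRingCat.ofHom ψ) ≫ Spec.map (CommRingCat.ofHom (algebraMap A κ')) ≫
          (Spec.map rA ≫ w) =
        Spec.map (CommRingCat.ofHom (algebraMap 𝒲 L)) ≫ Spec.map (CommRingCat.ofHom φ) ≫
          (Spec.map rA ≫ w)
      rw [← Category.assoc, h5, Category.assoc]
    let ψL : ptL ⟶ ptK₁ := Over.homMk (Spec.map (CommRingCat.ofHom ψ)) hψLw
    have hkφ : kL ≫ φm = ψL ≫ j₁ := by
      apply Over.OverMorphism.ext
      exact h5.symm
    have hcompat : (yon S).map (kL ≫ m) ≫ a = (yon S).map (ψL ≫ ψ₁) ≫ top₀ := by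
      have h6 : (yon S).map j₁ ≫ l₁ = (yon S).map ψ₁ ≫ top₀ := hl₁a
      have h7 : (yon S).map m ≫ a = (yon S).map φm ≫ l₁ := hm
      rw [Functor.map_comp, Category.assoc, h7, ← Category.assoc, ← Functor.map_comp, hkφ,
        Functor.map_comp, Category.assoc, h6, ← Category.assoc, ← Functor.map_comp]
    obtain ⟨s, hs⟩ := (yon S).map_surjective (sqF.lift _ _ hcompat)
    have hs1 : s ≫ qF = kL ≫ m := by
      apply (yon S).map_injective
      rw [Functor.map_comp, hs, sqF.lift_fst]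
    have hs2 : s ≫ pF = ψL ≫ ψ₁ := by
      apply (yon S).map_injective
      rw [Functor.map_comp, hs, sqF.lift_snd]
    let θ : C ⟶ CommRingCat.of L := Spec.preimage s.left
    have hθs : Spec.map θ = s.left := Spec.map_preimage _
    let mR : B ⟶ CommRingCat.of 𝒲 := Spec.preimage m.left
    have hmR : Spec.map mR = m.left := Spec.map_preimage _
    have hθα : αC ≫ θ = CommRingCat.ofHom (algebraMap κ κ') ≫ CommRingCat.ofHom ψ := by
      apply Spec.map_injective
      rw [Spec.map_comp, Spec.map_comp, hθs, hαC]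
      exact congrArg (fun t => t.left) hs2
    have hθβ : βC ≫ θ = mR ≫ CommRingCat.ofHom (algebraMap 𝒲 L) := by
      apply Spec.map_injective
      rw [Spec.map_comp, Spec.map_comp, hθs, hβC, hmR]
      exact congrArg (fun t => t.left) hs1
    refine hno L 𝒲 h𝒲 θ.hom ?_ ?_
    · exact congrArg CommRingCat.Hom.hom hθα
    · intro b
      have h8 : θ.hom (βC.hom b) = ((mR.hom b : 𝒲) : L) := congrArg (fun g => g.hom b) hθβ
      rw [h8]
      exact (mR.hom b).2

end Groth.Agent.Lib.Helper14.AS
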