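import Groth.Agent.Lib.Helper14.DvrLift

/-!
# Lifts for discrete valuation rings give lifts for all valuation rings, II (helper14)
-/

open CategoryTheory CategoryTheory.Limits AlgebraicGeometry Opposite AlgSp
open CategoryTheory.Functor Groth.Agent.Lib.Helper14.AS

universe u

noncomputable section

namespace Groth.Agent.Lib.Helper14.AS

variable {S : Scheme.{u}}

set_option backward.isDefEq.respectTransparency.types false in
/-- A nonempty scheme etale over a field has a point with values in a finite separable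
extension. -/
theorem exists_field_point_of_etale {K : Type u} [Field K] {P : Scheme.{u}}
    (g : P ⟶ Spec (CommRingCat.of K)) [Etale g] (w' : ↥P) :
    ∃ (L : Type u) (_ : Field L) (ψ : K →+* L) (r : Spec (CommRingCat.of L) ⟶ P),
      r ≫ g = Spec.map (CommRingCat.ofHom ψ) ∧
      (letI := ψ.toAlgebra; Module.Finite K L ∧ Algebra.IsSeparable K L) := by
  obtain ⟨B, jB, hjB, ⟨𝔮, h𝔮⟩, -⟩ :=
    Scheme.exists_affine_mem_range_and_range_subset (x := w') (U := (⊤ : P.Opens)) trivial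
  let gB : Spec B ⟶ Spec (CommRingCat.of K) := jB ≫ g
  let φB : CommRingCat.of K ⟶ B := Spec.preimage gB
  have hφB : Spec.map φB = gB := Spec.map_preimage _
  have hφBet : φB.hom.Etale := by
    rw [← HasRingHomProperty.Spec_iff (P := @Etale), hφB]
    infer_instance
  have h𝔮max : 𝔮.asIdeal.IsMaximal := isMaximal_of_etale_field φB.hom hφBet 𝔮.asIdeal
  let _ : Field (↑B ⧸ 𝔮.asIdeal) := Ideal.Quotient.field 𝔮.asIdeal
  let L : Type u := ↑B ⧸ 𝔮.asIdeal
  let ρ : ↑B →+* L := Ideal.Quotient.mk 𝔮.asIdeal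
  have hρ : Function.Surjective ρ := Ideal.Quotient.mk_surjective
  let ψ₀ : K →+* L := ρ.comp φB.hom
  have hfs := finite_separable_of_etale_field φB.hom hφBet ρ hρ
  refine ⟨L, inferInstance, ψ₀, Spec.map (CommRingCat.ofHom ρ) ≫ jB, ?_, hfs⟩
  change _ = Spec.map (φB ≫ CommRingCat.ofHom ρ)
  rw [Spec.map_comp, hφB, Category.assoc]

set_option backward.isDefEq.respectTransparency.types false in
set_option maxHeartbeats 1600000 in
/-- Over an affine Noetherian base, with an affine chart of finite type: if every valuative square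
with a discrete valuation ring has a lift, every valuative square has a lift after an
extension. -/
theorem hasLiftExt_affine_base {R B : CommRingCat.{u}} [IsNoetherianRing R] (w : Spec R ⟶ S)
    (hB : R ⟶ B) (hft : hB.hom.FiniteType)
    {X₀ : Sp S} (hX₀ : IsAlgSpace X₀) (f₀ : X₀ ⟶ (yon S).obj (Over.mk w))
    (hsep : IsSeparatedMor f₀)
    (a : (yon S).obj (Over.mk (Spec.map hB ≫ w)) ⟶ X₀) (hae : RepWith @Etale a)
    (has : RepWith @Surjective a)
    (hh : a ≫ f₀ = (yon S).map (Over.homMk (Spec.map hB) rfl :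
      Over.mk (Spec.map hB ≫ w) ⟶ Over.mk w))
    (hdvr : ∀ sq : ValSq f₀, IsDiscreteValuationRing sq.A → sq.HasLift)
    (sq : ValSq f₀) : sq.HasLiftExt := by
  classical
  let W : Over S := Over.mk w
  let U : Over S := Over.mk (Spec.map hB ≫ w)
  let h : U ⟶ W := Over.homMk (Spec.map hB) rfl
  obtain ⟨β, hβ⟩ := (yon S).map_surjective sq.bot
  let rβ : R ⟶ CommRingCat.of sq.A := Spec.preimage β.left
  have hrβ : Spec.map rβ = β.left := Spec.map_preimage _
  have hstr : Spec.map rβ ≫ w = sq.str := by rw [hrβ]; exact Over.w β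
  -- the fibre of the chart over the generic point
  let pK := hae.rep.snd sq.top
  let qP := hae.rep.fst' sq.top
  have sqP : IsPullback ((yon S).map qP) ((yon S).map pK) a sq.top := hae.rep.isPullback' sq.top
  have hpKet : Etale pK.left := hae.property_snd sq.top
  have hpKsurj : Surjective pK.left := has.property _ _ _ sqP
  obtain ⟨w', -⟩ := hpKsurj.surj (IsLocalRing.closedPoint sq.K : ↥(Spec (CommRingCat.of sq.K)))
  obtain ⟨L₁, instL₁, ψ₁, rL, hrL, -⟩ := exists_field_point_of_etale pK.left w'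
  let evB₁ : B ⟶ CommRingCat.of L₁ := Spec.preimage (rL ≫ qP.left)
  have hevB₁ : Spec.map evB₁ = rL ≫ qP.left := Spec.map_preimage _
  have hqPh : qP ≫ h = pK ≫ sq.j ≫ β := by
    apply (yon S).map_injective
    rw [Functor.map_comp, ← hh, ← Category.assoc, sqP.w, Category.assoc, sq.comm, ← hβ,
      ← Functor.map_comp, ← Functor.map_comp]
  have hcompat : hB ≫ evB₁ =
      rβ ≫ CommRingCat.ofHom (algebraMap sq.A sq.K) ≫ CommRingCat.ofHom ψ₁ := by
    apply Spec.map_injective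
    rw [Spec.map_comp, Spec.map_comp, Spec.map_comp, hevB₁, hrβ, ← hrL, Category.assoc,
      Category.assoc]
    exact congrArg (fun t => rL ≫ t.left) hqPh
  let κ : Subfield L₁ := Subfield.closure (Set.range evB₁.hom)
  let evB : B ⟶ CommRingCat.of κ := CommRingCat.ofHom
    (evB₁.hom.codRestrict κ.toSubring (fun b => Subfield.subset_closure ⟨b, rfl⟩))
  have hgen : Subfield.closure (Set.range evB.hom) = ⊤ := by
    rw [eq_top_iff]
    rintro ⟨z, hz⟩ -
    induction hz using Subfield.closure_induction with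
    | mem x hx =>
      obtain ⟨b, rfl⟩ := hx
      exact Subfield.subset_closure ⟨b, rfl⟩
    | one => exact one_mem _
    | add x y hx hy hx' hy' => exact add_mem hx' hy'
    | neg x hx hx' => exact neg_mem hx'
    | inv x hx hx' => exact inv_mem hx'
    | mul x y hx hy hx' hy' => exact mul_mem hx' hy'
  -- a valuation ring of `L₁` dominating `sq.A`
  let f₁ : sq.A →+* L₁ := ψ₁.comp (algebraMap sq.A sq.K)
  obtain ⟨𝒱₁, h𝒱₁, hloc₁⟩ := IsLocalRing.exists_factor_valuationRing f₁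
  let 𝒱 : ValuationSubring κ := 𝒱₁.comap κ.subtype
  have hevf : ∀ r : R, evB₁.hom (hB.hom r) = f₁ (rβ.hom r) := fun r =>
    congrArg (fun g => g.hom r) hcompat
  have hr𝒱mem : ∀ r : R, (hB ≫ evB).hom r ∈ 𝒱 := by
    intro r
    change evB₁.hom (hB.hom r) ∈ 𝒱₁
    rw [hevf r]
    exact h𝒱₁ _
  let r𝒱 : R ⟶ CommRingCat.of 𝒱 :=
    CommRingCat.ofHom ((hB ≫ evB).hom.codRestrict 𝒱.toSubring hr𝒱mem)
  have hr : r𝒱 ≫ CommRingCat.ofHom 𝒱.subtype = hB ≫ evB := rfl
  obtain ⟨l₀, hl₀a, hl₀b⟩ :=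
    exists_lift_core w hB hft hX₀ f₀ hsep a hae has hh hdvr κ 𝒱 evB hgen r𝒱 hr
  let sq₀ := coreSq w hB f₀ a hh κ 𝒱 evB r𝒱 hr
  let φ₁ : sq.A →+* 𝒱₁ := f₁.codRestrict 𝒱₁.toSubring h𝒱₁
  let e : sq.DomExt :=
    { A' := 𝒱₁, K' := L₁, φ := φ₁, ψ := ψ₁, comm := rfl, isLocalHom := hloc₁ }
  let ι𝒱 : 𝒱 →+* 𝒱₁ := (κ.subtype.comp 𝒱.subtype).codRestrict 𝒱₁.toSubring (fun z => z.2)
  have hringι : r𝒱 ≫ CommRingCat.ofHom ι𝒱 = rβ ≫ CommRingCat.ofHom φ₁ := by
    ext r
    exact hevf r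
  have hιw : Spec.map (CommRingCat.ofHom ι𝒱) ≫ sq₀.ptA.hom = e.ptA'.hom := by
    change Spec.map (CommRingCat.ofHom ι𝒱) ≫ Spec.map r𝒱 ≫ w =
      Spec.map (CommRingCat.ofHom φ₁) ≫ sq.str
    rw [← hstr, ← Spec.map_comp_assoc, ← Spec.map_comp_assoc, hringι]
  let ιO : e.ptA' ⟶ sq₀.ptA := Over.homMk (Spec.map (CommRingCat.ofHom ι𝒱)) hιw
  have hικ5 : Spec.map (CommRingCat.ofHom κ.subtype) ≫
      Spec.map (CommRingCat.ofHom (algebraMap 𝒱 κ)) =
      Spec.map (CommRingCat.ofHom (algebraMap 𝒱₁ L₁)) ≫ Spec.map (CommRingCat.ofHom ι𝒱) := by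
    rw [← Spec.map_comp, ← Spec.map_comp]
    rfl
  have hικw : Spec.map (CommRingCat.ofHom κ.subtype) ≫ sq₀.ptK.hom = e.ptK'.hom := by
    change Spec.map (CommRingCat.ofHom κ.subtype) ≫
        Spec.map (CommRingCat.ofHom (algebraMap 𝒱 κ)) ≫ sq₀.ptA.hom =
      Spec.map (CommRingCat.ofHom (algebraMap 𝒱₁ L₁)) ≫ e.ptA'.hom
    rw [← hιw, ← Category.assoc, hικ5, Category.assoc]
  let ικ : e.ptK' ⟶ sq₀.ptK := Over.homMk (Spec.map (CommRingCat.ofHom κ.subtype)) hικw
  let km' : e.ptK' ⟶ e.ptA' :=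
    Over.homMk (Spec.map (CommRingCat.ofHom (algebraMap e.A' e.K'))) rfl
  have hkι : km' ≫ ιO = ικ ≫ sq₀.j := by
    apply Over.OverMorphism.ext
    exact hικ5.symm
  let ψm : e.ptK' ⟶ sq.ptK := Over.homMk (Spec.map (CommRingCat.ofHom e.ψ)) (by
    change Spec.map _ ≫ Spec.map _ ≫ _ = Spec.map _ ≫ Spec.map _ ≫ _
    rw [← Spec.map_comp_assoc, ← Spec.map_comp_assoc, ← CommRingCat.ofHom_comp,
      ← CommRingCat.ofHom_comp, e.comm])
  have hrLw : rL ≫ (hae.rep.pullback sq.top).hom = e.ptK'.hom := by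
    have h1 : pK.left ≫ sq.ptK.hom = (hae.rep.pullback sq.top).hom := Over.w pK
    have h2 : Spec.map (CommRingCat.ofHom ψ₁) ≫ sq.ptK.hom = e.ptK'.hom := Over.w ψm
    rw [← h1, ← Category.assoc, hrL, h2]
  let rLO : e.ptK' ⟶ hae.rep.pullback sq.top := Over.homMk rL hrLw
  have hrLq : rLO ≫ qP = ικ ≫ (Over.homMk (Spec.map evB) (by
      change Spec.map evB ≫ Spec.map hB ≫ w = Spec.map _ ≫ Spec.map r𝒱 ≫ w
      rw [← Spec.map_comp_assoc, ← Spec.map_comp_assoc, ← hr]
      rfl) : sq₀.ptK ⟶ U) := by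
    apply Over.OverMorphism.ext
    change rL ≫ qP.left = Spec.map (CommRingCat.ofHom κ.subtype) ≫ Spec.map evB
    rw [← hevB₁, ← Spec.map_comp]
    rfl
  have hrLp : rLO ≫ pK = ψm := by
    apply Over.OverMorphism.ext
    exact hrL
  refine ⟨e, (yon S).map ιO ≫ l₀, ?_, ?_⟩
  · change (yon S).map km' ≫ (yon S).map ιO ≫ l₀ = (yon S).map ψm ≫ sq.top
    have h3 : (yon S).map sq₀.j ≫ l₀ = (yon S).map (Over.homMk (Spec.map evB) (by
      change Spec.map evB ≫ Spec.map hB ≫ w = Spec.map _ ≫ Spec.map r𝒱 ≫ w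
      rw [← Spec.map_comp_assoc, ← Spec.map_comp_assoc, ← hr]
      rfl) : sq₀.ptK ⟶ U) ≫ a := hl₀a
    rw [← Category.assoc, ← Functor.map_comp, hkι, Functor.map_comp, Category.assoc, h3,
      ← Category.assoc, ← Functor.map_comp, ← hrLq, Functor.map_comp, Category.assoc, sqP.w,
      ← Category.assoc, ← Functor.map_comp, hrLp]
  · have h4 : l₀ ≫ f₀ = (yon S).map (Over.homMk (Spec.map r𝒱) rfl : sq₀.ptA ⟶ W) := hl₀b
    rw [Category.assoc, h4, ← Functor.map_comp, ← hβ, ← Functor.map_comp]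
    congr 1
    apply Over.OverMorphism.ext
    change Spec.map (CommRingCat.ofHom ι𝒱) ≫ Spec.map r𝒱 =
      Spec.map (CommRingCat.ofHom φ₁) ≫ β.left
    rw [← hrβ, ← Spec.map_comp, ← Spec.map_comp, hringι]

end Groth.Agent.Lib.Helper14.AS
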