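import Groth.Agent.Lib.Helper14.DvrLift3
import Groth.Agent.Lib.Helper14.FpqcBase2
import Groth.Agent.Lib.Helper14.AlgSpClosed

/-!
# Universal closedness from lifts for discrete valuation rings (helper14)
-/

open CategoryTheory CategoryTheory.Limits AlgebraicGeometry Opposite AlgSp
open CategoryTheory.Functor Groth.Agent.Lib.Helper14.AS

universe u

noncomputable section

namespace Groth.Agent.Lib.Helper14.AS

variable {S : Scheme.{u}}

set_option backward.isDefEq.respectTransparency.types false in
/-- A separated morphism of finite type to a locally Noetherian algebraic space all of whose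
valuative squares with discrete valuation rings have lifts is universally closed. -/
theorem isUnivClosedMor_of_dvr_lift {X Y : Sp S} (hX : IsAlgSpace X) (hY : IsAlgSpace Y)
    (f : X ⟶ Y) (hsep : IsSeparatedMor f) (hqc : IsQuasiCompactMor f)
    (hlft : LocP @LocallyOfFiniteType f) (hYN : IsLocNoethSp Y)
    (hdvr : ∀ sq : ValSq f, IsDiscreteValuationRing sq.A → sq.HasLift) :
    IsUnivClosedMor f := by
  obtain ⟨V, b, hbe, hbs, hVN⟩ := hYN
  have sq := IsPullback.of_hasPullback f b
  have hP : IsAlgSpace (pullback f b) :=
    isAlgSpace_of_isPullback (repDiag_of_isAlgSpace hY) hX (IsAlgSpace.yon_obj V) sq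
  have hsep' : IsSeparatedMor (pullback.snd f b) :=
    MorphismProperty.of_isPullback (P := (RepWith (S := S) @IsClosedImmersion).diagonal) sq hsep
  have hqc' : IsQuasiCompactMor (pullback.snd f b) := isQuasiCompactMor_of_isPullback sq hqc
  have hlft' : LocP @LocallyOfFiniteType (pullback.snd f b) :=
    locP_baseChange etLocal_lft hX hY (IsAlgSpace.yon_obj V) f b _ _ sq hlft
  have hdvr' : ∀ sq' : ValSq (pullback.snd f b), IsDiscreteValuationRing sq'.A → sq'.HasLift :=
    fun sq' h' => dvr_hasLift_of_isPullback sq hdvr sq' h'
  have : IsLocallyNoetherian V.left := hVN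
  have he : ExistVC (pullback.snd f b) :=
    existVC_of_dvr_lift hP (pullback.snd f b) hsep' hqc' hlft' hdvr'
  have huc : IsUnivClosedMor (pullback.snd f b) :=
    isUnivClosedMor_of_qc_existVC (pullback.snd f b) hqc' he
  exact isUnivClosedMor_of_etale_cover hY (IsAlgSpace.yon_obj V) b hbe hbs sq huc

end Groth.Agent.Lib.Helper14.AS
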