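import Groth.Agent.Lib.Helper14.DvrLiftG

/-!
# Lifts for discrete valuation rings give lifts for all valuation rings: relative version, II
(helper14)
-/

open CategoryTheory CategoryTheory.Limits AlgebraicGeometry Opposite AlgSp
open CategoryTheory.Functor Groth.Agent.Lib.Helper14.AS

universe u

noncomputable section

namespace Groth.Agent.Lib.Helper14.AS

variable {S : Scheme.{u}}

set_option backward.isDefEq.respectTransparency.types false in
set_option maxHeartbeats 1600000 in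
/-- Relative version of `hasLiftExt_affine_base`: the hypothesis on discrete valuation rings is
only required for squares whose top arrow satisfies `G`; the conclusion holds for squares whose
top arrow satisfies `G`, provided `G`-points can be defined over finitely generated fields. -/
theorem hasLiftExt_affine_base_of {R B : CommRingCat.{u}} [IsNoetherianRing R] (w : Spec R ⟶ S)
    (hB : R ⟶ B)
    {X₀ : Sp S} (hX₀ : IsAlgSpace X₀) (f₀ : X₀ ⟶ (yon S).obj (Over.mk w))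
    (hsep : IsSeparatedMor f₀)
    (a : (yon S).obj (Over.mk (Spec.map hB ≫ w)) ⟶ X₀) (hae : RepWith @Etale a)
    (has : RepWith @Surjective a)
    (hh : a ≫ f₀ = (yon S).map (Over.homMk (Spec.map hB) rfl :
      Over.mk (Spec.map hB ≫ w) ⟶ Over.mk w))
    (G : ∀ ⦃T : Over S⦄, ((yon S).obj T ⟶ X₀) → Prop)
    (hG : ∀ ⦃T T' : Over S⦄ (r : T' ⟶ T) (p : (yon S).obj T ⟶ X₀), G p → G ((yon S).map r ≫ p))
    (hGfg : ∀ (L : Type u) [Field L] (ev : B ⟶ CommRingCat.of L),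
      G ((yon S).map (Over.homMk (Spec.map ev) rfl :
        Over.mk (Spec.map ev ≫ Spec.map hB ≫ w) ⟶ Over.mk (Spec.map hB ≫ w)) ≫ a) →
      ∃ (κ : Type u) (_ : Field κ) (evκ : B ⟶ CommRingCat.of κ) (L' : Type u) (_ : Field L')
        (ψ : L →+* L') (ι : κ →+* L'),
        ι.comp evκ.hom = ψ.comp ev.hom ∧
        (∃ S₀ : Finset κ, Subfield.closure (Set.range (hB ≫ evκ).hom ∪ (S₀ : Set κ)) = ⊤) ∧
        G ((yon S).map (Over.homMk (Spec.map evκ) rfl :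
          Over.mk (Spec.map evκ ≫ Spec.map hB ≫ w) ⟶ Over.mk (Spec.map hB ≫ w)) ≫ a))
    (hdvr : ∀ sq : ValSq f₀, IsDiscreteValuationRing sq.A → G sq.top → sq.HasLift)
    (sq : ValSq f₀) (hGsq : G sq.top) : sq.HasLiftExt := by
  classical
  let W : Over S := Over.mk w
  let U : Over S := Over.mk (Spec.map hB ≫ w)
  let h : U ⟶ W := Over.homMk (Spec.map hB) rfl
  obtain ⟨β, hβ⟩ := (yon S).map_surjective sq.bot
  let rβ : R ⟶ CommRingCat.of sq.A := Spec.preimage β.left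
  have hrβ : Spec.map rβ = β.left := Spec.map_preimage _
  have hstr : Spec.map rβ ≫ w = sq.str := by rw [hrβ]; exact Over.w β
  -- the fibre of the chart over the generic point
  let pK := hae.rep.snd sq.top
  let qP := hae.rep.fst' sq.top
  have sqP : IsPullback ((yon S).map qP) ((yon S).map pK) a sq.top := hae.rep.isPullback' sq.top
  have hpKet : Etale pK.left := hae.property_snd sq.top
  have hpKsurj : Surjective pK.left := has.property _ _ _ sqP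
  obtain ⟨w', -⟩ := hpKsurj.surj (IsLocalRing.closedPoint sq.K : ↥(Spec (CommRingCat.of sq.K)))
  obtain ⟨L₁, instL₁, ψ₁, rL, hrL, -⟩ := exists_field_point_of_etale pK.left w'
  let evB₁ : B ⟶ CommRingCat.of L₁ := Spec.preimage (rL ≫ qP.left)
  have hevB₁ : Spec.map evB₁ = rL ≫ qP.left := Spec.map_preimage _
  have hqPh : qP ≫ h = pK ≫ sq.j ≫ β := by
    apply (yon S).map_injective
    rw [Functor.map_comp, ← hh, ← Category.assoc, sqP.w, Category.assoc, sq.comm, ← hβ,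
      ← Functor.map_comp, ← Functor.map_comp]
  have hcompat : hB ≫ evB₁ =
      rβ ≫ CommRingCat.ofHom (algebraMap sq.A sq.K) ≫ CommRingCat.ofHom ψ₁ := by
    apply Spec.map_injective
    rw [Spec.map_comp, Spec.map_comp, Spec.map_comp, hevB₁, hrβ, ← hrL, Category.assoc,
      Category.assoc]
    exact congrArg (fun t => rL ≫ t.left) hqPh
  -- the `L₁`-point satisfies `G`
  let T₁ : Over S := Over.mk (Spec.map evB₁ ≫ Spec.map hB ≫ w)
  have hr₁w : Spec.map (CommRingCat.ofHom ψ₁) ≫ sq.ptK.hom = T₁.hom := by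
    change Spec.map (CommRingCat.ofHom ψ₁) ≫
      Spec.map (CommRingCat.ofHom (algebraMap sq.A sq.K)) ≫ sq.str =
      Spec.map evB₁ ≫ Spec.map hB ≫ w
    rw [← hstr, ← Spec.map_comp_assoc, ← Spec.map_comp_assoc, ← Spec.map_comp_assoc, hcompat]
  let r₁ : T₁ ⟶ sq.ptK := Over.homMk (Spec.map (CommRingCat.ofHom ψ₁)) hr₁w
  let ξ₁ : T₁ ⟶ U := Over.homMk (Spec.map evB₁) rfl
  have hrLw : rL ≫ (hae.rep.pullback sq.top).hom = T₁.hom := by
    have h1 : pK.left ≫ sq.ptK.hom = (hae.rep.pullback sq.top).hom := Over.w pK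
    rw [← h1, ← Category.assoc, hrL, hr₁w]
  let rLO : T₁ ⟶ hae.rep.pullback sq.top := Over.homMk rL hrLw
  have hrLq : rLO ≫ qP = ξ₁ := by
    apply Over.OverMorphism.ext
    exact hevB₁.symm
  have hrLp : rLO ≫ pK = r₁ := by
    apply Over.OverMorphism.ext
    exact hrL
  have hp₁ : (yon S).map ξ₁ ≫ a = (yon S).map r₁ ≫ sq.top := by
    rw [← hrLq, Functor.map_comp, Category.assoc, sqP.w, ← Category.assoc, ← Functor.map_comp,
      hrLp]
  have hG₁ : G ((yon S).map ξ₁ ≫ a) := by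
    rw [hp₁]
    exact hG r₁ sq.top hGsq
  obtain ⟨κ, instκ, evκ, L₂, instL₂, ψ₂, ι, hι, hgen, hGκ⟩ := hGfg L₁ evB₁ hG₁
  -- a valuation ring of `L₂` dominating `sq.A`
  let f₂ : sq.A →+* L₂ := (ψ₂.comp ψ₁).comp (algebraMap sq.A sq.K)
  obtain ⟨𝒱₂, h𝒱₂, hloc₂⟩ := IsLocalRing.exists_factor_valuationRing f₂
  let 𝒱 : ValuationSubring κ := 𝒱₂.comap ι
  have hevf : ∀ r : R, ι (evκ.hom (hB.hom r)) = f₂ (rβ.hom r) := by
    intro r
    have h1 : ι (evκ.hom (hB.hom r)) = ψ₂ (evB₁.hom (hB.hom r)) :=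
      congrArg (fun g => g (hB.hom r)) hι
    rw [h1]
    have h2 := congrArg (fun g => g.hom r) hcompat
    exact congrArg ψ₂ h2
  have hr𝒱mem : ∀ r : R, (hB ≫ evκ).hom r ∈ 𝒱 := by
    intro r
    change ι (evκ.hom (hB.hom r)) ∈ 𝒱₂
    rw [hevf r]
    exact h𝒱₂ _
  let r𝒱 : R ⟶ CommRingCat.of 𝒱 :=
    CommRingCat.ofHom ((hB ≫ evκ).hom.codRestrict 𝒱.toSubring hr𝒱mem)
  have hr : r𝒱 ≫ CommRingCat.ofHom 𝒱.subtype = hB ≫ evκ := rfl
  let sq₀ := coreSq w hB f₀ a hh κ 𝒱 evκ r𝒱 hr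
  have hcw : 𝟙 _ ≫ (Over.mk (Spec.map evκ ≫ Spec.map hB ≫ w)).hom = sq₀.ptK.hom := by
    change 𝟙 _ ≫ Spec.map evκ ≫ Spec.map hB ≫ w =
      Spec.map (CommRingCat.ofHom (algebraMap 𝒱 κ)) ≫ Spec.map r𝒱 ≫ w
    rw [Category.id_comp, ← Spec.map_comp_assoc, ← Spec.map_comp_assoc, ← hr]
    rfl
  let c : sq₀.ptK ⟶ Over.mk (Spec.map evκ ≫ Spec.map hB ≫ w) := Over.homMk (𝟙 _) hcw
  have hG₀ : G sq₀.top := by
    have h1 := hG c _ hGκ
    have h2 : (yon S).map c ≫ (yon S).map (Over.homMk (Spec.map evκ) rfl :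
        Over.mk (Spec.map evκ ≫ Spec.map hB ≫ w) ⟶ Over.mk (Spec.map hB ≫ w)) ≫ a =
        sq₀.top := by
      rw [← Category.assoc, ← Functor.map_comp]
      change _ = (yon S).map _ ≫ a
      congr 2
    rw [← h2]
    exact h1
  obtain ⟨l₀, hl₀a, hl₀b⟩ :=
    exists_lift_core_of w hB hX₀ f₀ hsep a hae has hh G hG hdvr κ 𝒱 evκ hgen r𝒱 hr hG₀
  let φ₂ : sq.A →+* 𝒱₂ := f₂.codRestrict 𝒱₂.toSubring h𝒱₂
  let e : sq.DomExt :=
    { A' := 𝒱₂, K' := L₂, φ := φ₂, ψ := ψ₂.comp ψ₁, comm := rfl, isLocalHom := hloc₂ }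
  let ι𝒱 : 𝒱 →+* 𝒱₂ := (ι.comp 𝒱.subtype).codRestrict 𝒱₂.toSubring (fun z => z.2)
  have hringι : r𝒱 ≫ CommRingCat.ofHom ι𝒱 = rβ ≫ CommRingCat.ofHom φ₂ := by
    ext r
    exact hevf r
  have hιw : Spec.map (CommRingCat.ofHom ι𝒱) ≫ sq₀.ptA.hom = e.ptA'.hom := by
    change Spec.map (CommRingCat.ofHom ι𝒱) ≫ Spec.map r𝒱 ≫ w =
      Spec.map (CommRingCat.ofHom φ₂) ≫ sq.str
    rw [← hstr, ← Spec.map_comp_assoc, ← Spec.map_comp_assoc, hringι]
  let ιO : e.ptA' ⟶ sq₀.ptA := Over.homMk (Spec.map (CommRingCat.ofHom ι𝒱)) hιw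
  have hικ5 : Spec.map (CommRingCat.ofHom ι) ≫
      Spec.map (CommRingCat.ofHom (algebraMap 𝒱 κ)) =
      Spec.map (CommRingCat.ofHom (algebraMap 𝒱₂ L₂)) ≫ Spec.map (CommRingCat.ofHom ι𝒱) := by
    rw [← Spec.map_comp, ← Spec.map_comp]
    rfl
  have hικw : Spec.map (CommRingCat.ofHom ι) ≫ sq₀.ptK.hom = e.ptK'.hom := by
    change Spec.map (CommRingCat.ofHom ι) ≫
        Spec.map (CommRingCat.ofHom (algebraMap 𝒱 κ)) ≫ sq₀.ptA.hom =
      Spec.map (CommRingCat.ofHom (algebraMap 𝒱₂ L₂)) ≫ e.ptA'.hom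
    rw [← hιw, ← Category.assoc, hικ5, Category.assoc]
  let ικ : e.ptK' ⟶ sq₀.ptK := Over.homMk (Spec.map (CommRingCat.ofHom ι)) hικw
  let km' : e.ptK' ⟶ e.ptA' :=
    Over.homMk (Spec.map (CommRingCat.ofHom (algebraMap e.A' e.K'))) rfl
  have hkι : km' ≫ ιO = ικ ≫ sq₀.j := by
    apply Over.OverMorphism.ext
    exact hικ5.symm
  let ψm : e.ptK' ⟶ sq.ptK := Over.homMk (Spec.map (CommRingCat.ofHom e.ψ)) (by
    change Spec.map _ ≫ Spec.map _ ≫ _ = Spec.map _ ≫ Spec.map _ ≫ _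
    rw [← Spec.map_comp_assoc, ← Spec.map_comp_assoc, ← CommRingCat.ofHom_comp,
      ← CommRingCat.ofHom_comp, e.comm])
  -- the `L₂`-point over the `L₁`-point
  have hψ₂w : Spec.map (CommRingCat.ofHom ψ₂) ≫ T₁.hom = e.ptK'.hom := by
    have h1 : Spec.map (CommRingCat.ofHom e.ψ) ≫ sq.ptK.hom = e.ptK'.hom := Over.w ψm
    rw [← hr₁w, ← h1, ← Category.assoc, ← Spec.map_comp]
    rfl
  let ψ₂m : e.ptK' ⟶ T₁ := Over.homMk (Spec.map (CommRingCat.ofHom ψ₂)) hψ₂w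
  have hψ₂r : ψ₂m ≫ r₁ = ψm := by
    apply Over.OverMorphism.ext
    change Spec.map (CommRingCat.ofHom ψ₂) ≫ Spec.map (CommRingCat.ofHom ψ₁) =
      Spec.map (CommRingCat.ofHom (ψ₂.comp ψ₁))
    rw [← Spec.map_comp]
    rfl
  have hξκ : ικ ≫ (Over.homMk (Spec.map evκ) (by
      change Spec.map evκ ≫ Spec.map hB ≫ w = Spec.map _ ≫ Spec.map r𝒱 ≫ w
      rw [← Spec.map_comp_assoc, ← Spec.map_comp_assoc, ← hr]
      rfl) : sq₀.ptK ⟶ U) = ψ₂m ≫ ξ₁ := by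
    apply Over.OverMorphism.ext
    change Spec.map (CommRingCat.ofHom ι) ≫ Spec.map evκ =
      Spec.map (CommRingCat.ofHom ψ₂) ≫ Spec.map evB₁
    rw [← Spec.map_comp, ← Spec.map_comp]
    congr 1
    ext b
    exact congrArg (fun g => g b) hι
  refine ⟨e, (yon S).map ιO ≫ l₀, ?_, ?_⟩
  · change (yon S).map km' ≫ (yon S).map ιO ≫ l₀ = (yon S).map ψm ≫ sq.top
    have h3 : (yon S).map sq₀.j ≫ l₀ = (yon S).map (Over.homMk (Spec.map evκ) (by
      change Spec.map evκ ≫ Spec.map hB ≫ w = Spec.map _ ≫ Spec.map r𝒱 ≫ w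
      rw [← Spec.map_comp_assoc, ← Spec.map_comp_assoc, ← hr]
      rfl) : sq₀.ptK ⟶ U) ≫ a := hl₀a
    rw [← Category.assoc, ← Functor.map_comp, hkι, Functor.map_comp, Category.assoc, h3,
      ← Category.assoc, ← Functor.map_comp, hξκ, Functor.map_comp, Category.assoc, hp₁,
      ← Category.assoc, ← Functor.map_comp, hψ₂r]
  · have h4 : l₀ ≫ f₀ = (yon S).map (Over.homMk (Spec.map r𝒱) rfl : sq₀.ptA ⟶ W) := hl₀b
    rw [Category.assoc, h4, ← Functor.map_comp, ← hβ, ← Functor.map_comp]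
    congr 1
    apply Over.OverMorphism.ext
    change Spec.map (CommRingCat.ofHom ι𝒱) ≫ Spec.map r𝒱 =
      Spec.map (CommRingCat.ofHom φ₂) ≫ β.left
    rw [← hrβ, ← Spec.map_comp, ← Spec.map_comp, hringι]

end Groth.Agent.Lib.Helper14.AS
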