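import Mathlib.AlgebraicGeometry.AffineScheme
import Mathlib.AlgebraicGeometry.Morphisms.UnderlyingMap
import Mathlib.RingTheory.Spectrum.Prime.Topology
import Mathlib.RingTheory.Ideal.MinimalPrime.Localization

open CategoryTheory CategoryTheory.Limits AlgebraicGeometry

universe u

namespace Groth.Agent.Lib.Helper14.AS

/-- For a morphism of affine schemes with dense image, every point of the target is a
specialization of a point of the image. -/
theorem exists_specializes_of_denseRange {T W : Scheme.{u}} [IsAffine T] [IsAffine W]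
    (g : T ⟶ W) (hd : DenseRange g) (w : W) : ∃ t : T, g t ⤳ w := by
  let φ := g.appTop
  have hnat : T.isoSpec.hom ≫ Spec.map φ = g ≫ W.isoSpec.hom := Scheme.isoSpec_hom_naturality g
  have hsurj : Function.Surjective T.isoSpec.inv := Surjective.surj
  have hsurj' : Function.Surjective W.isoSpec.hom := Surjective.surj
  have hd' : DenseRange (Spec.map φ) := by
    have h1 : Spec.map φ = T.isoSpec.inv ≫ g ≫ W.isoSpec.hom := by
      rw [← hnat, Iso.inv_hom_id_assoc]
    rw [h1]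
    have h2 : DenseRange (g ∘ T.isoSpec.inv) := hd.comp hsurj.denseRange g.continuous
    have h3 : DenseRange (W.isoSpec.hom ∘ (g ∘ T.isoSpec.inv)) :=
      hsurj'.denseRange.comp h2 W.isoSpec.hom.continuous
    exact h3
  have hd'' : DenseRange (PrimeSpectrum.comap φ.hom) := hd'
  rw [PrimeSpectrum.denseRange_comap_iff_minimalPrimes] at hd''
  let 𝔭 : PrimeSpectrum Γ(W, ⊤) := W.isoSpec.hom w
  obtain ⟨𝔭₀, h𝔭₀, hle⟩ := Ideal.exists_minimalPrimes_le (I := ⊥) (J := 𝔭.asIdeal) bot_le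
  obtain ⟨𝔮, h𝔮⟩ := hd'' 𝔭₀ h𝔭₀
  let 𝔮' : ↥(Spec Γ(T, ⊤)) := 𝔮
  refine ⟨T.isoSpec.inv 𝔮', ?_⟩
  have h4 : W.isoSpec.hom (g (T.isoSpec.inv 𝔮')) = Spec.map φ 𝔮' := by
    have h6 : T.isoSpec.inv ≫ g ≫ W.isoSpec.hom = Spec.map φ := by
      rw [← hnat, Iso.inv_hom_id_assoc]
    rw [← h6]
    rfl
  have h7 : (Spec.map φ 𝔮' : ↥(Spec Γ(W, ⊤))) ⤳ W.isoSpec.hom w := by
    have h8 : (PrimeSpectrum.comap φ.hom 𝔮 : PrimeSpectrum Γ(W, ⊤)) ≤ 𝔭 := by
      rw [h𝔮]
      exact hle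
    exact (PrimeSpectrum.le_iff_specializes _ _).1 h8
  have h5 : W.isoSpec.hom (g (T.isoSpec.inv 𝔮')) ⤳ W.isoSpec.hom w := by
    rw [h4]
    exact h7
  have hind : Topology.IsInducing W.isoSpec.hom :=
    (TopCat.homeoOfIso (Scheme.forgetToTop.mapIso W.isoSpec)).isInducing
  exact hind.specializes_iff.1 h5

end Groth.Agent.Lib.Helper14.AS
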