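import Groth.Agent.Lib.Helper14.DvrLift3
import Groth.Agent.Lib.Helper14.AlgSpPoints2
import Groth.Agent.Lib.Helper14.GenSpec

/-!
# Charts through field points, density on charts (helper14)
-/

open CategoryTheory CategoryTheory.Limits AlgebraicGeometry Opposite AlgSp
open CategoryTheory.Functor Groth.Agent.Lib.Helper14.AS

universe u

noncomputable section

namespace Groth.Agent.Lib.Helper14.AS

variable {S : Scheme.{u}}

set_option backward.isDefEq.respectTransparency.types false in
/-- Two field-valued points of a scheme with the same image agree over a common extension. -/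
theorem exists_common_extension_of_eq {Y : Scheme.{u}} {K₁ K₂ : Type u} [Field K₁] [Field K₂]
    (r₁ : Spec (CommRingCat.of K₁) ⟶ Y) (r₂ : Spec (CommRingCat.of K₂) ⟶ Y)
    (h : r₁ (IsLocalRing.closedPoint K₁) = r₂ (IsLocalRing.closedPoint K₂)) :
    ∃ (Ω : Type u) (_ : Field Ω) (i₁ : K₁ →+* Ω) (i₂ : K₂ →+* Ω),
      Spec.map (CommRingCat.ofHom i₁) ≫ r₁ = Spec.map (CommRingCat.ofHom i₂) ≫ r₂ := by
  let δ₁ : Y.residueField (r₁ (IsLocalRing.closedPoint K₁)) ⟶ CommRingCat.of K₁ :=
    Y.descResidueField (K := K₁) (Scheme.stalkClosedPointTo r₁)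
  have hδ₁ : Spec.map δ₁ ≫ Y.fromSpecResidueField _ = r₁ :=
    Scheme.descResidueField_stalkClosedPointTo_fromSpecResidueField K₁ Y r₁
  let δ₂ : Y.residueField (r₂ (IsLocalRing.closedPoint K₂)) ⟶ CommRingCat.of K₂ :=
    Y.descResidueField (K := K₂) (Scheme.stalkClosedPointTo r₂)
  have hδ₂ : Spec.map δ₂ ≫ Y.fromSpecResidueField _ = r₂ :=
    Scheme.descResidueField_stalkClosedPointTo_fromSpecResidueField K₂ Y r₂
  let δ₂' : Y.residueField (r₁ (IsLocalRing.closedPoint K₁)) ⟶ CommRingCat.of K₂ :=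
    (Y.residueFieldCongr h).hom ≫ δ₂
  have hδ₂' : Spec.map δ₂' ≫ Y.fromSpecResidueField _ = r₂ := by
    rw [Spec.map_comp, Category.assoc, Scheme.residueFieldCongr_fromSpecResidueField, hδ₂]
  obtain ⟨Ω, instΩ, i₁, i₂, hi⟩ := AlgSp.FieldPt.exists_amalgamation δ₁.hom δ₂'.hom
  refine ⟨Ω, instΩ, i₁, i₂, ?_⟩
  rw [← hδ₁, ← hδ₂', ← Category.assoc, ← Category.assoc, ← Spec.map_comp, ← Spec.map_comp]
  congr 2
  ext x
  exact congrArg (fun g => g x) hi

set_option backward.isDefEq.respectTransparency.types false in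
/-- An affine etale chart through a field-valued point of an algebraic space, after a finite
separable extension of the field. -/
theorem exists_affine_chart_through {X : Sp S} (hX : IsAlgSpace X) {K : Type u} [Field K]
    (strK : Spec (CommRingCat.of K) ⟶ S) (top : (yon S).obj (Over.mk strK) ⟶ X) :
    ∃ (W : Over S) (_ : IsAffine W.left) (a : (yon S).obj W ⟶ X) (_ : RepWith @Etale a)
      (K' : Type u) (_ : Field K') (ψ : K →+* K')
      (r : Over.mk (Spec.map (CommRingCat.ofHom ψ) ≫ strK) ⟶ W),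
      (yon S).map r ≫ a = (yon S).map (Over.homMk (Spec.map (CommRingCat.ofHom ψ)) rfl :
        Over.mk (Spec.map (CommRingCat.ofHom ψ) ≫ strK) ⟶ Over.mk strK) ≫ top := by
  obtain ⟨W', a', hae', has'⟩ := hX.atlas
  let pK := hae'.rep.snd top
  let qP := hae'.rep.fst' top
  have sqP : IsPullback ((yon S).map qP) ((yon S).map pK) a' top := hae'.rep.isPullback' top
  have hpKet : Etale pK.left := hae'.property_snd top
  have hpKsurj : Surjective pK.left := has'.property _ _ _ sqP
  obtain ⟨p₀, -⟩ := hpKsurj.surj (IsLocalRing.closedPoint K : ↥(Spec (CommRingCat.of K)))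
  obtain ⟨K', instK', ψ, rP, hrP, -⟩ := exists_field_point_of_etale pK.left p₀
  let w' : ↥W'.left := (rP ≫ qP.left) (IsLocalRing.closedPoint K')
  obtain ⟨W₀, hW₀, hw'W₀, -⟩ := exists_isAffineOpen_mem_and_subset (x := w')
    (U := (⊤ : W'.left.Opens)) trivial
  let W : Over S := Over.mk (W₀.ι ≫ W'.hom)
  let ιW : W ⟶ W' := Over.homMk W₀.ι rfl
  have hWaff : IsAffine W.left := hW₀
  have hιopen : IsOpenImmersion ιW.left := inferInstanceAs (IsOpenImmersion W₀.ι)
  have hιet : RepWith @Etale ((yon S).map ιW) := (repWith_yon_map_iff _ _).2 inferInstance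
  have hrange : Set.range (rP ≫ qP.left) ⊆ Set.range W₀.ι := by
    rintro _ ⟨z, rfl⟩
    have hz : z = IsLocalRing.closedPoint K' := Subsingleton.elim _ _
    rw [hz, Scheme.Opens.range_ι]
    exact hw'W₀
  let r₀ : Spec (CommRingCat.of K') ⟶ W.left := IsOpenImmersion.lift W₀.ι (rP ≫ qP.left) hrange
  have hr₀ : r₀ ≫ W₀.ι = rP ≫ qP.left := IsOpenImmersion.lift_fac _ _ _
  have hrw : r₀ ≫ W.hom = Spec.map (CommRingCat.ofHom ψ) ≫ strK := by
    change r₀ ≫ W₀.ι ≫ W'.hom = _
    rw [← Category.assoc, hr₀, Category.assoc, Over.w qP, ← hrP, Category.assoc]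
    congr 1
    exact (Over.w pK).symm
  let r : Over.mk (Spec.map (CommRingCat.ofHom ψ) ≫ strK) ⟶ W := Over.homMk r₀ hrw
  refine ⟨W, hWaff, (yon S).map ιW ≫ a', repWith_comp _ hιet hae', K', instK', ψ, r, ?_⟩
  let rPO : Over.mk (Spec.map (CommRingCat.ofHom ψ) ≫ strK) ⟶ hae'.rep.pullback top :=
    Over.homMk rP (by
      change rP ≫ (hae'.rep.pullback top).hom = Spec.map (CommRingCat.ofHom ψ) ≫ strK
      rw [← hrP, Category.assoc]
      congr 1
      exact (Over.w pK).symm)
  have h1 : r ≫ ιW = rPO ≫ qP := by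
    apply Over.OverMorphism.ext
    exact hr₀
  have h2 : rPO ≫ pK = (Over.homMk (Spec.map (CommRingCat.ofHom ψ)) rfl :
      Over.mk (Spec.map (CommRingCat.ofHom ψ) ≫ strK) ⟶ Over.mk strK) := by
    apply Over.OverMorphism.ext
    exact hrP
  rw [← Category.assoc, ← Functor.map_comp, h1, Functor.map_comp, Category.assoc, sqP.w,
    ← Category.assoc, ← Functor.map_comp, h2]

set_option backward.isDefEq.respectTransparency.types false in
/-- For a quasi-compact `h : U ⟶ X` with dense image and an affine etale chart `W` of `X`, there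
is an affine scheme `T` over `U` and `W` with dense image in `W`. -/
theorem exists_dense_affine_over_chart {X U : Sp S} (hX : IsAlgSpace X) (hU : IsAlgSpace U)
    (h : U ⟶ X) (hqc : IsQuasiCompactMor h) (hd : DenseRange (Points.map h)) {W : Over S}
    [IsAffine W.left] (a : (yon S).obj W ⟶ X) (hae : RepWith @Etale a) :
    ∃ (T : Over S) (_ : IsAffine T.left) (g : T ⟶ W) (τ : (yon S).obj T ⟶ U),
      τ ≫ h = (yon S).map g ≫ a ∧ DenseRange g.left := by
  have sqU := IsPullback.of_hasPullback h a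
  have hWc : CompactSpace ↥W.left := inferInstance
  have hUWqc : IsQuasiCompactSp (pullback h a) :=
    hqc (IsAlgSpace.yon_obj W) ((isQuasiCompactSp_yon_iff W).2 hWc) _ _ _ sqU
  obtain ⟨T, c, hTaff, hce, hcs⟩ := isQuasiCompactSp_iff_exists_affine_chart.1 hUWqc
  obtain ⟨g, hg⟩ := (yon S).map_surjective (c ≫ pullback.snd h a)
  refine ⟨T, hTaff, g, c ≫ pullback.fst h a, ?_, ?_⟩
  · rw [Category.assoc, sqU.w, ← Category.assoc, hg]
  · rw [DenseRange, dense_iff_inter_open]
    intro O hO hOne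
    have hE : IsOpen (Points.ofPt a '' O) := isOpenMap_ofPt a hae O hO
    have hEne : (Points.ofPt a '' O).Nonempty := hOne.image _
    obtain ⟨_, ⟨o', ho', rfl⟩, ⟨y, hy⟩⟩ := hd.inter_open_nonempty _ hE hEne
    have e : Points.map h y = Points.map a (Points.schemeHomeo W o') := by
      rw [hy, Points.ofPt_eq_map_ofScheme]
      rfl
    obtain ⟨z, -, hz2⟩ := points_exists_of_isPullback sqU y _ e
    obtain ⟨t, rfl⟩ := ofPt_surjective_of_repWith hcs z
    refine ⟨o', ho', t, ?_⟩
    apply (Points.schemeHomeo W).injective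
    rw [← hz2, Points.map_ofPt, ← hg, Points.ofPt_eq_map_ofScheme]
    exact (Points.map_yon_map_apply g t).symm

end Groth.Agent.Lib.Helper14.AS
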