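import Groth.Agent.Lib.Helper14.AlgSpVC4
import Groth.Agent.Lib.Helper14.AlgSpSect
import Mathlib.AlgebraicGeometry.Morphisms.SchemeTheoreticallyDominant

open CategoryTheory CategoryTheory.Limits AlgebraicGeometry Opposite AlgSp
open CategoryTheory.Functor Groth.Agent.Lib.Helper14.AS

universe u

noncomputable section

namespace Groth.Agent.Lib.Helper14.AS

section Magic

variable {C : Type*} [Category C] [HasPullbacks C]

/-- The magic square for a relative diagonal: `A₁ ×_W A₂` is the pullback of the diagonal of
`g : W ⟶ Y` along `A₁ ×_Y A₂ ⟶ W ×_Y W`. -/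
theorem isPullback_relDiag {W Y E B A1 A2 : C} (g : W ⟶ Y)
    {t1 : A1 ⟶ W} {t2 : A2 ⟶ W} {e1 : E ⟶ A1} {e2 : E ⟶ A2} (sqE : IsPullback e1 e2 t1 t2)
    {b1 : B ⟶ A1} {b2 : B ⟶ A2} (sqB : IsPullback b1 b2 (t1 ≫ g) (t2 ≫ g))
    (c : E ⟶ B) (hc1 : c ≫ b1 = e1) (hc2 : c ≫ b2 = e2) :
    IsPullback (e1 ≫ t1) c (pullback.diagonal g)
      (pullback.lift (b1 ≫ t1) (b2 ≫ t2) (by rw [Category.assoc, Category.assoc, sqB.w])) := by
  refine isPullback_of_exists_unique ?_ ?_ ?_
  · apply pullback.hom_ext
    · rw [Category.assoc, pullback.diagonal_fst, Category.comp_id, Category.assoc,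
        pullback.lift_fst, ← Category.assoc, hc1]
    · rw [Category.assoc, pullback.diagonal_snd, Category.comp_id, Category.assoc,
        pullback.lift_snd, ← Category.assoc, hc2, sqE.w]
  · intro T x y hxy
    have h1 : x = (y ≫ b1) ≫ t1 := by
      have := congrArg (· ≫ pullback.fst g g) hxy
      simpa only [Category.assoc, pullback.diagonal_fst, Category.comp_id, pullback.lift_fst]
        using this
    have h2 : x = (y ≫ b2) ≫ t2 := by
      have := congrArg (· ≫ pullback.snd g g) hxy
      simpa only [Category.assoc, pullback.diagonal_snd, Category.comp_id, pullback.lift_snd]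
        using this
    refine ⟨sqE.lift (y ≫ b1) (y ≫ b2) (by rw [← h1, ← h2]), ?_, ?_⟩
    · rw [← Category.assoc, sqE.lift_fst, ← h1]
    · apply sqB.hom_ext
      · rw [Category.assoc, hc1, sqE.lift_fst]
      · rw [Category.assoc, hc2, sqE.lift_snd]
  · intro T z z' _ h
    apply sqE.hom_ext
    · rw [← hc1, ← Category.assoc, ← Category.assoc, h]
    · rw [← hc2, ← Category.assoc, ← Category.assoc, h]

end Magic

variable {S : Scheme.{u}}

set_option backward.isDefEq.respectTransparency.types false in
/-- For a separated morphism `g : W ⟶ Y`, the fibre product over `W` of two schemes is a closed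
subscheme of their fibre product over `Y`. -/
theorem isClosedImmersion_of_isSeparatedMor {W Y : Sp S} (g : W ⟶ Y) (hsep : IsSeparatedMor g)
    {A1 A2 E B : Over S} {t1 : (yon S).obj A1 ⟶ W} {t2 : (yon S).obj A2 ⟶ W}
    {e1 : E ⟶ A1} {e2 : E ⟶ A2}
    (sqE : IsPullback ((yon S).map e1) ((yon S).map e2) t1 t2)
    {b1 : B ⟶ A1} {b2 : B ⟶ A2}
    (sqB : IsPullback ((yon S).map b1) ((yon S).map b2) (t1 ≫ g) (t2 ≫ g))
    (c : E ⟶ B) (hc1 : c ≫ b1 = e1) (hc2 : c ≫ b2 = e2) : IsClosedImmersion c.left := by
  have h := isPullback_relDiag g sqE sqB ((yon S).map c)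
    (by rw [← Functor.map_comp, hc1]) (by rw [← Functor.map_comp, hc2])
  exact hsep.2 _ _ c h

set_option backward.isDefEq.respectTransparency.types false in
/-- Two morphisms from a scheme to the source of a separated morphism that agree after composing
with it and agree on a scheme-theoretically dominant subscheme are equal. -/
theorem hom_ext_of_isSeparatedMor {W Y : Sp S} (g : W ⟶ Y) (hsep : IsSeparatedMor g)
    {T T₀ : Over S} (i : T₀ ⟶ T) [IsSchemeTheoreticallyDominant i.left]
    (t1 t2 : (yon S).obj T ⟶ W) (h1 : t1 ≫ g = t2 ≫ g)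
    (h2 : (yon S).map i ≫ t1 = (yon S).map i ≫ t2) : t1 = t2 := by
  let z : (yon S).obj T ⟶ pullback g g := pullback.lift t1 t2 h1
  have hD := hsep.rep
  let Eq := hD.pullback z
  let e : Eq ⟶ T := hD.snd z
  have sq : IsPullback (hD.fst z) ((yon S).map e) (pullback.diagonal g) z := hD.isPullback z
  have hce : IsClosedImmersion e.left := hsep.property_snd z
  have hcond : ((yon S).map i ≫ t1) ≫ pullback.diagonal g = (yon S).map i ≫ z := by
    apply pullback.hom_ext
    · rw [Category.assoc, pullback.diagonal_fst, Category.comp_id, Category.assoc,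
        pullback.lift_fst]
    · rw [Category.assoc, pullback.diagonal_snd, Category.comp_id, Category.assoc,
        pullback.lift_snd, h2]
  let l := hD.lift ((yon S).map i ≫ t1) i hcond
  have hl : l ≫ e = i := hD.lift_snd _ _ _
  have hker : e.left.ker = ⊥ := by
    have h3 : e.left.ker ≤ (l.left ≫ e.left).ker := Scheme.Hom.le_ker_comp _ _
    have h4 : l.left ≫ e.left = i.left := congrArg Over.Hom.left hl
    rw [h4, IsSchemeTheoreticallyDominant.ker_eq_bot i.left] at h3
    exact le_bot_iff.1 h3
  have hiso : IsIso e.left := IsClosedImmersion.isIso_iff_ker_eq_bot.2 hker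
  have hisoO : IsIso e := by
    have : IsIso ((Over.forget S).map e) := hiso
    exact isIso_of_reflects_iso e (Over.forget S)
  have hw := sq.w
  have hz1 : z ≫ pullback.fst g g = t1 := pullback.lift_fst _ _ _
  have hz2 : z ≫ pullback.snd g g = t2 := pullback.lift_snd _ _ _
  have e1 : (yon S).map e ≫ t1 = hD.fst z := by
    have := congrArg (· ≫ pullback.fst g g) hw
    simp only [Category.assoc, pullback.diagonal_fst, Category.comp_id, hz1] at this
    exact this.symm
  have e2 : (yon S).map e ≫ t2 = hD.fst z := by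
    have := congrArg (· ≫ pullback.snd g g) hw
    simp only [Category.assoc, pullback.diagonal_snd, Category.comp_id, hz2] at this
    exact this.symm
  have : IsIso ((yon S).map e) := inferInstance
  rw [← cancel_epi ((yon S).map e), e1, e2]

end Groth.Agent.Lib.Helper14.AS
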