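import Groth.Agent.Lib.Helper14.DvrLiftG2
import Groth.Agent.Lib.Helper14.GenChart
import Groth.Agent.Lib.Helper14.SepVal1

/-!
# Points through a morphism of finite type are defined over finitely generated fields (helper14)
-/

open CategoryTheory CategoryTheory.Limits AlgebraicGeometry Opposite AlgSp
open CategoryTheory.Functor Groth.Agent.Lib.Helper14.AS

universe u

noncomputable section

namespace Groth.Agent.Lib.Helper14.AS

variable {S : Scheme.{u}}

theorem isSchemeTheoreticallyDominant_spec_field {κ L : Type u} [Field κ] [Field L] (ι : κ →+* L) :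
    IsSchemeTheoreticallyDominant (Spec.map (CommRingCat.ofHom ι)) := by
  have : IsReduced (Spec (CommRingCat.of κ)) := inferInstance
  have hd : IsDominant (Spec.map (CommRingCat.ofHom ι)) := by
    apply isDominant_of_of_appTop_injective
    have h1 : (Spec.map (CommRingCat.ofHom ι)).appTop =
        (Scheme.ΓSpecIso (CommRingCat.of κ)).hom ≫ CommRingCat.ofHom ι ≫
          (Scheme.ΓSpecIso (CommRingCat.of L)).inv := by
      rw [Scheme.ΓSpecIso_inv_naturality, Iso.hom_inv_id_assoc]
    rw [h1]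
    simp only [CommRingCat.hom_comp, RingHom.coe_comp]
    refine Function.Injective.comp ?_ (ConcreteCategory.bijective_of_isIso _).1
    refine Function.Injective.comp (ConcreteCategory.bijective_of_isIso _).1 ?_
    exact ι.injective
  exact IsSchemeTheoreticallyDominant.of_isDominant _

set_option backward.isDefEq.respectTransparency.types false in
set_option maxHeartbeats 1600000 in
/-- A field-valued point of an affine chart of `X₀` which factors through a morphism
`h₀ : U₀ ⟶ X₀` (with `U₀` locally of finite type over the affine base) is, after an extension,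
induced from a point with values in a finitely generated field which still factors through
`h₀`. -/
theorem through_fg {R B : CommRingCat.{u}} (w : Spec R ⟶ S) (hB : R ⟶ B)
    (hft : hB.hom.FiniteType)
    {X₀ U₀ : Sp S} (hU₀ : IsAlgSpace U₀) (f₀ : X₀ ⟶ (yon S).obj (Over.mk w))
    (hsep : IsSeparatedMor f₀) (h₀ : U₀ ⟶ X₀) (hlft : LocP @LocallyOfFiniteType (h₀ ≫ f₀))
    (a : (yon S).obj (Over.mk (Spec.map hB ≫ w)) ⟶ X₀)
    (hh : a ≫ f₀ = (yon S).map (Over.homMk (Spec.map hB) rfl :
      Over.mk (Spec.map hB ≫ w) ⟶ Over.mk w))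
    (L : Type u) [Field L] (ev : B ⟶ CommRingCat.of L)
    (t : (yon S).obj (Over.mk (Spec.map ev ≫ Spec.map hB ≫ w)) ⟶ U₀)
    (ht : t ≫ h₀ = (yon S).map (Over.homMk (Spec.map ev) rfl :
      Over.mk (Spec.map ev ≫ Spec.map hB ≫ w) ⟶ Over.mk (Spec.map hB ≫ w)) ≫ a) :
    ∃ (κ : Type u) (_ : Field κ) (evκ : B ⟶ CommRingCat.of κ) (L' : Type u) (_ : Field L')
      (ψ : L →+* L') (ι : κ →+* L'),
      ι.comp evκ.hom = ψ.comp ev.hom ∧
      (∃ S₀ : Finset κ, Subfield.closure (Set.range (hB ≫ evκ).hom ∪ (S₀ : Set κ)) = ⊤) ∧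
      ∃ t' : (yon S).obj (Over.mk (Spec.map evκ ≫ Spec.map hB ≫ w)) ⟶ U₀,
        t' ≫ h₀ = (yon S).map (Over.homMk (Spec.map evκ) rfl :
          Over.mk (Spec.map evκ ≫ Spec.map hB ≫ w) ⟶ Over.mk (Spec.map hB ≫ w)) ≫ a := by
  classical
  let W : Over S := Over.mk w
  let U : Over S := Over.mk (Spec.map hB ≫ w)
  let hU : U ⟶ W := Over.homMk (Spec.map hB) rfl
  let strL : Spec (CommRingCat.of L) ⟶ S := Spec.map ev ≫ Spec.map hB ≫ w
  obtain ⟨Wd, hWdaff, c, hce, L', instL', ψ, r, hr⟩ := exists_affine_chart_through hU₀ strL t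
  obtain ⟨gd, hgd⟩ := (yon S).map_surjective (c ≫ h₀ ≫ f₀)
  have hgdlft : LocallyOfFiniteType gd.left := by
    refine hlft c (𝟙 _) gd hce (repWith_id _ W) ?_
    rw [Category.comp_id, hgd]
  let Bd : CommRingCat.{u} := Γ(Wd.left, ⊤)
  let eD : Wd.left ≅ Spec Bd := Wd.left.isoSpec
  let hD : R ⟶ Bd := Spec.preimage (eD.inv ≫ gd.left)
  have hhD : Spec.map hD = eD.inv ≫ gd.left := Spec.map_preimage _
  have hDft : hD.hom.FiniteType := by
    rw [← HasRingHomProperty.Spec_iff (P := @LocallyOfFiniteType), hhD]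
    infer_instance
  let evd : Bd ⟶ CommRingCat.of L' := Spec.preimage (r.left ≫ eD.hom)
  have hevd : Spec.map evd = r.left ≫ eD.hom := Spec.map_preimage _
  -- compatibility over `R`
  let TL' : Over S := Over.mk (Spec.map (CommRingCat.ofHom ψ) ≫ strL)
  let ψm : TL' ⟶ Over.mk strL := Over.homMk (Spec.map (CommRingCat.ofHom ψ)) rfl
  let ξ : Over.mk strL ⟶ U := Over.homMk (Spec.map ev) rfl
  have hr' : (yon S).map r ≫ c = (yon S).map ψm ≫ t := hr
  have ht' : t ≫ h₀ = (yon S).map ξ ≫ a := ht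
  have hcompatO : r ≫ gd = ψm ≫ ξ ≫ hU := by
    apply (yon S).map_injective
    calc (yon S).map (r ≫ gd) = ((yon S).map r ≫ c) ≫ h₀ ≫ f₀ := by
          rw [Functor.map_comp, hgd, Category.assoc]
      _ = (yon S).map ψm ≫ (t ≫ h₀) ≫ f₀ := by rw [hr']; simp only [Category.assoc]
      _ = (yon S).map ψm ≫ (yon S).map ξ ≫ a ≫ f₀ := by rw [ht', Category.assoc]
      _ = (yon S).map (ψm ≫ ξ ≫ hU) := by rw [hh, ← Functor.map_comp, ← Functor.map_comp]
  have hcompat : hD ≫ evd = hB ≫ ev ≫ CommRingCat.ofHom ψ := by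
    apply Spec.map_injective
    rw [Spec.map_comp, Spec.map_comp, Spec.map_comp, hevd, hhD, Category.assoc,
      Iso.hom_inv_id_assoc]
    exact congrArg (fun t => t.left) hcompatO
  -- the subfield
  let κ : Subfield L' := Subfield.closure (Set.range (ψ.comp ev.hom) ∪ Set.range evd.hom)
  let evκ : B ⟶ CommRingCat.of κ := CommRingCat.ofHom
    ((ψ.comp ev.hom).codRestrict κ.toSubring (fun b => Subfield.subset_closure (Or.inl ⟨b, rfl⟩)))
  let evdκ : Bd ⟶ CommRingCat.of κ := CommRingCat.ofHom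
    (evd.hom.codRestrict κ.toSubring (fun b => Subfield.subset_closure (Or.inr ⟨b, rfl⟩)))
  have hκcompat : hD ≫ evdκ = hB ≫ evκ := by
    ext r
    exact congrArg (fun g => g.hom r) hcompat
  refine ⟨κ, inferInstance, evκ, L', instL', ψ, κ.subtype, rfl, ?_, ?_⟩
  · -- finite generation
    obtain ⟨s, hs⟩ := hft
    obtain ⟨sd, hsd⟩ := hDft
    refine ⟨s.image evκ.hom ∪ sd.image evdκ.hom, ?_⟩
    set G := Subfield.closure (Set.range (hB ≫ evκ).hom ∪
      ((s.image evκ.hom ∪ sd.image evdκ.hom : Finset κ) : Set κ)) with hG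
    have hBG : ∀ b : B, evκ.hom b ∈ G := by
      intro b
      let algRB : Algebra R B := hB.hom.toAlgebra
      have hb' : b ∈ Algebra.adjoin R (s : Set B) := by rw [hs]; exact Algebra.mem_top
      induction hb' using Algebra.adjoin_induction with
      | mem g hg =>
        exact Subfield.subset_closure (Or.inr (Finset.mem_coe.mpr
          (Finset.mem_union_left _ (Finset.mem_image_of_mem _ hg))))
      | algebraMap r => exact Subfield.subset_closure (Or.inl ⟨r, rfl⟩)
      | add b₁ b₂ _ _ h₁ h₂ => rw [_root_.map_add]; exact add_mem h₁ h₂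
      | mul b₁ b₂ _ _ h₁ h₂ => rw [_root_.map_mul]; exact mul_mem h₁ h₂
    have hBdG : ∀ b : Bd, evdκ.hom b ∈ G := by
      intro b
      let algRBd : Algebra R Bd := hD.hom.toAlgebra
      have hb' : b ∈ Algebra.adjoin R (sd : Set Bd) := by rw [hsd]; exact Algebra.mem_top
      induction hb' using Algebra.adjoin_induction with
      | mem g hg =>
        exact Subfield.subset_closure (Or.inr (Finset.mem_coe.mpr
          (Finset.mem_union_right _ (Finset.mem_image_of_mem _ hg))))
      | algebraMap r =>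
        have h1 : evdκ.hom (hD.hom r) = (hB ≫ evκ).hom r := congrArg (fun g => g.hom r) hκcompat
        change evdκ.hom (hD.hom r) ∈ G
        rw [h1]
        exact Subfield.subset_closure (Or.inl ⟨r, rfl⟩)
      | add b₁ b₂ _ _ h₁ h₂ => rw [_root_.map_add]; exact add_mem h₁ h₂
      | mul b₁ b₂ _ _ h₁ h₂ => rw [_root_.map_mul]; exact mul_mem h₁ h₂
    rw [eq_top_iff]
    rintro ⟨z, hz⟩ -
    induction hz using Subfield.closure_induction with
    | mem x hx =>
      rcases hx with ⟨b, rfl⟩ | ⟨b, rfl⟩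
      · exact hBG b
      · exact hBdG b
    | one => exact one_mem _
    | add x y hx hy hx' hy' => exact add_mem hx' hy'
    | neg x hx hx' => exact neg_mem hx'
    | inv x hx hx' => exact inv_mem hx'
    | mul x y hx hy hx' hy' => exact mul_mem hx' hy'
  · let Tκ : Over S := Over.mk (Spec.map evκ ≫ Spec.map hB ≫ w)
    have hρw : (Spec.map evdκ ≫ eD.inv) ≫ Wd.hom = Tκ.hom := by
      change (Spec.map evdκ ≫ eD.inv) ≫ Wd.hom = Spec.map evκ ≫ Spec.map hB ≫ w
      have h1 : gd.left ≫ w = Wd.hom := Over.w gd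
      rw [← h1, Category.assoc, ← Category.assoc eD.inv, ← hhD, ← Spec.map_comp_assoc,
        ← Spec.map_comp_assoc, hκcompat]
    let ρ : Tκ ⟶ Wd := Over.homMk (Spec.map evdκ ≫ eD.inv) hρw
    let ξκ : Tκ ⟶ U := Over.homMk (Spec.map evκ) rfl
    refine ⟨(yon S).map ρ ≫ c, ?_⟩
    have hiw : Spec.map (CommRingCat.ofHom κ.subtype) ≫ Tκ.hom = TL'.hom := by
      change Spec.map (CommRingCat.ofHom κ.subtype) ≫ Spec.map evκ ≫ Spec.map hB ≫ w =
        Spec.map (CommRingCat.ofHom ψ) ≫ Spec.map ev ≫ Spec.map hB ≫ w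
      have h1 : evκ ≫ CommRingCat.ofHom κ.subtype = ev ≫ CommRingCat.ofHom ψ := rfl
      rw [← Spec.map_comp_assoc, h1, Spec.map_comp, Category.assoc]
    let i : TL' ⟶ Tκ := Over.homMk (Spec.map (CommRingCat.ofHom κ.subtype)) hiw
    have hidom : IsSchemeTheoreticallyDominant i.left :=
      isSchemeTheoreticallyDominant_spec_field κ.subtype
    have hiρ : i ≫ ρ = r := by
      apply Over.OverMorphism.ext
      change Spec.map (CommRingCat.ofHom κ.subtype) ≫ Spec.map evdκ ≫ eD.inv = r.left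
      rw [← Category.assoc, ← Spec.map_comp]
      have h1 : evdκ ≫ CommRingCat.ofHom κ.subtype = evd := rfl
      rw [h1, hevd, Category.assoc, Iso.hom_inv_id, Category.comp_id]
    have hiξ : i ≫ ξκ = ψm ≫ ξ := by
      apply Over.OverMorphism.ext
      change Spec.map (CommRingCat.ofHom κ.subtype) ≫ Spec.map evκ =
        Spec.map (CommRingCat.ofHom ψ) ≫ Spec.map ev
      rw [← Spec.map_comp, ← Spec.map_comp]
      rfl
    change ((yon S).map ρ ≫ c) ≫ h₀ = (yon S).map ξκ ≫ a
    refine hom_ext_of_isSeparatedMor f₀ hsep i _ _ ?_ ?_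
    · -- agree in `W`
      rw [Category.assoc, Category.assoc, ← hgd, Category.assoc, hh, ← Functor.map_comp,
        ← Functor.map_comp]
      congr 1
      apply Over.OverMorphism.ext
      change (Spec.map evdκ ≫ eD.inv) ≫ gd.left = Spec.map evκ ≫ Spec.map hB
      rw [Category.assoc, ← hhD, ← Spec.map_comp, ← Spec.map_comp, hκcompat]
    · rw [← Category.assoc, ← Category.assoc, ← Functor.map_comp, hiρ, hr', Category.assoc, ht',
        ← Category.assoc, ← Functor.map_comp, ← Category.assoc, ← Functor.map_comp, hiξ]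

end Groth.Agent.Lib.Helper14.AS
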