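import Groth.Agent.Lib.Helper14.DvrLiftG3
import Groth.Agent.Lib.Helper14.DvrLift3

/-!
# Lifts for discrete valuation rings through a morphism give lifts for all valuation rings
through that morphism (helper14)
-/

open CategoryTheory CategoryTheory.Limits AlgebraicGeometry Opposite AlgSp
open CategoryTheory.Functor Groth.Agent.Lib.Helper14.AS

universe u

noncomputable section

namespace Groth.Agent.Lib.Helper14.AS

variable {S : Scheme.{u}}

/-- Lifts of squares with discrete valuation rings whose top arrow factors through a given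
morphism are inherited by base changes. -/
theorem dvr_hasLift_through_of_isPullback {X Y Z X' U U' : Sp S} {f : X ⟶ Y} {g : Z ⟶ Y}
    {fst : X' ⟶ X} {f' : X' ⟶ Z} (sqX : IsPullback fst f' f g) {h : U ⟶ X} {h' : U' ⟶ X'}
    {pU : U' ⟶ U} (hcomm : h' ≫ fst = pU ≫ h)
    (hdvr : ∀ sq : ValSq f, IsDiscreteValuationRing sq.A →
      (∃ t : (yon S).obj sq.ptK ⟶ U, t ≫ h = sq.top) → sq.HasLift)
    (sq' : ValSq f') (hA : IsDiscreteValuationRing sq'.A)
    (ht' : ∃ t : (yon S).obj sq'.ptK ⟶ U', t ≫ h' = sq'.top) : sq'.HasLift := by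
  obtain ⟨t', ht'⟩ := ht'
  have hthrough : ∃ t : (yon S).obj (ValSq.ofIsPullback sqX sq').ptK ⟶ U,
      t ≫ h = (ValSq.ofIsPullback sqX sq').top := by
    refine ⟨t' ≫ pU, ?_⟩
    change (t' ≫ pU) ≫ h = sq'.top ≫ fst
    rw [Category.assoc, ← hcomm, ← Category.assoc, ht']
  obtain ⟨l, hl1, hl2⟩ := hdvr (ValSq.ofIsPullback sqX sq') hA hthrough
  let l' : (yon S).obj sq'.ptA ⟶ X := l
  have hl1' : (yon S).map sq'.j ≫ l' = sq'.top ≫ fst := hl1
  have hl2' : l' ≫ f = sq'.bot ≫ g := hl2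
  refine ⟨sqX.lift l' sq'.bot hl2', ?_, sqX.lift_snd _ _ _⟩
  apply sqX.hom_ext
  · rw [Category.assoc, sqX.lift_fst, hl1']
  · rw [Category.assoc, sqX.lift_snd, sq'.comm]

open Groth.Agent.Lib.Helper21 in
set_option backward.isDefEq.respectTransparency.types false in
set_option maxHeartbeats 1600000 in
/-- A separated morphism of finite type `f` from an algebraic space to a locally Noetherian scheme
and a morphism `h : U ⟶ X` locally of finite type: if the valuative squares of `f` with discrete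
valuation rings whose top arrow factors through `h` have lifts, then every valuative square whose
top arrow factors through `h` has a lift after an extension. -/
theorem hasLiftExt_through_of_dvr_lift {V : Over S} [IsLocallyNoetherian V.left] {X U : Sp S}
    (hX : IsAlgSpace X) (hU : IsAlgSpace U) (f : X ⟶ (yon S).obj V) (hsep : IsSeparatedMor f)
    (hqc : IsQuasiCompactMor f) (hlft : LocP @LocallyOfFiniteType f)
    (h : U ⟶ X) (hhlft : LocP @LocallyOfFiniteType h)
    (hdvr : ∀ sq : ValSq f, IsDiscreteValuationRing sq.A →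
      (∃ t : (yon S).obj sq.ptK ⟶ U, t ≫ h = sq.top) → sq.HasLift)
    (sq : ValSq f) (ht : ∃ t : (yon S).obj sq.ptK ⟶ U, t ≫ h = sq.top) : sq.HasLiftExt := by
  classical
  obtain ⟨t, ht⟩ := ht
  obtain ⟨β, hβ⟩ := (yon S).map_surjective sq.bot
  -- an affine open of `V` through the closed point
  obtain ⟨W₀, hW₀, hsW₀⟩ : ∃ W₀ : V.left.Opens, IsAffineOpen W₀ ∧
      β.left (IsLocalRing.closedPoint sq.A) ∈ W₀ := by
    obtain ⟨W, h1, h2, -⟩ := TopologicalSpace.Opens.isBasis_iff_nbhd.mp V.left.isBasis_affineOpens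
      (show β.left (IsLocalRing.closedPoint sq.A) ∈ (⊤ : V.left.Opens) from trivial)
    exact ⟨W, h1, h2⟩
  obtain ⟨φ, hφ⟩ := DVRExt.exists_factor_fromSpec (R := CommRingCat.of sq.A) β.left hW₀ hsW₀
  let R : CommRingCat.{u} := Γ(V.left, W₀)
  have hRN : IsNoetherianRing R := IsLocallyNoetherian.component_noetherian ⟨W₀, hW₀⟩
  let w : Spec R ⟶ S := hW₀.fromSpec ≫ V.hom
  let W : Over S := Over.mk w
  let ι₀ : W ⟶ V := Over.homMk hW₀.fromSpec rfl
  have hι₀open : IsOpenImmersion ι₀.left := inferInstanceAs (IsOpenImmersion hW₀.fromSpec)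
  have hβ₀w : Spec.map φ ≫ W.hom = sq.ptA.hom := by
    change Spec.map φ ≫ hW₀.fromSpec ≫ V.hom = sq.str
    rw [← Category.assoc, hφ]
    exact Over.w β
  let β₀ : sq.ptA ⟶ W := Over.homMk (Spec.map φ) hβ₀w
  have hβ₀ι : β₀ ≫ ι₀ = β := by
    apply Over.OverMorphism.ext
    exact hφ
  -- the base change to `W`
  let X₀ := pullback f ((yon S).map ι₀)
  let pX : X₀ ⟶ X := pullback.fst f ((yon S).map ι₀)
  let f₀ : X₀ ⟶ (yon S).obj W := pullback.snd f ((yon S).map ι₀)
  have sqX : IsPullback pX f₀ f ((yon S).map ι₀) := IsPullback.of_hasPullback _ _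
  have hX₀ : IsAlgSpace X₀ :=
    isAlgSpace_of_isPullback (repDiag_of_isAlgSpace (IsAlgSpace.yon_obj V)) hX
      (IsAlgSpace.yon_obj W) sqX
  have hsep₀ : IsSeparatedMor f₀ :=
    MorphismProperty.of_isPullback (P := (RepWith (S := S) @IsClosedImmersion).diagonal) sqX hsep
  have hlft₀ : LocP @LocallyOfFiniteType f₀ :=
    locP_baseChange etLocal_lft hX (IsAlgSpace.yon_obj V) (IsAlgSpace.yon_obj W) f _ _ _ sqX hlft
  -- the base change of `h`
  let U₀ := pullback h pX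
  let pU : U₀ ⟶ U := pullback.fst h pX
  let h₀ : U₀ ⟶ X₀ := pullback.snd h pX
  have sqU : IsPullback pU h₀ h pX := IsPullback.of_hasPullback _ _
  have hU₀ : IsAlgSpace U₀ :=
    isAlgSpace_of_isPullback (repDiag_of_isAlgSpace hX) hU hX₀ sqU
  have hhlft₀ : LocP @LocallyOfFiniteType h₀ :=
    locP_baseChange etLocal_lft hU hX hX₀ h _ _ _ sqU hhlft
  have hcomplft : LocP @LocallyOfFiniteType (h₀ ≫ f₀) :=
    locP_comp etLocal_lft hU₀ hX₀ (IsAlgSpace.yon_obj W) h₀ f₀ hhlft₀ hlft₀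
  let G : ∀ ⦃T : Over S⦄, ((yon S).obj T ⟶ X₀) → Prop :=
    fun ⦃T⦄ p => ∃ t : (yon S).obj T ⟶ U₀, t ≫ h₀ = p
  have hG : ∀ ⦃T T' : Over S⦄ (r : T' ⟶ T) (p : (yon S).obj T ⟶ X₀), G p →
      G ((yon S).map r ≫ p) := by
    rintro T T' r p ⟨t, rfl⟩
    exact ⟨(yon S).map r ≫ t, Category.assoc _ _ _⟩
  have hdvr₀ : ∀ sq' : ValSq f₀, IsDiscreteValuationRing sq'.A → G sq'.top → sq'.HasLift :=
    fun sq' h' hG' => dvr_hasLift_through_of_isPullback sqX sqU.w.symm hdvr sq' h' hG'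
  have hWc : CompactSpace ↥W.left := inferInstanceAs (CompactSpace ↥(Spec R))
  have hX₀qc : IsQuasiCompactSp X₀ :=
    hqc (IsAlgSpace.yon_obj W) ((isQuasiCompactSp_yon_iff W).2 hWc) _ _ _ sqX
  obtain ⟨U', a', hU'aff, hae', has'⟩ := isQuasiCompactSp_iff_exists_affine_chart.1 hX₀qc
  obtain ⟨h', hh'⟩ := (yon S).map_surjective (a' ≫ f₀)
  -- `h'` is locally of finite type
  have hpXet : RepWith @Etale pX := by
    have h1 : RepWith @Etale ((yon S).map ι₀) := (repWith_yon_map_iff _ _).2 inferInstance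
    exact repWith_of_isPullback _ sqX.flip h1
  have hh'lft : LocallyOfFiniteType h'.left := by
    have h1 : LocallyOfFiniteType (h' ≫ ι₀).left := by
      refine hlft (a' ≫ pX) (𝟙 _) (h' ≫ ι₀) (repWith_comp _ hae' hpXet) (repWith_id _ V) ?_
      rw [Category.assoc, sqX.w, ← Category.assoc, ← hh', ← Functor.map_comp, Category.comp_id]
    have h2 : LocallyOfFiniteType (h'.left ≫ ι₀.left) := h1
    exact locallyOfFiniteType_of_comp h'.left ι₀.left
  -- the chart as a spectrum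
  let B : CommRingCat.{u} := Γ(U'.left, ⊤)
  let eU : U'.left ≅ Spec B := U'.left.isoSpec
  let hB : R ⟶ B := Spec.preimage (eU.inv ≫ h'.left)
  have hhB : Spec.map hB = eU.inv ≫ h'.left := Spec.map_preimage _
  let Uc : Over S := Over.mk (Spec.map hB ≫ w)
  have hUw : eU.inv ≫ U'.hom = Uc.hom := by
    change eU.inv ≫ U'.hom = Spec.map hB ≫ w
    rw [hhB, Category.assoc]
    congr 1
    exact (Over.w h').symm
  let iU : Uc ≅ U' := Over.isoMk eU.symm hUw
  let a : (yon S).obj Uc ⟶ X₀ := (yon S).map iU.hom ≫ a'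
  have hiUet : RepWith @Etale ((yon S).map iU.hom) :=
    (repWith_yon_map_iff _ _).2 (inferInstanceAs (Etale eU.inv))
  have hiUsurj : RepWith @Surjective ((yon S).map iU.hom) :=
    (repWith_yon_map_iff _ _).2 (inferInstanceAs (Surjective eU.inv))
  have hae : RepWith @Etale a := repWith_comp _ hiUet hae'
  have has : RepWith @Surjective a := repWith_comp _ hiUsurj has'
  have hh : a ≫ f₀ = (yon S).map (Over.homMk (Spec.map hB) rfl : Uc ⟶ W) := by
    rw [Category.assoc, ← hh', ← Functor.map_comp]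
    congr 1
    apply Over.OverMorphism.ext
    exact hhB.symm
  have hft : hB.hom.FiniteType := by
    rw [← HasRingHomProperty.Spec_iff (P := @LocallyOfFiniteType), hhB]
    infer_instance
  have hGfg : ∀ (L : Type u) [Field L] (ev : B ⟶ CommRingCat.of L),
      G ((yon S).map (Over.homMk (Spec.map ev) rfl :
        Over.mk (Spec.map ev ≫ Spec.map hB ≫ w) ⟶ Over.mk (Spec.map hB ≫ w)) ≫ a) →
      ∃ (κ : Type u) (_ : Field κ) (evκ : B ⟶ CommRingCat.of κ) (L' : Type u) (_ : Field L')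
        (ψ : L →+* L') (ι : κ →+* L'),
        ι.comp evκ.hom = ψ.comp ev.hom ∧
        (∃ S₀ : Finset κ, Subfield.closure (Set.range (hB ≫ evκ).hom ∪ (S₀ : Set κ)) = ⊤) ∧
        G ((yon S).map (Over.homMk (Spec.map evκ) rfl :
          Over.mk (Spec.map evκ ≫ Spec.map hB ≫ w) ⟶ Over.mk (Spec.map hB ≫ w)) ≫ a) := by
    rintro L _ ev ⟨t, ht⟩
    exact through_fg w hB hft hU₀ f₀ hsep₀ h₀ hcomplft a hh L ev t ht
  -- the square over `W`
  have htop₀c : sq.top ≫ f = (yon S).map (sq.j ≫ β₀) ≫ (yon S).map ι₀ := by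
    rw [← Functor.map_comp, Category.assoc, hβ₀ι, Functor.map_comp, hβ, sq.comm]
  let top₀ : (yon S).obj sq.ptK ⟶ X₀ := sqX.lift sq.top ((yon S).map (sq.j ≫ β₀)) htop₀c
  have htop₀1 : top₀ ≫ pX = sq.top := sqX.lift_fst _ _ _
  have htop₀2 : top₀ ≫ f₀ = (yon S).map (sq.j ≫ β₀) := sqX.lift_snd _ _ _
  let sq₀ : ValSq f₀ :=
    { A := sq.A, K := sq.K, str := sq.str, top := top₀, bot := (yon S).map β₀,
      comm := by rw [htop₀2, Functor.map_comp] }
  have hG₀ : G sq₀.top := by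
    refine ⟨sqU.lift t top₀ (by rw [ht, htop₀1]), ?_⟩
    exact sqU.lift_snd _ _ _
  obtain ⟨e₀, l₀, hl₀1, hl₀2⟩ :=
    hasLiftExt_affine_base_of w hB hX₀ f₀ hsep₀ a hae has hh G hG hGfg hdvr₀ sq₀ hG₀
  let e : sq.DomExt :=
    { A' := e₀.A', K' := e₀.K', φ := e₀.φ, ψ := e₀.ψ, comm := e₀.comm,
      isLocalHom := e₀.isLocalHom }
  let l₀' : (yon S).obj e.ptA' ⟶ X₀ := l₀
  refine ⟨e, l₀' ≫ pX, ?_, ?_⟩
  · have h1 : (yon S).map (Over.homMk (Spec.map (CommRingCat.ofHom (algebraMap e.A' e.K'))) rfl :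
        e.ptK' ⟶ e.ptA') ≫ l₀' = (yon S).map (Over.homMk (Spec.map (CommRingCat.ofHom e.ψ)) (by
          change Spec.map _ ≫ Spec.map _ ≫ _ = Spec.map _ ≫ Spec.map _ ≫ _
          rw [← Spec.map_comp_assoc, ← Spec.map_comp_assoc, ← CommRingCat.ofHom_comp,
            ← CommRingCat.ofHom_comp, e.comm]) : e.ptK' ⟶ sq.ptK) ≫ top₀ := hl₀1
    rw [← Category.assoc, h1, Category.assoc, htop₀1]
  · have h2 : l₀' ≫ f₀ = (yon S).map (Over.homMk (Spec.map (CommRingCat.ofHom e.φ)) rfl :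
        e.ptA' ⟶ sq.ptA) ≫ (yon S).map β₀ := hl₀2
    rw [Category.assoc, sqX.w, ← Category.assoc, h2, Category.assoc, ← Functor.map_comp, hβ₀ι, hβ]

end Groth.Agent.Lib.Helper14.AS
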