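import Groth.Agent.Lib.Helper14.GenVal
import Groth.Agent.Lib.Helper21.Comp1
import Groth.Agent.Lib.Helper21.VE1

/-!
# The refined valuative criterion: lifts through a dense morphism (helper14)
-/

open CategoryTheory CategoryTheory.Limits AlgebraicGeometry Opposite AlgSp
open CategoryTheory.Functor Groth.Agent.Lib.Helper14.AS

universe u

noncomputable section

namespace Groth.Agent.Lib.Helper14.AS

variable {S : Scheme.{u}}

open Groth.Agent.Lib.Helper21 in
set_option backward.isDefEq.respectTransparency.types false in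
set_option maxHeartbeats 3200000 in
/-- **Refined valuative criterion.**  `f : X ⟶ h_V` with `V` a scheme and `h : U ⟶ X`
quasi-compact with dense image: if every valuative square of `f` whose top arrow factors through
`h` has exactly one lift, then every valuative square of `f` has a lift after an extension. -/
theorem hasLiftExt_of_through_dense {V : Over S} {X U : Sp S} (hX : IsAlgSpace X)
    (hU : IsAlgSpace U) (f : X ⟶ (yon S).obj V) (h : U ⟶ X) (hqc : IsQuasiCompactMor h)
    (hd : DenseRange (Points.map h))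
    (hlift : ∀ sq : ValSq f, (∃ t : (yon S).obj sq.ptK ⟶ U, t ≫ h = sq.top) → sq.HasLift)
    (huniq : ∀ sq : ValSq f, (∃ t : (yon S).obj sq.ptK ⟶ U, t ≫ h = sq.top) → sq.HasUniq)
    (sq : ValSq f) : sq.HasLiftExt := by
  classical
  obtain ⟨Ω₀, instΩ₀, B₀, strB, mB, tU, Ω, instΩ, iK, iB, hw, htU, hcl⟩ :=
    exists_valuationSubring_through_dense hX hU h hqc hd sq.ptK.hom sq.top
  obtain ⟨β, hβ⟩ := (yon S).map_surjective sq.bot
  obtain ⟨βB, hβB⟩ := (yon S).map_surjective (mB ≫ f)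
  let ptΩK : Over S := Over.mk (Spec.map (CommRingCat.ofHom iK) ≫ sq.ptK.hom)
  let kK : ptΩK ⟶ sq.ptK := Over.homMk (Spec.map (CommRingCat.ofHom iK)) rfl
  let cl : ptΩK ⟶ Over.mk strB := Over.homMk (Spec.map (CommRingCat.ofHom iB) ≫
    Spec.map (CommRingCat.ofHom (IsLocalRing.residue B₀))) hw
  have hcl' : (yon S).map kK ≫ sq.top = (yon S).map cl ≫ mB := hcl
  -- the two points agree in `V`
  have hE1 : kK ≫ sq.j ≫ β = cl ≫ βB := by
    apply (yon S).map_injective
    rw [Functor.map_comp, Functor.map_comp, hβ, ← sq.comm, ← Category.assoc, hcl', Category.assoc,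
      ← hβB, ← Functor.map_comp]
  have hE1' : Spec.map (CommRingCat.ofHom iK) ≫
      Spec.map (CommRingCat.ofHom (algebraMap sq.A sq.K)) ≫ β.left =
      (Spec.map (CommRingCat.ofHom iB) ≫
        Spec.map (CommRingCat.ofHom (IsLocalRing.residue B₀))) ≫ βB.left :=
    congrArg (fun t => t.left) hE1
  -- an affine open of `V`
  obtain ⟨V₀, hV₀, hsV₀⟩ : ∃ V₀ : V.left.Opens, IsAffineOpen V₀ ∧
      β.left (IsLocalRing.closedPoint sq.A) ∈ V₀ := by
    obtain ⟨W, h1, h2, -⟩ := TopologicalSpace.Opens.isBasis_iff_nbhd.mp V.left.isBasis_affineOpens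
      (show β.left (IsLocalRing.closedPoint sq.A) ∈ (⊤ : V.left.Opens) from trivial)
    exact ⟨W, h1, h2⟩
  obtain ⟨φA, hφA⟩ := DVRExt.exists_factor_fromSpec (R := CommRingCat.of sq.A) β.left hV₀ hsV₀
  -- the closed point of `Spec B₀` also lands in `V₀`
  have hsB : βB.left (IsLocalRing.closedPoint B₀) ∈ V₀ := by
    let ptΩ : ↥(Spec (CommRingCat.of Ω)) := IsLocalRing.closedPoint Ω
    have h1 : (Spec.map (CommRingCat.ofHom iB) ≫
        Spec.map (CommRingCat.ofHom (IsLocalRing.residue B₀))) ptΩ =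
        (IsLocalRing.closedPoint B₀ : ↥(Spec (CommRingCat.of B₀))) := by
      apply PrimeSpectrum.ext
      change Ideal.comap (IsLocalRing.residue B₀) (Ideal.comap iB (IsLocalRing.maximalIdeal Ω)) =
        IsLocalRing.maximalIdeal B₀
      rw [IsLocalRing.maximalIdeal_eq_bot, ← RingHom.ker_eq_comap_bot,
        (RingHom.injective_iff_ker_eq_bot iB).1 iB.injective, ← RingHom.ker_eq_comap_bot,
        IsLocalRing.ker_residue]
    have h2 : βB.left (IsLocalRing.closedPoint B₀) =
        ((Spec.map (CommRingCat.ofHom iB) ≫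
          Spec.map (CommRingCat.ofHom (IsLocalRing.residue B₀))) ≫ βB.left) ptΩ := by
      rw [Scheme.Hom.comp_apply, h1]
    rw [h2, ← hE1', ← hφA, ← Category.assoc, ← Category.assoc]
    rw [← Spec.map_comp, ← Spec.map_comp]
    exact DVRExt.mem_of_specMap_fromSpec hV₀ _ _
  obtain ⟨φB, hφB⟩ := DVRExt.exists_factor_fromSpec (R := CommRingCat.of B₀) βB.left hV₀ hsB
  -- the ring identity in `Ω`
  have hE2 : φA ≫ CommRingCat.ofHom (algebraMap sq.A sq.K) ≫ CommRingCat.ofHom iK =
      φB ≫ CommRingCat.ofHom (IsLocalRing.residue B₀) ≫ CommRingCat.ofHom iB := by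
    apply DVRExt.specMap_fromSpec_cancel hV₀
    rw [Spec.map_comp, Spec.map_comp, Spec.map_comp, Spec.map_comp, Category.assoc, Category.assoc,
      Category.assoc, Category.assoc, hφA, hφB, hE1', Category.assoc]
  have hE2' : ∀ r : Γ(V.left, V₀), iK (algebraMap sq.A sq.K (φA.hom r)) =
      iB (IsLocalRing.residue B₀ (φB.hom r)) := fun r => congrArg (fun g => g.hom r) hE2
  -- the valuation rings
  let fΩ : sq.A →+* Ω := iK.comp (algebraMap sq.A sq.K)
  obtain ⟨AΩ, hAΩ, hlocΩ⟩ := IsLocalRing.exists_factor_valuationRing fΩ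
  let φΩ : sq.A →+* AΩ := fΩ.codRestrict AΩ.toSubring hAΩ
  let A'' : ValuationSubring (IsLocalRing.ResidueField B₀) := AΩ.comap iB
  let C : ValuationSubring Ω₀ := Comp.composite B₀ A''
  have hCmem : ∀ r : Γ(V.left, V₀), ((φB.hom r : B₀) : Ω₀) ∈ C := by
    intro r
    rw [Comp.mem_composite_iff]
    refine ⟨(φB.hom r).2, ?_⟩
    change iB (IsLocalRing.residue B₀ (φB.hom r)) ∈ AΩ
    rw [← hE2' r]
    exact hAΩ _
  let φC : Γ(V.left, V₀) ⟶ CommRingCat.of C :=
    CommRingCat.ofHom ((B₀.subtype.comp φB.hom).codRestrict C.toSubring hCmem)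
  let toFst : CommRingCat.of C ⟶ CommRingCat.of B₀ := CommRingCat.ofHom (Comp.toFst B₀ A'')
  let toSnd : CommRingCat.of C ⟶ CommRingCat.of A'' := CommRingCat.ofHom (Comp.toSnd B₀ A'')
  have hφCfst : φC ≫ toFst = φB := by
    ext r
    rfl
  let incl : A'' →+* AΩ := (iB.comp A''.subtype).codRestrict AΩ.toSubring (fun z => z.2)
  have hE3 : φC ≫ toSnd ≫ CommRingCat.ofHom incl = φA ≫ CommRingCat.ofHom φΩ := by
    ext r
    exact (hE2' r).symm
  -- structure morphisms
  let strC : Spec (CommRingCat.of C) ⟶ S := (Spec.map φC ≫ hV₀.fromSpec) ≫ V.hom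
  let βC : Over.mk strC ⟶ V := Over.homMk (Spec.map φC ≫ hV₀.fromSpec) rfl
  have hstrB : (Spec.map φB ≫ hV₀.fromSpec) ≫ V.hom = strB := by
    rw [hφB]
    exact Over.w βB
  have hstrA : (Spec.map φA ≫ hV₀.fromSpec) ≫ V.hom = sq.str := by
    rw [hφA]
    exact Over.w β
  have hιBw : Spec.map toFst ≫ strC = strB := by
    change Spec.map toFst ≫ (Spec.map φC ≫ hV₀.fromSpec) ≫ V.hom = strB
    rw [← hstrB, ← hφCfst, Spec.map_comp, Category.assoc, Category.assoc, Category.assoc]
  let ιB : Over.mk strB ⟶ Over.mk strC := Over.homMk (Spec.map toFst) hιBw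
  have hιBβ : ιB ≫ βC = βB := by
    apply Over.OverMorphism.ext
    change Spec.map toFst ≫ Spec.map φC ≫ hV₀.fromSpec = βB.left
    rw [← hφB, ← hφCfst, Spec.map_comp, Category.assoc]
  -- the square for the composite `C`
  let ptΩ₀ : Over S := Over.mk (Spec.map (CommRingCat.ofHom (algebraMap B₀ Ω₀)) ≫ strB)
  let genB : ptΩ₀ ⟶ Over.mk strB :=
    Over.homMk (Spec.map (CommRingCat.ofHom (algebraMap B₀ Ω₀))) rfl
  let ptΩC : Over S := Over.mk (Spec.map (CommRingCat.ofHom (algebraMap C Ω₀)) ≫ strC)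
  let jC : ptΩC ⟶ Over.mk strC := Over.homMk (Spec.map (CommRingCat.ofHom (algebraMap C Ω₀))) rfl
  have hgenC : Spec.map (CommRingCat.ofHom (algebraMap C Ω₀)) =
      Spec.map (CommRingCat.ofHom (algebraMap B₀ Ω₀)) ≫ Spec.map toFst := by
    rw [← Spec.map_comp]
    rfl
  have hεw : ptΩC.hom = ptΩ₀.hom := by
    change Spec.map (CommRingCat.ofHom (algebraMap C Ω₀)) ≫ strC =
      Spec.map (CommRingCat.ofHom (algebraMap B₀ Ω₀)) ≫ strB
    rw [hgenC, Category.assoc, hιBw]
  let ε : ptΩC ⟶ ptΩ₀ := Over.homMk (𝟙 _) (by rw [Category.id_comp]; exact hεw.symm)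
  let ε' : ptΩ₀ ⟶ ptΩC := Over.homMk (𝟙 _) (by rw [Category.id_comp]; exact hεw)
  have hε'ε : ε' ≫ ε = 𝟙 _ := by
    apply Over.OverMorphism.ext
    exact Category.id_comp _
  have hgenι : genB ≫ ιB = ε' ≫ jC := by
    apply Over.OverMorphism.ext
    change Spec.map (CommRingCat.ofHom (algebraMap B₀ Ω₀)) ≫ Spec.map toFst =
      𝟙 _ ≫ Spec.map (CommRingCat.ofHom (algebraMap C Ω₀))
    rw [Category.id_comp, hgenC]
  have hmBf : mB ≫ f = (yon S).map βB := hβB.symm
  let sqC : ValSq f :=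
    { A := C, K := Ω₀, str := strC, top := (yon S).map ε ≫ tU ≫ h, bot := (yon S).map βC,
      comm := by
        change ((yon S).map ε ≫ tU ≫ h) ≫ f = (yon S).map jC ≫ (yon S).map βC
        have h1 : ε ≫ genB ≫ βB = jC ≫ βC := by
          rw [← hιBβ, ← Category.assoc genB, hgenι, Category.assoc, ← Category.assoc ε,
            show ε ≫ ε' = 𝟙 _ from by
              apply Over.OverMorphism.ext
              exact Category.id_comp _, Category.id_comp]
        have htU' : tU ≫ h = (yon S).map genB ≫ mB := htU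
        have e1 : ((yon S).map ε ≫ tU ≫ h) ≫ f = (yon S).map ε ≫ (tU ≫ h) ≫ f := by
          simp only [Category.assoc]
        rw [e1, htU', Category.assoc, hmBf, ← Functor.map_comp, ← Functor.map_comp, h1,
          Functor.map_comp] }
  obtain ⟨lC, hlC1, hlC2⟩ := hlift sqC ⟨(yon S).map ε ≫ tU, by rw [Category.assoc]⟩
  have hlC1' : (yon S).map jC ≫ lC = (yon S).map ε ≫ tU ≫ h := hlC1
  have hlC2' : lC ≫ f = (yon S).map βC := hlC2
  -- uniqueness on `Spec B₀`
  let sqB : ValSq f :=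
    { A := B₀, K := Ω₀, str := strB, top := tU ≫ h, bot := (yon S).map βB,
      comm := by
        have htU' : tU ≫ h = (yon S).map genB ≫ mB := htU
        rw [htU', Category.assoc, hmBf, ← Functor.map_comp] }
  have heq : mB = (yon S).map ιB ≫ lC := by
    refine huniq sqB ⟨tU, rfl⟩ mB ((yon S).map ιB ≫ lC) ?_ hmBf ?_ ?_
    · exact htU.symm
    · change (yon S).map genB ≫ (yon S).map ιB ≫ lC = tU ≫ h
      rw [← Category.assoc, ← Functor.map_comp, hgenι, Functor.map_comp, Category.assoc, hlC1',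
        ← Category.assoc, ← Functor.map_comp, hε'ε, CategoryTheory.Functor.map_id, Category.id_comp]
    · change ((yon S).map ιB ≫ lC) ≫ f = (yon S).map βB
      rw [Category.assoc, hlC2', ← Functor.map_comp, hιBβ]
  -- the lift
  let e : sq.DomExt :=
    { A' := AΩ, K' := Ω, φ := φΩ, ψ := iK, comm := rfl, isLocalHom := hlocΩ }
  let ptA'' : Over S := Over.mk (Spec.map toSnd ≫ strC)
  let ιA : ptA'' ⟶ Over.mk strC := Over.homMk (Spec.map toSnd) rfl
  have hκAw : Spec.map (CommRingCat.ofHom incl) ≫ ptA''.hom = e.ptA'.hom := by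
    change Spec.map (CommRingCat.ofHom incl) ≫ Spec.map toSnd ≫
      (Spec.map φC ≫ hV₀.fromSpec) ≫ V.hom = Spec.map (CommRingCat.ofHom φΩ) ≫ sq.str
    rw [← hstrA]
    have h1 : Spec.map (CommRingCat.ofHom incl) ≫ Spec.map toSnd ≫ Spec.map φC =
        Spec.map (CommRingCat.ofHom φΩ) ≫ Spec.map φA := by
      rw [← Spec.map_comp, ← Spec.map_comp, ← Spec.map_comp, Category.assoc, hE3]
    calc Spec.map (CommRingCat.ofHom incl) ≫ Spec.map toSnd ≫
          (Spec.map φC ≫ hV₀.fromSpec) ≫ V.hom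
        = (Spec.map (CommRingCat.ofHom incl) ≫ Spec.map toSnd ≫ Spec.map φC) ≫
          hV₀.fromSpec ≫ V.hom := by simp only [Category.assoc]
      _ = _ := by rw [h1]; simp only [Category.assoc]
  let κA : e.ptA' ⟶ ptA'' := Over.homMk (Spec.map (CommRingCat.ofHom incl)) hκAw
  have hκβ : κA ≫ ιA ≫ βC = (Over.homMk (Spec.map (CommRingCat.ofHom e.φ)) rfl :
      e.ptA' ⟶ sq.ptA) ≫ β := by
    apply Over.OverMorphism.ext
    change Spec.map (CommRingCat.ofHom incl) ≫ Spec.map toSnd ≫ Spec.map φC ≫ hV₀.fromSpec =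
      Spec.map (CommRingCat.ofHom φΩ) ≫ β.left
    rw [← hφA]
    have h1 : Spec.map (CommRingCat.ofHom incl) ≫ Spec.map toSnd ≫ Spec.map φC =
        Spec.map (CommRingCat.ofHom φΩ) ≫ Spec.map φA := by
      rw [← Spec.map_comp, ← Spec.map_comp, ← Spec.map_comp, Category.assoc, hE3]
    calc Spec.map (CommRingCat.ofHom incl) ≫ Spec.map toSnd ≫ Spec.map φC ≫ hV₀.fromSpec
        = (Spec.map (CommRingCat.ofHom incl) ≫ Spec.map toSnd ≫ Spec.map φC) ≫
          hV₀.fromSpec := by simp only [Category.assoc]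
      _ = _ := by rw [h1, Category.assoc]
  let km' : e.ptK' ⟶ e.ptA' :=
    Over.homMk (Spec.map (CommRingCat.ofHom (algebraMap e.A' e.K'))) rfl
  let ψm : e.ptK' ⟶ sq.ptK := Over.homMk (Spec.map (CommRingCat.ofHom e.ψ)) (by
    change Spec.map _ ≫ Spec.map _ ≫ _ = Spec.map _ ≫ Spec.map _ ≫ _
    rw [← Spec.map_comp_assoc, ← Spec.map_comp_assoc, ← CommRingCat.ofHom_comp,
      ← CommRingCat.ofHom_comp, e.comm])
  let εK : e.ptK' ⟶ ptΩK := Over.homMk (𝟙 _) (by
    rw [Category.id_comp]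
    exact Over.w ψm)
  have hεK : εK ≫ kK = ψm := by
    apply Over.OverMorphism.ext
    exact Category.id_comp _
  have hkey : km' ≫ κA ≫ ιA = εK ≫ cl ≫ ιB := by
    apply Over.OverMorphism.ext
    change Spec.map (CommRingCat.ofHom (algebraMap AΩ Ω)) ≫
        Spec.map (CommRingCat.ofHom incl) ≫ Spec.map toSnd =
      𝟙 _ ≫ (Spec.map (CommRingCat.ofHom iB) ≫
        Spec.map (CommRingCat.ofHom (IsLocalRing.residue B₀))) ≫ Spec.map toFst
    rw [Category.id_comp, ← Spec.map_comp, ← Spec.map_comp, ← Spec.map_comp, ← Spec.map_comp]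
    rfl
  refine ⟨e, (yon S).map κA ≫ (yon S).map ιA ≫ lC, ?_, ?_⟩
  · change (yon S).map km' ≫ (yon S).map κA ≫ (yon S).map ιA ≫ lC = (yon S).map ψm ≫ sq.top
    calc (yon S).map km' ≫ (yon S).map κA ≫ (yon S).map ιA ≫ lC
        = (yon S).map (km' ≫ κA ≫ ιA) ≫ lC := by
          simp only [Functor.map_comp, Category.assoc]
      _ = (yon S).map εK ≫ (yon S).map cl ≫ (yon S).map ιB ≫ lC := by
          rw [hkey]
          simp only [Functor.map_comp, Category.assoc]
      _ = (yon S).map εK ≫ (yon S).map cl ≫ mB := by rw [← heq]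
      _ = (yon S).map εK ≫ (yon S).map kK ≫ sq.top := by rw [hcl']
      _ = (yon S).map ψm ≫ sq.top := by
          rw [← Category.assoc, ← Functor.map_comp, hεK]
  · calc ((yon S).map κA ≫ (yon S).map ιA ≫ lC) ≫ f
        = (yon S).map κA ≫ (yon S).map ιA ≫ (yon S).map βC := by
          simp only [Category.assoc, hlC2']
      _ = (yon S).map (κA ≫ ιA ≫ βC) := by simp only [Functor.map_comp]
      _ = _ := by rw [hκβ, Functor.map_comp, hβ]

end Groth.Agent.Lib.Helper14.AS
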