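import Groth.Agent.Lib.Helper14.DvrLiftG4
import Groth.Agent.Lib.Helper14.DvrLift4
import Groth.Agent.Lib.Helper14.GenDense
import Groth.Agent.Lib.Helper14.SepVal6
import Groth.Agent.Lib.Helper14.AlgSpEtaleMor
import Groth.Agent.Lib.Helper14.FpqcBase4

/-!
# The refined Noetherian valuative criterion for universal closedness (helper14)
-/

open CategoryTheory CategoryTheory.Limits AlgebraicGeometry Opposite AlgSp
open CategoryTheory.Functor Groth.Agent.Lib.Helper14.AS

universe u

noncomputable section

namespace Groth.Agent.Lib.Helper14.AS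

variable {S : Scheme.{u}}

/-- Density of the image on points is preserved by base change along a morphism which is open on
points. -/
theorem denseRange_of_isPullback {X U X' U' : Sp S} {h : U ⟶ X} {g : X' ⟶ X} {pU : U' ⟶ U}
    {h' : U' ⟶ X'} (sq : IsPullback pU h' h g) (hopen : IsOpenMap (Points.map g))
    (hd : DenseRange (Points.map h)) : DenseRange (Points.map h') := by
  rw [DenseRange, dense_iff_inter_open]
  intro O hO hOne
  have h1 : IsOpen (Points.map g '' O) := hopen O hO
  have h2 : (Points.map g '' O).Nonempty := hOne.image _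
  obtain ⟨_, ⟨x', hx'O, rfl⟩, ⟨u, hu⟩⟩ := (dense_iff_inter_open.1 hd) _ h1 h2
  obtain ⟨z, -, hz2⟩ := points_exists_of_isPullback sq u x' hu
  exact ⟨x', hx'O, ⟨z, hz2⟩⟩

/-- A separated morphism satisfies the uniqueness part of the valuative criterion. -/
theorem hasUniq_of_isSeparatedMor {X Y : Sp S} (f : X ⟶ Y) (hf : IsSeparatedMor f)
    (sq : ValSq f) : sq.HasUniq := by
  intro l l' h1 h2 h1' h2'
  have : IsSchemeTheoreticallyDominant sq.j.left :=
    inferInstanceAs (IsSchemeTheoreticallyDominant
      (Spec.map (CommRingCat.ofHom (algebraMap sq.A sq.K))))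
  exact hom_ext_of_isSeparatedMor f hf sq.j l l' (by rw [h2, h2']) (by rw [h1, h1'])

set_option backward.isDefEq.respectTransparency.types false in
/-- **Refined Noetherian valuative criterion.**  Let `f : X ⟶ Y` be separated of finite type with
`Y` locally Noetherian and `h : U ⟶ X` of finite type with dense image.  If the valuative squares
of `f` with discrete valuation rings whose top arrow factors through `h` have lifts, `f` is
universally closed. -/
theorem isUnivClosedMor_of_dvr_lift_through {X Y U : Sp S} (hX : IsAlgSpace X)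
    (hY : IsAlgSpace Y) (hU : IsAlgSpace U) (f : X ⟶ Y) (hsep : IsSeparatedMor f)
    (hqc : IsQuasiCompactMor f) (hlft : LocP @LocallyOfFiniteType f) (hYN : IsLocNoethSp Y)
    (h : U ⟶ X) (hhqc : IsQuasiCompactMor h) (hhlft : LocP @LocallyOfFiniteType h)
    (hd : DenseRange (Points.map h))
    (hdvr : ∀ sq : ValSq f, IsDiscreteValuationRing sq.A →
      (∃ t : (yon S).obj sq.ptK ⟶ U, t ≫ h = sq.top) → sq.HasLift) :
    IsUnivClosedMor f := by
  obtain ⟨V, b, hbe, hbs, hVN⟩ := hYN
  have sq := IsPullback.of_hasPullback f b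
  have hP : IsAlgSpace (pullback f b) :=
    isAlgSpace_of_isPullback (repDiag_of_isAlgSpace hY) hX (IsAlgSpace.yon_obj V) sq
  have hsep' : IsSeparatedMor (pullback.snd f b) :=
    MorphismProperty.of_isPullback (P := (RepWith (S := S) @IsClosedImmersion).diagonal) sq hsep
  have hqc' : IsQuasiCompactMor (pullback.snd f b) := isQuasiCompactMor_of_isPullback sq hqc
  have hlft' : LocP @LocallyOfFiniteType (pullback.snd f b) :=
    locP_baseChange etLocal_lft hX hY (IsAlgSpace.yon_obj V) f b _ _ sq hlft
  -- the base change of `h`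
  have sqU := IsPullback.of_hasPullback h (pullback.fst f b)
  have hU' : IsAlgSpace (pullback h (pullback.fst f b)) :=
    isAlgSpace_of_isPullback (repDiag_of_isAlgSpace hX) hU hP sqU
  have hhqc' : IsQuasiCompactMor (pullback.snd h (pullback.fst f b)) :=
    isQuasiCompactMor_of_isPullback sqU hhqc
  have hhlft' : LocP @LocallyOfFiniteType (pullback.snd h (pullback.fst f b)) :=
    locP_baseChange etLocal_lft hU hX hP h _ _ _ sqU hhlft
  have hpXet : RepWith @Etale (pullback.fst f b) := repWith_of_isPullback _ sq.flip hbe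
  have hopen : IsOpenMap (Points.map (pullback.fst f b)) :=
    isOpenMap_points_of_isEtaleMor hP hX (isEtaleMor_of_repWith_etale hpXet)
  have hd' : DenseRange (Points.map (pullback.snd h (pullback.fst f b))) :=
    denseRange_of_isPullback sqU hopen hd
  have hdvr' : ∀ sq' : ValSq (pullback.snd f b), IsDiscreteValuationRing sq'.A →
      (∃ t : (yon S).obj sq'.ptK ⟶ pullback h (pullback.fst f b),
        t ≫ pullback.snd h (pullback.fst f b) = sq'.top) → sq'.HasLift :=
    fun sq' h' ht' => dvr_hasLift_through_of_isPullback sq sqU.w.symm hdvr sq' h' ht'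
  have : IsLocallyNoetherian V.left := hVN
  have hlift' : ∀ sq' : ValSq (pullback.snd f b),
      (∃ t : (yon S).obj sq'.ptK ⟶ pullback h (pullback.fst f b),
        t ≫ pullback.snd h (pullback.fst f b) = sq'.top) → sq'.HasLift := by
    intro sq' ht'
    obtain ⟨e, he⟩ := hasLiftExt_through_of_dvr_lift hP hU' (pullback.snd f b) hsep' hqc' hlft'
      (pullback.snd h (pullback.fst f b)) hhlft' hdvr' sq' ht'
    exact hasLift_of_domExt_of_isSeparatedMor hP (IsAlgSpace.yon_obj V) _ hsep' sq' e he
  have he : ExistVC (pullback.snd f b) := fun sq' =>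
    hasLiftExt_of_through_dense hP hU' (pullback.snd f b) (pullback.snd h (pullback.fst f b))
      hhqc' hd' hlift' (fun sq'' _ => hasUniq_of_isSeparatedMor _ hsep' sq'') sq'
  have huc : IsUnivClosedMor (pullback.snd f b) :=
    isUnivClosedMor_of_qc_existVC (pullback.snd f b) hqc' he
  exact isUnivClosedMor_of_etale_cover hY (IsAlgSpace.yon_obj V) b hbe hbs sq huc

end Groth.Agent.Lib.Helper14.AS
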