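import Groth.Agent.Lib.Helper14.DvrLiftG5
import Groth.Agent.Lib.Helper14.AlgSpProper
import Groth.Agent.Lib.Helper14.AlgSpImm
import Groth.Agent.Lib.Helper14.AlgSpLocP

/-!
# The refined Noetherian valuative criterion for separatedness (helper14)
-/

open CategoryTheory CategoryTheory.Limits AlgebraicGeometry Opposite AlgSp
open CategoryTheory.Functor Groth.Agent.Lib.Helper14.AS

universe u

noncomputable section

namespace Groth.Agent.Lib.Helper14.AS

variable {S : Scheme.{u}}

set_option backward.isDefEq.respectTransparency.types false in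
/-- **Refined Noetherian valuative criterion for separatedness.**  Let `f : X ⟶ Y` be locally of
finite type and quasi-separated with `Y` locally Noetherian and `h : U ⟶ X` of finite type with
dense image.  If the valuative squares of `f` with discrete valuation rings whose top arrow
factors through `h` have at most one lift, `f` is separated. -/
theorem isSeparatedMor_of_dvr_uniq_through {X Y U : Sp S} (hX : IsAlgSpace X)
    (hY : IsAlgSpace Y) (hU : IsAlgSpace U) (f : X ⟶ Y)
    (hlft : LocP @LocallyOfFiniteType f) (hqs : IsQuasiSeparatedMor f) (hYN : IsLocNoethSp Y)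
    (h : U ⟶ X) (hhqc : IsQuasiCompactMor h) (hhlft : LocP @LocallyOfFiniteType h)
    (hd : DenseRange (Points.map h))
    (huniq : ∀ sq : ValSq f, IsDiscreteValuationRing sq.A →
      (∃ t : (yon S).obj sq.ptK ⟶ U, t ≫ h = sq.top) → sq.HasUniq) :
    IsSeparatedMor f := by
  apply isSeparatedMor_of_isUnivClosedMor_diagonal hX
  have sqP := IsPullback.of_hasPullback f f
  have hP : IsAlgSpace (pullback f f) :=
    isAlgSpace_of_isPullback (repDiag_of_isAlgSpace hY) hX hX sqP
  obtain ⟨hrep, hlftΔ, hmonoΔ, -, -⟩ := diagonal_hom_properties hX f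
  have hsepΔ : IsSeparatedMor (pullback.diagonal f) := isSeparatedMor_of_mono _
  have hqcΔ : IsQuasiCompactMor (pullback.diagonal f) := isQuasiCompactMor_of_repWith hqs
  have hlftΔ' : LocP @LocallyOfFiniteType (pullback.diagonal f) :=
    locP_of_repWith etale_le_lft hlftΔ
  have hsndlft : LocP @LocallyOfFiniteType (pullback.snd f f) :=
    locP_baseChange etLocal_lft hX hY hX f f _ _ sqP hlft
  have hXN : IsLocNoethSp X := isLocNoethSp_of_locP_lft hX f hlft hYN
  have hPN : IsLocNoethSp (pullback f f) := isLocNoethSp_of_locP_lft hP _ hsndlft hXN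
  refine isUnivClosedMor_of_dvr_lift_through hX hP hU (pullback.diagonal f) hsepΔ hqcΔ hlftΔ' hPN
    h hhqc hhlft hd ?_
  rintro sq hA ⟨t, ht⟩
  let l : (yon S).obj sq.ptA ⟶ X := sq.bot ≫ pullback.fst f f
  let l' : (yon S).obj sq.ptA ⟶ X := sq.bot ≫ pullback.snd f f
  have hl : (yon S).map sq.j ≫ l = sq.top := by
    rw [← Category.assoc, ← sq.comm, Category.assoc, pullback.diagonal_fst, Category.comp_id]
  have hl' : (yon S).map sq.j ≫ l' = sq.top := by
    rw [← Category.assoc, ← sq.comm, Category.assoc, pullback.diagonal_snd, Category.comp_id]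
  have hll' : l' ≫ f = l ≫ f := by
    rw [Category.assoc, Category.assoc, pullback.condition]
  let sq' : ValSq f :=
    { A := sq.A, K := sq.K, str := sq.str, top := sq.top, bot := l ≫ f,
      comm := by rw [← Category.assoc, hl] }
  have heq : l = l' := huniq sq' hA ⟨t, ht⟩ l l' hl rfl hl' hll'
  refine ⟨l, hl, ?_⟩
  apply pullback.hom_ext
  · rw [Category.assoc, pullback.diagonal_fst, Category.comp_id]
  · rw [Category.assoc, pullback.diagonal_snd, Category.comp_id, heq]

end Groth.Agent.Lib.Helper14.AS
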