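import Groth.Agent.Lib.Helper14.Refined
import Groth.Agent.Lib.Helper14.DvrDiag
import Groth.Agent.Lib.Helper14.RedInd
import Groth.Agent.Lib.Helper14.AlgSpImm
import Groth.Agent.Lib.Helper14.AlgSpProper
import Groth.Agent.Lib.Helper24.UCSp3

universe u
open CategoryTheory CategoryTheory.Limits AlgebraicGeometry Opposite Topology TopologicalSpace
open IsLocalRing

namespace Groth.Agent.Lib.Helper14.AS
open AlgSp

variable {S : Scheme.{u}}

set_option backward.isDefEq.respectTransparency.types false in
/-- A morphism of finite type to a locally Noetherian algebraic space whose valuative squares over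
discrete valuation rings have lifts after extension is closed on points. -/
theorem isClosedMap_points_of_dvr_liftExt {P Z : Sp S} (hP : IsAlgSpace P) (hZ : IsAlgSpace Z)
    (g : P ⟶ Z) (hqc : IsQuasiCompactMor g) (hlft : LocP @LocallyOfFiniteType g)
    (hZN : IsLocNoethSp Z)
    (hdvr : ∀ sq : ValSq g, IsDiscreteValuationRing sq.A → sq.HasLiftExt) :
    IsClosedMap (Points.map g) := by
  intro T hT
  obtain ⟨ZT, ι, hZTalg, hιcl, hιrange⟩ : ∃ (ZT : Sp S) (ι : ZT ⟶ P), IsAlgSpace ZT ∧
      RepWith @IsClosedImmersion ι ∧ Set.range (Points.map ι) = T :=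
    ⟨_, _, (isRedInduced_redFam hP T hT).1, (isRedInduced_redFam hP T hT).2.1,
      (isRedInduced_redFam hP T hT).2.2.1⟩
  have hqc' : IsQuasiCompactMor (ι ≫ g) :=
    isQuasiCompactMor_comp hP (repDiag_of_isAlgSpace hZ)
      (isQuasiCompactMor_of_repWith_isClosedImmersion hιcl) hqc
  have hlft' : LocP @LocallyOfFiniteType (ι ≫ g) :=
    locP_comp etLocal_lft hZTalg hP hZ ι g
      (locP_of_repWith etale_le_lft (repWith_mono isClosedImmersion_le_lft hιcl)) hlft
  rw [← closure_subset_iff_isClosed]
  intro y hy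
  have hrange : Set.range (Points.map (ι ≫ g)) = Points.map g '' T := by
    rw [← hιrange]
    ext z
    constructor
    · rintro ⟨w, rfl⟩
      exact ⟨Points.map ι w, ⟨w, rfl⟩, (Points.map_comp ι g w).symm⟩
    · rintro ⟨_, ⟨w, rfl⟩, rfl⟩
      exact ⟨w, Points.map_comp ι g w⟩
  rw [← hrange] at hy
  obtain ⟨A, iA1, iA2, iA3, a, α, κ, hκ, hcl⟩ :=
    exists_dvr_diagram hZTalg hZ (ι ≫ g) hqc' hlft' hZN y hy
  let sq : ValSq g :=
    { A := A, K := FractionRing A, str := a, top := κ ≫ ι, bot := α,
      comm := by rw [Category.assoc, hκ] }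
  obtain ⟨e, l, hl1, hl2⟩ := hdvr sq iA3
  refine ⟨Points.map l (Points.schemeHomeo e.ptA' (closedPoint e.A')), ?_, ?_⟩
  · -- the closed point lies in `T`
    obtain ⟨km, hkm⟩ : ∃ km : e.ptK' ⟶ e.ptA', km =
        Over.homMk (Spec.map (CommRingCat.ofHom (algebraMap e.A' e.K'))) rfl := ⟨_, rfl⟩
    rw [← hkm] at hl1
    obtain ⟨η, hη⟩ : ∃ η : ↥e.ptK'.left, η = closedPoint e.K' := ⟨_, rfl⟩
    have hsp : (km.left η : PrimeSpectrum e.A') ⤳ closedPoint e.A' :=
      IsLocalRing.specializes_closedPoint _
    have hsp2 : Points.map l (Points.schemeHomeo e.ptA' (km.left η)) ⤳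
        Points.map l (Points.schemeHomeo e.ptA' (closedPoint e.A')) :=
      (hsp.map (Points.schemeHomeo e.ptA').continuous).map (Points.continuous_map l)
    refine hsp2.mem_closed hT ?_
    rw [← hιrange]
    have h1 : Points.schemeHomeo e.ptA' (km.left η) =
        Points.map ((yon S).map km) (Points.schemeHomeo e.ptK' η) :=
      (Points.map_yon_map_apply km η).symm
    rw [h1, ← Points.map_comp, hl1]
    change Points.map (_ ≫ κ ≫ ι) _ ∈ _
    rw [← Category.assoc, Points.map_comp]
    exact ⟨_, rfl⟩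
  · rw [← Points.map_comp, hl2, Points.map_comp, Points.map_yon_map_apply]
    have h2 : (Spec.map (CommRingCat.ofHom e.φ)) (closedPoint e.A') = closedPoint sq.A := by
      have := e.isLocalHom
      exact IsLocalRing.comap_closedPoint e.φ
    change Points.map α (Points.schemeHomeo (Over.mk a)
      ((Spec.map (CommRingCat.ofHom e.φ)) (closedPoint e.A'))) = y
    rw [h2]
    exact hcl

set_option backward.isDefEq.respectTransparency.types false in
/-- A morphism of finite type to a locally Noetherian algebraic space whose valuative squares over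
discrete valuation rings have lifts after extension is universally closed. -/
theorem isUnivClosedMor_of_dvr_liftExt {X Y : Sp S} (hX : IsAlgSpace X) (hY : IsAlgSpace Y)
    (f : X ⟶ Y) (hqc : IsQuasiCompactMor f) (hlft : LocP @LocallyOfFiniteType f)
    (hYN : IsLocNoethSp Y)
    (h : ∀ sq : ValSq f, IsDiscreteValuationRing sq.A → sq.HasLiftExt) :
    IsUnivClosedMor f := by
  obtain ⟨V, p, hpe, hps, hVN⟩ := hYN
  have hVN' : IsLocallyNoetherian V.left := hVN
  refine Groth.Agent.Lib.Helper24.UCSp.isUnivClosedMor_of_affineSpaces hX hY hqc V p hpe hps ?_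
  intro n P fst snd sq
  have hP : IsAlgSpace P :=
    isAlgSpace_of_isPullback (repDiag_of_isAlgSpace hY) hX (IsAlgSpace.yon_obj _) sq
  refine isClosedMap_points_of_dvr_liftExt hP (IsAlgSpace.yon_obj _) snd
    (isQuasiCompactMor_of_isPullback sq hqc)
    (locP_baseChange etLocal_lft hX hY (IsAlgSpace.yon_obj _) f _ _ _ sq hlft) ?_ ?_
  · refine ⟨_, 𝟙 _, repWith_id _ _, repWith_id _ _, ?_⟩
    exact LocallyOfFiniteType.isLocallyNoetherian (𝔸(ULift.{u} (Fin n); V.left) ↘ V.left)
  · intro sq' hsq'
    exact hasLiftExt_of_isPullback_sq sq sq' (h (ValSq.ofIsPullback sq sq') hsq')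

end Groth.Agent.Lib.Helper14.AS
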