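import Groth.Agent.Lib.Helper14.CutOut3

universe u
open CategoryTheory CategoryTheory.Limits AlgebraicGeometry Opposite Topology

namespace Groth.Agent.Lib.Helper14.AS

open AlgSp Groth.Agent.Lib.Helper14.AS Groth.Agent.Lib.Helper25.BlowUpUP

variable {S : Scheme.{u}}

/-- If the extension of `I` to `B` is generated by a nonzerodivisor `f`, then near any "point" of
`B` it is generated by the image of an element of `I`. -/
theorem exists_local_generator {A B L : Type*} [CommRing A] [CommRing B] [CommRing L]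
    [IsLocalRing L] (φ : A →+* B) (ev : B →+* L) (I : Ideal A) (f : B)
    (hf : f ∈ nonZeroDivisors B) (hI : I.map φ = Ideal.span {f}) :
    ∃ x ∈ I, ∃ c : B, IsUnit (ev c) ∧ φ x = f * c := by
  set T : Set B := {c | ∃ x ∈ I, φ x = f * c} with hT
  have h1 : I.map φ ≤ Ideal.span {f} * Ideal.span T := by
    rw [Ideal.map, Ideal.span_le]
    rintro _ ⟨x, hx, rfl⟩
    have : φ x ∈ Ideal.span {f} := hI ▸ Ideal.mem_map_of_mem φ hx
    obtain ⟨c, hc⟩ := Ideal.mem_span_singleton'.1 this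
    have hc' : φ x = f * c := by rw [← hc, mul_comm]
    rw [hc']
    exact Ideal.mul_mem_mul (Ideal.mem_span_singleton_self f) (Ideal.subset_span ⟨x, hx, hc'⟩)
  have h2 : f ∈ Ideal.span {f} * Ideal.span T := h1 (hI ▸ Ideal.mem_span_singleton_self f)
  obtain ⟨d, hd, hfd⟩ := Ideal.mem_span_singleton_mul.1 h2
  have hd1 : d = 1 := by
    have : f * (d - 1) = 0 := by rw [mul_sub, hfd, mul_one, sub_self]
    have := (mem_nonZeroDivisors_iff.1 hf).1 _ this
    exact sub_eq_zero.1 this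
  have h3 : (1 : B) ∈ Ideal.span T := hd1 ▸ hd
  by_contra hcon
  push Not at hcon
  have h4 : Ideal.span T ≤ (IsLocalRing.maximalIdeal L).comap ev := by
    rw [Ideal.span_le]
    rintro c ⟨x, hx, hc⟩
    change ev c ∈ IsLocalRing.maximalIdeal L
    rw [IsLocalRing.mem_maximalIdeal, mem_nonunits_iff]
    exact fun hu => hcon x hx c hu hc
  have h5 := h4 h3
  rw [Ideal.mem_comap, map_one] at h5
  exact (IsLocalRing.maximalIdeal.isMaximal L).ne_top ((Ideal.eq_top_iff_one _).2 h5)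

/-- A flat morphism restricted to affine opens `V ⟶ U` with `U ⊆ q(V)` is faithfully flat on
sections. -/
theorem faithfullyFlat_appLE {Y W : Scheme.{u}} (q : Y ⟶ W) [Flat q] {U : W.Opens}
    (hU : IsAffineOpen U) {V : Y.Opens} (hV : IsAffineOpen V) (e : V ≤ q ⁻¹ᵁ U)
    (hs : ∀ u ∈ U, ∃ y ∈ V, q y = u) :
    (q.appLE U V e).hom.FaithfullyFlat := by
  rw [RingHom.FaithfullyFlat.iff_flat_and_comap_surjective]
  refine ⟨HasRingHomProperty.appLE (P := @Flat) q inferInstance ⟨U, hU⟩ ⟨V, hV⟩ e, fun 𝔮 => ?_⟩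
  obtain ⟨u, h𝔮⟩ : ∃ u : U, hU.primeIdealOf u = 𝔮 :=
    (Scheme.homeoOfIso hU.isoSpec).surjective 𝔮
  obtain ⟨y, hyV, hy⟩ := hs u.1 u.2
  refine ⟨hV.primeIdealOf ⟨y, hyV⟩, ?_⟩
  have := IsAffineOpen.comap_primeIdealOf_appLE (f := q) U hU V hV e hyV
  refine Eq.trans ?_ h𝔮
  refine Eq.trans this ?_
  congr 1
  exact Subtype.ext hy

theorem mem_nonZeroDivisors_of_map_injective {A B : Type*} [CommRing A] [CommRing B]
    (ψ : A →+* B) (hψ : Function.Injective ψ) (a : A) (h : ψ a ∈ nonZeroDivisors B) :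
    a ∈ nonZeroDivisors A := by
  rw [mem_nonZeroDivisors_iff_right]
  intro z hz
  apply hψ
  rw [map_zero]
  exact (mem_nonZeroDivisors_iff_right.1 h) (ψ z) (by rw [← map_mul, hz, map_zero])

set_option backward.isDefEq.respectTransparency.types false in
/-- Descent of "principal generated by a nonzerodivisor" along a flat open morphism, near the
image of a point. -/
theorem principal_descent {Y W : Scheme.{u}} (q : Y ⟶ W) [Flat q] (hq : IsOpenMap q)
    (I : W.IdealSheafData) (y : Y) (U'' : Y.affineOpens) (hy : y ∈ U''.1) (f : Γ(Y, U''.1))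
    (hf : f ∈ nonZeroDivisors Γ(Y, U''.1)) (hJ : (I.comap q).ideal U'' = Ideal.span {f}) :
    ∃ (U : W.affineOpens) (a : Γ(W, U.1)), q y ∈ U.1 ∧ a ∈ nonZeroDivisors Γ(W, U.1) ∧
      I.ideal U = Ideal.span {a} := by
  obtain ⟨_, ⟨U₀, hU₀, rfl⟩, hyU₀, -⟩ :=
    W.isBasis_affineOpens.exists_subset_of_mem_open (Set.mem_univ (q y)) isOpen_univ
  obtain ⟨U₁, hyU₁, hU₁U₀, hU₁U''⟩ := exists_affineOpens_le_preimage q y U₀ hyU₀ U''.1 hy
  obtain ⟨hf₁, hJ₁⟩ := principal_of_le (I.comap q) (show U₁ ≤ U'' from hU₁U'') f hf hJ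
  set f₁ := (Y.presheaf.map (homOfLE (X := Y.Opens) hU₁U'').op).hom f with hf₁def
  have hJ₁' : (I.ideal ⟨U₀, hU₀⟩).map (q.appLE U₀ U₁.1 hU₁U₀).hom = Ideal.span {f₁} := by
    rw [← Groth.Agent.Lib.Helper1.ideal_comap I q U₁ ⟨U₀, hU₀⟩ hU₁U₀]
    exact hJ₁
  obtain ⟨x, hxI, c, hcu, hxc⟩ := exists_local_generator (q.appLE U₀ U₁.1 hU₁U₀).hom
    (Y.presheaf.germ U₁.1 y hyU₁).hom (I.ideal ⟨U₀, hU₀⟩) f₁ hf₁ hJ₁'
  have hyc : y ∈ Y.basicOpen c := (Y.mem_basicOpen c y hyU₁).2 hcu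
  let O : W.Opens := ⟨q '' (Y.basicOpen c : Set Y), hq _ (Y.basicOpen c).2⟩
  have hqyO : q y ∈ O := ⟨y, hyc, rfl⟩
  obtain ⟨h, hhO, hqyh⟩ := hU₀.exists_basicOpen_le (V := O) ⟨q y, hqyO⟩ hyU₀
  set φ := (q.appLE U₀ U₁.1 hU₁U₀).hom with hφ
  let U : W.affineOpens := W.affineBasicOpen (U := ⟨U₀, hU₀⟩) h
  let Y₂ : Y.affineOpens := Y.affineBasicOpen (U := U₁) (c * φ h)
  have hY₂ : Y₂.1 = Y.basicOpen c ⊓ (U₁.1 ⊓ q ⁻¹ᵁ (W.basicOpen h)) := by
    change Y.basicOpen (c * φ h) = _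
    rw [Scheme.basicOpen_mul, ← Scheme.basicOpen_appLE]
  have e₂ : Y₂.1 ≤ q ⁻¹ᵁ U.1 := by
    rw [hY₂]
    exact inf_le_right.trans inf_le_right
  have hs : ∀ u ∈ U.1, ∃ y' ∈ Y₂.1, q y' = u := by
    intro u hu
    obtain ⟨y', hy'c, rfl⟩ := hhO hu
    refine ⟨y', ?_, rfl⟩
    rw [hY₂]
    exact ⟨hy'c, Y.basicOpen_le c hy'c, hu⟩
  have hff := faithfullyFlat_appLE q U.2 Y₂.2 e₂ hs
  set ψ := (q.appLE U.1 Y₂.1 e₂).hom with hψ
  have hUle : U.1 ≤ U₀ := W.affineBasicOpen_le (V := ⟨U₀, hU₀⟩) h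
  have hYle : Y₂.1 ≤ U₁.1 := Y.affineBasicOpen_le (V := U₁) (c * φ h)
  set rA := (W.presheaf.map (homOfLE hUle).op).hom with hrA
  set rB := (Y.presheaf.map (homOfLE hYle).op).hom with hrB
  have hnat : ∀ a, ψ (rA a) = rB (φ a) := by
    intro a
    have h1 := Scheme.Hom.map_appLE q e₂ (homOfLE hUle).op
    have h2 := Scheme.Hom.appLE_map q hU₁U₀ (homOfLE hYle).op
    exact congrArg (fun k => k.hom a) (h1.trans h2.symm)
  have hIU : I.ideal U = (I.ideal ⟨U₀, hU₀⟩).map rA :=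
    (I.map_ideal (U := U) (V := ⟨U₀, hU₀⟩) hUle).symm
  obtain ⟨hf₂, hJ₂⟩ := principal_of_le (I.comap q) (U := U₁) (V := Y₂) hYle f₁ hf₁ hJ₁
  have hJ₂' : (I.ideal U).map ψ = Ideal.span {rB f₁} := by
    rw [← Groth.Agent.Lib.Helper1.ideal_comap I q Y₂ U e₂]
    exact hJ₂
  have hcunit : IsUnit (rB c) := by
    have h1 := Y.toRingedSpace.isUnit_res_basicOpen c
    have hle : Y₂.1 ≤ Y.basicOpen c := by rw [hY₂]; exact inf_le_left
    have h2 := h1.map (Y.presheaf.map (homOfLE hle).op).hom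
    have h3 : (Y.presheaf.map (homOfLE hle).op).hom
        ((Y.presheaf.map (homOfLE (Y.basicOpen_le c)).op).hom c) = rB c := by
      rw [hrB, ← RingHom.comp_apply, ← CommRingCat.hom_comp, ← Functor.map_comp]
      rfl
    rw [← h3]
    exact h2
  have hgen : ψ (rA x) = rB f₁ * rB c := by rw [hnat, hxc, map_mul]
  refine ⟨U, rA x, hqyh, ?_, ?_⟩
  · apply mem_nonZeroDivisors_of_map_injective ψ hff.injective
    rw [hgen]
    exact mul_mem hf₂ hcunit.mem_nonZeroDivisors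
  · let _ := ψ.toAlgebra
    have : Module.FaithfullyFlat Γ(W, U.1) Γ(Y, Y₂.1) := hff
    apply Ideal.map_injective_of_faithfullyFlat (B := Γ(Y, Y₂.1))
    change (I.ideal U).map ψ = (Ideal.span {rA x}).map ψ
    rw [hJ₂', Ideal.map_span, Set.image_singleton, hgen]
    exact (Ideal.span_singleton_mul_right_unit hcunit _).symm

/-- Descent of effective Cartier ideals along flat, open, surjective morphisms. -/
theorem isEffCartierIdeal_of_comap {Y W : Scheme.{u}} (q : Y ⟶ W) [Flat q] (hq : IsOpenMap q)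
    (hs : Function.Surjective q) (I : W.IdealSheafData)
    (h : BlowUp.IsEffCartierIdeal (I.comap q)) : BlowUp.IsEffCartierIdeal I := by
  intro w
  obtain ⟨y, rfl⟩ := hs w
  obtain ⟨U'', hy, f, hf, hJ⟩ := h y
  obtain ⟨U, a, h1, h2, h3⟩ := principal_descent q hq I y U'' hy f hf hJ
  exact ⟨U, h1, a, h2, h3⟩

/-- Outside its support an ideal sheaf is locally the unit ideal. -/
theorem exists_principal_of_notMem_support {W : Scheme.{u}} (I : W.IdealSheafData) (w : W)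
    (hw : w ∉ I.support) :
    ∃ U : W.affineOpens, w ∈ U.1 ∧
      ∃ f : Γ(W, U.1), f ∈ nonZeroDivisors Γ(W, U.1) ∧ I.ideal U = Ideal.span {f} := by
  obtain ⟨_, ⟨U₀, hU₀, rfl⟩, hwU₀, -⟩ :=
    W.isBasis_affineOpens.exists_subset_of_mem_open (Set.mem_univ w) isOpen_univ
  rw [Scheme.IdealSheafData.mem_support_iff_of_mem (U := ⟨U₀, hU₀⟩) hwU₀,
    Scheme.mem_zeroLocus_iff] at hw
  push Not at hw
  obtain ⟨g, hgI, hwg⟩ := hw
  refine ⟨W.affineBasicOpen (U := ⟨U₀, hU₀⟩) g, hwg, 1, one_mem _, ?_⟩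
  rw [Ideal.span_singleton_one, ← I.map_ideal_basicOpen ⟨U₀, hU₀⟩ g]
  apply Ideal.eq_top_of_isUnit_mem _ (Ideal.mem_map_of_mem _ hgI)
  exact W.toRingedSpace.isUnit_res_basicOpen g

end Groth.Agent.Lib.Helper14.AS
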