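import Groth.Agent.Lib.Helper14.EffCart1

universe u
open CategoryTheory CategoryTheory.Limits AlgebraicGeometry Opposite Topology

namespace Groth.Agent.Lib.Helper14.AS

open AlgSp Groth.Agent.Lib.Helper14.AS Groth.Agent.Lib.Helper25.BlowUpUP

variable {S : Scheme.{u}}

set_option backward.isDefEq.respectTransparency.types false in
/-- The ideal of an effective Cartier divisor is effective Cartier on every etale chart. -/
theorem isEffCartierIdeal_kerOf {X D : Sp S} {i : D ⟶ X} (hD : IsEffCartierSub i)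
    {U : Over S} (φ : (yon S).obj U ⟶ X) (hφ : RepWith @Etale φ) :
    BlowUp.IsEffCartierIdeal (kerOf hD.1 φ) := by
  obtain ⟨hi, V, φV, 𝓘, fstV, hφVe, hφVs, sqV, c⟩ := hD
  have h𝓘 : kerOf hi φV = 𝓘 := kerOf_eq_of_isPullback hi φV 𝓘 fstV sqV
  have sqP := hφVe.rep.isPullback' φ
  have hq₂e : Etale (hφVe.rep.snd φ).left := hφVe.property_snd φ
  have hq₂s : Surjective (hφVe.rep.snd φ).left := hφVs.property _ _ _ sqP
  have hq₁e : Etale (hφVe.rep.fst' φ).left := hφ.property _ _ _ sqP.flip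
  have hf1 : Flat (hφVe.rep.fst' φ).left := inferInstance
  have hf2 : Flat (hφVe.rep.snd φ).left := inferInstance
  have e1 : kerOf hi ((yon S).map (hφVe.rep.snd φ) ≫ φ) =
      (kerOf hi φ).comap (hφVe.rep.snd φ).left := kerOf_comp hi φ _
  have e2 : kerOf hi ((yon S).map (hφVe.rep.fst' φ) ≫ φV) =
      𝓘.comap (hφVe.rep.fst' φ).left := by rw [kerOf_comp hi φV _, h𝓘]
  have e3 : (kerOf hi φ).comap (hφVe.rep.snd φ).left = 𝓘.comap (hφVe.rep.fst' φ).left := by
    rw [← e1, ← e2, sqP.w]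
  have hc : BlowUp.IsEffCartierIdeal ((kerOf hi φ).comap (hφVe.rep.snd φ).left) := by
    rw [e3]
    exact isEffCartierIdeal_comap_of_flat _ 𝓘 c
  exact isEffCartierIdeal_of_comap (hφVe.rep.snd φ).left (hφVe.rep.snd φ).left.isOpenMap
    hq₂s.surj _ hc

set_option backward.isDefEq.respectTransparency.types false in
theorem isEffCartierSub_iff_forall_chart {X D : Sp S} (hX : IsAlgSpace X) (i : D ⟶ X)
    (hi : RepWith @IsClosedImmersion i) :
    IsEffCartierSub i ↔
      ∀ (U : Over S) (φ : (yon S).obj U ⟶ X), RepWith @Etale φ →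
        ∀ (I : U.left.IdealSheafData)
          (fst : (yon S).obj (Over.mk (I.subschemeι ≫ U.hom)) ⟶ D),
          IsPullback fst ((yon S).map
            (Over.homMk I.subschemeι rfl : Over.mk (I.subschemeι ≫ U.hom) ⟶ U)) i φ →
            BlowUp.IsEffCartierIdeal I := by
  constructor
  · intro hD U φ hφ I fst sq
    have hI : kerOf hD.1 φ = I := kerOf_eq_of_isPullback hD.1 φ I fst sq
    rw [← hI]
    exact isEffCartierIdeal_kerOf hD φ hφ
  · intro H
    obtain ⟨W, ψ, hψe, hψs⟩ := hX.atlas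
    obtain ⟨fst, sq⟩ := exists_isPullback_subOver hi ψ
    exact ⟨hi, W, ψ, kerOf hi ψ, fst, hψe, hψs, sq, H W ψ hψe _ fst sq⟩

set_option backward.isDefEq.respectTransparency.types false in
theorem isEffCartierSub_iff_pointwise {X D : Sp S} (hX : IsAlgSpace X) (i : D ⟶ X)
    (hi : RepWith @IsClosedImmersion i) :
    IsEffCartierSub i ↔
      ∀ x : Points D,
        ∃ (U : Over S) (_ : IsAffine U.left) (a : (yon S).obj U ⟶ X) (u : ↥U.left)
          (f : Γ(U.left, ⊤)) (I : U.left.IdealSheafData)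
          (fst : (yon S).obj (Over.mk (I.subschemeι ≫ U.hom)) ⟶ D),
          RepWith @Etale a ∧ Points.ofPt a u = Points.map i x ∧
            f ∈ nonZeroDivisors Γ(U.left, ⊤) ∧
            I.ideal ⟨⊤, isAffineOpen_top U.left⟩ = Ideal.span {f} ∧
            IsPullback fst ((yon S).map
              (Over.homMk I.subschemeι rfl : Over.mk (I.subschemeι ≫ U.hom) ⟶ U)) i a := by
  constructor
  · intro hD x
    have hD' := hD
    obtain ⟨-, V, φV, 𝓘, fstV, hφVe, hφVs, sqV, c⟩ := hD'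
    have h𝓘 : kerOf hi φV = 𝓘 := kerOf_eq_of_isPullback hi φV 𝓘 fstV sqV
    obtain ⟨v, hv⟩ := ofPt_surjective_of_repWith hφVs (Points.map i x)
    obtain ⟨U₀, hvU₀, f, hf, hIf⟩ := c v
    have hU : IsAffine (openSub V U₀.1).left := U₀.2
    have hfl : Flat (openSubι V U₀.1).left := inferInstanceAs (Flat U₀.1.ι)
    obtain ⟨fst, sq⟩ := exists_isPullback_subOver hi ((yon S).map (openSubι V U₀.1) ≫ φV)
    have e : (⊤ : U₀.1.toScheme.Opens) ≤ U₀.1.ι ⁻¹ᵁ U₀.1 := fun x _ => x.2
    have hK : kerOf hi ((yon S).map (openSubι V U₀.1) ≫ φV) = 𝓘.comap U₀.1.ι := by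
      rw [kerOf_comp hi φV (openSubι V U₀.1), h𝓘]
      rfl
    refine ⟨openSub V U₀.1, hU, (yon S).map (openSubι V U₀.1) ≫ φV, ⟨v, hvU₀⟩,
      (U₀.1.ι.appLE U₀.1 ⊤ e).hom f, _, fst, repWith_etale_restrict hφVe U₀.1, ?_, ?_, ?_, sq⟩
    · rw [ofPt_yon_map_comp]
      exact hv
    · exact map_mem_nonZeroDivisors_of_flat _
        (HasRingHomProperty.appLE (P := @Flat) U₀.1.ι inferInstance U₀
          ⟨⊤, isAffineOpen_top _⟩ e) hf
    · rw [hK]
      refine (Groth.Agent.Lib.Helper1.ideal_comap 𝓘 U₀.1.ι ⟨⊤, isAffineOpen_top _⟩ U₀ e).trans ?_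
      rw [hIf, Ideal.map_span, Set.image_singleton]
      rfl
  · intro H
    obtain ⟨W, ψ, hψe, hψs⟩ := hX.atlas
    obtain ⟨fstW, sqW⟩ := exists_isPullback_subOver hi ψ
    refine ⟨hi, W, ψ, kerOf hi ψ, fstW, hψe, hψs, sqW, ?_⟩
    intro w
    by_cases hw : w ∈ (kerOf hi ψ).support
    · rw [← SetLike.mem_coe, ← Scheme.IdealSheafData.range_subschemeι] at hw
      obtain ⟨z, hz⟩ := hw
      have hx : Points.ofPt ψ w = Points.map i (Points.ofPt fstW z) := by
        rw [Points.map_ofPt, sqW.w, ofPt_yon_map_comp]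
        exact congrArg _ hz.symm
      obtain ⟨U, hU, a, u, f, I, fstU, ha, hu, hf, hIf, sqU⟩ := H (Points.ofPt fstW z)
      have hI : kerOf hi a = I := kerOf_eq_of_isPullback hi a I fstU sqU
      have sqP := ha.rep.isPullback' ψ
      have hq₂e : Etale (ha.rep.snd ψ).left := ha.property_snd ψ
      have hq₁e : Etale (ha.rep.fst' ψ).left := hψe.property _ _ _ sqP.flip
      have hf1 : Flat (ha.rep.fst' ψ).left := inferInstance
      have hf2 : Flat (ha.rep.snd ψ).left := inferInstance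
      obtain ⟨p, hp1, hp2⟩ := exists_point_of_isPullback_yon sqP u w (hu.trans hx.symm)
      have hIc : BlowUp.IsEffCartierIdeal I :=
        fun _ => ⟨⟨⊤, isAffineOpen_top U.left⟩, trivial, f, hf, hIf⟩
      have e1 : kerOf hi ((yon S).map (ha.rep.snd ψ) ≫ ψ) =
          (kerOf hi ψ).comap (ha.rep.snd ψ).left := kerOf_comp hi ψ _
      have e2 : kerOf hi ((yon S).map (ha.rep.fst' ψ) ≫ a) =
          I.comap (ha.rep.fst' ψ).left := by rw [kerOf_comp hi a _, hI]
      have e3 : (kerOf hi ψ).comap (ha.rep.snd ψ).left = I.comap (ha.rep.fst' ψ).left := by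
        rw [← e1, ← e2, sqP.w]
      have hc : BlowUp.IsEffCartierIdeal ((kerOf hi ψ).comap (ha.rep.snd ψ).left) := by
        rw [e3]
        exact isEffCartierIdeal_comap_of_flat _ I hIc
      obtain ⟨U'', hpU'', f'', hf'', hJ''⟩ := hc p
      obtain ⟨U', a', h1, h2, h3⟩ := principal_descent (ha.rep.snd ψ).left
        (ha.rep.snd ψ).left.isOpenMap (kerOf hi ψ) p U'' hpU'' f'' hf'' hJ''
      rw [hp2] at h1
      exact ⟨U', h1, a', h2, h3⟩
    · exact exists_principal_of_notMem_support _ w hw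

end Groth.Agent.Lib.Helper14.AS
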