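import Groth.Agent.Lib.Helper14.EffCart3
import Groth.Agent.Lib.Helper24.DescAffMor
import Groth.Agent.Lib.Helper25.BlowUpAffineCompl

universe u
open CategoryTheory CategoryTheory.Limits AlgebraicGeometry Opposite Topology

namespace Groth.Agent.Lib.Helper14.AS

open AlgSp Groth.Agent.Lib.Helper14.AS Groth.Agent.Lib.Helper25.BlowUpUP

variable {S : Scheme.{u}}

set_option backward.isDefEq.respectTransparency.types false in
/-- The image of the base change of `f` to a chart is the preimage of the image of `f`. -/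
theorem range_eq_preimage_of_isPullback {F G : Sp S} {f : F ⟶ G} {V T : Over S}
    {φ : (yon S).obj V ⟶ G} {fst : (yon S).obj T ⟶ F} {r : T ⟶ V}
    (sq : IsPullback fst ((yon S).map r) f φ) :
    Set.range r.left = Points.ofPt φ ⁻¹' Set.range (Points.map f) := by
  ext v
  constructor
  · rintro ⟨t, rfl⟩
    refine ⟨Points.ofPt fst t, ?_⟩
    rw [Points.map_ofPt, sq.w, ofPt_yon_map_comp]
  · rintro ⟨y, hy⟩
    have e : Points.map f y = Points.map φ (Points.schemeHomeo _ v) := by
      rw [hy, Points.ofPt_eq_map_ofScheme]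
      rfl
    obtain ⟨zV, -, hzV⟩ := points_exists_of_isPullback sq y _ e
    obtain ⟨zV', rfl⟩ := (Points.schemeHomeo _).surjective zV
    refine ⟨zV', ?_⟩
    apply (Points.schemeHomeo _).injective
    rw [← hzV]
    exact (Points.map_yon_map_apply _ _).symm

theorem isSchematicallyDense_complSupport {V : Scheme.{u}} (𝓘 : V.IdealSheafData)
    (h : BlowUp.IsEffCartierIdeal 𝓘) : CInt.IsSchematicallyDense (complSupport 𝓘) := by
  have h1 := isSchemeTheoreticallyDominant_ι_complSupport 𝓘 h
  have h2 := isAffineHom_ι_complSupport 𝓘 h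
  intro V'
  have h3 := (complSupport 𝓘).ι.app_injective V'
  rw [Scheme.Opens.ι_app] at h3
  have hle : (complSupport 𝓘).ι ''ᵁ (complSupport 𝓘).ι ⁻¹ᵁ V' ≤ V' ⊓ complSupport 𝓘 := by
    rw [Scheme.Hom.image_preimage_eq_opensRange_inf, Scheme.Opens.opensRange_ι, inf_comm]
  have h4 : V.presheaf.map (homOfLE (inf_le_left : V' ⊓ complSupport 𝓘 ≤ V')).op ≫
      V.presheaf.map (homOfLE hle).op = V.presheaf.map (homOfLE
        (show (complSupport 𝓘).ι ''ᵁ (complSupport 𝓘).ι ⁻¹ᵁ V' ≤ V' from
          Set.image_preimage_subset _ _)).op := by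
    rw [← Functor.map_comp]
    rfl
  rw [← h4] at h3
  exact Function.Injective.of_comp (f := (V.presheaf.map (homOfLE hle).op).hom) h3

open Groth.Agent.Lib.Helper24.DescBridge Groth.Agent.Lib.Helper24.DescAffMor in
set_option backward.isDefEq.respectTransparency.types false in
/-- The open complement of an effective Cartier divisor is affine over the space and scheme
theoretically dense. -/
theorem complement_isEffCartierSub {X D U : Sp S} {i : D ⟶ X} (hD : IsEffCartierSub i)
    {j : U ⟶ X} (hj : RepWith @IsOpenImmersion j)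
    (hU : Set.range (Points.map j) = (Set.range (Points.map i))ᶜ) :
    IsAffineMor j ∧ IsSchDense j := by
  obtain ⟨hi, V, φ, 𝓘, fstD, hφe, hφs, sqD, c⟩ := hD
  obtain ⟨W, fstj, sqj⟩ := exists_opens_of_repWith_isOpenImmersion hj φ
  have hW : W = complSupport 𝓘 := by
    apply TopologicalSpace.Opens.ext
    have h1 := range_eq_preimage_of_isPullback sqj
    have h2 := range_eq_preimage_of_isPullback sqD
    rw [range_openSubι] at h1
    change Set.range 𝓘.subschemeι = _ at h2
    rw [Scheme.IdealSheafData.range_subschemeι] at h2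
    rw [h1, hU, Set.preimage_compl, ← h2]
    rfl
  have hdense : CInt.IsSchematicallyDense W := hW ▸ isSchematicallyDense_complSupport 𝓘 c
  have haff : IsAffineHom W.ι := hW ▸ isAffineHom_ι_complSupport 𝓘 c
  refine ⟨?_, hj, V, φ, W, fstj, hφe, hφs, sqj, hdense⟩
  intro Z hZ g
  have key : ∀ ⦃Z' : Over S⦄, IsAffine Z'.left → ∀ (g' : (yon S).obj Z' ⟶ (yon S).obj V),
      ∃ (W' : Over S) (r : W' ⟶ Z') (fst' : (yon S).obj W' ⟶ (yon S).obj (openSub V W)),
        IsPullback fst' ((yon S).map r) ((yon S).map (openSubι V W)) g' ∧ IsAffine W'.left ∧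
          (⊤ : MorphismProperty Scheme.{u}) r.left := by
    intro Z' hZ' g'
    obtain ⟨t, rfl⟩ := (yon S).map_surjective g'
    have sqc := IsPullback.of_hasPullback (openSubι V W) t
    refine ⟨_, pullback.snd (openSubι V W) t, (yon S).map (pullback.fst (openSubι V W) t),
      sqc.map (yon S), ?_, trivial⟩
    have h1 : IsAffineHom (pullback.snd (openSubι V W) t).left :=
      MorphismProperty.of_isPullback (P := @IsAffineHom) (sqc.map (Over.forget S)) haff
    exact isAffine_of_isAffineHom (pullback.snd (openSubι V W) t).left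
  obtain ⟨U₀, fstW, hWp, hU₀, -⟩ :=
    exists_affine_descent ⊤ j φ hφe hφs fstj ((yon S).map (openSubι V W)) sqj key hZ g
  exact ⟨descObj U₀, descProj U₀, fstW, hWp, hU₀⟩

end Groth.Agent.Lib.Helper14.AS
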