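import Groth.Agent.Lib.Helper14.EffCart4
import Groth.Agent.Lib.Helper1.ModEtUnit

/-!
# Pulling back effective Cartier divisors when weakly associated points avoid them (helper14)
-/

universe u
open CategoryTheory CategoryTheory.Limits AlgebraicGeometry Opposite Topology

namespace Groth.Agent.Lib.Helper14.AS

open AlgSp Groth.Agent.Lib.Helper14.AS Groth.Agent.Lib.Helper25.BlowUpUP
  Groth.Agent.Lib.Helper1.ModEtBasic

theorem mem_primeAtPt_iff (W : Scheme.{u}) (w : W) (f : Γ(W, ⊤)) :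
    f ∈ primeAtPt W w ↔ w ∉ W.basicOpen f := by
  rw [W.mem_basicOpen f w trivial]
  unfold primeAtPt
  rw [Ideal.mem_comap, IsLocalRing.mem_maximalIdeal, mem_nonunits_iff]

set_option backward.isDefEq.respectTransparency.types false in
/-- The inverse image of an effective Cartier ideal is effective Cartier as soon as the points
of affine opens whose primes are minimal over annihilators of functions avoid the divisor. -/
theorem isEffCartierIdeal_comap_of_avoid {U V : Scheme.{u}} (h : U ⟶ V) (I : V.IdealSheafData)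
    (hI : BlowUp.IsEffCartierIdeal I)
    (H : ∀ (W : U.affineOpens) (b : Γ(W.1.toScheme, ⊤)) (w : W.1.toScheme)
      (J : Ideal Γ(W.1.toScheme, ⊤)), (∀ a, a ∈ J ↔ a * b = 0) →
      primeAtPt W.1.toScheme w ∈ J.minimalPrimes → h (W.1.ι w) ∉ I.support) :
    BlowUp.IsEffCartierIdeal (I.comap h) := by
  intro u
  obtain ⟨V', hV'u, g, hg, hIV'⟩ := hI (h u)
  obtain ⟨U₁, huU₁, hU₁V', -⟩ := exists_affineOpens_le_preimage h u V'.1 hV'u ⊤ trivial
  have hWaff : IsAffine U₁.1.toScheme := U₁.2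
  have e : (⊤ : U₁.1.toScheme.Opens) ≤ (U₁.1.ι ≫ h) ⁻¹ᵁ V'.1 := fun w _ => hU₁V' w.2
  set f := ((U₁.1.ι ≫ h).appLE V'.1 ⊤ e).hom g with hfdef
  have hJ : ((I.comap h).comap U₁.1.ι).ideal ⟨⊤, isAffineOpen_top U₁.1.toScheme⟩ =
      Ideal.span {f} := by
    rw [← Scheme.IdealSheafData.comap_comp,
      Groth.Agent.Lib.Helper1.ideal_comap I (U₁.1.ι ≫ h) ⟨⊤, isAffineOpen_top _⟩ V' e, hIV',
      Ideal.map_span, Set.image_singleton]
  have hf : f ∈ nonZeroDivisors Γ(U₁.1.toScheme, ⊤) := by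
    rw [mem_nonZeroDivisors_iff_right]
    intro b hb
    by_contra hb0
    set J : Ideal Γ(U₁.1.toScheme, ⊤) := LinearMap.ker (LinearMap.toSpanSingleton
        Γ(U₁.1.toScheme, ⊤) Γ(U₁.1.toScheme, ⊤) b) with hJdef
    have hmem : ∀ a, a ∈ J ↔ a * b = 0 := by
      intro a
      rw [hJdef, LinearMap.mem_ker, LinearMap.toSpanSingleton_apply, smul_eq_mul]
    have hJtop : J ≠ ⊤ := by
      intro htop
      have h1 : (1 : Γ(U₁.1.toScheme, ⊤)) ∈ J := htop ▸ Submodule.mem_top
      rw [hmem, one_mul] at h1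
      exact hb0 h1
    obtain ⟨q, hq⟩ := Ideal.nonempty_minimalPrimes hJtop
    have := hq.1.1
    obtain ⟨w, hw⟩ := exists_primeAtPt_eq U₁.1.toScheme q
    have hfq : f ∈ q := hq.1.2 ((hmem f).2 (by rw [mul_comm]; exact hb))
    refine H U₁ b w J hmem (hw ▸ hq) ?_
    have hwV' : h (U₁.1.ι w) ∈ V'.1 := hU₁V' w.2
    rw [Scheme.IdealSheafData.mem_support_iff_of_mem hwV', hIV', Scheme.zeroLocus_span,
      Scheme.mem_zeroLocus_iff]
    intro g' hg'
    rw [Set.mem_singleton_iff] at hg'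
    subst hg'
    rw [← hw, mem_primeAtPt_iff, hfdef, Scheme.basicOpen_appLE] at hfq
    intro hcon
    exact hfq ⟨trivial, hcon⟩
  obtain ⟨U₂, a, h1, h2, h3⟩ := principal_descent U₁.1.ι U₁.1.ι.isOpenMap (I.comap h)
    (⟨u, huU₁⟩ : U₁.1.toScheme) ⟨⊤, isAffineOpen_top _⟩ trivial f hf hJ
  exact ⟨U₂, h1, a, h2, h3⟩

variable {S : Scheme.{u}}

set_option backward.isDefEq.respectTransparency.types false in
/-- The inverse image of an effective Cartier divisor under a morphism mapping no weakly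
associated point of the source into the divisor is an effective Cartier divisor. -/
theorem isEffCartierSub_of_weakAss_avoid {X Y D P : Sp S} (hX : IsAlgSpace X) (hY : IsAlgSpace Y)
    {f : X ⟶ Y} {i : D ⟶ Y} (hD : IsEffCartierSub i)
    (h : ∀ x ∈ WeakAssEt (unitModEt X), Points.map f x ∉ Set.range (Points.map i))
    {fst : P ⟶ D} {snd : P ⟶ X} (hP : IsPullback fst snd i f) : IsEffCartierSub snd := by
  have hsnd : RepWith @IsClosedImmersion snd := repWith_of_isPullback _ hP hD.1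
  obtain ⟨U₀, α, hαe, hαs⟩ := hX.atlas
  obtain ⟨V, φ, hφe, hφs⟩ := hY.atlas
  have sqU := hφe.rep.isPullback' (α ≫ f)
  have hq₁e : Etale (hφe.rep.snd (α ≫ f)).left := hφe.property_snd _
  have hq₁s : Surjective (hφe.rep.snd (α ≫ f)).left := hφs.property _ _ _ sqU
  have hae : RepWith @Etale ((yon S).map (hφe.rep.snd (α ≫ f)) ≫ α) :=
    repWith_comp _ ((repWith_yon_map_iff _ _).2 hq₁e) hαe
  have has : RepWith @Surjective ((yon S).map (hφe.rep.snd (α ≫ f)) ≫ α) :=
    repWith_comp _ ((repWith_yon_map_iff _ _).2 hq₁s) hαs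
  have hcomm : ((yon S).map (hφe.rep.snd (α ≫ f)) ≫ α) ≫ f =
      (yon S).map (hφe.rep.fst' (α ≫ f)) ≫ φ := by
    rw [Category.assoc, sqU.w]
  obtain ⟨fstU, sq⟩ := exists_isPullback_subOver hsnd ((yon S).map (hφe.rep.snd (α ≫ f)) ≫ α)
  refine ⟨hsnd, _, _, _, fstU, hae, has, sq, ?_⟩
  rw [kerOf_of_isPullback hP hD.1 hsnd, hcomm, kerOf_comp' hD.1 φ _]
  refine isEffCartierIdeal_comap_of_avoid _ _ (isEffCartierIdeal_kerOf hD φ hφe) ?_
  intro W b w J hJ hw hcon
  set a := (yon S).map (hφe.rep.snd (α ≫ f)) ≫ α with hadef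
  let E0 : EtOver X := EtOver.mk a hae
  let E : EtOver X := openObj E0 W.1
  have hEaff : IsAffine E.obj.left.left := W.2
  let s : sectModEt (unitModEt X) E :=
    show ULift.{u + 1} Γ(E.obj.left.left, ⊤) from ULift.up b
  have hann : annSect s = J := by
    ext c
    rw [mem_annSect_unit]
    exact (hJ c).symm
  have hx : Points.ofPt E.obj.hom w ∈ WeakAssEt (unitModEt X) :=
    ⟨E, hEaff, w, rfl, s, by rw [hann]; exact hw⟩
  apply h _ hx
  have e1 : Points.ofPt E.obj.hom w = Points.ofPt a (W.1.ι w) :=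
    ofPt_yon_map_comp (EtOver.homOfEtale (U := E0.obj.left) ⟨Over.mk W.1.ι,
      (inferInstance : Etale W.1.ι)⟩) a w
  rw [e1, Points.map_ofPt, hcomm, ofPt_yon_map_comp]
  obtain ⟨fstK, sqK⟩ := exists_isPullback_subOver hD.1 φ
  have h2 := range_eq_preimage_of_isPullback sqK
  have h3 : (hφe.rep.fst' (α ≫ f)).left (W.1.ι w) ∈
      Set.range (subOverι (kerOf hD.1 φ)).left := by
    change _ ∈ Set.range (kerOf hD.1 φ).subschemeι
    rw [(kerOf hD.1 φ).range_subschemeι]
    exact hcon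
  rw [h2] at h3
  exact h3

end Groth.Agent.Lib.Helper14.AS
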