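import Groth.Agent.Lib.Helper14.QfAt

universe u
open CategoryTheory CategoryTheory.Limits AlgebraicGeometry Opposite TopologicalSpace

namespace Groth.Agent.Lib.Helper14.AS

open AlgSp

/-- A point whose local ring has dimension zero has no proper generizations. -/
theorem eq_of_specializes_of_stalkDim_zero {U : Scheme.{u}} {ξ u : ↥U}
    (h : ringKrullDim (U.presheaf.stalk u) = 0) (hs : ξ ⤳ u) : ξ = u := by
  rw [ringKrullDim_stalk_eq_coheight] at h
  have h0 : Order.coheight u = 0 := by exact_mod_cast h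
  rw [Order.coheight_eq_zero] at h0
  have h1 : u ⤳ ξ := h0 (show u ≤ ξ from hs)
  exact (hs.antisymm h1).eq

variable {S : Scheme.{u}}

set_option backward.isDefEq.respectTransparency.types false in
theorem fibre_subset_codimZero_iff_quasiFiniteAt_of_codimZero {X Y : Sp S} (hX : IsAlgSpace X)
    (hY : IsAlgSpace Y) (f : X ⟶ Y) (hf : LocP @LocallyOfFiniteType f) (y : Points Y)
    (hy : HasAt (fun U u => ringKrullDim ↥(U.presheaf.stalk u) = 0) Y y) :
    ((∀ x : Points X, Points.map f x = y →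
        HasAt (fun U u => ringKrullDim ↥(U.presheaf.stalk u) = 0) X x) ↔
      (∀ x : Points X, Points.map f x = y →
        HasAtMor (fun U _ h u => ∃ W : U.Opens, u ∈ W ∧ LocallyQuasiFinite (W.ι ≫ h) ∧
          LocallyOfFiniteType (W.ι ≫ h)) f x)) ∧
    ((∀ x : Points X, Points.map f x = y →
        HasAt (fun U u => ringKrullDim ↥(U.presheaf.stalk u) = 0) X x →
        HasAtMor (fun U _ h u => ∃ W : U.Opens, u ∈ W ∧ LocallyQuasiFinite (W.ι ≫ h) ∧
          LocallyOfFiniteType (W.ι ≫ h)) f x) →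
      ∀ x : Points X, Points.map f x = y →
        HasAt (fun U u => ringKrullDim ↥(U.presheaf.stalk u) = 0) X x) := by
  have hYdim : ∀ {V : Over S} (b : (yon S).obj V ⟶ Y) (_ : RepWith @Etale b) (v : ↥V.left),
      Points.ofPt b v = y → ringKrullDim (V.left.presheaf.stalk v) = 0 := fun b hbe v hv =>
    (hasAt_ringKrullDim_iff_forall hY y 0).1 hy _ b v hbe hv
  have hpt : ∀ {U V : Over S} {a : (yon S).obj U ⟶ X} {b : (yon S).obj V ⟶ Y} {k : U ⟶ V}
      (_ : a ≫ f = (yon S).map k ≫ b) (w : ↥U.left),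
      Points.map f (Points.ofPt a w) = Points.ofPt b (k.left w) := by
    intro U V a b k comm w
    rw [Points.map_ofPt, comm, ofPt_yon_map_comp]
  refine ⟨⟨fun H1 x hx => ?_, fun H2 x hx => ?_⟩, fun H3 x hx => ?_⟩
  · rw [hasAtMor_qf_iff f hf]
    obtain ⟨U, V, a, b, k, u, hae, hbe, comm, rfl⟩ := exists_chart_diagram_at hX hY f x
    have hlft : LocallyOfFiniteType k.left := hf a b k hae hbe comm
    refine ⟨U, V, a, b, k, u, hae, hbe, comm, rfl, ?_⟩
    have hcodim : ∀ w : ↥U.left, k.left w = k.left u →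
        ringKrullDim (U.left.presheaf.stalk w) = 0 := by
      intro w hw
      refine (hasAt_ringKrullDim_iff_forall hX _ 0).1 (H1 (Points.ofPt a w) ?_) _ a w hae rfl
      rw [hpt comm, hw, ← hpt comm, hx]
    obtain ⟨n, hn, hrn⟩ := fibreDimAt_eq_resTrdeg_of_no_generization k.left u
      (fun ξ hξ _ => eq_of_specializes_of_stalkDim_zero (hcodim u rfl) hξ)
    obtain ⟨z, hsp, hz, hz0⟩ := exists_specializes_resTrdeg_eq_zero k.left u
    have huz : u = z := eq_of_specializes_of_stalkDim_zero (hcodim z hz) hsp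
    rw [← huz, hrn] at hz0
    have hn0 : n = 0 := by exact_mod_cast hz0
    change FlatMor.fibreDimAt k.left u = 0
    rw [hn, hn0]
    rfl
  · obtain ⟨U, V, a, b, k, u, hae, hbe, comm, rfl, hq⟩ := (hasAtMor_qf_iff f hf x).1 (H2 x hx)
    have hlft : LocallyOfFiniteType k.left := hf a b k hae hbe comm
    obtain ⟨W, huW, hW1, hW2⟩ := (qfAt_iff_fibreDimAt_eq_zero k.left u).2 hq
    refine ⟨U, a, u, hae, rfl, ?_⟩
    have : LocallyQuasiFinite W.ι := etale_locallyQuasiFinite _
    have e1 := ringKrullDim_stalk_eq_of_flat_lqf W.ι ⟨u, huW⟩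
    have e2 := ringKrullDim_stalk_le_of_lqf (W.ι ≫ k.left) ⟨u, huW⟩
    have e3 : ringKrullDim (V.left.presheaf.stalk (k.left u)) = 0 :=
      hYdim b hbe _ (by rw [← hpt comm, hx])
    have e4 : ringKrullDim (U.left.presheaf.stalk u) ≤ 0 := by
      have : ringKrullDim (U.left.presheaf.stalk u) =
          ringKrullDim ((W : Scheme.{u}).presheaf.stalk ⟨u, huW⟩) := e1.symm
      rw [this]
      refine e2.trans (le_of_eq ?_)
      exact e3
    exact le_antisymm e4 ringKrullDim_nonneg_of_nontrivial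
  · obtain ⟨U, V, a, b, k, u, hae, hbe, comm, rfl⟩ := exists_chart_diagram_at hX hY f x
    have hlft : LocallyOfFiniteType k.left := hf a b k hae hbe comm
    obtain ⟨ξ, hξu, hξ0⟩ := exists_generization_codimZero u
    have hv0 : ringKrullDim (V.left.presheaf.stalk (k.left u)) = 0 :=
      hYdim b hbe _ (by rw [← hpt comm, hx])
    have hkξ : k.left ξ = k.left u :=
      eq_of_specializes_of_stalkDim_zero hv0 (hξu.map k.left.continuous)
    have hξy : Points.map f (Points.ofPt a ξ) = y := by rw [hpt comm, hkξ, ← hpt comm, hx]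
    have hqf := (hasAtMor_qf_iff f hf _).1 (H3 _ hξy ⟨U, a, ξ, hae, rfl, hξ0⟩)
    have hfd := (hasAtMor_ofPt_iff (etSqInv_fibreDimAt (fun z => z = 0)) f a b k hae hbe comm ξ).1 hqf
    have hr := resTrdeg_eq_zero_of_fibreDimAt_eq_zero k.left ξ hfd
    have := eq_of_specializes_of_resTrdeg_eq_zero k.left hξu hkξ hr
    subst this
    exact ⟨U, a, ξ, hae, rfl, hξ0⟩

end Groth.Agent.Lib.Helper14.AS
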