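import Mathlib
import Groth.Prelude.Def_AlgSp2
import Groth.Agent.Lib.Helper14.AlgSpDiag
universe u
open CategoryTheory CategoryTheory.Limits AlgebraicGeometry Opposite TensorProduct
namespace Groth.Agent.Lib.Helper14.AS
open AlgSp

theorem productMap_surjective_of_isPushout {R A B D : CommRingCat.{u}} {a : R ⟶ A} {b : R ⟶ B}
    {i₁ : A ⟶ D} {i₂ : B ⟶ D} (h : IsPushout a b i₁ i₂) :
    Function.Surjective
      (Algebra.TensorProduct.productMap i₁.hom.toIntAlgHom i₂.hom.toIntAlgHom) := by
  set pm := Algebra.TensorProduct.productMap i₁.hom.toIntAlgHom i₂.hom.toIntAlgHom with hpm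
  let D' : Subring D := pm.range.toSubring
  have m1 : ∀ x : A, i₁.hom x ∈ D' := fun x => ⟨x ⊗ₜ 1, by simp [hpm]⟩
  have m2 : ∀ y : B, i₂.hom y ∈ D' := fun y => ⟨1 ⊗ₜ y, by simp [hpm]⟩
  let j₁ : A ⟶ CommRingCat.of D' := CommRingCat.ofHom (i₁.hom.codRestrict D' m1)
  let j₂ : B ⟶ CommRingCat.of D' := CommRingCat.ofHom (i₂.hom.codRestrict D' m2)
  let incl : CommRingCat.of D' ⟶ D := CommRingCat.ofHom D'.subtype
  have hj₁ : j₁ ≫ incl = i₁ := by ext x; rfl
  have hj₂ : j₂ ≫ incl = i₂ := by ext x; rfl
  have : Mono incl := ConcreteCategory.mono_of_injective incl Subtype.val_injective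
  have hw : a ≫ j₁ = b ≫ j₂ := by
    rw [← cancel_mono incl, Category.assoc, Category.assoc, hj₁, hj₂, h.w]
  have hd : h.desc j₁ j₂ hw ≫ incl = 𝟙 D := by
    apply h.hom_ext
    · rw [← Category.assoc, h.inl_desc, hj₁, Category.comp_id]
    · rw [← Category.assoc, h.inr_desc, hj₂, Category.comp_id]
  intro d
  have hdm : d ∈ D' := by
    have := congrArg (fun φ => φ.hom d) hd
    simp only [CommRingCat.hom_comp, CommRingCat.hom_id, RingHom.coe_comp, Function.comp_apply,
      RingHom.id_apply] at this
    rw [← this]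
    exact ((h.desc j₁ j₂ hw).hom d).2
  exact hdm

theorem affine_and_surjective_of_closedImmersion {S : Scheme.{u}} [S.IsSeparated]
    {U V P : Over S} (fst : P ⟶ U) (snd : P ⟶ V) [IsAffine U.left] [IsAffine V.left]
    (hl : IsClosedImmersion (pullback.lift fst.left snd.left (by rw [Over.w, Over.w]) :
      P.left ⟶ pullback U.hom V.hom)) :
    IsAffine P.left ∧ Function.Surjective
      (Algebra.TensorProduct.productMap fst.left.appTop.hom.toIntAlgHom
        snd.left.appTop.hom.toIntAlgHom) := by
  let t := terminal.from S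
  let l : P.left ⟶ pullback U.hom V.hom :=
    pullback.lift fst.left snd.left (by rw [Over.w, Over.w])
  have : IsClosedImmersion l := hl
  let c : P.left ⟶ pullback (U.hom ≫ t) (V.hom ≫ t) := l ≫ pullback.mapDesc U.hom V.hom t
  have hc : IsClosedImmersion c := inferInstance
  have hc1 : c ≫ pullback.fst _ _ = fst.left := by
    simp only [c, l, pullback.mapDesc, pullback.map, Category.assoc, pullback.lift_fst,
      Category.comp_id]
  have hc2 : c ≫ pullback.snd _ _ = snd.left := by
    simp only [c, l, pullback.mapDesc, pullback.map, Category.assoc, pullback.lift_snd,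
      Category.comp_id]
  have hT : IsAffine (pullback (U.hom ≫ t) (V.hom ≫ t)) := inferInstance
  obtain ⟨hP, hs⟩ := IsClosedImmersion.isAffine_surjective_of_isAffine c
  refine ⟨hP, ?_⟩
  have hpo := isPushout_appTop_of_isPullback (IsPullback.of_hasPullback (U.hom ≫ t) (V.hom ≫ t))
  have hs' := productMap_surjective_of_isPushout hpo
  have e : Algebra.TensorProduct.productMap fst.left.appTop.hom.toIntAlgHom
      snd.left.appTop.hom.toIntAlgHom =
      (c.appTop.hom.toIntAlgHom).comp (Algebra.TensorProduct.productMap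
        (pullback.fst (U.hom ≫ t) (V.hom ≫ t)).appTop.hom.toIntAlgHom
        (pullback.snd (U.hom ≫ t) (V.hom ≫ t)).appTop.hom.toIntAlgHom) := by
    apply Algebra.TensorProduct.ext'
    intro x y
    simp only [Algebra.TensorProduct.productMap_apply_tmul, AlgHom.comp_apply, map_mul]
    congr 1
    · change fst.left.appTop.hom x =
        ((pullback.fst (U.hom ≫ t) (V.hom ≫ t)).appTop ≫ c.appTop).hom x
      rw [← Scheme.Hom.comp_appTop, hc1]
    · change snd.left.appTop.hom y =
        ((pullback.snd (U.hom ≫ t) (V.hom ≫ t)).appTop ≫ c.appTop).hom y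
      rw [← Scheme.Hom.comp_appTop, hc2]
  rw [e]
  exact hs.comp hs'


set_option backward.isDefEq.respectTransparency.types false in
theorem isClosedImmersion_lift_of_isSeparatedSp {S : Scheme.{u}} {X : Sp S} (hX : IsSeparatedSp X)
    {U V P : Over S} (a : (yon S).obj U ⟶ X) (b : (yon S).obj V ⟶ X) (fst : P ⟶ U) (snd : P ⟶ V)
    (h : IsPullback ((yon S).map fst) ((yon S).map snd) a b) :
    IsClosedImmersion (pullback.lift fst.left snd.left (by rw [Over.w, Over.w]) :
      P.left ⟶ pullback U.hom V.hom) := by
  have sq := isPullback_diag_of_isPullback' h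
  have h1 : RepWith @IsClosedImmersion (prod.lift ((yon S).map fst) ((yon S).map snd)) :=
    repWith_of_isPullback _ sq hX
  rw [← yon_map_lift_prodComparison] at h1
  have h2 : RepWith @IsClosedImmersion ((yon S).map (prod.lift fst snd)) :=
    (MorphismProperty.cancel_right_of_respectsIso (RepWith @IsClosedImmersion) _ _).1 h1
  have h3 : IsClosedImmersion (prod.lift fst snd).left := (repWith_yon_map_iff _ _).1 h2
  have e : pullback.lift fst.left snd.left (by rw [Over.w, Over.w]) =
      (prod.lift fst snd).left ≫ (Over.prodLeftIsoPullback U V).hom := by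
    apply pullback.hom_ext
    · rw [pullback.lift_fst, Category.assoc, Over.prodLeftIsoPullback_hom_fst, ← Over.comp_left,
        prod.lift_fst]
    · rw [pullback.lift_snd, Category.assoc, Over.prodLeftIsoPullback_hom_snd, ← Over.comp_left,
        prod.lift_snd]
  rw [e]
  infer_instance

end Groth.Agent.Lib.Helper14.AS
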