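import Groth.Agent.Lib.Helper14.EffCart5
import Groth.Agent.Lib.Helper14.RedInd
import Groth.Agent.Lib.Helper14.SepAffine
import Groth.Agent.Lib.Helper14.QfAt2
import Groth.Agent.Lib.Helper14.AlgSpDecent3
import Groth.Agent.Lib.Helper29.EffC3
import Groth.Agent.S1573
import Groth.Agent.S2821

/-!
# The complement of a dense affine open of a regular separated algebraic space is an effective
Cartier divisor (helper14)
-/

universe u
open CategoryTheory CategoryTheory.Limits AlgebraicGeometry Opposite Topology

namespace Groth.Agent.Lib.Helper14.AS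

open AlgSp Groth.Agent.Lib.Helper14.AS

/-- In a reduced local ring whose maximal ideal is associated, the maximal ideal is zero. -/
theorem ringKrullDim_eq_zero_of_isAssociatedPrime_maximalIdeal (R : Type*) [CommRing R]
    [IsLocalRing R] [IsReduced R]
    (h : IsAssociatedPrime (IsLocalRing.maximalIdeal R) R) : ringKrullDim R = 0 := by
  obtain ⟨hp, x, hx⟩ := h
  have hmem : ∀ a : R, a ∈ IsLocalRing.maximalIdeal R ↔ ∃ n : ℕ, a ^ n * x = 0 := by
    intro a
    rw [hx, Ideal.mem_radical_iff]
    simp only [Submodule.mem_colon_singleton, Submodule.mem_bot, smul_eq_mul]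
  have hxm : x ∉ IsLocalRing.maximalIdeal R := by
    intro hxm
    obtain ⟨n, hn⟩ := (hmem x).1 hxm
    have hx0 : x = 0 := by
      have : x ^ (n + 1) = 0 := by rw [pow_succ]; exact hn
      exact pow_eq_zero_iff (n.succ_ne_zero) |>.1 this
    have h1 : (1 : R) ∈ IsLocalRing.maximalIdeal R := (hmem 1).2 ⟨0, by rw [hx0, mul_zero]⟩
    exact (IsLocalRing.maximalIdeal.isMaximal R).ne_top ((Ideal.eq_top_iff_one _).2 h1)
  have hxu : IsUnit x := by
    by_contra hnu
    exact hxm ((IsLocalRing.mem_maximalIdeal x).2 hnu)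
  have hm : IsLocalRing.maximalIdeal R = ⊥ := by
    rw [eq_bot_iff]
    intro a ha
    obtain ⟨n, hn⟩ := (hmem a).1 ha
    have h1 : a ^ n = 0 := (hxu.mul_left_eq_zero).1 hn
    rw [Ideal.mem_bot]
    by_cases hn0 : n = 0
    · subst hn0
      rw [pow_zero] at h1
      have : (1 : R) ∈ IsLocalRing.maximalIdeal R := by rw [h1]; exact Ideal.zero_mem _
      exact absurd ((Ideal.eq_top_iff_one _).2 this) (IsLocalRing.maximalIdeal.isMaximal R).ne_top
    · exact (pow_eq_zero_iff hn0).1 h1
  have hf : IsField R := IsLocalRing.isField_iff_maximalIdeal_eq.2 hm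
  exact ringKrullDim_eq_zero_of_isField hf

set_option backward.isDefEq.respectTransparency.types false in
/-- On a regular locally Noetherian scheme, the reduced complement of a dense open with affine
inclusion is an effective Cartier divisor. -/
theorem isEffCartierIdeal_vanishingIdeal_compl {V : Scheme.{u}} [IsLocallyNoetherian V]
    (hreg : ∀ v : V, IsRegularLocalRing (V.presheaf.stalk v)) (W : V.Opens) [IsAffineHom W.ι]
    (hdense : Dense (W : Set V)) :
    BlowUp.IsEffCartierIdeal (Scheme.IdealSheafData.vanishingIdeal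
      (⟨(W : Set V)ᶜ, W.isOpen.isClosed_compl⟩ : TopologicalSpace.Closeds V)) := by
  set C : TopologicalSpace.Closeds V := ⟨(W : Set V)ᶜ, W.isOpen.isClosed_compl⟩ with hC
  set 𝓘 := Scheme.IdealSheafData.vanishingIdeal C with h𝓘
  have hred : IsReduced 𝓘.subscheme := Groth.Agent.Lib.Helper16.isReduced_subscheme_vanishingIdeal C
  have hsupp : (𝓘.support : Set V) = (W : Set V)ᶜ :=
    Scheme.IdealSheafData.coe_support_vanishingIdeal C
  refine Groth.Agent.Lib.Helper29.EffC.isEffCartierIdeal_of_no_embedded_codim_one_ufd 𝓘 ?_ ?_ ?_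
  · intro z hass z' hz'
    exact eq_of_specializes_of_stalkDim_zero
      (ringKrullDim_eq_zero_of_isAssociatedPrime_maximalIdeal _ hass) hz'
  · intro z hz
    have hξ : 𝓘.subschemeι z ∉ W := by
      have h1 : 𝓘.subschemeι z ∈ Set.range 𝓘.subschemeι := ⟨z, rfl⟩
      rw [𝓘.range_subschemeι, hsupp] at h1
      exact h1
    refine (Groth.Agent.S1573.result V W (𝓘.subschemeι z) hξ ?_).2 hdense
    intro y hy hys
    have h1 : y ∈ Set.range 𝓘.subschemeι := by
      rw [𝓘.range_subschemeι, hsupp]
      exact hy
    obtain ⟨z', rfl⟩ := h1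
    rw [𝓘.subschemeι.isEmbedding.toIsInducing.specializes_iff] at hys
    rw [hz z' hys]
  · intro x _
    have := hreg x
    exact Groth.Agent.S2821.result (V.presheaf.stalk x)

variable {S : Scheme.{u}}

set_option backward.isDefEq.respectTransparency.types false in
/-- The inverse image in a chart of an affine scheme mapping to a separated space over a
separated base is an open with affine inclusion. -/
theorem isAffineHom_ι_of_isSeparatedSp [S.IsSeparated] {X : Sp S} (hsep : IsSeparatedSp X)
    {T : Over S} [IsAffine T.left] (j : (yon S).obj T ⟶ X) {V : Over S}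
    (φ : (yon S).obj V ⟶ X) (W : V.left.Opens) (fstj : (yon S).obj (openSub V W) ⟶ (yon S).obj T)
    (sqj : IsPullback fstj ((yon S).map (openSubι V W)) j φ) : IsAffineHom W.ι := by
  refine ⟨fun N hN => ?_⟩
  have sqN := (isPullback_openSub (openSubι V W) N).map (yon S)
  have big := sqN.flip.paste_horiz sqj
  obtain ⟨fst₀, hfst₀⟩ := (yon S).map_surjective
    ((yon S).map (openSubι (openSub V W) ((openSubι V W).left ⁻¹ᵁ N)) ≫ fstj)
  rw [← hfst₀] at big
  have hNaff : IsAffine (openSub V N).left := hN
  have hl := isClosedImmersion_lift_of_isSeparatedSp hsep j ((yon S).map (openSubι V N) ≫ φ)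
    fst₀ _ big
  exact (affine_and_surjective_of_closedImmersion fst₀ _ hl).1

set_option backward.isDefEq.respectTransparency.types false in
/-- The complement of a dense affine open subspace of a regular separated algebraic space over a
separated base is an effective Cartier divisor (with its reduced structure). -/
theorem exists_isEffCartierSub_compl [S.IsSeparated] {X : Sp S} (hX : IsAlgSpace X)
    (hreg : EtaleLocally (fun U => IsLocallyNoetherian U ∧
      ∀ u : ↥U, IsRegularLocalRing ↥(U.presheaf.stalk u)) X)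
    (hsep : IsSeparatedSp X) (T : Over S) [IsAffine T.left] (j : (yon S).obj T ⟶ X)
    (hj : RepWith @IsOpenImmersion j) (hdense : Dense (Set.range (Points.ofPt j))) :
    ∃ (D : Sp S) (i : D ⟶ X), IsAlgSpace D ∧ IsEffCartierSub i ∧
      Set.range (Points.map i) = (Set.range (Points.ofPt j))ᶜ := by
  have hje : RepWith @Etale j := repWith_mono (fun _ _ f hf => by have := hf; infer_instance) hj
  have hT₀ : IsClosed (Set.range (Points.ofPt j))ᶜ :=
    (isOpenMap_ofPt j hje).isOpen_range.isClosed_compl
  obtain ⟨hDalg, hRI⟩ := isRedInduced_redFam hX _ hT₀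
  refine ⟨_, (redFam _ hT₀).pred.ι, hDalg, ?_, hRI.2.1⟩
  obtain ⟨V, φ, hφe, hφs, hVN, hVreg⟩ := hreg
  obtain ⟨fst, sq⟩ := (redFam _ hT₀).exists_isPullback trivial φ hφe
  refine ⟨hRI.1, V, φ, _, fst, hφe, hφs, sq, ?_⟩
  obtain ⟨W, fstj, sqj⟩ := exists_opens_of_repWith_isOpenImmersion hj φ
  have hW : (W : Set V.left) = Points.ofPt φ ⁻¹' Set.range (Points.ofPt j) := by
    have h1 := range_eq_preimage_of_isPullback sqj
    have h2 : Set.range (openSubι V W).left = (W : Set V.left) := Scheme.Opens.range_ι W
    rw [h2] at h1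
    rw [h1]
    congr 1
    ext x
    constructor
    · rintro ⟨t, rfl⟩
      obtain ⟨t', rfl⟩ := (Points.schemeHomeo T).surjective t
      exact ⟨t', rfl⟩
    · rintro ⟨t, rfl⟩
      exact ⟨Points.schemeHomeo T t, rfl⟩
  have hWaff : IsAffineHom W.ι := isAffineHom_ι_of_isSeparatedSp hsep j φ W fstj sqj
  have hWd : Dense (W : Set V.left) := by
    rw [hW]
    exact hdense.preimage (isOpenMap_ofPt φ hφe)
  have key := isEffCartierIdeal_vanishingIdeal_compl hVreg W hWd
  have e : (redFam _ hT₀).K φ = Scheme.IdealSheafData.vanishingIdeal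
      (⟨(W : Set V.left)ᶜ, W.isOpen.isClosed_compl⟩ : TopologicalSpace.Closeds V.left) := by
    change Scheme.IdealSheafData.vanishingIdeal (preT _ hT₀ φ) = _
    congr 1
    ext1
    change Points.ofPt φ ⁻¹' (Set.range (Points.ofPt j))ᶜ = (W : Set V.left)ᶜ
    rw [hW, Set.preimage_compl]
  rw [e]
  exact key

end Groth.Agent.Lib.Helper14.AS
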