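import Mathlib.Algebra.Algebra.Epi
import Mathlib.RingTheory.TensorProduct.Basic

set_option autoImplicit false
universe u

namespace Groth.Agent.Lib.Helper14

open TensorProduct

/-- Epimorphisms of commutative rings are stable under base change. -/
theorem isEpi_baseChange (R S T : Type*) [CommRing R] [CommRing S] [CommRing T] [Algebra R S]
    [Algebra R T] [Algebra.IsEpi R S] : Algebra.IsEpi T (T ⊗[R] S) := by
  rw [Algebra.isEpi_iff_forall_one_tmul_eq]
  -- the bilinear map S × S → (T ⊗ S) ⊗[T] (T ⊗ S)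
  let f : S ⊗[R] S →ₗ[R] (T ⊗[R] S) ⊗[T] (T ⊗[R] S) := TensorProduct.lift
    { toFun := fun a =>
        { toFun := fun b => ((1 : T) ⊗ₜ[R] a) ⊗ₜ[T] ((1 : T) ⊗ₜ[R] b)
          map_add' := fun b b' => by rw [tmul_add, tmul_add]
          map_smul' := fun r b => by
            rw [RingHom.id_apply, tmul_smul (R := R) r (1 : T) b]
            exact tmul_smul (R := T) r _ _ }
      map_add' := fun a a' => by
        ext b
        simp only [LinearMap.coe_mk, AddHom.coe_mk, LinearMap.add_apply]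
        rw [tmul_add, add_tmul]
      map_smul' := fun r a => by
        ext b
        simp only [LinearMap.coe_mk, AddHom.coe_mk, LinearMap.smul_apply, RingHom.id_apply]
        rw [tmul_smul (R := R) r (1 : T) a]
        exact (smul_tmul' (R := T) r _ _).symm }
  have hf : ∀ a b : S, f (a ⊗ₜ b) = ((1 : T) ⊗ₜ[R] a) ⊗ₜ[T] ((1 : T) ⊗ₜ[R] b) := fun a b => rfl
  have hS : ∀ s : S, (1 : T ⊗[R] S) ⊗ₜ[T] ((1 : T) ⊗ₜ[R] s) =
      ((1 : T) ⊗ₜ[R] s) ⊗ₜ[T] (1 : T ⊗[R] S) := fun s => by
    have := congrArg f ((Algebra.isEpi_iff_forall_one_tmul_eq R S).mp inferInstance s)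
    rw [hf, hf] at this
    exact this
  intro x
  induction x using TensorProduct.induction_on with
  | zero => rw [tmul_zero, zero_tmul]
  | tmul t s =>
    have e : t ⊗ₜ[R] s = t • ((1 : T) ⊗ₜ[R] s) := by rw [smul_tmul', smul_eq_mul, mul_one]
    rw [e, tmul_smul, hS, smul_tmul']
  | add x y hx hy => rw [tmul_add, add_tmul, hx, hy]

end Groth.Agent.Lib.Helper14
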