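import Mathlib
import Groth.Agent.Lib.Helper14.CMBC
import Groth.Agent.Lib.Helper16.GorBC3
import Groth.Agent.Lib.Helper18.UCat

universe u
set_option linter.style.haveILetI false
set_option linter.unusedSectionVars false
open IsLocalRing
open scoped TensorProduct

namespace Groth.Agent.Lib.Helper14.AS
open Groth.Agent.Lib.Helper16.GorBC Groth.Agent.Lib.Helper2

section

variable (k k' : Type u) [Field k] [Field k'] [Algebra k k']
  (C : Type u) [CommRing C] [Algebra k C] [Algebra.EssFiniteType k C]

theorem isNoetherianRing_tensor_of_essFiniteType : IsNoetherianRing (C ⊗[k] k') := by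
  haveI : IsNoetherianRing (k' ⊗[k] C) := Algebra.EssFiniteType.isNoetherianRing k' (k' ⊗[k] C)
  exact isNoetherianRing_of_ringEquiv _ (Algebra.TensorProduct.comm k k' C).toRingEquiv

theorem fg_residueField_of_essFiniteType (p : Ideal C) [p.IsPrime] :
    ∃ s : Finset p.ResidueField,
      IntermediateField.adjoin k (s : Set p.ResidueField) = ⊤ := by
  haveI : Algebra.EssFiniteType k p.ResidueField := Algebra.EssFiniteType.comp k C p.ResidueField
  exact IntermediateField.fg_top _ _

/-- Gorenstein base field extension for a local ring essentially of finite type over `k`, along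
an arbitrary field extension. -/
theorem gor_tensor_localization_of_essFiniteType [IsLocalRing C]
    (q : PrimeSpectrum (C ⊗[k] k'))
    (hq : q.asIdeal.comap (algebraMap C (C ⊗[k] k')) = maximalIdeal C) :
    LocCoh.IsGorensteinLocalRing C ↔
      LocCoh.IsGorensteinLocalRing (Localization.AtPrime q.asIdeal) := by
  haveI : IsNoetherianRing C := Algebra.EssFiniteType.isNoetherianRing k C
  haveI := isNoetherianRing_tensor_of_essFiniteType k k' C
  have hκ : LocCoh.IsGorensteinRing
      ((q.asIdeal.comap (algebraMap C (C ⊗[k] k'))).ResidueField ⊗[k] k') :=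
    bc_of_fg k _ (fg_residueField_of_essFiniteType k C _) k' (gorRing_of_isRegularRing _)
  rw [gor_tensor_atPrime_iff k k' C q.asIdeal hκ]
  exact (GK.gor_localization_self_iff C _ hq).symm

open Groth.Agent.Lib.Helper18.FibQuot in
/-- Cohen–Macaulay base field extension for a local ring essentially of finite type over `k`,
along an arbitrary field extension. -/
theorem cm_tensor_localization_of_essFiniteType [IsLocalRing C]
    (q : Ideal (C ⊗[k] k')) [q.IsPrime]
    (hq : q.comap (algebraMap C (C ⊗[k] k')) = maximalIdeal C) :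
    LocCoh.IsCohenMacaulayLocalRing C ↔
      LocCoh.IsCohenMacaulayLocalRing (Localization.AtPrime q) := by
  haveI : IsNoetherianRing C := Algebra.EssFiniteType.isNoetherianRing k C
  haveI := isNoetherianRing_tensor_of_essFiniteType k k' C
  haveI : IsNoetherianRing (Localization.AtPrime q) :=
    IsLocalization.isNoetherianRing q.primeCompl _ inferInstance
  haveI : Module.Flat C (Localization.AtPrime q) :=
    Module.Flat.trans C (C ⊗[k] k') (Localization.AtPrime q)
  haveI : IsLocalHom (algebraMap C (Localization.AtPrime q)) := by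
    refine ⟨fun c hc => ?_⟩
    rw [IsScalarTower.algebraMap_apply C (C ⊗[k] k') (Localization.AtPrime q),
      IsLocalization.AtPrime.isUnit_to_map_iff (Localization.AtPrime q) q] at hc
    have h1 : c ∉ maximalIdeal C := by
      rw [← hq]
      exact hc
    exact IsLocalRing.notMem_maximalIdeal.mp h1
  constructor
  · intro hC
    haveI : LocCoh.IsCohenMacaulayRing C :=
      Groth.Agent.Lib.Helper18.CMOpen.isCohenMacaulayRing_of_isCohenMacaulayModule C
        hC.supportDim_eq_depth
    haveI : LocCoh.IsCohenMacaulayRing k' :=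
      Groth.Agent.Lib.Helper18.CMOpen.isCohenMacaulayRing_of_isRegularLocalRing k'
    haveI : LocCoh.IsCohenMacaulayRing (C ⊗[k] k') := by
      refine Groth.Agent.Lib.Helper18.UCat.isCohenMacaulayRing_of_flat_of_fibres C (C ⊗[k] k') ?_
      intro p _
      haveI : Algebra.EssFiniteType k p.ResidueField :=
        Algebra.EssFiniteType.comp k C p.ResidueField
      haveI := Groth.Agent.Lib.Helper23.CMAscent.isCohenMacaulayRing_tensor_of_essFiniteType' k
        p.ResidueField k'
      have e := (Algebra.TensorProduct.cancelBaseChange k C p.ResidueField p.ResidueField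
        k').toRingEquiv
      exact isCohenMacaulayRing_of_ringEquiv e.symm
    exact LocCoh.IsCohenMacaulayRing.isCohenMacaulayLocalRing_localization q
  · intro hD
    exact ((cm_flat_local_iff C (Localization.AtPrime q)).mp hD).1

end

section alg

variable {A A' B Bp : Type u} [CommRing A] [CommRing A'] [CommRing B] [CommRing Bp]
  [IsLocalRing A] [IsLocalRing A'] [IsLocalRing B] [IsLocalRing Bp]
  [Algebra A A'] [Algebra A B] [IsLocalHom (algebraMap A A')] [IsLocalHom (algebraMap A B)]
  (α : A' →+* Bp) (β : B →+* Bp) [IsLocalHom α] [IsLocalHom β]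
  (φ : A' ⊗[A] B →+* Bp) (hφ1 : ∀ a, φ (a ⊗ₜ 1) = α a) (hφ2 : ∀ b, φ (1 ⊗ₜ b) = β b)

instance essFiniteType_cfa [Algebra.EssFiniteType A B] :
    Algebra.EssFiniteType (ResidueField A) (CFa A B) := by
  haveI : IsScalarTower A (ResidueField A) (CFa A B) := IsScalarTower.of_algebraMap_eq fun _ => rfl
  exact Algebra.EssFiniteType.of_comp A _ _

include hφ1 hφ2 in
theorem gor_cf_iff_of_ess (hloc : letI := φ.toAlgebra; IsLocalization.AtPrime Bp (tpQ φ))
    [Algebra.EssFiniteType A B] :
    LocCoh.IsGorensteinLocalRing (CFa A B) ↔ LocCoh.IsGorensteinLocalRing (CFp α) := by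
  obtain ⟨q, hq, ⟨e⟩⟩ := cf_localization α β φ hφ1 hφ2 hloc
  have h1 := gor_tensor_localization_of_essFiniteType (ResidueField A) (ResidueField A')
    (CFa A B) q hq
  rw [h1]
  exact ⟨fun h => GK.gor_of_ringEquiv e.symm h, fun h => GK.gor_of_ringEquiv e h⟩

open Groth.Agent.Lib.Helper18.FibQuot in
include hφ1 hφ2 in
theorem cm_cf_iff_of_ess (hloc : letI := φ.toAlgebra; IsLocalization.AtPrime Bp (tpQ φ))
    [Algebra.EssFiniteType A B] :
    LocCoh.IsCohenMacaulayLocalRing (CFa A B) ↔ LocCoh.IsCohenMacaulayLocalRing (CFp α) := by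
  obtain ⟨q, hq, ⟨e⟩⟩ := cf_localization α β φ hφ1 hφ2 hloc
  have h1 := cm_tensor_localization_of_essFiniteType (ResidueField A) (ResidueField A')
    (CFa A B) q.asIdeal hq
  rw [h1]
  constructor
  · intro h
    haveI := h
    exact isCohenMacaulayLocalRing_of_ringEquiv (R := Localization.AtPrime q.asIdeal)
      (S := CFp α) e.symm
  · intro h
    haveI := h
    exact isCohenMacaulayLocalRing_of_ringEquiv (S := Localization.AtPrime q.asIdeal)
      (R := CFp α) e

end alg

end Groth.Agent.Lib.Helper14.AS
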