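import Mathlib
import Groth.Agent.Lib.Helper14.TensorEss
import Groth.Agent.Lib.Helper14.CMBCSch
import Groth.Agent.Lib.Helper14.FieldBase
import Groth.Prelude.Def_Curv2

universe u
set_option linter.style.haveILetI false
set_option linter.unusedSectionVars false
open CategoryTheory CategoryTheory.Limits AlgebraicGeometry Opposite Topology IsLocalRing
open scoped TensorProduct

namespace Groth.Agent.Lib.Helper14.AS
open Groth.Agent.Lib.Helper10.FibreProductStalk Groth.Agent.Lib.Helper16.GorMor
open Groth.Agent.Lib.Helper18.FibQuot Groth.Agent.Lib.Helper2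

section alg

variable {A A' B Bp : Type u} [CommRing A] [CommRing A'] [CommRing B] [CommRing Bp]
  [IsLocalRing A] [IsLocalRing A'] [IsLocalRing B] [IsLocalRing Bp]
  [Algebra A A'] [Algebra A B] [IsLocalHom (algebraMap A A')] [IsLocalHom (algebraMap A B)]
  (α : A' →+* Bp) (β : B →+* Bp) [IsLocalHom α] [IsLocalHom β]
  (φ : A' ⊗[A] B →+* Bp) (hφ1 : ∀ a, φ (a ⊗ₜ 1) = α a) (hφ2 : ∀ b, φ (1 ⊗ₜ b) = β b)

include hφ1 hφ2 in
theorem gor_cf_iff_gen (hloc : letI := φ.toAlgebra; IsLocalization.AtPrime Bp (tpQ φ))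
    (h : ((algebraMap A A').EssFiniteType ∧ IsNoetherianRing (CFa A B)) ∨
        (algebraMap A B).EssFiniteType) :
    LocCoh.IsGorensteinLocalRing (CFa A B) ↔ LocCoh.IsGorensteinLocalRing (CFp α) := by
  rcases h with ⟨h1, h2⟩ | h
  · haveI : Algebra.EssFiniteType A A' := by
      rw [← RingHom.essFiniteType_algebraMap]; exact h1
    exact gor_cf_iff α β φ hφ1 hφ2 hloc
  · haveI : Algebra.EssFiniteType A B := by
      rw [← RingHom.essFiniteType_algebraMap]; exact h
    exact gor_cf_iff_of_ess α β φ hφ1 hφ2 hloc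

include hφ1 hφ2 in
theorem cm_cf_iff_gen (hloc : letI := φ.toAlgebra; IsLocalization.AtPrime Bp (tpQ φ))
    (h : ((algebraMap A A').EssFiniteType ∧ IsNoetherianRing (CFa A B)) ∨
        (algebraMap A B).EssFiniteType) :
    LocCoh.IsCohenMacaulayLocalRing (CFa A B) ↔ LocCoh.IsCohenMacaulayLocalRing (CFp α) := by
  rcases h with ⟨h1, h2⟩ | h
  · haveI : Algebra.EssFiniteType A A' := by
      rw [← RingHom.essFiniteType_algebraMap]; exact h1
    exact cm_cf_iff α β φ hφ1 hφ2 hloc
  · haveI : Algebra.EssFiniteType A B := by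
      rw [← RingHom.essFiniteType_algebraMap]; exact h
    exact cm_cf_iff_of_ess α β φ hφ1 hφ2 hloc

end alg

section sch

variable {X S X' S' : Scheme.{u}} {f : X ⟶ S} {f' : X' ⟶ S'} {g' : X' ⟶ X} {g : S' ⟶ S}

theorem essFiniteType_baseStalkMap' (hc : IsPullback g' f' f g) (x' : X')
    (hess : (g.stalkMap (f' x')).hom.EssFiniteType) : (baseStalkMap hc x').hom.EssFiniteType := by
  unfold baseStalkMap
  rw [CommRingCat.hom_comp]
  refine RingHom.EssFiniteType.comp ?_ hess
  exact (RingHom.FiniteType.of_surjective _ (ConcreteCategory.bijective_of_isIso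
    (S.presheaf.stalkCongr (.of_eq (base_eq hc x'))).hom).2).essFiniteType

set_option backward.isDefEq.respectTransparency.types false in
/-- general form: closed fibre rings under base change; `P` is a ring property with the algebraic
transfer statement supplied. -/
theorem CF_baseChange_iff_gen (hc : IsPullback g' f' f g) (x' : X')
    (P : ∀ (R : Type u) [CommRing R], Prop)
    (halg : ∀ {A A' B Bp : Type u} [CommRing A] [CommRing A'] [CommRing B] [CommRing Bp]
      [IsLocalRing A] [IsLocalRing A'] [IsLocalRing B] [IsLocalRing Bp]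
      [Algebra A A'] [Algebra A B] [IsLocalHom (algebraMap A A')] [IsLocalHom (algebraMap A B)]
      (α : A' →+* Bp) (β : B →+* Bp) [IsLocalHom α] [IsLocalHom β]
      (φ : A' ⊗[A] B →+* Bp), (∀ a, φ (a ⊗ₜ 1) = α a) → (∀ b, φ (1 ⊗ₜ b) = β b) →
      (letI := φ.toAlgebra; IsLocalization.AtPrime Bp (tpQ φ)) →
      (((algebraMap A A').EssFiniteType ∧ IsNoetherianRing (CFa A B)) ∨
        (algebraMap A B).EssFiniteType) →
      (P (CFa A B) ↔ P (CFp α)))
    (h : ((g.stalkMap (f' x')).hom.EssFiniteType ∧ IsNoetherianRing (CF f (g' x'))) ∨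
      (f.stalkMap (g' x')).hom.EssFiniteType) :
    P (CF f (g' x')) ↔ P (CF f' x') := by
  letI : Algebra (S.presheaf.stalk (f.base (g'.base x'))) (X.presheaf.stalk (g'.base x')) :=
    (f.stalkMap (g'.base x')).hom.toAlgebra
  letI : Algebra (S.presheaf.stalk (f.base (g'.base x'))) (S'.presheaf.stalk (f'.base x')) :=
    (baseStalkMap hc x').hom.toAlgebra
  letI : Algebra (X.presheaf.stalk (g'.base x')) (X'.presheaf.stalk x') :=
    (g'.stalkMap x').hom.toAlgebra
  letI : Algebra (S'.presheaf.stalk (f'.base x')) (X'.presheaf.stalk x') :=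
    (f'.stalkMap x').hom.toAlgebra
  letI : Algebra (S.presheaf.stalk (f.base (g'.base x'))) (X'.presheaf.stalk x') :=
    (f.stalkMap (g'.base x') ≫ g'.stalkMap x').hom.toAlgebra
  have : IsScalarTower (S.presheaf.stalk (f.base (g'.base x'))) (X.presheaf.stalk (g'.base x'))
      (X'.presheaf.stalk x') := IsScalarTower.of_algebraMap_eq fun a => rfl
  have : IsScalarTower (S.presheaf.stalk (f.base (g'.base x'))) (S'.presheaf.stalk (f'.base x'))
      (X'.presheaf.stalk x') := by
    refine IsScalarTower.of_algebraMap_eq fun a => ?_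
    change (f.stalkMap (g'.base x') ≫ g'.stalkMap x').hom a =
      (baseStalkMap hc x' ≫ f'.stalkMap x').hom a
    rw [stalkMap_comp_eq hc x']
  haveI : IsLocalHom (algebraMap (S.presheaf.stalk (f.base (g'.base x')))
      (S'.presheaf.stalk (f'.base x'))) := isLocalHom_baseStalkMap hc x'
  haveI : IsLocalHom (algebraMap (S.presheaf.stalk (f.base (g'.base x')))
      (X.presheaf.stalk (g'.base x'))) :=
    inferInstanceAs (IsLocalHom (f.stalkMap (g'.base x')).hom)
  let φ := (Algebra.TensorProduct.productMap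
      (IsScalarTower.toAlgHom (S.presheaf.stalk (f.base (g'.base x')))
        (S'.presheaf.stalk (f'.base x')) (X'.presheaf.stalk x'))
      (IsScalarTower.toAlgHom (S.presheaf.stalk (f.base (g'.base x')))
        (X.presheaf.stalk (g'.base x')) (X'.presheaf.stalk x'))).toRingHom
  have hφ1 : ∀ a, φ (a ⊗ₜ 1) = (f'.stalkMap x').hom a := fun a => by simp [φ]; rfl
  have hφ2 : ∀ b, φ (1 ⊗ₜ b) = (g'.stalkMap x').hom b := fun b => by simp [φ]; rfl
  have hloc := isLocalization_stalk_pullback hc x' φ hφ1 hφ2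
  refine halg (f'.stalkMap x').hom (g'.stalkMap x').hom φ hφ1 hφ2 hloc ?_
  rcases h with ⟨h1, h2⟩ | h
  · exact Or.inl ⟨essFiniteType_baseStalkMap' hc x' h1, h2⟩
  · exact Or.inr h

theorem gor_CF_baseChange_iff_gen (hc : IsPullback g' f' f g) (x' : X')
    (h : ((g.stalkMap (f' x')).hom.EssFiniteType ∧ IsNoetherianRing (CF f (g' x'))) ∨
      (f.stalkMap (g' x')).hom.EssFiniteType) :
    LocCoh.IsGorensteinLocalRing (CF f (g' x')) ↔ LocCoh.IsGorensteinLocalRing (CF f' x') :=
  CF_baseChange_iff_gen hc x' (fun R _ => LocCoh.IsGorensteinLocalRing R)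
    (fun α β _ _ φ hφ1 hφ2 hloc h => gor_cf_iff_gen α β φ hφ1 hφ2 hloc h) h

theorem cm_CF_baseChange_iff_gen (hc : IsPullback g' f' f g) (x' : X')
    (h : ((g.stalkMap (f' x')).hom.EssFiniteType ∧ IsNoetherianRing (CF f (g' x'))) ∨
      (f.stalkMap (g' x')).hom.EssFiniteType) :
    LocCoh.IsCohenMacaulayLocalRing (CF f (g' x')) ↔ LocCoh.IsCohenMacaulayLocalRing (CF f' x') :=
  CF_baseChange_iff_gen hc x' (fun R _ => LocCoh.IsCohenMacaulayLocalRing R)
    (fun α β _ _ φ hφ1 hφ2 hloc h => cm_cf_iff_gen α β φ hφ1 hφ2 hloc h) h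

/-- S3626: the Gorenstein locus of a flat, locally finite type morphism commutes with arbitrary
base change -/
theorem gorAt_baseChange_iff_of_flat_lft (hc : IsPullback g' f' f g) [Flat f]
    [LocallyOfFiniteType f] (x' : X') :
    Dual3.IsGorensteinAt f' x' ↔ Dual3.IsGorensteinAt f (g' x') := by
  have key := gor_CF_baseChange_iff_gen hc x' (Or.inr (LocallyOfFiniteType.stalkMap f (g' x')))
  constructor
  · intro h
    exact ⟨Flat.stalkMap f (g' x'),
      (gor_fiber_stalk_iff f (g' x')).mpr (key.mpr ((gor_fiber_stalk_iff f' x').mp h.2))⟩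
  · intro h
    exact ⟨flat_stalkMap_baseChange hc x' h.1,
      (gor_fiber_stalk_iff f' x').mpr (key.mp ((gor_fiber_stalk_iff f (g' x')).mp h.2))⟩

theorem essFiniteType_of_iso {A B : CommRingCat.{u}} (e : A ≅ B) : e.hom.hom.EssFiniteType :=
  (RingHom.FiniteType.of_surjective _ (ConcreteCategory.bijective_of_isIso e.hom).2).essFiniteType

set_option backward.isDefEq.respectTransparency.types false in
theorem essFiniteType_stalkMap_SpecMap {R S : CommRingCat.{u}} (φ : R ⟶ S)
    (hφ : φ.hom.EssFiniteType) (p : PrimeSpectrum S) :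
    ((Spec.map φ).stalkMap p).hom.EssFiniteType := by
  rw [← Scheme.localRingHom_comp_stalkIso φ p]
  have h1 := essFiniteType_of_iso (Spec.stalkIso R (p.comap φ.hom))
  have h3 := essFiniteType_of_iso (Spec.stalkIso S p).symm
  refine RingHom.EssFiniteType.comp h1 (RingHom.EssFiniteType.comp ?_ h3)
  exact RingHom.EssFiniteType.holdsForLocalization.localRingHom
    RingHom.EssFiniteType.stableUnderComposition
    RingHom.EssFiniteType.isStableUnderBaseChange.localizationPreserves rfl hφ

open Groth.Agent.Lib.Helper18.FibQuot in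
theorem cm_stalk_iff_of_CF {U V : Scheme.{u}} (h : U ⟶ V) (hV : StalksFields V) (u : U) :
    LocCoh.IsCohenMacaulayLocalRing (CF h u) ↔
      LocCoh.IsCohenMacaulayLocalRing (U.presheaf.stalk u) := by
  obtain ⟨e⟩ := cf_equiv_of_bot h u (hV _)
  constructor
  · intro hc
    haveI := hc
    exact isCohenMacaulayLocalRing_of_ringEquiv e
  · intro hc
    haveI := hc
    exact isCohenMacaulayLocalRing_of_ringEquiv e.symm

/-- S7609 -/
theorem cm_stalk_bc_iff_of_lft (k : Type u) [Field k] (X : Scheme.{u})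
    [X.Over (Spec (CommRingCat.of k))] [LocallyOfFiniteType (X ↘ (Spec (CommRingCat.of k)))]
    (k' : Type u) [Field k'] [Algebra k k'] (x' : ↥(Curv2.bc k X k')) :
    LocCoh.IsCohenMacaulayLocalRing ↥(X.presheaf.stalk (Curv2.bcFst k X k' x')) ↔
      LocCoh.IsCohenMacaulayLocalRing ↥((Curv2.bc k X k').presheaf.stalk x') := by
  have hc := IsPullback.of_hasPullback (X ↘ (Spec (CommRingCat.of k)))
    (Spec.map (CommRingCat.ofHom (algebraMap k k')))
  have key := cm_CF_baseChange_iff_gen hc x' (Or.inr (LocallyOfFiniteType.stalkMap _ _))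
  rw [cm_stalk_iff_of_CF _ (stalksFields_spec_field k), cm_stalk_iff_of_CF _
    (stalksFields_spec_field k')] at key
  exact key

/-- S7608 -/
theorem cm_stalk_bc_iff_of_fg (k : Type u) [Field k] (X : Scheme.{u})
    [X.Over (Spec (CommRingCat.of k))] [IsLocallyNoetherian X]
    (k' : Type u) [Field k'] [Algebra k k'] (hfg : (⊤ : IntermediateField k k').FG)
    (x' : ↥(Curv2.bc k X k')) :
    LocCoh.IsCohenMacaulayLocalRing ↥(X.presheaf.stalk (Curv2.bcFst k X k' x')) ↔
      LocCoh.IsCohenMacaulayLocalRing ↥((Curv2.bc k X k').presheaf.stalk x') := by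
  have hc := IsPullback.of_hasPullback (X ↘ (Spec (CommRingCat.of k)))
    (Spec.map (CommRingCat.ofHom (algebraMap k k')))
  haveI : Algebra.EssFiniteType k k' := IntermediateField.fg_top_iff.mp hfg
  have hess : (CommRingCat.ofHom (algebraMap k k')).hom.EssFiniteType :=
    RingHom.essFiniteType_algebraMap.mpr inferInstance
  have key := cm_CF_baseChange_iff_gen hc x'
    (Or.inl ⟨essFiniteType_stalkMap_SpecMap _ hess _, inferInstance⟩)
  rw [cm_stalk_iff_of_CF _ (stalksFields_spec_field k), cm_stalk_iff_of_CF _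
    (stalksFields_spec_field k')] at key
  exact key

end sch

end Groth.Agent.Lib.Helper14.AS
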