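import Mathlib
import Groth.Agent.Lib.Helper7.WeakAss

universe u
open CategoryTheory

namespace Groth.Agent.Lib.Helper14.AS

open Groth.Agent.Lib.Helper7.WeakAss

section Alg

variable {A C : Type u} [CommRing A] [CommRing C] [Algebra A C]

/-- Lemma 1: isolate a minimal prime over `J` among the (finitely many) primes in its fibre. -/
theorem exists_isolating_element [Algebra.QuasiFinite A C] (J : Ideal C) (P₁ : Ideal C)
    (hP₁ : P₁ ∈ J.minimalPrimes) :
    ∃ c' : C, c' ∉ P₁ ∧ ∀ Q : Ideal C, Q.IsPrime → Q.under A = P₁.under A →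
      (∀ x : C, x * c' ∈ J → x ∈ Q) → Q = P₁ := by
  classical
  have hP₁p : P₁.IsPrime := hP₁.1.1
  have hfin : ((P₁.under A).primesOver C).Finite := Algebra.QuasiFinite.finite_primesOver _
  set F : Finset (Ideal C) := hfin.toFinset.erase P₁ with hF
  have key : ∀ Q : Ideal C, ∃ k : C, k ∉ P₁ ∧ (Q ∈ F → ∃ s : C, s ∉ Q ∧ s * k ∈ J) := by
    intro Q
    by_cases hQ : Q ∈ F
    · have hQ' := Finset.mem_erase.1 hQ
      have hQo : Q ∈ (P₁.under A).primesOver C := hfin.mem_toFinset.1 hQ'.2
      have hQp : Q.IsPrime := hQo.1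
      have hQu : Q.under A = P₁.under A := (hQo.2.over).symm
      have hnle : ¬ P₁ ≤ Q := by
        intro hle
        exact hQ'.1 (Algebra.QuasiFinite.eq_of_le_of_under_eq (R := A) P₁ Q hle hQu.symm).symm
      obtain ⟨s, hs1, hs2⟩ := Set.not_subset.1 hnle
      obtain ⟨k, hk, n, hn⟩ := exists_mul_pow_mem_of_mem_minimalPrimes hP₁ hs1
      refine ⟨k, hk, fun _ => ⟨s ^ n, fun h => hs2 (hQp.mem_of_pow_mem n h), ?_⟩⟩
      rw [mul_comm]; exact hn
    · exact ⟨1, fun h => hP₁p.ne_top ((Ideal.eq_top_iff_one _).2 h), fun h => (hQ h).elim⟩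
  choose k hk1 hk2 using key
  refine ⟨∏ Q ∈ F, k Q, ?_, ?_⟩
  · intro h
    obtain ⟨Q, -, hQ⟩ := (hP₁p.prod_mem_iff).1 h
    exact hk1 Q hQ
  · intro Q hQp hQu hQ
    by_contra hne
    have hQF : Q ∈ F := by
      refine Finset.mem_erase.2 ⟨hne, hfin.mem_toFinset.2 ⟨hQp, ⟨hQu.symm⟩⟩⟩
    obtain ⟨s, hs1, hs2⟩ := hk2 Q hQF
    refine hs1 (hQ s ?_)
    rw [← Finset.mul_prod_erase F k hQF, ← mul_assoc]
    exact J.mul_mem_right _ hs2

/-- Strong schematic density of `⋃_{f ∈ s} D(f)` in `Spec A`, tested on basic opens. -/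
def StrongDense (A : Type u) [CommRing A] (s : Set A) : Prop :=
  ∀ h a : A, (∀ f ∈ s, ∃ n : ℕ, (h * f) ^ n * a = 0) → ∃ n : ℕ, h ^ n * a = 0

/-- The annihilator of an element, as an ideal. -/
def annEl (c : C) : Ideal C := (Submodule.span C ({c} : Set C)).annihilator

theorem mem_annEl {c x : C} : x ∈ annEl c ↔ x * c = 0 := by
  unfold annEl
  rw [Submodule.mem_annihilator_span_singleton, smul_eq_mul]

/-- Lemma 2: finite free algebra followed by a localization. -/
theorem exists_pow_mul_eq_zero_of_finite_free [Module.Finite A C] [Module.Free A C]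
    {s : Set A} (hs : StrongDense A s) (g c : C)
    (h : ∀ f ∈ s, ∃ n m : ℕ, algebraMap A C f ^ n * (g ^ m * c) = 0) :
    ∃ m : ℕ, g ^ m * c = 0 := by
  classical
  by_contra hcon
  push Not at hcon
  -- a minimal prime over `Ann c` not containing `g`
  have hg : g ∉ (annEl c).radical := by
    rintro ⟨m, hm⟩
    exact hcon m (mem_annEl.1 hm)
  rw [← Ideal.sInf_minimalPrimes, Ideal.mem_sInf] at hg
  push Not at hg
  obtain ⟨P₁, hP₁, hgP₁⟩ := hg
  have hP₁p : P₁.IsPrime := hP₁.1.1
  obtain ⟨c', hc', hiso⟩ := exists_isolating_element (A := A) (annEl c) P₁ hP₁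
  set c₁ := c' * c with hc₁
  have hJ₁ : annEl c₁ ≤ P₁ := by
    intro x hx
    have h1 : x * c' ∈ annEl c := by
      rw [mem_annEl, mul_assoc]; exact mem_annEl.1 hx
    exact (hP₁p.mem_or_mem (hP₁.1.2 h1)).resolve_right hc'
  -- an element `h₀ ∈ A ∖ p` in `(g) + Ann c₁`
  have hex : ∃ h₀ : A, h₀ ∉ P₁.under A ∧ algebraMap A C h₀ ∈ Ideal.span {g} ⊔ annEl c₁ := by
    by_contra hno
    push Not at hno
    have hle : (Ideal.span {g} ⊔ annEl c₁).comap (algebraMap A C) ≤ P₁.under A := by
      intro a ha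
      by_contra hna
      exact hno a hna ha
    obtain ⟨Q, hQge, hQp, hQc⟩ := Ideal.exists_ideal_over_prime_of_isIntegral (P₁.under A)
      (Ideal.span {g} ⊔ annEl c₁) hle
    have hQ1 : Q = P₁ := by
      refine hiso Q hQp hQc ?_
      intro x hx
      apply hQge
      refine Ideal.mem_sup_right ?_
      rw [mem_annEl, hc₁, ← mul_assoc]
      exact mem_annEl.1 hx
    apply hgP₁
    rw [← hQ1]
    exact hQge (Ideal.mem_sup_left (Ideal.mem_span_singleton_self g))
  obtain ⟨h₀, hh₀, hmem⟩ := hex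
  obtain ⟨y', hy', z, hz, hyz⟩ := Submodule.mem_sup.1 hmem
  obtain ⟨y, rfl⟩ := Ideal.mem_span_singleton'.1 hy'
  have hzc : z * c₁ = 0 := mem_annEl.1 hz
  -- `h₀ c₁ = g y c₁`
  have e1 : algebraMap A C h₀ * c₁ = g * (y * c₁) := by
    rw [← hyz, add_mul, hzc, add_zero]; ring
  have e2 : ∀ m : ℕ, algebraMap A C h₀ ^ m * c₁ = g ^ m * (y ^ m * c₁) := by
    intro m
    induction m with
    | zero => simp
    | succ m ih =>
      rw [pow_succ, mul_assoc, e1, ← mul_assoc, mul_comm _ g, mul_assoc, mul_left_comm _ y, ih]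
      ring
  -- coordinates
  let e := Module.Free.chooseBasis A C
  have hcoord : ∀ r : A, algebraMap A C r * c₁ = 0 ↔ ∀ j, r * e.repr c₁ j = 0 := by
    intro r
    rw [← Algebra.smul_def, ← map_eq_zero_iff _ e.repr.injective, map_smul]
    constructor
    · intro h0 j
      have := DFunLike.congr_fun h0 j
      simpa using this
    · intro h0
      ext j
      simpa using h0 j
  have hN : ∀ j, ∃ n : ℕ, h₀ ^ n * e.repr c₁ j = 0 := by
    intro j
    apply hs
    intro f hf
    obtain ⟨n, m, hnm⟩ := h f hf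
    refine ⟨max n m, ?_⟩
    have h1 : algebraMap A C ((h₀ * f) ^ max n m) * c₁ = 0 := by
      have h2 : algebraMap A C f ^ n * (algebraMap A C h₀ ^ m * c₁) = 0 := by
        rw [e2 m, hc₁]
        calc algebraMap A C f ^ n * (g ^ m * (y ^ m * (c' * c)))
            = (y ^ m * c') * (algebraMap A C f ^ n * (g ^ m * c)) := by ring
          _ = 0 := by rw [hnm, mul_zero]
      have h3 : (h₀ * f) ^ max n m = (h₀ ^ (max n m - m) * f ^ (max n m - n)) * (f ^ n * h₀ ^ m) := by
        rw [mul_pow]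
        have hn' : max n m - n + n = max n m := Nat.sub_add_cancel (le_max_left n m)
        have hm' : max n m - m + m = max n m := Nat.sub_add_cancel (le_max_right n m)
        calc h₀ ^ max n m * f ^ max n m = h₀ ^ (max n m - m + m) * f ^ (max n m - n + n) := by
              rw [hn', hm']
          _ = _ := by rw [pow_add, pow_add]; ring
      rw [h3, map_mul, mul_assoc]
      have h4 : algebraMap A C (f ^ n * h₀ ^ m) * c₁ = 0 := by
        rw [map_mul, map_pow, map_pow, mul_assoc]; exact h2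
      rw [h4, mul_zero]
    exact (hcoord _).1 h1 j
  choose N hN using hN
  have : Fintype (Module.Free.ChooseBasisIndex A C) := inferInstance
  set M := Finset.univ.sup N with hM
  have hfin : algebraMap A C (h₀ ^ M) * c₁ = 0 := by
    rw [hcoord]
    intro j
    have hle : N j ≤ M := Finset.le_sup (Finset.mem_univ j)
    rw [← Nat.sub_add_cancel hle, pow_add, mul_assoc, hN j, mul_zero]
  have h5 : algebraMap A C (h₀ ^ M) ∈ P₁ := hJ₁ (mem_annEl.2 hfin)
  have h6 : h₀ ^ M ∈ P₁.under A := h5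
  exact hh₀ ((Ideal.IsPrime.under A P₁).mem_of_pow_mem M h6)

/-- Lemma 3: strong density pulls back along étale ring maps (global sections). -/
theorem eq_zero_of_etale {B : Type u} [CommRing B] [Algebra A B] [Algebra.Etale A B]
    {s : Set A} (hs : StrongDense A s) (b : B)
    (h : ∀ f ∈ s, ∃ n : ℕ, algebraMap A B f ^ n * b = 0) : b = 0 := by
  classical
  by_contra hb
  have hne : annEl b ≠ ⊤ := by
    intro htop
    have : (1 : B) ∈ annEl b := htop ▸ Submodule.mem_top
    rw [mem_annEl, one_mul] at this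
    exact hb this
  obtain ⟨P, hP⟩ := Ideal.nonempty_minimalPrimes hne
  have hPp : P.IsPrime := hP.1.1
  obtain ⟨g₀, hg₀, hstd⟩ := Algebra.IsEtaleAt.exists_isStandardEtale (R := A) P
  obtain ⟨Pr⟩ := hstd.nonempty_standardEtalePresentation
  let C := AdjoinRoot Pr.f
  let g : C := AdjoinRoot.mk Pr.f Pr.g
  let E : Localization.Away g₀ ≃ₐ[A] Localization.Away g :=
    Pr.equivRing.trans Pr.P.equivAwayAdjoinRoot
  have : Module.Finite A C := Pr.monic_f.finite_adjoinRoot
  have : Module.Free A C := Pr.monic_f.free_adjoinRoot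
  -- the image of `b`
  set β : Localization.Away g := E (algebraMap B (Localization.Away g₀) b) with hβ
  obtain ⟨⟨c, ⟨_, k, rfl⟩⟩, hc⟩ := IsLocalization.surj (Submonoid.powers g) β
  have hc' : β * algebraMap C (Localization.Away g) (g ^ k) = algebraMap C (Localization.Away g) c := hc
  -- `g^m c ≠ 0` for all `m`
  have hcon : ∀ m : ℕ, g ^ m * c ≠ 0 := by
    intro m hm
    have h1 : algebraMap C (Localization.Away g) (g ^ m * c) = 0 := by rw [hm, map_zero]
    rw [map_mul, ← hc', map_pow, map_pow] at h1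
    have hu : IsUnit (algebraMap C (Localization.Away g) g) := IsLocalization.Away.algebraMap_isUnit g
    have h2 : β = 0 := by
      have h3 : (algebraMap C (Localization.Away g) g ^ m * algebraMap C (Localization.Away g) g ^ k) * β = 0 := by
        rw [← h1]; ring
      exact ((hu.pow m).mul (hu.pow k)).mul_right_eq_zero.1 h3
    have h4 : algebraMap B (Localization.Away g₀) b = 0 := by
      apply E.injective
      rw [map_zero]; exact h2
    obtain ⟨⟨_, n, rfl⟩, hn⟩ := (IsLocalization.map_eq_zero_iff (Submonoid.powers g₀) _ _).1 h4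
    have h5 : g₀ ^ n ∈ annEl b := mem_annEl.2 hn
    exact hg₀ (hPp.mem_of_pow_mem n (hP.1.2 h5))
  have hyp : ∀ f ∈ s, ∃ n m : ℕ, algebraMap A C f ^ n * (g ^ m * c) = 0 := by
    intro f hf
    obtain ⟨n, hn⟩ := h f hf
    have h1 : algebraMap A (Localization.Away g) f ^ n * β = 0 := by
      rw [hβ, ← E.commutes, ← map_pow, ← map_mul, IsScalarTower.algebraMap_apply A B (Localization.Away g₀),
        ← map_pow, ← map_mul, hn, map_zero, map_zero]
    have h2 : algebraMap C (Localization.Away g) (algebraMap A C f ^ n * c) = 0 := by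
      rw [map_mul, ← hc', map_pow, ← IsScalarTower.algebraMap_apply, ← mul_assoc, h1, zero_mul]
    obtain ⟨⟨_, m, rfl⟩, hm⟩ := (IsLocalization.map_eq_zero_iff (Submonoid.powers g) _ _).1 h2
    refine ⟨n, m, ?_⟩
    rw [← hm]; ring
  obtain ⟨m, hm⟩ := exists_pow_mul_eq_zero_of_finite_free (A := A) hs g c hyp
  exact hcon m hm

end Alg

end Groth.Agent.Lib.Helper14.AS
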