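import Mathlib
import Groth.Agent.Lib.Helper12.SchDense
import Groth.Agent.Lib.Helper14.EtDense1

universe u
open CategoryTheory AlgebraicGeometry TopologicalSpace

namespace Groth.Agent.Lib.Helper14.AS

open Groth.Agent.Lib.Helper14.AS Groth.Agent.Lib.Helper12.SchDense

theorem strongDense_of_isSchematicallyDense {X : Scheme.{u}} {W : X.Opens} (hW : IsAffineOpen W)
    (O : X.Opens) (hO : CInt.IsSchematicallyDense O) :
    StrongDense Γ(X, W) {a | X.basicOpen a ≤ O} := by
  intro h a hyp
  have H : X.presheaf.map (homOfLE (X.basicOpen_le h)).op a = 0 := by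
    apply hO (X.basicOpen h)
    rw [map_zero]
    refine TopCat.Presheaf.section_ext X.sheaf _ _ 0 ?_
    intro x hx
    have hxW : x ∈ W := X.basicOpen_le h hx.1
    obtain ⟨f, hfle, hxf⟩ := hW.exists_basicOpen_le (V := O) ⟨x, hx.2⟩ hxW
    obtain ⟨n, hn⟩ := hyp f hfle
    have hu : IsUnit (X.presheaf.germ W x hxW (h * f)) := by
      rw [map_mul]
      exact ((X.mem_basicOpen h x hxW).1 hx.1).mul ((X.mem_basicOpen f x hxW).1 hxf)
    have h1 := congrArg (X.presheaf.germ W x hxW) hn
    rw [map_mul, map_pow, map_zero] at h1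
    have h2 : X.presheaf.germ W x hxW a = 0 := (hu.pow n).mul_right_eq_zero.1 h1
    have h3 := TopCat.Presheaf.germ_res_apply X.presheaf
      (homOfLE ((inf_le_left : X.basicOpen h ⊓ O ≤ X.basicOpen h).trans (X.basicOpen_le h))) x hx a
    have h4 : X.presheaf.map (homOfLE (inf_le_left : X.basicOpen h ⊓ O ≤ X.basicOpen h)).op
        (X.presheaf.map (homOfLE (X.basicOpen_le h)).op a) =
        X.presheaf.map (homOfLE ((inf_le_left : X.basicOpen h ⊓ O ≤ X.basicOpen h).trans
          (X.basicOpen_le h))).op a := by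
      rw [← CommRingCat.comp_apply, ← Functor.map_comp]; rfl
    change X.presheaf.germ _ x hx _ = X.presheaf.germ _ x hx 0
    rw [map_zero, h4, h3, h2]
  exact exists_pow_mul_eq_zero_of_res_basicOpen_eq_zero_of_isAffineOpen X hW a h H

theorem injective_of_etale {X X' : Scheme.{u}} (f : X' ⟶ X) [Etale f] (V : X.Opens)
    (hV : CInt.IsSchematicallyDense V)
    {W : X.Opens} (hW : IsAffineOpen W) {W' : X'.Opens} (hW' : IsAffineOpen W')
    (e : W' ≤ f ⁻¹ᵁ W) :
    Function.Injective
      (X'.presheaf.map (homOfLE (inf_le_left : W' ⊓ f ⁻¹ᵁ V ≤ W')).op) := by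
  classical
  rw [injective_iff_map_eq_zero]
  intro t ht
  set φ := (f.appLE W W' e).hom with hφ
  have hφet : φ.Etale := HasRingHomProperty.appLE (P := @Etale) f inferInstance ⟨W, hW⟩ ⟨W', hW'⟩ e
  algebraize [φ]
  refine eq_zero_of_etale (A := Γ(X, W)) (strongDense_of_isSchematicallyDense hW V hV) t ?_
  intro b hb
  have hle : X'.basicOpen (φ b) ≤ W' ⊓ f ⁻¹ᵁ V := by
    rw [hφ, Scheme.basicOpen_appLE]
    refine inf_le_inf_left _ ?_
    intro x hx
    exact hb hx
  have H : X'.presheaf.map (homOfLE (X'.basicOpen_le (φ b))).op t = 0 := by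
    have h1 : X'.presheaf.map (homOfLE (X'.basicOpen_le (φ b))).op t =
        X'.presheaf.map (homOfLE hle).op
          (X'.presheaf.map (homOfLE (inf_le_left : W' ⊓ f ⁻¹ᵁ V ≤ W')).op t) := by
      rw [← CommRingCat.comp_apply, ← Functor.map_comp]
      rfl
    rw [h1, ht, map_zero]
  exact exists_pow_mul_eq_zero_of_res_basicOpen_eq_zero_of_isAffineOpen X' hW' t (φ b) H

/-- **Étale pullback preserves (strong) schematic density of opens** (no quasi-compactness). -/
theorem preimage_of_etale {X X' : Scheme.{u}} (f : X' ⟶ X) [Etale f] (V : X.Opens)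
    (hV : CInt.IsSchematicallyDense V) :
    CInt.IsSchematicallyDense (f ⁻¹ᵁ V) := by
  refine of_basis _ {W' : X'.Opens | IsAffineOpen W' ∧ ∃ W : X.Opens, IsAffineOpen W ∧
    W' ≤ f ⁻¹ᵁ W} ?_ ?_
  · rw [Opens.isBasis_iff_nbhd]
    intro U x hx
    obtain ⟨W, hW, hxW, -⟩ := (Opens.isBasis_iff_nbhd.1 X.isBasis_affineOpens)
      (show f x ∈ (⊤ : X.Opens) from trivial)
    obtain ⟨W', hW', hxW', hW'U⟩ := (Opens.isBasis_iff_nbhd.1 X'.isBasis_affineOpens)
      (show x ∈ f ⁻¹ᵁ W ⊓ U from ⟨hxW, hx⟩)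
    exact ⟨W', ⟨hW', W, hW, hW'U.trans inf_le_left⟩, hxW', hW'U.trans inf_le_right⟩
  · rintro W' ⟨hW', W, hW, e⟩
    exact injective_of_etale f V hV hW hW' e

set_option backward.isDefEq.respectTransparency.types false in
/-- Sections pulled back along a flat surjective morphism: injective. -/
theorem app_injective_of_flat_surjective {X X' : Scheme.{u}} (f : X' ⟶ X) [Flat f] [Surjective f]
    (U : X.Opens) : Function.Injective (f.app U) := by
  rw [injective_iff_map_eq_zero]
  intro a ha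
  refine TopCat.Presheaf.section_ext X.sheaf U a 0 ?_
  intro x hx
  obtain ⟨y, rfl⟩ := f.surjective x
  change X.presheaf.germ U (f y) hx a = X.presheaf.germ U (f y) hx 0
  rw [map_zero]
  have hinj : Function.Injective (f.stalkMap y) := by
    algebraize [(f.stalkMap y).hom]
    have : Module.FaithfullyFlat (X.presheaf.stalk (f y)) (X'.presheaf.stalk y) :=
      @Module.FaithfullyFlat.of_flat_of_isLocalHom _ _ _ _ _ _ _
        (Flat.stalkMap f y) (f.toLRSHom.prop y)
    exact ‹RingHom.FaithfullyFlat _›.injective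
  apply hinj
  rw [map_zero, Scheme.Hom.germ_stalkMap_apply, ha, map_zero]

/-- Descent of schematic density along flat surjective morphisms. -/
theorem of_preimage_of_flat_surjective {X X' : Scheme.{u}} (f : X' ⟶ X) [Flat f] [Surjective f]
    (V : X.Opens) (hV : CInt.IsSchematicallyDense (f ⁻¹ᵁ V)) : CInt.IsSchematicallyDense V := by
  intro U
  rw [injective_iff_map_eq_zero]
  intro a ha
  apply app_injective_of_flat_surjective f U
  rw [map_zero]
  apply hV (f ⁻¹ᵁ U)
  rw [map_zero]
  have h1 : X'.presheaf.map (homOfLE (inf_le_left : f ⁻¹ᵁ U ⊓ f ⁻¹ᵁ V ≤ f ⁻¹ᵁ U)).op (f.app U a) =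
      f.app (U ⊓ V) (X.presheaf.map (homOfLE (inf_le_left : U ⊓ V ≤ U)).op a) := by
    rw [← CommRingCat.comp_apply, ← CommRingCat.comp_apply]
    congr 2
    exact (f.naturality (homOfLE (inf_le_left : U ⊓ V ≤ U)).op).symm
  rw [h1, ha, map_zero]
  rfl

end Groth.Agent.Lib.Helper14.AS
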