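import Mathlib
import Groth.Prelude.Def_AlgSpSub
import Groth.Agent.Lib.Helper14.EtDense2
import Groth.Agent.Lib.Helper14.AlgSpImm
import Groth.Agent.Lib.Helper14.AlgSpPoints

universe u
open CategoryTheory AlgebraicGeometry TopologicalSpace

namespace Groth.Agent.Lib.Helper14.AS
open Groth.Agent.Lib.Helper14.AS Groth.Agent.Lib.Helper12.SchDense AlgSp CategoryTheory.Limits

variable {S : Scheme.{u}}

/-- An open pulled back from `j` on a chart is the preimage of the range of `|j|`. -/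
theorem coe_eq_preimage_of_isPullback {F G : Sp S} {j : G ⟶ F} {V : Over S}
    {φ : (yon S).obj V ⟶ F} {W : V.left.Opens}
    {fst : (yon S).obj (Over.mk (W.ι ≫ V.hom)) ⟶ G}
    (sq : IsPullback fst ((yon S).map (Over.homMk W.ι rfl : Over.mk (W.ι ≫ V.hom) ⟶ V)) j φ) :
    (W : Set V.left) = Points.ofPt φ ⁻¹' Set.range (Points.map j) := by
  rw [← range_snd_eq_preimage sq]
  exact (Scheme.Opens.range_ι W).symm

set_option backward.isDefEq.respectTransparency.types false in
/-- (2) ⇒ (1): schematic density on one chart gives schematic density on every étale chart. -/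
theorem isSchematicallyDense_chart_of_isSchDense {F G : Sp S} {j : G ⟶ F} (hj : IsSchDense j)
    (V : Over S) (φ : (yon S).obj V ⟶ F) (hφ : RepWith @Etale φ) (W : V.left.Opens)
    (fst : (yon S).obj (Over.mk (W.ι ≫ V.hom)) ⟶ G)
    (sq : IsPullback fst ((yon S).map (Over.homMk W.ι rfl : Over.mk (W.ι ≫ V.hom) ⟶ V)) j φ) :
    CInt.IsSchematicallyDense W := by
  obtain ⟨-, V₀, φ₀, W₀, fst₀, hφ₀e, hφ₀s, sq₀, hd⟩ := hj
  have sqR := hφ₀e.rep.isPullback' φ
  have hp₂e : Etale (hφ₀e.rep.snd φ).left := hφ₀e.property_snd _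
  have hp₂s : Surjective (hφ₀e.rep.snd φ).left := hφ₀s.property _ _ _ sqR
  have hp₁e : Etale (hφ₀e.rep.fst' φ).left := hφ.property _ _ _ sqR.flip
  have heq : (hφ₀e.rep.snd φ).left ⁻¹ᵁ W = (hφ₀e.rep.fst' φ).left ⁻¹ᵁ W₀ := by
    apply TopologicalSpace.Opens.ext
    ext r
    change (hφ₀e.rep.snd φ).left r ∈ (W : Set V.left) ↔ (hφ₀e.rep.fst' φ).left r ∈ (W₀ : Set V₀.left)
    rw [coe_eq_preimage_of_isPullback sq, coe_eq_preimage_of_isPullback sq₀, Set.mem_preimage,
      Set.mem_preimage, ← ofPt_yon_map_comp, ← ofPt_yon_map_comp, sqR.w]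
  have h1 : CInt.IsSchematicallyDense ((hφ₀e.rep.fst' φ).left ⁻¹ᵁ W₀) :=
    preimage_of_etale _ W₀ hd
  rw [← heq] at h1
  have : Flat (hφ₀e.rep.snd φ).left := inferInstance
  exact of_preimage_of_flat_surjective (hφ₀e.rep.snd φ).left W h1

end Groth.Agent.Lib.Helper14.AS
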