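import Mathlib
import Groth.Prelude.Def_AlgSpSub
import Groth.Agent.Lib.Helper14.EtDense3
import Groth.Agent.Lib.Helper14.SchImg7

universe u
open CategoryTheory AlgebraicGeometry TopologicalSpace

namespace Groth.Agent.Lib.Helper14.AS
open Groth.Agent.Lib.Helper14.AS Groth.Agent.Lib.Helper12.SchDense AlgSp CategoryTheory.Limits

variable {S : Scheme.{u}}

/-- The intersection of two schematically dense opens is schematically dense. -/
theorem inf_isSchematicallyDense {X : Scheme.{u}} {U V : X.Opens}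
    (hU : CInt.IsSchematicallyDense U) (hV : CInt.IsSchematicallyDense V) :
    CInt.IsSchematicallyDense (U ⊓ V) := by
  intro O
  rw [injective_iff_map_eq_zero]
  intro a ha
  apply hU O
  rw [map_zero]
  apply hV (O ⊓ U)
  rw [map_zero]
  have hle : (O ⊓ U) ⊓ V ≤ O ⊓ (U ⊓ V) := le_of_eq (inf_assoc _ _ _)
  have h1 : X.presheaf.map (homOfLE (inf_le_left : (O ⊓ U) ⊓ V ≤ O ⊓ U)).op
      (X.presheaf.map (homOfLE (inf_le_left : O ⊓ U ≤ O)).op a) =
      X.presheaf.map (homOfLE hle).op
        (X.presheaf.map (homOfLE (inf_le_left : O ⊓ (U ⊓ V) ≤ O)).op a) := by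
    rw [← CommRingCat.comp_apply, ← CommRingCat.comp_apply, ← Functor.map_comp, ← Functor.map_comp]
    rfl
  rw [h1, ha, map_zero]

theorem range_points_map_of_isPullback {F G H P : Sp S} {fst : P ⟶ F} {snd : P ⟶ G} {f : F ⟶ H}
    {g : G ⟶ H} (sq : IsPullback fst snd f g) :
    Set.range (Points.map (fst ≫ f)) = Set.range (Points.map f) ∩ Set.range (Points.map g) := by
  ext x
  constructor
  · rintro ⟨z, rfl⟩
    refine ⟨⟨Points.map fst z, (Points.map_comp _ _ _).symm⟩, ⟨Points.map snd z, ?_⟩⟩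
    rw [← Points.map_comp, sq.w]
  · rintro ⟨⟨y, rfl⟩, ⟨y', hy'⟩⟩
    obtain ⟨z, hz1, -⟩ := points_exists_of_isPullback sq y y' hy'.symm
    exact ⟨z, by rw [Points.map_comp, hz1]⟩

set_option backward.isDefEq.respectTransparency.types false in
/-- The intersection of two scheme theoretically dense open subspaces is scheme theoretically dense. -/
theorem isSchDense_inter {U V X P : Sp S} {jU : U ⟶ X} {jV : V ⟶ X} (hU : IsSchDense jU)
    (hV : IsSchDense jV) {fst : P ⟶ U} {snd : P ⟶ V} (sq : IsPullback fst snd jU jV) :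
    IsSchDense (fst ≫ jU) := by
  have hfst : RepWith @IsOpenImmersion fst := repWith_of_isPullback _ sq.flip hV.1
  have hcomp : RepWith @IsOpenImmersion (fst ≫ jU) := repWith_comp _ hfst hU.1
  obtain ⟨-, V₀, φ₀, WU, fstU, hφe, hφs, sqU, hdU⟩ := hU
  obtain ⟨WV, fstV, sqV⟩ := exists_opens_of_repWith_isOpenImmersion hV.1 φ₀
  have hdV : CInt.IsSchematicallyDense WV :=
    isSchematicallyDense_chart_of_isSchDense hV V₀ φ₀ hφe WV fstV sqV
  obtain ⟨W, fstW, sqW⟩ := exists_opens_of_repWith_isOpenImmersion hcomp φ₀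
  have hW : W = WU ⊓ WV := by
    apply TopologicalSpace.Opens.ext
    rw [TopologicalSpace.Opens.coe_inf, coe_eq_preimage_of_isPullback sqW,
      coe_eq_preimage_of_isPullback sqU, coe_eq_preimage_of_isPullback sqV,
      range_points_map_of_isPullback sq, Set.preimage_inter]
  refine ⟨hcomp, V₀, φ₀, W, fstW, hφe, hφs, sqW, ?_⟩
  rw [hW]
  exact inf_isSchematicallyDense hdU hdV

end Groth.Agent.Lib.Helper14.AS
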