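import Mathlib
import Groth.Prelude.Def_AlgSpSub
import Groth.Prelude.Def_AlgSpOX2
import Groth.Agent.Lib.Helper14.EtDense4
import Groth.Agent.Lib.Helper14.EtSite1

universe u
open CategoryTheory AlgebraicGeometry TopologicalSpace Opposite

namespace Groth.Agent.Lib.Helper14.AS
open AlgSp CategoryTheory.Limits Groth.Agent.Lib.Helper14.AS

variable {S : Scheme.{u}}

theorem injective_app_of_mono {X : Sp S} {F G : Sheaf (etTop X) RingCat.{u+1}} (f : F ⟶ G) [Mono f]
    (E : EtOver X) : Function.Injective (f.hom.app (op E)) := by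
  have h1 : Mono f.hom := (sheafToPresheaf _ _).map_mono f
  have h2 : Mono (f.hom.app (op E)) := inferInstance
  exact (ConcreteCategory.mono_iff_injective_of_preservesPullback _).1 h2

theorem mono_of_injective_app {X : Sp S} {F G : Sheaf (etTop X) RingCat.{u+1}} (f : F ⟶ G)
    (h : ∀ E : EtOver X, Function.Injective (f.hom.app (op E))) : Mono f := by
  have : ∀ E : (EtOver X)ᵒᵖ, Mono (f.hom.app E) := fun E =>
    ConcreteCategory.mono_of_injective _ (h E.unop)
  have : Mono f.hom := NatTrans.mono_of_mono_app _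
  exact Sheaf.Hom.mono_of_presheaf_mono _ _ f

set_option backward.isDefEq.respectTransparency.types false in
/-- `appTop` of an open immersion with schematically dense range is injective. -/
theorem appTop_injective_of_isSchematicallyDense {X Y : Scheme.{u}} (g : Y ⟶ X) [IsOpenImmersion g]
    (hd : CInt.IsSchematicallyDense g.opensRange) : Function.Injective g.appTop := by
  rw [injective_iff_map_eq_zero]
  intro a ha
  apply hd ⊤
  rw [map_zero]
  refine TopCat.Presheaf.section_ext X.sheaf _ _ 0 ?_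
  intro x hx
  obtain ⟨y, rfl⟩ := hx.2
  have h3 := TopCat.Presheaf.germ_res_apply X.presheaf
    (homOfLE (inf_le_left : ⊤ ⊓ g.opensRange ≤ ⊤)) (g y) hx a
  change X.presheaf.germ _ (g y) hx _ = X.presheaf.germ _ (g y) hx 0
  rw [map_zero, h3]
  have hinj : Function.Injective (g.stalkMap y) :=
    ((ConcreteCategory.isIso_iff_bijective (g.stalkMap y)).1 inferInstance).1
  apply hinj
  rw [map_zero, Scheme.Hom.germ_stalkMap_apply]
  have : g.app ⊤ a = 0 := ha
  rw [this, map_zero]

set_option backward.isDefEq.respectTransparency.types false in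
/-- Injectivity of restriction from injectivity on a chart covering `O ⊓ W`. -/
theorem injective_res_of_appTop_injective {V₀ Y : Scheme.{u}} (W O : V₀.Opens) (g : Y ⟶ (O : Scheme.{u}))
    (hg : Function.Injective g.appTop) (hr : ∀ y, O.ι (g y) ∈ W) :
    Function.Injective (V₀.presheaf.map (homOfLE (inf_le_left : O ⊓ W ≤ O)).op) := by
  rw [injective_iff_map_eq_zero]
  intro a ha
  have e1 : (⊤ : Y.Opens) ≤ (g ≫ O.ι) ⁻¹ᵁ (O ⊓ W) := by
    intro y _
    exact ⟨(g y).2, hr y⟩
  have e0 : (⊤ : Y.Opens) ≤ (g ≫ O.ι) ⁻¹ᵁ O := e1.trans (fun y hy => hy.1)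
  have h1 : (g ≫ O.ι).appLE O ⊤ e0 a = 0 := by
    have := Scheme.Hom.map_appLE (g ≫ O.ι) e1 (homOfLE (inf_le_left : O ⊓ W ≤ O)).op
    have h2 := congrArg (fun k => k a) (congrArg (fun k => k.hom) this)
    change (g ≫ O.ι).appLE (O ⊓ W) ⊤ e1 (V₀.presheaf.map (homOfLE _).op a) = (g ≫ O.ι).appLE O ⊤ _ a at h2
    rw [← h2, ha, map_zero]
  have e2 : (⊤ : (O : Scheme.{u}).Opens) ≤ O.ι ⁻¹ᵁ O := fun o _ => o.2
  have h3 : (g ≫ O.ι).appLE O ⊤ e0 = O.ι.appLE O ⊤ e2 ≫ g.appLE ⊤ ⊤ le_top :=
    (Scheme.Hom.appLE_comp_appLE g O.ι O ⊤ ⊤ e2 le_top).symm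
  have h4 : g.appLE ⊤ ⊤ le_top = g.appTop := by
    simp [Scheme.Hom.appLE]
  rw [h3, h4, CommRingCat.comp_apply] at h1
  have h5 : O.ι.appLE O ⊤ e2 a = 0 := hg (by rw [h1, map_zero])
  rw [Scheme.Opens.ι_appLE] at h5
  have hle : O ≤ O.ι ''ᵁ ⊤ := by rw [Scheme.Opens.ι_image_top]
  have h5' : V₀.presheaf.map
      (homOfLE (show O.ι ''ᵁ ⊤ ≤ O from Set.image_subset_iff.mpr e2)).op a = 0 := h5
  have h6 : V₀.presheaf.map (homOfLE hle).op (V₀.presheaf.map
      (homOfLE (show O.ι ''ᵁ ⊤ ≤ O from Set.image_subset_iff.mpr e2)).op a) = 0 := by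
    rw [h5', map_zero]
  rw [← CommRingCat.comp_apply, ← Functor.map_comp] at h6
  have h7 : (homOfLE (show O.ι ''ᵁ ⊤ ≤ O from Set.image_subset_iff.mpr e2)).op ≫
      (homOfLE hle).op = 𝟙 (op O) := rfl
  rw [h7, V₀.presheaf.map_id] at h6
  exact h6


set_option backward.isDefEq.respectTransparency false in
/-- The component of `O_X ⟶ j_* O_U` is injective iff `appTop` of the projection is. -/
theorem injective_bcRingHom_app_iff {X Y : Sp S} {f : X ⟶ Y} (hf : Representable f)
    (E : EtOver Y) :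
    Function.Injective ((bcRingHom hf).hom.app (op E)) ↔
      Function.Injective (hf.snd E.obj.hom).left.appTop := by
  constructor
  · intro h a b hab
    have := @h (ULift.up a : ULift.{u + 1} Γ(E.obj.left.left, ⊤)) (ULift.up b) (ULift.ext _ _ hab)
    exact congrArg ULift.down this
  · intro h a b hab
    change ULift.{u + 1} Γ(E.obj.left.left, ⊤) at a b
    have h1 : (hf.snd E.obj.hom).left.appTop a.down = (hf.snd E.obj.hom).left.appTop b.down :=
      congrArg ULift.down hab
    exact ULift.ext _ _ (h h1)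

set_option backward.isDefEq.respectTransparency false in
theorem isSchematicallyDense_opensRange_snd {F G : Sp S} {j : G ⟶ F} (hj : IsSchDense j)
    {V : Over S} (φ : (yon S).obj V ⟶ F) (hφ : RepWith @Etale φ)
    [IsOpenImmersion (hj.1.rep.snd φ).left] :
    CInt.IsSchematicallyDense (hj.1.rep.snd φ).left.opensRange := by
  obtain ⟨W, fst, sq⟩ := exists_opens_of_repWith_isOpenImmersion hj.1 φ
  have hd : CInt.IsSchematicallyDense W :=
    isSchematicallyDense_chart_of_isSchDense hj V φ hφ W fst sq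
  have hW : W = (hj.1.rep.snd φ).left.opensRange := by
    apply TopologicalSpace.Opens.ext
    rw [coe_eq_preimage_of_isPullback sq, ← range_snd_eq_preimage (hj.1.rep.isPullback φ)]
    rfl
  rw [← hW]
  exact hd

set_option backward.isDefEq.respectTransparency false in
theorem mono_bcRingHom_of_isSchDense {F G : Sp S} {j : G ⟶ F} (hj : IsSchDense j) :
    Mono (bcRingHom hj.1.rep) := by
  refine mono_of_injective_app _ fun E => ?_
  rw [injective_bcRingHom_app_iff]
  have : IsOpenImmersion (hj.1.rep.snd E.obj.hom).left := hj.1.property_snd _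
  exact appTop_injective_of_isSchematicallyDense _
    (isSchematicallyDense_opensRange_snd hj E.obj.hom E.property)

set_option backward.isDefEq.respectTransparency false in
theorem isSchDense_of_mono_bcRingHom {F G : Sp S} (hF : IsAlgSpace F) {j : G ⟶ F}
    (hj : RepWith @IsOpenImmersion j) (hm : Mono (bcRingHom hj.rep)) : IsSchDense j := by
  obtain ⟨V₀, φ₀, hφe, hφs⟩ := hF.atlas
  obtain ⟨W, fst, sq⟩ := exists_opens_of_repWith_isOpenImmersion hj φ₀
  refine ⟨hj, V₀, φ₀, W, fst, hφe, hφs, sq, ?_⟩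
  intro O
  let E₀ : EtOver F := EtOver.mk φ₀ hφe
  let E := openObj E₀ O
  have hinj : Function.Injective (hj.rep.snd E.obj.hom).left.appTop :=
    (injective_bcRingHom_app_iff hj.rep E).1 (injective_app_of_mono _ E)
  refine injective_res_of_appTop_injective W O (hj.rep.snd E.obj.hom).left hinj ?_
  intro y
  change _ ∈ (W : Set V₀.left)
  rw [coe_eq_preimage_of_isPullback sq, Set.mem_preimage]
  have h1 : (hj.rep.snd E.obj.hom).left y ∈ Points.ofPt E.obj.hom ⁻¹' Set.range (Points.map j) := by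
    rw [← range_snd_eq_preimage (hj.rep.isPullback E.obj.hom)]
    exact ⟨y, rfl⟩
  rw [Set.mem_preimage] at h1
  have h2 := ofPt_yon_map_comp (Over.homMk O.ι rfl : Over.mk (O.ι ≫ V₀.hom) ⟶ V₀) φ₀
    ((hj.rep.snd E.obj.hom).left y)
  exact h2 ▸ h1

end Groth.Agent.Lib.Helper14.AS
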