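import Groth.Prelude.Def_AlgSpCov
import Groth.Agent.Lib.Helper14.FppfDescSp
import Groth.Agent.Lib.Helper14.EtDesc1

universe u
set_option linter.style.haveILetI false
set_option linter.unusedSectionVars false
open CategoryTheory CategoryTheory.Limits AlgebraicGeometry Opposite Topology

namespace Groth.Agent.Lib.Helper14.AS
open AlgSp

variable {S : Scheme.{u}}

set_option backward.isDefEq.respectTransparency.types false in
/-- `LocP smooth` is fppf local on the source: jointly surjective family form -/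
theorem locP_smooth_of_fppf_family {ι : Type u} {X Y : Sp S} (hX : IsAlgSpace X)
    (Xi : ι → Sp S) (g : ∀ i, Xi i ⟶ X) (hXi : ∀ i, IsAlgSpace (Xi i))
    (hfl : ∀ i, LocP @Flat (g i)) (hfp : ∀ i, LocP @LocallyOfFinitePresentation (g i))
    (hsurj : ∀ x : Points X, ∃ i, x ∈ Set.range (Points.map (g i)))
    (f : X ⟶ Y) (H : ∀ i, LocP @Smooth (g i ≫ f)) :
    LocP @Smooth f := by
  intro U V a b h ha hb comm
  refine smooth_of_forall_exists_fppf h.left fun u => ?_
  obtain ⟨i, xi, hxi⟩ := hsurj (Points.ofPt a u)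
  obtain ⟨Ui, ai, hi, ui, hai, commi, -, hui⟩ :=
    exists_chart_diagram_over (hXi i) hX (g i) a ha xi u hxi.symm
  have comm' : ai ≫ (g i ≫ f) = (yon S).map (hi ≫ h) ≫ b := by
    rw [← Category.assoc, commi, Category.assoc, comm, ← Category.assoc, ← Functor.map_comp]
  refine ⟨Ui.left, hi.left, hfl i ai a hi hai ha commi, hfp i ai a hi hai ha commi, ?_,
    ⟨ui, hui⟩⟩
  have := H i ai b (hi ≫ h) hai hb comm'
  rwa [Over.comp_left] at this

set_option backward.isDefEq.respectTransparency.types false in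
/-- `LocP etale` is fppf local on the source: jointly surjective family form -/
theorem locP_etale_of_fppf_family {ι : Type u} {X Y : Sp S} (hX : IsAlgSpace X)
    (Xi : ι → Sp S) (g : ∀ i, Xi i ⟶ X) (hXi : ∀ i, IsAlgSpace (Xi i))
    (hfl : ∀ i, LocP @Flat (g i)) (hfp : ∀ i, LocP @LocallyOfFinitePresentation (g i))
    (hsurj : ∀ x : Points X, ∃ i, x ∈ Set.range (Points.map (g i)))
    (f : X ⟶ Y) (H : ∀ i, LocP @Etale (g i ≫ f)) :
    LocP @Etale f := by
  intro U V a b h ha hb comm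
  refine etale_of_forall_exists_fppf h.left fun u => ?_
  obtain ⟨i, xi, hxi⟩ := hsurj (Points.ofPt a u)
  obtain ⟨Ui, ai, hi, ui, hai, commi, -, hui⟩ :=
    exists_chart_diagram_over (hXi i) hX (g i) a ha xi u hxi.symm
  have comm' : ai ≫ (g i ≫ f) = (yon S).map (hi ≫ h) ≫ b := by
    rw [← Category.assoc, commi, Category.assoc, comm, ← Category.assoc, ← Functor.map_comp]
  refine ⟨Ui.left, hi.left, hfl i ai a hi hai ha commi, hfp i ai a hi hai ha commi, ?_,
    ⟨ui, hui⟩⟩
  have := H i ai b (hi ≫ h) hai hb comm'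
  rwa [Over.comp_left] at this

/-- S10560 -/
theorem locP_smooth_etale_of_fppf_comp {X Y B : Sp S} (hX : IsAlgSpace X) (hY : IsAlgSpace Y)
    (hB : IsAlgSpace B) (f : X ⟶ Y) (q : Y ⟶ B)
    (hs : IsSurjectiveMor f) (hfl : LocP @Flat f)
    (hfp : LocP @LocallyOfFinitePresentation f) :
    (LocP @Smooth (f ≫ q) → LocP @Smooth q) ∧
    (IsEtaleMor (f ≫ q) → IsEtaleMor q) := by
  have hsurj : ∀ y : Points Y, ∃ _ : PUnit.{u+1}, y ∈ Set.range (Points.map f) :=
    fun y => ⟨PUnit.unit, hs y⟩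
  refine ⟨fun H => locP_smooth_of_fppf_family (ι := PUnit.{u+1}) hY (Y := B)
      (fun _ => X) (fun _ => f) (fun _ => hX) (fun _ => hfl) (fun _ => hfp) hsurj q (fun _ => H),
    fun H => ?_⟩
  rw [isEtaleMor_iff_locP_etale hB] at H ⊢
  exact locP_etale_of_fppf_family (ι := PUnit.{u+1}) hY (Y := B)
      (fun _ => X) (fun _ => f) (fun _ => hX) (fun _ => hfl) (fun _ => hfp) hsurj q (fun _ => H)

end Groth.Agent.Lib.Helper14.AS
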