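import Mathlib

universe u v
open Polynomial IsLocalRing

namespace Groth.Agent.Lib.Helper14.AS

section
variable {O : Type u} [CommRing O] {K : Type v} [Field K] (ev : O →+* K)
  (H1 : ∀ x, ev x ≠ 0 → IsUnit x)

include H1 in
theorem isLocalRing_of_ev : IsLocalRing O := by
  have : Nontrivial O := ⟨⟨0, 1, fun h => by
    have := congrArg ev h
    rw [map_zero, map_one] at this
    exact zero_ne_one this⟩⟩
  refine IsLocalRing.of_isUnit_or_isUnit_one_sub_self (fun x => ?_)
  by_cases hx : ev x = 0
  · right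
    refine H1 _ ?_
    rw [map_sub, map_one, hx, sub_zero]
    exact one_ne_zero
  · exact Or.inl (H1 x hx)

include H1 in
theorem mem_maximalIdeal_iff_ev [IsLocalRing O] (x : O) : x ∈ maximalIdeal O ↔ ev x = 0 := by
  rw [mem_maximalIdeal, mem_nonunits_iff]
  constructor
  · intro h
    by_contra h'
    exact h (H1 x h')
  · intro h hu
    have := hu.map ev
    rw [h] at this
    exact not_isUnit_zero this

variable (H2 : ∀ P : O[X], P.Monic → ∀ t₀ : K, (P.map ev).eval t₀ = 0 →
    (P.map ev).derivative.eval t₀ ≠ 0 → ∃ a, P.eval a = 0 ∧ ev a = t₀)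

include H1 H2 in
theorem henselianLocalRing_of_ev : HenselianLocalRing O := by
  have hloc := isLocalRing_of_ev ev H1
  refine { hloc with is_henselian := fun f hf a₀ h₁ h₂ => ?_ }
  have e1 : (f.map ev).eval (ev a₀) = 0 := by
    rw [eval_map, eval₂_hom]
    exact (mem_maximalIdeal_iff_ev ev H1 _).1 h₁
  have e2 : (f.map ev).derivative.eval (ev a₀) ≠ 0 := by
    rw [derivative_map, eval_map, eval₂_hom]
    exact (h₂.map ev).ne_zero
  obtain ⟨a, ha, hev⟩ := H2 f hf (ev a₀) e1 e2
  refine ⟨a, ha, ?_⟩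
  rw [mem_maximalIdeal_iff_ev ev H1, map_sub, hev, sub_self]

include H1 H2 in
theorem isSepClosed_residueField_of_ev [IsLocalRing O] [IsAlgClosed K] :
    IsSepClosed (ResidueField O) := by
  have hlh : IsLocalHom ev := ⟨fun a ha => H1 a ha.ne_zero⟩
  let ι : ResidueField O →+* K := ResidueField.lift ev
  have hι : ∀ x, ι (residue O x) = ev x := fun x => ResidueField.lift_residue_apply ev x
  refine IsSepClosed.of_exists_root _ (fun q hq hirr hsep => ?_)
  obtain ⟨Q, hQ, -, hQm⟩ := lifts_and_degree_eq_and_monic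
    ((mem_lifts _).2 (map_surjective (residue O) Ideal.Quotient.mk_surjective q)) hq
  have hmap : Q.map ev = q.map ι := by
    rw [← hQ, Polynomial.map_map]
    congr 1
  have hsepK : (q.map ι).Separable := hsep.map
  have hdeg : (q.map ι).degree ≠ 0 := by
    rw [degree_map]
    exact (degree_pos_of_irreducible hirr).ne'
  obtain ⟨t₀, ht₀⟩ := IsAlgClosed.exists_root (q.map ι) hdeg
  have hder : (q.map ι).derivative.eval t₀ ≠ 0 := by
    intro h0
    have := hsepK.eval₂_derivative_ne_zero (RingHom.id K) (x := t₀)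
      (by rwa [eval₂_id])
    rw [eval₂_id] at this
    exact this h0
  obtain ⟨a, ha, -⟩ := H2 Q hQm t₀ (by rw [hmap]; exact ht₀) (by rw [hmap]; exact hder)
  refine ⟨residue O a, ?_⟩
  rw [← hQ, eval_map, eval₂_hom, ha, map_zero]

end

end Groth.Agent.Lib.Helper14.AS
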