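import Groth.Prelude.Def_AlgSpOX
import Groth.Prelude.Def_ModSite
import Groth.Agent.Lib.Helper14.EtSite1

universe u
open CategoryTheory CategoryTheory.Limits AlgebraicGeometry Opposite

namespace Groth.Agent.Lib.Helper14.AS
open AlgSp

/-- A global function pulls back to a unit along a morphism landing in its non-vanishing locus. -/
theorem isUnit_appTop_of_range_subset {W U : Scheme.{u}} (h : W ⟶ U) (f : Γ(U, ⊤))
    (hr : ∀ w : W, h w ∈ U.basicOpen f) : IsUnit (h.appTop f) := by
  have h1 : W.basicOpen (h.appTop f) = ⊤ := by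
    rw [← Scheme.preimage_basicOpen_top]
    ext w
    simp only [TopologicalSpace.Opens.coe_top, Set.mem_univ, iff_true]
    exact hr w
  refine RingedSpace.isUnit_of_isUnit_germ (X := W.toLocallyRingedSpace.toRingedSpace) ⊤ _
    (fun w hw => ?_)
  have : w ∈ W.basicOpen (h.appTop f) := by rw [h1]; trivial
  exact (W.mem_basicOpen_top _ w).1 this


variable {S : Scheme.{u}}

set_option backward.isDefEq.respectTransparency false in
theorem isLocallyRinged_etTop (X : AlgSp.Sp S) :
    ModSite.IsLocallyRinged (etTop X) (OEt X) := by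
  refine ⟨fun U f => ?_, fun U h => ?_⟩
  · let f₀ : Γ(U.obj.left.left, ⊤) := f.down
    let V : Bool → U.obj.left.left.Opens := fun b =>
      cond b (U.obj.left.left.basicOpen f₀) (U.obj.left.left.basicOpen (1 - f₀))
    refine ⟨Sieve.ofArrows (fun b => openObj U (V b)) (fun b => openHom U (V b)),
      ofArrows_mem_etTop _ _ (fun x => ?_), ?_⟩
    · by_cases hx : x ∈ U.obj.left.left.basicOpen f₀
      · exact ⟨true, ⟨⟨x, hx⟩, rfl⟩⟩
      · refine ⟨false, ⟨⟨x, ?_⟩, rfl⟩⟩
        change x ∈ U.obj.left.left.basicOpen (1 - f₀)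
        rw [Scheme.mem_basicOpen_top] at hx ⊢
        rw [map_sub, map_one]
        exact (IsLocalRing.isUnit_or_isUnit_one_sub_self _).resolve_left hx
    · rintro W g ⟨_, a, _, ⟨b⟩, rfl⟩
      cases b
      · right
        have h1 : IsUnit ((a ≫ openHom U (V false)).hom.left.left.appTop (1 - f₀)) := by
          refine isUnit_appTop_of_range_subset _ _ (fun w => ?_)
          exact (a.hom.left.left w).2
        have h2 : ((OEt X).obj.map (a ≫ openHom U (V false)).op).hom (1 - f) =
            ULift.up ((a ≫ openHom U (V false)).hom.left.left.appTop (1 - f₀)) := rfl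
        rw [h2]
        exact h1.map (ULift.ringEquiv (R := Γ(W.obj.left.left, ⊤))).symm
      · left
        have h1 : IsUnit ((a ≫ openHom U (V true)).hom.left.left.appTop f₀) := by
          refine isUnit_appTop_of_range_subset _ _ (fun w => ?_)
          exact (a.hom.left.left w).2
        have h2 : ((OEt X).obj.map (a ≫ openHom U (V true)).op).hom f =
            ULift.up ((a ≫ openHom U (V true)).hom.left.left.appTop f₀) := rfl
        rw [h2]
        exact h1.map (ULift.ringEquiv (R := Γ(W.obj.left.left, ⊤))).symm
  · have hempty : IsEmpty ↥U.obj.left.left := by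
      refine ⟨fun x => ?_⟩
      have h1 : (0 : Γ(U.obj.left.left, ⊤)) = 1 := congrArg ULift.down h
      have h2 := congrArg (U.obj.left.left.presheaf.germ ⊤ x trivial) h1
      rw [map_zero, map_one] at h2
      exact zero_ne_one h2
    refine (etTop X).superset_covering ?_
      (ofArrows_mem_etTop (fun e : PEmpty.{u + 1} => PEmpty.elim e) (fun e => PEmpty.elim e)
        (fun x => (hempty.false x).elim))
    rintro _ _ ⟨_, _, _, ⟨e⟩, _⟩
    exact PEmpty.elim e

end Groth.Agent.Lib.Helper14.AS
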