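import Groth.Agent.Lib.Helper14.EtStalk6
import Groth.Agent.Lib.Helper14.EtLocRinged

universe u
open CategoryTheory CategoryTheory.Limits AlgebraicGeometry Opposite

namespace Groth.Agent.Lib.Helper14.AS
open AlgSp

variable {S : Scheme.{u}} {X : Sp S}

/-- Evaluation of functions on an object of the site at a lift of a field-valued point. -/
noncomputable def liftEval (p : FieldPt X) (E : EtOver X) (l : (FieldPt.liftsTo p).obj E) :
    Γ(E.obj.left.left, ⊤) →+* p.K :=
  ((Scheme.ΓSpecIso (CommRingCat.of p.K)).hom.hom).comp l.1.left.appTop.hom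

set_option backward.isDefEq.respectTransparency false in
theorem liftEval_map (p : FieldPt X) {E E' : EtOver X} (f : E ⟶ E')
    (l : (FieldPt.liftsTo p).obj E) (s : Γ(E'.obj.left.left, ⊤)) :
    liftEval p E l (f.hom.left.left.appTop.hom s) = liftEval p E' ((FieldPt.liftsTo p).map f l) s := by
  change _ = (Scheme.ΓSpecIso (CommRingCat.of p.K)).hom.hom
    ((l.1.left ≫ f.hom.left.left).appTop.hom s)
  rw [Scheme.Hom.comp_appTop]
  rfl


section Ev

variable (hX : IsAlgSpace X) (p : FieldPt X) (hp : p.IsGeometric)

/-- The component at a neighbourhood of the evaluation map on the etale local ring. -/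
noncomputable def evComp (E : EtOver X) (l : (FieldPt.liftsTo p).obj E) :
    (OEt X).obj.obj (op E) ⟶ CommRingCat.of (ULift.{u + 1} p.K) :=
  CommRingCat.ofHom ((ULift.ringEquiv (R := p.K)).symm.toRingHom.comp
    ((liftEval p E l).comp (ULift.ringEquiv (R := Γ(E.obj.left.left, ⊤))).toRingHom))

theorem evComp_apply (E : EtOver X) (l : (FieldPt.liftsTo p).obj E)
    (s : (OEt X).obj.obj (op E)) :
    (evComp p E l).hom s = ULift.up (liftEval p E l s.down) := rfl

set_option backward.isDefEq.respectTransparency false in
theorem evComp_w ⦃E E' : EtOver X⦄ (f : E ⟶ E') (l : (FieldPt.liftsTo p).obj E) :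
    (OEt X).obj.map f.op ≫ evComp p E l = evComp p E' ((FieldPt.liftsTo p).map f l) := by
  ext s
  change liftEval p E l (f.hom.left.left.appTop.hom s.down) = _
  rw [liftEval_map]
  rfl

/-- The evaluation map from the etale local ring at a geometric point to the field of the point. -/
noncomputable def evO :
    letI := hasColimits_commRing.{u}
    ↥((etPoint hX p hp).presheafFiber.obj (OEt X).obj) →+* p.K :=
  letI := hasColimits_commRing.{u}
  (ULift.ringEquiv (R := p.K)).toRingHom.comp
    ((etPoint hX p hp).presheafFiberDesc (P := (OEt X).obj) (fun E l => evComp p E l)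
      (fun E E' f l => evComp_w p f l)).hom


set_option backward.isDefEq.respectTransparency false in
theorem evO_germ (E : EtOver X) (l : (FieldPt.liftsTo p).obj E) (s : (OEt X).obj.obj (op E)) :
    letI := hasColimits_commRing.{u}
    evO hX p hp ((etPoint hX p hp).toPresheafFiber E l (OEt X).obj s) = liftEval p E l s.down := by
  let _ := hasColimits_commRing.{u}
  have h := ConcreteCategory.congr_hom ((etPoint hX p hp).toPresheafFiber_presheafFiberDesc
    (P := (OEt X).obj) (fun E l => evComp p E l) (fun E E' f l => evComp_w p f l) E l) s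
  exact congrArg ULift.down h

set_option backward.isDefEq.respectTransparency false in
/-- A function not vanishing at the geometric point: the point lies in its basic open. -/
theorem mem_basicOpen_of_liftEval_ne_zero (E : EtOver X) (l : (FieldPt.liftsTo p).obj E)
    (f : Γ(E.obj.left.left, ⊤)) (hf : liftEval p E l f ≠ 0) :
    l.1.left (IsLocalRing.closedPoint p.K) ∈ E.obj.left.left.basicOpen f := by
  have hu : IsUnit (l.1.left.appTop.hom f) := by
    have h1 : IsUnit (liftEval p E l f) := hf.isUnit
    have h2 := h1.map (Scheme.ΓSpecIso (CommRingCat.of p.K)).inv.hom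
    have h3 : (Scheme.ΓSpecIso (CommRingCat.of p.K)).inv.hom (liftEval p E l f) =
        l.1.left.appTop.hom f := by
      change ((Scheme.ΓSpecIso (CommRingCat.of p.K)).hom ≫
        (Scheme.ΓSpecIso (CommRingCat.of p.K)).inv).hom (l.1.left.appTop.hom f) = _
      rw [Iso.hom_inv_id]
      rfl
    rwa [h3] at h2
  have h4 : (Spec (CommRingCat.of p.K)).basicOpen (l.1.left.appTop.hom f) = ⊤ :=
    Scheme.basicOpen_of_isUnit _ hu
  have h5 := Scheme.preimage_basicOpen_top l.1.left f
  have h6 : l.1.left ⁻¹ᵁ E.obj.left.left.basicOpen f = ⊤ := h5.trans h4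
  have h7 : (IsLocalRing.closedPoint p.K : ↥(Spec (CommRingCat.of p.K))) ∈
      l.1.left ⁻¹ᵁ E.obj.left.left.basicOpen f := by
    rw [h6]
    trivial
  exact h7


set_option backward.isDefEq.respectTransparency false in
/-- Elements of the etale local ring not killed by the evaluation map are units. -/
theorem isUnit_of_evO_ne_zero :
    letI := hasColimits_commRing.{u}
    ∀ x : ↥((etPoint hX p hp).presheafFiber.obj (OEt X).obj), evO hX p hp x ≠ 0 → IsUnit x := by
  let _ := hasColimits_commRing.{u}
  have := preservesFilteredColimits_forget_commRing.{u}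
  intro x hx
  obtain ⟨E, l, s, rfl⟩ := (etPoint hX p hp).toPresheafFiber_jointly_surjective
    (A := CommRingCat.{u + 1}) (P := (OEt X).obj) x
  rw [evO_germ] at hx
  have hv := mem_basicOpen_of_liftEval_ne_zero p E l s.down hx
  obtain ⟨l', hl'⟩ := exists_lift_through_point p hp
    (openHom E (E.obj.left.left.basicOpen s.down)) l ⟨_, hv⟩ rfl
  have hw := (etPoint hX p hp).toPresheafFiber_w_apply
    (openHom E (E.obj.left.left.basicOpen s.down)) l' (OEt X).obj s
  have hl'' : (etPoint hX p hp).fiber.map (openHom E (E.obj.left.left.basicOpen s.down)) l' = l :=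
    hl'
  rw [hl''] at hw
  rw [← hw]
  refine IsUnit.map _ ?_
  have h1 : IsUnit ((openHom E (E.obj.left.left.basicOpen s.down)).hom.left.left.appTop s.down) :=
    isUnit_appTop_of_range_subset _ _ (fun w => w.2)
  exact h1.map (ULift.ringEquiv
    (R := Γ((openObj E (E.obj.left.left.basicOpen s.down)).obj.left.left, ⊤))).symm

end Ev

end Groth.Agent.Lib.Helper14.AS
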