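import Mathlib

universe u
open CategoryTheory CategoryTheory.Limits AlgebraicGeometry Opposite Polynomial

namespace Groth.Agent.Lib.Helper14.AS

/-- Standard etale neighbourhood adjoining a simple root: scheme-level construction. -/
theorem exists_etale_root {Z : Scheme.{u}} [IsAffine Z] {K : Type u} [Field K]
    (l : Spec (CommRingCat.of K) ⟶ Z) (P : Γ(Z, ⊤)[X]) (hP : P.Monic) (t₀ : K)
    (h0 : (P.map (((Scheme.ΓSpecIso (CommRingCat.of K)).hom.hom).comp l.appTop.hom)).eval t₀ = 0)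
    (h1 : (P.map (((Scheme.ΓSpecIso (CommRingCat.of K)).hom.hom).comp
      l.appTop.hom)).derivative.eval t₀ ≠ 0) :
    ∃ (W : Scheme.{u}) (π : W ⟶ Z) (_ : Etale π) (l' : Spec (CommRingCat.of K) ⟶ W)
      (b : Γ(W, ⊤)), l' ≫ π = l ∧ (P.map π.appTop.hom).eval b = 0 ∧
        (Scheme.ΓSpecIso (CommRingCat.of K)).hom.hom (l'.appTop.hom b) = t₀ := by
  let ρ : Γ(Z, ⊤) →+* K := ((Scheme.ΓSpecIso (CommRingCat.of K)).hom.hom).comp l.appTop.hom
  let Pr : StandardEtalePair Γ(Z, ⊤) := ⟨P, hP, derivative P, ⟨1, 0, 1, by simp⟩⟩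
  let _ : Algebra Γ(Z, ⊤) K := ρ.toAlgebra
  have hmap : Pr.HasMap t₀ := by
    refine ⟨?_, ?_⟩
    · change aeval t₀ P = 0
      rw [aeval_def, ← Polynomial.eval_map]
      exact h0
    · change IsUnit (aeval t₀ (derivative P))
      rw [aeval_def, ← Polynomial.eval_map, ← derivative_map]
      exact (Ne.isUnit h1)
  let ψ : Pr.Ring →ₐ[Γ(Z, ⊤)] K := Pr.lift t₀ hmap
  have hψX : ψ Pr.X = t₀ := Pr.lift_X t₀ hmap
  have hψalg : ψ.toRingHom.comp (algebraMap Γ(Z, ⊤) Pr.Ring) = ρ := by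
    ext r
    exact ψ.commutes r
  let B : CommRingCat.{u} := CommRingCat.of Pr.Ring
  let α : Γ(Z, ⊤) ⟶ B := CommRingCat.ofHom (algebraMap Γ(Z, ⊤) Pr.Ring)
  let π : Spec B ⟶ Z := Spec.map α ≫ Z.isoSpec.inv
  have hπ : Etale π := by
    have : Etale (Spec.map α) := by
      rw [HasRingHomProperty.Spec_iff (P := @Etale)]
      exact RingHom.etale_algebraMap.2 inferInstance
    infer_instance
  let l' : Spec (CommRingCat.of K) ⟶ Spec B := Spec.map (CommRingCat.ofHom ψ.toRingHom)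
  have hl : l = Spec.map (CommRingCat.ofHom ρ) ≫ Z.isoSpec.inv := by
    have h := Scheme.isoSpec_inv_naturality l
    rw [Scheme.isoSpec_Spec_inv] at h
    have h2 : Spec.map (CommRingCat.ofHom ρ) =
        Spec.map (Scheme.ΓSpecIso (CommRingCat.of K)).hom ≫ Spec.map l.appTop := by
      rw [← Spec.map_comp]
      rfl
    rw [h2, Category.assoc, h, ← Category.assoc, ← Spec.map_comp, Iso.inv_hom_id, Spec.map_id,
      Category.id_comp]
  have hl' : l' ≫ π = l := by
    rw [hl, ← Category.assoc, ← Spec.map_comp]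
    congr 2
    ext r
    exact ψ.commutes r
  have hπtop : π.appTop = α ≫ (Scheme.ΓSpecIso B).inv := by
    have h := Scheme.isoSpec_inv_naturality π
    rw [Scheme.isoSpec_Spec_inv, ← Category.assoc, ← Spec.map_comp] at h
    have h3 := (cancel_mono Z.isoSpec.inv).1 h
    exact Spec.map_injective h3
  refine ⟨Spec B, π, hπ, l', (Scheme.ΓSpecIso B).inv.hom Pr.X, hl', ?_, ?_⟩
  · rw [hπtop]
    have hX : aeval Pr.X P = 0 := Pr.hasMap_X.1
    have : (α ≫ (Scheme.ΓSpecIso B).inv).hom =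
        ((Scheme.ΓSpecIso B).inv.hom).comp (algebraMap Γ(Z, ⊤) Pr.Ring) := rfl
    rw [this, ← Polynomial.map_map, Polynomial.eval_map, eval₂_at_apply, Polynomial.eval_map,
      ← aeval_def, hX, map_zero]
  · have h := Scheme.ΓSpecIso_naturality (CommRingCat.ofHom ψ.toRingHom)
    have h2 := ConcreteCategory.congr_hom h ((Scheme.ΓSpecIso B).inv.hom Pr.X)
    change (Scheme.ΓSpecIso (CommRingCat.of K)).hom.hom (l'.appTop.hom _) =
      ψ ((Scheme.ΓSpecIso B).hom.hom ((Scheme.ΓSpecIso B).inv.hom Pr.X)) at h2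
    rw [h2]
    have h3 : (Scheme.ΓSpecIso B).hom.hom ((Scheme.ΓSpecIso B).inv.hom Pr.X) = Pr.X := by
      change ((Scheme.ΓSpecIso B).inv ≫ (Scheme.ΓSpecIso B).hom).hom Pr.X = _
      rw [Iso.inv_hom_id]
      rfl
    rw [h3, hψX]

end Groth.Agent.Lib.Helper14.AS
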