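import Groth.Agent.Lib.Helper14.EtHens2
import Groth.Agent.Lib.Helper14.EtHens3
import Groth.Agent.Lib.Helper14.EtHens1
import Groth.Prelude.Def_EtBase

universe u
open CategoryTheory CategoryTheory.Limits AlgebraicGeometry Opposite Polynomial

namespace Groth.Agent.Lib.Helper14.AS
open AlgSp

variable {S : Scheme.{u}} {X : Sp S}

set_option backward.isDefEq.respectTransparency false in
/-- Standard etale neighbourhood adjoining a simple root, in the small etale site. -/
theorem exists_nbhd_root (p : FieldPt X) (E : EtOver X) [IsAffine E.obj.left.left]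
    (l : (FieldPt.liftsTo p).obj E) (P : Γ(E.obj.left.left, ⊤)[X]) (hP : P.Monic) (t₀ : p.K)
    (h0 : (P.map (liftEval p E l)).eval t₀ = 0)
    (h1 : (P.map (liftEval p E l)).derivative.eval t₀ ≠ 0) :
    ∃ (E' : EtOver X) (g : E' ⟶ E) (l' : (FieldPt.liftsTo p).obj E')
      (b : Γ(E'.obj.left.left, ⊤)), (FieldPt.liftsTo p).map g l' = l ∧
        (P.map g.hom.left.left.appTop.hom).eval b = 0 ∧ liftEval p E' l' b = t₀ := by
  obtain ⟨W, π, hπ, l₀, b, hl₀, hb, ht⟩ := exists_etale_root l.1.left P hP t₀ h0 h1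
  let V : E.obj.left.left.Etale := { toComma := Over.mk π, prop := hπ }
  have hw : l₀ ≫ (EtOver.overOfEtale V).hom = p.str := by
    change l₀ ≫ π ≫ E.obj.left.hom = p.str
    rw [← Category.assoc, hl₀]
    exact Over.w l.1
  let l₁ : p.pt ⟶ EtOver.overOfEtale V := Over.homMk l₀ hw
  have hl₁ : l₁ ≫ EtOver.homOfEtale V = l.1 := Over.OverMorphism.ext hl₀
  have hl₁' : (yon S).map l₁ ≫ ((EtOver.ofChart E.obj.hom E.property).obj V).obj.hom = p.toHom := by
    change (yon S).map l₁ ≫ (yon S).map (EtOver.homOfEtale V) ≫ E.obj.hom = _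
    rw [← Category.assoc, ← Functor.map_comp, hl₁]
    exact l.2
  refine ⟨(EtOver.ofChart E.obj.hom E.property).obj V, EtOver.homMk (EtOver.homOfEtale V) rfl,
    ⟨l₁, hl₁'⟩, b, Subtype.ext hl₁, hb, ht⟩


section Fin

variable (hX : IsAlgSpace X) (p : FieldPt X) (hp : p.IsGeometric)

set_option backward.isDefEq.respectTransparency false in
include hp in
/-- Every etale neighbourhood is refined by an affine one. -/
theorem exists_affine_refinement (N : EtNbhd p) :
    ∃ (N' : EtNbhd p) (_ : N' ⟶ N), IsAffine N'.1.obj.left.left := by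
  obtain ⟨_, ⟨V, hV, rfl⟩, hxV, -⟩ := (N.1.obj.left.left.isBasis_affineOpens).exists_subset_of_mem_open
    (Set.mem_univ (N.2.1.left (IsLocalRing.closedPoint p.K))) isOpen_univ
  obtain ⟨l', hl'⟩ := exists_lift_through_point p hp (openHom N.1 V) N.2 ⟨_, hxV⟩ rfl
  exact ⟨⟨openObj N.1 V, l'⟩, ⟨openHom N.1 V, hl'⟩, hV⟩

set_option backward.isDefEq.respectTransparency false in
/-- Germs at a neighbourhood are germs at any finer neighbourhood. -/
theorem range_germ_mono {N N' : EtNbhd p} (f : N' ⟶ N) :
    letI := hasColimits_commRing.{u}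
    Set.range ((etPoint hX p hp).toPresheafFiber N.1 N.2 (OEt X).obj) ⊆
      Set.range ((etPoint hX p hp).toPresheafFiber N'.1 N'.2 (OEt X).obj) := by
  let _ := hasColimits_commRing.{u}
  rintro _ ⟨s, rfl⟩
  have hw := (etPoint hX p hp).toPresheafFiber_w_apply f.1 N'.2 (OEt X).obj s
  have h2 : (etPoint hX p hp).fiber.map f.1 N'.2 = N.2 := f.2
  rw [h2] at hw
  exact ⟨_, hw⟩

set_option backward.isDefEq.respectTransparency false in
/-- Finitely many elements of the etale local ring are germs at a common affine neighbourhood. -/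
theorem exists_affine_nbhd_finset :
    letI := hasColimits_commRing.{u}
    ∀ s : Finset ↥((etPoint hX p hp).presheafFiber.obj (OEt X).obj),
      ∃ N : EtNbhd p, IsAffine N.1.obj.left.left ∧
        (s : Set _) ⊆ Set.range ((etPoint hX p hp).toPresheafFiber N.1 N.2 (OEt X).obj) := by
  let _ := hasColimits_commRing.{u}
  have := preservesFilteredColimits_forget_commRing.{u}
  have hcof := isCofiltered_etNbhd hX p hp
  intro s
  classical
  induction s using Finset.induction_on with
  | empty =>
    obtain ⟨N⟩ := hcof.nonempty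
    obtain ⟨N', -, hN'⟩ := exists_affine_refinement p hp N
    exact ⟨N', hN', by simp⟩
  | insert x s _ ih =>
    obtain ⟨N, -, hN⟩ := ih
    obtain ⟨E, l, z, rfl⟩ := (etPoint hX p hp).toPresheafFiber_jointly_surjective
      (A := CommRingCat.{u + 1}) (P := (OEt X).obj) x
    obtain ⟨W, f, g, -⟩ := IsCofilteredOrEmpty.cone_objs N (⟨E, l⟩ : EtNbhd p)
    obtain ⟨W', h, hW'⟩ := exists_affine_refinement p hp W
    refine ⟨W', hW', ?_⟩
    rw [Finset.coe_insert, Set.insert_subset_iff]
    exact ⟨range_germ_mono hX p hp (h ≫ g) ⟨z, rfl⟩,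
      hN.trans (range_germ_mono hX p hp (h ≫ f))⟩


set_option backward.isDefEq.respectTransparency false in
/-- Simple roots in the field of the geometric point of monic polynomials over the etale local
ring lift to roots in the etale local ring. -/
theorem exists_root_evO :
    letI := hasColimits_commRing.{u}
    ∀ P : (↥((etPoint hX p hp).presheafFiber.obj (OEt X).obj))[X], P.Monic → ∀ t₀ : p.K,
      (P.map (evO hX p hp)).eval t₀ = 0 → (P.map (evO hX p hp)).derivative.eval t₀ ≠ 0 →
      ∃ a, P.eval a = 0 ∧ evO hX p hp a = t₀ := by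
  let _ := hasColimits_commRing.{u}
  have := preservesFilteredColimits_forget_commRing.{u}
  intro P hP t₀ h0 h1
  classical
  obtain ⟨N, hN, hs⟩ := exists_affine_nbhd_finset hX p hp (P.support.image P.coeff)
  let γ : ↥((OEt X).obj.obj (op N.1)) →+* ↥((etPoint hX p hp).presheafFiber.obj (OEt X).obj) :=
    ((etPoint hX p hp).toPresheafFiber N.1 N.2 (OEt X).obj).hom
  have hmem : P ∈ lifts γ := by
    rw [lifts_iff_coeff_lifts]
    intro n
    by_cases hn : P.coeff n = 0
    · exact ⟨0, by rw [hn]; exact map_zero γ⟩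
    · exact hs (Finset.mem_coe.2 (Finset.mem_image_of_mem _ (mem_support_iff.2 hn)))
  have hloc : IsLocalRing ↥((etPoint hX p hp).presheafFiber.obj (OEt X).obj) :=
    isLocalRing_of_ev (evO hX p hp) (isUnit_of_evO_ne_zero hX p hp)
  obtain ⟨P₀, hP₀, -, hP₀m⟩ := lifts_and_degree_eq_and_monic hmem hP
  let e := (ULift.ringEquiv (R := Γ(N.1.obj.left.left, ⊤)))
  let P₁ : Γ(N.1.obj.left.left, ⊤)[X] := P₀.map e.toRingHom
  have hP₁ : P₁.Monic := hP₀m.map _
  have hevγ : (evO hX p hp).comp γ = (liftEval p N.1 N.2).comp e.toRingHom := by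
    ext s
    exact evO_germ hX p hp N.1 N.2 s
  have hmapev : P.map (evO hX p hp) = P₁.map (liftEval p N.1 N.2) := by
    rw [← hP₀, Polynomial.map_map, hevγ, ← Polynomial.map_map]
  rw [hmapev] at h0 h1
  obtain ⟨E', g, l', b, hg, hb, ht⟩ := exists_nbhd_root p N.1 N.2 P₁ hP₁ t₀ h0 h1
  let γ' : ↥((OEt X).obj.obj (op E')) →+* ↥((etPoint hX p hp).presheafFiber.obj (OEt X).obj) :=
    ((etPoint hX p hp).toPresheafFiber E' l' (OEt X).obj).hom
  let e' := (ULift.ringEquiv (R := Γ(E'.obj.left.left, ⊤)))
  let res : ↥((OEt X).obj.obj (op N.1)) →+* ↥((OEt X).obj.obj (op E')) :=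
    ((OEt X).obj.map g.op).hom
  have hγ : γ = γ'.comp res := by
    ext s
    have hw := (etPoint hX p hp).toPresheafFiber_w_apply g l' (OEt X).obj s
    have h2 : (etPoint hX p hp).fiber.map g l' = N.2 := hg
    rw [h2] at hw
    exact hw.symm
  have hres : e'.toRingHom.comp res = (g.hom.left.left.appTop.hom).comp e.toRingHom :=
    RingHom.ext fun s => rfl
  refine ⟨γ' (ULift.up b), ?_, ?_⟩
  · rw [← hP₀, hγ, ← Polynomial.map_map, Polynomial.eval_map, eval₂_at_apply]
    have hz : (P₀.map res).eval (ULift.up b) = 0 := by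
      apply e'.injective
      have h3 : e' ((P₀.map res).eval (ULift.up b)) = ((P₀.map res).map e'.toRingHom).eval b := by
        rw [Polynomial.eval_map e'.toRingHom]
        exact (eval₂_at_apply (p := P₀.map res) e'.toRingHom (ULift.up b)).symm
      rw [h3, Polynomial.map_map, hres, ← Polynomial.map_map, map_zero]
      exact hb
    rw [hz, map_zero]
  · exact (evO_germ hX p hp E' l' (ULift.up b)).trans ht


include hX hp in
/-- The etale local ring of an algebraic space at a geometric point is a strictly henselian local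
ring. -/
theorem isStrictlyHenselian_OEtStalk :
    IsLocalRing ↥(OEtStalk p) ∧ EtCoh.IsStrictlyHenselianLocalRing ↥(OEtStalk p) := by
  let _ := hasColimits_commRing.{u}
  have hK : IsAlgClosed p.K := hp
  change IsLocalRing ↥((etPoint hX p hp).presheafFiber.obj (OEt X).obj) ∧
    EtCoh.IsStrictlyHenselianLocalRing ↥((etPoint hX p hp).presheafFiber.obj (OEt X).obj)
  have hloc := isLocalRing_of_ev (evO hX p hp) (isUnit_of_evO_ne_zero hX p hp)
  have hhens := henselianLocalRing_of_ev (evO hX p hp) (isUnit_of_evO_ne_zero hX p hp)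
    (exists_root_evO hX p hp)
  exact ⟨hloc, hhens, isSepClosed_residueField_of_ev (evO hX p hp)
    (isUnit_of_evO_ne_zero hX p hp) (exists_root_evO hX p hp)⟩

end Fin

end Groth.Agent.Lib.Helper14.AS
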