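import Groth.Agent.Lib.Helper14.EtHens4
import Groth.Agent.Lib.Helper8.RedStalk

universe u
open CategoryTheory CategoryTheory.Limits AlgebraicGeometry Opposite

namespace Groth.Agent.Lib.Helper14.AS
open AlgSp

set_option backward.isDefEq.respectTransparency.types false in
theorem stalkMap_injective_of_flat {X Y : Scheme.{u}} (f : X ⟶ Y) [Flat f] (x : X) :
    Function.Injective (f.stalkMap x).hom := by
  algebraize [(f.stalkMap x).hom]
  have : Module.FaithfullyFlat (Y.presheaf.stalk (f x)) (X.presheaf.stalk x) :=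
    @Module.FaithfullyFlat.of_flat_of_isLocalHom _ _ _ _ _ _ _
      (Flat.stalkMap f x) (f.toLRSHom.prop x)
  exact ‹RingHom.FaithfullyFlat _›.injective

/-- A localization is reduced as soon as nilpotent images of elements of the base vanish. -/
theorem isReduced_of_isLocalization {R L : Type*} [CommRing R] [CommRing L] [Algebra R L]
    (M : Submonoid R) [IsLocalization M L]
    (h : ∀ a : R, IsNilpotent (algebraMap R L a) → algebraMap R L a = 0) : IsReduced L := by
  refine ⟨fun x hx => ?_⟩
  obtain ⟨⟨a, s⟩, has⟩ := IsLocalization.surj M x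
  have hn : IsNilpotent (algebraMap R L a) := by
    rw [← has]
    exact (Commute.all _ _).isNilpotent_mul_right hx
  rw [h a hn] at has
  exact (IsLocalization.map_units L s).mul_left_eq_zero.mp has

variable {S : Scheme.{u}} {X : Sp S}

section
variable (hX : IsAlgSpace X) (p : FieldPt X) (hp : p.IsGeometric)

set_option backward.isDefEq.respectTransparency false in
/-- The germ in the etale local ring of a function on a neighbourhood vanishes iff its Zariski
germ at the image point does. -/
theorem germ_et_eq_zero_iff (E : EtOver X) (l : (FieldPt.liftsTo p).obj E)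
    (s : (OEt X).obj.obj (op E)) :
    letI := hasColimits_commRing.{u}
    (etPoint hX p hp).toPresheafFiber E l (OEt X).obj s = 0 ↔
      E.obj.left.left.presheaf.germ ⊤ (l.1.left (IsLocalRing.closedPoint p.K)) trivial s.down =
        0 := by
  let _ := hasColimits_commRing.{u}
  have := preservesFilteredColimits_forget_commRing.{u}
  have h0 : (etPoint hX p hp).toPresheafFiber E l (OEt X).obj
      (0 : ↥((OEt X).obj.obj (op E))) = 0 := map_zero _
  constructor
  · intro h
    rw [← h0, (etPoint hX p hp).toPresheafFiber_eq_iff' E l s 0] at h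
    obtain ⟨W, φ, w, hw, hφ⟩ := h
    have hφ0 : (OEt X).obj.map φ.op (0 : ↥((OEt X).obj.obj (op E))) = 0 := map_zero _
    rw [hφ0] at hφ
    have hφ' : φ.hom.left.left.appTop.hom s.down = 0 := congrArg ULift.down hφ
    have hpt : φ.hom.left.left (w.1.left (IsLocalRing.closedPoint p.K)) =
        l.1.left (IsLocalRing.closedPoint p.K) := by
      rw [← hw]
      rfl
    have : Etale φ.hom.left.left := EtOver.etale_left φ
    have h1 := φ.hom.left.left.germ_stalkMap_apply ⊤
      (w.1.left (IsLocalRing.closedPoint p.K)) trivial s.down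
    have h2 : φ.hom.left.left.app ⊤ s.down = 0 := hφ'
    rw [h2, map_zero] at h1
    have h3 := (injective_iff_map_eq_zero _).1
      (stalkMap_injective_of_flat φ.hom.left.left (w.1.left (IsLocalRing.closedPoint p.K))) _ h1
    rw [← hpt]
    exact h3
  · intro h
    have hz : E.obj.left.left.presheaf.germ ⊤ (l.1.left (IsLocalRing.closedPoint p.K)) trivial
        (0 : Γ(E.obj.left.left, ⊤)) = 0 := map_zero _
    rw [← hz] at h
    obtain ⟨V, hV, i₁, i₂, hi⟩ := TopCat.Presheaf.germ_eq (F := E.obj.left.left.presheaf)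
      (U := ⊤) (V := ⊤) (l.1.left (IsLocalRing.closedPoint p.K)) trivial trivial _ _ h
    let V : E.obj.left.left.Opens := V
    obtain ⟨l', hl'⟩ := exists_lift_through_point p hp (openHom E V) l ⟨_, hV⟩ rfl
    have hw := (etPoint hX p hp).toPresheafFiber_w_apply (openHom E V) l' (OEt X).obj s
    have h2 : (etPoint hX p hp).fiber.map (openHom E V) l' = l := hl'
    rw [h2] at hw
    rw [← hw]
    have h3 : (OEt X).obj.map (openHom E V).op s = 0 := by
      apply ULift.ext
      change V.ι.appTop.hom s.down = 0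
      rw [Scheme.Opens.ι_appTop]
      have h4 : (homOfLE (le_top : V.ι ''ᵁ ⊤ ≤ ⊤)).op =
          i₁.op ≫ (homOfLE (V.ι_image_top).le).op := rfl
      rw [h4, Functor.map_comp, CommRingCat.comp_apply, hi, map_zero, map_zero]
    rw [h3, map_zero]


set_option backward.isDefEq.respectTransparency false in
theorem isReduced_stalk_of_isReduced_OEtStalk (N : EtNbhd p) [IsAffine N.1.obj.left.left]
    (hO : letI := hasColimits_commRing.{u}
      IsReduced ↥((etPoint hX p hp).presheafFiber.obj (OEt X).obj)) :
    IsReduced ↥(N.1.obj.left.left.presheaf.stalk (N.2.1.left (IsLocalRing.closedPoint p.K))) := by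
  let _ := hasColimits_commRing.{u}
  have hA : IsAffineOpen (⊤ : N.1.obj.left.left.Opens) := isAffineOpen_top _
  let u : (⊤ : N.1.obj.left.left.Opens) := ⟨N.2.1.left (IsLocalRing.closedPoint p.K), trivial⟩
  let _ := N.1.obj.left.left.presheaf.algebra_section_stalk u
  have hloc := hA.isLocalization_stalk u
  refine isReduced_of_isLocalization (hA.primeIdealOf u).asIdeal.primeCompl (fun a ha => ?_)
  change IsNilpotent (N.1.obj.left.left.presheaf.germ ⊤ u.1 trivial a) at ha
  change N.1.obj.left.left.presheaf.germ ⊤ u.1 trivial a = 0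
  obtain ⟨n, hn⟩ := ha
  rw [← map_pow] at hn
  have h1 := (germ_et_eq_zero_iff hX p hp N.1 N.2 (ULift.up (a ^ n))).2 hn
  have h2 : (etPoint hX p hp).toPresheafFiber N.1 N.2 (OEt X).obj (ULift.up a) ^ n = 0 := by
    rw [← map_pow]
    exact h1
  have h3 := (hO.eq_zero _ ⟨n, h2⟩)
  exact (germ_et_eq_zero_iff hX p hp N.1 N.2 (ULift.up a)).1 h3

include hX hp in
set_option backward.isDefEq.respectTransparency false in
/-- Reducedness of the local ring of `X` at a point of `|X|` (on some chart) is equivalent to
reducedness of the etale local ring at a geometric point over it. -/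
theorem hasAt_isReduced_iff :
    HasAt (fun U u => _root_.IsReduced ↥(U.presheaf.stalk u)) X (Points.mk p) ↔
      _root_.IsReduced ↥(OEtStalk p) := by
  let _ := hasColimits_commRing.{u}
  have := preservesFilteredColimits_forget_commRing.{u}
  change _ ↔ _root_.IsReduced ↥((etPoint hX p hp).presheafFiber.obj (OEt X).obj)
  constructor
  · rintro ⟨U, a, u, hae, hx, hred⟩
    let E₀ : EtOver X := EtOver.mk a hae
    obtain ⟨l₀, hl₀⟩ := exists_lift_of_ofPt_eq p hp E₀ u hx
    refine ⟨fun y hy => ?_⟩
    obtain ⟨E, l, s, rfl⟩ := (etPoint hX p hp).toPresheafFiber_jointly_surjective y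
    have hcof := isCofiltered_etNbhd hX p hp
    let N₀ : EtNbhd p := ⟨E₀, l₀⟩
    let N₁ : EtNbhd p := ⟨E, l⟩
    obtain ⟨W, φ₀, φ, -⟩ : ∃ (W : EtNbhd p) (_ : W ⟶ N₀) (_ : W ⟶ N₁), True :=
      IsCofilteredOrEmpty.cone_objs N₀ N₁
    have hw := (etPoint hX p hp).toPresheafFiber_w_apply φ.1 W.2 (OEt X).obj s
    have h2 : (etPoint hX p hp).fiber.map φ.1 W.2 = l := φ.2
    rw [h2] at hw
    rw [← hw]
    rw [germ_et_eq_zero_iff]
    have hetale : Etale φ₀.1.hom.left.left := EtOver.etale_left φ₀.1
    have hpt : φ₀.1.hom.left.left (W.2.1.left (IsLocalRing.closedPoint p.K)) = u := by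
      rw [← hl₀]
      have h3 : (etPoint hX p hp).fiber.map φ₀.1 W.2 = l₀ := φ₀.2
      rw [← h3]
      rfl
    have hredW : _root_.IsReduced
        ↥(W.1.obj.left.left.presheaf.stalk (W.2.1.left (IsLocalRing.closedPoint p.K))) := by
      apply Groth.Agent.Lib.Helper8.RedStalk.isReduced_stalk_of_smooth φ₀.1.hom.left.left
      rw [hpt]
      exact hred
    apply hredW.eq_zero
    obtain ⟨n, hn⟩ := hy
    refine ⟨n, ?_⟩
    rw [← map_pow]
    have h5 : ((OEt X).obj.map φ.1.op s).down ^ n = ((OEt X).obj.map φ.1.op (s ^ n)).down := by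
      rw [map_pow]
      rfl
    rw [h5, ← germ_et_eq_zero_iff hX p hp]
    have hw' := (etPoint hX p hp).toPresheafFiber_w_apply φ.1 W.2 (OEt X).obj (s ^ n)
    rw [h2] at hw'
    refine hw'.trans ?_
    rw [map_pow]
    exact hn
  · intro hO
    obtain ⟨N₀⟩ := (isCofiltered_etNbhd hX p hp).nonempty
    obtain ⟨N, -, hN⟩ := exists_affine_refinement p hp N₀
    exact ⟨N.1.obj.left, N.1.obj.hom, N.2.1.left (IsLocalRing.closedPoint p.K), N.1.property,
      mk_eq_ofPt_of_lift p N.1 N.2, isReduced_stalk_of_isReduced_OEtStalk hX p hp N hO⟩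

end

end Groth.Agent.Lib.Helper14.AS
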