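import Groth.Agent.Lib.Helper14.LqfLocus
import Groth.Agent.Lib.Helper14.AlgSpImm
import Groth.Agent.Lib.Helper14.AlgSpProper
import Groth.Agent.Lib.Helper14.IntFinRep
import Groth.Agent.Lib.Helper14.AlgSpIntegral
import Groth.Agent.Lib.Helper14.AlgSpPoints
import Groth.Agent.Lib.Helper14.FpqcBase4
import Groth.Agent.Lib.Helper14.AlgSpLargestOpen
import Groth.Agent.Lib.Helper24.SlqfMain
import Groth.Agent.Lib.Helper14.AlgSpLocP2
import Groth.Agent.Lib.Helper14.AlgSpFibre
import Groth.Agent.Lib.Helper6.EtLocScheme4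

universe u
open CategoryTheory CategoryTheory.Limits AlgebraicGeometry Opposite TopologicalSpace

namespace Groth.Agent.Lib.Helper14.AS

open AlgSp

variable {S : Scheme.{u}}

/-- Scheme-level data transported: a separated lqf `φ : Z ⟶ V₀` over `S`, finitely many points of `Z`
over `v₀`; pullback square in `Over S`. -/
theorem exists_family_over {Z V₀ : Over S} (φ : Z ⟶ V₀) [LocallyOfFiniteType φ.left]
    [IsSeparated φ.left] [LocallyQuasiFinite φ.left] (v₀ : ↥V₀.left) (A : Set ↥Z.left)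
    (hA : A.Finite) (hAv : ∀ z ∈ A, φ.left z = v₀) :
    ∃ (U PZ : Over S) (g : U ⟶ V₀) (fstZ : PZ ⟶ Z) (sndZ : PZ ⟶ U) (u : ↥U.left)
      (Vo : PZ.left.Opens),
      IsAffine U.left ∧ Etale g.left ∧ g.left u = v₀ ∧
      Function.Bijective (g.left.residueFieldMap u) ∧ IsPullback fstZ sndZ φ g ∧
      IsFinite (Vo.ι ≫ sndZ.left) ∧
      (∀ w ∈ Vo, sndZ.left w = u → fstZ.left w ∈ A) ∧
      (∀ w : ↥PZ.left, sndZ.left w = u → fstZ.left w ∈ A → w ∈ Vo) := by
  classical
  have : Finite ↥A := hA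
  let x : ↥A → ↥Z.left := fun a => a.1
  have hinj : Function.Injective x := Subtype.val_injective
  obtain ⟨U₀, g₀, u, hUaff, hEt, hgu, hbij, V, v, hdisj, hV, hclopen, hfin⟩ :=
    Groth.Agent.Lib.Helper6.EtLoc.exists_etale_nbhd_family_separated φ.left v₀ x hinj
      (fun a => hAv a.1 a.2) (fun a => Scheme.Hom.quasiFiniteAt φ.left _)
  let U : Over S := Over.mk (g₀ ≫ V₀.hom)
  let g : U ⟶ V₀ := Over.homMk g₀ rfl
  let PZ : Over S := Over.mk (pullback.snd φ.left g₀ ≫ U.hom)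
  let fstZ : PZ ⟶ Z := Over.homMk (pullback.fst φ.left g₀) (by
    change pullback.fst φ.left g₀ ≫ Z.hom = pullback.snd φ.left g₀ ≫ g₀ ≫ V₀.hom
    rw [← Over.w φ, ← Category.assoc, pullback.condition, Category.assoc])
  let sndZ : PZ ⟶ U := Over.homMk (pullback.snd φ.left g₀) rfl
  have comm : fstZ ≫ φ = sndZ ≫ g := by
    ext
    exact pullback.condition
  have sq : IsPullback fstZ sndZ φ g :=
    IsPullback.of_map (Over.forget S) comm (IsPullback.of_hasPullback φ.left g₀)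
  refine ⟨U, PZ, g, fstZ, sndZ, u, (⨆ a, V a : (pullback φ.left g₀).Opens), hUaff, hEt, hgu, hbij,
    sq, hfin, ?_, ?_⟩
  · intro w hw hwu
    rw [Opens.mem_iSup] at hw
    obtain ⟨a, ha⟩ := hw
    obtain ⟨-, -, -, -, h5, h6, -, -⟩ := hV a
    have := h5 w ha hwu
    rw [this]
    change pullback.fst φ.left g₀ (v a) ∈ A
    rw [h6]
    exact a.2
  · intro w hwu hwA
    obtain ⟨a, ha⟩ : ∃ a : ↥A, a.1 = fstZ.left w := ⟨⟨_, hwA⟩, rfl⟩
    obtain ⟨-, h2, -, -, -, -, -, h8⟩ := hV a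
    have hw : w = v a := h8 w hwu ha.symm
    rw [Opens.mem_iSup]
    refine ⟨a, ?_⟩
    rw [hw]
    exact h2


set_option backward.isDefEq.respectTransparency.types false in
/-- Core lemma: étale splitting over a scheme base. -/
theorem core_scheme_base {V₀ : Over S} (X : Space S) (f : X.obj ⟶ (yon S).obj V₀)
    (hf1 : LocP @LocallyOfFiniteType f) (hf2 : IsSeparatedMor f) (v₀ : ↥V₀.left)
    (T : Set (Points X.obj)) (hT : T.Finite)
    (hTv : ∀ t ∈ T, Points.map f t = Points.ofPt (𝟙 _) v₀)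
    (hTq : ∀ t ∈ T, HasAtMor (fun U _ h u => ∃ W : U.Opens, u ∈ W ∧
      LocallyQuasiFinite (W.ι ≫ h) ∧ LocallyOfFiniteType (W.ι ≫ h)) f t) :
    ∃ (U : Over S) (g : U ⟶ V₀) (u : ↥U.left), IsAffine U.left ∧ Etale g.left ∧ g.left u = v₀ ∧
      Function.Bijective (g.left.residueFieldMap u) ∧
      ∀ (P : Space S) (prX : P ⟶ X) (prU : P.obj ⟶ (yon S).obj U),
        IsPullback prX.hom prU f ((yon S).map g) →
        ∃ (V : Space S) (jV : V ⟶ P), RepWith @IsOpenImmersion jV.hom ∧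
          RepWith @IsClosedImmersion jV.hom ∧ IsFiniteMor (jV.hom ≫ prU) ∧
          (∀ v : Points V.obj, Points.map (jV.hom ≫ prU) v = Points.ofPt (𝟙 _) u →
            Points.map (jV.hom ≫ prX.hom) v ∈ T) ∧
          ∀ w : Points P.obj, w ∉ Set.range (Points.map jV.hom) →
            Points.map prU w = Points.ofPt (𝟙 _) u → Points.map prX.hom w ∉ T := by
  classical
  let Y : Space S := ⟨(yon S).obj V₀, IsAlgSpace.yon_obj V₀⟩
  let fS : X ⟶ Y := ObjectProperty.homMk f
  obtain ⟨X'', j, hj, hjlqf, -, hchar⟩ := lqfLocus_open_baseChange X Y fS hf1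
  have hTr : ∀ t ∈ T, t ∈ Set.range (Points.map j.hom) := by
    intro t ht
    have sq0 : IsPullback (𝟙 X.obj) f f (𝟙 _) := IsPullback.of_horiz_isIso ⟨by simp⟩
    have := (hchar Y X (𝟙 Y) (𝟙 X) fS sq0 t).2 (hTq t ht)
    simpa using this
  have hjm := mono_of_openImmersion hj
  have hsep : IsSeparatedMor (j.hom ≫ f) := by
    have hdi : (RepWith (S := S) @IsClosedImmersion).diagonal j.hom := isSeparatedMor_of_mono j.hom
    exact MorphismProperty.comp_mem (RepWith (S := S) @IsClosedImmersion).diagonal j.hom f hdi hf2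
  have hG : Groth.Agent.Lib.Helper24.Slqf.Good (j.hom ≫ f) := ⟨X''.2, hsep, hjlqf⟩
  obtain ⟨Z, ⟨ε⟩⟩ := Groth.Agent.Lib.Helper24.Slqf.exists_iso_yon_of_good (j.hom ≫ f) hG
  let i : (yon S).obj Z ⟶ X.obj := ε.hom ≫ j.hom
  have hi : RepWith @IsOpenImmersion i := repWith_comp _ (repWith_of_isIso _ ε.hom) hj
  obtain ⟨φ, hφ⟩ := (yon S).map_surjective (i ≫ f)
  obtain ⟨hφsep, hφqf, hφlft⟩ := hG.of_open ε.hom (repWith_of_isIso _ ε.hom) φ
    (by rw [hφ, Category.assoc])
  let A : Set ↥Z.left := {z | Points.ofPt i z ∈ T}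
  have hiinj : Function.Injective (Points.ofPt i) := by
    intro z z' h
    rw [Points.ofPt_eq_map_ofScheme, Points.ofPt_eq_map_ofScheme] at h
    exact (Points.schemeHomeo Z).injective (injective_of_openImmersion hi h)
  have hA : A.Finite := hT.preimage (hiinj.injOn)
  have hofPt : ∀ {W W' : Over S} (m : W ⟶ W') (z : ↥W.left),
      Points.ofPt ((yon S).map m) z = Points.ofPt (𝟙 _) (m.left z) := by
    intro W W' m z
    have := ofPt_yon_map_comp m (𝟙 _) z
    rwa [Category.comp_id] at this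
  have hAv : ∀ z ∈ A, φ.left z = v₀ := by
    intro z hz
    have h1 := hTv _ hz
    rw [Points.map_ofPt, ← hφ, hofPt] at h1
    exact (Points.schemeHomeo V₀).injective h1
  have hAsurj : ∀ t ∈ T, ∃ z ∈ A, Points.ofPt i z = t := by
    intro t ht
    obtain ⟨t'', rfl⟩ := hTr t ht
    obtain ⟨z, hz⟩ := (Points.schemeHomeo Z).surjective (Points.map ε.inv t'')
    have : Points.ofPt i z = Points.map j.hom t'' := by
      rw [Points.ofPt_eq_map_ofScheme]
      change Points.map i (Points.schemeHomeo Z z) = _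
      rw [hz, ← Points.map_comp]
      simp [i]
    exact ⟨z, by change _ ∈ T; rw [this]; exact ht, this⟩
  have := hφlft
  have := hφsep
  have := hφqf
  obtain ⟨U, PZ, g, fstZ, sndZ, u, Vo, hUaff, hEt, hgu, hbij, sqZ, hfin, hVo1, hVo2⟩ :=
    exists_family_over φ v₀ A hA hAv
  refine ⟨U, g, u, hUaff, hEt, hgu, hbij, ?_⟩
  intro P prX prU sq
  have sqY := sqZ.map (yon S)
  have hw : ((yon S).map fstZ ≫ i) ≫ f = (yon S).map sndZ ≫ (yon S).map g := by
    rw [Category.assoc, ← hφ, sqY.w]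
  let ψ : (yon S).obj PZ ⟶ P.obj := sq.lift _ _ hw
  have hψ1 : ψ ≫ prX.hom = (yon S).map fstZ ≫ i := sq.lift_fst _ _ _
  have hψ2 : ψ ≫ prU = (yon S).map sndZ := sq.lift_snd _ _ _
  have sqL : IsPullback ψ ((yon S).map fstZ) prX.hom i := by
    refine IsPullback.of_right ?_ hψ1 sq.flip
    rw [hψ2, ← hφ]
    exact sqY.flip
  have hψo : RepWith @IsOpenImmersion ψ := repWith_of_isPullback _ sqL.flip hi
  let VZ : Over S := Over.mk (Vo.ι ≫ PZ.hom)
  let ιV : VZ ⟶ PZ := Over.homMk Vo.ι rfl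
  let V : Space S := ⟨(yon S).obj VZ, IsAlgSpace.yon_obj VZ⟩
  let jV : V ⟶ P := ObjectProperty.homMk ((yon S).map ιV ≫ ψ)
  have hιV : RepWith @IsOpenImmersion ((yon S).map ιV) :=
    (repWith_yon_map_iff _ _).2 (inferInstanceAs (IsOpenImmersion Vo.ι))
  have hjVo : RepWith @IsOpenImmersion jV.hom := repWith_comp _ hιV hψo
  have hjVU : jV.hom ≫ prU = (yon S).map (ιV ≫ sndZ) := by
    change ((yon S).map ιV ≫ ψ) ≫ prU = _
    rw [Category.assoc, hψ2, Functor.map_comp]
  have hjVX : jV.hom ≫ prX.hom = (yon S).map (ιV ≫ fstZ) ≫ i := by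
    change ((yon S).map ιV ≫ ψ) ≫ prX.hom = _
    rw [Category.assoc, hψ1, Functor.map_comp, Category.assoc]
  have hfinM : IsFiniteMor (jV.hom ≫ prU) := by
    rw [hjVU]
    let UU : Space S := ⟨(yon S).obj U, IsAlgSpace.yon_obj U⟩
    let m : V ⟶ UU := ObjectProperty.homMk ((yon S).map (ιV ≫ sndZ))
    exact (integral_finite_iff_repWith m).2.2 ((repWith_yon_map_iff _ _).2 hfin)
  have hprUsep : IsSeparatedMor prU :=
    MorphismProperty.of_isPullback (P := (RepWith (S := S) @IsClosedImmersion).diagonal) sq hf2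
  have hUC : IsUnivClosedMor jV.hom := by
    have hP := (isFiniteMor_iff_affine_proper V.2 (IsAlgSpace.yon_obj U) (jV.hom ≫ prU)).1 hfinM
    exact (univClosed_proper_over_separated V.2 P.2 (IsAlgSpace.yon_obj U) jV.hom prU
      hprUsep).1 hP.2.2.2
  have hclosed : IsClosed (Set.range (Points.map jV.hom)) :=
    (isClosedMap_points_of_isUnivClosedMor P.2 hUC).isClosed_range
  have hjVc : RepWith @IsClosedImmersion jV.hom :=
    (repWith_isClosedImmersion_iff_isClosed_range P.2 (repWith_mono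
      (fun _ _ _ h => by have := h; infer_instance :
        (@IsOpenImmersion : MorphismProperty Scheme.{u}) ≤ @IsImmersion) hjVo)).2 hclosed
  refine ⟨V, jV, hjVo, hjVc, hfinM, ?_, ?_⟩
  · intro v hv
    obtain ⟨v', rfl⟩ := (Points.schemeHomeo VZ).surjective v
    change Points.map (jV.hom ≫ prU) (Points.ofPt (𝟙 _) v') = _ at hv
    rw [Points.map_ofPt, Category.id_comp, hjVU, hofPt] at hv
    have hu' : sndZ.left (Vo.ι v') = u := (Points.schemeHomeo U).injective hv
    have hmemVo : Vo.ι v' ∈ Vo := by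
      have : Vo.ι v' ∈ Set.range Vo.ι := ⟨v', rfl⟩
      rwa [Scheme.Opens.range_ι] at this
    have hmem := hVo1 (Vo.ι v') hmemVo hu'
    change Points.map (jV.hom ≫ prX.hom) (Points.ofPt (𝟙 _) v') ∈ T
    rw [Points.map_ofPt, Category.id_comp, hjVX, ofPt_yon_map_comp]
    exact hmem
  · intro w hw hwu hwT
    obtain ⟨z, hzA, hz⟩ := hAsurj _ hwT
    obtain ⟨p, hp1, hp2⟩ := points_exists_of_isPullback sqL w (Points.ofPt (𝟙 _) z) (by
      rw [← hz, Points.ofPt_eq_map_ofScheme i z])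
    obtain ⟨p', rfl⟩ := (Points.schemeHomeo PZ).surjective p
    change Points.map ψ (Points.ofPt (𝟙 _) p') = w at hp1
    change Points.map ((yon S).map fstZ) (Points.ofPt (𝟙 _) p') = Points.ofPt (𝟙 _) z at hp2
    rw [Points.map_ofPt, Category.id_comp] at hp1 hp2
    have hfz : fstZ.left p' = z := by
      rw [hofPt] at hp2
      exact (Points.schemeHomeo Z).injective hp2
    have hsu : sndZ.left p' = u := by
      have h3 : Points.map prU w = Points.ofPt ((yon S).map sndZ) p' := by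
        rw [← hp1, Points.map_ofPt, hψ2]
      rw [hwu, hofPt] at h3
      exact ((Points.schemeHomeo U).injective h3).symm
    have hpV : p' ∈ Vo := hVo2 p' hsu (hfz ▸ hzA)
    apply hw
    refine ⟨Points.ofPt (𝟙 _) (⟨p', hpV⟩ : ↥VZ.left), ?_⟩
    rw [Points.map_ofPt, Category.id_comp]
    change Points.ofPt ((yon S).map ιV ≫ ψ) _ = w
    rw [ofPt_yon_map_comp]
    exact hp1

set_option backward.isDefEq.respectTransparency.types false in
/-- Reduction to an étale chart of the base. -/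
theorem reduce_chart {X Y : Space S} (f : X ⟶ Y) (hf1 : LocP @LocallyOfFiniteType f.hom)
    (hf2 : IsSeparatedMor f.hom) {V₀ : Over S} (b : (yon S).obj V₀ ⟶ Y.obj) (v₀ : ↥V₀.left)
    (T : Set (Points (pullback f.hom b))) (hT : T.Finite)
    (hTv : ∀ t ∈ T, Points.map (pullback.snd f.hom b) t = Points.ofPt (𝟙 _) v₀)
    (hTq : ∀ t ∈ T, HasAtMor (fun U _ h u => ∃ W : U.Opens, u ∈ W ∧
      LocallyQuasiFinite (W.ι ≫ h) ∧ LocallyOfFiniteType (W.ι ≫ h)) f.hom
        (Points.map (pullback.fst f.hom b) t)) :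
    ∃ (U : Over S) (g : U ⟶ V₀) (u : ↥U.left), IsAffine U.left ∧ Etale g.left ∧ g.left u = v₀ ∧
      Function.Bijective (g.left.residueFieldMap u) ∧
      ∀ (P : Space S) (prX : P ⟶ X) (prU : P.obj ⟶ (yon S).obj U),
        IsPullback prX.hom prU f.hom ((yon S).map g ≫ b) →
        ∃ prX' : P.obj ⟶ pullback f.hom b, prX' ≫ pullback.fst f.hom b = prX.hom ∧
          IsPullback prX' prU (pullback.snd f.hom b) ((yon S).map g) ∧
        ∃ (V : Space S) (jV : V ⟶ P), RepWith @IsOpenImmersion jV.hom ∧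
          RepWith @IsClosedImmersion jV.hom ∧ IsFiniteMor (jV.hom ≫ prU) ∧
          (∀ v : Points V.obj, Points.map (jV.hom ≫ prU) v = Points.ofPt (𝟙 _) u →
            Points.map (jV.hom ≫ prX') v ∈ T) ∧
          ∀ w : Points P.obj, w ∉ Set.range (Points.map jV.hom) →
            Points.map prU w = Points.ofPt (𝟙 _) u → Points.map prX' w ∉ T := by
  have sq0 := IsPullback.of_hasPullback f.hom b
  let Y' : Space S := ⟨(yon S).obj V₀, IsAlgSpace.yon_obj V₀⟩
  let X' : Space S := ⟨pullback f.hom b,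
    isAlgSpace_of_isPullback (repDiag_of_isAlgSpace Y.2) X.2 (IsAlgSpace.yon_obj V₀) sq0⟩
  have hf1' : LocP @LocallyOfFiniteType (pullback.snd f.hom b) :=
    locP_baseChange etLocal_lft X.2 Y.2 (IsAlgSpace.yon_obj V₀) f.hom b _ _ sq0 hf1
  have hf2' : IsSeparatedMor (pullback.snd f.hom b) :=
    MorphismProperty.of_isPullback (P := (RepWith (S := S) @IsClosedImmersion).diagonal) sq0 hf2
  have hTq' : ∀ t ∈ T, HasAtMor (fun U _ h u => ∃ W : U.Opens, u ∈ W ∧
      LocallyQuasiFinite (W.ι ≫ h) ∧ LocallyOfFiniteType (W.ι ≫ h)) (pullback.snd f.hom b) t := by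
    intro t ht
    obtain ⟨Xq, jq, -, -, -, hchar⟩ := lqfLocus_open_baseChange X Y f hf1
    have sq1 : IsPullback (𝟙 X.obj) f.hom f.hom (𝟙 _) := IsPullback.of_horiz_isIso ⟨by simp⟩
    have h1 := (hchar Y X (𝟙 Y) (𝟙 X) f sq1 _).2 (hTq t ht)
    have h2 := (hchar Y' X' (ObjectProperty.homMk b) (ObjectProperty.homMk (pullback.fst f.hom b))
      (ObjectProperty.homMk (pullback.snd f.hom b)) sq0 t).1 (by simpa using h1)
    exact h2
  obtain ⟨U, g, u, hUaff, hEt, hgu, hbij, H⟩ :=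
    core_scheme_base X' (pullback.snd f.hom b) hf1' hf2' v₀ T hT hTv hTq'
  refine ⟨U, g, u, hUaff, hEt, hgu, hbij, ?_⟩
  intro P prX prU sq
  have hw : prX.hom ≫ f.hom = (prU ≫ (yon S).map g) ≫ b := by rw [sq.w, Category.assoc]
  let prX' : P.obj ⟶ pullback f.hom b := sq0.lift prX.hom (prU ≫ (yon S).map g) hw
  have h1 : prX' ≫ pullback.fst f.hom b = prX.hom := sq0.lift_fst _ _ _
  have h2 : prX' ≫ pullback.snd f.hom b = prU ≫ (yon S).map g := sq0.lift_snd _ _ _
  have sqP : IsPullback prX' prU (pullback.snd f.hom b) ((yon S).map g) := by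
    refine IsPullback.of_right ?_ h2 sq0
    rw [h1]
    exact sq
  refine ⟨prX', h1, sqP, ?_⟩
  exact H P (ObjectProperty.homMk prX') prU sqP

end Groth.Agent.Lib.Helper14.AS
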