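import Groth.Prelude.Def_AlgSpOX3
import Groth.Agent.Lib.Helper14.AlgSpGeomPts
import Mathlib.AlgebraicGeometry.Sites.EtalePoint

universe u
open CategoryTheory CategoryTheory.Limits AlgebraicGeometry Opposite

namespace Groth.Agent.Lib.Helper14.AS
open AlgSp Groth.Agent.Lib.Helper14.AS
variable {S : Scheme.{u}} {X : Sp S}

set_option backward.isDefEq.respectTransparency false in
theorem nonempty_etNbhd (hX : IsAlgSpace X) (p : FieldPt X) (hp : p.IsGeometric) :
    Nonempty (EtNbhd p) := by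
  have : IsAlgClosed p.K := hp
  obtain ⟨U, b, hbe, hbs⟩ := hX.atlas
  obtain ⟨v, hv⟩ := exists_lift_geom_of_repWith (repWith_mono etale_le_lft hbe) hbs p.str p.toHom
  obtain ⟨v', rfl⟩ := (yon S).map_surjective v
  exact ⟨⟨EtOver.mk b hbe, ⟨v', hv⟩⟩⟩

set_option backward.isDefEq.respectTransparency false in
theorem exists_prod_lift (p : FieldPt X) (N₁ N₂ : EtNbhd p) :
    ∃ (W : EtNbhd p) (_ : W ⟶ N₁) (_ : W ⟶ N₂), True := by
  let w : p.pt ⟶ (EtOver.prodObj N₁.1 N₂.1).obj.left :=
    N₂.1.property.1.lift' N₂.2.1 N₁.2.1 (by rw [N₁.2.2, N₂.2.2])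
  have hw : (yon S).map w ≫ (EtOver.prodObj N₁.1 N₂.1).obj.hom = p.toHom := by
    change (yon S).map w ≫ (yon S).map _ ≫ N₁.1.obj.hom = _
    rw [← Category.assoc, ← Functor.map_comp, Functor.relativelyRepresentable.lift'_snd]
    exact N₁.2.2
  refine ⟨⟨EtOver.prodObj N₁.1 N₂.1, ⟨w, hw⟩⟩, ⟨EtOver.prodFst N₁.1 N₂.1, ?_⟩,
    ⟨EtOver.prodSnd N₁.1 N₂.1, ?_⟩, trivial⟩
  · exact Subtype.ext (Functor.relativelyRepresentable.lift'_snd _ _ _ _)
  · exact Subtype.ext (Functor.relativelyRepresentable.lift'_fst _ _ _ _)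


set_option backward.isDefEq.respectTransparency false in
theorem exists_equalizer_lift (p : FieldPt X) {N N' : EtNbhd p} (f g : N ⟶ N') :
    ∃ (W : EtNbhd p) (h : W ⟶ N), h ≫ f = h ≫ g := by
  let E := N.1
  let E' := N'.1
  let Γf : E ⟶ EtOver.prodObj E E' := (EtOver.prodIsLimit E E').lift (BinaryFan.mk (𝟙 E) f.1)
  let Γg : E ⟶ EtOver.prodObj E E' := (EtOver.prodIsLimit E E').lift (BinaryFan.mk (𝟙 E) g.1)
  have hf1 : Γf ≫ EtOver.prodFst E E' = 𝟙 E :=
    (EtOver.prodIsLimit E E').fac (BinaryFan.mk (𝟙 E) f.1) ⟨WalkingPair.left⟩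
  have hf2 : Γf ≫ EtOver.prodSnd E E' = f.1 :=
    (EtOver.prodIsLimit E E').fac (BinaryFan.mk (𝟙 E) f.1) ⟨WalkingPair.right⟩
  have hg1 : Γg ≫ EtOver.prodFst E E' = 𝟙 E :=
    (EtOver.prodIsLimit E E').fac (BinaryFan.mk (𝟙 E) g.1) ⟨WalkingPair.left⟩
  have hg2 : Γg ≫ EtOver.prodSnd E E' = g.1 :=
    (EtOver.prodIsLimit E E').fac (BinaryFan.mk (𝟙 E) g.1) ⟨WalkingPair.right⟩
  have hc := EtOver.pullback_condition Γf Γg
  have e1 : EtOver.pullbackFst Γf Γg = EtOver.pullbackSnd Γf Γg := by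
    have := congrArg (fun k => k ≫ EtOver.prodFst E E') hc
    simpa only [Category.assoc, hf1, hg1, Category.comp_id] using this
  have e2 : EtOver.pullbackFst Γf Γg ≫ f.1 = EtOver.pullbackFst Γf Γg ≫ g.1 := by
    have := congrArg (fun k => k ≫ EtOver.prodSnd E E') hc
    simp only [Category.assoc, hf2, hg2] at this
    rw [this, e1]
  have hfu : N.2.1 ≫ f.1.hom.left = N'.2.1 := congrArg Subtype.val f.2
  have hgu : N.2.1 ≫ g.1.hom.left = N'.2.1 := congrArg Subtype.val g.2
  have hu : N.2.1 ≫ Γf.hom.left = N.2.1 ≫ Γg.hom.left := by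
    refine Functor.relativelyRepresentable.hom_ext' E'.property.1 ?_ ?_
    · have h1 : Γf.hom.left ≫ E'.property.1.fst' E.obj.hom = f.1.hom.left :=
        congrArg (fun k => k.hom.left) hf2
      have h2 : Γg.hom.left ≫ E'.property.1.fst' E.obj.hom = g.1.hom.left :=
        congrArg (fun k => k.hom.left) hg2
      rw [Category.assoc, Category.assoc, h1, h2, hfu, hgu]
    · have h1 : Γf.hom.left ≫ E'.property.1.snd E.obj.hom = 𝟙 _ :=
        congrArg (fun k => k.hom.left) hf1
      have h2 : Γg.hom.left ≫ E'.property.1.snd E.obj.hom = 𝟙 _ :=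
        congrArg (fun k => k.hom.left) hg1
      rw [Category.assoc, Category.assoc, h1, h2]
  let q : p.pt ⟶ (EtOver.pullbackObj Γf Γg).obj.left := pullback.lift N.2.1 N.2.1 hu
  have hq : (yon S).map q ≫ (EtOver.pullbackObj Γf Γg).obj.hom = p.toHom := by
    change (yon S).map q ≫ (yon S).map _ ≫ E.obj.hom = _
    rw [← Category.assoc, ← Functor.map_comp, pullback.lift_fst]
    exact N.2.2
  refine ⟨⟨EtOver.pullbackObj Γf Γg, ⟨q, hq⟩⟩, ⟨EtOver.pullbackFst Γf Γg, ?_⟩, ?_⟩
  · exact Subtype.ext (pullback.lift_fst _ _ _)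
  · exact Subtype.ext e2

theorem isCofiltered_etNbhd (hX : IsAlgSpace X) (p : FieldPt X) (hp : p.IsGeometric) :
    IsCofiltered (EtNbhd p) :=
  { cone_objs := fun N₁ N₂ => exists_prod_lift p N₁ N₂
    cone_maps := fun _ _ f g => exists_equalizer_lift p f g
    nonempty := nonempty_etNbhd hX p hp }


/-! ### Joint surjectivity on coverings -/

set_option backward.isDefEq.respectTransparency false in
/-- Lifts of a geometric point lift along morphisms of the site through any point over the image. -/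
theorem exists_lift_through_point (p : FieldPt X) (hp : p.IsGeometric) {E E' : EtOver X}
    (g : E' ⟶ E) (l : (FieldPt.liftsTo p).obj E) (y : ↥E'.obj.left.left)
    (hy : g.hom.left.left y = l.1.left (IsLocalRing.closedPoint p.K)) :
    ∃ l' : (FieldPt.liftsTo p).obj E', (FieldPt.liftsTo p).map g l' = l := by
  have : IsAlgClosed p.K := hp
  have : Etale g.hom.left.left := EtOver.etale_left g
  obtain ⟨z, hz⟩ := exists_lift_of_lft g.hom.left.left l.1.left y hy
  have hw : z ≫ E'.obj.left.hom = p.str := by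
    have h1 := Over.w g.hom.left
    have h2 := Over.w l.1
    change l.1.left ≫ E.obj.left.hom = p.str at h2
    rw [← h1, ← Category.assoc, hz, h2]
  let z' : p.pt ⟶ E'.obj.left := Over.homMk z hw
  have hz' : z' ≫ g.hom.left = l.1 := Over.OverMorphism.ext hz
  refine ⟨⟨z', ?_⟩, Subtype.ext hz'⟩
  rw [← EtOver.w g, ← Category.assoc, ← Functor.map_comp, hz']
  exact l.2


set_option backward.isDefEq.respectTransparency false in
/-- Lifting through a covering presieve. -/
theorem exists_lift_of_mem_etPre (p : FieldPt X) (hp : p.IsGeometric) {E : EtOver X}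
    (R : Presieve E) (hR : R ∈ etPre X E) (l : (FieldPt.liftsTo p).obj E) :
    ∃ (Y : EtOver X) (f : Y ⟶ E) (_ : R f) (y : (FieldPt.liftsTo p).obj Y),
      (FieldPt.liftsTo p).map f y = l := by
  obtain ⟨ι, Y, f, rfl⟩ := R.exists_eq_ofArrows
  obtain ⟨i, y, hy⟩ := (ofArrows_mem_etPre_iff Y f).1 hR (l.1.left (IsLocalRing.closedPoint p.K))
  obtain ⟨l', hl'⟩ := exists_lift_through_point p hp (f i) l y hy
  exact ⟨Y i, f i, ⟨i⟩, l', hl'⟩

set_option backward.isDefEq.respectTransparency false in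
/-- Lifts pull back along morphisms of the site. -/
theorem exists_lift_pullback (p : FieldPt X) {E₁ E₂ E₀ : EtOver X} (g₁ : E₁ ⟶ E₀) (g₂ : E₂ ⟶ E₀)
    (l₁ : (FieldPt.liftsTo p).obj E₁) (l₂ : (FieldPt.liftsTo p).obj E₂)
    (h : (FieldPt.liftsTo p).map g₁ l₁ = (FieldPt.liftsTo p).map g₂ l₂) :
    ∃ l : (FieldPt.liftsTo p).obj (EtOver.pullbackObj g₁ g₂),
      (FieldPt.liftsTo p).map (EtOver.pullbackFst g₁ g₂) l = l₁ ∧
      (FieldPt.liftsTo p).map (EtOver.pullbackSnd g₁ g₂) l = l₂ := by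
  have h' : l₁.1 ≫ g₁.hom.left = l₂.1 ≫ g₂.hom.left := congrArg Subtype.val h
  let q : p.pt ⟶ (EtOver.pullbackObj g₁ g₂).obj.left := pullback.lift l₁.1 l₂.1 h'
  have hq : (yon S).map q ≫ (EtOver.pullbackObj g₁ g₂).obj.hom = p.toHom := by
    change (yon S).map q ≫ (yon S).map _ ≫ E₁.obj.hom = _
    rw [← Category.assoc, ← Functor.map_comp, pullback.lift_fst]
    exact l₁.2
  exact ⟨⟨q, hq⟩, Subtype.ext (pullback.lift_fst _ _ _), Subtype.ext (pullback.lift_snd _ _ _)⟩

set_option backward.isDefEq.respectTransparency false in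
/-- Joint surjectivity of the fibre functor on covering sieves. -/
theorem jointly_surjective_liftsTo (p : FieldPt X) (hp : p.IsGeometric) {E : EtOver X}
    (R : Sieve E) (hR : R ∈ etTop X E) (l : (FieldPt.liftsTo p).obj E) :
    ∃ (Y : EtOver X) (f : Y ⟶ E) (_ : R f) (y : (FieldPt.liftsTo p).obj Y),
      (FieldPt.liftsTo p).map f y = l := by
  have hR' : (etPre X).Saturate E R := hR
  clear hR
  induction hR' with
  | of E R hR =>
    obtain ⟨Y, f, hf, y, hy⟩ := exists_lift_of_mem_etPre p hp R hR l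
    exact ⟨Y, f, Sieve.le_generate R _ _ hf, y, hy⟩
  | top E =>
    exact ⟨E, 𝟙 E, trivial, l, by simp⟩
  | pullback E R _ Y f ih =>
    obtain ⟨Z, g, hg, z, hz⟩ := ih ((FieldPt.liftsTo p).map f l)
    obtain ⟨w, -, hw⟩ := exists_lift_pullback p g f z l hz
    refine ⟨EtOver.pullbackObj g f, EtOver.pullbackSnd g f, ?_, w, hw⟩
    change R (EtOver.pullbackSnd g f ≫ f)
    rw [← EtOver.pullback_condition]
    exact R.downward_closed hg _
  | transitive E R R' _ _ ih1 ih2 =>
    obtain ⟨Y, f, hf, y, hy⟩ := ih1 l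
    obtain ⟨Z, g, hg, z, hz⟩ := ih2 hf y
    refine ⟨Z, g ≫ f, hg, z, ?_⟩
    rw [Functor.map_comp]
    change (FieldPt.liftsTo p).map f ((FieldPt.liftsTo p).map g z) = l
    rw [hz, hy]


/-! ### Initial smallness -/

section Small

variable {U : Over S} (b : (yon S).obj U ⟶ X) (hbe : RepWith @Etale b) (p : FieldPt X)
  [IsSepClosed p.K] (l : (FieldPt.liftsTo p).obj (EtOver.mk b hbe))

set_option backward.isDefEq.respectTransparency false in
theorem chartElem_w (e : (Scheme.pointSmallEtale l.1.left).fiber.Elements) :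
    e.2.left ≫ e.1.hom = l.1.left := Over.w e.2

set_option backward.isDefEq.respectTransparency false in
/-- The lift of `p` to the etale `U`-scheme underlying a neighbourhood of `l`. -/
noncomputable def chartLift (e : (Scheme.pointSmallEtale l.1.left).fiber.Elements) :
    p.pt ⟶ EtOver.overOfEtale e.1 :=
  Over.homMk (U := p.pt) (V := EtOver.overOfEtale e.1) e.2.left (by
    have h2 := Over.w l.1
    change l.1.left ≫ U.hom = p.str at h2
    change e.2.left ≫ e.1.hom ≫ U.hom = p.str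
    rw [← Category.assoc, chartElem_w b hbe p l e, h2])

set_option backward.isDefEq.respectTransparency false in
theorem chartLift_comp (e : (Scheme.pointSmallEtale l.1.left).fiber.Elements) :
    chartLift b hbe p l e ≫ EtOver.homOfEtale e.1 = l.1 :=
  Over.OverMorphism.ext (chartElem_w b hbe p l e)

set_option backward.isDefEq.respectTransparency false in
/-- An etale neighbourhood of the lift `l` of `p` to the chart `U` (in Mathlib's small etale site
of the scheme `U`) gives an etale neighbourhood of `p` in `X`. -/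
noncomputable def nbhdOfChart (e : (Scheme.pointSmallEtale l.1.left).fiber.Elements) : EtNbhd p :=
  ⟨(EtOver.ofChart b hbe).obj e.1,
    ⟨chartLift b hbe p l e, by
      change (yon S).map _ ≫ (yon S).map (EtOver.homOfEtale e.1) ≫ b = p.toHom
      rw [← Category.assoc, ← Functor.map_comp, chartLift_comp]
      exact l.2⟩⟩

set_option backward.isDefEq.respectTransparency false in
/-- Functoriality of `nbhdOfChart`. -/
noncomputable def nbhdOfChartMap {e e' : (Scheme.pointSmallEtale l.1.left).fiber.Elements}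
    (f : e ⟶ e') : nbhdOfChart b hbe p l e ⟶ nbhdOfChart b hbe p l e' :=
  ⟨(EtOver.ofChart b hbe).map f.1, Subtype.ext (Over.OverMorphism.ext (by
    have h := congrArg (fun k => k.left) f.2
    exact h))⟩

end Small

set_option backward.isDefEq.respectTransparency false in
/-- Every etale neighbourhood of a geometric point is dominated by one coming from an etale
neighbourhood in a fixed surjective etale chart. -/
theorem exists_nbhdOfChart_hom {U : Over S} (b : (yon S).obj U ⟶ X) (hbe : RepWith @Etale b)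
    (hbs : RepWith @Surjective b) (p : FieldPt X) [IsAlgClosed p.K] (N : EtNbhd p) :
    ∃ (l : (FieldPt.liftsTo p).obj (EtOver.mk b hbe))
      (e : (Scheme.pointSmallEtale l.1.left).fiber.Elements),
      Nonempty (nbhdOfChart b hbe p l e ⟶ N) := by
  have sq := hbe.rep.isPullback' N.1.obj.hom
  have hsnd : Etale (hbe.rep.snd N.1.obj.hom).left := hbe.property_snd _
  have hsurj : Surjective (hbe.rep.snd N.1.obj.hom).left := hbs.property _ _ _ sq
  have hfst : Etale (hbe.rep.fst' N.1.obj.hom).left := N.1.property.2 b _ _ sq.flip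
  obtain ⟨w, hw⟩ := hsurj.surj (N.2.1.left (IsLocalRing.closedPoint p.K))
  obtain ⟨z, hz⟩ := exists_lift_of_lft (hbe.rep.snd N.1.obj.hom).left N.2.1.left w hw
  have hzw : z ≫ (hbe.rep.pullback N.1.obj.hom).hom = p.str := by
    have h1 := Over.w (hbe.rep.snd N.1.obj.hom)
    have h2 := Over.w N.2.1
    change N.2.1.left ≫ N.1.obj.left.hom = p.str at h2
    rw [← h1, ← Category.assoc, hz, h2]
  let z' : p.pt ⟶ hbe.rep.pullback N.1.obj.hom := Over.homMk z hzw
  have hz' : z' ≫ hbe.rep.snd N.1.obj.hom = N.2.1 := Over.OverMorphism.ext hz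
  have hl : (yon S).map (z' ≫ hbe.rep.fst' N.1.obj.hom) ≫ b = p.toHom := by
    rw [Functor.map_comp, Category.assoc, sq.w, ← Category.assoc, ← Functor.map_comp, hz']
    exact N.2.2
  let l : (FieldPt.liftsTo p).obj (EtOver.mk b hbe) := ⟨z' ≫ hbe.rep.fst' N.1.obj.hom, hl⟩
  let V : U.left.Etale :=
    { toComma := Over.mk (hbe.rep.fst' N.1.obj.hom).left, prop := hfst }
  let e : (Scheme.pointSmallEtale l.1.left).fiber.Elements :=
    ⟨V, Over.homMk z rfl⟩
  refine ⟨l, e, ⟨?_⟩⟩
  have hι : 𝟙 (hbe.rep.pullback N.1.obj.hom).left ≫ (hbe.rep.pullback N.1.obj.hom).hom =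
      (EtOver.overOfEtale V).hom := by
    rw [Category.id_comp]
    exact (Over.w (hbe.rep.fst' N.1.obj.hom)).symm
  let ι : EtOver.overOfEtale V ⟶ hbe.rep.pullback N.1.obj.hom := Over.homMk (𝟙 _) hι
  have h1 : ι ≫ hbe.rep.fst' N.1.obj.hom = EtOver.homOfEtale V :=
    Over.OverMorphism.ext (Category.id_comp _)
  have hcomm : (yon S).map (ι ≫ hbe.rep.snd N.1.obj.hom) ≫ N.1.obj.hom =
      ((EtOver.ofChart b hbe).obj V).obj.hom := by
    change _ = (yon S).map (EtOver.homOfEtale V) ≫ b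
    rw [Functor.map_comp, Category.assoc, ← sq.w, ← Category.assoc, ← Functor.map_comp, h1]
  refine ⟨EtOver.homMk (ι ≫ hbe.rep.snd N.1.obj.hom) hcomm, Subtype.ext ?_⟩
  refine Over.OverMorphism.ext ?_
  change z ≫ 𝟙 _ ≫ (hbe.rep.snd N.1.obj.hom).left = N.2.1.left
  rw [Category.id_comp, hz]


set_option backward.isDefEq.respectTransparency false in
theorem initiallySmall_etNbhd (hX : IsAlgSpace X) (p : FieldPt X) (hp : p.IsGeometric) :
    InitiallySmall.{u} (EtNbhd p) := by
  have := isCofiltered_etNbhd hX p hp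
  have : IsAlgClosed p.K := hp
  obtain ⟨U, b, hbe, hbs⟩ := hX.atlas
  have hs : ∀ l : (FieldPt.liftsTo p).obj (EtOver.mk b hbe),
      ∃ (s : Set (Scheme.pointSmallEtale l.1.left).fiber.Elements) (_ : Small.{u} s),
        ∀ i, ∃ j ∈ s, Nonempty (j ⟶ i) :=
    fun l => InitiallySmall.exists_small_weakly_initial_set _
  choose s hs1 hs2 using hs
  let T : Set (EtNbhd p) :=
    Set.range (fun x : Σ l : (FieldPt.liftsTo p).obj (EtOver.mk b hbe), ↥(s l) =>
      nbhdOfChart b hbe p x.1 x.2.1)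
  have hT : Small.{u} T := small_range _
  refine initiallySmall_of_small_weakly_initial_set T (fun N => ?_)
  obtain ⟨l, e, ⟨φ⟩⟩ := exists_nbhdOfChart_hom b hbe hbs p N
  obtain ⟨j, hj, ⟨ψ⟩⟩ := hs2 l e
  exact ⟨nbhdOfChart b hbe p l j, ⟨⟨l, ⟨j, hj⟩⟩, rfl⟩, ⟨nbhdOfChartMap b hbe p l ψ ≫ φ⟩⟩

/-- The point of the small etale site of an algebraic space defined by a geometric point. -/
noncomputable def etPoint (hX : IsAlgSpace X) (p : FieldPt X) (hp : p.IsGeometric) :
    (etTop X).Point where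
  fiber := FieldPt.liftsTo p
  isCofiltered := isCofiltered_etNbhd hX p hp
  initiallySmall := initiallySmall_etNbhd hX p hp
  jointly_surjective R hR l := jointly_surjective_liftsTo p hp R hR l

@[simp] theorem etPoint_fiber (hX : IsAlgSpace X) (p : FieldPt X) (hp : p.IsGeometric) :
    (etPoint hX p hp).fiber = FieldPt.liftsTo p := rfl

end Groth.Agent.Lib.Helper14.AS
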