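import Groth.Agent.Lib.Helper14.EtStalk2
import Mathlib.Algebra.Homology.ShortComplex.Ab
import Mathlib.Algebra.Homology.ShortComplex.ExactFunctor
import Mathlib.CategoryTheory.Sites.Abelian

universe u
open CategoryTheory CategoryTheory.Limits AlgebraicGeometry Opposite

namespace Groth.Agent.Lib.Helper14.AS
open AlgSp Groth.Agent.Lib.Helper14.AS

variable {S : Scheme.{u}} {X : Sp S}

theorem preservesFilteredColimits_forget_ab :
    PreservesFilteredColimitsOfSize.{u, u} (forget AddCommGrpCat.{u + 1}) :=
  preservesFilteredColimitsOfSize_shrink.{u, u + 1, u, u + 1} _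

theorem ab5_ab : AB5OfSize.{u, u} AddCommGrpCat.{u + 1} :=
  AB5OfSize_of_univLE.{u, u, u + 1, u + 1} AddCommGrpCat.{u + 1}

/-- An abelian sheaf on the small etale site all of whose geometric stalks vanish is zero. -/
theorem isZero_of_stalks (hX : IsAlgSpace X) (H : EtSh X AddCommGrpCat.{u + 1})
    (h : ∀ (p : FieldPt X) (hp : p.IsGeometric),
      IsZero ((etPoint hX p hp).sheafFiber.obj H)) : IsZero H := by
  have := preservesFilteredColimits_forget_ab.{u}
  rw [IsZero.iff_id_eq_zero]
  ext E : 3
  ext s
  obtain ⟨E⟩ := E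
  refine eq_of_germ_eq_sheaf hX H E s 0 (fun p hp l => ?_)
  have hs : Subsingleton ↑((etPoint hX p hp).presheafFiber.obj H.obj) :=
    AddCommGrpCat.subsingleton_of_isZero (h p hp)
  exact hs.elim _ _


/-- Exactness of a short complex of abelian sheaves on the small etale site is detected on
geometric stalks. -/
theorem exact_iff_stalks (hX : IsAlgSpace X) (C : ShortComplex (EtSh X AddCommGrpCat.{u + 1})) :
    C.Exact ↔ ∀ (p : FieldPt X) (hp : p.IsGeometric),
      (C.map ((etPoint hX p hp).sheafFiber (A := AddCommGrpCat.{u + 1}))).Exact := by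
  have := ab5_ab.{u}
  constructor
  · intro h p hp
    exact h.map _
  · intro h
    rw [ShortComplex.exact_iff_isZero_homology]
    refine isZero_of_stalks hX _ (fun p hp => ?_)
    have h1 := (h p hp)
    rw [ShortComplex.exact_iff_isZero_homology] at h1
    exact IsZero.of_iso h1 (C.mapHomologyIso ((etPoint hX p hp).sheafFiber
      (A := AddCommGrpCat.{u + 1}))).symm

end Groth.Agent.Lib.Helper14.AS
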