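import Groth.Agent.Lib.Helper14.EtStalk3

universe u
open CategoryTheory CategoryTheory.Limits AlgebraicGeometry Opposite

namespace Groth.Agent.Lib.Helper14.AS
open AlgSp Groth.Agent.Lib.Helper14.AS

variable {S : Scheme.{u}} {X : Sp S}

/-- A germ of a section of an abelian sheaf vanishes iff the section vanishes on a smaller
neighbourhood. -/
theorem germ_eq_zero_iff (hX : IsAlgSpace X) (p : FieldPt X) (hp : p.IsGeometric)
    (P : (EtOver X)ᵒᵖ ⥤ AddCommGrpCat.{u + 1}) (U : EtOver X) (l : (FieldPt.liftsTo p).obj U)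
    (σ : ↥(P.obj (op U))) :
    (etPoint hX p hp).toPresheafFiber U l P σ = 0 ↔
      ∃ (V : EtOver X) (φ : V ⟶ U) (v : (FieldPt.liftsTo p).obj V),
        (FieldPt.liftsTo p).map φ v = l ∧ P.map φ.op σ = 0 := by
  have := preservesFilteredColimits_forget_ab.{u}
  have h0 : (etPoint hX p hp).toPresheafFiber U l P (0 : ↥(P.obj (op U))) = 0 := map_zero _
  rw [← h0, (etPoint hX p hp).toPresheafFiber_eq_iff' U l σ 0]
  constructor
  · rintro ⟨V, φ, v, hv, h⟩
    refine ⟨V, φ, v, hv, h.trans ?_⟩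
    exact map_zero _
  · rintro ⟨V, φ, v, hv, h⟩
    refine ⟨V, φ, v, hv, h.trans ?_⟩
    exact (map_zero _).symm


set_option backward.isDefEq.respectTransparency false in
/-- The largest open of `U` on which a section of an abelian sheaf vanishes, with its
characterisations through the site and through stalks. -/
theorem exists_zero_locus (hX : IsAlgSpace X) (F : EtSh X AddCommGrpCat.{u + 1})
    (U : EtOver X) (σ : ↥(F.obj.obj (op U))) :
    ∃ W : TopologicalSpace.Opens ↥U.obj.left.left,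
      (∀ (V : EtOver X) (φ : V ⟶ U),
          F.obj.map φ.op σ = 0 ↔
            Set.range (fun v => φ.hom.left.left v) ⊆ (W : Set ↥U.obj.left.left)) ∧
      (∀ (p : FieldPt X) (hp : p.IsGeometric) (l : (FieldPt.liftsTo p).obj U),
          (etPoint hX p hp).toPresheafFiber U l F.obj σ = 0 ↔
            l.1.left (IsLocalRing.closedPoint p.K) ∈ W) := by
  have := preservesFilteredColimits_forget_ab.{u}
  let W₀ : Set ↥U.obj.left.left :=
    {x | ∃ (V : EtOver X) (φ : V ⟶ U), F.obj.map φ.op σ = 0 ∧ x ∈ Set.range φ.hom.left.left}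
  have hW₀ : IsOpen W₀ := by
    rw [isOpen_iff_forall_mem_open]
    rintro x ⟨V, φ, hφ, hx⟩
    have : Etale φ.hom.left.left := EtOver.etale_left φ
    exact ⟨Set.range φ.hom.left.left, fun y hy => ⟨V, φ, hφ, hy⟩,
      φ.hom.left.left.isOpenMap.isOpen_range, hx⟩
  have h2 : ∀ (p : FieldPt X) (hp : p.IsGeometric) (l : (FieldPt.liftsTo p).obj U),
      (etPoint hX p hp).toPresheafFiber U l F.obj σ = 0 ↔
        l.1.left (IsLocalRing.closedPoint p.K) ∈ W₀ := by
    intro p hp l
    rw [germ_eq_zero_iff]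
    constructor
    · rintro ⟨V, φ, v, hv, h⟩
      refine ⟨V, φ, h, v.1.left (IsLocalRing.closedPoint p.K), ?_⟩
      rw [← hv]
      rfl
    · rintro ⟨V, φ, h, y, hy⟩
      obtain ⟨l', hl'⟩ := exists_lift_through_point p hp φ l y hy
      exact ⟨V, φ, l', hl', h⟩
  refine ⟨⟨W₀, hW₀⟩, fun V φ => ⟨fun h => ?_, fun h => ?_⟩, h2⟩
  · rintro _ ⟨v, rfl⟩
    exact ⟨V, φ, h, v, rfl⟩
  · refine eq_of_germ_eq_sheaf hX F V (F.obj.map φ.op σ) 0 (fun p hp l' => ?_)
    have h0 : (etPoint hX p hp).toPresheafFiber V l' F.obj (0 : ↥(F.obj.obj (op V))) = 0 :=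
      map_zero _
    rw [h0, (etPoint hX p hp).toPresheafFiber_w_apply φ l' F.obj σ, h2]
    exact h ⟨l'.1.left (IsLocalRing.closedPoint p.K), rfl⟩

end Groth.Agent.Lib.Helper14.AS
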