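import Groth.Agent.Lib.Helper14.EtStalk3
universe u
open CategoryTheory CategoryTheory.Limits AlgebraicGeometry Opposite
namespace Groth.Agent.Lib.Helper14.AS
open AlgSp
variable {S : Scheme.{u}} {X : Sp S}

theorem isZero_stalk_of_epi (hX : IsAlgSpace X) (p : FieldPt X) (hp : p.IsGeometric)
    {F G : EtSh X AddCommGrpCat.{u + 1}} (a : F ⟶ G) [Epi a] (h : IsZero (stalkEt p F)) :
    IsZero (stalkEt p G) := by
  have h1 : Epi (((etPoint hX p hp).sheafFiber (A := AddCommGrpCat.{u + 1})).map a) := inferInstance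
  have h' : IsZero (((etPoint hX p hp).sheafFiber (A := AddCommGrpCat.{u + 1})).obj F) := h
  exact @IsZero.of_epi _ _ _ _ _ _ h1 h'

theorem isZero_stalk_of_mono (hX : IsAlgSpace X) (p : FieldPt X) (hp : p.IsGeometric)
    {F G : EtSh X AddCommGrpCat.{u + 1}} (a : F ⟶ G) [Mono a] (h : IsZero (stalkEt p G)) :
    IsZero (stalkEt p F) := by
  have := ab5_ab.{u}
  have h1 : Mono (((etPoint hX p hp).sheafFiber (A := AddCommGrpCat.{u + 1})).map a) := inferInstance
  have h' : IsZero (((etPoint hX p hp).sheafFiber (A := AddCommGrpCat.{u + 1})).obj G) := h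
  exact @IsZero.of_mono _ _ _ _ _ _ h1 h'

end Groth.Agent.Lib.Helper14.AS
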