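import Groth.Agent.Lib.Helper14.EtStalk4
import Groth.Agent.Lib.Helper14.EtStalk5
import Groth.Agent.Lib.Helper14.AlgSpMisc3

universe u
open CategoryTheory CategoryTheory.Limits AlgebraicGeometry Opposite

namespace Groth.Agent.Lib.Helper14.AS
open AlgSp

variable {S : Scheme.{u}} {X : Sp S}

theorem mk_eq_fpt_toHom (p : FieldPt X) : Points.mk p = fpt p.toHom := by
  rw [fpt]
  congr 1
  have := p.uliftYonedaEquiv_toHom
  cases p
  simp only at this ⊢
  congr 1
  exact this.symm

/-- A lift of `p` to an object of the site lies over the point of `|X|` defined by `p`. -/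
theorem mk_eq_ofPt_of_lift (p : FieldPt X) (E : EtOver X) (l : (FieldPt.liftsTo p).obj E) :
    Points.ofPt E.obj.hom (l.1.left (IsLocalRing.closedPoint p.K)) = Points.mk p := by
  rw [mk_eq_fpt_toHom]
  have h := fpt_yon_map_comp l.1 E.obj.hom
  rw [← h]
  congr 1
  exact l.2

/-- Every point of `|X|` is the class of a geometric point. -/
theorem exists_geom_over (x : Points X) : ∃ p : FieldPt X, p.IsGeometric ∧ Points.mk p = x := by
  obtain ⟨K, _, strK, b, rfl⟩ := exists_fpt_eq x
  let k := AlgebraicClosure K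
  let ι : Spec (CommRingCat.of k) ⟶ Spec (CommRingCat.of K) :=
    Spec.map (CommRingCat.ofHom (algebraMap K k))
  let i : Over.mk (ι ≫ strK) ⟶ Over.mk strK := Over.homMk ι rfl
  refine ⟨fieldPtOfHom ((yon S).map i ≫ b), (inferInstance : IsAlgClosed k), ?_⟩
  rw [mk_fieldPtOfHom, fpt_comp_eq]


set_option backward.isDefEq.respectTransparency false in
/-- A geometric point lifts to an object of the site through any point lying over it. -/
theorem exists_lift_of_ofPt_eq (p : FieldPt X) (hp : p.IsGeometric) (E : EtOver X)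
    (e : ↥E.obj.left.left) (he : Points.ofPt E.obj.hom e = Points.mk p) :
    ∃ l : (FieldPt.liftsTo p).obj E, l.1.left (IsLocalRing.closedPoint p.K) = e := by
  have hu : Points.map E.obj.hom (Points.ofScheme E.obj.left e) = Points.mk p := by
    rw [Points.map_ofPt, Category.id_comp]
    exact he
  obtain ⟨ubar, h1, h2⟩ := exists_geom_lift_through (IsAlgSpace.yon_obj E.obj.left) E.obj.hom
    (isEtaleMor_of_repWith _ E.property) p hp _ hu
  obtain ⟨l₀, rfl⟩ := (yon S).map_surjective ubar
  refine ⟨⟨l₀, h1⟩, ?_⟩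
  have h3 := ofPt_yon_map_comp l₀ (𝟙 ((yon S).obj E.obj.left)) (IsLocalRing.closedPoint p.K)
  rw [Category.comp_id] at h3
  rw [h3] at h2
  exact (Points.schemeEquiv E.obj.left).injective h2


set_option backward.isDefEq.respectTransparency false in
/-- Support of an abelian sheaf through stalks and through sections. -/
theorem support_iff (hX : IsAlgSpace X) (F : EtSh X AddCommGrpCat.{u + 1}) (x : Points X) :
    (∃ p : FieldPt X, p.IsGeometric ∧ Points.mk p = x ∧ ¬ IsZero (stalkEt p F)) ↔
      ∃ (U : EtOver X) (σ : ↥(F.obj.obj (op U))) (u : ↥U.obj.left.left),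
        Points.ofPt U.obj.hom u = x ∧
          ∀ (V : EtOver X) (φ : V ⟶ U), F.obj.map φ.op σ = 0 →
            u ∉ Set.range (fun v => φ.hom.left.left v) := by
  have := preservesFilteredColimits_forget_ab.{u}
  constructor
  · rintro ⟨p, hp, rfl, hz⟩
    have hne : ∃ q : ↥((etPoint hX p hp).presheafFiber.obj F.obj), q ≠ 0 := by
      by_contra hcon
      push Not at hcon
      refine hz ?_
      have : Subsingleton ↥((etPoint hX p hp).presheafFiber.obj F.obj) :=
        ⟨fun a b => (hcon a).trans (hcon b).symm⟩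
      exact @AddCommGrpCat.isZero_of_subsingleton
        ((etPoint hX p hp).presheafFiber.obj F.obj) this
    obtain ⟨q, hq⟩ := hne
    obtain ⟨U, l, σ, rfl⟩ := (etPoint hX p hp).toPresheafFiber_jointly_surjective
      (A := AddCommGrpCat.{u + 1}) (P := F.obj) q
    refine ⟨U, σ, l.1.left (IsLocalRing.closedPoint p.K), mk_eq_ofPt_of_lift p U l, ?_⟩
    rintro V φ hφ ⟨y, hy⟩
    obtain ⟨l', hl'⟩ := exists_lift_through_point p hp φ l y hy
    exact hq ((germ_eq_zero_iff hX p hp F.obj U l σ).2 ⟨V, φ, l', hl', hφ⟩)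
  · rintro ⟨U, σ, u, rfl, h⟩
    obtain ⟨p, hp, l, rfl⟩ := exists_geom_nbhd U u
    refine ⟨p, hp, (mk_eq_ofPt_of_lift p U l).symm, fun hz => ?_⟩
    have hs : Subsingleton ↑((etPoint hX p hp).presheafFiber.obj F.obj) :=
      AddCommGrpCat.subsingleton_of_isZero hz
    have h0 : (etPoint hX p hp).toPresheafFiber U l F.obj σ = 0 := hs.elim _ _
    obtain ⟨V, φ, v, hv, hφ⟩ := (germ_eq_zero_iff hX p hp F.obj U l σ).1 h0
    refine h V φ hφ ⟨v.1.left (IsLocalRing.closedPoint p.K), ?_⟩
    rw [← hv]
    rfl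


theorem hasColimits_commRing : HasColimitsOfSize.{u, u} CommRingCat.{u + 1} :=
  hasColimitsOfSizeShrink.{u, u, u + 1, u + 1} _

theorem preservesFilteredColimits_forget_commRing :
    PreservesFilteredColimitsOfSize.{u, u} (forget CommRingCat.{u + 1}) :=
  preservesFilteredColimitsOfSize_shrink.{u, u + 1, u, u + 1} _

set_option backward.isDefEq.respectTransparency false in
/-- The support of a sheaf of rings on the small etale site is closed. -/
theorem isClosed_support_ring (hX : IsAlgSpace X) (O' : EtSh X CommRingCat.{u + 1}) :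
    IsClosed {x : Points X | ∃ p : FieldPt X, p.IsGeometric ∧ Points.mk p = x ∧
      Nontrivial ↥(stalkEt p O')} := by
  have := hasColimits_commRing.{u}
  have := preservesFilteredColimits_forget_commRing.{u}
  rw [← isOpen_compl_iff]
  have hset : {x : Points X | ∃ p : FieldPt X, p.IsGeometric ∧ Points.mk p = x ∧
      Nontrivial ↥(stalkEt p O')}ᶜ =
      {x | ∃ E : EtOver X, (1 : ↥(O'.obj.obj (op E))) = 0 ∧
        x ∈ Set.range (Points.ofPt E.obj.hom)} := by
    ext x
    constructor
    · intro hx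
      obtain ⟨p, hp, rfl⟩ := exists_geom_over x
      have hnt : ¬ Nontrivial ↥((etPoint hX p hp).presheafFiber.obj O'.obj) :=
        fun h => hx ⟨p, hp, rfl, h⟩
      rw [not_nontrivial_iff_subsingleton] at hnt
      obtain ⟨⟨E, l⟩⟩ := (isCofiltered_etNbhd hX p hp).nonempty
      have h1 : (etPoint hX p hp).toPresheafFiber E l O'.obj (1 : ↥(O'.obj.obj (op E))) =
          (etPoint hX p hp).toPresheafFiber E l O'.obj (0 : ↥(O'.obj.obj (op E))) := hnt.elim _ _
      obtain ⟨V, φ, v, hv, hφ⟩ := ((etPoint hX p hp).toPresheafFiber_eq_iff' E l _ _).1 h1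
      refine ⟨V, ?_, v.1.left (IsLocalRing.closedPoint p.K), mk_eq_ofPt_of_lift p V v⟩
      have e1 : (O'.obj.map φ.op) (1 : ↥(O'.obj.obj (op E))) = 1 := map_one _
      have e0 : (O'.obj.map φ.op) (0 : ↥(O'.obj.obj (op E))) = 0 := map_zero _
      rw [← e1, ← e0]
      exact hφ
    · rintro ⟨E, h10, e, rfl⟩ ⟨p, hp, hx, hnt⟩
      obtain ⟨l, -⟩ := exists_lift_of_ofPt_eq p hp E e hx.symm
      have hnt' : Nontrivial ↥((etPoint hX p hp).presheafFiber.obj O'.obj) := hnt
      have e1 : (etPoint hX p hp).toPresheafFiber E l O'.obj (1 : ↥(O'.obj.obj (op E))) = 1 :=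
        map_one _
      have e0 : (etPoint hX p hp).toPresheafFiber E l O'.obj (0 : ↥(O'.obj.obj (op E))) = 0 :=
        map_zero _
      rw [h10, e0] at e1
      exact zero_ne_one e1
  rw [hset, isOpen_iff_forall_mem_open]
  rintro x ⟨E, h10, hx⟩
  exact ⟨Set.range (Points.ofPt E.obj.hom), fun y hy => ⟨E, h10, hy⟩,
    (isOpenMap_ofPt E.obj.hom E.property).isOpen_range, hx⟩

end Groth.Agent.Lib.Helper14.AS
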