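import Groth.Agent.Lib.Helper14.EtSite1
import Groth.Agent.Lib.Helper14.AlgSpPoints

universe u
open CategoryTheory CategoryTheory.Limits AlgebraicGeometry Opposite

namespace Groth.Agent.Lib.Helper14.AS
open AlgSp

variable {S : Scheme.{u}} {X : Sp S}

set_option backward.isDefEq.respectTransparency false in
/-- A covering family on whose members a sheaf with subsingleton sections has a section gives a
section on the covered object. -/
theorem nonempty_of_cover (F : EtSh X (Type (u + 1)))
    (hF : ∀ E : EtOver X, Subsingleton (F.obj.obj (op E))) (E : EtOver X)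
    {ι : Type u} (Y : ι → EtOver X) (g : ∀ i, Y i ⟶ E)
    (hg : ∀ x : ↥E.obj.left.left, ∃ i, x ∈ Set.range (g i).hom.left.left)
    (hY : ∀ i, Nonempty (F.obj.obj (op (Y i)))) : Nonempty (F.obj.obj (op E)) := by
  have hR := ofArrows_mem_etTop Y g hg
  have hsh := ((isSheaf_iff_isSheaf_of_type _ _).1 F.2) _ hR
  have hne : ∀ ⦃Z : EtOver X⦄ (f : Z ⟶ E), (Sieve.ofArrows Y g) f → Nonempty (F.obj.obj (op Z)) := by
    rintro Z f ⟨_, a, _, ⟨i⟩, rfl⟩
    obtain ⟨s⟩ := hY i
    exact ⟨F.obj.map a.op s⟩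
  let fam : Presieve.FamilyOfElements F.obj (Sieve.ofArrows Y g).arrows :=
    fun Z f hf => (hne f hf).some
  have hcomp : fam.Compatible := fun _ _ Z _ _ _ _ _ _ _ => (hF Z).elim _ _
  exact ⟨hsh.amalgamate fam hcomp⟩


set_option backward.isDefEq.respectTransparency false in
/-- Subsheaves of the final object of the small etale topos correspond to opens of `|X|`. -/
theorem existsUnique_open_of_subsingleton (hX : IsAlgSpace X) (F : EtSh X (Type (u + 1)))
    (hF : ∀ E : EtOver X, Subsingleton (F.obj.obj (op E))) :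
    ∃! W : Set (Points X), IsOpen W ∧
      ∀ E : EtOver X, Nonempty (F.obj.obj (op E)) ↔ Set.range (Points.ofPt E.obj.hom) ⊆ W := by
  let W : Set (Points X) :=
    {x | ∃ E : EtOver X, Nonempty (F.obj.obj (op E)) ∧ x ∈ Set.range (Points.ofPt E.obj.hom)}
  have hWo : IsOpen W := by
    rw [isOpen_iff_forall_mem_open]
    rintro x ⟨E, hE, hx⟩
    exact ⟨Set.range (Points.ofPt E.obj.hom), fun y hy => ⟨E, hE, hy⟩,
      (isOpenMap_ofPt E.obj.hom E.property).isOpen_range, hx⟩
  have hW : ∀ E : EtOver X, Nonempty (F.obj.obj (op E)) ↔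
      Set.range (Points.ofPt E.obj.hom) ⊆ W := by
    intro E
    constructor
    · intro hE y hy
      exact ⟨E, hE, hy⟩
    · intro hsub
      have key : ∀ x : ↥E.obj.left.left, ∃ (E' : EtOver X), Nonempty (F.obj.obj (op E')) ∧
          x ∈ Set.range (EtOver.prodFst E E').hom.left.left := by
        intro x
        obtain ⟨E', hE', e', he'⟩ := hsub ⟨x, rfl⟩
        have sq := E'.property.1.isPullback' E.obj.hom
        obtain ⟨v, hv1, hv2⟩ := exists_point_of_isPullback_yon sq e' x he'
        exact ⟨E', hE', v, hv2⟩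
      choose E' hE' hx using key
      refine nonempty_of_cover F hF E (fun x => EtOver.prodObj E (E' x))
        (fun x => EtOver.prodFst E (E' x)) (fun x => ⟨x, hx x⟩) (fun x => ?_)
      obtain ⟨s⟩ := hE' x
      exact ⟨F.obj.map (EtOver.prodSnd E (E' x)).op s⟩
  refine ⟨W, ⟨hWo, hW⟩, ?_⟩
  rintro W' ⟨hW'o, hW'⟩
  apply Set.Subset.antisymm
  · intro x hx
    obtain ⟨U, a, hae, has⟩ := hX.atlas
    obtain ⟨u, rfl⟩ := ofPt_surjective_of_repWith has x
    let E₀ : EtOver X := EtOver.mk a hae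
    let V : E₀.obj.left.left.Opens :=
      ⟨(Points.ofPt a) ⁻¹' W', hW'o.preimage (Points.continuous_ofPt a)⟩
    have hpt : ∀ v : ↥(openObj E₀ V).obj.left.left,
        Points.ofPt (openObj E₀ V).obj.hom v = Points.ofPt a v.1 :=
      fun v => ofPt_yon_map_comp _ _ v
    have hsub : Set.range (Points.ofPt (openObj E₀ V).obj.hom) ⊆ W' := by
      rintro _ ⟨v, rfl⟩
      rw [hpt]
      exact v.2
    have hne := (hW' (openObj E₀ V)).2 hsub
    refine ⟨openObj E₀ V, hne, ⟨u, hx⟩, hpt _⟩
  · rintro x ⟨E, hE, hx⟩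
    exact (hW' E).1 hE hx

end Groth.Agent.Lib.Helper14.AS
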