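import Groth.Agent.Lib.Helper21.BaseChg6
import Groth.Agent.Lib.Helper21.BaseChg4
import Groth.Agent.Lib.Helper21.FibDim12
import Groth.Agent.Lib.Helper14.RelDimComp

universe u
open CategoryTheory CategoryTheory.Limits AlgebraicGeometry Opposite TopologicalSpace IsLocalRing

namespace Groth.Agent.Lib.Helper14.AS

open Groth.Agent.Lib.Helper21.BaseChg Groth.Agent.Lib.Helper21.FibDim

section Sch

/-- Along a flat morphism of locally Noetherian schemes local ring dimensions do not decrease. -/
theorem ringKrullDim_stalk_le_of_flat_noeth {F' F : Scheme.{u}} (t : F' ⟶ F) [Flat t]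
    [IsLocallyNoetherian F'] [IsLocallyNoetherian F] (p : F') :
    ringKrullDim (F.presheaf.stalk (t p)) ≤ ringKrullDim (F'.presheaf.stalk p) := by
  rw [ringKrullDim_stalk_eq_add_of_flat t p]
  set I := Ideal.map (t.stalkMap p).hom (maximalIdeal (F.presheaf.stalk (t p))) with hI
  have hle : I ≤ maximalIdeal (F'.presheaf.stalk p) := map_maximalIdeal_le (t.stalkMap p).hom
  have hne : I ≠ ⊤ := fun h =>
    (maximalIdeal.isMaximal (F'.presheaf.stalk p)).ne_top (top_le_iff.mp (h ▸ hle))
  have : Nontrivial (F'.presheaf.stalk p ⧸ I) := Ideal.Quotient.nontrivial_iff.mpr hne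
  exact le_add_of_nonneg_right ringKrullDim_nonneg_of_nontrivial

/-- A flat surjective morphism of locally Noetherian schemes has, over every point, a point with the
same local ring dimension. -/
theorem exists_stalkDim_eq_of_flat_surjective {F' F : Scheme.{u}} (t : F' ⟶ F) [Flat t]
    [IsLocallyNoetherian F'] [IsLocallyNoetherian F] (hs : Function.Surjective t) (z : F) :
    ∃ p : F', t p = z ∧
      ringKrullDim (F'.presheaf.stalk p) = ringKrullDim (F.presheaf.stalk z) := by
  let T : Set (ℕ∞) := (fun p : F' => Order.coheight p) '' (t ⁻¹' {z})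
  have hT : T.Nonempty := by
    obtain ⟨p, hp⟩ := hs z
    exact ⟨_, p, hp, rfl⟩
  obtain ⟨_, ⟨p, hp, rfl⟩, hmin⟩ := wellFounded_lt.has_min T hT
  have hpz : t p = z := hp
  have hfin : ringKrullDim (F'.presheaf.stalk p) < ⊤ := ringKrullDim_lt_top
  have hmax : ∀ x' : F', x' ⤳ p → t x' = t p → x' = p := by
    intro x' hsp hx'
    by_contra hne
    have hlt : p < x' := lt_of_le_not_ge (show p ≤ x' from hsp)
      (fun (hge : x' ≤ p) => hne ((hsp.antisymm (show p ⤳ x' from hge)).eq))
    have h1 := Order.coheight_add_one_le hlt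
    have h2 : ¬ Order.coheight x' < Order.coheight p :=
      hmin _ ⟨x', by rw [Set.mem_preimage, hx', hpz]; rfl, rfl⟩
    push Not at h2
    have h3 : Order.coheight x' + 1 ≤ Order.coheight x' := h1.trans h2
    have h4 : Order.coheight x' = ⊤ := by
      by_contra hc
      exact absurd h3 (not_le.mpr (ENat.lt_add_one_iff hc |>.mpr le_rfl))
    have h5 : Order.coheight p = ⊤ := by
      rw [h4, top_add] at h1
      exact top_le_iff.mp h1
    rw [ringKrullDim_stalk_eq_coheight, h5] at hfin
    exact absurd hfin (by simp)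
  refine ⟨p, hpz, ?_⟩
  rw [ringKrullDim_stalk_eq_of_flat_of_maximal t p hmax, hpz]

variable {X S X' S' : Scheme.{u}} {f : X ⟶ S} {g : S' ⟶ S} {g' : X' ⟶ X} {f' : X' ⟶ S'}

/-- The dimension of the local ring of the fibre does not decrease under base change. -/
theorem fibreStalkDim_le_of_isPullback [LocallyOfFiniteType f] (hsq : IsPullback g' f' f g)
    (x' : X') :
    ringKrullDim ((f.fiber (f (g' x'))).presheaf.stalk (f.asFiber (g' x'))) ≤
      ringKrullDim ((f'.fiber (f' x')).presheaf.stalk (f'.asFiber x')) := by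
  have hf' : LocallyOfFiniteType f' := MorphismProperty.of_isPullback hsq ‹_›
  obtain ⟨t, hpb, ht⟩ := exists_fiber_isPullback hsq (f' x')
  have hflat : Flat t := flat_of_isPullback_field _ _ _ _ t _ hpb
  have : IsLocallyNoetherian (f.fiber (g (f' x'))) :=
    LocallyOfFiniteType.isLocallyNoetherian (f.fiberToSpecResidueField (g (f' x')))
  have : IsLocallyNoetherian (f'.fiber (f' x')) :=
    LocallyOfFiniteType.isLocallyNoetherian (f'.fiberToSpecResidueField (f' x'))
  have hpt : f.fiberι (g (f' x')) (t (f'.asFiber x')) = g' x' := by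
    have h1 := congrArg (fun φ : f'.fiber (f' x') ⟶ X => φ (f'.asFiber x')) ht
    simp only [Scheme.Hom.comp_apply] at h1
    rw [h1, Scheme.Hom.fiberι_asFiber]
  have hs : f (g' x') = g (f' x') := by
    have h1 := congrArg (fun φ : X' ⟶ S => φ x') hsq.w
    simp only [Scheme.Hom.comp_apply] at h1
    exact h1
  rw [← stalkDim_fiber_eq f (g' x') (g (f' x')) hs (t (f'.asFiber x')) hpt]
  exact ringKrullDim_stalk_le_of_flat_noeth t (f'.asFiber x')

/-- Over a pair of compatible points there is a point of the base change whose fibre local ring has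
the same dimension. -/
theorem exists_fibreStalkDim_eq_of_isPullback [LocallyOfFiniteType f] (hsq : IsPullback g' f' f g)
    (x : X) (s' : S') (hxs : f x = g s') :
    ∃ x' : X', g' x' = x ∧ f' x' = s' ∧
      ringKrullDim ((f'.fiber (f' x')).presheaf.stalk (f'.asFiber x')) =
        ringKrullDim ((f.fiber (f x)).presheaf.stalk (f.asFiber x)) := by
  have hf' : LocallyOfFiniteType f' := MorphismProperty.of_isPullback hsq ‹_›
  obtain ⟨t, hpb, ht⟩ := exists_fiber_isPullback hsq s'
  have hflat : Flat t := flat_of_isPullback_field _ _ _ _ t _ hpb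
  have hsurj : Surjective t := surjective_of_isPullback_field _ _ _ _ t _ hpb
  have : IsLocallyNoetherian (f.fiber (g s')) :=
    LocallyOfFiniteType.isLocallyNoetherian (f.fiberToSpecResidueField (g s'))
  have : IsLocallyNoetherian (f'.fiber s') :=
    LocallyOfFiniteType.isLocallyNoetherian (f'.fiberToSpecResidueField s')
  let z : f.fiber (g s') := (f.fiberHomeo (g s')).symm ⟨x, hxs⟩
  have hz : f.fiberι (g s') z = x := f.fiberι_fiberHomeo_symm _ _
  obtain ⟨p, hp, hdim⟩ := exists_stalkDim_eq_of_flat_surjective t hsurj.surj z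
  have hgx : g' (f'.fiberι s' p) = x := by
    have h1 := congrArg (fun φ : f'.fiber s' ⟶ X => φ p) ht
    simp only [Scheme.Hom.comp_apply] at h1
    rw [← h1, hp, hz]
  have hfx : f' (f'.fiberι s' p) = s' := (f'.fiberHomeo s' p).2
  refine ⟨f'.fiberι s' p, hgx, hfx, ?_⟩
  rw [← stalkDim_fiber_eq f' (f'.fiberι s' p) s' hfx p rfl, hdim,
    stalkDim_fiber_eq f x (g s') hxs z hz]

end Sch

end Groth.Agent.Lib.Helper14.AS
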