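import Groth.Agent.Lib.Helper14.GorSp2

universe u
open CategoryTheory CategoryTheory.Limits AlgebraicGeometry Opposite Topology

namespace Groth.Agent.Lib.Helper14.AS
open AlgSp

variable {S : Scheme.{u}} {X Y : Sp S}

set_option backward.isDefEq.respectTransparency.types false in
/-- The fibre of a chart diagram over a point is a base change of the chart of `X ×_Y V`. -/
theorem fibre_chart_square (f : X ⟶ Y) {U V K : Over S}
    (a : (yon S).obj U ⟶ X) (b : (yon S).obj V ⟶ Y) (h : U ⟶ V)
    (comm : a ≫ f = (yon S).map h ≫ b) (g : K ⟶ V) {Xk : Sp S} (a' : Xk ⟶ X)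
    (c : Xk ⟶ (yon S).obj K) (sq : IsPullback a' c f ((yon S).map g ≫ b)) :
    ∃ (e : (yon S).obj (pullback h g) ⟶ Xk) (m : Xk ⟶ pullback f b),
      IsPullback e ((yon S).map (pullback.fst h g)) m (pullback.lift a ((yon S).map h) comm) ∧
      e ≫ a' = (yon S).map (pullback.fst h g) ≫ a ∧
      e ≫ c = (yon S).map (pullback.snd h g) := by
  have sqT := IsPullback.of_hasPullback h g
  have sqTy := sqT.map (yon S)
  have sqP := IsPullback.of_hasPullback f b
  obtain ⟨γ, hγ1, hγ2, hγ⟩ : ∃ γ : (yon S).obj U ⟶ pullback f b, γ ≫ pullback.fst f b = a ∧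
      γ ≫ pullback.snd f b = (yon S).map h ∧ γ = pullback.lift a ((yon S).map h) comm :=
    ⟨pullback.lift a _ comm, pullback.lift_fst _ _ _, pullback.lift_snd _ _ _, rfl⟩
  rw [← hγ]
  obtain ⟨m, hm1, hm2⟩ : ∃ m : Xk ⟶ pullback f b,
      m ≫ pullback.fst f b = a' ∧ m ≫ pullback.snd f b = c ≫ (yon S).map g :=
    ⟨pullback.lift a' (c ≫ (yon S).map g) (by rw [sq.w, Category.assoc]),
      pullback.lift_fst _ _ _, pullback.lift_snd _ _ _⟩
  have sqR : IsPullback c m ((yon S).map g) (pullback.snd f b) := by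
    refine IsPullback.of_bot ?_ hm2.symm sqP.flip
    rw [hm1]
    exact sq.flip
  obtain ⟨e, he1, he2⟩ : ∃ e : (yon S).obj (pullback h g) ⟶ Xk,
      e ≫ a' = (yon S).map (pullback.fst h g) ≫ a ∧
      e ≫ c = (yon S).map (pullback.snd h g) :=
    ⟨sq.lift ((yon S).map (pullback.fst h g) ≫ a) ((yon S).map (pullback.snd h g))
      (by rw [Category.assoc, comm, ← Category.assoc, ← Category.assoc, sqTy.w]),
      sq.lift_fst _ _ _, sq.lift_snd _ _ _⟩
  have hem : e ≫ m = (yon S).map (pullback.fst h g) ≫ γ := by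
    apply pullback.hom_ext
    · rw [Category.assoc, hm1, he1, Category.assoc, hγ1]
    · rw [Category.assoc, hm2, ← Category.assoc, he2, Category.assoc, hγ2, sqTy.w]
  refine ⟨e, m, ?_, he1, he2⟩
  refine IsPullback.of_right ?_ hem sqR
  rw [he2, hγ2]
  exact sqTy.flip

theorem isGorenstein_of_etale {P U : Scheme.{u}} (p : P ⟶ U) [Etale p]
    (hU : Dual3.IsGorenstein U) : Dual3.IsGorenstein P := by
  have := hU.1
  refine ⟨LocallyOfFiniteType.isLocallyNoetherian p, fun w => ?_⟩
  rw [gor_stalk_iff_of_etale p w]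
  exact hU.2 _

theorem isGorenstein_of_etale_surjective {P U : Scheme.{u}} (p : P ⟶ U) [Etale p] [Surjective p]
    [IsLocallyNoetherian U] (hP : Dual3.IsGorenstein P) : Dual3.IsGorenstein U := by
  refine ⟨inferInstance, fun u => ?_⟩
  obtain ⟨w, rfl⟩ := p.surjective u
  rw [← gor_stalk_iff_of_etale p w]
  exact hP.2 _

theorem forall_fiber_pt {U V : Scheme.{u}} (h : U ⟶ V) (v : ↥V)
    (P : ∀ v' : ↥V, ↥(h.fiber v') → Prop)
    (H : ∀ u : ↥U, h u = v → P (h u) (h.asFiber u)) : ∀ t : ↥(h.fiber v), P v t := by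
  intro t
  have hu : h (h.fiberι v t) = v := by
    have : h.fiberι v t ∈ h ⁻¹' {v} := by
      rw [← h.range_fiberι v]
      exact ⟨t, rfl⟩
    exact this
  have key : ∀ (v' : ↥V) (e : v' = v) (t' : ↥(h.fiber v')),
      h.fiberι v' t' = h.fiberι v t → P v' t' → P v t := by
    intro v' e
    subst e
    intro t' ht hP
    rwa [← (h.fiberι v').isEmbedding.injective ht]
  exact key _ hu _ (h.fiberι_asFiber _) (H _ hu)

/-- The fibre of `h` over `v` is Gorenstein iff `h` has Gorenstein fibre local rings at all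
points over `v`. -/
theorem isGorenstein_fiber_iff {U V : Scheme.{u}} (h : U ⟶ V) (v : ↥V)
    [IsLocallyNoetherian (h.fiber v)] :
    Dual3.IsGorenstein (h.fiber v) ↔ ∀ u : ↥U, h u = v →
      LocCoh.IsGorensteinLocalRing ((h.fiber (h u)).presheaf.stalk (h.asFiber u)) := by
  constructor
  · intro H u hu
    subst hu
    exact H.2 _
  · intro H
    exact ⟨inferInstance, forall_fiber_pt h v
      (fun v' t' => LocCoh.IsGorensteinLocalRing ((h.fiber v').presheaf.stalk t')) H⟩

set_option backward.isDefEq.respectTransparency.types false in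
theorem isGorenstein_fiber_of_etaleLocally (f : X ⟶ Y) {U V : Over S}
    (a : (yon S).obj U ⟶ X) (b : (yon S).obj V ⟶ Y) (h : U ⟶ V)
    (ha : RepWith @Etale a) (hb : RepWith @Etale b)
    (comm : a ≫ f = (yon S).map h ≫ b) (v : ↥V.left) {Xv : Sp S} (a' : Xv ⟶ X)
    (c : Xv ⟶ (yon S).obj (Over.mk (V.left.fromSpecResidueField v ≫ V.hom)))
    (sq : IsPullback a' c f ((yon S).map (Over.homMk (V.left.fromSpecResidueField v) rfl :
      Over.mk (V.left.fromSpecResidueField v ≫ V.hom) ⟶ V) ≫ b))
    (hG : EtaleLocally Dual3.IsGorenstein Xv) : Dual3.IsGorenstein (h.left.fiber v) := by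
  obtain ⟨e, m, sqL, -, -⟩ := fibre_chart_square f a b h comm _ a' c sq
  have sqP := IsPullback.of_hasPullback f b
  have hq1 : RepWith @Etale (pullback.fst f b) := repWith_of_isPullback _ sqP.flip hb
  have hγ : RepWith @Etale (pullback.lift a ((yon S).map h) comm) :=
    repWith_etale_of_comp _ _ hq1 (by rw [pullback.lift_fst]; exact ha)
  have hee : RepWith @Etale e := repWith_of_isPullback _ sqL.flip hγ
  have hT := isGorenstein_of_etale_over hG e hee
  have sqS := (IsPullback.of_hasPullback h (Over.homMk (V.left.fromSpecResidueField v) rfl :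
      Over.mk (V.left.fromSpecResidueField v ≫ V.hom) ⟶ V)).map (Over.forget S)
  exact isGorenstein_of_etale sqS.isoPullback.inv hT

set_option backward.isDefEq.respectTransparency.types false in
theorem etaleLocally_isGorenstein_of_fiber (f : X ⟶ Y) {U V : Over S}
    (a : (yon S).obj U ⟶ X) (b : (yon S).obj V ⟶ Y) (h : U ⟶ V)
    (ha : RepWith @Etale a) (hb : RepWith @Etale b)
    (comm : a ≫ f = (yon S).map h ≫ b)
    (hs : RepWith @Surjective (pullback.lift a ((yon S).map h) comm))
    (v : ↥V.left) {Xv : Sp S} (a' : Xv ⟶ X)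
    (c : Xv ⟶ (yon S).obj (Over.mk (V.left.fromSpecResidueField v ≫ V.hom)))
    (sq : IsPullback a' c f ((yon S).map (Over.homMk (V.left.fromSpecResidueField v) rfl :
      Over.mk (V.left.fromSpecResidueField v ≫ V.hom) ⟶ V) ≫ b))
    (hG : Dual3.IsGorenstein (h.left.fiber v)) : EtaleLocally Dual3.IsGorenstein Xv := by
  obtain ⟨e, m, sqL, -, -⟩ := fibre_chart_square f a b h comm _ a' c sq
  have sqP := IsPullback.of_hasPullback f b
  have hq1 : RepWith @Etale (pullback.fst f b) := repWith_of_isPullback _ sqP.flip hb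
  have hγ : RepWith @Etale (pullback.lift a ((yon S).map h) comm) :=
    repWith_etale_of_comp _ _ hq1 (by rw [pullback.lift_fst]; exact ha)
  have hee : RepWith @Etale e := repWith_of_isPullback _ sqL.flip hγ
  have hes : RepWith @Surjective e := repWith_of_isPullback _ sqL.flip hs
  have sqS := (IsPullback.of_hasPullback h (Over.homMk (V.left.fromSpecResidueField v) rfl :
      Over.mk (V.left.fromSpecResidueField v ≫ V.hom) ⟶ V)).map (Over.forget S)
  exact ⟨_, e, hee, hes, isGorenstein_of_etale sqS.isoPullback.hom hG⟩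

end Groth.Agent.Lib.Helper14.AS
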