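import Groth.Agent.Lib.Helper14.FibCrit
import Groth.Agent.Lib.Helper14.GorSp3
import Groth.Agent.Lib.Helper14.GorSp2
import Groth.Agent.Lib.Helper14.AlgSpLocP2
import Groth.Prelude.Def_AlgSpDec
import Groth.Agent.Lib.Helper14.AlgSpFibreEmb

universe u
set_option linter.style.haveILetI false
set_option linter.unusedSectionVars false
open CategoryTheory CategoryTheory.Limits AlgebraicGeometry Opposite Topology

namespace Groth.Agent.Lib.Helper14.AS
open AlgSp

variable {S : Scheme.{u}}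

set_option backward.isDefEq.respectTransparency.types false in
/-- the fibre of a chart diagram is an etale chart of the fibre -/
theorem fibre_chart_etale {X Y : Sp S} (f : X ⟶ Y) {U V K : Over S}
    (a : (yon S).obj U ⟶ X) (b : (yon S).obj V ⟶ Y) (h : U ⟶ V)
    (ha : RepWith @Etale a) (hb : RepWith @Etale b)
    (comm : a ≫ f = (yon S).map h ≫ b) (g : K ⟶ V) {Xk : Sp S} (a' : Xk ⟶ X)
    (c : Xk ⟶ (yon S).obj K) (sq : IsPullback a' c f ((yon S).map g ≫ b)) :
    ∃ (e : (yon S).obj (pullback h g) ⟶ Xk), RepWith @Etale e ∧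
      e ≫ a' = (yon S).map (pullback.fst h g) ≫ a ∧
      e ≫ c = (yon S).map (pullback.snd h g) := by
  obtain ⟨e, m, sqL, he1, he2⟩ := fibre_chart_square f a b h comm g a' c sq
  refine ⟨e, ?_, he1, he2⟩
  have sqP := IsPullback.of_hasPullback f b
  have hq1 : RepWith @Etale (pullback.fst f b) := repWith_of_isPullback _ sqP.flip hb
  have hγ : RepWith @Etale (pullback.lift a ((yon S).map h) comm) :=
    repWith_etale_of_comp _ _ hq1 (by rw [pullback.lift_fst]; exact ha)
  exact repWith_of_isPullback _ sqL.flip hγ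


set_option backward.isDefEq.respectTransparency.types false in
/-- fibrewise flatness on charts, at a point -/
theorem flat_chart_of_fibres {X Y Z : Sp S} (f : X ⟶ Y) (h : Y ⟶ Z)
    (hfl : LocP @Flat (f ≫ h))
    (hfib : ∀ (K : Type u) [Field K] (sK : Spec (CommRingCat.of K) ⟶ S)
      (z : (yon S).obj (Over.mk sK) ⟶ Z) (Xz Yz : Sp S)
      (pX : Xz ⟶ X) (qX : Xz ⟶ (yon S).obj (Over.mk sK))
      (pY : Yz ⟶ Y) (qY : Yz ⟶ (yon S).obj (Over.mk sK)) (fz : Xz ⟶ Yz),
      IsPullback pX qX (f ≫ h) z → IsPullback pY qY h z → fz ≫ pY = pX ≫ f → fz ≫ qY = qX →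
      LocP @Flat fz)
    {U V W : Over S} (a : (yon S).obj U ⟶ X) (b : (yon S).obj V ⟶ Y) (c : (yon S).obj W ⟶ Z)
    (hU : U ⟶ V) (hV : V ⟶ W)
    (ha : RepWith @Etale a) (hb : RepWith @Etale b) (hc : RepWith @Etale c)
    (comm_a : a ≫ f = (yon S).map hU ≫ b) (comm_b : b ≫ h = (yon S).map hV ≫ c)
    [IsLocallyNoetherian U.left] [IsLocallyNoetherian V.left] [IsLocallyNoetherian W.left]
    (u : U.left) :
    (hV.left.stalkMap (hU.left u)).hom.Flat ∧ (hU.left.stalkMap u).hom.Flat := by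
  have comm_ac : a ≫ (f ≫ h) = (yon S).map (hU ≫ hV) ≫ c := by
    rw [← Category.assoc, comm_a, Category.assoc, comm_b, ← Category.assoc, ← Functor.map_comp]
  have hflat : Flat (hU ≫ hV).left := hfl a c (hU ≫ hV) ha hc comm_ac
  obtain ⟨w, hw⟩ : ∃ w : W.left, w = (hU ≫ hV).left u := ⟨_, rfl⟩
  let g : (FieldPt.ofPt c w).pt ⟶ W := Over.homMk (W.left.fromSpecResidueField w) rfl
  have hk : (FieldPt.ofPt c w).toHom = (yon S).map g ≫ c := FieldPt.toHom_ofPt c w
  obtain ⟨z, hz⟩ : ∃ z : (yon S).obj (FieldPt.ofPt c w).pt ⟶ Z, z = (yon S).map g ≫ c := ⟨_, rfl⟩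
  have sqX := IsPullback.of_hasPullback (f ≫ h) z
  have sqY := IsPullback.of_hasPullback h z
  obtain ⟨fz, hfz1, hfz2⟩ : ∃ fz : pullback (f ≫ h) z ⟶ pullback h z,
      fz ≫ pullback.fst _ _ = pullback.fst _ _ ≫ f ∧ fz ≫ pullback.snd _ _ = pullback.snd _ _ :=
    ⟨pullback.lift (pullback.fst _ _ ≫ f) (pullback.snd _ _)
      (by rw [Category.assoc]; exact pullback.condition), pullback.lift_fst _ _ _,
      pullback.lift_snd _ _ _⟩
  have hfz : LocP @Flat fz :=
    hfib (FieldPt.ofPt c w).K (FieldPt.ofPt c w).str z _ _ _ _ _ _ fz sqX sqY hfz1 hfz2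
  subst hz
  obtain ⟨eX, heX, heX1, heX2⟩ := fibre_chart_etale (f ≫ h) a c (hU ≫ hV) ha hc comm_ac g _ _ sqX
  obtain ⟨eY, heY, heY1, heY2⟩ := fibre_chart_etale h b c hV hb hc comm_b g _ _ sqY
  obtain ⟨φ, hφ1, hφ2⟩ : ∃ φ : pullback (hU ≫ hV) g ⟶ pullback hV g,
      φ ≫ pullback.fst _ _ = pullback.fst _ _ ≫ hU ∧ φ ≫ pullback.snd _ _ = pullback.snd _ _ :=
    ⟨pullback.lift (pullback.fst _ _ ≫ hU) (pullback.snd _ _)
      (by rw [Category.assoc]; exact pullback.condition), pullback.lift_fst _ _ _,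
      pullback.lift_snd _ _ _⟩
  have comm : eX ≫ fz = (yon S).map φ ≫ eY := by
    apply pullback.hom_ext
    · rw [Category.assoc, hfz1, ← Category.assoc, heX1, Category.assoc, comm_a, Category.assoc,
        heY1, ← Category.assoc, ← Category.assoc, ← Functor.map_comp, ← Functor.map_comp, hφ1]
    · rw [Category.assoc, hfz2, heX2, Category.assoc, heY2, ← Functor.map_comp, hφ2]
  have hφfl : Flat φ.left := hfz eX eY φ heX heY comm
  have sqUs : IsPullback (pullback.fst (hU ≫ hV) g).left (pullback.snd (hU ≫ hV) g).left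
      (hU.left ≫ hV.left) (W.left.fromSpecResidueField w) :=
    (IsPullback.of_hasPullback (hU ≫ hV) g).map (Over.forget S)
  have sqVs : IsPullback (pullback.fst hV g).left (pullback.snd hV g).left
      hV.left (W.left.fromSpecResidueField w) :=
    (IsPullback.of_hasPullback hV g).map (Over.forget S)
  obtain ⟨y⟩ : Nonempty ↥(Spec (W.left.residueField w)) := inferInstance
  obtain ⟨t, ht1, ht2⟩ := exists_preimage_of_isPullback' sqUs u y
    (hw.symm.trans (Scheme.fromSpecResidueField_apply _ y).symm)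
  have key := flat_of_fibre_flat_sch hU.left hV.left w _ _ _ _ sqUs sqVs φ.left
    (congrArg CommaMorphism.left hφ1) (congrArg CommaMorphism.left hφ2) t
    (Flat.stalkMap (hU.left ≫ hV.left) _) (Flat.stalkMap φ.left t)
  exact ⟨flat_stalkMap_congr hV.left (congrArg hU.left ht1) key.1, flat_stalkMap_congr hU.left ht1 key.2⟩


set_option backward.isDefEq.respectTransparency.types false in
theorem flat_of_flat_fibres_sp {X Y Z : Sp S} (hXa : IsAlgSpace X) (hYa : IsAlgSpace Y)
    (hZa : IsAlgSpace Z) (f : X ⟶ Y) (h : Y ⟶ Z)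
    (hX : IsLocNoethSp X) (hYn : IsLocNoethSp Y) (hZ : IsLocNoethSp Z)
    (hfl : LocP @Flat (f ≫ h))
    (hfib : ∀ (K : Type u) [Field K] (sK : Spec (CommRingCat.of K) ⟶ S)
      (z : (yon S).obj (Over.mk sK) ⟶ Z) (Xz Yz : Sp S)
      (pX : Xz ⟶ X) (qX : Xz ⟶ (yon S).obj (Over.mk sK))
      (pY : Yz ⟶ Y) (qY : Yz ⟶ (yon S).obj (Over.mk sK)) (fz : Xz ⟶ Yz),
      IsPullback pX qX (f ≫ h) z → IsPullback pY qY h z → fz ≫ pY = pX ≫ f → fz ≫ qY = qX →
      LocP @Flat fz) :
    LocP @Flat f ∧ (IsSurjectiveMor f → LocP @Flat h) := by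
  obtain ⟨W, c, hce, hcs⟩ := hZa.atlas
  obtain ⟨V, b, hV, hbe, hbs, comm_b⟩ := exists_chart_diagram hYa h c hce hcs
  obtain ⟨U, a, hU, hae, has, comm_a⟩ := exists_chart_diagram hXa f b hbe hbs
  haveI := isLocallyNoetherian_of_etale_over hX a hae
  haveI := isLocallyNoetherian_of_etale_over hYn b hbe
  haveI := isLocallyNoetherian_of_etale_over hZ c hce
  refine ⟨locP_of_chart etLocal_flat f a b hU hae has hbe comm_a (Flat.of_stalkMap _ fun u =>
    (flat_chart_of_fibres f h hfl hfib a b c hU hV hae hbe hce comm_a comm_b u).2), fun hsurj => ?_⟩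
  refine locP_of_chart etLocal_flat h b c hV hbe hbs hce comm_b (Flat.of_stalkMap _ fun v => ?_)
  obtain ⟨x, hx⟩ := hsurj (Points.ofPt b v)
  obtain ⟨U', a', h', u', ha', comm', -, hu'⟩ :=
    exists_chart_diagram_over hXa hYa f b hbe x v hx.symm
  haveI := isLocallyNoetherian_of_etale_over hX a' ha'
  exact flat_stalkMap_congr hV.left hu'
    (flat_chart_of_fibres f h hfl hfib a' b c h' hV ha' hbe hce comm' comm_b u').1

end Groth.Agent.Lib.Helper14.AS
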