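import Mathlib

set_option autoImplicit false
universe u
open TensorProduct IsLocalRing

namespace Groth.Agent.Lib.Helper14.FibRk

/-- over a local ring, the rank of the closed fibre of a flat module is at most its rank -/
theorem finrank_residue_le_rank (A M : Type u) [CommRing A] [IsLocalRing A] [AddCommGroup M]
    [Module A M] [Module.Flat A M] :
    (Module.finrank (ResidueField A) (ResidueField A ⊗[A] M) : Cardinal.{u}) ≤ Module.rank A M := by
  obtain ⟨w, hw⟩ := exists_linearIndependent_of_le_finrank
    (le_refl (Module.finrank (ResidueField A) (ResidueField A ⊗[A] M)))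
  have hsurj : Function.Surjective (TensorProduct.mk A (ResidueField A) M 1) :=
    TensorProduct.mk_surjective A M (ResidueField A) IsLocalRing.residue_surjective
  choose v hv using fun i => hsurj (w i)
  have h1 : LinearIndependent A v := by
    apply Module.IsLocalRing.linearIndependent_of_flat
    have : (TensorProduct.mk A (ResidueField A) M 1) ∘ v = w := funext hv
    rw [this]
    exact hw
  have h2 := h1.cardinal_lift_le_rank
  simpa using h2

/-- the rank of a fibre of a flat algebra is at most the degree of the fraction field extension -/
theorem finrank_fibre_le (R B A K L : Type u) [CommRing R] [CommRing B] [Algebra R B]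
    [Module.Flat R B] [CommRing A] [IsLocalRing A] [IsDomain A] [Algebra R A] [FaithfulSMul R A]
    [Field K] [Field L] [Algebra R K] [IsFractionRing R K] [Algebra K L] [Algebra R L]
    [IsScalarTower R K L] [Module.Finite K L] [Algebra B L] [IsScalarTower R B L]
    (hinj : Function.Injective (algebraMap B L)) :
    Module.finrank (ResidueField A) (ResidueField A ⊗[R] B) ≤ Module.finrank K L := by
  let e : ResidueField A ⊗[A] (A ⊗[R] B) ≃ₗ[ResidueField A] ResidueField A ⊗[R] B :=
    AlgebraTensorModule.cancelBaseChange R A (ResidueField A) (ResidueField A) B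
  rw [← e.finrank_eq]
  have h1 := finrank_residue_le_rank A (A ⊗[R] B)
  have h2 : Module.rank A (A ⊗[R] B) = Module.rank R B :=
    IsBaseChange.rank_eq (TensorProduct.isBaseChange R B A)
  have h3 : Module.rank R B ≤ Module.rank R L :=
    LinearMap.rank_le_of_injective (IsScalarTower.toAlgHom R B L).toLinearMap hinj
  have h4 : Module.rank K L = Module.rank R L := IsFractionRing.rank_right_eq R K L
  have h5 : (Module.finrank K L : Cardinal.{u}) = Module.rank K L := Module.finrank_eq_rank K L
  have h6 : (Module.finrank (ResidueField A) (ResidueField A ⊗[A] (A ⊗[R] B)) : Cardinal.{u}) ≤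
      (Module.finrank K L : Cardinal.{u}) := by
    rw [h5, h4]
    exact h1.trans (h2.le.trans h3)
  exact_mod_cast h6

end Groth.Agent.Lib.Helper14.FibRk
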