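import Mathlib
import Groth.Agent.Lib.Helper23.MiracleFinReg

set_option autoImplicit false
set_option linter.style.haveILetI false
universe u
open AlgebraicGeometry CategoryTheory Limits TopologicalSpace

namespace Groth.Agent.Lib.Helper14.FibRk

/-- integrality of elements is preserved along commutative squares -/
theorem isIntegralElem_of_square {R S R' S' : Type u} [CommRing R] [CommRing S] [CommRing R']
    [CommRing S'] (φ : R →+* S) (ψ : R' →+* S') (h : R →+* R') (g : S →+* S')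
    (hsq : g.comp φ = ψ.comp h) (b : S) (hb : φ.IsIntegralElem b) : ψ.IsIntegralElem (g b) := by
  obtain ⟨p, hp, hpb⟩ := hb
  refine ⟨p.map h, hp.map h, ?_⟩
  rw [Polynomial.eval₂_map, ← hsq, ← Polynomial.hom_eval₂, hpb, map_zero]

/-- a dominant morphism locally of finite type between integral schemes with regular local rings
is flat at every point where it is quasi-finite -/
theorem flat_stalkMap_of_quasiFiniteAt {X Y : Scheme.{u}} [IsIntegral X] [IsIntegral Y]
    (f : X ⟶ Y) [IsDominant f] [LocallyOfFiniteType f]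
    (hX : ∀ x : X, IsRegularLocalRing (X.presheaf.stalk x))
    (hY : ∀ y : Y, IsRegularLocalRing (Y.presheaf.stalk y)) (x : X) (hx : f.QuasiFiniteAt x) :
    (f.stalkMap x).hom.Flat := by
  obtain ⟨_, ⟨V, hV : IsAffineOpen V, rfl⟩, hyV, -⟩ :=
    Y.isBasis_affineOpens.exists_subset_of_mem_open (Set.mem_univ (f x)) isOpen_univ
  obtain ⟨_, ⟨U, hU : IsAffineOpen U, rfl⟩, hxU, hUV⟩ :=
    X.isBasis_affineOpens.exists_subset_of_mem_open (show x ∈ (f ⁻¹ᵁ V : Set X) from hyV)
      (f ⁻¹ᵁ V).isOpen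
  have hUV' : U ≤ f ⁻¹ᵁ V := hUV
  have hqf := hx.quasiFiniteAt hU hV hUV' hxU
  have hft : (f.appLE V U hUV').hom.FiniteType := f.finiteType_appLE hV hU hUV'
  haveI := hX x
  haveI := hY (f x)
  letI : Algebra (Y.presheaf.stalk (f x)) (X.presheaf.stalk x) := (f.stalkMap x).hom.toAlgebra
  haveI : IsLocalHom (algebraMap (Y.presheaf.stalk (f x)) (X.presheaf.stalk x)) :=
    inferInstanceAs (IsLocalHom (f.stalkMap x).hom)
  change Module.Flat (Y.presheaf.stalk (f x)) (X.presheaf.stalk x)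
  have hinj : Function.Injective (f.stalkMap x).hom := by
    refine Groth.Agent.Lib.Helper23.MiracleFinReg.stalkMap_injective f
      (fun y => haveI := hY y; Groth.Agent.Lib.Helper21.isDomain_of_isRegularLocalRing _) ?_ x
    intro Z hZ
    rw [irreducibleComponents_eq_singleton] at hZ ⊢
    rw [Set.mem_singleton_iff] at hZ ⊢
    rw [hZ, Set.image_univ]
    exact f.denseRange.closure_range
  letI algR : Algebra Γ(Y, V) Γ(X, U) := (f.appLE V U hUV').hom.toAlgebra
  letI algG : Algebra Γ(X, U) (X.presheaf.stalk x) := (X.presheaf.germ U x hxU).hom.toAlgebra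
  haveI loc : IsLocalization.AtPrime (X.presheaf.stalk x) (hU.primeIdealOf ⟨x, hxU⟩).asIdeal :=
    hU.isLocalization_stalk ⟨x, hxU⟩
  haveI : Algebra.FiniteType Γ(Y, V) Γ(X, U) := hft
  haveI : Algebra.QuasiFiniteAt Γ(Y, V) (hU.primeIdealOf ⟨x, hxU⟩).asIdeal := hqf
  obtain ⟨r, hrq, hr, H⟩ := Algebra.zariskisMainProperty_iff.mp
    (Algebra.ZariskisMainProperty.of_finiteType (R := Γ(Y, V)) (hU.primeIdealOf ⟨x, hxU⟩).asIdeal)
  have hsq : (X.presheaf.germ U x hxU).hom.comp (f.appLE V U hUV').hom =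
      (f.stalkMap x).hom.comp (Y.presheaf.germ V (f x) hyV).hom := by
    rw [← CommRingCat.hom_comp, ← CommRingCat.hom_comp, Scheme.Hom.germ_stalkMap,
      Scheme.Hom.appLE, Category.assoc, X.presheaf.germ_res]
  refine Groth.Agent.Lib.Helper23.MiracleFinReg.flat_of_ess_integral _ _ hinj
    (integralClosure Γ(Y, V) Γ(X, U))
    ((X.presheaf.germ U x hxU).hom.comp (integralClosure Γ(Y, V) Γ(X, U)).val.toRingHom) ?_ ?_
  · intro b
    exact isIntegralElem_of_square (f.appLE V U hUV').hom (f.stalkMap x).hom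
      (Y.presheaf.germ V (f x) hyV).hom (X.presheaf.germ U x hxU).hom hsq b.1 b.2
  · intro z
    obtain ⟨⟨a, s⟩, has⟩ := IsLocalization.surj (hU.primeIdealOf ⟨x, hxU⟩).asIdeal.primeCompl z
    obtain ⟨m, hm⟩ := H a
    obtain ⟨n, hn⟩ := H s.1
    have hmem : r ^ n * s.1 * r ^ m ∈ (hU.primeIdealOf ⟨x, hxU⟩).asIdeal.primeCompl :=
      mul_mem (mul_mem (pow_mem (show r ∈ (hU.primeIdealOf ⟨x, hxU⟩).asIdeal.primeCompl from hrq) n)
        s.2) (pow_mem (show r ∈ (hU.primeIdealOf ⟨x, hxU⟩).asIdeal.primeCompl from hrq) m)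
    refine ⟨⟨r ^ m * a, hm⟩ * ⟨r, hr⟩ ^ n, ⟨r ^ n * s.1, hn⟩ * ⟨r, hr⟩ ^ m, ?_, ?_⟩
    · have h0 : IsUnit ((X.presheaf.germ U x hxU).hom (r ^ n * s.1 * r ^ m)) :=
        IsLocalization.map_units (X.presheaf.stalk x) ⟨_, hmem⟩
      exact h0
    · have has' : z * (X.presheaf.germ U x hxU).hom s.1 = (X.presheaf.germ U x hxU).hom a := has
      simp only [RingHom.comp_apply, AlgHom.toRingHom_eq_coe, RingHom.coe_coe, map_mul, map_pow,
        Subalgebra.coe_val]
      rw [← has']
      ring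

end Groth.Agent.Lib.Helper14.FibRk
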