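import Mathlib

set_option autoImplicit false
set_option linter.style.haveILetI false
universe u
open AlgebraicGeometry CategoryTheory Limits TopologicalSpace TensorProduct

namespace Groth.Agent.Lib.Helper14.FibRk

/-- the fibre over `y` of a morphism `f`, when contained in an affine open `U` mapping to an affine
open `V`, is the spectrum of `κ(y) ⊗ Γ(U)` -/
theorem exists_iso_fibre {X Y : Scheme.{u}} (f : X ⟶ Y) (y : Y) {V : Y.Opens} (hV : IsAffineOpen V)
    (hyV : y ∈ V) {U : X.Opens} (hU : IsAffineOpen U) (hUV : U ≤ f ⁻¹ᵁ V)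
    (hF : f ⁻¹' {y} ⊆ (U : Set X)) :
    letI algRA : Algebra Γ(Y, V) (Y.presheaf.stalk y) := (Y.presheaf.germ V y hyV).hom.toAlgebra
    letI algRB : Algebra Γ(Y, V) Γ(X, U) := (f.appLE V U hUV).hom.toAlgebra
    ∃ e : pullback f (Y.fromSpecResidueField y) ≅
        Spec (.of (IsLocalRing.ResidueField (Y.presheaf.stalk y) ⊗[Γ(Y, V)] Γ(X, U))),
      e.hom ≫ Spec.map (CommRingCat.ofHom (algebraMap (IsLocalRing.ResidueField (Y.presheaf.stalk y))
        (IsLocalRing.ResidueField (Y.presheaf.stalk y) ⊗[Γ(Y, V)] Γ(X, U)))) =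
        pullback.snd f (Y.fromSpecResidueField y) := by
  letI algRA : Algebra Γ(Y, V) (Y.presheaf.stalk y) := (Y.presheaf.germ V y hyV).hom.toAlgebra
  letI algRB : Algebra Γ(Y, V) Γ(X, U) := (f.appLE V U hUV).hom.toAlgebra
  have hrange : Set.range (pullback.fst f (Y.fromSpecResidueField y)) ⊆ Set.range hU.fromSpec := by
    rw [hU.range_fromSpec]
    rintro _ ⟨z, rfl⟩
    apply hF
    have := Scheme.Hom.range_fiberι f y
    have hz : (f.fiberι y) z ∈ Set.range (f.fiberι y) := ⟨z, rfl⟩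
    rw [this] at hz
    exact hz
  obtain ⟨i, hi0⟩ : ∃ i, i = IsOpenImmersion.lift hU.fromSpec
    (pullback.fst f (Y.fromSpecResidueField y)) hrange := ⟨_, rfl⟩
  have hi : i ≫ hU.fromSpec = pullback.fst f (Y.fromSpecResidueField y) := by
    rw [hi0]; exact IsOpenImmersion.lift_fac _ _ _
  obtain ⟨ev, hev0⟩ : ∃ ev : Spec (Y.residueField y) ⟶ Spec Γ(Y, V),
      ev = Spec.map (CommRingCat.ofHom (algebraMap Γ(Y, V)
        (IsLocalRing.ResidueField (Y.presheaf.stalk y)))) := ⟨_, rfl⟩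
  obtain ⟨φs, hφ0⟩ : ∃ φs : Spec Γ(X, U) ⟶ Spec Γ(Y, V),
      φs = Spec.map (CommRingCat.ofHom (algebraMap Γ(Y, V) Γ(X, U))) := ⟨_, rfl⟩
  have hev : ev ≫ hV.fromSpec = Y.fromSpecResidueField y := by
    have h1 : ev = Spec.map (Y.residue y) ≫ Spec.map (Y.presheaf.germ V y hyV) := by
      rw [hev0]
      exact Spec.map_comp (Y.presheaf.germ V y hyV) (Y.residue y)
    rw [h1, Category.assoc, Scheme.fromSpecResidueField,
      ← hV.fromSpecStalk_eq_fromSpecStalk hyV, IsAffineOpen.fromSpecStalk]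
  have hφ : φs ≫ hV.fromSpec = hU.fromSpec ≫ f := by
    rw [hφ0]
    exact IsAffineOpen.SpecMap_appLE_fromSpec f hV hU hUV
  have sqA : IsPullback i (𝟙 _) hU.fromSpec (pullback.fst f (Y.fromSpecResidueField y)) :=
    IsPullback.of_vert_isIso_mono ⟨by rw [hi, Category.id_comp]⟩
  have sqB := IsPullback.of_hasPullback f (Y.fromSpecResidueField y)
  have sqC : IsPullback i (pullback.snd f (Y.fromSpecResidueField y)) (φs ≫ hV.fromSpec)
      (ev ≫ hV.fromSpec) := by
    rw [hφ, hev]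
    simpa using sqA.paste_vert sqB
  have sqD : IsPullback ev (𝟙 _) hV.fromSpec (ev ≫ hV.fromSpec) :=
    IsPullback.of_vert_isIso_mono ⟨by rw [Category.id_comp]⟩
  have hcomm : i ≫ φs = pullback.snd f (Y.fromSpecResidueField y) ≫ ev := by
    rw [← cancel_mono hV.fromSpec, Category.assoc, Category.assoc, hφ, hev, ← Category.assoc, hi]
    exact pullback.condition
  have sqE : IsPullback i (pullback.snd f (Y.fromSpecResidueField y)) φs ev := by
    refine IsPullback.of_bot ?_ hcomm sqD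
    rw [Category.comp_id]
    exact sqC
  rw [hφ0, hev0] at sqE
  refine ⟨sqE.flip.isoPullback ≪≫ pullbackSpecIso Γ(Y, V)
    (IsLocalRing.ResidueField (Y.presheaf.stalk y)) Γ(X, U), ?_⟩
  have h2 := pullbackSpecIso_hom_fst' Γ(Y, V) (IsLocalRing.ResidueField (Y.presheaf.stalk y)) Γ(X, U)
  have h3 := sqE.flip.isoPullback_hom_fst
  exact (Category.assoc _ _ _).trans
    ((congrArg (fun t => sqE.flip.isoPullback.hom ≫ t) h2).trans h3)

/-- the rank of the ring of global sections of the fibre -/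
theorem finrank_fibre_eq {X Y : Scheme.{u}} (f : X ⟶ Y) (y : Y) {V : Y.Opens} (hV : IsAffineOpen V)
    (hyV : y ∈ V) {U : X.Opens} (hU : IsAffineOpen U) (hUV : U ≤ f ⁻¹ᵁ V)
    (hF : f ⁻¹' {y} ⊆ (U : Set X)) :
    letI algRA : Algebra Γ(Y, V) (Y.presheaf.stalk y) := (Y.presheaf.germ V y hyV).hom.toAlgebra
    letI algRB : Algebra Γ(Y, V) Γ(X, U) := (f.appLE V U hUV).hom.toAlgebra
    (letI := ((Scheme.ΓSpecIso (CommRingCat.of (Y.residueField y))).inv ≫
            (pullback.snd f (Y.fromSpecResidueField y)).appTop).hom.toAlgebra;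
          Module.finrank (Y.residueField y) ↑(Γ(pullback f (Y.fromSpecResidueField y), ⊤))) =
      Module.finrank (IsLocalRing.ResidueField (Y.presheaf.stalk y))
        (IsLocalRing.ResidueField (Y.presheaf.stalk y) ⊗[Γ(Y, V)] Γ(X, U)) := by
  letI algRA : Algebra Γ(Y, V) (Y.presheaf.stalk y) := (Y.presheaf.germ V y hyV).hom.toAlgebra
  letI algRB : Algebra Γ(Y, V) Γ(X, U) := (f.appLE V U hUV).hom.toAlgebra
  obtain ⟨e, he⟩ := exists_iso_fibre f y hV hyV hU hUV hF
  letI algC := ((Scheme.ΓSpecIso (CommRingCat.of (Y.residueField y))).inv ≫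
    (pullback.snd f (Y.fromSpecResidueField y)).appTop).hom.toAlgebra
  obtain ⟨a, ha⟩ : ∃ a, a = CommRingCat.ofHom (algebraMap
      (IsLocalRing.ResidueField (Y.presheaf.stalk y))
      (IsLocalRing.ResidueField (Y.presheaf.stalk y) ⊗[Γ(Y, V)] Γ(X, U))) := ⟨_, rfl⟩
  rw [← ha] at he
  have hmor : (Scheme.ΓSpecIso (CommRingCat.of (Y.residueField y))).inv ≫
      (pullback.snd f (Y.fromSpecResidueField y)).appTop =
      a ≫ (Scheme.ΓSpecIso _).inv ≫ e.hom.appTop := by
    have h1 := Scheme.Hom.comp_appTop e.hom (Spec.map a)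
    rw [he] at h1
    have h2 := Scheme.ΓSpecIso_inv_naturality a
    calc _ = (Scheme.ΓSpecIso _).inv ≫ ((Spec.map a).appTop ≫ e.hom.appTop) :=
          congrArg (fun t => (Scheme.ΓSpecIso _).inv ≫ t) h1
      _ = ((Scheme.ΓSpecIso _).inv ≫ (Spec.map a).appTop) ≫ e.hom.appTop :=
          (Category.assoc _ _ _).symm
      _ = (a ≫ (Scheme.ΓSpecIso _).inv) ≫ e.hom.appTop :=
          congrArg (fun t => t ≫ e.hom.appTop) h2.symm
      _ = _ := Category.assoc _ _ _
  haveI : IsIso e.hom.appTop := by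
    refine ⟨e.inv.appTop, ?_, ?_⟩
    · rw [← Scheme.Hom.comp_appTop, e.inv_hom_id]; rfl
    · rw [← Scheme.Hom.comp_appTop, e.hom_inv_id]; rfl
  haveI : IsIso ((Scheme.ΓSpecIso (.of (IsLocalRing.ResidueField (Y.presheaf.stalk y)
      ⊗[Γ(Y, V)] Γ(X, U)))).inv ≫ e.hom.appTop) := inferInstance
  have hbij : Function.Bijective ((Scheme.ΓSpecIso (.of (IsLocalRing.ResidueField
      (Y.presheaf.stalk y) ⊗[Γ(Y, V)] Γ(X, U)))).inv ≫ e.hom.appTop).hom :=
    ConcreteCategory.bijective_of_isIso _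
  symm
  refine Algebra.finrank_eq_of_equiv_equiv (RingEquiv.refl _) (RingEquiv.ofBijective _ hbij) ?_
  ext t
  have := congrArg (fun g => g.hom t) hmor
  rw [ha] at this
  exact this

end Groth.Agent.Lib.Helper14.FibRk
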