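import Mathlib
import Groth.Agent.Lib.Helper14.FibRk1
import Groth.Agent.Lib.Helper14.FibRk2
import Groth.Agent.Lib.Helper14.FibRk3
import Groth.Agent.Lib.Helper20.HE1
import Groth.Agent.Lib.Helper21.GenFin5

set_option autoImplicit false
set_option linter.style.haveILetI false
set_option linter.unusedSectionVars false
universe u
open AlgebraicGeometry CategoryTheory Limits TopologicalSpace TensorProduct

namespace Groth.Agent.Lib.Helper14.FibRk

open Groth.Agent.Lib.Helper20.DimTrdeg Groth.Agent.Lib.Helper21.GenFin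

variable {X Y : Scheme.{u}}

/-- points of a finite fibre are quasi-finite points -/
theorem quasiFiniteAt_of_finite_fiber (f : X ⟶ Y) [LocallyOfFiniteType f] (y : Y)
    (hfin : Finite (f.fiber y)) (x : X) (hx : f x = y) : f.QuasiFiniteAt x := by
  subst hx
  exact Scheme.Hom.quasiFiniteAt_iff_isOpen_singleton_asFiber.mpr (isOpen_discrete _)

/-- an affine open containing a finite fibre, mapping into a given affine open, all of whose points
are quasi-finite points -/
theorem exists_affine_nhd_fibre (f : X ⟶ Y) [LocallyOfFiniteType f] [IsSeparated f] (y : Y)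
    (hfin : Finite (f.fiber y)) {V : Y.Opens} (hV : IsAffineOpen V) (hyV : y ∈ V) :
    ∃ U : X.Opens, IsAffineOpen U ∧ U ≤ f ⁻¹ᵁ V ∧ U ≤ f.quasiFiniteLocus ∧
      f ⁻¹' {y} ⊆ (U : Set X) := by
  have hFfin : (f ⁻¹' {y}).Finite := by
    have : Finite ↥(f ⁻¹' {y}) := (f.fiberHomeo y).finite_iff.mp hfin
    exact Set.toFinite _
  obtain ⟨T, hT⟩ : ∃ T : X.Opens, T = f.quasiFiniteLocus ⊓ f ⁻¹ᵁ V := ⟨_, rfl⟩
  have hTV : T ≤ f ⁻¹ᵁ V := hT ▸ inf_le_right
  have hTQ : T ≤ f.quasiFiniteLocus := hT ▸ inf_le_left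
  haveI : IsAffine V.toScheme := hV
  haveI h1 : LocallyQuasiFinite (T.ι ≫ f) := by
    rw [← X.homOfLE_ι hTQ, Category.assoc]
    infer_instance
  haveI h2 : LocallyQuasiFinite (f.resLE V T hTV ≫ V.ι) := by
    rw [Scheme.Hom.resLE_comp_ι]; exact h1
  haveI h3 : IsSeparated (f.resLE V T hTV ≫ V.ι) := by
    rw [Scheme.Hom.resLE_comp_ι]; infer_instance
  haveI : LocallyQuasiFinite (f.resLE V T hTV) := LocallyQuasiFinite.of_comp _ V.ι
  haveI : IsSeparated (f.resLE V T hTV) := IsSeparated.of_comp _ V.ι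
  obtain ⟨W, hW, hFW⟩ := Groth.Agent.Lib.Helper20.HE.exists_affine_open_of_finite
    (f.resLE V T hTV) (T.ι ⁻¹' (f ⁻¹' {y}))
    (hFfin.preimage T.ι.isOpenEmbedding.injective.injOn)
  have hUT : T.ι ''ᵁ W ≤ T := by
    rintro _ ⟨w, _, rfl⟩
    exact w.2
  refine ⟨T.ι ''ᵁ W, hW.image_of_isOpenImmersion T.ι, hUT.trans hTV, hUT.trans hTQ, ?_⟩
  intro x hx
  have hxT : x ∈ T := by
    rw [hT]
    refine ⟨quasiFiniteAt_of_finite_fiber f y hfin x hx, ?_⟩
    show f x ∈ V
    rw [show f x = y from hx]; exact hyV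
  exact ⟨⟨x, hxT⟩, hFW (show T.ι ⟨x, hxT⟩ ∈ f ⁻¹' {y} from hx), rfl⟩

/-- fibre rank ≤ degree for a dominant separated morphism of integral schemes with regular local
rings -/
theorem finrank_fibre_le_degree [IsIntegral X] [IsIntegral Y] (f : X ⟶ Y) [IsDominant f]
    [LocallyOfFiniteType f] [IsSeparated f]
    (hX : ∀ x : X, IsRegularLocalRing (X.presheaf.stalk x))
    (hY : ∀ y : Y, IsRegularLocalRing (Y.presheaf.stalk y)) (y : Y)
    (hy : IsFinite (pullback.snd f (Y.fromSpecResidueField y))) :
    (letI := ((Scheme.ΓSpecIso (CommRingCat.of (Y.residueField y))).inv ≫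
            (pullback.snd f (Y.fromSpecResidueField y)).appTop).hom.toAlgebra;
          Module.finrank (Y.residueField y) ↑(Γ(pullback f (Y.fromSpecResidueField y), ⊤))) ≤
      (letI := (f.residueFieldMap (genericPoint ↥X)).hom.toAlgebra;
          Module.finrank (Y.residueField (f.base (genericPoint ↥X)))
            (X.residueField (genericPoint ↥X))) := by
  have hfξ : f (genericPoint X) = genericPoint Y := map_genericPoint f
  rcases isEmpty_or_nonempty ↥(pullback f (Y.fromSpecResidueField y)) with hemp | ⟨⟨z⟩⟩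
  · letI algC := ((Scheme.ΓSpecIso (CommRingCat.of (Y.residueField y))).inv ≫
      (pullback.snd f (Y.fromSpecResidueField y)).appTop).hom.toAlgebra
    haveI : Subsingleton ↑(Γ(pullback f (Y.fromSpecResidueField y), ⊤)) := inferInstance
    rw [Module.finrank_zero_of_subsingleton]
    exact Nat.zero_le _
  have hfin : Finite (f.fiber y) := by
    have h1 := (pullback.snd f (Y.fromSpecResidueField y)).finite_preimage_singleton
      (pullback.snd f (Y.fromSpecResidueField y) z)
    have h2 : (pullback.snd f (Y.fromSpecResidueField y)) ⁻¹'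
        {pullback.snd f (Y.fromSpecResidueField y) z} = Set.univ :=
      Set.eq_univ_of_forall fun w => Subsingleton.elim _ _
    rw [h2] at h1
    exact Set.finite_univ_iff.mp h1
  obtain ⟨_, ⟨V : Y.Opens, hV : IsAffineOpen V, rfl⟩, hyV, -⟩ :=
    Y.isBasis_affineOpens.exists_subset_of_mem_open (Set.mem_univ y) isOpen_univ
  haveI : Nonempty V := ⟨⟨y, hyV⟩⟩
  obtain ⟨U, hU, hUV, hUQ, hFU⟩ := exists_affine_nhd_fibre f y hfin hV hyV
  have hzU : (pullback.fst f (Y.fromSpecResidueField y)) z ∈ U := by
    apply hFU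
    have hz : (f.fiberι y) z ∈ Set.range (f.fiberι y) := ⟨z, rfl⟩
    rw [Scheme.Hom.range_fiberι] at hz
    exact hz
  have hξU : genericPoint X ∈ U :=
    (genericPoint_specializes _).mem_open U.isOpen hzU
  have hfξV : f (genericPoint X) ∈ V := hUV hξU
  have hqfξ : f.QuasiFiniteAt (genericPoint X) := hUQ hξU
  have hfinKL := (finite_iff_quasiFiniteAt_genericPoint f).mpr hqfξ
  -- flatness
  haveI : IsAffine V.toScheme := hV
  haveI : IsAffine U.toScheme := hU
  haveI : Flat (f.resLE V U hUV) := by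
    apply Flat.of_stalkMap
    intro u
    exact (RingHom.Flat.respectsIso.arrow_mk_iso_iff (Scheme.Hom.resLEStalkMap f hUV u)).mpr
      (flat_stalkMap_of_quasiFiniteAt f hX hY u.1 (hUQ u.2))
  have hflφ : (f.appLE V U hUV).hom.Flat :=
    (RingHom.Flat.respectsIso.arrow_mk_iso_iff (arrowResLEAppIso f V U hUV)).mp
      (f.resLE V U hUV).flat_appTop
  rw [finrank_fibre_eq f y hV hyV hU hUV hFU]
  letI aRA : Algebra Γ(Y, V) (Y.presheaf.stalk y) := (Y.presheaf.germ V y hyV).hom.toAlgebra
  letI aRS : Algebra Γ(Y, V) Γ(X, U) := (f.appLE V U hUV).hom.toAlgebra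
  letI aRK : Algebra Γ(Y, V) (Y.residueField (f (genericPoint X))) :=
    (Y.evaluation V (f (genericPoint X)) hfξV).hom.toAlgebra
  letI aKL : Algebra (Y.residueField (f (genericPoint X))) (X.residueField (genericPoint X)) :=
    (f.residueFieldMap (genericPoint X)).hom.toAlgebra
  letI aSL : Algebra Γ(X, U) (X.residueField (genericPoint X)) :=
    (X.evaluation U (genericPoint X) hξU).hom.toAlgebra
  letI aRL : Algebra Γ(Y, V) (X.residueField (genericPoint X)) :=
    ((algebraMap (Y.residueField (f (genericPoint X))) (X.residueField (genericPoint X))).comp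
      (algebraMap Γ(Y, V) (Y.residueField (f (genericPoint X))))).toAlgebra
  haveI : IsScalarTower Γ(Y, V) (Y.residueField (f (genericPoint X)))
      (X.residueField (genericPoint X)) := IsScalarTower.of_algebraMap_eq fun _ => rfl
  haveI : IsScalarTower Γ(Y, V) Γ(X, U) (X.residueField (genericPoint X)) := by
    refine IsScalarTower.of_algebraMap_eq fun r => ?_
    change (f.residueFieldMap (genericPoint X)).hom
        ((Y.evaluation V (f (genericPoint X)) hfξV).hom r) =
      (X.evaluation U (genericPoint X) hξU).hom ((f.appLE V U hUV).hom r)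
    have h1 := Scheme.evaluation_naturality_apply f (genericPoint X) hfξV r
    rw [h1, Scheme.Hom.appLE]
    simp only [CommRingCat.hom_comp, RingHom.comp_apply]
    have h2 := congrArg (fun g => g.hom ((f.app V).hom r))
      (Groth.Agent.Lib.Helper20.DimTrdeg.map_evaluation hUV (genericPoint X) hξU)
    exact h2.symm
  haveI hfrK := isFractionRing_evaluation_of_eq_genericPoint V hV (f (genericPoint X)) hfξV hfξ
  haveI hfrL : IsFractionRing Γ(X, U) (X.residueField (genericPoint X)) :=
    isFractionRing_evη U hU hξU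
  haveI : Module.Flat Γ(Y, V) Γ(X, U) := hflφ
  haveI : Module.Finite (Y.residueField (f (genericPoint X))) (X.residueField (genericPoint X)) :=
    hfinKL
  haveI : IsDomain Γ(Y, V) := inferInstance
  haveI : FaithfulSMul Γ(Y, V) (Y.presheaf.stalk y) := by
    rw [faithfulSMul_iff_algebraMap_injective]
    exact germ_injective_of_isIntegral Y y hyV
  exact finrank_fibre_le Γ(Y, V) Γ(X, U) (Y.presheaf.stalk y)
    (Y.residueField (f (genericPoint X))) (X.residueField (genericPoint X))
    (IsFractionRing.injective Γ(X, U) (X.residueField (genericPoint X)))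

end Groth.Agent.Lib.Helper14.FibRk
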