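import Groth.Agent.Lib.Helper14.FibTop

universe u
open CategoryTheory CategoryTheory.Limits AlgebraicGeometry Opposite TopologicalSpace

namespace Groth.Agent.Lib.Helper14.AS

open AlgSp

section Top

theorem isClosed_singleton_iff_forall_specializes {T : Type*} [TopologicalSpace T] (p : T) :
    IsClosed ({p} : Set T) ↔ ∀ p' : T, p ⤳ p' → p' = p := by
  constructor
  · intro hc p' hs
    have := specializes_iff_mem_closure.1 hs
    rwa [hc.closure_eq] at this
  · intro h
    rw [← closure_subset_iff_isClosed]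
    intro p' hp'
    exact h p' (specializes_iff_mem_closure.2 hp')

end Top

section Sp

variable {S : Scheme.{u}} {X Y : Sp S}

/-- For decent target: `x` is isolated in its fibre iff `f` is quasi-finite at `x`. -/
theorem isOpen_singleton_fibre_iff_qf (hX : IsAlgSpace X) (hY : IsAlgSpace Y) (hYd : IsDecent Y)
    (f : X ⟶ Y) (hf : LocP @LocallyOfFiniteType f) (y : Points Y) (x : Points X)
    (hx : x ∈ Points.map f ⁻¹' {y}) :
    IsOpen ({(⟨x, hx⟩ : ↥(Points.map f ⁻¹' {y}))} : Set ↥(Points.map f ⁻¹' {y})) ↔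
      HasAtMor (fun _ _ h u => FlatMor.fibreDimAt h u = 0) f x := by
  have hxy : Points.map f x = y := hx
  constructor
  · intro ho
    obtain ⟨W, hW, hWe⟩ := isOpen_induced_iff.1 ho
    have hxW : x ∈ W := by
      have : (⟨x, hx⟩ : ↥(Points.map f ⁻¹' {y})) ∈ Subtype.val ⁻¹' W := by rw [hWe]; rfl
      exact this
    have key : ∀ x₁ ∈ W, Points.map f x₁ = Points.map f x → x₁ = x := by
      intro x₁ hx₁ h1
      have hmem : x₁ ∈ Points.map f ⁻¹' {y} := h1.trans hxy
      have : (⟨x₁, hmem⟩ : ↥(Points.map f ⁻¹' {y})) ∈ Subtype.val ⁻¹' W := hx₁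
      rw [hWe] at this
      exact congrArg Subtype.val this
    refine qf_of_no_specialization_nbhd hX hY f hf x W hW hxW ?_
    intro x₁ hx₁ x₂ hx₂ h1 h2 _
    rw [key x₁ hx₁ h1, key x₂ hx₂ h2]
  · intro hq
    obtain ⟨W, hW, hxW, hWx⟩ := exists_isOpen_inter_fibre_of_qf hX hY hYd f hf x hq
    rw [isOpen_induced_iff]
    refine ⟨W, hW, ?_⟩
    ext p
    simp only [Set.mem_preimage, Set.mem_singleton_iff]
    constructor
    · intro hp
      exact Subtype.ext (hWx p.1 hp (p.2.trans hxy.symm))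
    · rintro rfl
      exact hxW

/-- For decent target: `x` is closed in its fibre without proper generizations in the fibre iff
`f` is quasi-finite at `x`. -/
theorem isClosed_singleton_fibre_iff_qf (hX : IsAlgSpace X) (hY : IsAlgSpace Y) (hYd : IsDecent Y)
    (f : X ⟶ Y) (hf : LocP @LocallyOfFiniteType f) (y : Points Y) (x : Points X)
    (hx : x ∈ Points.map f ⁻¹' {y}) :
    (IsClosed ({(⟨x, hx⟩ : ↥(Points.map f ⁻¹' {y}))} : Set ↥(Points.map f ⁻¹' {y})) ∧
      ∀ x' : ↥(Points.map f ⁻¹' {y}), x' ⤳ (⟨x, hx⟩ : ↥(Points.map f ⁻¹' {y})) →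
        x' = (⟨x, hx⟩ : ↥(Points.map f ⁻¹' {y}))) ↔
      HasAtMor (fun _ _ h u => FlatMor.fibreDimAt h u = 0) f x := by
  have hxy : Points.map f x = y := hx
  constructor
  · rintro ⟨hc, hg⟩
    rw [isClosed_singleton_iff_forall_specializes] at hc
    refine qf_of_closed_stable hX hY f hf x ?_ ?_
    · intro x' hx' hs
      have hmem : x' ∈ Points.map f ⁻¹' {y} := hx'.trans hxy
      have := hc ⟨x', hmem⟩ ((Topology.IsInducing.subtypeVal.specializes_iff).1 hs)
      exact congrArg Subtype.val this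
    · intro x' hx' hs
      have hmem : x' ∈ Points.map f ⁻¹' {y} := hx'.trans hxy
      have := hg ⟨x', hmem⟩ ((Topology.IsInducing.subtypeVal.specializes_iff).1 hs)
      exact congrArg Subtype.val this
  · intro hq
    constructor
    · rw [isClosed_singleton_iff_forall_specializes]
      intro p' hs
      have hs' : x ⤳ p'.1 := (Topology.IsInducing.subtypeVal.specializes_iff).2 hs
      exact Subtype.ext (eq_of_specializes_of_qf hX hY hYd f hf x hq p'.1 (p'.2.trans hxy.symm) hs')
    · intro p' hs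
      have ho := (isOpen_singleton_fibre_iff_qf hX hY hYd f hf y x hx).2 hq
      exact hs.mem_open ho rfl

/-- For decent source and target: the local dimension of the fibre at `x` is `0` iff `x` is
isolated in the fibre. -/
theorem localDim_fibre_eq_zero_iff (hX : IsAlgSpace X) (hY : IsAlgSpace Y) (hXd : IsDecent X)
    (hYd : IsDecent Y) (f : X ⟶ Y) (hf : LocP @LocallyOfFiniteType f) (y : Points Y)
    (x : Points X) (hx : x ∈ Points.map f ⁻¹' {y}) :
    FlatMor.localDim ↥(Points.map f ⁻¹' {y}) (⟨x, hx⟩ : ↥(Points.map f ⁻¹' {y})) = 0 ↔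
      IsOpen ({(⟨x, hx⟩ : ↥(Points.map f ⁻¹' {y}))} : Set ↥(Points.map f ⁻¹' {y})) := by
  have hxy : Points.map f x = y := hx
  constructor
  · intro h0
    have : T0Space (Points X) := t0Space_points_of_isDecent hX hXd
    obtain ⟨O, hxO, hO⟩ := exists_opens_dim_le_zero_of_localDim_eq_zero _ _ h0
    obtain ⟨W, hW, hWe⟩ := isOpen_induced_iff.1 O.2
    rw [isOpen_singleton_fibre_iff_qf hX hY hYd f hf y x hx]
    have hxW : x ∈ W := by
      have : (⟨x, hx⟩ : ↥(Points.map f ⁻¹' {y})) ∈ Subtype.val ⁻¹' W := by rw [hWe]; exact hxO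
      exact this
    refine qf_of_no_specialization_nbhd hX hY f hf x W hW hxW ?_
    intro x₁ hx₁ x₂ hx₂ h1 h2 hs
    have hm1 : x₁ ∈ Points.map f ⁻¹' {y} := h1.trans hxy
    have hm2 : x₂ ∈ Points.map f ⁻¹' {y} := h2.trans hxy
    have ho1 : (⟨x₁, hm1⟩ : ↥(Points.map f ⁻¹' {y})) ∈ (O : Set ↥(Points.map f ⁻¹' {y})) := by
      have : (⟨x₁, hm1⟩ : ↥(Points.map f ⁻¹' {y})) ∈ Subtype.val ⁻¹' W := hx₁
      rwa [hWe] at this
    have ho2 : (⟨x₂, hm2⟩ : ↥(Points.map f ⁻¹' {y})) ∈ (O : Set ↥(Points.map f ⁻¹' {y})) := by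
      have : (⟨x₂, hm2⟩ : ↥(Points.map f ⁻¹' {y})) ∈ Subtype.val ⁻¹' W := hx₂
      rwa [hWe] at this
    have hs' : (⟨x₁, hm1⟩ : ↥(Points.map f ⁻¹' {y})) ⤳ ⟨x₂, hm2⟩ :=
      (Topology.IsInducing.subtypeVal.specializes_iff).1 hs
    have := eq_of_specializes_of_dim_le_zero_subset _ hO ho2 ho1 hs'
    exact congrArg Subtype.val this
  · intro ho
    exact localDim_eq_zero_of_isOpen_singleton _ ho

set_option backward.isDefEq.respectTransparency.types false in
/-- The local dimension of a chart of the fibre at a point is `0` iff `f` is quasi-finite at the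
image point. -/
theorem hasAt_localDim_fibre_iff_qf (hX : IsAlgSpace X) (hY : IsAlgSpace Y) (f : X ⟶ Y)
    (hf : LocP @LocallyOfFiniteType f) (r : FieldPt Y) (Xk : Sp S) (fst : Xk ⟶ X)
    (snd : Xk ⟶ (yon S).obj r.pt) (hsq : IsPullback fst snd f r.toHom) (xt : Points Xk) :
    HasAt (fun U u => FlatMor.localDim ↥U u = 0) Xk xt ↔
      HasAtMor (fun _ _ h u => FlatMor.fibreDimAt h u = 0) f (Points.map fst xt) := by
  have hK : IsAlgSpace ((yon S).obj r.pt) := IsAlgSpace.yon_obj _
  have hXk : IsAlgSpace Xk := isAlgSpace_of_isPullback (repDiag_of_isAlgSpace hY) hX hK hsq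
  have hsnd : LocP @LocallyOfFiniteType snd :=
    locP_baseChange etLocal_lft hX hY hK f r.toHom fst snd hsq hf
  rw [← hasAtMor_fibreDimAt_baseChange_iff hX hY hK f r.toHom fst snd hsq hf (fun e => e = 0) xt]
  have hsub : Subsingleton ↥r.pt.left :=
    inferInstanceAs (Subsingleton (PrimeSpectrum r.K))
  have key : ∀ (T : Over S) (c : (yon S).obj T ⟶ Xk) (_ : RepWith @Etale c) (g : T ⟶ r.pt)
      (_ : c ≫ snd = (yon S).map g ≫ 𝟙 _) (t : ↥T.left),
      FlatMor.localDim ↥T.left t = 0 ↔ FlatMor.fibreDimAt g.left t = 0 := by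
    intro T c hce g hcomm t
    have hglft : LocallyOfFiniteType g.left := hsnd c (𝟙 _) g hce (repWith_id _ _) hcomm
    have hTN : IsLocallyNoetherian T.left := by
      have : IsLocallyNoetherian r.pt.left :=
        (inferInstance : IsLocallyNoetherian (Spec (CommRingCat.of r.K)))
      exact LocallyOfFiniteType.isLocallyNoetherian g.left
    constructor
    · intro h0
      have ho : IsOpen ({t} : Set ↥T.left) := isOpen_singleton_of_localDim_eq_zero t h0
      refine fibreDimAt_eq_zero_of_no_specialization g.left t {t} ho rfl ?_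
      intro u₁ hu₁ u₂ hu₂ _ _ _
      rw [Set.mem_singleton_iff.1 hu₁, Set.mem_singleton_iff.1 hu₂]
    · intro h0
      obtain ⟨O, hO, htO, hOt⟩ := exists_isOpen_inter_fibre_eq_of_fibreDimAt_eq_zero g.left t h0
      have : O = {t} := by
        ext t'
        simp only [Set.mem_singleton_iff]
        constructor
        · intro ht'
          exact hOt t' ht' (Subsingleton.elim _ _)
        · rintro rfl
          exact htO
      rw [this] at hO
      exact localDim_eq_zero_of_isOpen_singleton t hO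
  constructor
  · rintro ⟨T, c, t, hce, ht, h0⟩
    obtain ⟨g, hg⟩ := (yon S).map_surjective (c ≫ snd)
    have hcomm : c ≫ snd = (yon S).map g ≫ 𝟙 _ := by rw [hg, Category.comp_id]
    exact ⟨T, r.pt, c, 𝟙 _, g, t, hce, repWith_id _ _, hcomm, ht, (key T c hce g hcomm t).1 h0⟩
  · intro hq
    obtain ⟨T, c, hce, hcs⟩ := hXk.atlas
    obtain ⟨t, rfl⟩ := ofPt_surjective_of_repWith hcs xt
    obtain ⟨g, hg⟩ := (yon S).map_surjective (c ≫ snd)
    have hcomm : c ≫ snd = (yon S).map g ≫ 𝟙 _ := by rw [hg, Category.comp_id]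
    have h0 : FlatMor.fibreDimAt g.left t = 0 :=
      (hasAtMor_ofPt_iff (etSqInv_fibreDimAt (fun c => c = 0)) snd c (𝟙 _) g hce
        (repWith_id _ _) hcomm t).1 hq
    exact ⟨T, c, t, hce, rfl, (key T c hce g hcomm t).2 h0⟩

end Sp

end Groth.Agent.Lib.Helper14.AS
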