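import Groth.Agent.Lib.Helper14.FibTop2
import Groth.Agent.Lib.Helper18.TopDim

universe u
open CategoryTheory CategoryTheory.Limits AlgebraicGeometry Opposite TopologicalSpace

namespace Groth.Agent.Lib.Helper14.AS

open AlgSp

section Sp

variable {S : Scheme.{u}} {X Y : Sp S}

theorem hasAtMor_mono {Q Q' : ∀ (U V : Scheme.{u}), (U ⟶ V) → ↥U → Prop} (f : X ⟶ Y)
    (x : Points X) (hQ : ∀ (U V : Scheme.{u}) (h : U ⟶ V) (u : ↥U), Q U V h u → Q' U V h u)
    (hx : HasAtMor Q f x) : HasAtMor Q' f x := by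
  obtain ⟨U, V, a, b, h, u, hae, hbe, comm, hu, hq⟩ := hx
  exact ⟨U, V, a, b, h, u, hae, hbe, comm, hu, hQ _ _ _ _ hq⟩

set_option backward.isDefEq.respectTransparency.types false in
theorem fibre_conditions (hX : IsAlgSpace X) (hY : IsAlgSpace Y) (f : X ⟶ Y)
    (hf : LocP @LocallyOfFiniteType f) (r : FieldPt Y)
    (hy : Points.mk r ∈ Set.range (Points.map f)) (Xk : Sp S) (hXk : IsAlgSpace Xk)
    (fst : Xk ⟶ X) (snd : Xk ⟶ (yon S).obj r.pt) (hsq : IsPullback fst snd f r.toHom) :
    (DiscreteTopology (Points Xk) ↔ AlgSp.dim Xk = 0) ∧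
    (AlgSp.dim Xk = 0 ↔
      ∀ x : Points X, Points.map f x = Points.mk r →
        HasAtMor (fun U _ h u => ∃ W : U.Opens, u ∈ W ∧ LocallyQuasiFinite (W.ι ≫ h) ∧
          LocallyOfFiniteType (W.ι ≫ h)) f x) ∧
    (DiscreteTopology (Points Xk) → topologicalKrullDim (Points Xk) = 0) ∧
    (IsDecent Xk → topologicalKrullDim (Points Xk) = 0 → DiscreteTopology (Points Xk)) ∧
    (IsDecent Xk → Finite (Points Xk) → DiscreteTopology (Points Xk)) ∧
    (Finite (Points Xk) → (Points.map f ⁻¹' {Points.mk r}).Finite) ∧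
    (DiscreteTopology ↥(Points.map f ⁻¹' {Points.mk r}) →
      topologicalKrullDim ↥(Points.map f ⁻¹' {Points.mk r}) = 0) ∧
    (IsDecent Y → (DiscreteTopology ↥(Points.map f ⁻¹' {Points.mk r}) ↔
      DiscreteTopology (Points Xk))) ∧
    (IsDecent Y → IsDecent X →
      (topologicalKrullDim ↥(Points.map f ⁻¹' {Points.mk r}) = 0 →
        DiscreteTopology ↥(Points.map f ⁻¹' {Points.mk r})) ∧
      ((Points.map f ⁻¹' {Points.mk r}).Finite →
        DiscreteTopology ↥(Points.map f ⁻¹' {Points.mk r}))) := by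
  have hK : IsAlgSpace ((yon S).obj r.pt) := IsAlgSpace.yon_obj _
  have hsnd : LocP @LocallyOfFiniteType snd :=
    locP_baseChange etLocal_lft hX hY hK f r.toHom fst snd hsq hf
  haveI i1 : IsLocallyNoetherian r.pt.left :=
    (inferInstance : IsLocallyNoetherian (Spec (CommRingCat.of r.K)))
  haveI i2 : JacobsonSpace ↥r.pt.left :=
    (inferInstance : JacobsonSpace ↥(Spec (CommRingCat.of r.K)))
  have hN : IsLocNoethSp Xk := isLocNoethSp_of_locP_lft_over hXk r.pt snd hsnd
  have hJ : ∀ (U : Over S) (a : (yon S).obj U ⟶ Xk), RepWith @Etale a → JacobsonSpace ↥U.left :=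
    fun U a ha => (chart_props_of_locP_lft_over r.pt snd hsnd U a ha).1
  have hlift : ∀ x : Points X, Points.map f x = Points.mk r →
      ∃ z : Points Xk, Points.map fst z = x := by
    intro x hx
    obtain ⟨z, hz, -⟩ := points_exists_of_isPullback hsq x
      (Points.ofScheme r.pt (IsLocalRing.closedPoint r.K)) (by
        rw [hx, ← Points.ofPt_eq_map_ofScheme, Points.ofPt_toHom])
    exact ⟨z, hz⟩
  obtain ⟨x₀, hx₀⟩ := hy
  obtain ⟨z₀, hz₀⟩ := hlift x₀ hx₀
  haveI hne : Nonempty (Points Xk) := ⟨z₀⟩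
  haveI hneF : Nonempty ↥(Points.map f ⁻¹' {Points.mk r}) := ⟨⟨x₀, hx₀⟩⟩
  have hdim := dim_fibre_eq_sup_relDim hX hY f hf (Points.mk r) r rfl Xk fst snd hsq
  -- (7) ⇔ (8) in the `fibreDimAt = 0` form
  have h78 : AlgSp.dim Xk = 0 ↔ ∀ x : Points X, Points.map f x = Points.mk r →
      HasAtMor (fun _ _ h u => FlatMor.fibreDimAt h u = 0) f x := by
    constructor
    · intro h0 x hx
      have := (hdim.2 0).1 (le_of_eq h0) x hx
      refine hasAtMor_mono f x ?_ this
      intro U V h u hle
      exact le_antisymm hle (fibreDimAt_nonneg h u)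
    · intro hall
      refine le_antisymm ((hdim.2 0).2 fun x hx => ?_) (dim_nonneg_of_nonempty hXk)
      refine hasAtMor_mono f x ?_ (hall x hx)
      intro U V h u he
      exact le_of_eq he
  have h57 := discreteTopology_points_iff_dim_eq_zero hXk hN
  have hFdisc : ∀ (hYd : IsDecent Y),
      DiscreteTopology ↥(Points.map f ⁻¹' {Points.mk r}) ↔
        ∀ x : Points X, Points.map f x = Points.mk r →
          HasAtMor (fun _ _ h u => FlatMor.fibreDimAt h u = 0) f x := by
    intro hYd
    rw [discreteTopology_iff_isOpen_singleton]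
    constructor
    · intro h x hx
      exact (isOpen_singleton_fibre_iff_qf hX hY hYd f hf _ x hx).1 (h ⟨x, hx⟩)
    · intro h p
      exact (isOpen_singleton_fibre_iff_qf hX hY hYd f hf _ p.1 p.2).2 (h p.1 p.2)
  refine ⟨h57, ?_, ?_, ?_, ?_, ?_, ?_, ?_, ?_⟩
  · rw [h78]
    exact forall_congr' fun x => imp_congr_right fun _ => (hasAtMor_qf_iff f hf x).symm
  · intro hD
    exact le_antisymm (topologicalKrullDim_zero_of_discreteTopology _)
      (topologicalKrullDim_nonneg' _)
  · intro hd h0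
    exact discreteTopology_points_of_dim_points_le_zero hXk hN hd (le_of_eq h0)
  · intro hd hfin
    exact h57.2 (dim_eq_zero_of_finite_of_isDecent hXk hJ hd)
  · intro hfin
    refine (Set.finite_range (Points.map fst)).subset ?_
    intro x hx
    obtain ⟨z, hz⟩ := hlift x hx
    exact ⟨z, hz⟩
  · intro hD
    exact le_antisymm (topologicalKrullDim_zero_of_discreteTopology _)
      (topologicalKrullDim_nonneg' _)
  · intro hYd
    rw [hFdisc hYd, h57, h78]
  · intro hYd hXd
    constructor
    · intro h0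
      rw [discreteTopology_iff_isOpen_singleton]
      intro p
      rw [← localDim_fibre_eq_zero_iff hX hY hXd hYd f hf _ p.1 p.2]
      refine le_antisymm ?_ ?_
      · rw [← h0]
        exact Groth.Agent.Lib.Helper18.TopDim.localDim_le_topologicalKrullDim _
      · unfold FlatMor.localDim
        refine le_iInf fun O => ?_
        have : Nonempty ↥(O.1 : Set ↥(Points.map f ⁻¹' {Points.mk r})) := ⟨⟨_, O.2⟩⟩
        exact topologicalKrullDim_nonneg' _
    · intro hfin
      rw [hFdisc hYd]
      intro x hx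
      refine qf_of_finite_fibre_of_isDecent hX hY hXd f hf x ?_
      rw [hx]
      exact hfin

end Sp

end Groth.Agent.Lib.Helper14.AS
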