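import Groth.Agent.Lib.Helper14.FibreDim
import Groth.Agent.Lib.Helper14.AlgSpProper
import Groth.Agent.S10308

universe u
open CategoryTheory CategoryTheory.Limits AlgebraicGeometry Opposite TopologicalSpace

namespace Groth.Agent.Lib.Helper14.AS

open AlgSp

variable {S : Scheme.{u}}

theorem dim_fibre_le_iff {X Y : Sp S} (hX : IsAlgSpace X) (hY : IsAlgSpace Y) (f : X ⟶ Y)
    (hf : LocP @LocallyOfFiniteType f) (y : Points Y) (n : ℕ) :
    (∀ (k : FieldPt Y), Points.mk k = y → ∀ (Xk : Sp S) (fst : Xk ⟶ X)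
      (snd : Xk ⟶ (yon S).obj k.pt), IsPullback fst snd f k.toHom → AlgSp.dim Xk ≤ n) ↔
    ∀ x : Points X, Points.map f x = y →
      HasAtMor (fun _ _ h u => FlatMor.fibreDimAt h u ≤ (n : WithBot ℕ∞)) f x := by
  constructor
  · intro h
    obtain ⟨k, hk⟩ := Points.mk_surjective y
    exact ((dim_fibre_eq_sup_relDim hX hY f hf y k hk _ _ _
      (IsPullback.of_hasPullback f k.toHom)).2 n).1 (h k hk _ _ _ (IsPullback.of_hasPullback _ _))
  · intro h k hk Xk fst snd sq
    exact ((dim_fibre_eq_sup_relDim hX hY f hf y k hk Xk fst snd sq).2 n).2 h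

theorem dim_fibre_eq_bot_iff {X Y : Sp S} (hX : IsAlgSpace X) (hY : IsAlgSpace Y) (f : X ⟶ Y)
    (hf : LocP @LocallyOfFiniteType f) (y : Points Y) :
    (∀ (k : FieldPt Y), Points.mk k = y → ∀ (Xk : Sp S) (fst : Xk ⟶ X)
      (snd : Xk ⟶ (yon S).obj k.pt), IsPullback fst snd f k.toHom → AlgSp.dim Xk = ⊥) ↔
    y ∉ Set.range (Points.map f) := by
  constructor
  · intro h
    obtain ⟨k, hk⟩ := Points.mk_surjective y
    exact (dim_fibre_eq_sup_relDim hX hY f hf y k hk _ _ _
      (IsPullback.of_hasPullback f k.toHom)).1.1 (h k hk _ _ _ (IsPullback.of_hasPullback _ _))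
  · intro h k hk Xk fst snd sq
    exact (dim_fibre_eq_sup_relDim hX hY f hf y k hk Xk fst snd sq).1.2 h

theorem withBot_enat_lt_succ_iff (x : WithBot ℕ∞) (n : ℕ) :
    x < (((n + 1 : ℕ) : ℕ∞) : WithBot ℕ∞) ↔ x ≤ ((n : ℕ∞) : WithBot ℕ∞) := by
  induction x using WithBot.recBotCoe with
  | bot => simp
  | coe e =>
    rw [WithBot.coe_lt_coe, WithBot.coe_le_coe]
    push_cast
    exact ENat.lt_add_one_iff (ENat.coe_ne_top n)

theorem withBot_enat_lt_zero_iff (x : WithBot ℕ∞) :
    x < (((0 : ℕ) : ℕ∞) : WithBot ℕ∞) ↔ x = ⊥ := by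
  induction x using WithBot.recBotCoe with
  | bot => simp
  | coe e =>
    rw [WithBot.coe_lt_coe]
    simp

theorem withBot_enat_lt_top_iff (x : WithBot ℕ∞) :
    x < ((⊤ : ℕ∞) : WithBot ℕ∞) ↔ ∃ n : ℕ, x ≤ ((n : ℕ∞) : WithBot ℕ∞) := by
  induction x using WithBot.recBotCoe with
  | bot => simp
  | coe e =>
    rw [WithBot.coe_lt_coe]
    simp only [WithBot.coe_le_coe]
    constructor
    · intro h
      obtain ⟨n, rfl⟩ := ENat.ne_top_iff_exists.1 h.ne
      exact ⟨n, le_rfl⟩
    · rintro ⟨n, hn⟩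
      exact lt_of_le_of_lt hn (ENat.coe_lt_top n)


theorem isOpen_forall_fibre_hasAtMor_le {X Y : Sp S}
    (f : X ⟶ Y) (hcl : IsClosedMap (Points.map f))
    (hopen : ∀ n : ℕ, IsOpen {x : Points X |
      HasAtMor (fun _ _ h u => FlatMor.fibreDimAt h u ≤ (n : WithBot ℕ∞)) f x}) (n : ℕ) :
    IsOpen {y : Points Y | ∀ x : Points X, Points.map f x = y →
      HasAtMor (fun _ _ h u => FlatMor.fibreDimAt h u ≤ (n : WithBot ℕ∞)) f x} := by
  have h1 : {y : Points Y | ∀ x : Points X, Points.map f x = y →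
      HasAtMor (fun _ _ h u => FlatMor.fibreDimAt h u ≤ (n : WithBot ℕ∞)) f x} =
      (Points.map f '' {x : Points X |
        HasAtMor (fun _ _ h u => FlatMor.fibreDimAt h u ≤ (n : WithBot ℕ∞)) f x}ᶜ)ᶜ := by
    ext y
    simp only [Set.mem_setOf_eq, Set.mem_compl_iff, Set.mem_image, not_exists, not_and]
    constructor
    · intro h x hx hxy
      exact hx (h x hxy)
    · intro h x hxy
      by_contra hx
      exact h x hx hxy
  rw [h1]
  exact (hcl _ (hopen n).isClosed_compl).isOpen_compl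

theorem isOpen_dim_fibre_lt {X Y : Sp S} (hX : IsAlgSpace X) (hY : IsAlgSpace Y) (f : X ⟶ Y)
    (hf : LocP @LocallyOfFiniteType f) (hcl : IsClosedMap (Points.map f))
    (hopen : ∀ n : ℕ, IsOpen {x : Points X |
      HasAtMor (fun _ _ h u => FlatMor.fibreDimAt h u ≤ (n : WithBot ℕ∞)) f x})
    (d : WithBot ℕ∞) :
    IsOpen {y : Points Y | ∀ (k : FieldPt Y), Points.mk k = y →
      ∀ (Xk : Sp S) (fst : Xk ⟶ X) (snd : Xk ⟶ (yon S).obj k.pt),
        IsPullback fst snd f k.toHom → AlgSp.dim Xk < d} := by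
  induction d using WithBot.recBotCoe with
  | bot =>
    convert isOpen_empty
    ext y
    simp only [Set.mem_setOf_eq, Set.mem_empty_iff_false, iff_false]
    intro h
    obtain ⟨k, hk⟩ := Points.mk_surjective y
    exact not_lt_bot (h k hk _ _ _ (IsPullback.of_hasPullback f k.toHom))
  | coe e =>
    induction e using ENat.recTopCoe with
    | top =>
      have h1 : {y : Points Y | ∀ (k : FieldPt Y), Points.mk k = y →
          ∀ (Xk : Sp S) (fst : Xk ⟶ X) (snd : Xk ⟶ (yon S).obj k.pt),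
          IsPullback fst snd f k.toHom → AlgSp.dim Xk < ((⊤ : ℕ∞) : WithBot ℕ∞)} =
          ⋃ n : ℕ, {y : Points Y | ∀ x : Points X, Points.map f x = y →
            HasAtMor (fun _ _ h u => FlatMor.fibreDimAt h u ≤ (n : WithBot ℕ∞)) f x} := by
        ext y
        simp only [Set.mem_setOf_eq, Set.mem_iUnion]
        constructor
        · intro h
          obtain ⟨k, hk⟩ := Points.mk_surjective y
          obtain ⟨n, hn⟩ := (withBot_enat_lt_top_iff _).1
            (h k hk _ _ _ (IsPullback.of_hasPullback f k.toHom))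
          exact ⟨n, ((dim_fibre_eq_sup_relDim hX hY f hf y k hk _ _ _
            (IsPullback.of_hasPullback f k.toHom)).2 n).1 hn⟩
        · rintro ⟨n, hn⟩ k hk Xk fst snd sq
          exact (withBot_enat_lt_top_iff _).2
            ⟨n, (dim_fibre_le_iff hX hY f hf y n).2 hn k hk Xk fst snd sq⟩
      rw [h1]
      exact isOpen_iUnion fun n => isOpen_forall_fibre_hasAtMor_le f hcl hopen n
    | coe m =>
      cases m with
      | zero =>
        have h1 : {y : Points Y | ∀ (k : FieldPt Y), Points.mk k = y →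
            ∀ (Xk : Sp S) (fst : Xk ⟶ X) (snd : Xk ⟶ (yon S).obj k.pt),
            IsPullback fst snd f k.toHom → AlgSp.dim Xk < (((0 : ℕ) : ℕ∞) : WithBot ℕ∞)} =
            (Set.range (Points.map f))ᶜ := by
          ext y
          simp only [Set.mem_setOf_eq, Set.mem_compl_iff]
          rw [← dim_fibre_eq_bot_iff hX hY f hf y]
          simp only [withBot_enat_lt_zero_iff]
        rw [h1]
        exact hcl.isClosed_range.isOpen_compl
      | succ n =>
        have h1 : {y : Points Y | ∀ (k : FieldPt Y), Points.mk k = y →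
            ∀ (Xk : Sp S) (fst : Xk ⟶ X) (snd : Xk ⟶ (yon S).obj k.pt),
            IsPullback fst snd f k.toHom →
              AlgSp.dim Xk < (((n + 1 : ℕ) : ℕ∞) : WithBot ℕ∞)} =
            {y : Points Y | ∀ x : Points X, Points.map f x = y →
              HasAtMor (fun _ _ h u => FlatMor.fibreDimAt h u ≤ (n : WithBot ℕ∞)) f x} := by
          ext y
          simp only [Set.mem_setOf_eq]
          rw [← dim_fibre_le_iff hX hY f hf y n]
          simp only [withBot_enat_lt_succ_iff]
          exact Iff.rfl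
        rw [h1]
        exact isOpen_forall_fibre_hasAtMor_le f hcl hopen n

end Groth.Agent.Lib.Helper14.AS
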