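import Groth.Prelude.Def_AlgSp2
import Groth.Agent.Lib.Helper14.AlgSpPoints

universe u
open CategoryTheory CategoryTheory.Limits AlgebraicGeometry Opposite

namespace Groth.Agent.Lib.Helper14.AS
open AlgSp

/-- In a category with binary products, `A ⨯ C` is the pullback of `A ⨯ B ⟶ B` along `C ⟶ B`. -/
theorem isPullback_prod_map_snd {C : Type*} [Category C] [HasBinaryProducts C] (A : C) {B B' : C}
    (g : B' ⟶ B) :
    IsPullback (prod.map (𝟙 A) g) (prod.snd : A ⨯ B' ⟶ B') (prod.snd : A ⨯ B ⟶ B) g := by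
  refine ⟨⟨by simp⟩, ⟨PullbackCone.IsLimit.mk _ (fun s => prod.lift (s.fst ≫ prod.fst) s.snd)
    ?_ ?_ ?_⟩⟩
  · intro s
    apply Limits.prod.hom_ext
    · rw [Category.assoc, Limits.prod.map_fst, Category.comp_id, Limits.prod.lift_fst]
    · rw [Category.assoc, Limits.prod.map_snd, Limits.prod.lift_snd_assoc]
      exact s.condition.symm
  · intro s
    exact Limits.prod.lift_snd _ _
  · intro s m h1 h2
    apply Limits.prod.hom_ext
    · rw [Limits.prod.lift_fst, ← h1, Category.assoc, Limits.prod.map_fst, Category.comp_id]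
    · rw [Limits.prod.lift_snd, ← h2]

variable {k : Type u} [Field k]

/-- The `k`-scheme `Spec K`. -/
noncomputable abbrev fieldOver (k : Type u) [Field k] (K : Type u) [Field K] [Algebra k K] :
    Over (Spec (CommRingCat.of k)) :=
  Over.mk (Spec.map (CommRingCat.ofHom (algebraMap k K)))

/-- The morphism `Spec Ω ⟶ Spec K` over `k` of a tower `k → K → Ω`. -/
noncomputable def fieldOverHom (k : Type u) [Field k] (K Ω : Type u) [Field K] [Field Ω] [Algebra k K]
    [Algebra k Ω] [Algebra K Ω] [IsScalarTower k K Ω] : fieldOver k Ω ⟶ fieldOver k K :=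
  Over.homMk (Spec.map (CommRingCat.ofHom (algebraMap K Ω))) (by
    change Spec.map _ ≫ Spec.map _ = Spec.map _
    rw [← Spec.map_comp, ← CommRingCat.ofHom_comp, ← IsScalarTower.algebraMap_eq])

theorem points_map_prod_map_surjective (X : Sp (Spec (CommRingCat.of k))) (K Ω : Type u) [Field K]
    [Field Ω] [Algebra k K] [Algebra k Ω] [Algebra K Ω] [IsScalarTower k K Ω] :
    Function.Surjective (Points.map (prod.map (𝟙 X)
      ((yon (Spec (CommRingCat.of k))).map (fieldOverHom k K Ω)))) := by
  intro z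
  have sq := isPullback_prod_map_snd X ((yon (Spec (CommRingCat.of k))).map (fieldOverHom k K Ω))
  let w : Points ((yon (Spec (CommRingCat.of k))).obj (fieldOver k Ω)) :=
    Points.schemeHomeo (fieldOver k Ω) (IsLocalRing.closedPoint Ω)
  have hsub0 : Subsingleton ↥(fieldOver k K).left :=
    (inferInstance : Subsingleton (PrimeSpectrum K))
  have hsub : Subsingleton (Points ((yon (Spec (CommRingCat.of k))).obj (fieldOver k K))) :=
    (Points.schemeHomeo (fieldOver k K)).symm.injective.subsingleton
  obtain ⟨z', hz', -⟩ := points_exists_of_isPullback sq z w (Subsingleton.elim _ _)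
  exact ⟨z', hz'⟩

open TensorProduct in
/-- A common field extension of two field extensions of `k` (a residue field of `K ⊗[k] k'`). -/
theorem exists_compositum (k K k' : Type u) [Field k] [Field K] [Field k'] [Algebra k K]
    [Algebra k k'] :
    ∃ (Ω : Type u) (_ : Field Ω) (_ : Algebra k Ω) (_ : Algebra K Ω) (_ : Algebra k' Ω),
      IsScalarTower k K Ω ∧ IsScalarTower k k' Ω := by
  obtain ⟨m, hm⟩ := Ideal.exists_maximal (K ⊗[k] k')
  let Ω := (K ⊗[k] k') ⧸ m
  let _ : Field Ω := Ideal.Quotient.field m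
  let φK : K →+* Ω := (Ideal.Quotient.mk m).comp Algebra.TensorProduct.includeLeftRingHom
  let φk' : k' →+* Ω := (Ideal.Quotient.mk m).comp
    (Algebra.TensorProduct.includeRight : k' →ₐ[k] K ⊗[k] k').toRingHom
  let _ : Algebra K Ω := φK.toAlgebra
  let _ : Algebra k' Ω := φk'.toAlgebra
  let _ : Algebra k Ω := (φK.comp (algebraMap k K)).toAlgebra
  refine ⟨Ω, inferInstance, inferInstance, inferInstance, inferInstance,
    IsScalarTower.of_algebraMap_eq (fun x => rfl), IsScalarTower.of_algebraMap_eq (fun x => ?_)⟩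
  change φK (algebraMap k K x) = φk' (algebraMap k k' x)
  change Ideal.Quotient.mk m ((algebraMap k K x) ⊗ₜ[k] (1 : k')) =
    Ideal.Quotient.mk m ((1 : K) ⊗ₜ[k] (algebraMap k k' x))
  rw [Algebra.algebraMap_eq_smul_one, Algebra.algebraMap_eq_smul_one, TensorProduct.smul_tmul]

theorem connectedSpace_of_tower {k : Type u} [Field k] (X : Sp (Spec (CommRingCat.of k)))
    (K Ω : Type u) [Field K]
    [Field Ω] [Algebra k K] [Algebra k Ω] [Algebra K Ω] [IsScalarTower k K Ω]
    (h : ConnectedSpace (Points (X ⨯ (yon (Spec (CommRingCat.of k))).obj (fieldOver k Ω)))) :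
    ConnectedSpace (Points (X ⨯ (yon (Spec (CommRingCat.of k))).obj (fieldOver k K))) :=
  (points_map_prod_map_surjective X K Ω).connectedSpace (Points.continuous_map _)

end Groth.Agent.Lib.Helper14.AS
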