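import Mathlib

/-!
# Embedding finitely generated field extensions into big algebraically closed fields (helper14)
-/

set_option autoImplicit false
universe u

namespace Groth.Agent.Lib.Helper14.FieldEmb

theorem exists_algHom_of_essFiniteType (K L Ω : Type u) [Field K] [Field L] [Field Ω]
    [Algebra K L] [Algebra K Ω] [IsAlgClosed Ω] [Algebra.EssFiniteType K L] (t : ℕ → Ω)
    (ht : AlgebraicIndependent K t) : Nonempty (L →ₐ[K] Ω) := by
  obtain ⟨s, hs⟩ := exists_isTranscendenceBasis K L
  have hfin : Finite s := finite_of_isTranscendenceBasis hs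
  obtain ⟨j, hj⟩ := Countable.exists_injective_nat s
  have ht' : AlgebraicIndependent K (t ∘ j) := ht.comp j hj
  let E := IntermediateField.adjoin K (Set.range ((↑) : s → L))
  let φ₀ : E →ₐ[K] Ω :=
    (IsFractionRing.liftAlgHom (K := FractionRing (MvPolynomial s K))
      (algebraicIndependent_iff_injective_aeval.2 ht')).comp hs.1.reprField
  have halg : Algebra.IsAlgebraic E L := hs.isAlgebraic_field
  let _ : Algebra E Ω := φ₀.toRingHom.toAlgebra
  have hst : IsScalarTower K E Ω := IsScalarTower.of_algebraMap_eq fun x => (φ₀.commutes x).symm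
  let ψ : L →ₐ[E] Ω := IsAlgClosed.lift
  exact ⟨ψ.restrictScalars K⟩

end Groth.Agent.Lib.Helper14.FieldEmb
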