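import Groth.Agent.Lib.Helper14.GeomSurj1

set_option autoImplicit false
universe u
open CategoryTheory CategoryTheory.Limits AlgebraicGeometry Topology

namespace Groth.Agent.Lib.Helper14.GeomSurj

/-- A nonempty scheme locally of finite type over an algebraically closed field has a rational
point. -/
theorem exists_section_of_lft {F : Scheme.{u}} {K : Type u} [Field K] [IsAlgClosed K]
    (π : F ⟶ Spec (CommRingCat.of K)) [LocallyOfFiniteType π] [Nonempty ↥F] :
    ∃ σ : Spec (CommRingCat.of K) ⟶ F, σ ≫ π = 𝟙 _ := by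
  have : JacobsonSpace ↥F := LocallyOfFiniteType.jacobsonSpace π
  have hne : (closedPoints ↥F).Nonempty := by
    by_contra hcon
    rw [Set.not_nonempty_iff_eq_empty] at hcon
    have h := closure_closedPoints (X := ↥F)
    rw [hcon, closure_empty] at h
    exact Set.empty_ne_univ h
  obtain ⟨x, hx⟩ := hne
  exact ⟨pointOfClosedPoint π x hx, pointOfClosedPoint_comp π x hx⟩

theorem exists_lift_of_lft {U V : Scheme.{u}} (h : U ⟶ V) [LocallyOfFiniteType h] {K : Type u}
    [Field K] [IsAlgClosed K] (v : Spec (CommRingCat.of K) ⟶ V) (u : ↥U)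
    (hu : h u = v (IsLocalRing.closedPoint K)) : ∃ z : Spec (CommRingCat.of K) ⟶ U, z ≫ h = v := by
  obtain ⟨w, -, -⟩ := Scheme.Pullback.exists_preimage_pullback (f := h) (g := v) u _ hu
  have : Nonempty ↥(pullback h v) := ⟨w⟩
  obtain ⟨σ, hσ⟩ := exists_section_of_lft (pullback.snd h v)
  refine ⟨σ ≫ pullback.fst h v, ?_⟩
  rw [Category.assoc, pullback.condition, ← Category.assoc, hσ, Category.id_comp]

variable {k : Type u} [Field k] (K : Type u) [Field K] [Algebra k K] [IsAlgClosure k K]

/-- Closed points of schemes locally of finite type over `k` are images of points with values in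
the algebraic closure. -/
theorem exists_geomPoint_of_closedPoint {Q : Scheme.{u}} (π : Q ⟶ Spec (CommRingCat.of k))
    [LocallyOfFiniteType π] (z : Q) (hz : IsClosed {z}) :
    ∃ q : Spec (CommRingCat.of K) ⟶ Q,
      q ≫ π = Spec.map (CommRingCat.ofHom (algebraMap k K)) ∧
        q (IsLocalRing.closedPoint K) = z := by
  have hK : IsAlgClosed K := IsAlgClosure.isAlgClosed k
  have : JacobsonSpace ↥Q := LocallyOfFiniteType.jacobsonSpace π
  have h1 : LocallyOfFiniteType (Q.fromSpecResidueField z) :=
    isClosed_singleton_iff_locallyOfFiniteType.1 hz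
  have h2 : IsFinite (Q.fromSpecResidueField z ≫ π) :=
    isFinite_iff_locallyOfFiniteType_of_jacobsonSpace.2 inferInstance
  obtain ⟨ψ, hψ⟩ : ∃ ψ : CommRingCat.of k ⟶ Q.residueField z,
      Spec.map ψ = Q.fromSpecResidueField z ≫ π := ⟨Spec.preimage _, Spec.map_preimage _⟩
  have hint : ψ.hom.IsIntegral := by
    rw [← IsIntegralHom.SpecMap_iff, hψ]
    infer_instance
  algebraize [ψ.hom]
  have halg : Algebra.IsAlgebraic k (Q.residueField z) := Algebra.IsIntegral.isAlgebraic
  let σ : Q.residueField z →ₐ[k] K := IsAlgClosed.lift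
  refine ⟨Spec.map (CommRingCat.ofHom σ.toRingHom) ≫ Q.fromSpecResidueField z, ?_, ?_⟩
  · rw [Category.assoc, ← hψ, ← Spec.map_comp]
    congr 1
    ext a
    exact σ.commutes a
  · change Q.fromSpecResidueField z
      ((Spec.map (CommRingCat.ofHom σ.toRingHom)) (IsLocalRing.closedPoint K)) = z
    exact Scheme.fromSpecResidueField_apply _ _

end Groth.Agent.Lib.Helper14.GeomSurj
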