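import Groth.Agent.Lib.Helper14.FieldEmb1
import Groth.Agent.Lib.Helper14.GeomSurj2

set_option autoImplicit false
universe u
open CategoryTheory CategoryTheory.Limits AlgebraicGeometry

namespace Groth.Agent.Lib.Helper14.FieldEmb

/-- Every point of a scheme locally of finite type over `K` is the image of a point with values in
a big algebraically closed extension. -/
theorem exists_bigPoint (K Ω : Type u) [Field K] [Field Ω] [IsAlgClosed Ω] [Algebra K Ω]
    (t : ℕ → Ω) (ht : AlgebraicIndependent K t) {Y : Scheme.{u}}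
    (pY : Y ⟶ Spec (CommRingCat.of K)) [LocallyOfFiniteType pY] (y₀ : Y) :
    ∃ y : Spec (CommRingCat.of Ω) ⟶ Y,
      y ≫ pY = Spec.map (CommRingCat.ofHom (algebraMap K Ω)) ∧
        y (IsLocalRing.closedPoint Ω) = y₀ := by
  obtain ⟨_, ⟨U, hU : IsAffineOpen U, rfl⟩, hyU, -⟩ :=
    Y.isBasis_affineOpens.exists_subset_of_mem_open (Set.mem_univ y₀) isOpen_univ
  have hUo : IsOpenImmersion hU.fromSpec := hU.isOpenImmersion_fromSpec
  obtain ⟨α, hα⟩ : ∃ α : CommRingCat.of K ⟶ Γ(Y, U), Spec.map α = hU.fromSpec ≫ pY :=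
    ⟨Spec.preimage _, Spec.map_preimage _⟩
  have hαft : α.hom.FiniteType := by
    rw [← HasRingHomProperty.Spec_iff (P := @LocallyOfFiniteType), hα]
    infer_instance
  algebraize [α.hom]
  set p := hU.primeIdealOf ⟨y₀, hyU⟩ with hp
  have hpy : hU.fromSpec p = y₀ := hU.fromSpec_primeIdealOf ⟨y₀, hyU⟩
  have hess : Algebra.EssFiniteType K p.asIdeal.ResidueField :=
    Algebra.EssFiniteType.comp K Γ(Y, U) p.asIdeal.ResidueField
  obtain ⟨σ⟩ := exists_algHom_of_essFiniteType K p.asIdeal.ResidueField Ω t ht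
  let β : Γ(Y, U) ⟶ CommRingCat.of Ω :=
    CommRingCat.ofHom (σ.toRingHom.comp (algebraMap Γ(Y, U) p.asIdeal.ResidueField))
  refine ⟨Spec.map β ≫ hU.fromSpec, ?_, ?_⟩
  · rw [Category.assoc, ← hα, ← Spec.map_comp]
    congr 1
    ext a
    change σ (algebraMap Γ(Y, U) p.asIdeal.ResidueField (algebraMap K Γ(Y, U) a)) = algebraMap K Ω a
    rw [← IsScalarTower.algebraMap_apply K Γ(Y, U) p.asIdeal.ResidueField, σ.commutes]
  · change hU.fromSpec ((Spec.map β) (IsLocalRing.closedPoint Ω)) = y₀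
    have h1 : (Spec.map β) (IsLocalRing.closedPoint Ω) = p := by
      apply PrimeSpectrum.ext
      change Ideal.comap β.hom (IsLocalRing.maximalIdeal Ω) = p.asIdeal
      rw [IsLocalRing.maximalIdeal_eq_bot, ← RingHom.ker_eq_comap_bot]
      ext a
      rw [RingHom.mem_ker]
      change σ (algebraMap Γ(Y, U) p.asIdeal.ResidueField a) = 0 ↔ _
      rw [map_eq_zero_iff σ σ.toRingHom.injective, Ideal.algebraMap_residueField_eq_zero]
    have h2 : hU.fromSpec ((Spec.map β) (IsLocalRing.closedPoint Ω)) = hU.fromSpec p :=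
      congrArg _ h1
    exact h2.trans hpy

end Groth.Agent.Lib.Helper14.FieldEmb
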