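import Groth.Agent.Lib.Helper14.LscSp
import Groth.Agent.Lib.Helper14.AlgSpQCMor

/-!
# Fibres of morphisms of finite type are finite dimensional; local constancy of the fibre
dimension (helper14)
-/

universe u
open CategoryTheory CategoryTheory.Limits AlgebraicGeometry Opposite
open AlgSp

namespace Groth.Agent.Lib.Helper14.AS

open Groth.Agent.Lib.Helper21.FibDim

/-- On a quasi-compact scheme locally of finite type over a base, the local fibre dimension is
bounded. -/
theorem exists_forall_fibreDimAt_le {U T : Scheme.{u}} (g : U ⟶ T) [LocallyOfFiniteType g]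
    [CompactSpace ↥U] : ∃ N : ℕ, ∀ u : ↥U, FlatMor.fibreDimAt g u ≤ (N : WithBot ℕ∞) := by
  have hcover : (Set.univ : Set ↥U) ⊆ ⋃ n : ℕ, {u : ↥U | FlatMor.fibreDimAt g u ≤ (n : WithBot ℕ∞)} := by
    intro u _
    obtain ⟨a, b, -, -, hab⟩ := exists_fibreDimAt_eq_add g u
    exact Set.mem_iUnion.2 ⟨a + b, le_of_eq hab⟩
  obtain ⟨t, ht⟩ := isCompact_univ.elim_finite_subcover _
    (fun n => isOpen_setOf_fibreDimAt_le g n) hcover
  refine ⟨t.sup id, fun u => ?_⟩
  obtain ⟨n, hn, hu⟩ := Set.mem_iUnion₂.1 (ht (Set.mem_univ u))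
  have h1 : n ≤ t.sup id := Finset.le_sup (f := id) hn
  have h2 : (n : WithBot ℕ∞) ≤ ((t.sup id : ℕ) : WithBot ℕ∞) := by exact_mod_cast h1
  exact le_trans hu h2

variable {S : Scheme.{u}}

set_option backward.isDefEq.respectTransparency.types false in
/-- The fibres of a morphism of finite type are finite dimensional. -/
theorem exists_dim_fibre_le {X Y : Sp S} (hX : IsAlgSpace X) (hY : IsAlgSpace Y) (f : X ⟶ Y)
    (hft : LocP @LocallyOfFiniteType f) (hqc : IsQuasiCompactMor f) (k : FieldPt Y)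
    (Xk : Sp S) (fst : Xk ⟶ X) (snd : Xk ⟶ (yon S).obj k.pt)
    (sq : IsPullback fst snd f k.toHom) : ∃ N : ℕ, AlgSp.dim Xk ≤ (N : WithBot ℕ∞) := by
  have hK : IsAlgSpace ((yon S).obj k.pt) := IsAlgSpace.yon_obj _
  have hXk : IsAlgSpace Xk := isAlgSpace_of_isPullback (repDiag_of_isAlgSpace hY) hX hK sq
  have hKc : IsQuasiCompactSp ((yon S).obj k.pt) := by
    rw [isQuasiCompactSp_yon_iff]
    exact inferInstanceAs (CompactSpace ↥(Spec (CommRingCat.of k.K)))
  obtain ⟨U, p, hpe, hps, hUc⟩ := hqc hK hKc k.toHom fst snd sq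
  have : CompactSpace ↥U.left := hUc
  obtain ⟨g, hg⟩ := (yon S).map_surjective (p ≫ snd)
  have hcomm : p ≫ snd = (yon S).map g ≫ 𝟙 _ := by rw [hg, Category.comp_id]
  have hsnd : LocP @LocallyOfFiniteType snd :=
    locP_baseChange etLocal_lft hX hY hK f k.toHom fst snd sq hft
  have : LocallyOfFiniteType g.left := hsnd p (𝟙 _) g hpe (repWith_id _ _) hcomm
  obtain ⟨N, hN⟩ := exists_forall_fibreDimAt_le g.left
  refine ⟨N, ((dim_fibre_eq_sup_relDim hX hY f hft (Points.mk k) k rfl Xk fst snd sq).2 N).2 ?_⟩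
  intro x hx
  obtain ⟨z, hz, -⟩ := points_exists_of_isPullback sq x
    (Points.ofScheme k.pt (IsLocalRing.closedPoint k.K)) (by
      rw [hx, ← Points.ofPt_eq_map_ofScheme, Points.ofPt_toHom])
  obtain ⟨u, rfl⟩ := ofPt_surjective_of_repWith hps z
  rw [← hz, ← hasAtMor_fibreDimAt_baseChange_iff hX hY hK f k.toHom fst snd sq hft
    (fun e => e ≤ (N : WithBot ℕ∞)) (Points.ofPt p u)]
  exact ⟨U, k.pt, p, 𝟙 _, g, u, hpe, repWith_id _ _, hcomm, rfl, hN u⟩

end Groth.Agent.Lib.Helper14.AS

namespace Groth.Agent.Lib.Helper14.AS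

variable {S : Scheme.{u}}

theorem withBot_enat_coe_lt_iff (x : WithBot ℕ∞) (m : ℕ) :
    ((m : ℕ∞) : WithBot ℕ∞) < x ↔ (((m + 1 : ℕ) : ℕ∞) : WithBot ℕ∞) ≤ x := by
  induction x using WithBot.recBotCoe with
  | bot => simp
  | coe e =>
    rw [WithBot.coe_lt_coe, WithBot.coe_le_coe]
    push_cast
    exact (ENat.add_one_le_iff (ENat.coe_ne_top m)).symm

theorem withBot_enat_bot_lt_iff (x : WithBot ℕ∞) :
    ⊥ < x ↔ (((0 : ℕ) : ℕ∞) : WithBot ℕ∞) ≤ x := by
  induction x using WithBot.recBotCoe with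
  | bot => simp
  | coe e =>
    rw [WithBot.coe_le_coe]
    simp

set_option backward.isDefEq.respectTransparency.types false in
/-- Local constancy of the fibre dimension of a proper flat morphism of finite presentation. -/
theorem isOpen_dim_fibre_eq {X Y : Sp S} (hX : IsAlgSpace X) (hY : IsAlgSpace Y) (f : X ⟶ Y)
    (hft : LocP @LocallyOfFiniteType f) (hqc : IsQuasiCompactMor f)
    (hup : ∀ d : WithBot ℕ∞, IsOpen {y : Points Y | ∀ (k : FieldPt Y), Points.mk k = y →
      ∀ (Xk : Sp S) (fst : Xk ⟶ X) (snd : Xk ⟶ (yon S).obj k.pt),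
        IsPullback fst snd f k.toHom → AlgSp.dim Xk < d})
    (hlow : ∀ d : WithBot ℕ∞, IsOpen {y : Points Y | ∀ (k : FieldPt Y), Points.mk k = y →
      ∀ (Xk : Sp S) (fst : Xk ⟶ X) (snd : Xk ⟶ (yon S).obj k.pt),
        IsPullback fst snd f k.toHom → d < AlgSp.dim Xk}) (d : WithBot ℕ∞) :
    IsOpen {y : Points Y | ∀ (k : FieldPt Y), Points.mk k = y →
      ∀ (Xk : Sp S) (fst : Xk ⟶ X) (snd : Xk ⟶ (yon S).obj k.pt),
        IsPullback fst snd f k.toHom → AlgSp.dim Xk = d} := by
  induction d using WithBot.recBotCoe with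
  | bot =>
    convert hup (((0 : ℕ) : ℕ∞) : WithBot ℕ∞) using 1
    ext y
    simp only [Set.mem_setOf_eq, withBot_enat_lt_zero_iff]
  | coe e =>
    induction e using ENat.recTopCoe with
    | top =>
      convert isOpen_empty
      ext y
      simp only [Set.mem_setOf_eq, Set.mem_empty_iff_false, iff_false]
      intro h
      obtain ⟨k, hk⟩ := Points.mk_surjective y
      obtain ⟨N, hN⟩ := exists_dim_fibre_le hX hY f hft hqc k _ _ _
        (IsPullback.of_hasPullback f k.toHom)
      rw [h k hk _ _ _ (IsPullback.of_hasPullback f k.toHom)] at hN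
      exact absurd hN (by
        rw [not_le]
        exact WithBot.coe_lt_coe.2 (ENat.coe_lt_top N))
    | coe n =>
      cases n with
      | zero =>
        have h1 : {y : Points Y | ∀ (k : FieldPt Y), Points.mk k = y →
            ∀ (Xk : Sp S) (fst : Xk ⟶ X) (snd : Xk ⟶ (yon S).obj k.pt),
            IsPullback fst snd f k.toHom → AlgSp.dim Xk = (((0 : ℕ) : ℕ∞) : WithBot ℕ∞)} =
            {y : Points Y | ∀ (k : FieldPt Y), Points.mk k = y →
              ∀ (Xk : Sp S) (fst : Xk ⟶ X) (snd : Xk ⟶ (yon S).obj k.pt),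
              IsPullback fst snd f k.toHom → AlgSp.dim Xk < (((0 + 1 : ℕ) : ℕ∞) : WithBot ℕ∞)} ∩
            {y : Points Y | ∀ (k : FieldPt Y), Points.mk k = y →
              ∀ (Xk : Sp S) (fst : Xk ⟶ X) (snd : Xk ⟶ (yon S).obj k.pt),
              IsPullback fst snd f k.toHom → ⊥ < AlgSp.dim Xk} := by
          ext y
          simp only [Set.mem_setOf_eq, Set.mem_inter_iff, withBot_enat_lt_succ_iff,
            withBot_enat_bot_lt_iff]
          constructor
          · intro h
            exact ⟨fun k hk Xk fst snd sq => le_of_eq (h k hk Xk fst snd sq),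
              fun k hk Xk fst snd sq => le_of_eq (h k hk Xk fst snd sq).symm⟩
          · rintro ⟨h1, h2⟩ k hk Xk fst snd sq
            exact le_antisymm (h1 k hk Xk fst snd sq) (h2 k hk Xk fst snd sq)
        rw [h1]
        exact (hup _).inter (hlow _)
      | succ m =>
        have h1 : {y : Points Y | ∀ (k : FieldPt Y), Points.mk k = y →
            ∀ (Xk : Sp S) (fst : Xk ⟶ X) (snd : Xk ⟶ (yon S).obj k.pt),
            IsPullback fst snd f k.toHom → AlgSp.dim Xk = (((m + 1 : ℕ) : ℕ∞) : WithBot ℕ∞)} =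
            {y : Points Y | ∀ (k : FieldPt Y), Points.mk k = y →
              ∀ (Xk : Sp S) (fst : Xk ⟶ X) (snd : Xk ⟶ (yon S).obj k.pt),
              IsPullback fst snd f k.toHom →
                AlgSp.dim Xk < (((m + 1 + 1 : ℕ) : ℕ∞) : WithBot ℕ∞)} ∩
            {y : Points Y | ∀ (k : FieldPt Y), Points.mk k = y →
              ∀ (Xk : Sp S) (fst : Xk ⟶ X) (snd : Xk ⟶ (yon S).obj k.pt),
              IsPullback fst snd f k.toHom → ((m : ℕ∞) : WithBot ℕ∞) < AlgSp.dim Xk} := by
          ext y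
          simp only [Set.mem_setOf_eq, Set.mem_inter_iff, withBot_enat_lt_succ_iff,
            withBot_enat_coe_lt_iff]
          constructor
          · intro h
            exact ⟨fun k hk Xk fst snd sq => le_of_eq (h k hk Xk fst snd sq),
              fun k hk Xk fst snd sq => le_of_eq (h k hk Xk fst snd sq).symm⟩
          · rintro ⟨h1, h2⟩ k hk Xk fst snd sq
            exact le_antisymm (h1 k hk Xk fst snd sq) (h2 k hk Xk fst snd sq)
        rw [h1]
        exact (hup _).inter (hlow _)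

end Groth.Agent.Lib.Helper14.AS
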