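import Mathlib

/-!
# Finite length from a power of a maximal ideal annihilating a finite module
-/

set_option autoImplicit false
universe u

namespace Groth.Agent.Lib.Helper14

/-- Over a Noetherian ring, a finite module killed by a power of a maximal ideal has finite
length. -/
theorem isFiniteLength_of_pow_le_annihilator (A : Type u) [CommRing A] [IsNoetherianRing A]
    (m : Ideal A) [hm : m.IsMaximal] (n : ℕ)
    (N : Type u) [AddCommGroup N] [Module A N] [hN : Module.Finite A N]
    (h : m ^ n ≤ Module.annihilator A N) : IsFiniteLength A N := by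
  revert h
  refine IsNoetherianRing.induction_on_isQuotientEquivQuotientPrime A hN
    (motive := fun N _ _ _ => m ^ n ≤ Module.annihilator A N → IsFiniteLength A N) ?_ ?_ ?_
  · intro N _ _ _ _ _
    exact IsFiniteLength.of_subsingleton
  · intro N _ _ _ p e h
    have h1 : Module.annihilator A N = p.asIdeal := by
      rw [e.annihilator_eq, Ideal.annihilator_quotient]
    rw [h1] at h
    have h2 : m ≤ p.asIdeal := p.2.le_of_pow_le h
    have h3 : m = p.asIdeal := hm.eq_of_le p.2.ne_top h2
    have : p.asIdeal.IsMaximal := h3 ▸ hm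
    have hs : IsSimpleModule A (A ⧸ p.asIdeal) := by
      rw [isSimpleModule_iff_quot_maximal]
      exact ⟨p.asIdeal, this, ⟨LinearEquiv.refl _ _⟩⟩
    have hs' : IsSimpleModule A N := IsSimpleModule.congr e
    rw [isFiniteLength_iff_isNoetherian_isArtinian]
    exact ⟨inferInstance, inferInstance⟩
  · intro N₁ _ _ _ N₂ _ _ _ N₃ _ _ _ f g hf hg hfg h1 h3 h
    have a1 : Module.annihilator A N₂ ≤ Module.annihilator A N₁ :=
      LinearMap.annihilator_le_of_injective f hf
    have a3 : Module.annihilator A N₂ ≤ Module.annihilator A N₃ :=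
      LinearMap.annihilator_le_of_surjective g hg
    have r1 := h1 (h.trans a1)
    have r3 := h3 (h.trans a3)
    rw [isFiniteLength_iff_isNoetherian_isArtinian] at r1 r3 ⊢
    obtain ⟨_, _⟩ := r1
    obtain ⟨_, _⟩ := r3
    refine ⟨inferInstance, ?_⟩
    exact isArtinian_of_range_eq_ker f g (LinearMap.exact_iff.mp hfg).symm
end Groth.Agent.Lib.Helper14
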