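import Groth.Agent.Lib.Helper14.Norm5c

/-!
# Local constructions on sheaves over an algebraic space (helper14)
-/

universe u
open CategoryTheory CategoryTheory.Limits AlgebraicGeometry Opposite
open AlgSp

namespace Groth.Agent.Lib.Helper14.AS

variable {S : Scheme.{u}}

/-- Morphisms of sheaves agreeing locally on all points are equal. -/
theorem sp_hom_ext_of_local {F G : Sp S} (φ φ' : F ⟶ G)
    (h : ∀ ⦃T : Over S⦄ (y : (yon S).obj T ⟶ F), ∃ Sv ∈ J S T, ∀ ⦃W : Over S⦄ (w : W ⟶ T), Sv w →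
      (yon S).map w ≫ y ≫ φ = (yon S).map w ≫ y ≫ φ') : φ = φ' := by
  apply GrothendieckTopology.hom_ext_uliftYoneda.{u + 1} (AlgSp.J S)
  intro T y
  obtain ⟨Sv, hSv, hl⟩ := h y
  exact yon_hom_ext_of_cover _ _ Sv hSv hl

/-- Construction of a morphism of sheaves from a local, pullback-stable, single-valued relation
between points. -/
theorem exists_hom_of_local {F G : Sp S}
    (L : ∀ ⦃T : Over S⦄, ((yon S).obj T ⟶ F) → ((yon S).obj T ⟶ G) → Prop)
    (hpull : ∀ ⦃T T' : Over S⦄ (g : T' ⟶ T) (y : (yon S).obj T ⟶ F) (z : (yon S).obj T ⟶ G),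
      L y z → L ((yon S).map g ≫ y) ((yon S).map g ≫ z))
    (huniq : ∀ ⦃T : Over S⦄ (y : (yon S).obj T ⟶ F) (z z' : (yon S).obj T ⟶ G),
      L y z → L y z' → z = z')
    (hex : ∀ ⦃T : Over S⦄ (y : (yon S).obj T ⟶ F), ∃ Sv ∈ J S T, ∀ ⦃W : Over S⦄ (w : W ⟶ T), Sv w →
      ∃ z, L ((yon S).map w ≫ y) z) :
    ∃ h : F ⟶ G, ∀ ⦃T : Over S⦄ (y : (yon S).obj T ⟶ F) (z : (yon S).obj T ⟶ G), L y z → y ≫ h = z := by
  -- the sieve on which `L` holds
  let LS : ∀ {T : Over S}, ((yon S).obj T ⟶ F) → ((yon S).obj T ⟶ G) → Sieve T := fun {T} y z =>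
    { arrows := fun W w => L ((yon S).map w ≫ y) ((yon S).map w ≫ z)
      downward_closed := fun {W W'} w hw g => by
        have := hpull g _ _ hw
        rw [← Category.assoc, ← Category.assoc, ← Functor.map_comp] at this
        exact this }
  have LS_pull : ∀ {T T' : Over S} (g : T' ⟶ T) (y : (yon S).obj T ⟶ F) (z : (yon S).obj T ⟶ G),
      (LS y z).pullback g = LS ((yon S).map g ≫ y) ((yon S).map g ≫ z) := by
    intro T T' g y z
    ext W w
    show L ((yon S).map (w ≫ g) ≫ y) ((yon S).map (w ≫ g) ≫ z) ↔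
      L ((yon S).map w ≫ (yon S).map g ≫ y) ((yon S).map w ≫ (yon S).map g ≫ z)
    rw [Functor.map_comp, Category.assoc, Category.assoc]
  -- uniqueness for the localized relation
  have huniq' : ∀ {T : Over S} (y : (yon S).obj T ⟶ F) (z z' : (yon S).obj T ⟶ G),
      LS y z ∈ J S T → LS y z' ∈ J S T → z = z' := by
    intro T y z z' h1 h2
    refine yon_hom_ext_of_cover z z' _ ((J S).intersection_covering h1 h2) ?_
    rintro W w ⟨hw1, hw2⟩
    exact huniq _ _ _ hw1 hw2
  -- existence for the localized relation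
  have hex' : ∀ {T : Over S} (y : (yon S).obj T ⟶ F), ∃ z : (yon S).obj T ⟶ G, LS y z ∈ J S T := by
    intro T y
    obtain ⟨Sv, hSv, hl⟩ := hex y
    obtain ⟨z, hz⟩ := exists_glue_of_unique
      (fun W w z => LS ((yon S).map w ≫ y) z ∈ J S W)
      (fun W W' w g z hz => by
        have := (J S).pullback_stable g hz
        rw [LS_pull] at this
        rw [Functor.map_comp, Category.assoc]
        exact this)
      (fun W w z z' h1 h2 => huniq' _ z z' h1 h2) Sv hSv
      (fun W w hw => by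
        obtain ⟨z, hz⟩ := hl w hw
        refine ⟨z, ?_⟩
        have : LS ((yon S).map w ≫ y) z = ⊤ := by
          ext W' g
          simp only [Sieve.top_apply, iff_true]
          exact hpull g _ _ hz
        rw [this]
        exact (J S).top_mem W)
    refine ⟨z, (J S).transitive hSv _ fun W w hw => ?_⟩
    rw [LS_pull]
    exact hz w hw
  choose zc hzc using @hex'
  have zc_pull : ∀ {T T' : Over S} (g : T' ⟶ T) (y : (yon S).obj T ⟶ F),
      zc ((yon S).map g ≫ y) = (yon S).map g ≫ zc y := by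
    intro T T' g y
    refine huniq' ((yon S).map g ≫ y) _ _ (hzc _) ?_
    rw [← LS_pull]
    exact (J S).pullback_stable g (hzc y)
  let h : F ⟶ G := ⟨{
    app := fun T => ↾(fun s => yEquiv (zc (yEquiv.symm s)))
    naturality := fun T T' g => by
      ext s
      show yEquiv (zc (yEquiv.symm (F.obj.map g s))) = G.obj.map g (yEquiv (zc (yEquiv.symm s)))
      have e : yEquiv.symm (F.obj.map g s) = (yon S).map g.unop ≫ yEquiv.symm s := by
        apply yEquiv.injective
        rw [yEquiv_map_comp'', Equiv.apply_symm_apply, Equiv.apply_symm_apply]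
        rfl
      rw [e, zc_pull, yEquiv_map_comp'']
      rfl }⟩
  refine ⟨h, fun T y z hz => ?_⟩
  have e1 : y ≫ h = zc y := by
    apply yEquiv.injective
    rw [yEquiv_comp]
    show yEquiv (zc (yEquiv.symm (yEquiv y))) = _
    rw [Equiv.symm_apply_apply]
  rw [e1]
  refine huniq' y _ _ (hzc y) ?_
  have : LS y z = ⊤ := by
    ext W' g
    simp only [Sieve.top_apply, iff_true]
    exact hpull g _ _ hz
  rw [this]
  exact (J S).top_mem T

variable {X : Sp S}

set_option backward.isDefEq.respectTransparency.types false in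
/-- Every point of an algebraic space factors locally through affine etale charts. -/
theorem exists_cover_affEt (hX : IsAlgSpace X) {T : Over S} (x : (yon S).obj T ⟶ X) :
    ∃ Sv ∈ J S T, ∀ ⦃W : Over S⦄ (w : W ⟶ T), Sv w →
      ∃ (E : AffEt X) (v : W ⟶ E.V), (yon S).map v ≫ E.v = (yon S).map w ≫ x := by
  obtain ⟨U, p, hpe, hps⟩ := hX.atlas
  have : Sheaf.IsLocallySurjective p := isLocallySurjective_of_etale_surjective p hpe hps
  obtain ⟨R, hR, hl⟩ := exists_cover_lift p x
  let Sv : Sieve T :=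
    { arrows := fun W w => ∃ (E : AffEt X) (v : W ⟶ E.V), (yon S).map v ≫ E.v = (yon S).map w ≫ x
      downward_closed := fun {W W'} w hw g => by
        obtain ⟨E, v, hv⟩ := hw
        exact ⟨E, g ≫ v, by rw [Functor.map_comp, Category.assoc, hv, Functor.map_comp,
          Category.assoc]⟩ }
  refine ⟨Sv, ?_, fun W w hw => hw⟩
  have hRJ : Sieve.generate R ∈ J S T := (mem_J_iff _).2 ⟨R, hR, Sieve.le_generate R⟩
  refine (J S).transitive hRJ Sv ?_
  rintro W _ ⟨W₀, g, w₀, hw₀, rfl⟩
  rw [Sieve.pullback_comp]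
  refine (J S).pullback_stable g ?_
  obtain ⟨l, hl'⟩ := hl w₀ hw₀
  obtain ⟨lam, rfl⟩ := (yon S).map_surjective l
  refine mem_J_of_open_nhds _ fun τ => ?_
  obtain ⟨O, hO, hτO, -⟩ := exists_isAffineOpen_mem_and_subset (x := lam.left τ) (U := ⊤) trivial
  refine ⟨lam.left ⁻¹ᵁ O, hτO, ?_⟩
  refine ⟨⟨openSub U O, (yon S).map (openSubι U O) ≫ p, repWith_etale_restrict hpe O, hO⟩,
    openSubRes lam O, ?_⟩
  show (yon S).map (openSubRes lam O) ≫ (yon S).map (openSubι U O) ≫ p = _
  rw [← Category.assoc, ← Functor.map_comp, openSubRes_ι, Functor.map_comp, Category.assoc, hl',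
    Functor.map_comp, Category.assoc]

namespace AffEt

set_option backward.isDefEq.respectTransparency.types false in
/-- Two charts through which a point factors have, locally, a common refinement. -/
theorem exists_refine {E E' : AffEt X} {T : Over S} (v : T ⟶ E.V) (v' : T ⟶ E'.V)
    (h : (yon S).map v ≫ E.v = (yon S).map v' ≫ E'.v) (τ : ↥T.left) :
    ∃ (U : T.left.Opens) (_ : τ ∈ U) (E'' : AffEt X) (a : E'' ⟶ E) (a' : E'' ⟶ E')
      (v'' : openSub T U ⟶ E''.V), v'' ≫ a.a = openSubι T U ≫ v ∧ v'' ≫ a'.a = openSubι T U ≫ v' := by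
  have hr := E.etale.rep
  have sqR := hr.isPullback' E'.v
  have hsnd : Etale (hr.snd E'.v).left := E.etale.property_snd E'.v
  obtain ⟨r, hr1, hr2⟩ : ∃ r : T ⟶ hr.pullback E'.v, r ≫ hr.fst' E'.v = v ∧ r ≫ hr.snd E'.v = v' :=
    ⟨hr.lift' _ _ h, hr.lift'_fst _ _ _, hr.lift'_snd _ _ _⟩
  obtain ⟨O, hO, hτO, -⟩ := exists_isAffineOpen_mem_and_subset (x := r.left τ) (U := ⊤) trivial
  have hae : Etale (openSubι (hr.pullback E'.v) O ≫ hr.snd E'.v).left := by
    rw [Over.comp_left]
    infer_instance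
  have haw : (yon S).map (openSubι (hr.pullback E'.v) O ≫ hr.fst' E'.v) ≫ E.v =
      (yon S).map (openSubι (hr.pullback E'.v) O ≫ hr.snd E'.v) ≫ E'.v := by
    rw [Functor.map_comp, Functor.map_comp, Category.assoc, Category.assoc, sqR.w]
  refine ⟨r.left ⁻¹ᵁ O, hτO, E'.ofHom (openSubι (hr.pullback E'.v) O ≫ hr.snd E'.v) hae hO,
    ⟨openSubι (hr.pullback E'.v) O ≫ hr.fst' E'.v, haw⟩, E'.ofHomι _ hae hO, openSubRes r O, ?_, ?_⟩
  · show openSubRes r O ≫ openSubι (hr.pullback E'.v) O ≫ hr.fst' E'.v = _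
    rw [← Category.assoc, openSubRes_ι, Category.assoc, hr1]
  · show openSubRes r O ≫ openSubι (hr.pullback E'.v) O ≫ hr.snd E'.v = _
    rw [← Category.assoc, openSubRes_ι, Category.assoc, hr2]

end AffEt

end Groth.Agent.Lib.Helper14.AS
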