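import Groth.Agent.Lib.Helper14.AlgSpSubsheaf
import Groth.Agent.Lib.Helper14.AlgSpSchImage
import Groth.Agent.Lib.Helper25.ClosedDescent

/-!
# Scheme theoretic images on charts (helper14)

For `f : X ⟶ Y` a morphism of sheaves and `b : h_V ⟶ Y` a point, `imgKer f b` is the ideal sheaf
of the scheme theoretic image of `X ×_Y V ⟶ V`.  It is computed by any chart of `X ×_Y V` and
commutes with flat base change when some chart is quasi-compact over `V`.
-/

universe u
open CategoryTheory CategoryTheory.Limits AlgebraicGeometry Opposite Topology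

namespace Groth.Agent.Lib.Helper14.AS

open AlgSp Groth.Agent.Lib.Helper14.AS
open Groth.Agent.Lib.Helper25.ClosedDescent

variable {S : Scheme.{u}}

/-- The closed subscheme cut out by an ideal sheaf, as a scheme over `S`. -/
noncomputable def subOver {V : Over S} (K : V.left.IdealSheafData) : Over S :=
  Over.mk (K.subschemeι ≫ V.hom)

/-- The inclusion of the closed subscheme cut out by an ideal sheaf. -/
noncomputable def subOverι {V : Over S} (K : V.left.IdealSheafData) : subOver K ⟶ V :=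
  Over.homMk K.subschemeι rfl

@[simp] theorem subOverι_left {V : Over S} (K : V.left.IdealSheafData) :
    (subOverι K).left = K.subschemeι := rfl

instance {V : Over S} (K : V.left.IdealSheafData) : Mono (subOverι K) := by
  have : Mono (subOverι K).left := inferInstanceAs (Mono K.subschemeι)
  exact Over.mono_of_mono_left _

instance {V : Over S} (K : V.left.IdealSheafData) : IsClosedImmersion (subOverι K).left :=
  inferInstanceAs (IsClosedImmersion K.subschemeι)

set_option backward.isDefEq.respectTransparency.types false in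
theorem le_ker_iff_factors {T V : Over S} (K : V.left.IdealSheafData) (t : T ⟶ V) :
    K ≤ t.left.ker ↔ ∃ l : T ⟶ subOver K, l ≫ subOverι K = t := by
  constructor
  · intro h
    have hle' : K.subschemeι.ker ≤ t.left.ker := by
      rwa [Scheme.IdealSheafData.ker_subschemeι]
    let l₀ : T.left ⟶ K.subscheme := IsClosedImmersion.lift K.subschemeι t.left hle'
    have hl₀ : l₀ ≫ K.subschemeι = t.left := IsClosedImmersion.lift_fac _ _ _
    refine ⟨Over.homMk (U := T) (V := subOver K) l₀ ?_, ?_⟩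
    · change l₀ ≫ K.subschemeι ≫ V.hom = T.hom
      rw [← Category.assoc, hl₀, Over.w]
    · ext
      exact hl₀
  · rintro ⟨l, rfl⟩
    rw [Over.comp_left]
    refine le_trans ?_ (Scheme.Hom.le_ker_comp _ _)
    change K ≤ K.subschemeι.ker
    rw [Scheme.IdealSheafData.ker_subschemeι]

theorem le_ker_iff_factors_yon {T V : Over S} (K : V.left.IdealSheafData) (t : T ⟶ V) :
    K ≤ t.left.ker ↔
      ∃ l : (yon S).obj T ⟶ (yon S).obj (subOver K), l ≫ (yon S).map (subOverι K) = (yon S).map t := by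
  rw [le_ker_iff_factors]
  constructor
  · rintro ⟨l, rfl⟩
    exact ⟨(yon S).map l, ((yon S).map_comp _ _).symm⟩
  · rintro ⟨l, hl⟩
    obtain ⟨l', rfl⟩ := (yon S).map_surjective l
    rw [← Functor.map_comp] at hl
    exact ⟨l', (yon S).map_injective hl⟩

/-- Containment in the kernel of a morphism can be checked fppf locally on the source. -/
theorem le_ker_of_locally {T V : Over S} (K : V.left.IdealSheafData) (t : T ⟶ V)
    (R : Sieve T) (hR : R ∈ AlgSp.J S T)
    (h : ∀ ⦃W : Over S⦄ (w : W ⟶ T), R w → K ≤ (w ≫ t).left.ker) : K ≤ t.left.ker := by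
  rw [le_ker_iff_factors_yon]
  have : Mono ((yon S).map (subOverι K)) := inferInstance
  refine exists_lift_of_locally ((yon S).map (subOverι K)) ((yon S).map t) fun T' x => ?_
  obtain ⟨s, rfl⟩ := (yon S).map_surjective x
  refine ⟨Sieve.pullback s R, (AlgSp.J S).pullback_stable s hR, fun W w hw => ?_⟩
  have := h (w ≫ s) hw
  rw [le_ker_iff_factors_yon] at this
  obtain ⟨l, hl⟩ := this
  exact ⟨l, by rw [hl, Functor.map_comp, Functor.map_comp, Category.assoc]⟩

/-- The ideal sheaf of the scheme theoretic image of `X ×_Y V ⟶ V`. -/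
noncomputable def imgKer {X Y : Sp S} (f : X ⟶ Y) {V : Over S} (b : (yon S).obj V ⟶ Y) :
    V.left.IdealSheafData :=
  sInf {J | ∃ (T : Over S) (t : T ⟶ V) (x : (yon S).obj T ⟶ X),
    x ≫ f = (yon S).map t ≫ b ∧ J = t.left.ker}

theorem imgKer_le {X Y : Sp S} (f : X ⟶ Y) {V : Over S} (b : (yon S).obj V ⟶ Y)
    {T : Over S} (t : T ⟶ V) (x : (yon S).obj T ⟶ X) (h : x ≫ f = (yon S).map t ≫ b) :
    imgKer f b ≤ t.left.ker :=
  sInf_le ⟨T, t, x, h, rfl⟩

theorem le_imgKer {X Y : Sp S} (f : X ⟶ Y) {V : Over S} (b : (yon S).obj V ⟶ Y)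
    (J : V.left.IdealSheafData)
    (h : ∀ (T : Over S) (t : T ⟶ V) (x : (yon S).obj T ⟶ X),
      x ≫ f = (yon S).map t ≫ b → J ≤ t.left.ker) : J ≤ imgKer f b := by
  apply le_sInf
  rintro _ ⟨T, t, x, hx, rfl⟩
  exact h T t x hx

theorem imgKer_le_comp {X Y : Sp S} (f : X ⟶ Y) {V : Over S} (b : (yon S).obj V ⟶ Y)
    {T T' : Over S} (s : T' ⟶ T) (t : T ⟶ V) (h : imgKer f b ≤ t.left.ker) :
    imgKer f b ≤ (s ≫ t).left.ker := by
  rw [Over.comp_left]
  exact h.trans (Scheme.Hom.le_ker_comp _ _)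

/-- A chart of `X ×_Y V`: a scheme `U` over `V` with a map to `X` through which every point
of `X ×_Y V` factors fppf locally. -/
structure ImgChart {X Y : Sp S} (f : X ⟶ Y) {V : Over S} (b : (yon S).obj V ⟶ Y) where
  U : Over S
  u : U ⟶ V
  q : (yon S).obj U ⟶ X
  w : q ≫ f = (yon S).map u ≫ b
  cov : ∀ (T : Over S) (t : T ⟶ V) (x : (yon S).obj T ⟶ X), x ≫ f = (yon S).map t ≫ b →
    ∃ R ∈ AlgSp.J S T, ∀ ⦃W : Over S⦄ (w : W ⟶ T), R w →
      ∃ s : W ⟶ U, (yon S).map s ≫ q = (yon S).map w ≫ x ∧ s ≫ u = w ≫ t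

namespace ImgChart

variable {X Y : Sp S} {f : X ⟶ Y} {V : Over S} {b : (yon S).obj V ⟶ Y}

theorem imgKer_eq (c : ImgChart f b) : imgKer f b = c.u.left.ker := by
  apply le_antisymm (imgKer_le f b c.u c.q c.w)
  apply le_imgKer
  intro T t x hx
  obtain ⟨R, hR, hl⟩ := c.cov T t x hx
  refine le_ker_of_locally _ t R hR fun W w hw => ?_
  obtain ⟨s, -, hs⟩ := hl w hw
  rw [← hs, Over.comp_left]
  exact Scheme.Hom.le_ker_comp _ _

/-- Base change of a chart. -/
noncomputable def baseChange (c : ImgChart f b) {V' : Over S} (w : V' ⟶ V) :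
    ImgChart f ((yon S).map w ≫ b) where
  U := pullback c.u w
  u := pullback.snd c.u w
  q := (yon S).map (pullback.fst c.u w) ≫ c.q
  w := by
    rw [Category.assoc, c.w, ← Functor.map_comp_assoc, pullback.condition,
      Functor.map_comp_assoc]
  cov T t x hx := by
    obtain ⟨R, hR, hl⟩ := c.cov T (t ≫ w) x (by rw [hx, Functor.map_comp, Category.assoc])
    refine ⟨R, hR, fun W w' hw' => ?_⟩
    obtain ⟨s, hs1, hs2⟩ := hl w' hw'
    refine ⟨pullback.lift s (w' ≫ t) (by rw [hs2, Category.assoc]), ?_, pullback.lift_snd _ _ _⟩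
    rw [← Functor.map_comp_assoc, pullback.lift_fst, hs1]

theorem baseChange_isPullback (c : ImgChart f b) {V' : Over S} (w : V' ⟶ V) :
    IsPullback (pullback.fst c.u w).left (c.baseChange w).u.left c.u.left w.left :=
  (IsPullback.of_hasPullback c.u w).map (Over.forget S)

/-- Flat base change of the scheme theoretic image on charts. -/
theorem imgKer_comap (c : ImgChart f b) [QuasiCompact c.u.left] {V' : Over S} (w : V' ⟶ V)
    [Flat w.left] : imgKer f ((yon S).map w ≫ b) = (imgKer f b).comap w.left := by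
  rw [(c.baseChange w).imgKer_eq, c.imgKer_eq]
  have := comap_map_eq_of_isPullback (c.baseChange_isPullback w) ⊥
  rw [Scheme.IdealSheafData.map_bot] at this
  rw [this, (Scheme.IdealSheafData.map_gc _).l_bot]
  exact (Scheme.IdealSheafData.map_bot _).symm

/-- Flat base change of the scheme theoretic image on charts, pointwise form. -/
theorem imgKer_le_iff_of_flat (c : ImgChart f b) [QuasiCompact c.u.left] {V' : Over S} (w : V' ⟶ V)
    [Flat w.left] {T : Over S} (t : T ⟶ V') :
    imgKer f ((yon S).map w ≫ b) ≤ t.left.ker ↔ imgKer f b ≤ (t ≫ w).left.ker := by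
  rw [c.imgKer_comap w, ← Scheme.IdealSheafData.map_bot, ← Scheme.IdealSheafData.map_bot,
    Scheme.IdealSheafData.le_map_iff_comap_le, Scheme.IdealSheafData.le_map_iff_comap_le,
    Over.comp_left, Scheme.IdealSheafData.comap_comp]

end ImgChart

theorem isQuasiCompactSp_yon (V : Over S) [CompactSpace V.left] :
    IsQuasiCompactSp ((yon S).obj V) :=
  ⟨V, 𝟙 _,
    by rw [← (yon S).map_id]; exact (repWith_yon_map_iff _ _).2 (by dsimp; infer_instance),
    by rw [← (yon S).map_id]; exact (repWith_yon_map_iff _ _).2 (by dsimp; infer_instance), ‹_›⟩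

/-- For a quasi-compact morphism, the fibre product with a quasi-compact scheme has a
quasi-compact chart. -/
theorem exists_imgChart_of_qc {X Y : Sp S} {f : X ⟶ Y} (hq : IsQuasiCompactMor f) {V : Over S}
    [CompactSpace V.left] (b : (yon S).obj V ⟶ Y) :
    ∃ c : ImgChart f b, CompactSpace c.U.left := by
  obtain ⟨U, p, hpe, hps, hU⟩ := hq (IsAlgSpace.yon_obj V) (isQuasiCompactSp_yon V) b
    (pullback.fst f b) (pullback.snd f b) (IsPullback.of_hasPullback f b)
  have : Sheaf.IsLocallySurjective p := isLocallySurjective_of_etale_surjective p hpe hps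
  obtain ⟨u, hu⟩ := (yon S).map_surjective (p ≫ pullback.snd f b)
  refine ⟨⟨U, u, p ≫ pullback.fst f b, ?_, ?_⟩, hU⟩
  · rw [Category.assoc, pullback.condition, hu, Category.assoc]
  · intro T t x hx
    obtain ⟨R, hR, hl⟩ := exists_cover_lift p (pullback.lift x ((yon S).map t) hx)
    refine ⟨Sieve.generate R, (mem_J_iff _).2 ⟨R, hR, Sieve.le_generate R⟩, ?_⟩
    rintro W w ⟨W', a, r, hr, rfl⟩
    obtain ⟨l, hl⟩ := hl r hr
    obtain ⟨s, rfl⟩ := (yon S).map_surjective l
    refine ⟨a ≫ s, ?_, ?_⟩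
    · rw [Functor.map_comp, Category.assoc, ← Category.assoc ((yon S).map s), hl, Category.assoc,
        pullback.lift_fst, Functor.map_comp, Category.assoc]
    · apply (yon S).map_injective
      rw [Functor.map_comp, Functor.map_comp, Category.assoc, hu, ← Category.assoc ((yon S).map s),
        hl, Category.assoc, pullback.lift_snd, Functor.map_comp, Functor.map_comp, Category.assoc]

/-- Comparison of the scheme theoretic images on two etale charts with quasi-compact charts. -/
theorem imgKer_le_iff_of_etale {X Y : Sp S} (f : X ⟶ Y) {V₀ V : Over S}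
    {b₀ : (yon S).obj V₀ ⟶ Y} {b : (yon S).obj V ⟶ Y} (hb₀ : RepWith @Etale b₀)
    (hb : RepWith @Etale b) (c₀ : ImgChart f b₀) [QuasiCompact c₀.u.left]
    (c : ImgChart f b) [QuasiCompact c.u.left] {T : Over S} (t₀ : T ⟶ V₀) (v : T ⟶ V)
    (h : (yon S).map t₀ ≫ b₀ = (yon S).map v ≫ b) :
    imgKer f b₀ ≤ t₀.left.ker ↔ imgKer f b ≤ v.left.ker := by
  have sq := hb.rep.isPullback b₀
  obtain ⟨π₁, hπ₁⟩ := (yon S).map_surjective (hb.rep.fst b₀)
  rw [← hπ₁] at sq
  have e0 : Etale (hb.rep.snd b₀).left := hb.property_snd b₀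
  have e1 : Etale π₁.left := hb₀.property b _ _ sq.flip
  obtain ⟨τ, hτ⟩ := (yon S).map_surjective (sq.lift ((yon S).map v) ((yon S).map t₀) h.symm)
  have h1 : τ ≫ π₁ = v := by
    apply (yon S).map_injective
    rw [Functor.map_comp, hτ, sq.lift_fst]
  have h0 : τ ≫ hb.rep.snd b₀ = t₀ := by
    apply (yon S).map_injective
    rw [Functor.map_comp, hτ, sq.lift_snd]
  have := sq.w
  rw [← h0, ← h1, ← c₀.imgKer_le_iff_of_flat (hb.rep.snd b₀) τ, ← c.imgKer_le_iff_of_flat π₁ τ,
    sq.w]

end Groth.Agent.Lib.Helper14.AS
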