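import Groth.Agent.Lib.Helper14.AlgSpSubsheaf
import Groth.Agent.Lib.Helper14.SchImg1
import Groth.Agent.Lib.Helper14.LimJ
import Groth.Agent.Lib.Helper14.Norm6b
import Groth.Agent.Lib.Helper14.AlgSpRepTo
import Groth.Agent.Lib.Helper14.CutOut3

/-!
# Fixed points of a group acting on a separated algebraic space (helper14)
-/

universe u
open CategoryTheory CategoryTheory.Limits AlgebraicGeometry Opposite Topology

namespace Groth.Agent.Lib.Helper14.AS

open AlgSp

variable {S : Scheme.{u}}

set_option backward.isDefEq.respectTransparency.types false in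
/-- The equalizer of two points of a separated sheaf is a closed subscheme. -/
theorem exists_ideal_equalizer {F : Sp S} (hsep : IsSeparatedSp F) {T : Over S}
    (a b : (yon S).obj T ⟶ F) :
    ∃ K : T.left.IdealSheafData, ∀ ⦃T' : Over S⦄ (t : T' ⟶ T),
      (yon S).map t ≫ a = (yon S).map t ≫ b ↔ K ≤ t.left.ker := by
  have hc : IsClosedImmersion (hsep.rep.snd (prod.lift a b)).left := hsep.property_snd _
  have sq := hsep.rep.isPullback (prod.lift a b)
  refine ⟨(hsep.rep.snd (prod.lift a b)).left.ker, fun T' t => ?_⟩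
  constructor
  · intro h
    have hw : ((yon S).map t ≫ a) ≫ Limits.diag F = (yon S).map t ≫ prod.lift a b := by
      apply Limits.prod.hom_ext <;> simp [h]
    obtain ⟨l₀, hl₀⟩ := (yon S).map_surjective (sq.lift _ _ hw)
    have h2 : (yon S).map (l₀ ≫ hsep.rep.snd (prod.lift a b)) = (yon S).map t := by
      rw [Functor.map_comp, hl₀, sq.lift_snd]
    have h3 : l₀ ≫ hsep.rep.snd (prod.lift a b) = t := (yon S).map_injective h2
    rw [← h3, Over.comp_left]
    exact Scheme.Hom.le_ker_comp _ _
  · intro h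
    let l₀ : T'.left ⟶ (hsep.rep.pullback (prod.lift a b)).left :=
      IsClosedImmersion.lift (hsep.rep.snd (prod.lift a b)).left t.left h
    have hl₀ : l₀ ≫ (hsep.rep.snd (prod.lift a b)).left = t.left :=
      IsClosedImmersion.lift_fac _ _ _
    let l : T' ⟶ hsep.rep.pullback (prod.lift a b) := Over.homMk l₀ (by
      rw [← Over.w (hsep.rep.snd (prod.lift a b)), ← Category.assoc, hl₀, Over.w])
    have hl : l ≫ hsep.rep.snd (prod.lift a b) = t := by
      ext1
      exact hl₀
    have h1 : (yon S).map t ≫ prod.lift a b =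
        ((yon S).map l ≫ hsep.rep.fst (prod.lift a b)) ≫ Limits.diag F := by
      rw [← hl, Functor.map_comp, Category.assoc, Category.assoc, sq.w]
    have ha := congrArg (fun k => k ≫ (prod.fst : F ⨯ F ⟶ F)) h1
    have hb := congrArg (fun k => k ≫ (prod.snd : F ⨯ F ⟶ F)) h1
    simp only [Category.assoc, prod.lift_fst, prod.lift_snd, Limits.diag, Category.comp_id] at ha hb
    rw [ha, hb]

/-- The predicate of being fixed by all the given automorphisms. -/
noncomputable def fixPred {F : Sp S} {G : Type*} (ρ : G → (F ⟶ F)) : SubPred F where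
  P T x := ∀ g : G, x ≫ ρ g = x
  comp T T' t x hx g := by rw [Category.assoc, hx g]
  loc T x R hR h g := by
    refine yon_hom_ext_of_KS _ _ R hR fun W w hw => ?_
    have := h w hw g
    rw [Category.assoc] at this
    exact this

set_option backward.isDefEq.respectTransparency.types false in
theorem repWith_fixPred {F : Sp S} (hsep : IsSeparatedSp F) {G : Type*} (ρ : G → (F ⟶ F)) :
    RepWith @IsClosedImmersion (fixPred ρ).ι := by
  refine (fixPred ρ).repWith fun T x => ?_
  choose K hK using fun g : G => exists_ideal_equalizer hsep (x ≫ ρ g) x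
  refine ⟨subOver (⨆ g, K g), subOverι _, inferInstance,
    (inferInstance : IsClosedImmersion (⨆ g, K g).subschemeι), fun T' t => ?_⟩
  rw [← le_ker_iff_factors, iSup_le_iff]
  refine forall_congr' fun g => ?_
  rw [← hK g t, Category.assoc]

set_option backward.isDefEq.respectTransparency.types false in
/-- The sheaf of fixed points of a group of automorphisms of a separated algebraic space is a
closed subspace. -/
theorem fixedPoints_isClosedImmersion {F : Sp S} (hF : IsAlgSpace F) (hsep : IsSeparatedSp F)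
    {G : Type*} (ρ : G → (F ⟶ F)) {Z : Sp S} (i : Z ⟶ F) (hi : ∀ g : G, i ≫ ρ g = i)
    (huniv : ∀ (W : Sp S) (x : W ⟶ F), (∀ g : G, x ≫ ρ g = x) → ∃! z : W ⟶ Z, z ≫ i = x) :
    IsAlgSpace Z ∧ RepWith @IsClosedImmersion i := by
  set A := fixPred ρ with hA
  have hrep : RepWith @IsClosedImmersion A.ι := repWith_fixPred hsep ρ
  have hAalg : IsAlgSpace A.sheaf := isAlgSpace_of_representable_to hF _ hrep.rep
  have hmono : Mono i := by
    constructor
    intro W u v huv
    obtain ⟨z, -, hz⟩ := huniv W (u ≫ i) (fun g => by rw [Category.assoc, hi g])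
    rw [hz u rfl, hz v huv.symm]
  have hAinv : ∀ g : G, A.ι ≫ ρ g = A.ι := by
    intro g
    refine sp_hom_ext_of_local _ _ fun T y => ⟨⊤, (AlgSp.J S).top_mem T, fun W w _ => ?_⟩
    have hP : A.P (y ≫ A.ι) := (A.P_iff _).2 ⟨y, rfl⟩
    have := hP g
    rw [Category.assoc] at this
    rw [this]
  obtain ⟨z₁, hz₁, -⟩ := huniv A.sheaf A.ι hAinv
  obtain ⟨z₂, hz₂⟩ := (A.factors_iff i).2 (fun T x g => by rw [Category.assoc, hi g])
  have e1 : z₁ ≫ z₂ = 𝟙 _ := by
    rw [← cancel_mono A.ι, Category.assoc, hz₂, hz₁, Category.id_comp]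
  have e2 : z₂ ≫ z₁ = 𝟙 _ := by
    rw [← cancel_mono i, Category.assoc, hz₁, hz₂, Category.id_comp]
  let e : Z ≅ A.sheaf := ⟨z₂, z₁, e2, e1⟩
  refine ⟨hAalg.of_iso e.symm, ?_⟩
  have hi2 : i = e.hom ≫ A.ι := hz₂.symm
  have hiso : IsIso e.hom := ⟨⟨z₁, e2, e1⟩⟩
  rw [hi2]
  exact (MorphismProperty.cancel_left_of_respectsIso (RepWith @IsClosedImmersion) e.hom A.ι).2 hrep

end Groth.Agent.Lib.Helper14.AS
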