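import Mathlib

/-!
# A flat birational separated surjective morphism of integral schemes (affine or lfp) is an
isomorphism (helper14)
-/

set_option autoImplicit false
universe u
open CategoryTheory CategoryTheory.Limits AlgebraicGeometry IsLocalRing

namespace Groth.Agent.Lib.Helper14.FlatBirat

/-- A flat local homomorphism of local rings into a domain which is "birational" is bijective. -/
theorem bijective_of_flat_local_of_fraction {A B : Type u} [CommRing A] [CommRing B] [IsDomain B]
    [IsLocalRing A] [IsLocalRing B] (φ : A →+* B) [IsLocalHom φ] (hflat : φ.Flat)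
    (hfrac : ∀ b : B, ∃ a s : A, s ≠ 0 ∧ φ s * b = φ a) : Function.Bijective φ := by
  algebraize [φ]
  have hloc : IsLocalHom (algebraMap A B) := ‹IsLocalHom φ›
  have hff : Module.FaithfullyFlat A B := Module.FaithfullyFlat.of_flat_of_isLocalHom
  have hinj : Function.Injective φ := FaithfulSMul.algebraMap_injective A B
  refine ⟨hinj, fun b => ?_⟩
  obtain ⟨a, s, hs, hsb⟩ := hfrac b
  have h1 : algebraMap A B a ∈ (Ideal.span {s}).map (algebraMap A B) := by
    rw [Ideal.map_span, Set.image_singleton, Ideal.mem_span_singleton']
    exact ⟨b, by rw [mul_comm]; exact hsb⟩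
  have h2 : a ∈ ((Ideal.span {s}).map (algebraMap A B)).comap (algebraMap A B) := h1
  rw [Ideal.comap_map_eq_self_of_faithfullyFlat] at h2
  obtain ⟨a', ha'⟩ := Ideal.mem_span_singleton'.1 h2
  refine ⟨a', ?_⟩
  have hs' : φ s ≠ 0 := fun h0 => hs (hinj (h0.trans (map_zero φ).symm))
  apply mul_left_cancel₀ hs'
  rw [hsb, ← ha', map_mul, mul_comm]

variable {X' X : Scheme.{u}}

/-- Elements of the stalk at the generic point are fractions of elements of any stalk. -/
theorem exists_fraction_of_generic [IsIntegral X] (y x : X) (h : y ⤳ x) (hy : y = genericPoint X)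
    (k : X.presheaf.stalk y) : ∃ a s : X.presheaf.stalk x, s ≠ 0 ∧
      k * (X.presheaf.stalkSpecializes h).hom s = (X.presheaf.stalkSpecializes h).hom a := by
  subst hy
  obtain ⟨⟨a, s⟩, hs⟩ := IsLocalization.surj (nonZeroDivisors (X.presheaf.stalk x))
    (S := X.functionField) k
  exact ⟨a, s.1, nonZeroDivisors.ne_zero s.2, hs⟩

/-- Specialization from the generic point is injective on stalks of an integral scheme. -/
theorem stalkSpecializes_generic_injective [IsIntegral X] (x : X)
    (h : genericPoint X ⤳ x) : Function.Injective (X.presheaf.stalkSpecializes h).hom :=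
  IsFractionRing.injective (X.presheaf.stalk x) X.functionField

/-- the image of the generic point under a surjective morphism is the generic point -/
theorem map_genericPoint [IrreducibleSpace X'] [IrreducibleSpace X] (f : X' ⟶ X) [Surjective f] :
    f (genericPoint X') = genericPoint X := by
  have h1 := (genericPoint_spec X').image f.continuous
  have h2 : closure (f '' (Set.univ : Set X')) = Set.univ := by
    rw [Set.image_univ, f.surjective.range_eq, closure_univ]
  rw [h2] at h1
  exact h1.eq (genericPoint_spec X)

/-- **Stalk maps of a flat birational surjective morphism of integral schemes are isomorphisms.** -/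
theorem isIso_stalkMap [IsIntegral X'] [IsIntegral X] (f : X' ⟶ X) [Surjective f] [Flat f]
    (hK : IsIso (f.stalkMap (genericPoint X'))) (x' : X') : IsIso (f.stalkMap x') := by
  have h' : genericPoint X' ⤳ x' := (genericPoint_spec X').specializes trivial
  have hbij : Function.Bijective (f.stalkMap x').hom := by
    refine bijective_of_flat_local_of_fraction _ (Flat.stalkMap f x') fun b => ?_
    have hKb : Function.Bijective (f.stalkMap (genericPoint X')).hom :=
      (ConcreteCategory.isIso_iff_bijective _).1 hK
    obtain ⟨k, hk⟩ := hKb.2 ((X'.presheaf.stalkSpecializes h').hom b)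
    obtain ⟨a, s, hs, has⟩ := exists_fraction_of_generic (f (genericPoint X')) (f x')
      (f.base.hom.map_specializes h') (map_genericPoint f) k
    refine ⟨a, s, hs, ?_⟩
    apply stalkSpecializes_generic_injective x' h'
    have e1 := Scheme.Hom.stalkSpecializes_stalkMap_apply f _ _ h' s
    have e2 := Scheme.Hom.stalkSpecializes_stalkMap_apply f _ _ h' a
    have e3 := congrArg (f.stalkMap (genericPoint X')).hom has
    rw [map_mul] at e3
    rw [map_mul, mul_comm]
    calc _ = (f.stalkMap (genericPoint X')).hom k * _ := by rw [hk]
      _ = _ := by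
        refine Eq.trans ?_ (e3.trans e2)
        congr 1
        exact e1.symm
  exact (ConcreteCategory.isIso_iff_bijective _).2 hbij

end Groth.Agent.Lib.Helper14.FlatBirat
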