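import Groth.Agent.Lib.Helper14.FlatBirat1

set_option autoImplicit false
universe u
open CategoryTheory CategoryTheory.Limits AlgebraicGeometry IsLocalRing

namespace Groth.Agent.Lib.Helper14.FlatBirat

/-- `Spec` of an injective ring map is dominant. -/
theorem isDominant_SpecMap_of_injective {R T : CommRingCat.{u}} (φ : R ⟶ T)
    (hφ : Function.Injective φ.hom) : IsDominant (Spec.map φ) := by
  refine ⟨?_⟩
  change DenseRange (PrimeSpectrum.comap φ.hom)
  rw [PrimeSpectrum.denseRange_comap_iff_ker_le_nilRadical]
  rw [(RingHom.injective_iff_ker_eq_bot _).1 hφ]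
  exact bot_le

variable {X' X : Scheme.{u}}

section Inj
variable (f : X' ⟶ X) (hiso : ∀ x', IsIso (f.stalkMap x'))

/-- the section of `f` over `Spec O_{X, f x'}` through `x'` -/
noncomputable def sec (x' : X') : Spec (X.presheaf.stalk (f x')) ⟶ X' :=
  have := hiso x'
  Spec.map (inv (f.stalkMap x')) ≫ X'.fromSpecStalk x'

theorem sec_comp (x' : X') : sec f hiso x' ≫ f = X.fromSpecStalk (f x') := by
  have := hiso x'
  rw [sec, Category.assoc, ← Scheme.SpecMap_stalkMap_fromSpecStalk, ← Spec.map_comp_assoc,
    IsIso.hom_inv_id, Spec.map_id, Category.id_comp]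

theorem sec_closedPoint (x' : X') : sec f hiso x' (closedPoint _) = x' := by
  have := hiso x'
  have hl : IsLocalHom (inv (f.stalkMap x')).hom := isLocalHom_of_isIso _
  change X'.fromSpecStalk x' (Spec.map (inv (f.stalkMap x')) (closedPoint _)) = x'
  rw [Spec_closedPoint, Scheme.fromSpecStalk_closedPoint]

theorem sec_generic {y' x' : X'} (h : y' ⤳ x') :
    Spec.map (X.presheaf.stalkSpecializes (f.base.hom.map_specializes h)) ≫ sec f hiso x' =
      sec f hiso y' := by
  have := hiso x'
  have := hiso y'
  have hc := Scheme.Hom.stalkSpecializes_stalkMap f y' x' h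
  have hc' : inv (f.stalkMap x') ≫ X.presheaf.stalkSpecializes (f.base.hom.map_specializes h) =
      X'.presheaf.stalkSpecializes h ≫ inv (f.stalkMap y') := by
    rw [IsIso.inv_comp_eq, ← Category.assoc, IsIso.eq_comp_inv, hc]
  rw [sec, sec, ← Category.assoc, ← Spec.map_comp, hc', Spec.map_comp, Category.assoc,
    Scheme.SpecMap_stalkSpecializes_fromSpecStalk]

end Inj

/-- **A flat birational separated surjective morphism of integral schemes is injective.** -/
theorem injective_of_stalk_iso [IsIntegral X'] [IsIntegral X] (f : X' ⟶ X) [IsSeparated f]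
    (hiso : ∀ x', IsIso (f.stalkMap x')) : Function.Injective f := by
  intro x₁ x₂ e
  have h₁ : genericPoint X' ⤳ x₁ := (genericPoint_spec X').specializes trivial
  have h₂ : genericPoint X' ⤳ x₂ := (genericPoint_spec X').specializes trivial
  have he : f x₁ ⤳ f x₂ := specializes_of_eq e
  let τ : Spec (X.presheaf.stalk (f x₁)) ⟶ Spec (X.presheaf.stalk (f x₂)) :=
    Spec.map (X.presheaf.stalkSpecializes he)
  let g₁ := sec f hiso x₁
  let g₂ := τ ≫ sec f hiso x₂
  have hg : g₁ ≫ f = g₂ ≫ f := by
    rw [sec_comp, Category.assoc, sec_comp, Scheme.SpecMap_stalkSpecializes_fromSpecStalk]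
  let ι := Spec.map (X.presheaf.stalkSpecializes (f.base.hom.map_specializes h₁))
  have hyg : f (genericPoint X') ⤳ f x₁ := f.base.hom.map_specializes h₁
  have hη : genericPoint X ⤳ f (genericPoint X') := (genericPoint_spec X).specializes trivial
  have hdom : IsDominant ι := by
    refine isDominant_SpecMap_of_injective _ ?_
    have hcomp := X.presheaf.stalkSpecializes_comp hη hyg
    have hinj := stalkSpecializes_generic_injective (f x₁) (hη.trans hyg)
    rw [← hcomp] at hinj
    intro a b hab
    apply hinj
    change (X.presheaf.stalkSpecializes hη).hom ((X.presheaf.stalkSpecializes hyg).hom a) =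
      (X.presheaf.stalkSpecializes hη).hom ((X.presheaf.stalkSpecializes hyg).hom b)
    rw [hab]
  have h1 : ι ≫ g₁ = sec f hiso (genericPoint X') := sec_generic f hiso h₁
  have h2 : ι ≫ g₂ = sec f hiso (genericPoint X') := by
    have e1 : ι ≫ τ = Spec.map (X.presheaf.stalkSpecializes (f.base.hom.map_specializes h₂)) := by
      change Spec.map _ ≫ Spec.map _ = _
      rw [← Spec.map_comp, X.presheaf.stalkSpecializes_comp]
    change ι ≫ τ ≫ sec f hiso x₂ = _
    rw [← Category.assoc, e1]
    exact sec_generic f hiso h₂
  have hgg : g₁ = g₂ := ext_of_isDominant_of_isSeparated f hg ι (h1.trans h2.symm)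
  have hτiso : IsIso (X.presheaf.stalkSpecializes he) :=
    inferInstanceAs (IsIso (X.presheaf.stalkCongr (Inseparable.of_eq e.symm)).hom)
  have hl : IsLocalHom (X.presheaf.stalkSpecializes he).hom := isLocalHom_of_isIso _
  have hτc : τ (closedPoint _) = closedPoint _ := Spec_closedPoint
  calc x₁ = g₁ (closedPoint _) := (sec_closedPoint f hiso x₁).symm
    _ = g₂ (closedPoint _) := by rw [hgg]
    _ = sec f hiso x₂ (τ (closedPoint _)) := rfl
    _ = x₂ := by rw [hτc, sec_closedPoint]

/-- **A flat, birational, separated, surjective morphism of integral schemes which is affine or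
locally of finite presentation is an isomorphism.** -/
theorem isIso_of_flat_birational [IsIntegral X'] [IsIntegral X] (f : X' ⟶ X) [Surjective f]
    [IsSeparated f] (hK : IsIso (f.stalkMap (genericPoint X')))
    (h : IsAffineHom f ∨ LocallyOfFinitePresentation f) [Flat f] : IsIso f := by
  have hiso := isIso_stalkMap f hK
  have hinj := injective_of_stalk_iso f hiso
  have hbij : Function.Bijective f := ⟨hinj, f.surjective⟩
  have hopen : IsOpenMap f := by
    rcases h with h | h
    · have hq : Topology.IsQuotientMap f := Flat.isQuotientMap_of_surjective f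
      intro U hU
      rw [← hq.isOpen_preimage, Set.preimage_image_eq _ hinj]
      exact hU
    · exact f.isOpenMap
  have hbase : IsIso f.base := TopCat.isIso_of_bijective_of_isOpenMap _ hbij hopen
  exact (isIso_iff_isIso_stalkMap f).2 ⟨hbase, hiso⟩

end Groth.Agent.Lib.Helper14.FlatBirat
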