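import Groth.Agent.Lib.Helper14.SepVal4

/-!
# Flat closure over a Dedekind domain, scheme level (helper14)
-/

open CategoryTheory CategoryTheory.Limits AlgebraicGeometry Opposite AlgSp
open CategoryTheory.Functor Groth.Agent.Lib.Helper14.AS

universe u

noncomputable section

namespace Groth.Agent.Lib.Helper14.AS

/-- A ring over a Dedekind domain `A` that injects into an algebra over the fraction field of `A`
is flat over `A`. -/
theorem ringHom_flat_of_injective_of_fractionRing_dedekind {A K B C : Type u} [CommRing A]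
    [IsDedekindDomain A] [Field K] [Algebra A K] [IsFractionRing A K] [CommRing B] [CommRing C]
    (φ : A →+* B) (ρ : B →+* C) (κ : K →+* C) (hρ : Function.Injective ρ)
    (h : ρ.comp φ = κ.comp (algebraMap A K)) : φ.Flat := by
  algebraize [φ]
  change Module.Flat A B
  rw [IsDedekindDomain.flat_iff_torsion_eq_bot, eq_bot_iff]
  intro x hx
  rw [Submodule.mem_torsion_iff] at hx
  obtain ⟨a, ha⟩ := hx
  rw [Submodule.mem_bot]
  apply hρ
  rw [map_zero]
  have h1 : ρ (a • x) = 0 := by rw [ha, map_zero]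
  have h2 : (a : A) • x = φ a * x := by
    rw [Algebra.smul_def]; rfl
  have h3 : a • x = (a : A) • x := rfl
  rw [h3, h2, map_mul] at h1
  have h4 : ρ (φ a) = κ (algebraMap A K a) := congrArg (fun f => f (a : A)) h
  have h5 : IsUnit (algebraMap A K (a : A)) := by
    rw [isUnit_iff_ne_zero]
    exact IsFractionRing.to_map_ne_zero_of_mem_nonZeroDivisors a.2
  have h6 : IsUnit (ρ (φ a)) := by rw [h4]; exact h5.map κ
  exact (h6.mul_right_eq_zero).1 h1

section Dedekind

variable {A K : Type u} [CommRing A] [IsDedekindDomain A] [Field K] [Algebra A K]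
  [IsFractionRing A K]

/-- Affine version. -/
theorem flat_of_dominant_over_fractionField_dedekind_affine {Vs Ps : Scheme.{u}} [IsAffine Vs]
    (γVs : Vs ⟶ Spec (CommRingCat.of A)) (θs : Ps ⟶ Vs) (pKs : Ps ⟶ Spec (CommRingCat.of K))
    (hcomm : θs ≫ γVs = pKs ≫ Spec.map (CommRingCat.ofHom (algebraMap A K)))
    [IsSchemeTheoreticallyDominant θs] [QuasiCompact θs] : Flat γVs := by
  rw [HasRingHomProperty.iff_of_isAffine (P := @Flat)]
  let φ' : A →+* Γ(Vs, ⊤) := (γVs.appTop).hom.comp (Scheme.ΓSpecIso (CommRingCat.of A)).inv.hom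
  let ρ : Γ(Vs, ⊤) →+* Γ(Ps, ⊤) := (θs.appTop).hom
  let κ : K →+* Γ(Ps, ⊤) := (pKs.appTop).hom.comp (Scheme.ΓSpecIso (CommRingCat.of K)).inv.hom
  have hρ : Function.Injective ρ := θs.app_injective ⊤
  have hc : γVs.appTop ≫ θs.appTop =
      (Spec.map (CommRingCat.ofHom (algebraMap A K))).appTop ≫ pKs.appTop := by
    rw [← Scheme.Hom.comp_appTop, ← Scheme.Hom.comp_appTop, hcomm]
  have h : ρ.comp φ' = κ.comp (algebraMap A K) := by
    have h1 : (Scheme.ΓSpecIso (CommRingCat.of A)).inv ≫ γVs.appTop ≫ θs.appTop =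
        CommRingCat.ofHom (algebraMap A K) ≫ (Scheme.ΓSpecIso (CommRingCat.of K)).inv ≫
          pKs.appTop := by
      rw [hc, ← Category.assoc, ← Category.assoc, Scheme.ΓSpecIso_inv_naturality]
    exact congrArg CommRingCat.Hom.hom h1
  have hφ' : φ'.Flat := ringHom_flat_of_injective_of_fractionRing_dedekind φ' ρ κ hρ h
  have hiso : (Scheme.ΓSpecIso (CommRingCat.of A)).hom.hom.Flat :=
    RingHom.Flat.of_bijective
      (ConcreteCategory.bijective_of_isIso (Scheme.ΓSpecIso (CommRingCat.of A)).hom)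
  have heq : (γVs.appTop).hom = φ'.comp (Scheme.ΓSpecIso (CommRingCat.of A)).hom.hom := by
    have h2 : γVs.appTop = (Scheme.ΓSpecIso (CommRingCat.of A)).hom ≫
        (Scheme.ΓSpecIso (CommRingCat.of A)).inv ≫ γVs.appTop := by
      rw [Iso.hom_inv_id_assoc]
    exact congrArg CommRingCat.Hom.hom h2
  rw [heq]
  exact hiso.comp hφ'

/-- A scheme over the spectrum of a Dedekind domain `A` which receives a quasi-compact
scheme-theoretically dominant morphism from a scheme over the fraction field is flat over `A`. -/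
theorem flat_of_dominant_over_fractionField_dedekind {Vs Ps : Scheme.{u}}
    (γVs : Vs ⟶ Spec (CommRingCat.of A)) (θs : Ps ⟶ Vs) (pKs : Ps ⟶ Spec (CommRingCat.of K))
    (hcomm : θs ≫ γVs = pKs ≫ Spec.map (CommRingCat.ofHom (algebraMap A K)))
    [IsSchemeTheoreticallyDominant θs] [QuasiCompact θs] : Flat γVs := by
  have hloc : IsZariskiLocalAtSource (@Flat : MorphismProperty Scheme.{u}) :=
    HasRingHomProperty.instIsZariskiLocalAtSource
  have hsup : iSup (fun O : Vs.affineOpens => O.1) = ⊤ := by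
    rw [eq_top_iff]
    intro x _
    obtain ⟨_, ⟨O, hO, rfl⟩, hxO, -⟩ :=
      Vs.isBasis_affineOpens.exists_subset_of_mem_open (Set.mem_univ x) isOpen_univ
    exact TopologicalSpace.Opens.mem_iSup.mpr ⟨⟨O, hO⟩, hxO⟩
  refine IsZariskiLocalAtSource.of_iSup_eq_top (P := @Flat) (fun O : Vs.affineOpens => O.1)
    hsup ?_
  intro O
  have : IsAffine (O.1 : Scheme.{u}) := O.2
  have sq := isPullback_morphismRestrict θs O.1
  have : IsSchemeTheoreticallyDominant (θs ∣_ O.1) :=
    IsSchemeTheoreticallyDominant.of_isPullback sq.flip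
  refine flat_of_dominant_over_fractionField_dedekind_affine (K := K) (O.1.ι ≫ γVs) (θs ∣_ O.1)
    ((θs ⁻¹ᵁ O.1).ι ≫ pKs) ?_
  rw [← Category.assoc, sq.w, Category.assoc, hcomm, Category.assoc]

end Dedekind

/-- If a closed immersion `ι` and a quasi-compact morphism `u` into the same scheme have the same
kernel, the induced morphism to the closed subscheme is scheme-theoretically dominant. -/
theorem isSchemeTheoreticallyDominant_lift_of_ker_eq {W Z V : Scheme.{u}} (u : W ⟶ V)
    (ι : Z ⟶ V) [IsClosedImmersion ι] (v : W ⟶ Z) (hv : v ≫ ι = u) (hker : u.ker ≤ ι.ker) :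
    IsSchemeTheoreticallyDominant v := by
  rw [isSchemeTheoreticallyDominant_iff]
  -- the image of `v` is a closed subscheme of `Z` containing `Z`
  have h1 : (v.imageι ≫ ι).ker ≤ ι.ker := by
    refine le_trans ?_ hker
    have hv' : v.toImage ≫ (v.imageι ≫ ι) = u := by
      rw [← Category.assoc, v.toImage_imageι, hv]
    rw [← hv']
    exact Scheme.Hom.le_ker_comp _ _
  obtain ⟨s, hs⟩ : ∃ s : Z ⟶ v.image, s ≫ v.imageι ≫ ι = ι :=
    ⟨IsClosedImmersion.lift (v.imageι ≫ ι) ι h1, IsClosedImmersion.lift_fac _ _ _⟩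
  have hs' : s ≫ v.imageι = 𝟙 Z := by
    rw [← cancel_mono ι, Category.assoc, hs, Category.id_comp]
  have : IsIso v.imageι := by
    have : IsSplitEpi v.imageι := ⟨⟨s, hs'⟩⟩
    exact isIso_of_mono_of_isSplitEpi _
  have h2 := (IsClosedImmersion.isIso_iff_ker_eq_bot (f := v.imageι)).1 this
  rwa [Scheme.Hom.imageι, Scheme.IdealSheafData.ker_subschemeι] at h2

end Groth.Agent.Lib.Helper14.AS
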