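import Groth.Agent.Lib.Helper14.GUFlat
import Groth.Agent.Lib.Helper14.FibTop
import Groth.Agent.Lib.Helper14.AlgSpSepDescent
import Groth.Agent.Lib.Helper16.GorMor
import Groth.Agent.S3627

universe u
open CategoryTheory CategoryTheory.Limits AlgebraicGeometry Opposite Topology

namespace Groth.Agent.Lib.Helper14.AS
open AlgSp
open Groth.Agent.Lib.Helper16.GorMor Groth.Agent.Lib.Helper2

/-- all fibres are locally Noetherian -/
def LNF {U V : Scheme.{u}} (h : U ⟶ V) : Prop := ∀ v, IsLocallyNoetherian (h.fiber v)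

theorem lnf_of_etale {U V : Scheme.{u}} (a : U ⟶ V) [Etale a] : LNF a := fun v =>
  isLocallyNoetherian_fiber a v

theorem lnf_comp_of_etale {U' U V : Scheme.{u}} (a : U' ⟶ U) [Etale a] (h : U ⟶ V)
    (hh : LNF h) : LNF (a ≫ h) := by
  intro v
  obtain ⟨m, sq⟩ : ∃ m : pullback (a ≫ h) (V.fromSpecResidueField v) ⟶
      pullback h (V.fromSpecResidueField v),
      IsPullback m (pullback.fst _ _) (pullback.fst _ _) a := ⟨_, isPullback_map_fst a h _⟩
  have : Etale m := MorphismProperty.of_isPullback sq.flip inferInstance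
  have : IsLocallyNoetherian (pullback h (V.fromSpecResidueField v)) := hh v
  have key := LocallyOfFiniteType.isLocallyNoetherian m
  exact key

theorem gorAt_of_etale {U V : Scheme.{u}} (a : U ⟶ V) [Etale a] (u : ↥U) :
    Dual3.IsGorensteinAt a u := by
  refine ⟨Flat.stalkMap a u, (gor_fiber_stalk_iff a u).2 ?_⟩
  algebraize [(a.stalkMap u).hom]
  have : IsLocalHom (algebraMap (V.presheaf.stalk (a u)) (U.presheaf.stalk u)) :=
    inferInstanceAs <| IsLocalHom (a.stalkMap u).hom
  have : Algebra.EssFiniteType (V.presheaf.stalk (a u)) (U.presheaf.stalk u) := by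
    rw [← RingHom.essFiniteType_algebraMap, RingHom.algebraMap_toAlgebra]
    exact LocallyOfFiniteType.stalkMap a u
  have : Algebra.FormallyUnramified (V.presheaf.stalk (a u)) (U.presheaf.stalk u) := by
    rw [← RingHom.formallyUnramified_algebraMap, RingHom.algebraMap_toAlgebra]
    exact FormallyUnramified.stalkMap a u
  have hF := Algebra.FormallyUnramified.isField_quotient_map_maximalIdeal
    (R := V.presheaf.stalk (a u)) (S := U.presheaf.stalk u)
  have : Nontrivial (CF a u) := hF.nontrivial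
  have : IsLocalRing (CF a u) :=
    IsLocalRing.of_surjective' (Ideal.Quotient.mk _) Ideal.Quotient.mk_surjective
  exact GK.gor_of_isField _ hF

theorem flat_stalkMap_congr {U V : Scheme.{u}} (h : U ⟶ V) {x x' : ↥U} (e : x = x')
    (hx : (h.stalkMap x).hom.Flat) : (h.stalkMap x').hom.Flat := by
  subst e
  exact hx

theorem gorAt_congr {U V : Scheme.{u}} {h h' : U ⟶ V} (e : h = h') (x : ↥U) :
    Dual3.IsGorensteinAt h x ↔ Dual3.IsGorensteinAt h' x := by
  subst e
  rfl

theorem gorAt_congr_pt {U V : Scheme.{u}} (h : U ⟶ V) {x x' : ↥U} (e : x = x') :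
    Dual3.IsGorensteinAt h x ↔ Dual3.IsGorensteinAt h x' := by
  subst e
  rfl

theorem flat_stalkMap_of_etSq {U U' V V' : Scheme.{u}} (h : U ⟶ V) (h' : U' ⟶ V') (a : U' ⟶ U)
    (b : V' ⟶ V) [Etale a] [Etale b] (comm : h' ≫ b = a ≫ h) (u' : ↥U')
    (hfl : (h.stalkMap (a u')).hom.Flat) : (h'.stalkMap u').hom.Flat := by
  obtain ⟨l, hl1, hl2⟩ : ∃ l : U' ⟶ pullback h b, l ≫ pullback.fst h b = a ∧
      l ≫ pullback.snd h b = h' := ⟨pullback.lift a h' comm.symm, pullback.lift_fst _ _ _, pullback.lift_snd _ _ _⟩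
  have : Etale (l ≫ pullback.fst h b) := by rw [hl1]; infer_instance
  have : Etale l := Etale.of_comp l (pullback.fst h b)
  have hx : a u' = (pullback.fst h b) (l u') := by
    rw [← Scheme.Hom.comp_apply, hl1]
  have h1 := flat_stalkMap_baseChange (IsPullback.of_hasPullback h b) (l u')
    (flat_stalkMap_congr h hx hfl)
  subst hl2
  rw [Scheme.Hom.stalkMap_comp]
  exact RingHom.Flat.comp h1 (Flat.stalkMap l u')

theorem gorAt_etSq {U U' V V' : Scheme.{u}} (h : U ⟶ V) (h' : U' ⟶ V') (a : U' ⟶ U)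
    (b : V' ⟶ V) [Etale a] [Etale b] (comm : h' ≫ b = a ≫ h) (hh : LNF h) (hh' : LNF h')
    (u' : ↥U') : Dual3.IsGorensteinAt h (a u') ↔ Dual3.IsGorensteinAt h' u' := by
  have hah : LNF (a ≫ h) := lnf_comp_of_etale a h hh
  have hhb : LNF (h' ≫ b) := by rw [comm]; exact hah
  obtain ⟨A1, A2⟩ := Groth.Agent.S3627.result U' U V a h (lnf_of_etale a) hh hah u'
  obtain ⟨B1, B2⟩ := Groth.Agent.S3627.result U' V' V h' b hh' (lnf_of_etale b) hhb u'
  constructor
  · intro G
    have G1 := A1 (gorAt_of_etale a u') G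
    have G2 := (gorAt_congr comm u').2 G1
    exact (B2 G2 (flat_stalkMap_of_etSq h h' a b comm u' G.1)).1
  · intro G
    have G1 := B1 G (gorAt_of_etale b _)
    have G2 := (gorAt_congr comm u').1 G1
    exact (A2 G2 (Flat.stalkMap a u')).2

end Groth.Agent.Lib.Helper14.AS
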