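import Groth.Prelude.Def_AlgSpMor5
import Groth.Agent.Lib.Helper14.FPFibSp
import Groth.Agent.Lib.Helper14.BCChart
import Groth.Agent.Lib.Helper14.GorSq
import Groth.Agent.Lib.Helper16.GorMor

universe u
set_option linter.style.haveILetI false
set_option linter.unusedSectionVars false
open CategoryTheory CategoryTheory.Limits AlgebraicGeometry Opposite Topology

namespace Groth.Agent.Lib.Helper14.AS
open AlgSp

variable {S : Scheme.{u}}

/-- flatness at a point is invariant under etale squares -/
theorem etSqInv_flatAt : EtSqInv.{u} (fun _ _ h u => (h.stalkMap u).hom.Flat) := by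
  intro U U' V V' h h' a b ha hb comm u'
  constructor
  · intro hfl
    exact flat_stalkMap_of_etSq h h' a b comm u' hfl
  · intro hfl
    -- (h' ≫ b) flat at u'
    have h1 : ((h' ≫ b).stalkMap u').hom.Flat := by
      rw [Scheme.Hom.stalkMap_comp]
      exact RingHom.Flat.comp (Flat.stalkMap b (h' u')) hfl
    have h2 : ((a ≫ h).stalkMap u').hom.Flat := by
      rw [← comm]; exact h1
    rw [Scheme.Hom.stalkMap_comp] at h2
    exact Groth.Agent.Lib.Helper16.GorMor.flat_of_comp_of_flat_local _ _ (Flat.stalkMap a u') h2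


set_option backward.isDefEq.respectTransparency.types false in
/-- flatness at a point can be tested on one chart diagram -/
theorem isFlatAtMor_ofPt_iff {X Y : Sp S} (f : X ⟶ Y) {U V : Over S}
    (a : (yon S).obj U ⟶ X) (b : (yon S).obj V ⟶ Y) (h : U ⟶ V)
    (ha : RepWith @Etale a) (hb : RepWith @Etale b) (comm : a ≫ f = (yon S).map h ≫ b)
    (u : ↥U.left) :
    IsFlatAtMor f (Points.ofPt a u) ↔ (h.left.stalkMap u).hom.Flat := by
  constructor
  · intro H
    exact H a b h u ha hb comm rfl
  · intro H U₁ V₁ a₁ b₁ h₁ u₁ ha₁ hb₁ comm₁ hu₁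
    exact (Q_chart_indep etSqInv_flatAt f a b h ha hb comm a₁ b₁ h₁ ha₁ hb₁ comm₁ u u₁ hu₁.symm).1 H

set_option backward.isDefEq.respectTransparency.types false in
/-- openness of the flat locus of `f : X ⟶ Y` when `X` is lfp over `Z` and `Y` is lft over `Z` -/
theorem isOpen_isFlatAtMor {X Y Z : Sp S} (hXa : IsAlgSpace X) (hYa : IsAlgSpace Y)
    (hZa : IsAlgSpace Z) (f : X ⟶ Y) (h : Y ⟶ Z)
    (hfp : LocP @LocallyOfFinitePresentation (f ≫ h))
    (hft : LocP @LocallyOfFiniteType h) :
    IsOpen {x : Points X | IsFlatAtMor f x} := by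
  obtain ⟨W, c, hce, hcs⟩ := hZa.atlas
  obtain ⟨V, b, hV, hbe, hbs, comm_b⟩ := exists_chart_diagram hYa h c hce hcs
  obtain ⟨U, a, hU, hae, has, comm_a⟩ := exists_chart_diagram hXa f b hbe hbs
  haveI : LocallyOfFiniteType hV.left := hft b c hV hbe hce comm_b
  have comm_ac : a ≫ (f ≫ h) = (yon S).map (hU ≫ hV) ≫ c := by
    rw [← Category.assoc, comm_a, Category.assoc, comm_b, ← Category.assoc, ← Functor.map_comp]
  haveI : LocallyOfFinitePresentation (hU.left ≫ hV.left) :=
    hfp a c (hU ≫ hV) hae hce comm_ac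
  haveI : LocallyOfFinitePresentation hU.left :=
    locallyOfFinitePresentation_of_comp hU.left hV.left inferInstance inferInstance
  rw [← (isQuotientMap_ofPt a hae has).isOpen_preimage]
  have : Points.ofPt a ⁻¹' {x : Points X | IsFlatAtMor f x} =
      {u : U.left | (hU.left.stalkMap u).hom.Flat} := by
    ext u
    exact isFlatAtMor_ofPt_iff f a b hU hae hbe comm_a u
  rw [this]
  exact Groth.Agent.Lib.Helper18.Fl.isOpen_flatLocus_scheme hU.left

end Groth.Agent.Lib.Helper14.AS
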