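import Groth.Agent.Lib.Helper14.FPFibSp
import Groth.Agent.Lib.Helper14.GorBCSch

universe u
set_option linter.style.haveILetI false
set_option linter.unusedSectionVars false
open CategoryTheory CategoryTheory.Limits AlgebraicGeometry Opposite Topology

namespace Groth.Agent.Lib.Helper14.AS
open AlgSp

set_option maxHeartbeats 1000000 in
/-- the flat locus of `p : U ⟶ V` commutes with base change along `W' ⟶ W` when `U` is flat and lfp
over `W` and `V` is lft over `W` (pointwise form) -/
theorem flat_stalkMap_iff_of_baseChange_fp {U V W U' V' W' : Scheme.{u}} (p : U ⟶ V) (q : V ⟶ W)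
    (p' : U' ⟶ V') (q' : V' ⟶ W') (gU : U' ⟶ U) (gV : V' ⟶ V) (gW : W' ⟶ W)
    [LocallyOfFinitePresentation (p ≫ q)] [LocallyOfFiniteType q]
    (hV : IsPullback gV q' q gW) (hU : IsPullback gU p' p gV) (u' : U')
    (hfl : ((p ≫ q).stalkMap (gU u')).hom.Flat) :
    (p'.stalkMap u').hom.Flat ↔ (p.stalkMap (gU u')).hom.Flat := by
  refine ⟨fun hp' => ?_, fun hp => flat_stalkMap_baseChange hU u' hp⟩
  obtain ⟨w', hw'⟩ : ∃ w' : W', w' = (p' ≫ q') u' := ⟨_, rfl⟩
  have hbig : IsPullback gU (p' ≫ q') (p ≫ q) gW := hU.paste_vert hV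
  have sqU' := IsPullback.of_hasPullback (p' ≫ q') (W'.fromSpecResidueField w')
  have sqV' := IsPullback.of_hasPullback q' (W'.fromSpecResidueField w')
  have sqU := IsPullback.of_hasPullback (p ≫ q) (W.fromSpecResidueField (gW w'))
  have sqV := IsPullback.of_hasPullback q (W.fromSpecResidueField (gW w'))
  obtain ⟨φ', h1', h2'⟩ : ∃ φ' : pullback (p' ≫ q') (W'.fromSpecResidueField w') ⟶
      pullback q' (W'.fromSpecResidueField w'),
      φ' ≫ pullback.fst _ _ = pullback.fst _ _ ≫ p' ∧ φ' ≫ pullback.snd _ _ = pullback.snd _ _ :=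
    ⟨pullback.lift (pullback.fst _ _ ≫ p') (pullback.snd _ _)
      (by rw [Category.assoc]; exact pullback.condition), pullback.lift_fst _ _ _,
      pullback.lift_snd _ _ _⟩
  obtain ⟨φ, h1, h2⟩ : ∃ φ : pullback (p ≫ q) (W.fromSpecResidueField (gW w')) ⟶
      pullback q (W.fromSpecResidueField (gW w')),
      φ ≫ pullback.fst _ _ = pullback.fst _ _ ≫ p ∧ φ ≫ pullback.snd _ _ = pullback.snd _ _ :=
    ⟨pullback.lift (pullback.fst _ _ ≫ p) (pullback.snd _ _)
      (by rw [Category.assoc]; exact pullback.condition), pullback.lift_fst _ _ _,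
      pullback.lift_snd _ _ _⟩
  obtain ⟨aU, ha1, ha2⟩ : ∃ aU : pullback (p' ≫ q') (W'.fromSpecResidueField w') ⟶
      pullback (p ≫ q) (W.fromSpecResidueField (gW w')),
      aU ≫ pullback.fst _ _ = pullback.fst _ _ ≫ gU ∧
      aU ≫ pullback.snd _ _ = pullback.snd _ _ ≫ Spec.map (gW.residueFieldMap w') :=
    ⟨pullback.lift (pullback.fst _ _ ≫ gU) (pullback.snd _ _ ≫ Spec.map (gW.residueFieldMap w'))
      (by rw [Category.assoc, hbig.w, ← Category.assoc, pullback.condition, Category.assoc,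
            Category.assoc, Scheme.Hom.SpecMap_residueFieldMap_fromSpecResidueField]),
      pullback.lift_fst _ _ _, pullback.lift_snd _ _ _⟩
  obtain ⟨aV, hb1, hb2⟩ : ∃ aV : pullback q' (W'.fromSpecResidueField w') ⟶
      pullback q (W.fromSpecResidueField (gW w')),
      aV ≫ pullback.fst _ _ = pullback.fst _ _ ≫ gV ∧
      aV ≫ pullback.snd _ _ = pullback.snd _ _ ≫ Spec.map (gW.residueFieldMap w') :=
    ⟨pullback.lift (pullback.fst _ _ ≫ gV) (pullback.snd _ _ ≫ Spec.map (gW.residueFieldMap w'))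
      (by rw [Category.assoc, hV.w, ← Category.assoc, pullback.condition, Category.assoc,
            Category.assoc, Scheme.Hom.SpecMap_residueFieldMap_fromSpecResidueField]),
      pullback.lift_fst _ _ _, pullback.lift_snd _ _ _⟩
  obtain ⟨hsq, haV⟩ := isPullback_fibreMap_of_isPullback p' q' p q gU gV gW w' _ _ _ _ _ _ _ _
    sqU' sqV' sqU sqV hbig hV hU.w φ' h1' h2' φ h1 h2 aU ha1 ha2 aV hb1 hb2
  obtain ⟨y⟩ : Nonempty ↥(Spec (W'.residueField w')) := inferInstance
  obtain ⟨t', ht1, ht2⟩ := exists_preimage_of_isPullback' sqU' u' y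
    (hw'.symm.trans (Scheme.fromSpecResidueField_apply _ y).symm)
  -- the fibre map of the primed system is flat at t'
  have sqL' : IsPullback (pullback.fst (p' ≫ q') (W'.fromSpecResidueField w')) φ' p'
      (pullback.fst q' (W'.fromSpecResidueField w')) := by
    refine IsPullback.of_bot ?_ h1'.symm sqV'
    rw [h2']
    exact sqU'
  have hφ' : (φ'.stalkMap t').hom.Flat :=
    flat_stalkMap_baseChange sqL' t' (flat_stalkMap_pt p' ht1.symm hp')
  have hφ : (φ.stalkMap (aU t')).hom.Flat :=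
    flat_stalkMap_of_baseChange_of_flat hsq t' (Flat.stalkMap aV _) hφ'
  have hpt : (pullback.fst (p ≫ q) (W.fromSpecResidueField (gW w'))) (aU t') = gU u' := by
    rw [← Scheme.Hom.comp_apply, ha1, Scheme.Hom.comp_apply, ht1]
  have key := flat_of_fibre_flat_fp p q (gW w') _ _ _ _ sqU sqV φ h1 h2 (aU t')
    (flat_stalkMap_pt (p ≫ q) hpt.symm hfl) hφ
  exact flat_stalkMap_pt p hpt key.2

end Groth.Agent.Lib.Helper14.AS
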