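import Groth.Agent.Lib.Helper14.BCChart
import Groth.Agent.Lib.Helper14.GorSp2

universe u
set_option linter.style.haveILetI false
set_option linter.unusedSectionVars false
open CategoryTheory CategoryTheory.Limits AlgebraicGeometry Opposite Topology

namespace Groth.Agent.Lib.Helper14.AS
open AlgSp

variable {S : Scheme.{u}}

set_option backward.isDefEq.respectTransparency.types false in
/-- Compatible chart diagrams for a morphism and its base change, over GIVEN compatible etale
charts of the targets; the scheme level square is cartesian. -/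
theorem exists_bc_chart_over {X Y Y' X' : Sp S} (hX : IsAlgSpace X) (hY : IsAlgSpace Y)
    (f : X ⟶ Y) (g : Y' ⟶ Y) (fst : X' ⟶ X) (f' : X' ⟶ Y')
    (sq : IsPullback fst f' f g) {V V' : Over S} (b : (yon S).obj V ⟶ Y)
    (b' : (yon S).obj V' ⟶ Y') (β : V' ⟶ V)
    (hbe : RepWith @Etale b) (hbs : RepWith @Surjective b)
    (hb'e : RepWith @Etale b') (hb's : RepWith @Surjective b')
    (comm_b : b' ≫ g = (yon S).map β ≫ b) :
    ∃ (U U' : Over S) (a : (yon S).obj U ⟶ X) (a' : (yon S).obj U' ⟶ X') (h : U ⟶ V)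
      (h' : U' ⟶ V') (α : U' ⟶ U),
      RepWith @Etale a ∧ RepWith @Surjective a ∧ RepWith @Etale a' ∧ RepWith @Surjective a' ∧
      a ≫ f = (yon S).map h ≫ b ∧ a' ≫ f' = (yon S).map h' ≫ b' ∧
      a' ≫ fst = (yon S).map α ≫ a ∧ IsPullback α h' h β := by
  have sqP := IsPullback.of_hasPullback f b
  have sqP' := IsPullback.of_hasPullback f' b'
  have hP : IsAlgSpace (pullback f b) :=
    isAlgSpace_of_isPullback (repDiag_of_isAlgSpace hY) hX (IsAlgSpace.yon_obj V) sqP
  obtain ⟨U, p, hpe, hps⟩ := hP.atlas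
  obtain ⟨h, hh⟩ := (yon S).map_surjective (p ≫ pullback.snd f b)
  have hq1e : RepWith @Etale (pullback.fst f b) := repWith_of_isPullback _ sqP.flip hbe
  have hq1s : RepWith @Surjective (pullback.fst f b) := repWith_of_isPullback _ sqP.flip hbs
  have hq1e' : RepWith @Etale (pullback.fst f' b') := repWith_of_isPullback _ sqP'.flip hb'e
  have hq1s' : RepWith @Surjective (pullback.fst f' b') := repWith_of_isPullback _ sqP'.flip hb's
  -- π : P' ⟶ P
  have R := sqP'.paste_horiz sq
  rw [comm_b] at R
  obtain ⟨π, hπ1, hπ2⟩ : ∃ π : pullback f' b' ⟶ pullback f b,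
      π ≫ pullback.fst f b = pullback.fst f' b' ≫ fst ∧
      π ≫ pullback.snd f b = pullback.snd f' b' ≫ (yon S).map β :=
    ⟨sqP.lift (pullback.fst f' b' ≫ fst) (pullback.snd f' b' ≫ (yon S).map β)
      (by rw [Category.assoc]; exact R.w), sqP.lift_fst _ _ _, sqP.lift_snd _ _ _⟩
  have sqL : IsPullback π (pullback.snd f' b') (pullback.snd f b) ((yon S).map β) := by
    refine IsPullback.of_right ?_ hπ2 sqP
    rw [hπ1]
    exact R
  have sqU' := (IsPullback.of_hasPullback h β).map (yon S)
  obtain ⟨μ, hμ1, hμ2⟩ : ∃ μ : (yon S).obj (pullback h β) ⟶ pullback f' b',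
      μ ≫ π = (yon S).map (pullback.fst h β) ≫ p ∧
      μ ≫ pullback.snd f' b' = (yon S).map (pullback.snd h β) :=
    ⟨sqL.lift ((yon S).map (pullback.fst h β) ≫ p) ((yon S).map (pullback.snd h β))
      (by rw [Category.assoc, ← hh]; exact sqU'.w), sqL.lift_fst _ _ _, sqL.lift_snd _ _ _⟩
  have sqM : IsPullback μ ((yon S).map (pullback.fst h β)) π p := by
    refine IsPullback.of_right ?_ hμ1 sqL.flip
    rw [hμ2, ← hh]
    exact sqU'.flip
  have hμe : RepWith @Etale μ := repWith_of_isPullback _ sqM.flip hpe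
  have hμs : RepWith @Surjective μ := repWith_of_isPullback _ sqM.flip hps
  refine ⟨U, pullback h β, p ≫ pullback.fst f b, μ ≫ pullback.fst f' b', h, pullback.snd h β,
    pullback.fst h β, repWith_comp _ hpe hq1e, repWith_comp _ hps hq1s,
    repWith_comp _ hμe hq1e', repWith_comp _ hμs hq1s', ?_, ?_, ?_, IsPullback.of_hasPullback h β⟩
  · rw [Category.assoc, pullback.condition, ← Category.assoc, hh]
  · rw [Category.assoc, pullback.condition, ← Category.assoc, hμ2]
  · rw [Category.assoc, ← hπ1, ← Category.assoc, hμ1, Category.assoc]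

end Groth.Agent.Lib.Helper14.AS
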