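import Groth.Agent.Lib.Helper14.FlatLoc1
import Groth.Agent.Lib.Helper14.FlatLoc2
import Groth.Agent.Lib.Helper14.FlatLoc3

universe u
set_option linter.style.haveILetI false
set_option linter.unusedSectionVars false
open CategoryTheory CategoryTheory.Limits AlgebraicGeometry Opposite Topology

namespace Groth.Agent.Lib.Helper14.AS
open AlgSp

variable {S : Scheme.{u}}

set_option backward.isDefEq.respectTransparency.types false in
/-- the flat locus of `f : X ⟶ Y` commutes with base change along `Z' ⟶ Z` when `X` is flat, lfp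
over `Z` and `Y` is lft over `Z` -/
theorem isFlatAtMor_baseChange_iff {X Y Z X' Y' Z' : Sp S} (hXa : IsAlgSpace X)
    (hYa : IsAlgSpace Y) (hZa : IsAlgSpace Z) (hZ'a : IsAlgSpace Z')
    (f : X ⟶ Y) (h : Y ⟶ Z) (g : Z' ⟶ Z) (f' : X' ⟶ Y') (h' : Y' ⟶ Z') (pX : X' ⟶ X) (pY : Y' ⟶ Y)
    (hfp : LocP @LocallyOfFinitePresentation (f ≫ h)) (hfl : LocP @Flat (f ≫ h))
    (hft : LocP @LocallyOfFiniteType h)
    (sq1 : IsPullback pY h' h g) (sq2 : IsPullback pX f' f pY) (x' : Points X') :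
    IsFlatAtMor f' x' ↔ IsFlatAtMor f (Points.map pX x') := by
  obtain ⟨V, W, V', W', b, c, b', c', hV, hV', βV, γ, hbe, hbs, hce, hcs, hb'e, hb's, hc'e, hc's,
    comm_b, comm_b', comm_β, comm_γ, sqV⟩ := exists_bc_chart hYa hZa hZ'a h g pY h' sq1
  obtain ⟨U, U', a, a', hU, hU', α, hae, has, ha'e, ha's, comm_a, comm_a', comm_α, sqU⟩ :=
    exists_bc_chart_over hXa hYa f pY pX f' sq2 b b' βV hbe hbs hb'e hb's comm_β
  obtain ⟨u', rfl⟩ := ofPt_surjective_of_repWith ha's x'
  have hpt : Points.map pX (Points.ofPt a' u') = Points.ofPt a (α.left u') := by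
    rw [Points.map_ofPt, comm_α, ofPt_yon_map_comp]
  rw [hpt, isFlatAtMor_ofPt_iff f' a' b' hU' ha'e hb'e comm_a' u',
    isFlatAtMor_ofPt_iff f a b hU hae hbe comm_a (α.left u')]
  haveI : LocallyOfFiniteType hV.left := hft b c hV hbe hce comm_b
  have comm_ac : a ≫ (f ≫ h) = (yon S).map (hU ≫ hV) ≫ c := by
    rw [← Category.assoc, comm_a, Category.assoc, comm_b, ← Category.assoc, ← Functor.map_comp]
  haveI : LocallyOfFinitePresentation (hU.left ≫ hV.left) :=
    hfp a c (hU ≫ hV) hae hce comm_ac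
  have hflat : Flat (hU.left ≫ hV.left) := hfl a c (hU ≫ hV) hae hce comm_ac
  exact flat_stalkMap_iff_of_baseChange_fp hU.left hV.left hU'.left hV'.left α.left βV.left γ.left
    (sqV.map (Over.forget S)) (sqU.map (Over.forget S)) u' (Flat.stalkMap _ _)

end Groth.Agent.Lib.Helper14.AS
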