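import Groth.Agent.Lib.Helper21.FibDim14
import Groth.Agent.Lib.Helper14.RelDimComp
import Groth.Agent.Lib.Helper14.AlgSpNoethChart
import Groth.Agent.Lib.Helper14.AlgSpDim

set_option linter.style.haveILetI false
universe u
open CategoryTheory CategoryTheory.Limits AlgebraicGeometry Opposite TopologicalSpace

namespace Groth.Agent.Lib.Helper14.AS

open AlgSp
open Groth.Agent.Lib.Helper21.FibDim Groth.Agent.Lib.Helper21.ChartPt Groth.Agent.Lib.Helper21.NagDvr
  Groth.Agent.Lib.Helper20.DimTrdeg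

/-- Variant of helper21's `localDim_eq_add_of_flat_of_hasRelDim` with the pointwise hypothesis. -/
theorem localDim_eq_add_of_flat_of_forall_fibreDimAt {X Y : Scheme.{u}} [IsLocallyNoetherian Y]
    (f : X ⟶ Y) [Flat f] [LocallyOfFiniteType f] (d : ℕ)
    (hd : ∀ u : X, FlatMor.fibreDimAt f u = (d : WithBot ℕ∞)) (x : X) :
    FlatMor.localDim X x = FlatMor.localDim Y (f x) + (d : WithBot ℕ∞) := by
  haveI : IsLocallyNoetherian X := LocallyOfFiniteType.isLocallyNoetherian f
  haveI : LocallyOfFinitePresentation f :=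
    Groth.Agent.Lib.Helper6.UO.lfp_of_lft_of_isLocallyNoetherian f
  -- pointwise formula
  have hpt : ∀ u : X, ∃ a b : ℕ, @Algebra.trdeg (Y.residueField (f u)) (X.residueField u) _ _
        (f.residueFieldMap u).hom.toAlgebra = a ∧ a + b = d ∧
      ringKrullDim (X.presheaf.stalk u) = ringKrullDim (Y.presheaf.stalk (f u)) + (b : ℕ) := by
    intro u
    obtain ⟨a, b, ha, hb, hloc⟩ := exists_fibreDimAt_eq_add f u
    refine ⟨a, b, ha, ?_, ?_⟩
    · rw [hd u] at hloc
      exact_mod_cast hloc.symm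
    · rw [ringKrullDim_stalk_eq_add_fibre_of_flat f u, hb]
  apply le_antisymm
  · -- `≤`
    haveI : Nonempty {V : Opens Y // f x ∈ V} := ⟨⟨⊤, trivial⟩⟩
    obtain ⟨V, hV⟩ := ciInf_mem (fun V : {V : Opens Y // f x ∈ V} =>
      topologicalKrullDim (V.1 : Set Y))
    have hV' : topologicalKrullDim (V.1 : Set Y) = FlatMor.localDim Y (f x) := hV
    rw [← hV']
    let U : X.Opens := f ⁻¹ᵁ V.1
    have hxU : x ∈ U := V.2
    refine (Groth.Agent.Lib.Helper18.TopDim.localDim_le_topologicalKrullDim_open U hxU).trans ?_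
    rw [Groth.Agent.Lib.Helper21.FibDim.topologicalKrullDim_opens_eq_iSup_stalk U, Groth.Agent.Lib.Helper21.FibDim.topologicalKrullDim_opens_eq_iSup_stalk V.1]
    refine iSup_le fun u => ?_
    obtain ⟨a, b, -, hab, hdim⟩ := hpt u.1
    rw [hdim]
    refine add_le_add (le_iSup (fun v : V.1 => ringKrullDim (Y.presheaf.stalk v.1)) ⟨f u.1, u.2⟩) ?_
    have : b ≤ d := by omega
    exact_mod_cast this
  · -- `≥`
    unfold FlatMor.localDim
    refine le_iInf fun U => ?_
    let V : Opens Y := ⟨f '' (U.1 : Set X), f.isOpenMap _ U.1.2⟩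
    have hyV : f x ∈ V := ⟨x, U.2, rfl⟩
    have h1 : (⨅ V : {V : Opens Y // f x ∈ V}, topologicalKrullDim (V.1 : Set Y)) ≤
        topologicalKrullDim (V : Set Y) :=
      iInf_le (fun V : {V : Opens Y // f x ∈ V} => topologicalKrullDim (V.1 : Set Y)) ⟨V, hyV⟩
    refine (add_le_add h1 le_rfl).trans ?_
    rw [Groth.Agent.Lib.Helper21.FibDim.topologicalKrullDim_opens_eq_iSup_stalk V]
    refine Groth.Agent.Lib.Helper21.FibDim.iSup_add_nat_le _ d _ fun v => ?_
    obtain ⟨u₀, hu₀U, hu₀v⟩ := v.2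
    obtain ⟨u, huU, -, hfu, htr⟩ := exists_mem_specializes_fiber_trdeg_eq_zero f U.1 u₀ hu₀U
    obtain ⟨a, b, ha, hab, hdim⟩ := hpt u
    have ha0 : a = 0 := by
      have : (a : Cardinal.{u}) = 0 := by rw [← ha, htr]
      exact_mod_cast this
    have hbd : b = d := by omega
    have hfuv : f u = v.1 := hfu.trans hu₀v
    have h2 : ∀ y' : Y, f u = y' → ringKrullDim (Y.presheaf.stalk (f u)) =
        ringKrullDim (Y.presheaf.stalk y') := by
      rintro _ rfl
      rfl
    rw [← h2 _ hfuv, ← hbd, ← hdim, Groth.Agent.Lib.Helper21.FibDim.topologicalKrullDim_opens_eq_iSup_stalk U.1]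
    exact le_iSup (fun u : U.1 => ringKrullDim (X.presheaf.stalk u.1)) ⟨u, huU⟩

variable {S : Scheme.{u}}

/-- Local dimension formula for flat morphisms locally of finite type of constant relative
dimension between locally Noetherian algebraic spaces. -/
theorem localDim_eq_of_flat_lft_relDim {X Y : Sp S} (hX : IsAlgSpace X) (hY : IsAlgSpace Y)
    (f : X ⟶ Y) (hYN : IsLocNoethSp Y) (hf : LocP @Flat f)
    (hf' : LocP @LocallyOfFiniteType f) (d : ℕ)
    (hd : ∀ x : Points X, HasAtMor (fun _ _ h u => FlatMor.fibreDimAt h u = (d : WithBot ℕ∞)) f x)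
    (x : Points X) (dX dY : WithBot ℕ∞) (hx : HasAt (fun U u => FlatMor.localDim ↥U u = dX) X x)
    (hy : HasAt (fun U u => FlatMor.localDim ↥U u = dY) Y (Points.map f x)) :
    dX = dY + (d : WithBot ℕ∞) := by
  obtain ⟨U, V, a, b, h, u, hae, hbe, comm, rfl⟩ := exists_chart_diagram_at hX hY f x
  have hVN : IsLocallyNoetherian V.left := isLocallyNoetherian_of_etale_over hYN b hbe
  have hflat : Flat h.left := hf a b h hae hbe comm
  have hlft : LocallyOfFiniteType h.left := hf' a b h hae hbe comm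
  have hall : ∀ u' : ↥U.left, FlatMor.fibreDimAt h.left u' = (d : WithBot ℕ∞) := fun u' =>
    (hasAtMor_ofPt_iff (etSqInv_fibreDimAt (fun z => z = (d : WithBot ℕ∞))) f a b h hae hbe comm
      u').1 (hd (Points.ofPt a u'))
  obtain ⟨U₁, a₁, u₁, ha₁, hu₁, hdX⟩ := hx
  obtain ⟨V₁, b₁, v₁, hb₁, hv₁, hdY⟩ := hy
  have hpt : Points.map f (Points.ofPt a u) = Points.ofPt b (h.left u) := by
    rw [Points.map_ofPt, comm, ofPt_yon_map_comp]
  have e1 : FlatMor.localDim ↥U.left u = dX := by
    rw [← hdX]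
    exact localDim_chart_indep a hae a₁ ha₁ u u₁ hu₁.symm
  have e2 : FlatMor.localDim ↥V.left (h.left u) = dY := by
    rw [← hdY]
    exact localDim_chart_indep b hbe b₁ hb₁ (h.left u) v₁ (hpt.symm.trans hv₁.symm)
  rw [← e1, ← e2]
  exact localDim_eq_add_of_flat_of_forall_fibreDimAt h.left d hall u

end Groth.Agent.Lib.Helper14.AS
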