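import Groth.Prelude.Def_AlgSpCov
import Groth.Agent.Lib.Helper14.FppfDescSp
import Groth.Agent.Lib.Helper14.AlgSpBase
import Groth.Agent.Lib.Helper14.LfpOfComp
import Groth.Agent.Lib.Helper14.FPFib2

universe u
set_option linter.style.haveILetI false
set_option linter.unusedSectionVars false
open CategoryTheory CategoryTheory.Limits AlgebraicGeometry Opposite Topology TensorProduct

namespace Groth.Agent.Lib.Helper14.AS
open AlgSp

variable {S : Scheme.{u}}

/-- a member of an fppf covering family through a given point -/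
theorem exists_of_mem_KS {U : Over S} {R : Presieve U} (hR : R ∈ KS S U) (v : U.left) :
    ∃ (W : Over S) (w : W ⟶ U), R w ∧ Flat w.left ∧ LocallyOfFinitePresentation w.left ∧
      v ∈ Set.range w.left := by
  rw [Precoverage.mem_comap_iff] at hR
  obtain ⟨hsurj, hP⟩ := hR
  obtain ⟨Y, g, hg, hv⟩ := hsurj v
  obtain ⟨hg'⟩ := hg
  obtain ⟨hw⟩ := hg'
  rename_i W w
  exact ⟨W, w, hw, (hP ⟨hw⟩).1, (hP ⟨hw⟩).2, hv⟩

/-- purity: if `A → B → C` has faithfully flat composite and `B` is flat over `R`, then `A` is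
flat over `R` -/
theorem flat_of_flat_of_faithfullyFlat_comp (R A B C : Type u) [CommRing R] [CommRing A]
    [CommRing B] [CommRing C] [Algebra R A] [Algebra A B] [Algebra R B] [IsScalarTower R A B]
    [Algebra B C] [Algebra A C] [IsScalarTower A B C] [Module.FaithfullyFlat A C]
    [Module.Flat R B] : Module.Flat R A := by
  rw [Module.Flat.iff_lTensor_preserves_injective_linearMap]
  intro N P _ _ _ _ f hf
  -- purity of A → B
  have pure : ∀ (M : Type u) [AddCommGroup M] [Module A M],
      Function.Injective (fun m : M => (1 : B) ⊗ₜ[A] m) := by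
    intro M _ _ m₁ m₂ h
    have h2 : (1 : C) ⊗ₜ[A] m₁ = (1 : C) ⊗ₜ[A] m₂ := by
      have := congrArg (LinearMap.rTensor M (IsScalarTower.toAlgHom A B C).toLinearMap) h
      simpa using this
    have := (Module.FaithfullyFlat.one_tmul_eq_zero_iff A M (A := C) (m₁ - m₂)).1
      (by rw [TensorProduct.tmul_sub, h2, sub_self])
    exact sub_eq_zero.1 this
  let ι : ∀ (M : Type u) [AddCommGroup M] [Module R M], A ⊗[R] M →ₗ[R] B ⊗[R] M := fun M _ _ =>
    LinearMap.rTensor M (IsScalarTower.toAlgHom R A B).toLinearMap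
  have hι : ∀ (M : Type u) [AddCommGroup M] [Module R M], Function.Injective (ι M) := by
    intro M _ _
    have key : ∀ m : A ⊗[R] M,
        TensorProduct.AlgebraTensorModule.cancelBaseChange R A B B M ((1 : B) ⊗ₜ[A] m) = ι M m := by
      intro m
      induction m with
      | zero => simp
      | add x y hx hy => rw [TensorProduct.tmul_add, map_add, hx, hy, map_add]
      | tmul a n =>
        rw [TensorProduct.AlgebraTensorModule.cancelBaseChange_tmul]
        simp [ι, Algebra.smul_def]
    intro m₁ m₂ h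
    apply pure (A ⊗[R] M)
    apply (TensorProduct.AlgebraTensorModule.cancelBaseChange R A B B M).injective
    rw [key, key, h]
  have comm : ∀ x, ι P (LinearMap.lTensor A f x) = LinearMap.lTensor B f (ι N x) := by
    intro x
    induction x with
    | zero => simp
    | add x y hx hy => simp only [map_add, hx, hy]
    | tmul a n => simp [ι]
  have hB : Function.Injective (LinearMap.lTensor B f) :=
    Module.Flat.lTensor_preserves_injective_linearMap f hf
  intro x y hxy
  apply hι N
  apply hB
  rw [← comm, ← comm, hxy]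


theorem ringHom_flat_of_pure {R A B C : Type u} [CommRing R] [CommRing A] [CommRing B]
    [CommRing C] [IsLocalRing A] [IsLocalRing C] (ψ : R →+* A) (φ : A →+* B) (χ : B →+* C)
    [IsLocalHom (χ.comp φ)] (h1 : (χ.comp φ).Flat) (h2 : (φ.comp ψ).Flat) : ψ.Flat := by
  algebraize [ψ, φ, χ, φ.comp ψ, χ.comp φ]
  haveI : IsLocalHom (algebraMap A C) := ‹IsLocalHom (χ.comp φ)›
  haveI : Module.Flat A C := h1
  haveI : Module.FaithfullyFlat A C := Module.FaithfullyFlat.of_flat_of_isLocalHom
  haveI : Module.Flat R B := h2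
  exact flat_of_flat_of_faithfullyFlat_comp R A B C

set_option backward.isDefEq.respectTransparency.types false in
/-- charts adapted to a locally surjective morphism: a chart `U` of `X` over `V` and a flat lfp
`U' ⟶ V` through `U` hitting a given point -/
theorem exists_chart_lift_of_isLocallySurjective {X Y : Sp S} (hX : IsAlgSpace X)
    (hY : IsAlgSpace Y) (g : X ⟶ Y) [Sheaf.IsLocallySurjective g] {V : Over S}
    (b : (yon S).obj V ⟶ Y) (hb : RepWith @Etale b) (v : V.left) :
    ∃ (U U' : Over S) (a : (yon S).obj U ⟶ X) (hU : U ⟶ V) (φ : U' ⟶ U) (u' : U'.left),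
      RepWith @Etale a ∧ a ≫ g = (yon S).map hU ≫ b ∧ Flat (φ ≫ hU).left ∧
      LocallyOfFinitePresentation (φ ≫ hU).left ∧ (φ ≫ hU).left u' = v := by
  obtain ⟨R, hR, hlift⟩ := exists_cover_lift g b
  obtain ⟨V', w, hRw, hwfl, hwfp, v', hv'⟩ := exists_of_mem_KS hR v
  obtain ⟨l, hl⟩ := hlift w hRw
  have sqQ := IsPullback.of_hasPullback g b
  have hQ : IsAlgSpace (pullback g b) :=
    isAlgSpace_of_isPullback (repDiag_of_isAlgSpace hY) hX (IsAlgSpace.yon_obj V) sqQ
  obtain ⟨U, p, hpe, hps⟩ := hQ.atlas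
  obtain ⟨hU, hhU⟩ := (yon S).map_surjective (p ≫ pullback.snd g b)
  have hq1 : RepWith @Etale (pullback.fst g b) := repWith_of_isPullback _ sqQ.flip hb
  obtain ⟨lam, hlam1, hlam2⟩ : ∃ lam : (yon S).obj V' ⟶ pullback g b,
      lam ≫ pullback.fst g b = l ∧ lam ≫ pullback.snd g b = (yon S).map w :=
    ⟨pullback.lift l ((yon S).map w) hl, pullback.lift_fst _ _ _, pullback.lift_snd _ _ _⟩
  have sq := hpe.rep.isPullback' lam
  have hσe : Etale (hpe.rep.snd lam).left := hpe.property_snd lam
  have hσs : Surjective (hpe.rep.snd lam).left := hps.property_snd lam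
  have hcomp : hpe.rep.fst' lam ≫ hU = hpe.rep.snd lam ≫ w := by
    apply (yon S).map_injective
    rw [Functor.map_comp, Functor.map_comp, hhU, ← Category.assoc, sq.w, Category.assoc, hlam2]
  obtain ⟨u', hu'⟩ := (hpe.rep.snd lam).left.surjective v'
  refine ⟨U, _, p ≫ pullback.fst g b, hU, hpe.rep.fst' lam, u', repWith_comp _ hpe hq1, ?_, ?_, ?_,
    ?_⟩
  · rw [Category.assoc, pullback.condition, ← Category.assoc, hhU]
  · rw [hcomp, Over.comp_left]
    infer_instance
  · rw [hcomp, Over.comp_left]
    infer_instance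
  · rw [hcomp, Over.comp_left, Scheme.Hom.comp_apply, hu', hv']


set_option backward.isDefEq.respectTransparency.types false in
/-- S10557 -/
theorem locP_of_comp_of_isLocallySurjective {X Y Z : Sp S} (hX : IsAlgSpace X)
    (hY : IsAlgSpace Y) (g : X ⟶ Y) (h : Y ⟶ Z) (hg : Sheaf.IsLocallySurjective g) :
    (LocP @Flat (g ≫ h) → LocP @Flat h) ∧
    (LocP @LocallyOfFiniteType (g ≫ h) → LocP @LocallyOfFiniteType h) ∧
    (LocP @LocallyOfFinitePresentation (g ≫ h) → LocP @LocallyOfFinitePresentation h) := by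
  have comm_ac : ∀ {U V W : Over S} (a : (yon S).obj U ⟶ X) (b : (yon S).obj V ⟶ Y)
      (c : (yon S).obj W ⟶ Z) (hU : U ⟶ V) (hV : V ⟶ W), a ≫ g = (yon S).map hU ≫ b →
      b ≫ h = (yon S).map hV ≫ c → a ≫ (g ≫ h) = (yon S).map (hU ≫ hV) ≫ c := by
    intro U V W a b c hU hV e1 e2
    rw [← Category.assoc, e1, Category.assoc, e2, ← Category.assoc, ← Functor.map_comp]
  refine ⟨fun H => ?_, fun H => ?_, fun H => ?_⟩
  · intro V W b c hV hb hc comm
    refine Flat.of_stalkMap _ fun v => ?_
    obtain ⟨U, U', a, hU, φ, u', hae, comm_a, hfl, -, hu'⟩ :=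
      exists_chart_lift_of_isLocallySurjective hX hY g b hb v
    have h1 : Flat (hU ≫ hV).left := H a c (hU ≫ hV) hae hc (comm_ac a b c hU hV comm_a comm)
    have k1 : ((φ ≫ hU).left.stalkMap u').hom.Flat := Flat.stalkMap _ _
    have k2 : ((hU ≫ hV).left.stalkMap (φ.left u')).hom.Flat := Flat.stalkMap _ _
    rw [Over.comp_left, Scheme.Hom.stalkMap_comp] at k1 k2
    have key := ringHom_flat_of_pure (hV.left.stalkMap (hU.left (φ.left u'))).hom
      (hU.left.stalkMap (φ.left u')).hom (φ.left.stalkMap u').hom k1 k2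
    exact flat_stalkMap_pt hV.left hu' key
  · intro V W b c hV hb hc comm
    refine lft_of_forall_exists_fppf hV.left fun v => ?_
    obtain ⟨U, U', a, hU, φ, u', hae, comm_a, hfl, hfp, hu'⟩ :=
      exists_chart_lift_of_isLocallySurjective hX hY g b hb v
    have h1 : LocallyOfFiniteType (hU ≫ hV).left :=
      H a c (hU ≫ hV) hae hc (comm_ac a b c hU hV comm_a comm)
    have h2 : LocallyOfFiniteType (φ.left ≫ hU.left) := by
      rw [← Over.comp_left]; infer_instance
    have h3 : LocallyOfFiniteType φ.left := locallyOfFiniteType_of_comp φ.left hU.left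
    refine ⟨U'.left, (φ ≫ hU).left, hfl, hfp, ?_, ⟨u', hu'⟩⟩
    rw [← Over.comp_left, Category.assoc, Over.comp_left]
    rw [Over.comp_left] at h1
    infer_instance
  · intro V W b c hV hb hc comm
    refine lfp_of_forall_exists_fppf hV.left fun v => ?_
    obtain ⟨U, U', a, hU, φ, u', hae, comm_a, hfl, hfp, hu'⟩ :=
      exists_chart_lift_of_isLocallySurjective hX hY g b hb v
    have h1 : LocallyOfFinitePresentation (hU ≫ hV).left :=
      H a c (hU ≫ hV) hae hc (comm_ac a b c hU hV comm_a comm)
    rw [Over.comp_left] at h1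
    have h1' : LocallyOfFiniteType (hU.left ≫ hV.left) := inferInstance
    have h4 : LocallyOfFiniteType hU.left := locallyOfFiniteType_of_comp hU.left hV.left
    have h2 : LocallyOfFinitePresentation (φ.left ≫ hU.left) := by
      rw [← Over.comp_left]; exact hfp
    have h3 : LocallyOfFinitePresentation φ.left :=
      locallyOfFinitePresentation_of_comp φ.left hU.left h2 h4
    refine ⟨U'.left, (φ ≫ hU).left, hfl, hfp, ?_, ⟨u', hu'⟩⟩
    rw [← Over.comp_left, Category.assoc, Over.comp_left]
    infer_instance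

end Groth.Agent.Lib.Helper14.AS
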