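import Mathlib
set_option autoImplicit false
universe v w
open CategoryTheory CategoryTheory.Limits

namespace Groth.Agent.Lib.Helper14.WP

variable {C : Type w} [Category.{v} C] [HasFiniteWidePullbacks C] [HasPullbacks C]

/-- The base map of an iterated fibre product of members of a family lies in any class of
objects over the base that is invariant under isomorphism, contains the members and is stable
under pullback along the members. -/
theorem widePullback_base_mem {B : C} {ι : Type*} {Ui : ι → C} (g : ∀ i, Ui i ⟶ B)
    (D : ∀ ⦃W : C⦄, (W ⟶ B) → Prop)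
    (hiso : ∀ ⦃W W' : C⦄ (e : W ≅ W') (b : W' ⟶ B), D b → D (e.hom ≫ b))
    (h0 : ∀ i, D (g i))
    (hpb : ∀ ⦃W : C⦄ (b : W ⟶ B) (i : ι), D b → D (pullback.fst b (g i) ≫ b))
    (n : ℕ) (c : Fin (n + 1) → ι) :
    D (WidePullback.base (fun k : Fin (n + 1) => g (c k))) := by
  induction n with
  | zero =>
    let arr : ∀ k : Fin 1, Ui (c k) ⟶ B := fun k => g (c k)
    have hk : ∀ k : Fin 1, k = 0 := fun k => Subsingleton.elim _ _
    let inv : Ui (c 0) ⟶ widePullback B (fun k => Ui (c k)) arr :=
      WidePullback.lift (g (c 0)) (fun k => eqToHom (by rw [hk k]))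
        (fun k => by
          have := hk k
          subst this
          simp [arr])
    have h1 : inv ≫ WidePullback.π arr 0 = 𝟙 _ := by
      rw [WidePullback.lift_π]; rfl
    have h2 : WidePullback.π arr 0 ≫ inv = 𝟙 _ := by
      apply WidePullback.hom_ext
      · intro k
        have := hk k
        subst this
        rw [Category.assoc, h1, Category.comp_id, Category.id_comp]
      · rw [Category.assoc, WidePullback.lift_base, Category.id_comp, WidePullback.π_arrow]
    let e : widePullback B (fun k => Ui (c k)) arr ≅ Ui (c 0) := ⟨WidePullback.π arr 0, inv, h2, h1⟩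
    have := hiso e (g (c 0)) (h0 _)
    have h3 : e.hom ≫ g (c 0) = WidePullback.base arr := WidePullback.π_arrow arr 0
    rw [h3] at this
    exact this
  | succ n ih =>
    let c' : Fin (n + 1) → ι := fun k => c k.castSucc
    let arr : ∀ k : Fin (n + 2), Ui (c k) ⟶ B := fun k => g (c k)
    let arr' : ∀ k : Fin (n + 1), Ui (c' k) ⟶ B := fun k => g (c' k)
    have ih' : D (WidePullback.base arr') := ih c'
    let l := Fin.last (n + 1)
    have hQ := hpb (WidePullback.base arr') (c l) ih'
    let W' := widePullback B (fun k => Ui (c' k)) arr'
    let Wc := widePullback B (fun k => Ui (c k)) arr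
    let Q := pullback (WidePullback.base arr') (g (c l))
    let toW' : Wc ⟶ W' := WidePullback.lift (WidePullback.base arr)
      (fun k => WidePullback.π arr k.castSucc) (fun k => WidePullback.π_arrow arr k.castSucc)
    let hom : Wc ⟶ Q := pullback.lift toW' (WidePullback.π arr l)
      (by rw [WidePullback.lift_base]; exact (WidePullback.π_arrow arr l).symm)
    let fs : ∀ k : Fin (n + 2), Q ⟶ Ui (c k) := fun k =>
      Fin.lastCases (motive := fun k => Q ⟶ Ui (c k)) (pullback.snd _ _)
        (fun k' => pullback.fst _ _ ≫ WidePullback.π arr' k') k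
    have hfs_last : fs l = pullback.snd _ _ := Fin.lastCases_last
    have hfs_cast : ∀ k' : Fin (n + 1), fs k'.castSucc = pullback.fst _ _ ≫ WidePullback.π arr' k' :=
      fun k' => Fin.lastCases_castSucc k'
    have hw : ∀ k, fs k ≫ arr k = pullback.fst _ _ ≫ WidePullback.base arr' := by
      intro k
      refine Fin.lastCases ?_ (fun k' => ?_) k
      · rw [hfs_last]; exact pullback.condition.symm
      · rw [hfs_cast, Category.assoc]
        congr 1
        exact WidePullback.π_arrow arr' k'
    let inv : Q ⟶ Wc := WidePullback.lift (pullback.fst _ _ ≫ WidePullback.base arr') fs hw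
    have h1 : hom ≫ inv = 𝟙 _ := by
      apply WidePullback.hom_ext
      · intro k
        rw [Category.assoc, WidePullback.lift_π, Category.id_comp]
        refine Fin.lastCases ?_ (fun k' => ?_) k
        · rw [hfs_last, pullback.lift_snd]
        · rw [hfs_cast, pullback.lift_fst_assoc, WidePullback.lift_π]
      · rw [Category.assoc, WidePullback.lift_base, pullback.lift_fst_assoc,
          WidePullback.lift_base, Category.id_comp]
    have h2 : inv ≫ hom = 𝟙 _ := by
      apply pullback.hom_ext
      · rw [Category.assoc, pullback.lift_fst, Category.id_comp]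
        apply WidePullback.hom_ext
        · intro k'
          rw [Category.assoc, WidePullback.lift_π, WidePullback.lift_π, hfs_cast]
        · rw [Category.assoc, WidePullback.lift_base, WidePullback.lift_base]
      · rw [Category.assoc, pullback.lift_snd, Category.id_comp, WidePullback.lift_π, hfs_last]
    let e : Wc ≅ Q := ⟨hom, inv, h1, h2⟩
    have := hiso e _ hQ
    have h3 : e.hom ≫ pullback.fst (WidePullback.base arr') (g (c l)) ≫ WidePullback.base arr' =
        WidePullback.base arr := by
      change hom ≫ _ = _
      rw [pullback.lift_fst_assoc, WidePullback.lift_base]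
    rw [h3] at this
    exact this

end Groth.Agent.Lib.Helper14.WP
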