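import Mathlib
import Groth.Prelude.Def_AlgSpCov
import Groth.Agent.Lib.Helper14.WidePB
import Groth.Agent.Lib.Helper14.LqfLocus
import Groth.Agent.Lib.Helper14.AlgSpDecent3
import Groth.Agent.Lib.Helper14.AlgSpProper

/-!
# The fppf induction principle for algebraic spaces (helper14)
-/

set_option autoImplicit false
universe u
open CategoryTheory CategoryTheory.Limits AlgebraicGeometry Opposite Topology

namespace Groth.Agent.Lib.Helper14.AS

open AlgSp Groth.Agent.Lib.Helper14.AS Groth.Agent.Lib.Helper14.WP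

variable {S : Scheme.{u}}

theorem isEtaleMor_of_isIso' {F G : Sp S} (f : F ⟶ G) [IsIso f] : IsEtaleMor f := fun U φ hφ =>
  (MorphismProperty.cancel_right_of_respectsIso (RepWith @Etale) φ f).2 hφ

set_option backward.isDefEq.respectTransparency.types false in
theorem isEtaleMor_iso_yon_iso {W' W : Sp S} {T' T : Over S} (e' : W' ≅ (yon S).obj T')
    (e : W ≅ (yon S).obj T) (β : T' ⟶ T) [IsOpenImmersion β.left] :
    IsEtaleMor (e'.hom ≫ (yon S).map β ≫ e.inv) := by
  refine isEtaleMor_comp (isEtaleMor_of_isIso' _) (isEtaleMor_comp ?_ (isEtaleMor_of_isIso' _))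
  exact isEtaleMor_of_repWith_etale ((repWith_yon_map_iff _ _).2 (inferInstanceAs (Etale β.left)))

section cover

variable (X : Space S) (P : ∀ ⦃U : Sp S⦄, (U ⟶ X.obj) → Prop)
  (hP : ∀ ⦃U : Sp S⦄ (a : U ⟶ X.obj), IsAlgSpace U →
    ∀ ⦃ι : Type u⦄ (Ui : ι → Sp S) (g : ∀ i, Ui i ⟶ U), (∀ i, IsAlgSpace (Ui i)) →
    IsFppfCover Ui g →
    (∀ (n : ℕ) (c : Fin (n + 1) → ι),
      P (WidePullback.base (fun k : Fin (n + 1) => g (c k)) ≫ a)) → P a)

include hP in
set_option backward.isDefEq.respectTransparency.types false in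
/-- One step of the induction: from schemes with the absolute property `A` to schemes all of whose
opens in affine opens have `A`. -/
theorem P_of_scheme_cover (A : Scheme.{u} → Prop)
    (hA : ∀ ⦃W : Sp S⦄ (b : W ⟶ X.obj) (T : Over S) (e : W ≅ (yon S).obj T), A T.left →
      LocP @Flat b → LocP @LocallyOfFinitePresentation b → P b)
    (T : Over S)
    (hT : ∀ (T' : Over S) (β : T' ⟶ T) (k : T.left.affineOpens), A T'.left →
      IsOpenImmersion β.left → A ↑(β.left ⁻¹ᵁ k.1))
    (hT0 : ∀ k : T.left.affineOpens, A ↑k.1)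
    {W : Sp S} (b : W ⟶ X.obj) (e : W ≅ (yon S).obj T)
    (hb1 : LocP @Flat b) (hb2 : LocP @LocallyOfFinitePresentation b) : P b := by
  have hW : IsAlgSpace W := (IsAlgSpace.yon_obj T).of_iso e.symm
  let g : ∀ k : T.left.affineOpens, (yon S).obj (openSub T k.1) ⟶ W := fun k =>
    (yon S).map (openSubι T k.1) ≫ e.inv
  have hgopen : ∀ (Q : MorphismProperty Scheme.{u}) [Q.IsStableUnderBaseChange]
      (hQ : ∀ k : T.left.affineOpens, Q (openSubι T k.1).left) (k), RepWith Q (g k) :=
    fun Q _ hQ k => (MorphismProperty.cancel_right_of_respectsIso (RepWith Q) _ e.inv).2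
      ((repWith_yon_map_iff _ _).2 (hQ k))
  refine hP b hW (fun k : T.left.affineOpens => (yon S).obj (openSub T k.1)) g
    (fun k => IsAlgSpace.yon_obj _) ⟨fun k => ⟨?_, ?_⟩, ?_⟩ ?_
  · exact locP_of_repWith (fun _ _ _ h => by have := h; infer_instance)
      (hgopen @Flat (fun k => inferInstanceAs (Flat (k.1 : T.left.Opens).ι)) k)
  · exact locP_of_repWith (fun _ _ _ h => by have := h; infer_instance)
      (hgopen @LocallyOfFinitePresentation
        (fun k => inferInstanceAs (LocallyOfFinitePresentation (k.1 : T.left.Opens).ι)) k)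
  · intro x
    obtain ⟨t, ht⟩ := (Points.schemeHomeo T).surjective (Points.map e.hom x)
    obtain ⟨k, hk⟩ : ∃ k : T.left.affineOpens, t ∈ k.1 := by
      obtain ⟨_, ⟨k, hk, rfl⟩, htk, -⟩ :=
        (T.left.isBasis_affineOpens).exists_subset_of_mem_open (Set.mem_univ t) isOpen_univ
      exact ⟨⟨k, hk⟩, htk⟩
    refine ⟨k, Points.ofPt (𝟙 _) (⟨t, hk⟩ : ↥(k.1 : T.left.Opens)), ?_⟩
    rw [Points.map_ofPt, Category.id_comp]
    have h1 : x = Points.map e.inv (Points.map e.hom x) := by
      rw [← Points.map_comp, e.hom_inv_id, Points.map_id]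
    rw [h1, ← ht]
    show Points.ofPt ((yon S).map (openSubι T k.1) ≫ e.inv) _ = _
    rw [← Points.map_ofPt]
    congr 1
    apply (Points.schemeHomeo T).symm.injective
    rw [Homeomorph.symm_apply_apply]
    exact Points.toScheme_ofPt (openSubι T k.1) _
  · intro n c
    -- the class of schemes open in `T` with `A`
    let D : ∀ ⦃W' : Sp S⦄, (W' ⟶ W) → Prop := fun W' b' =>
      ∃ (T' : Over S) (e' : W' ≅ (yon S).obj T') (β : T' ⟶ T), A T'.left ∧
        IsOpenImmersion β.left ∧ b' = e'.hom ≫ (yon S).map β ≫ e.inv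
    have hD : D (WidePullback.base (fun k : Fin (n + 1) => g (c k))) := by
      refine widePullback_base_mem g D ?_ ?_ ?_ n c
      · rintro W₁ W₂ ε b' ⟨T', e', β, hA', hβ, rfl⟩
        exact ⟨T', ε ≪≫ e', β, hA', hβ, by simp⟩
      · intro k
        exact ⟨openSub T k.1, Iso.refl _, openSubι T k.1, hT0 k, inferInstance, by simp [g]⟩
      · rintro W' b' k ⟨T', e', β, hA', hβ, rfl⟩
        have sq0 := ((isPullback_openSub β k.1).map (yon S)).flip
        have sq := IsPullback.of_iso sq0 (Iso.refl _) e'.symm (Iso.refl _) e.symm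
          (fst' := (yon S).map (openSubι T' (β.left ⁻¹ᵁ k.1)) ≫ e'.inv)
          (snd' := (yon S).map (Over.homMk (U := openSub T' (β.left ⁻¹ᵁ k.1))
            (V := openSub T k.1) (β.left ∣_ k.1)
            (by
              change (β.left ∣_ k.1) ≫ (k.1 : T.left.Opens).ι ≫ T.hom =
                (β.left ⁻¹ᵁ k.1).ι ≫ T'.hom
              rw [← Category.assoc, morphismRestrict_ι, Category.assoc, Over.w])))
          (f' := e'.hom ≫ (yon S).map β ≫ e.inv) (g' := g k)
          (by simp) (by simp) (by simp) (by simp [g])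
        refine ⟨openSub T' (β.left ⁻¹ᵁ k.1), sq.isoPullback.symm,
          openSubι T' (β.left ⁻¹ᵁ k.1) ≫ β, hT T' β k hA' hβ, ?_, ?_⟩
        · rw [Over.comp_left]
          have : IsOpenImmersion (openSubι T' (β.left ⁻¹ᵁ k.1)).left := inferInstance
          infer_instance
        · have h1 : pullback.fst (e'.hom ≫ (yon S).map β ≫ e.inv) (g k) =
              sq.isoPullback.inv ≫ (yon S).map (openSubι T' (β.left ⁻¹ᵁ k.1)) ≫ e'.inv :=
            (sq.isoPullback_inv_fst).symm
          rw [h1]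
          simp only [Category.assoc, Iso.inv_hom_id_assoc, Functor.map_comp, Iso.symm_hom]
    obtain ⟨T', e', β, hA', hβ, hbase⟩ := hD
    have het : IsEtaleMor (WidePullback.base (fun k : Fin (n + 1) => g (c k))) := by
      rw [hbase]
      exact isEtaleMor_iso_yon_iso e' e β
    exact hA _ T' e' hA' (locP_comp_isEtaleMor _ het b hb1) (locP_comp_isEtaleMor _ het b hb2)

include hP in
set_option backward.isDefEq.respectTransparency.types false in
theorem P_of_sep
    (haff : ∀ ⦃U : Sp S⦄ (a : U ⟶ X.obj) (T : Over S) (e : U ≅ (yon S).obj T), IsAffine T.left →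
      LocP @Flat a → LocP @LocallyOfFinitePresentation a → P a)
    ⦃W : Sp S⦄ (b : W ⟶ X.obj) (T : Over S) (e : W ≅ (yon S).obj T) (hT : T.left.IsSeparated)
    (hb1 : LocP @Flat b) (hb2 : LocP @LocallyOfFinitePresentation b) : P b := by
  refine P_of_scheme_cover X P hP (fun T => IsAffine T) haff T ?_ (fun k => k.2) b e hb1 hb2
  intro T' β k hT' hβ
  have : IsAffine T'.left := hT'
  have h1 : IsAffineHom (β.left ≫ terminal.from T.left) := by
    rw [terminal.comp_from]; infer_instance
  have : IsAffineHom β.left := IsAffineHom.of_comp β.left (terminal.from T.left)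
  exact k.2.preimage β.left

include hP in
set_option backward.isDefEq.respectTransparency.types false in
theorem P_of_scheme
    (haff : ∀ ⦃U : Sp S⦄ (a : U ⟶ X.obj) (T : Over S) (e : U ≅ (yon S).obj T), IsAffine T.left →
      LocP @Flat a → LocP @LocallyOfFinitePresentation a → P a)
    ⦃W : Sp S⦄ (b : W ⟶ X.obj) (T : Over S) (e : W ≅ (yon S).obj T)
    (hb1 : LocP @Flat b) (hb2 : LocP @LocallyOfFinitePresentation b) : P b := by
  refine P_of_scheme_cover X P hP (fun T => T.IsSeparated)
    (fun W b T e hT => P_of_sep X P hP haff b T e hT) T ?_ ?_ b e hb1 hb2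
  · intro T' β k hT' hβ
    have : T'.left.IsSeparated := hT'
    rw [Scheme.isSeparated_iff, ← terminal.comp_from (β.left ⁻¹ᵁ k.1).ι]
    infer_instance
  · intro k
    have : IsAffine (k.1 : T.left.Opens) := k.2
    infer_instance

include hP in
set_option backward.isDefEq.respectTransparency.types false in
theorem P_id
    (haff : ∀ ⦃U : Sp S⦄ (a : U ⟶ X.obj) (T : Over S) (e : U ≅ (yon S).obj T), IsAffine T.left →
      LocP @Flat a → LocP @LocallyOfFinitePresentation a → P a) : P (𝟙 X.obj) := by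
  obtain ⟨U₀, p, hpe, hps⟩ := X.property.atlas
  have hpet : IsEtaleMor p := isEtaleMor_of_repWith_etale hpe
  refine hP (𝟙 X.obj) X.property (fun _ : PUnit.{u + 1} => (yon S).obj U₀) (fun _ => p)
    (fun _ => IsAlgSpace.yon_obj _) ⟨fun _ => ⟨?_, ?_⟩, ?_⟩ ?_
  · exact locP_mono (fun _ _ _ h => by have := h; infer_instance) (locP_etale_of_isEtaleMor hpet)
  · exact locP_mono (fun _ _ _ h => by have := h; infer_instance) (locP_etale_of_isEtaleMor hpet)
  · intro x
    obtain ⟨u, rfl⟩ := ofPt_surjective_of_repWith hps x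
    exact ⟨PUnit.unit, Points.ofPt (𝟙 _) u, by rw [Points.map_ofPt, Category.id_comp]⟩
  · intro n c
    let D : ∀ ⦃W' : Sp S⦄, (W' ⟶ X.obj) → Prop := fun W' b' =>
      (∃ (T' : Over S), Nonempty (W' ≅ (yon S).obj T')) ∧ IsEtaleMor b'
    have hD : D (WidePullback.base (fun k : Fin (n + 1) => (fun _ : PUnit.{u + 1} => p) (c k))) := by
      refine widePullback_base_mem (fun _ : PUnit.{u + 1} => p) D ?_ ?_ ?_ n c
      · rintro W₁ W₂ ε b' ⟨⟨T', ⟨e'⟩⟩, hb'⟩
        exact ⟨⟨T', ⟨ε ≪≫ e'⟩⟩, isEtaleMor_comp (isEtaleMor_of_isIso' _) hb'⟩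
      · intro _
        exact ⟨⟨U₀, ⟨Iso.refl _⟩⟩, hpet⟩
      · rintro W' b' _ ⟨⟨T', ⟨e'⟩⟩, hb'⟩
        have sq0 := (hpe.rep.isPullback (e'.inv ≫ b')).flip
        have sq := IsPullback.of_iso sq0 (Iso.refl _) e'.symm (Iso.refl _) (Iso.refl _)
          (fst' := (yon S).map (hpe.rep.snd (e'.inv ≫ b')) ≫ e'.inv)
          (snd' := hpe.rep.fst (e'.inv ≫ b'))
          (f' := b') (g' := p)
          (by simp) (by simp) (by simp) (by simp)
        refine ⟨⟨_, ⟨sq.isoPullback.symm⟩⟩, isEtaleMor_comp ?_ hb'⟩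
        exact isEtaleMor_of_repWith_etale
          (repWith_of_isPullback _ (IsPullback.of_hasPullback b' p).flip hpe)
    obtain ⟨⟨T', ⟨e'⟩⟩, het⟩ := hD
    refine P_of_scheme X P hP haff _ T' e' ?_ ?_
    · rw [Category.comp_id]
      exact locP_mono (fun _ _ _ h => by have := h; infer_instance) (locP_etale_of_isEtaleMor het)
    · rw [Category.comp_id]
      exact locP_mono (fun _ _ _ h => by have := h; infer_instance) (locP_etale_of_isEtaleMor het)

end cover

end Groth.Agent.Lib.Helper14.AS
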