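import Groth.Agent.Lib.Helper14.FpqcBase4
import Groth.Agent.Lib.Helper14.AlgSpQCMor2

open CategoryTheory CategoryTheory.Limits AlgebraicGeometry Opposite AlgSp
open CategoryTheory.Functor Groth.Agent.Lib.Helper14.AS

universe u

noncomputable section

namespace Groth.Agent.Lib.Helper14.AS

variable {S : Scheme.{u}}

set_option backward.isDefEq.respectTransparency.types false in
/-- A quasi-compact flat surjective morphism of algebraic spaces is an fpqc covering. -/
theorem isFpqcCover_of_qc_flat_surjective {X Y : Sp S} (hX : IsAlgSpace X) (hY : IsAlgSpace Y)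
    (f : X ⟶ Y) (hqc : IsQuasiCompactMor f) (hflat : LocP @Flat f) (hsurj : IsSurjectiveMor f) :
    IsFpqcCover (fun _ : PUnit.{u + 1} => X) (fun _ => f) := by
  refine ⟨fun _ => hflat, ?_⟩
  intro Z hZ h
  have sqP := IsPullback.of_hasPullback f h
  have hP : IsAlgSpace (pullback f h) :=
    isAlgSpace_of_isPullback (repDiag_of_isAlgSpace hY) hX (IsAlgSpace.yon_obj _) sqP
  have hZqc : IsQuasiCompactSp ((yon S).obj Z) := (isQuasiCompactSp_yon_iff Z).2 inferInstance
  have hPqc : IsQuasiCompactSp (pullback f h) := hqc (IsAlgSpace.yon_obj Z) hZqc h _ _ sqP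
  obtain ⟨U, p, hU, hpe, hps⟩ := isQuasiCompactSp_iff_exists_affine_chart.1 hPqc
  obtain ⟨c, hc⟩ := (yon S).map_surjective (p ≫ pullback.snd f h)
  have hflat' : LocP @Flat (pullback.snd f h) :=
    locP_baseChange etLocal_flat hX hY (IsAlgSpace.yon_obj Z) f h _ _ sqP hflat
  have hsurj' : IsSurjectiveMor (pullback.snd f h) := isSurjectiveMor_of_isPullback sqP hsurj
  refine ⟨1, fun _ => U, fun _ => c, fun _ => hU, fun _ => ?_, ?_, fun _ => ⟨PUnit.unit,
    p ≫ pullback.fst f h, ?_⟩⟩
  · exact hflat' p (𝟙 _) c hpe (repWith_id _ Z) (by rw [hc, Category.comp_id])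
  · intro z
    obtain ⟨y, hy⟩ := hsurj' (Points.schemeHomeo Z z)
    obtain ⟨u, rfl⟩ := ofPt_surjective_of_repWith hps y
    refine ⟨0, u, ?_⟩
    apply (Points.schemeHomeo Z).injective
    rw [← hy, Points.map_ofPt, ← hc]
    change Points.ofScheme Z (c.left u) = _
    rw [← Points.toScheme_ofPt c u, Points.ofScheme_toScheme]
  · rw [Category.assoc, sqP.w, ← Category.assoc, hc]

set_option backward.isDefEq.respectTransparency.types false in
/-- A monomorphism of algebraic spaces that is quasi-compact, flat and surjective is an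
isomorphism. -/
theorem isIso_of_qc_flat_surjective_mono {X Y : Sp S} (hX : IsAlgSpace X) (hY : IsAlgSpace Y)
    (f : X ⟶ Y) (hqc : IsQuasiCompactMor f) (hflat : LocP @Flat f) (hsurj : IsSurjectiveMor f)
    [Mono f] : IsIso f := by
  have hcov := isFpqcCover_of_qc_flat_surjective hX hY f hqc hflat hsurj
  have h := isLocalOnBase_fpqc_isomorphisms (fun _ : PUnit.{u + 1} => X) (fun _ => f) hY
    (fun _ => hX) hcov f hX (fun _ => X) (fun _ => 𝟙 X) (fun _ => 𝟙 X) (fun _ => hX)
    (fun _ => IsKernelPair.id_of_mono f)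
  exact h.2 fun _ => MorphismProperty.isomorphisms.infer_property _

end Groth.Agent.Lib.Helper14.AS
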