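import Groth.Agent.Lib.Helper14.FpqcCover
import Groth.Agent.Lib.Helper14.AlgSpPoints2

/-!
# Descent of open subsets along fpqc coverings (helper14)
-/

universe u
open CategoryTheory CategoryTheory.Limits AlgebraicGeometry Opposite Topology TopologicalSpace

namespace Groth.Agent.Lib.Helper14.AS

open AlgSp

variable {S : Scheme.{u}}

/-- The topology of `|X|` is the quotient topology for an fpqc covering. -/
theorem points_isOpen_iff_of_isFpqcCover {X : Sp S} {ι : Type u} (Xi : ι → Sp S)
    (g : ∀ i, Xi i ⟶ X) (h : IsFpqcCover Xi g) (E : Set (Points X)) :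
    IsOpen E ↔ ∀ i, IsOpen (Points.map (g i) ⁻¹' E) := by
  constructor
  · intro hE i
    exact hE.preimage (Points.continuous_map (g i))
  · intro H
    rw [points_isOpen_iff_affine]
    intro Z hZ t
    rw [ofPt_preimage_eq, (Points.schemeHomeo Z).isOpen_preimage]
    obtain ⟨m, W, c, hWa, hWf, hWs, hl⟩ := h.2 Z hZ t
    rw [points_isOpen_iff_of_fpqc_family W c hZ hWa hWf hWs]
    intro j
    obtain ⟨i, l, hl⟩ := hl j
    have : Points.map ((yon S).map (c j)) ⁻¹' (Points.map t ⁻¹' E) =
        Points.map l ⁻¹' (Points.map (g i) ⁻¹' E) := by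
      ext w
      simp only [Set.mem_preimage]
      rw [← Points.map_comp, ← Points.map_comp, hl]
    rw [this]
    exact (H i).preimage (Points.continuous_map l)

/-- Descent of open subsets along an fpqc covering. -/
theorem existsUnique_open_descend {X : Sp S} {ι : Type u} (Xi : ι → Sp S)
    (g : ∀ i, Xi i ⟶ X) (h : IsFpqcCover Xi g) (Wi : ∀ i, Set (Points (Xi i)))
    (hW : ∀ i, IsOpen (Wi i))
    (hc : ∀ i j, Points.map (pullback.fst (g i) (g j)) ⁻¹' Wi i =
      Points.map (pullback.snd (g i) (g j)) ⁻¹' Wi j) :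
    ∃! W : Opens (Points X), ∀ i, Points.map (g i) ⁻¹' (W : Set (Points X)) = Wi i := by
  have key : ∀ i, Points.map (g i) ⁻¹' (⋃ j, Points.map (g j) '' Wi j) = Wi i := by
    intro i
    apply Set.Subset.antisymm
    · intro x hx
      obtain ⟨j, y, hy, hxy⟩ := Set.mem_iUnion.1 hx
      obtain ⟨z, hz1, hz2⟩ := points_exists_of_isPullback
        (IsPullback.of_hasPullback (g i) (g j)) x y hxy.symm
      have : z ∈ Points.map (pullback.snd (g i) (g j)) ⁻¹' Wi j := by
        change Points.map _ z ∈ Wi j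
        rw [hz2]; exact hy
      rw [← hc i j] at this
      change Points.map _ z ∈ Wi i at this
      rwa [hz1] at this
    · intro x hx
      exact Set.mem_iUnion.2 ⟨i, x, hx, rfl⟩
  have hopen : IsOpen (⋃ j, Points.map (g j) '' Wi j) := by
    rw [points_isOpen_iff_of_isFpqcCover Xi g h]
    intro i
    rw [key i]
    exact hW i
  refine ⟨⟨_, hopen⟩, key, ?_⟩
  intro W' hW'
  ext x
  obtain ⟨i, y, rfl⟩ := points_exists_of_isFpqcCover Xi g h x
  have h1 : Points.map (g i) y ∈ (W' : Set (Points X)) ↔ y ∈ Wi i := by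
    rw [← hW' i]; rfl
  have h2 : Points.map (g i) y ∈ (⋃ j, Points.map (g j) '' Wi j) ↔ y ∈ Wi i := by
    rw [← key i]; rfl
  exact h1.trans h2.symm

end Groth.Agent.Lib.Helper14.AS
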