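import Groth.Agent.Lib.Helper14.GeomRed2
import Groth.Agent.Lib.Helper14.AlgSpOnePt

universe u
open CategoryTheory CategoryTheory.Limits AlgebraicGeometry Opposite

namespace Groth.Agent.Lib.Helper14.AS
open AlgSp

variable {k : Type u} [Field k] (K : Type u) [Field K] [Algebra k K]
  {X : Sp (Spec (CommRingCat.of k))}

/-- The stalk of `U × Spec K` at `u'` is reduced iff the stalk of `U ⊗_k K` at the corresponding
point is. -/
theorem isReduced_stalk_prod_iff (U : Over (Spec (CommRingCat.of k)))
    (u' : ↥(U ⨯ fieldOver k K).left) :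
    IsReduced ↑((U ⨯ fieldOver k K).left.presheaf.stalk u') ↔
      IsReduced ↑((FBase.bc U.hom K).presheaf.stalk
        ((Over.prodLeftIsoPullback U (fieldOver k K)).hom u')) := by
  let e : (U ⨯ fieldOver k K).left ≅ FBase.bc U.hom K := Over.prodLeftIsoPullback U (fieldOver k K)
  constructor
  · intro h
    exact isReduced_of_injective _ (stalkMap_injective_of_flat e.hom u')
  · intro h
    have hu : e.inv (e.hom u') = u' := by
      change (e.hom ≫ e.inv) u' = u'
      rw [Iso.hom_inv_id]
      rfl
    have := isReduced_of_injective _ (stalkMap_injective_of_flat e.inv (e.hom u'))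
    rwa [hu] at this

set_option backward.isDefEq.respectTransparency.types false in
theorem etaleLocally_isReduced_bc_of_forall_grAt (hX : IsAlgSpace X) (h : ∀ x : Points X, GRAt X x) :
    EtaleLocally (fun U => IsReduced U)
      (X ⨯ (yon (Spec (CommRingCat.of k))).obj (fieldOver k K)) := by
  obtain ⟨U, a, hae, has⟩ := hX.atlas
  refine ⟨U ⨯ fieldOver k K, bcChart K a, repWith_bcChart K a hae,
    repWith_prodChart _ has (repWith_id _ _), ?_⟩
  have : ∀ u' : ↥(U ⨯ fieldOver k K).left,
      IsReduced ↑((U ⨯ fieldOver k K).left.presheaf.stalk u') := by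
    intro u'
    rw [isReduced_stalk_prod_iff]
    have hgr : FBase.IsGeomReducedAt U.hom ((prod.fst : U ⨯ fieldOver k K ⟶ U).left u') :=
      (grAt_ofPt_iff hae _).1 (h _)
    refine hgr K _ ?_
    have e1 : (Over.prodLeftIsoPullback U (fieldOver k K)).hom ≫ FBase.bcπ U.hom K =
        (prod.fst : U ⨯ fieldOver k K ⟶ U).left :=
      Over.prodLeftIsoPullback_hom_fst U (fieldOver k K)
    rw [← e1]
    rfl
  exact isReduced_of_isReduced_stalk _

theorem grAt_of_forall_etaleLocally_isReduced_bc (hX : IsAlgSpace X)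
    (h : ∀ (K : Type u) [Field K] [Algebra k K], EtaleLocally (fun U => IsReduced U)
      (X ⨯ (yon (Spec (CommRingCat.of k))).obj (fieldOver k K))) (x : Points X) : GRAt X x := by
  obtain ⟨U, a, u, ha, hu⟩ := exists_chart_at hX x
  refine ⟨U, a, u, ha, hu, ?_⟩
  intro K _ _ u' hu'
  have hred : IsReduced (U ⨯ fieldOver k K).left :=
    isReduced_of_etale_chart (h K) (bcChart K a) (repWith_bcChart K a ha)
  let e : (U ⨯ fieldOver k K).left ≅ FBase.bc U.hom K := Over.prodLeftIsoPullback U (fieldOver k K)
  have h1 : IsReduced ↑((FBase.bc U.hom K).presheaf.stalk (e.hom (e.inv u'))) :=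
    (isReduced_stalk_prod_iff K U (e.inv u')).1 inferInstance
  have h2 : e.hom (e.inv u') = u' := by
    change (e.inv ≫ e.hom) u' = u'
    rw [Iso.inv_hom_id]
    rfl
  rwa [h2] at h1

end Groth.Agent.Lib.Helper14.AS
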