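import Groth.Prelude.Def_AlgSpDec
import Groth.Prelude.Def_AlgSpOX
import Groth.Agent.Lib.Helper14.AlgSpOnePt
import Groth.Agent.Lib.Helper14.AlgSpPoints

universe u
open CategoryTheory CategoryTheory.Limits AlgebraicGeometry Opposite

namespace Groth.Agent.Lib.Helper14.AS
open AlgSp

variable {S : Scheme.{u}} {X : Sp S}

/-- Restriction of a global function to an object of the small etale site. -/
noncomputable def gres (f : ↥(gsectEt (OEt X))) (E : EtOver X) : Γ(E.obj.left.left, ⊤) :=
  ((limit.π (OEt X).obj (op E)) f).down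

theorem gsect_ext' (f g : ↥(gsectEt (OEt X))) (h : ∀ E : EtOver X, gres f E = gres g E) :
    f = g := by
  apply Concrete.limit_ext
  intro j
  exact ULift.ext _ _ (h j.unop)

theorem gres_zero (E : EtOver X) : gres (0 : ↥(gsectEt (OEt X))) E = 0 := by
  unfold gres
  rw [map_zero]
  rfl

theorem gres_one (E : EtOver X) : gres (1 : ↥(gsectEt (OEt X))) E = 1 := by
  unfold gres
  rw [map_one]
  rfl

theorem gres_mul (f g : ↥(gsectEt (OEt X))) (E : EtOver X) :
    gres (f * g) E = gres f E * gres g E := by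
  unfold gres
  rw [map_mul]
  rfl

theorem gres_map (f : ↥(gsectEt (OEt X))) {E E' : EtOver X} (φ : E ⟶ E') :
    φ.hom.left.left.appTop.hom (gres f E') = gres f E := by
  have h := limit.w (OEt X).obj φ.op
  have h2 := ConcreteCategory.congr_hom h f
  exact congrArg ULift.down h2

theorem mem_basicOpen_gres_iff (f : ↥(gsectEt (OEt X))) {E E' : EtOver X} (φ : E ⟶ E')
    (w : ↥E.obj.left.left) :
    w ∈ E.obj.left.left.basicOpen (gres f E) ↔
      φ.hom.left.left w ∈ E'.obj.left.left.basicOpen (gres f E') := by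
  rw [← gres_map f φ, ← Scheme.preimage_basicOpen_top]
  rfl

/-- The nonvanishing locus of a global function in the space of points. -/
def gD (f : ↥(gsectEt (OEt X))) : Set (Points X) :=
  {x | ∃ (E : EtOver X) (e : ↥E.obj.left.left), Points.ofPt E.obj.hom e = x ∧
    e ∈ E.obj.left.left.basicOpen (gres f E)}

theorem isOpen_gD (f : ↥(gsectEt (OEt X))) : IsOpen (gD f) := by
  have : gD f = ⋃ E : EtOver X, Points.ofPt E.obj.hom ''
      (E.obj.left.left.basicOpen (gres f E) : Set ↥E.obj.left.left) := by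
    ext x
    simp only [gD, Set.mem_setOf_eq, Set.mem_iUnion, Set.mem_image, SetLike.mem_coe]
    constructor
    · rintro ⟨E, e, h1, h2⟩
      exact ⟨E, e, h2, h1⟩
    · rintro ⟨E, e, h2, h1⟩
      exact ⟨E, e, h1, h2⟩
  rw [this]
  exact isOpen_iUnion fun E => isOpenMap_ofPt E.obj.hom E.property _
    (E.obj.left.left.basicOpen (gres f E)).2

theorem gD_inter_subset (f g : ↥(gsectEt (OEt X))) : gD f ∩ gD g ⊆ gD (f * g) := by
  rintro x ⟨⟨E₁, e₁, h1, h1'⟩, ⟨E₂, e₂, h2, h2'⟩⟩
  have sq := E₂.property.1.isPullback' E₁.obj.hom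
  obtain ⟨w, hw2, hw1⟩ := exists_point_of_isPullback_yon sq e₂ e₁ (h2.trans h1.symm)
  refine ⟨EtOver.prodObj E₁ E₂, w, ?_, ?_⟩
  · have h3 := ofPt_yon_map_comp (E₂.property.1.snd E₁.obj.hom) E₁.obj.hom w
    rw [hw1, h1] at h3
    exact h3
  · rw [gres_mul, Scheme.basicOpen_mul]
    refine ⟨(mem_basicOpen_gres_iff f (EtOver.prodFst E₁ E₂) w).2 ?_,
      (mem_basicOpen_gres_iff g (EtOver.prodSnd E₁ E₂) w).2 ?_⟩
    · have : (EtOver.prodFst E₁ E₂).hom.left.left w = e₁ := hw1
      rw [this]
      exact h1'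
    · have : (EtOver.prodSnd E₁ E₂).hom.left.left w = e₂ := hw2
      rw [this]
      exact h2'

theorem gD_zero : gD (0 : ↥(gsectEt (OEt X))) = ∅ := by
  ext x
  simp only [gD, Set.mem_setOf_eq, Set.mem_empty_iff_false, iff_false]
  rintro ⟨E, e, -, h⟩
  rw [gres_zero, Scheme.basicOpen_zero] at h
  exact h

theorem eq_zero_of_gD_eq_empty (hred : EtaleLocally (fun U => IsReduced U) X)
    (f : ↥(gsectEt (OEt X))) (h : gD f = ∅) : f = 0 := by
  apply gsect_ext'
  intro E
  rw [gres_zero]
  have : IsReduced E.obj.left.left := isReduced_of_etale_chart hred E.obj.hom E.property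
  apply (AlgebraicGeometry.basicOpen_eq_bot_iff _).1
  ext e
  simp only [SetLike.mem_coe]
  constructor
  · intro he
    have : Points.ofPt E.obj.hom e ∈ gD f := ⟨E, e, rfl, he⟩
    rw [h] at this
    exact this.elim
  · intro he
    exact he.elim

theorem nontrivial_gsect (hX : IsAlgSpace X) (hne : Nonempty (Points X)) :
    Nontrivial ↥(gsectEt (OEt X)) := by
  refine ⟨⟨0, 1, fun h => ?_⟩⟩
  obtain ⟨x⟩ := hne
  obtain ⟨U, a, hae, has⟩ := hX.atlas
  obtain ⟨u, -⟩ := ofPt_surjective_of_repWith has x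
  have h1 := congrArg (fun f => gres f (EtOver.mk a hae)) h
  simp only [gres_zero, gres_one] at h1
  have hne : Nonempty ↥(⊤ : (EtOver.mk a hae).obj.left.left.Opens) := ⟨⟨u, trivial⟩⟩
  have : Nontrivial Γ((EtOver.mk a hae).obj.left.left, ⊤) :=
    @Scheme.component_nontrivial _ ⊤ hne
  exact zero_ne_one h1

theorem isDomain_gsect (hX : IsAlgSpace X) (hred : EtaleLocally (fun U => IsReduced U) X)
    (hirr : IrreducibleSpace (Points X)) : IsDomain ↥(gsectEt (OEt X)) := by
  have := nontrivial_gsect hX hirr.toNonempty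
  have : NoZeroDivisors ↥(gsectEt (OEt X)) := by
    refine ⟨fun {f g} hfg => ?_⟩
    by_contra hcon
    push Not at hcon
    have hf : (gD f).Nonempty := by
      rw [Set.nonempty_iff_ne_empty]
      exact fun h => hcon.1 (eq_zero_of_gD_eq_empty hred f h)
    have hg : (gD g).Nonempty := by
      rw [Set.nonempty_iff_ne_empty]
      exact fun h => hcon.2 (eq_zero_of_gD_eq_empty hred g h)
    obtain ⟨x, hx⟩ := nonempty_preirreducible_inter (isOpen_gD f) (isOpen_gD g) hf hg
    have := gD_inter_subset f g hx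
    rw [hfg, gD_zero] at this
    exact this
  exact NoZeroDivisors.to_isDomain _

end Groth.Agent.Lib.Helper14.AS
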