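import Groth.Agent.Lib.Helper14.IntGS2
import Groth.Agent.Lib.Helper14.AlgSpFieldQuot
import Groth.Agent.Lib.Helper14.FpqcBase4

universe u
open CategoryTheory CategoryTheory.Limits AlgebraicGeometry Opposite Topology TopologicalSpace

namespace Groth.Agent.Lib.Helper14.AS
open AlgSp

variable {S : Scheme.{u}}

/-- Restriction of global functions to an object of the small etale site, as a ring map. -/
noncomputable def gresHom {X : Sp S} (E : EtOver X) :
    ↥(gsectEt (OEt X)) →+* Γ(E.obj.left.left, ⊤) :=
  (ULift.ringEquiv : ULift.{u + 1} Γ(E.obj.left.left, ⊤) ≃+* Γ(E.obj.left.left, ⊤)).toRingHom.comp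
    (limit.π (OEt X).obj (op E)).hom

theorem gresHom_apply {X : Sp S} (E : EtOver X) (f : ↥(gsectEt (OEt X))) :
    gresHom E f = gres f E := rfl

/-- The morphism to an affine scheme with prescribed map on global functions. -/
noncomputable def toAffineOfRingHom (Y T : Scheme.{u}) [IsAffine T] (ψ : Γ(T, ⊤) →+* Γ(Y, ⊤)) :
    Y ⟶ T :=
  Y.toSpecΓ ≫ Spec.map (CommRingCat.ofHom ψ) ≫ T.isoSpec.inv

theorem toAffineOfRingHom_appTop (Y T : Scheme.{u}) [IsAffine T] (ψ : Γ(T, ⊤) →+* Γ(Y, ⊤)) :
    (toAffineOfRingHom Y T ψ).appTop = CommRingCat.ofHom ψ := by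
  unfold toAffineOfRingHom
  rw [Scheme.Hom.comp_appTop, Scheme.Hom.comp_appTop, isoSpec_inv_appTop', Scheme.toSpecΓ_appTop]
  have h : CommRingCat.ofHom ψ ≫ (Scheme.ΓSpecIso Γ(Y, ⊤)).inv =
      (Scheme.ΓSpecIso Γ(T, ⊤)).inv ≫ (Spec.map (CommRingCat.ofHom ψ)).appTop :=
    Scheme.ΓSpecIso_inv_naturality (CommRingCat.ofHom ψ)
  rw [← h, Category.assoc, Iso.inv_hom_id, Category.comp_id]

set_option backward.isDefEq.respectTransparency.types false in
/-- Morphisms from an algebraic space over a terminal base to an affine scheme correspond to ring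
maps from the functions of the target to the global functions of the source. -/
theorem existsUnique_hom_to_affine (hS : IsTerminal S) (X : Space S) (T : Over S)
    [IsAffine T.left] (φ : Γ(T.left, ⊤) →+* ↥(gsectEt (OEt X.obj))) :
    ∃! f : X.obj ⟶ (yon S).obj T, ∀ (E : EtOver X.obj) (r : Γ(T.left, ⊤)),
      gres (φ r) E = ((yon S).preimage (E.obj.hom ≫ f)).left.appTop.hom r := by
  obtain ⟨U, a, hae, has⟩ := X.property.atlas
  -- the morphisms on the objects of the site
  obtain ⟨g, hg⟩ : ∃ g : ∀ E : EtOver X.obj, E.obj.left ⟶ T,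
      ∀ E, (g E).left.appTop = CommRingCat.ofHom ((gresHom E).comp φ) := by
    refine ⟨fun E => Over.homMk (toAffineOfRingHom E.obj.left.left T.left ((gresHom E).comp φ))
      (hS.hom_ext _ _), fun E => ?_⟩
    exact toAffineOfRingHom_appTop _ _ _
  have hg' : ∀ (E : EtOver X.obj) (r : Γ(T.left, ⊤)), (g E).left.appTop.hom r = gres (φ r) E := by
    intro E r
    rw [hg E]
    rfl
  have hext : ∀ {W : Over S} (k k' : W ⟶ T),
      (∀ r : Γ(T.left, ⊤), k.left.appTop.hom r = k'.left.appTop.hom r) → k = k' := by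
    intro W k k' h
    apply Over.OverMorphism.ext
    apply ext_of_isAffine
    ext r
    exact h r
  have hcompat : ∀ {E' E : EtOver X.obj} (ψ : E' ⟶ E), ψ.hom.left ≫ g E = g E' := by
    intro E' E ψ
    apply hext
    intro r
    rw [Over.comp_left, Scheme.Hom.comp_appTop, CommRingCat.hom_comp, RingHom.comp_apply, hg', hg',
      gres_map]
  have hepi : Epi a := epi_of_etale_surjective a hae has
  have sq := hae.rep.isPullback' a
  have hc : (yon S).map (hae.rep.fst' a) ≫ (yon S).map (g (EtOver.mk a hae)) =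
      (yon S).map (hae.rep.snd a) ≫ (yon S).map (g (EtOver.mk a hae)) := by
    rw [← Functor.map_comp, ← Functor.map_comp]
    have h1 := hcompat (EtOver.prodFst (EtOver.mk a hae) (EtOver.mk a hae))
    have h2 := hcompat (EtOver.prodSnd (EtOver.mk a hae) (EtOver.mk a hae))
    exact congrArg _ (h2.trans h1.symm)
  obtain ⟨f, hf⟩ := exists_desc_of_epi_kernel_pair sq ((yon S).map (g (EtOver.mk a hae))) hc
  have hprop : ∀ (E : EtOver X.obj) (r : Γ(T.left, ⊤)),
      gres (φ r) E = ((yon S).preimage (E.obj.hom ≫ f)).left.appTop.hom r := by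
    intro E r
    have hsurj : Surjective (EtOver.prodFst E (EtOver.mk a hae)).hom.left.left :=
      has.property E.obj.hom _ _ (hae.rep.isPullback E.obj.hom)
    have het : Etale (EtOver.prodFst E (EtOver.mk a hae)).hom.left.left :=
      hae.property_snd E.obj.hom
    apply appTop_injective_of_flat_surjective (EtOver.prodFst E (EtOver.mk a hae)).hom.left.left
    have h1 : (EtOver.prodFst E (EtOver.mk a hae)).hom.left ≫ (yon S).preimage (E.obj.hom ≫ f) =
        (EtOver.prodFst E (EtOver.mk a hae)).hom.left ≫ g E := by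
      apply (yon S).map_injective
      rw [Functor.map_comp, Functor.map_preimage, ← Category.assoc, EtOver.w,
        hcompat (EtOver.prodFst E (EtOver.mk a hae)),
        ← hcompat (EtOver.prodSnd E (EtOver.mk a hae)), Functor.map_comp, ← hf,
        ← Category.assoc]
      congr 1
      exact (EtOver.w (EtOver.prodSnd E (EtOver.mk a hae))).symm
    have h2 := congrArg (fun k => k.left.appTop.hom r) h1
    simp only [Over.comp_left, Scheme.Hom.comp_appTop, CommRingCat.hom_comp,
      RingHom.comp_apply] at h2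
    rw [h2, hg']
  refine ⟨f, hprop, fun f' hf' => ?_⟩
  rw [← cancel_epi a]
  have h3 : (yon S).preimage (a ≫ f') = (yon S).preimage (a ≫ f) := by
    apply hext
    intro r
    have e1 := hf' (EtOver.mk a hae) r
    have e2 := hprop (EtOver.mk a hae) r
    exact e1.symm.trans e2
  have h4 := congrArg (yon S).map h3
  rw [Functor.map_preimage, Functor.map_preimage] at h4
  exact h4

end Groth.Agent.Lib.Helper14.AS
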