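import Groth.Prelude.Def_W4c6eohyperellchar2Gc
import Mathlib.FieldTheory.Perfect
import Mathlib.LinearAlgebra.Quotient.Basic
import Mathlib.LinearAlgebra.LinearIndependent.Defs
import Mathlib.LinearAlgebra.StdBasis

/-!
# Basic computations in the explicit Dieudonne-type module `GcMod` (helper14)
-/

universe u

namespace Groth.Agent.Lib.Helper14.Gc

open W4c6eohyperellchar2

variable (c : ℕ) (k : Type u) [Field k]

theorem coefX_X (n m : ℕ) : coefX (X c k n) m = if 1 ≤ m ∧ m ≤ c ∧ m = n then (1 : k) else 0 := by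
  unfold coefX X
  split_ifs with h1 h2 h3 <;> simp_all <;> omega

theorem coefY_X (n m : ℕ) : coefY (X c k n) m = (0 : k) := by
  unfold coefY X
  split_ifs <;> simp

theorem coefX_Y (n m : ℕ) : coefX (Y c k n) m = (0 : k) := by
  unfold coefX Y
  split_ifs <;> simp

theorem coefY_Y (n m : ℕ) : coefY (Y c k n) m = if 1 ≤ m ∧ m ≤ c ∧ m = n then (1 : k) else 0 := by
  unfold coefY Y
  split_ifs with h1 h2 h3 <;> simp_all <;> omega

theorem F_Y (n : ℕ) : F c k (Y c k n) = 0 := by
  unfold F
  simp only [coefX_Y]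
  ext i <;> simp

theorem F_X_even (n : ℕ) (hn : 2 * n ≤ c) : F c k (X c k (2 * n)) = X c k n := by
  unfold F
  simp only [coefX_X]
  ext i
  · simp only [X]
    split_ifs <;> simp_all <;> omega
  · have : ¬ (2 * (c - (i.val + 1)) + 1 = 2 * n) := by omega
    simp [X, this]

theorem F_X_odd (n : ℕ) (hn : 2 * n + 1 ≤ c) : F c k (X c k (2 * n + 1)) = Y c k (c - n) := by
  unfold F
  simp only [coefX_X]
  ext i
  · simp only [Y]
    split_ifs <;> simp_all <;> omega
  · simp only [Y]
    split_ifs <;> simp_all <;> omega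

variable [CharP k 2] [PerfectRing k 2]

theorem V_Y (n : ℕ) (h1 : 1 ≤ n) (hn : 2 * n ≤ c) : V c k (Y c k n) = Y c k (2 * n) := by
  unfold V
  simp only [coefX_Y, coefY_Y]
  ext i
  · simp [Y]
  · simp only [Y]
    split_ifs <;> simp_all <;> omega

theorem V_Y_zero (n : ℕ) (hn : c < 2 * n) : V c k (Y c k n) = 0 := by
  unfold V
  simp only [coefX_Y, coefY_Y]
  ext i
  · simp
  · simp only
    split_ifs <;> simp_all <;> omega

theorem V_X (n : ℕ) (hn : n ≤ c) (h : c < 2 * n) : V c k (X c k n) = Y c k (2 * c - 2 * n + 1) := by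
  unfold V
  simp only [coefX_X, coefY_X]
  ext i
  · simp [Y]
  · simp only [Y]
    split_ifs <;> simp_all <;> omega

omit [CharP k 2] [PerfectRing k 2] in
theorem F_iter_X (l : ℕ) : ∀ e : ℕ, 2 ^ e * l ≤ c → (F c k)^[e] (X c k (2 ^ e * l)) = X c k l := by
  intro e
  induction e with
  | zero => intro _; simp
  | succ e ih =>
    intro h
    rw [Function.iterate_succ_apply, pow_succ, mul_comm (2 ^ e) 2, mul_assoc, F_X_even c k _ (by
      rw [pow_succ, mul_comm (2 ^ e) 2, mul_assoc] at h; exact h)]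
    apply ih
    rw [pow_succ, mul_comm (2 ^ e) 2, mul_assoc] at h
    omega

theorem V_iter_Y (m : ℕ) (h1 : 1 ≤ m) : ∀ n : ℕ, 2 ^ n * m ≤ c →
    (V c k)^[n] (Y c k m) = Y c k (2 ^ n * m) := by
  intro n
  induction n with
  | zero => intro _; simp
  | succ n ih =>
    intro h
    have h' : 2 * (2 ^ n * m) ≤ c := by
      rw [pow_succ, mul_comm (2 ^ n) 2, mul_assoc] at h; exact h
    rw [Function.iterate_succ_apply', ih (by omega), V_Y c k _ (Nat.one_le_iff_ne_zero.2 (by positivity)) h']
    rw [pow_succ, mul_comm (2 ^ n) 2, mul_assoc]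

theorem eq_sum (v : GcMod c k) :
    v = ∑ i : Fin c, (v.1 i • X c k (i.val + 1)) + ∑ i : Fin c, (v.2 i • Y c k (i.val + 1)) := by
  ext i'
  · simp [X, Y, Prod.fst_sum, Finset.sum_apply, Fin.val_inj, eq_comm]
  · simp [X, Y, Prod.snd_sum, Finset.sum_apply, Fin.val_inj, eq_comm]

/-- projection to the `X_j`-coordinates with `c < 2 j`. -/
noncomputable def topProj : GcMod c k →ₗ[k] (Fin c → k) :=
  LinearMap.pi fun i => if c < 2 * (i.val + 1) then
    (LinearMap.proj i).comp (LinearMap.fst k (Fin c → k) (Fin c → k)) else 0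

theorem topProj_apply (v : GcMod c k) (i : Fin c) :
    topProj c k v i = if c < 2 * (i.val + 1) then v.1 i else 0 := by
  unfold topProj
  simp only [LinearMap.pi_apply]
  split_ifs <;> simp


theorem topProj_F (v : GcMod c k) : topProj c k (F c k v) = 0 := by
  ext i
  rw [topProj_apply]
  split_ifs with h
  · simp only [F, coefX]
    rw [dif_neg (by omega)]
    simp
  · rfl

theorem topProj_V (v : GcMod c k) : topProj c k (V c k v) = 0 := by
  ext i
  rw [topProj_apply]
  split_ifs with h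
  · simp [V]
  · rfl

theorem span_le_ker :
    Submodule.span k (Set.range (F c k) ∪ Set.range (V c k)) ≤ LinearMap.ker (topProj c k) := by
  rw [Submodule.span_le]
  rintro _ (⟨v, rfl⟩ | ⟨v, rfl⟩)
  · exact topProj_F c k v
  · exact topProj_V c k v

end Groth.Agent.Lib.Helper14.Gc
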