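import Mathlib
import Groth.Agent.Lib.Helper21.Comp1

/-!
# Decomposing an extension of a composite valuation ring (helper14)

Let `B₁` be a valuation subring of `Ω₁`, `A₁` a valuation subring of its residue field and
`C₁` their composite.  Let `ψ : Ω₁ → L'` be a field extension and `Cs` a valuation subring of `L'`
with `Cs ∩ Ω₁ = C₁`.  We construct a valuation subring `B' ⊇ Cs` of `L'` with `B' ∩ Ω₁ = B₁`, and
show that the image `D'` of `Cs` in the residue field of `B'` is a valuation subring restricting to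
`A₁`.
-/

universe u

noncomputable section

namespace Groth.Agent.Lib.Helper14.AS

open IsLocalRing Groth.Agent.Lib.Helper21

section Main

variable {Ω₁ L' : Type u} [Field Ω₁] [Field L'] (ψ : Ω₁ →+* L') (B₁ : ValuationSubring Ω₁)
  (A₁ : ValuationSubring (ResidueField B₁)) (Cs : ValuationSubring L')

/-- The overring of `Cs` obtained by inverting the elements of the composite which are units of
`B₁`. -/
def ovr (hC : Cs.comap ψ = Comp.composite B₁ A₁) : ValuationSubring L' where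
  carrier := {x | ∃ s : Ω₁, s ∈ Comp.composite B₁ A₁ ∧ s⁻¹ ∈ B₁ ∧ s ≠ 0 ∧ ψ s * x ∈ Cs}
  zero_mem' := ⟨1, one_mem _, by rw [inv_one]; exact one_mem _, one_ne_zero, by
    rw [mul_zero]; exact zero_mem _⟩
  one_mem' := ⟨1, one_mem _, by rw [inv_one]; exact one_mem _, one_ne_zero, by
    rw [map_one, mul_one]; exact one_mem _⟩
  add_mem' := by
    rintro x y ⟨s, hs1, hs2, hs3, hs4⟩ ⟨t, ht1, ht2, ht3, ht4⟩
    refine ⟨s * t, mul_mem hs1 ht1, by rw [mul_inv]; exact mul_mem hs2 ht2, mul_ne_zero hs3 ht3, ?_⟩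
    have hψs : ψ s ∈ Cs := by
      have : s ∈ Cs.comap ψ := hC ▸ hs1
      exact this
    have hψt : ψ t ∈ Cs := by
      have : t ∈ Cs.comap ψ := hC ▸ ht1
      exact this
    have : ψ (s * t) * (x + y) = ψ t * (ψ s * x) + ψ s * (ψ t * y) := by
      rw [map_mul]; ring
    rw [this]
    exact add_mem (mul_mem hψt hs4) (mul_mem hψs ht4)
  neg_mem' := by
    rintro x ⟨s, hs1, hs2, hs3, hs4⟩
    refine ⟨s, hs1, hs2, hs3, ?_⟩
    rw [mul_neg]
    exact neg_mem hs4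
  mul_mem' := by
    rintro x y ⟨s, hs1, hs2, hs3, hs4⟩ ⟨t, ht1, ht2, ht3, ht4⟩
    refine ⟨s * t, mul_mem hs1 ht1, by rw [mul_inv]; exact mul_mem hs2 ht2, mul_ne_zero hs3 ht3, ?_⟩
    have : ψ (s * t) * (x * y) = (ψ s * x) * (ψ t * y) := by
      rw [map_mul]; ring
    rw [this]
    exact mul_mem hs4 ht4
  mem_or_inv_mem' := by
    intro x
    rcases Cs.mem_or_inv_mem x with h | h
    · exact Or.inl ⟨1, one_mem _, by rw [inv_one]; exact one_mem _, one_ne_zero, by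
        rw [map_one, one_mul]; exact h⟩
    · exact Or.inr ⟨1, one_mem _, by rw [inv_one]; exact one_mem _, one_ne_zero, by
        rw [map_one, one_mul]; exact h⟩

variable (hC : Cs.comap ψ = Comp.composite B₁ A₁)

theorem mem_ovr_iff (x : L') : x ∈ ovr ψ B₁ A₁ Cs hC ↔
    ∃ s : Ω₁, s ∈ Comp.composite B₁ A₁ ∧ s⁻¹ ∈ B₁ ∧ s ≠ 0 ∧ ψ s * x ∈ Cs := Iff.rfl

theorem le_ovr : Cs ≤ ovr ψ B₁ A₁ Cs hC := by
  intro x hx
  exact ⟨1, one_mem _, by rw [inv_one]; exact one_mem _, one_ne_zero, by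
    rw [map_one, one_mul]; exact hx⟩

theorem ovr_comap : (ovr ψ B₁ A₁ Cs hC).comap ψ = B₁ := by
  ext x
  rw [ValuationSubring.mem_comap, mem_ovr_iff]
  constructor
  · rintro ⟨s, hs1, hs2, hs3, hs4⟩
    have h1 : s * x ∈ Cs.comap ψ := by
      rw [ValuationSubring.mem_comap, map_mul]; exact hs4
    rw [hC] at h1
    have h2 : s * x ∈ B₁ := Comp.composite_le B₁ A₁ _ h1
    have h3 : x = s⁻¹ * (s * x) := by
      rw [← mul_assoc, inv_mul_cancel₀ hs3, one_mul]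
    rw [h3]
    exact mul_mem hs2 h2
  · intro hx
    by_cases hxC : x ∈ Comp.composite B₁ A₁
    · refine ⟨1, one_mem _, by rw [inv_one]; exact one_mem _, one_ne_zero, ?_⟩
      rw [map_one, one_mul]
      have : x ∈ Cs.comap ψ := hC ▸ hxC
      exact this
    · have hinv : x⁻¹ ∈ Comp.composite B₁ A₁ :=
        ((Comp.composite B₁ A₁).mem_or_inv_mem x).resolve_left hxC
      have hx0 : x ≠ 0 := fun h0 => hxC (h0 ▸ zero_mem _)
      refine ⟨x⁻¹, hinv, by rw [inv_inv]; exact hx, inv_ne_zero hx0, ?_⟩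
      rw [← map_mul, inv_mul_cancel₀ hx0, map_one]
      exact one_mem _

/-- The restriction of `ψ` to `B₁ → B'`. -/
def ovrMap : B₁ →+* ovr ψ B₁ A₁ Cs hC :=
  (ψ.comp B₁.subtype).codRestrict (ovr ψ B₁ A₁ Cs hC).toSubring (fun b => by
    have : (b : Ω₁) ∈ (ovr ψ B₁ A₁ Cs hC).comap ψ := by rw [ovr_comap]; exact b.2
    exact this)

instance ovrMap_isLocalHom : IsLocalHom (ovrMap ψ B₁ A₁ Cs hC) := by
  constructor
  intro b hb
  obtain ⟨y, hy⟩ := hb.exists_right_inv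
  have h1 : ψ (b : Ω₁) * (y : L') = 1 := congrArg Subtype.val hy
  have hb0 : (b : Ω₁) ≠ 0 := by
    intro h0
    rw [h0, map_zero, zero_mul] at h1
    exact zero_ne_one h1
  have h2 : (y : L') = ψ ((b : Ω₁)⁻¹) := by
    rw [map_inv₀]
    exact eq_inv_of_mul_eq_one_right h1
  have h3 : (b : Ω₁)⁻¹ ∈ (ovr ψ B₁ A₁ Cs hC).comap ψ := by
    rw [ValuationSubring.mem_comap, ← h2]; exact y.2
  rw [ovr_comap] at h3
  exact IsUnit.of_mul_eq_one ⟨(b : Ω₁)⁻¹, h3⟩ (Subtype.ext (mul_inv_cancel₀ hb0))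

/-- The induced map of residue fields. -/
def resMap : ResidueField B₁ →+* ResidueField (ovr ψ B₁ A₁ Cs hC) :=
  ResidueField.map (ovrMap ψ B₁ A₁ Cs hC)

/-- The maximal ideal of an overring is contained in the smaller valuation subring. -/
theorem mem_of_mem_maximalIdeal {K : Type u} [Field K] {A B : ValuationSubring K} (hAB : A ≤ B)
    (m : B) (hm : m ∈ maximalIdeal B) : (m : K) ∈ A := by
  by_contra hmA
  have hinv : (m : K)⁻¹ ∈ A := (A.mem_or_inv_mem _).resolve_left hmA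
  have hm0 : (m : K) ≠ 0 := fun h0 => hmA (h0 ▸ zero_mem _)
  have hu : IsUnit m :=
    IsUnit.of_mul_eq_one ⟨(m : K)⁻¹, hAB hinv⟩ (Subtype.ext (mul_inv_cancel₀ hm0))
  exact hm hu

/-- The image of `Cs` in the residue field of `B'`. -/
def quo : ValuationSubring (ResidueField (ovr ψ B₁ A₁ Cs hC)) where
  toSubring := (Cs.toSubring.comap (ovr ψ B₁ A₁ Cs hC).subtype).map
    (residue (ovr ψ B₁ A₁ Cs hC))
  mem_or_inv_mem' := by
    intro z
    obtain ⟨x, rfl⟩ := residue_surjective z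
    by_cases hu : IsUnit x
    · obtain ⟨y, hy⟩ := hu.exists_right_inv
      have hyK : (x : L') * (y : L') = 1 := congrArg Subtype.val hy
      have hinv : (x : L')⁻¹ = (y : L') := (eq_inv_of_mul_eq_one_right hyK).symm
      have hres : residue _ x * residue _ y = 1 := by rw [← map_mul, hy, map_one]
      rcases Cs.mem_or_inv_mem (x : L') with h | h
      · exact Or.inl ⟨x, h, rfl⟩
      · refine Or.inr ⟨y, ?_, ?_⟩
        · change (y : L') ∈ Cs
          rw [← hinv]; exact h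
        · exact eq_inv_of_mul_eq_one_right hres
    · refine Or.inl ⟨x, ?_, rfl⟩
      exact mem_of_mem_maximalIdeal (le_ovr ψ B₁ A₁ Cs hC) x ((mem_maximalIdeal _).mpr hu)

theorem mem_quo_iff (z : ResidueField (ovr ψ B₁ A₁ Cs hC)) : z ∈ quo ψ B₁ A₁ Cs hC ↔
    ∃ x : ovr ψ B₁ A₁ Cs hC, (x : L') ∈ Cs ∧ residue _ x = z := Iff.rfl

theorem quo_comap : (quo ψ B₁ A₁ Cs hC).comap (resMap ψ B₁ A₁ Cs hC) = A₁ := by
  ext z
  obtain ⟨b, rfl⟩ := residue_surjective z
  rw [ValuationSubring.mem_comap, mem_quo_iff]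
  have hσ : resMap ψ B₁ A₁ Cs hC (residue B₁ b) = residue _ (ovrMap ψ B₁ A₁ Cs hC b) :=
    ResidueField.map_residue _ _
  constructor
  · rintro ⟨x, hx, hxz⟩
    rw [hσ] at hxz
    -- `x - β b` lies in the maximal ideal, hence in `Cs`
    have hm : x - ovrMap ψ B₁ A₁ Cs hC b ∈ maximalIdeal (ovr ψ B₁ A₁ Cs hC) := by
      rw [← residue_eq_zero_iff, map_sub, hxz, sub_self]
    have hmC : ((x - ovrMap ψ B₁ A₁ Cs hC b : ovr ψ B₁ A₁ Cs hC) : L') ∈ Cs :=
      mem_of_mem_maximalIdeal (le_ovr ψ B₁ A₁ Cs hC) _ hm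
    have hψb : ψ (b : Ω₁) ∈ Cs := by
      have h1 : ψ (b : Ω₁) = (x : L') - ((x - ovrMap ψ B₁ A₁ Cs hC b : ovr ψ B₁ A₁ Cs hC) : L') := by
        change ψ (b : Ω₁) = (x : L') - ((x : L') - ψ (b : Ω₁))
        ring
      rw [h1]
      exact sub_mem hx hmC
    have hbC : (b : Ω₁) ∈ Comp.composite B₁ A₁ := by
      rw [← hC]; exact hψb
    obtain ⟨hb', hb''⟩ := (Comp.mem_composite_iff B₁ A₁ _).mp hbC
    exact hb''
  · intro hz
    have hbC : (b : Ω₁) ∈ Comp.composite B₁ A₁ :=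
      (Comp.mem_composite_iff B₁ A₁ _).mpr ⟨b.2, hz⟩
    have hψb : ψ (b : Ω₁) ∈ Cs := by
      have : (b : Ω₁) ∈ Cs.comap ψ := hC ▸ hbC
      exact this
    exact ⟨ovrMap ψ B₁ A₁ Cs hC b, hψb, hσ.symm⟩

/-- The restriction of a field homomorphism to valuation subrings is local when the source is the
preimage of the target. -/
theorem isLocalHom_of_comap_eq {K L : Type u} [Field K] [Field L] (θ : K →+* L)
    (V : ValuationSubring K) (V' : ValuationSubring L) (hV : V'.comap θ = V)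
    (h : ∀ a : V, θ a ∈ V') : IsLocalHom ((θ.comp V.subtype).codRestrict V'.toSubring h) := by
  constructor
  intro b hb
  obtain ⟨y, hy⟩ := hb.exists_right_inv
  have h1 : θ (b : K) * (y : L) = 1 := congrArg Subtype.val hy
  have hb0 : (b : K) ≠ 0 := by
    intro h0
    rw [h0, map_zero, zero_mul] at h1
    exact zero_ne_one h1
  have h2 : (y : L) = θ ((b : K)⁻¹) := by
    rw [map_inv₀]
    exact eq_inv_of_mul_eq_one_right h1
  have h3 : (b : K)⁻¹ ∈ V'.comap θ := by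
    rw [ValuationSubring.mem_comap, ← h2]; exact y.2
  rw [hV] at h3
  exact IsUnit.of_mul_eq_one ⟨(b : K)⁻¹, h3⟩ (Subtype.ext (mul_inv_cancel₀ hb0))

/-- The map `A₁ → D'`. -/
def quoMap : A₁ →+* quo ψ B₁ A₁ Cs hC :=
  ((resMap ψ B₁ A₁ Cs hC).comp A₁.subtype).codRestrict (quo ψ B₁ A₁ Cs hC).toSubring (fun a => by
    have : (a : ResidueField B₁) ∈ (quo ψ B₁ A₁ Cs hC).comap (resMap ψ B₁ A₁ Cs hC) := by
      rw [quo_comap]; exact a.2
    exact this)

instance quoMap_isLocalHom : IsLocalHom (quoMap ψ B₁ A₁ Cs hC) :=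
  isLocalHom_of_comap_eq (resMap ψ B₁ A₁ Cs hC) A₁ (quo ψ B₁ A₁ Cs hC) (quo_comap ψ B₁ A₁ Cs hC) _

end Main

/-- The image of a valuation ring in its fraction field, as a valuation subring. -/
def rangeVS (C' L' : Type u) [CommRing C'] [IsDomain C'] [ValuationRing C'] [Field L']
    [Algebra C' L'] [IsFractionRing C' L'] : ValuationSubring L' where
  toSubring := (algebraMap C' L').range
  mem_or_inv_mem' := by
    intro x
    rcases ValuationRing.isInteger_or_isInteger C' x with ⟨c, hc⟩ | ⟨c, hc⟩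
    · exact Or.inl ⟨c, hc⟩
    · exact Or.inr ⟨c, hc⟩

section fromRing

variable {Ω₁ L' : Type u} [Field Ω₁] [Field L'] (ψ : Ω₁ →+* L') (B₁ : ValuationSubring Ω₁)
  (A₁ : ValuationSubring (ResidueField B₁))
  {C' : Type u} [CommRing C'] [IsDomain C'] [ValuationRing C'] [Algebra C' L'] [IsFractionRing C' L']


theorem rangeVS_comap (φ : Comp.composite B₁ A₁ →+* C') [IsLocalHom φ]
    (comm : ∀ c, algebraMap C' L' (φ c) = ψ c) :
    (rangeVS C' L').comap ψ = Comp.composite B₁ A₁ := by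
  have h : ∀ a : Comp.composite B₁ A₁, ψ a ∈ rangeVS C' L' := fun a => ⟨φ a, comm a⟩
  refine Comp.comap_eq_of_isLocalHom ψ _ _ h ?_
  constructor
  intro c hc
  obtain ⟨y, hy⟩ := hc.exists_right_inv
  obtain ⟨c'', hc''⟩ := y.2
  have h1 : ψ (c : Ω₁) * (y : L') = 1 := congrArg Subtype.val hy
  have h2 : algebraMap C' L' (φ c * c'') = algebraMap C' L' 1 := by
    rw [map_mul, comm, hc'', h1, map_one]
  have h3 : φ c * c'' = 1 := IsFractionRing.injective C' L' h2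
  exact isUnit_of_map_unit φ c (IsUnit.of_mul_eq_one _ h3)

variable (φ : Comp.composite B₁ A₁ →+* C') [IsLocalHom φ]
  (comm : ∀ c, algebraMap C' L' (φ c) = ψ c)

/-- The map `C' → B'`. -/
def lamMap : C' →+* ovr ψ B₁ A₁ (rangeVS C' L') (rangeVS_comap ψ B₁ A₁ φ comm) :=
  (algebraMap C' L').codRestrict (ovr ψ B₁ A₁ (rangeVS C' L') (rangeVS_comap ψ B₁ A₁ φ comm)).toSubring
    (fun c => le_ovr ψ B₁ A₁ _ _ ⟨c, rfl⟩)

/-- The map `C' → D'`. -/
def piMap : C' →+* quo ψ B₁ A₁ (rangeVS C' L') (rangeVS_comap ψ B₁ A₁ φ comm) :=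
  ((residue _).comp (lamMap ψ B₁ A₁ φ comm)).codRestrict
    (quo ψ B₁ A₁ (rangeVS C' L') (rangeVS_comap ψ B₁ A₁ φ comm)).toSubring
    (fun c => ⟨lamMap ψ B₁ A₁ φ comm c, ⟨c, rfl⟩, rfl⟩)

theorem lamMap_comp (c : Comp.composite B₁ A₁) :
    lamMap ψ B₁ A₁ φ comm (φ c) = ovrMap ψ B₁ A₁ _ _ (Comp.toFst B₁ A₁ c) := by
  apply Subtype.ext
  exact comm c

theorem piMap_comp (c : Comp.composite B₁ A₁) :
    piMap ψ B₁ A₁ φ comm (φ c) = quoMap ψ B₁ A₁ _ _ (Comp.toSnd B₁ A₁ c) := by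
  apply Subtype.ext
  change residue _ (lamMap ψ B₁ A₁ φ comm (φ c)) =
    resMap ψ B₁ A₁ _ _ (residue B₁ (Comp.toFst B₁ A₁ c))
  rw [lamMap_comp]
  exact (ResidueField.map_residue _ _).symm

include comm in
/-- Packaged form of the decomposition. -/
theorem exists_decomposition :
    ∃ (B' : ValuationSubring L') (D' : ValuationSubring (ResidueField B')) (lam : C' →+* B')
      (π : C' →+* D') (β : B₁ →+* B') (σ : ResidueField B₁ →+* ResidueField B') (δ : A₁ →+* D'),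
      IsLocalHom δ ∧
      (∀ c, (lam c : L') = algebraMap C' L' c) ∧
      (∀ b : B₁, (β b : L') = ψ b) ∧
      (∀ c, (π c : ResidueField B') = residue B' (lam c)) ∧
      (∀ b, σ (residue B₁ b) = residue B' (β b)) ∧
      (∀ a : A₁, (δ a : ResidueField B') = σ a) ∧
      (∀ c, lam (φ c) = β (Comp.toFst B₁ A₁ c)) ∧
      (∀ c, π (φ c) = δ (Comp.toSnd B₁ A₁ c)) :=
  ⟨ovr ψ B₁ A₁ (rangeVS C' L') (rangeVS_comap ψ B₁ A₁ φ comm),
    quo ψ B₁ A₁ (rangeVS C' L') (rangeVS_comap ψ B₁ A₁ φ comm),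
    lamMap ψ B₁ A₁ φ comm, piMap ψ B₁ A₁ φ comm, ovrMap ψ B₁ A₁ _ _, resMap ψ B₁ A₁ _ _,
    quoMap ψ B₁ A₁ _ _, quoMap_isLocalHom ψ B₁ A₁ _ _, fun _ => rfl, fun _ => rfl, fun _ => rfl,
    fun b => ResidueField.map_residue _ b, fun _ => rfl, lamMap_comp ψ B₁ A₁ φ comm,
    piMap_comp ψ B₁ A₁ φ comm⟩

end fromRing

end Groth.Agent.Lib.Helper14.AS
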