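import Mathlib

/-!
# Extending a valuation ring so that its residue field contains a given extension (helper14)
-/

universe u

noncomputable section

namespace Groth.Agent.Lib.Helper14.AS

open IsLocalRing

/-- Given a valuation subring `B₀` of a field `Ω₀` and an extension `Ω` of its residue field,
there is a valuation subring `B₁` of an extension `Ω₁` of `Ω₀`, containing the image of `B₀`, whose
residue field contains `Ω` compatibly. -/
theorem exists_valuationSubring_residue_extension {Ω₀ : Type u} [Field Ω₀]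
    (B₀ : ValuationSubring Ω₀) {Ω : Type u} [Field Ω] (iB : ResidueField B₀ →+* Ω) :
    ∃ (Ω₁ : Type u) (_ : Field Ω₁) (B₁ : ValuationSubring Ω₁) (ε : B₀ →+* B₁) (εΩ : Ω₀ →+* Ω₁)
      (j : Ω →+* ResidueField B₁),
      (∀ b : B₀, ((ε b : B₁) : Ω₁) = εΩ (b : Ω₀)) ∧
      (∀ b : B₀, j (iB (residue B₀ b)) = residue B₁ (ε b)) := by
  classical
  let ev : MvPolynomial Ω B₀ →+* Ω := MvPolynomial.eval₂Hom (iB.comp (residue B₀)) id
  have hevX : ∀ ω : Ω, ev (MvPolynomial.X ω) = ω := fun ω => MvPolynomial.eval₂_X _ _ _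
  have hevC : ∀ b : B₀, ev (MvPolynomial.C b) = iB (residue B₀ b) := fun b =>
    MvPolynomial.eval₂_C _ _ _
  have hev : Function.Surjective ev := fun ω => ⟨MvPolynomial.X ω, hevX ω⟩
  let 𝔐 : Ideal (MvPolynomial Ω B₀) := RingHom.ker ev
  have h𝔐 : 𝔐.IsMaximal := RingHom.ker_isMaximal_of_surjective ev hev
  have h𝔐p : 𝔐.IsPrime := h𝔐.isPrime
  have hunits : ∀ y : 𝔐.primeCompl,
      IsUnit (algebraMap (MvPolynomial Ω B₀) (FractionRing (MvPolynomial Ω B₀)) y) := by
    intro y
    apply IsUnit.mk0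
    intro h0
    have h1 : (y : MvPolynomial Ω B₀) = 0 :=
      (IsFractionRing.injective (MvPolynomial Ω B₀) (FractionRing (MvPolynomial Ω B₀)))
        (by rw [h0, map_zero])
    exact y.2 (by rw [h1]; exact 𝔐.zero_mem)
  let g : Localization.AtPrime 𝔐 →+* FractionRing (MvPolynomial Ω B₀) :=
    IsLocalization.lift (M := 𝔐.primeCompl) hunits
  have hg : ∀ p : MvPolynomial Ω B₀, g (algebraMap _ (Localization.AtPrime 𝔐) p) =
      algebraMap _ (FractionRing (MvPolynomial Ω B₀)) p := fun p =>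
    IsLocalization.lift_eq hunits p
  obtain ⟨B₁, hB₁, hloc⟩ := IsLocalRing.exists_factor_valuationRing
    (R := Localization.AtPrime 𝔐) (K := FractionRing (MvPolynomial Ω B₀)) g
  let g' : Localization.AtPrime 𝔐 →+* B₁ := g.codRestrict B₁.toSubring hB₁
  let γ : MvPolynomial Ω B₀ →+* B₁ := g'.comp (algebraMap _ (Localization.AtPrime 𝔐))
  have hγ : ∀ p : MvPolynomial Ω B₀, ((γ p : B₁) : FractionRing (MvPolynomial Ω B₀)) =
      algebraMap _ (FractionRing (MvPolynomial Ω B₀)) p := fun p => hg p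
  let ε : B₀ →+* B₁ := γ.comp MvPolynomial.C
  have hinj : Function.Injective ((algebraMap (MvPolynomial Ω B₀)
      (FractionRing (MvPolynomial Ω B₀))).comp (MvPolynomial.C : B₀ →+* MvPolynomial Ω B₀)) :=
    (IsFractionRing.injective (MvPolynomial Ω B₀) (FractionRing (MvPolynomial Ω B₀))).comp
      (MvPolynomial.C_injective Ω B₀)
  let εΩ : Ω₀ →+* FractionRing (MvPolynomial Ω B₀) := IsFractionRing.lift hinj
  -- the residue field
  have hker : RingHom.ker ev ≤ RingHom.ker ((residue B₁).comp γ) := by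
    intro p hp
    rw [RingHom.mem_ker, RingHom.comp_apply, residue_eq_zero_iff]
    have h1 : algebraMap _ (Localization.AtPrime 𝔐) p ∈ maximalIdeal (Localization.AtPrime 𝔐) := by
      have hp' : p ∈ 𝔐 := hp
      rw [← Localization.AtPrime.comap_maximalIdeal (I := 𝔐)] at hp'
      exact hp'
    intro hu
    have h2 : IsUnit (algebraMap _ (Localization.AtPrime 𝔐) p) := hloc.map_nonunit _ hu
    exact h1 h2
  let j : Ω →+* ResidueField B₁ := ev.liftOfSurjective hev ⟨(residue B₁).comp γ, hker⟩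
  have hj : ∀ p : MvPolynomial Ω B₀, j (ev p) = residue B₁ (γ p) := fun p =>
    RingHom.liftOfSurjective_comp_apply ev hev ⟨(residue B₁).comp γ, hker⟩ p
  refine ⟨FractionRing (MvPolynomial Ω B₀), inferInstance, B₁, ε, εΩ, j, ?_, ?_⟩
  · intro b
    have h1 : εΩ (algebraMap B₀ Ω₀ b) =
        algebraMap (MvPolynomial Ω B₀) (FractionRing (MvPolynomial Ω B₀)) (MvPolynomial.C b) :=
      IsFractionRing.lift_algebraMap hinj b
    change ((γ (MvPolynomial.C b) : B₁) : FractionRing (MvPolynomial Ω B₀)) =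
      εΩ (algebraMap B₀ Ω₀ b)
    rw [hγ, h1]
  · intro b
    rw [← hevC b, hj]
    rfl

end Groth.Agent.Lib.Helper14.AS
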