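import Groth.Agent.Lib.Helper14.GenVal
import Groth.Agent.Lib.Helper14.ValExt
import Groth.Agent.Lib.Helper14.ValDec
import Groth.Agent.Lib.Helper21.Comp1
import Groth.Agent.Lib.Helper21.VE1

/-!
# The refined valuative criterion, with extensions (helper14)
-/

open CategoryTheory CategoryTheory.Limits AlgebraicGeometry Opposite AlgSp
open CategoryTheory.Functor Groth.Agent.Lib.Helper14.AS

universe u

noncomputable section

namespace Groth.Agent.Lib.Helper14.AS

variable {S : Scheme.{u}}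

theorem nf_comp {R₀ R R' : CommRingCat.{u}} {base : Spec R₀ ⟶ S} {ρ : R₀ ⟶ R}
    {a : Spec R ⟶ S} (ha : a = Spec.map ρ ≫ base) (θ : R ⟶ R') :
    Spec.map θ ≫ a = Spec.map (ρ ≫ θ) ≫ base := by
  rw [ha, Spec.map_comp, Category.assoc]

theorem w_of_nf {R₀ R R' : CommRingCat.{u}} {base : Spec R₀ ⟶ S} {ρ : R₀ ⟶ R} {ρ' : R₀ ⟶ R'}
    {a : Spec R ⟶ S} {a' : Spec R' ⟶ S} (ha : a = Spec.map ρ ≫ base)
    (ha' : a' = Spec.map ρ' ≫ base) (θ : R ⟶ R') (h : ρ ≫ θ = ρ') : Spec.map θ ≫ a = a' := by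
  rw [ha', ← h, nf_comp ha]

open Groth.Agent.Lib.Helper21 IsLocalRing in
set_option backward.isDefEq.respectTransparency.types false in
set_option maxHeartbeats 6400000 in
/-- **Refined valuative criterion, with extensions.**  `f : X ⟶ h_V` with `V` a scheme and
`h : U ⟶ X` quasi-compact with dense image: if every valuative square of `f` whose top arrow
factors through `h` has at most one lift and has a lift after an extension, then every valuative
square of `f` has a lift after an extension. -/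
theorem hasLiftExt_of_through_dense_ext {V : Over S} {X U : Sp S} (hX : IsAlgSpace X)
    (hU : IsAlgSpace U) (f : X ⟶ (yon S).obj V) (h : U ⟶ X) (hqc : IsQuasiCompactMor h)
    (hd : DenseRange (Points.map h))
    (hv : ∀ sq : ValSq f, (∃ t : (yon S).obj sq.ptK ⟶ U, t ≫ h = sq.top) →
      sq.HasUniq ∧ sq.HasLiftExt)
    (sq : ValSq f) : sq.HasLiftExt := by
  classical
  obtain ⟨Ω₀, instΩ₀, B₀, strB, mB, tU, Ω, instΩ, iK, iB, hw, htU, hcl⟩ :=
    exists_valuationSubring_through_dense hX hU h hqc hd sq.ptK.hom sq.top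
  obtain ⟨Ω₁, instΩ₁, B₁, ε, εΩ, jΩ, hε1, hε2⟩ := exists_valuationSubring_residue_extension B₀ iB
  obtain ⟨β, hβ⟩ := (yon S).map_surjective sq.bot
  obtain ⟨βB, hβB⟩ := (yon S).map_surjective (mB ≫ f)
  let ptΩK : Over S := Over.mk (Spec.map (CommRingCat.ofHom iK) ≫ sq.ptK.hom)
  let kK : ptΩK ⟶ sq.ptK := Over.homMk (Spec.map (CommRingCat.ofHom iK)) rfl
  let cl : ptΩK ⟶ Over.mk strB := Over.homMk (Spec.map (CommRingCat.ofHom iB) ≫
    Spec.map (CommRingCat.ofHom (IsLocalRing.residue B₀))) hw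
  have hcl' : (yon S).map kK ≫ sq.top = (yon S).map cl ≫ mB := hcl
  -- the two points agree in `V`
  have hE1 : kK ≫ sq.j ≫ β = cl ≫ βB := by
    apply (yon S).map_injective
    rw [Functor.map_comp, Functor.map_comp, hβ, ← sq.comm, ← Category.assoc, hcl', Category.assoc,
      ← hβB, ← Functor.map_comp]
  have hE1' : Spec.map (CommRingCat.ofHom iK) ≫
      Spec.map (CommRingCat.ofHom (algebraMap sq.A sq.K)) ≫ β.left =
      (Spec.map (CommRingCat.ofHom iB) ≫
        Spec.map (CommRingCat.ofHom (IsLocalRing.residue B₀))) ≫ βB.left :=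
    congrArg (fun t => t.left) hE1
  -- an affine open of `V`
  obtain ⟨V₀, hV₀, hsV₀⟩ : ∃ V₀ : V.left.Opens, IsAffineOpen V₀ ∧
      β.left (IsLocalRing.closedPoint sq.A) ∈ V₀ := by
    obtain ⟨W, h1, h2, -⟩ := TopologicalSpace.Opens.isBasis_iff_nbhd.mp V.left.isBasis_affineOpens
      (show β.left (IsLocalRing.closedPoint sq.A) ∈ (⊤ : V.left.Opens) from trivial)
    exact ⟨W, h1, h2⟩
  obtain ⟨φA, hφA⟩ := DVRExt.exists_factor_fromSpec (R := CommRingCat.of sq.A) β.left hV₀ hsV₀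
  -- the closed point of `Spec B₀` also lands in `V₀`
  have hsB : βB.left (IsLocalRing.closedPoint B₀) ∈ V₀ := by
    let ptΩ : ↥(Spec (CommRingCat.of Ω)) := IsLocalRing.closedPoint Ω
    have h1 : (Spec.map (CommRingCat.ofHom iB) ≫
        Spec.map (CommRingCat.ofHom (IsLocalRing.residue B₀))) ptΩ =
        (IsLocalRing.closedPoint B₀ : ↥(Spec (CommRingCat.of B₀))) := by
      apply PrimeSpectrum.ext
      change Ideal.comap (IsLocalRing.residue B₀) (Ideal.comap iB (IsLocalRing.maximalIdeal Ω)) =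
        IsLocalRing.maximalIdeal B₀
      rw [IsLocalRing.maximalIdeal_eq_bot, ← RingHom.ker_eq_comap_bot,
        (RingHom.injective_iff_ker_eq_bot iB).1 iB.injective, ← RingHom.ker_eq_comap_bot,
        IsLocalRing.ker_residue]
    have h2 : βB.left (IsLocalRing.closedPoint B₀) =
        ((Spec.map (CommRingCat.ofHom iB) ≫
          Spec.map (CommRingCat.ofHom (IsLocalRing.residue B₀))) ≫ βB.left) ptΩ := by
      rw [Scheme.Hom.comp_apply, h1]
    rw [h2, ← hE1', ← hφA, ← Category.assoc, ← Category.assoc]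
    rw [← Spec.map_comp, ← Spec.map_comp]
    exact DVRExt.mem_of_specMap_fromSpec hV₀ _ _
  obtain ⟨φB, hφB⟩ := DVRExt.exists_factor_fromSpec (R := CommRingCat.of B₀) βB.left hV₀ hsB
  -- the ring identity in `Ω`
  have hE2 : φA ≫ CommRingCat.ofHom (algebraMap sq.A sq.K) ≫ CommRingCat.ofHom iK =
      φB ≫ CommRingCat.ofHom (IsLocalRing.residue B₀) ≫ CommRingCat.ofHom iB := by
    apply DVRExt.specMap_fromSpec_cancel hV₀
    rw [Spec.map_comp, Spec.map_comp, Spec.map_comp, Spec.map_comp, Category.assoc, Category.assoc,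
      Category.assoc, Category.assoc, hφA, hφB, hE1', Category.assoc]
  have hE2' : ∀ r : Γ(V.left, V₀), iK (algebraMap sq.A sq.K (φA.hom r)) =
      iB (IsLocalRing.residue B₀ (φB.hom r)) := fun r => congrArg (fun g => g.hom r) hE2
  -- the base and normal forms
  let base : Spec Γ(V.left, V₀) ⟶ S := hV₀.fromSpec ≫ V.hom
  have nfA : sq.str = Spec.map φA ≫ base := by
    change sq.str = Spec.map φA ≫ hV₀.fromSpec ≫ V.hom
    rw [← Category.assoc, hφA]
    exact (Over.w β).symm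
  have nfB : strB = Spec.map φB ≫ base := by
    change strB = Spec.map φB ≫ hV₀.fromSpec ≫ V.hom
    rw [← Category.assoc, hφB]
    exact (Over.w βB).symm
  -- the valuation rings
  let fΩ : sq.A →+* ResidueField B₁ := (jΩ.comp iK).comp (algebraMap sq.A sq.K)
  obtain ⟨A₁, hA₁, hlocΩ⟩ := IsLocalRing.exists_factor_valuationRing fΩ
  let φΩ : sq.A →+* A₁ := fΩ.codRestrict A₁.toSubring hA₁
  let C₁ : ValuationSubring Ω₁ := Comp.composite B₁ A₁
  have hres : ∀ r : Γ(V.left, V₀), residue B₁ (ε (φB.hom r)) = fΩ (φA.hom r) := by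
    intro r
    rw [← hε2]
    change jΩ (iB (residue B₀ (φB.hom r))) = jΩ (iK (algebraMap sq.A sq.K (φA.hom r)))
    rw [hE2' r]
  have hCmem : ∀ r : Γ(V.left, V₀), ((ε (φB.hom r) : B₁) : Ω₁) ∈ C₁ := by
    intro r
    rw [Comp.mem_composite_iff]
    refine ⟨(ε (φB.hom r)).2, ?_⟩
    change residue B₁ (ε (φB.hom r)) ∈ A₁
    rw [hres r]
    exact hA₁ _
  let φC : Γ(V.left, V₀) ⟶ CommRingCat.of C₁ :=
    CommRingCat.ofHom (((B₁.subtype.comp ε).comp φB.hom).codRestrict C₁.toSubring hCmem)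
  have hφCfst : ∀ r, Comp.toFst B₁ A₁ (φC.hom r) = ε (φB.hom r) := fun r => rfl
  have hφCsnd : ∀ r, Comp.toSnd B₁ A₁ (φC.hom r) = φΩ (φA.hom r) := by
    intro r
    apply Subtype.ext
    exact hres r
  -- the square for the composite
  let strC : Spec (CommRingCat.of C₁) ⟶ S := Spec.map φC ≫ base
  have nfC : strC = Spec.map φC ≫ base := rfl
  let βC : Over.mk strC ⟶ V := Over.homMk (Spec.map φC ≫ hV₀.fromSpec) (by
    change (Spec.map φC ≫ hV₀.fromSpec) ≫ V.hom = Spec.map φC ≫ hV₀.fromSpec ≫ V.hom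
    rw [Category.assoc])
  let ptΩ₀ : Over S := Over.mk (Spec.map (CommRingCat.ofHom (algebraMap B₀ Ω₀)) ≫ strB)
  let genB : ptΩ₀ ⟶ Over.mk strB :=
    Over.homMk (Spec.map (CommRingCat.ofHom (algebraMap B₀ Ω₀))) rfl
  let ptΩ₁ : Over S := Over.mk (Spec.map (CommRingCat.ofHom (algebraMap C₁ Ω₁)) ≫ strC)
  let jC : ptΩ₁ ⟶ Over.mk strC :=
    Over.homMk (Spec.map (CommRingCat.ofHom (algebraMap C₁ Ω₁))) rfl
  have hR1 : φB ≫ CommRingCat.ofHom (algebraMap B₀ Ω₀) ≫ CommRingCat.ofHom εΩ =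
      φC ≫ CommRingCat.ofHom (algebraMap C₁ Ω₁) := by
    ext r
    exact (hε1 (φB.hom r)).symm
  have nfΩ₀ : ptΩ₀.hom = Spec.map (φB ≫ CommRingCat.ofHom (algebraMap B₀ Ω₀)) ≫ base :=
    nf_comp nfB _
  have nfΩ₁ : ptΩ₁.hom = Spec.map (φC ≫ CommRingCat.ofHom (algebraMap C₁ Ω₁)) ≫ base :=
    nf_comp nfC _
  let εm : ptΩ₁ ⟶ ptΩ₀ := Over.homMk (Spec.map (CommRingCat.ofHom εΩ))
    (w_of_nf nfΩ₀ nfΩ₁ _ (by rw [Category.assoc]; exact hR1))
  have hmBf : mB ≫ f = (yon S).map βB := hβB.symm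
  have htU' : tU ≫ h = (yon S).map genB ≫ mB := htU
  have hK0 : εm ≫ genB ≫ βB = jC ≫ βC := by
    apply Over.OverMorphism.ext
    change Spec.map (CommRingCat.ofHom εΩ) ≫
      Spec.map (CommRingCat.ofHom (algebraMap B₀ Ω₀)) ≫ βB.left =
      Spec.map (CommRingCat.ofHom (algebraMap C₁ Ω₁)) ≫ Spec.map φC ≫ hV₀.fromSpec
    rw [← hφB, ← Spec.map_comp_assoc, ← Spec.map_comp_assoc, ← Spec.map_comp_assoc, hR1]
  let sqC : ValSq f :=
    { A := C₁, K := Ω₁, str := strC, top := (yon S).map εm ≫ tU ≫ h, bot := (yon S).map βC,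
      comm := by
        change ((yon S).map εm ≫ tU ≫ h) ≫ f = (yon S).map jC ≫ (yon S).map βC
        calc ((yon S).map εm ≫ tU ≫ h) ≫ f = (yon S).map εm ≫ (tU ≫ h) ≫ f := by
              simp only [Category.assoc]
          _ = (yon S).map εm ≫ (yon S).map genB ≫ (yon S).map βB := by
              rw [htU', Category.assoc, hmBf]
          _ = (yon S).map (εm ≫ genB ≫ βB) := by simp only [Functor.map_comp]
          _ = _ := by rw [hK0, Functor.map_comp] }
  obtain ⟨-, eC, lC, hlC1, hlC2⟩ := hv sqC ⟨(yon S).map εm ≫ tU, by rw [Category.assoc]⟩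
  -- the decomposition of the extension
  have hlocC : IsLocalHom eC.φ := eC.isLocalHom
  have hcommC : ∀ c : C₁, algebraMap eC.A' eC.K' (eC.φ c) = eC.ψ (c : Ω₁) := fun c =>
    congrArg (fun g => g c) eC.comm
  obtain ⟨B', D', lam, π, β₁, σ, δ, hδloc, hlam, hβ₁, hπ, hσ, hδ, hlamφ, hπφ⟩ :=
    exists_decomposition eC.ψ B₁ A₁ eC.φ hcommC
  -- the square for `B'`
  let ρB' : Γ(V.left, V₀) ⟶ CommRingCat.of B' :=
    φC ≫ CommRingCat.ofHom eC.φ ≫ CommRingCat.ofHom lam
  let strB' : Spec (CommRingCat.of B') ⟶ S := Spec.map ρB' ≫ base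
  have nfB' : strB' = Spec.map ρB' ≫ base := rfl
  have nfC' : eC.ptA'.hom = Spec.map (φC ≫ CommRingCat.ofHom eC.φ) ≫ base := nf_comp nfC _
  have nfL' : eC.ptK'.hom = Spec.map ((φC ≫ CommRingCat.ofHom eC.φ) ≫
      CommRingCat.ofHom (algebraMap eC.A' eC.K')) ≫ base := nf_comp nfC' _
  let ptL'B : Over S := Over.mk (Spec.map (CommRingCat.ofHom (algebraMap B' eC.K')) ≫ strB')
  have nfL'B : ptL'B.hom = Spec.map (ρB' ≫ CommRingCat.ofHom (algebraMap B' eC.K')) ≫ base :=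
    nf_comp nfB' _
  let jB' : ptL'B ⟶ Over.mk strB' :=
    Over.homMk (Spec.map (CommRingCat.ofHom (algebraMap B' eC.K'))) rfl
  have hR2 : φB ≫ CommRingCat.ofHom (β₁.comp ε) = ρB' := by
    ext r
    change ((β₁ (ε (φB.hom r)) : B') : eC.K') = ((lam (eC.φ (φC.hom r)) : B') : eC.K')
    rw [hlamφ]
    rfl
  let bB' : Over.mk strB' ⟶ Over.mk strB :=
    Over.homMk (Spec.map (CommRingCat.ofHom (β₁.comp ε))) (w_of_nf nfB nfB' _ hR2)
  let lamm : Over.mk strB' ⟶ eC.ptA' :=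
    Over.homMk (Spec.map (CommRingCat.ofHom lam)) (w_of_nf nfC' nfB' _ (Category.assoc _ _ _))
  have hlamalg : CommRingCat.ofHom lam ≫ CommRingCat.ofHom (algebraMap B' eC.K') =
      CommRingCat.ofHom (algebraMap eC.A' eC.K') := by
    ext c
    exact hlam c
  have hιLw : eC.ptK'.hom = ptL'B.hom := by
    rw [nfL', nfL'B]
    have h1 : (φC ≫ CommRingCat.ofHom eC.φ) ≫ CommRingCat.ofHom (algebraMap eC.A' eC.K') =
        ρB' ≫ CommRingCat.ofHom (algebraMap B' eC.K') := by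
      change _ = (φC ≫ CommRingCat.ofHom eC.φ ≫ CommRingCat.ofHom lam) ≫ _
      rw [Category.assoc, Category.assoc, Category.assoc, hlamalg]
    rw [h1]
  let ιL : ptL'B ⟶ eC.ptK' := Over.homMk (𝟙 _) (by rw [Category.id_comp]; exact hιLw)
  let km'C : eC.ptK' ⟶ eC.ptA' :=
    Over.homMk (Spec.map (CommRingCat.ofHom (algebraMap eC.A' eC.K'))) rfl
  have hRψ : (φC ≫ CommRingCat.ofHom (algebraMap C₁ Ω₁)) ≫ CommRingCat.ofHom eC.ψ =
      (φC ≫ CommRingCat.ofHom eC.φ) ≫ CommRingCat.ofHom (algebraMap eC.A' eC.K') := by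
    ext r
    exact (hcommC (φC.hom r)).symm
  let ψmC : eC.ptK' ⟶ sqC.ptK := Over.homMk (Spec.map (CommRingCat.ofHom eC.ψ))
    (w_of_nf nfΩ₁ nfL' _ hRψ)
  let φmC : eC.ptA' ⟶ sqC.ptA := Over.homMk (Spec.map (CommRingCat.ofHom eC.φ)) rfl
  have hlC1' : (yon S).map km'C ≫ lC = (yon S).map ψmC ≫ sqC.top := hlC1
  have hlC2' : lC ≫ f = (yon S).map φmC ≫ sqC.bot := hlC2
  let θL : ptL'B ⟶ ptΩ₀ := ιL ≫ ψmC ≫ εm
  have hK1 : jB' ≫ bB' = θL ≫ genB := by
    apply Over.OverMorphism.ext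
    change Spec.map (CommRingCat.ofHom (algebraMap B' eC.K')) ≫
      Spec.map (CommRingCat.ofHom (β₁.comp ε)) =
      (𝟙 _ ≫ Spec.map (CommRingCat.ofHom eC.ψ) ≫ Spec.map (CommRingCat.ofHom εΩ)) ≫
        Spec.map (CommRingCat.ofHom (algebraMap B₀ Ω₀))
    rw [Category.id_comp, ← Spec.map_comp, ← Spec.map_comp, ← Spec.map_comp]
    congr 1
    ext b
    change ((β₁ (ε b) : B') : eC.K') = eC.ψ (εΩ (b : Ω₀))
    rw [hβ₁, hε1]
  have hK2 : jB' ≫ lamm = ιL ≫ km'C := by
    apply Over.OverMorphism.ext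
    change Spec.map (CommRingCat.ofHom (algebraMap B' eC.K')) ≫
      Spec.map (CommRingCat.ofHom lam) =
      𝟙 _ ≫ Spec.map (CommRingCat.ofHom (algebraMap eC.A' eC.K'))
    rw [Category.id_comp, ← Spec.map_comp, hlamalg]
  have hK6 : lamm ≫ φmC ≫ βC = bB' ≫ βB := by
    apply Over.OverMorphism.ext
    change Spec.map (CommRingCat.ofHom lam) ≫ Spec.map (CommRingCat.ofHom eC.φ) ≫
      Spec.map φC ≫ hV₀.fromSpec = Spec.map (CommRingCat.ofHom (β₁.comp ε)) ≫ βB.left
    rw [← hφB, ← Spec.map_comp_assoc, ← Spec.map_comp_assoc, ← Spec.map_comp_assoc, hR2]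
  let sqB' : ValSq f :=
    { A := B', K := eC.K', str := strB', top := (yon S).map θL ≫ tU ≫ h,
      bot := (yon S).map (bB' ≫ βB),
      comm := by
        change ((yon S).map θL ≫ tU ≫ h) ≫ f = (yon S).map jB' ≫ (yon S).map (bB' ≫ βB)
        calc ((yon S).map θL ≫ tU ≫ h) ≫ f = (yon S).map θL ≫ (tU ≫ h) ≫ f := by
              simp only [Category.assoc]
          _ = (yon S).map θL ≫ (yon S).map genB ≫ (yon S).map βB := by
              rw [htU', Category.assoc, hmBf]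
          _ = (yon S).map ((θL ≫ genB) ≫ βB) := by simp only [Functor.map_comp, Category.assoc]
          _ = _ := by rw [← hK1, Category.assoc, Functor.map_comp] }
  let l₁ : (yon S).obj sqB'.ptA ⟶ X := (yon S).map bB' ≫ mB
  let l₂ : (yon S).obj sqB'.ptA ⟶ X := (yon S).map lamm ≫ lC
  have heq : l₁ = l₂ := by
    refine (hv sqB' ⟨(yon S).map θL ≫ tU, by rw [Category.assoc]⟩).1 l₁ l₂ ?_ ?_ ?_ ?_
    · change (yon S).map jB' ≫ (yon S).map bB' ≫ mB = (yon S).map θL ≫ tU ≫ h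
      rw [← Category.assoc, ← Functor.map_comp, hK1, Functor.map_comp, Category.assoc, htU']
    · change ((yon S).map bB' ≫ mB) ≫ f = (yon S).map (bB' ≫ βB)
      rw [Category.assoc, hmBf, Functor.map_comp]
    · change (yon S).map jB' ≫ (yon S).map lamm ≫ lC = (yon S).map θL ≫ tU ≫ h
      calc (yon S).map jB' ≫ (yon S).map lamm ≫ lC = (yon S).map (ιL ≫ km'C) ≫ lC := by
            rw [← hK2, Functor.map_comp, Category.assoc]
        _ = (yon S).map ιL ≫ (yon S).map ψmC ≫ sqC.top := by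
            rw [Functor.map_comp, Category.assoc, hlC1']
        _ = (yon S).map ιL ≫ (yon S).map ψmC ≫ (yon S).map εm ≫ tU ≫ h := rfl
        _ = _ := by simp only [θL, Functor.map_comp, Category.assoc]
    · change ((yon S).map lamm ≫ lC) ≫ f = (yon S).map (bB' ≫ βB)
      calc ((yon S).map lamm ≫ lC) ≫ f = (yon S).map lamm ≫ (yon S).map φmC ≫ sqC.bot := by
            rw [Category.assoc, hlC2']
        _ = (yon S).map lamm ≫ (yon S).map φmC ≫ (yon S).map βC := rfl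
        _ = (yon S).map (lamm ≫ φmC ≫ βC) := by simp only [Functor.map_comp]
        _ = _ := by rw [hK6]
  -- the extension of the original square
  have hlocφΩ : IsLocalHom φΩ := hlocΩ
  let e : sq.DomExt :=
    { A' := D', K' := ResidueField B', φ := δ.comp φΩ, ψ := (σ.comp jΩ).comp iK,
      comm := by
        ext a
        change ((δ (φΩ a) : D') : ResidueField B') = σ (jΩ (iK (algebraMap sq.A sq.K a)))
        rw [hδ]
        rfl
      isLocalHom := RingHom.isLocalHom_comp δ φΩ }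
  have nfeA : e.ptA'.hom = Spec.map (φA ≫ CommRingCat.ofHom e.φ) ≫ base := nf_comp nfA _
  have nfeK : e.ptK'.hom = Spec.map ((φA ≫ CommRingCat.ofHom e.φ) ≫
      CommRingCat.ofHom (algebraMap e.A' e.K')) ≫ base := nf_comp nfeA _
  have nfK : sq.ptK.hom = Spec.map (φA ≫ CommRingCat.ofHom (algebraMap sq.A sq.K)) ≫ base :=
    nf_comp nfA _
  have nfΩK : ptΩK.hom = Spec.map ((φA ≫ CommRingCat.ofHom (algebraMap sq.A sq.K)) ≫
      CommRingCat.ofHom iK) ≫ base := nf_comp nfK _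
  have hR3 : (φC ≫ CommRingCat.ofHom eC.φ) ≫ CommRingCat.ofHom π =
      φA ≫ CommRingCat.ofHom e.φ := by
    ext r
    change ((π (eC.φ (φC.hom r)) : D') : ResidueField B') =
      ((δ (φΩ (φA.hom r)) : D') : ResidueField B')
    rw [hπφ, hφCsnd]
  let πm : e.ptA' ⟶ eC.ptA' := Over.homMk (Spec.map (CommRingCat.ofHom π))
    (w_of_nf nfC' nfeA _ hR3)
  have hR3' : ρB' ≫ CommRingCat.ofHom (residue B') =
      (φA ≫ CommRingCat.ofHom e.φ) ≫ CommRingCat.ofHom (algebraMap e.A' e.K') := by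
    ext r
    change residue B' (lam (eC.φ (φC.hom r))) = ((δ (φΩ (φA.hom r)) : D') : ResidueField B')
    rw [← hπ, hπφ, hφCsnd]
  let resm : e.ptK' ⟶ Over.mk strB' := Over.homMk (Spec.map (CommRingCat.ofHom (residue B')))
    (w_of_nf nfB' nfeK _ hR3')
  have hRσ : ((φA ≫ CommRingCat.ofHom (algebraMap sq.A sq.K)) ≫ CommRingCat.ofHom iK) ≫
      CommRingCat.ofHom (σ.comp jΩ) =
      (φA ≫ CommRingCat.ofHom e.φ) ≫ CommRingCat.ofHom (algebraMap e.A' e.K') := by
    ext r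
    change σ (jΩ (iK (algebraMap sq.A sq.K (φA.hom r)))) =
      ((δ (φΩ (φA.hom r)) : D') : ResidueField B')
    rw [hδ]
    rfl
  let σm : e.ptK' ⟶ ptΩK := Over.homMk (Spec.map (CommRingCat.ofHom (σ.comp jΩ)))
    (w_of_nf nfΩK nfeK _ hRσ)
  let km' : e.ptK' ⟶ e.ptA' :=
    Over.homMk (Spec.map (CommRingCat.ofHom (algebraMap e.A' e.K'))) rfl
  let ψm : e.ptK' ⟶ sq.ptK := Over.homMk (Spec.map (CommRingCat.ofHom e.ψ)) (by
    change Spec.map _ ≫ Spec.map _ ≫ _ = Spec.map _ ≫ Spec.map _ ≫ _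
    rw [← Spec.map_comp_assoc, ← Spec.map_comp_assoc, ← CommRingCat.ofHom_comp,
      ← CommRingCat.ofHom_comp, e.comm])
  let φm : e.ptA' ⟶ sq.ptA := Over.homMk (Spec.map (CommRingCat.ofHom e.φ)) rfl
  have hK3 : km' ≫ πm = resm ≫ lamm := by
    apply Over.OverMorphism.ext
    change Spec.map (CommRingCat.ofHom (algebraMap D' (ResidueField B'))) ≫
      Spec.map (CommRingCat.ofHom π) =
      Spec.map (CommRingCat.ofHom (residue B')) ≫ Spec.map (CommRingCat.ofHom lam)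
    rw [← Spec.map_comp, ← Spec.map_comp]
    congr 1
    ext c
    exact hπ c
  have hK4 : resm ≫ bB' = σm ≫ cl := by
    apply Over.OverMorphism.ext
    change Spec.map (CommRingCat.ofHom (residue B')) ≫
      Spec.map (CommRingCat.ofHom (β₁.comp ε)) =
      Spec.map (CommRingCat.ofHom (σ.comp jΩ)) ≫ Spec.map (CommRingCat.ofHom iB) ≫
        Spec.map (CommRingCat.ofHom (IsLocalRing.residue B₀))
    rw [← Spec.map_comp, ← Spec.map_comp, ← Spec.map_comp]
    congr 1
    ext b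
    change residue B' (β₁ (ε b)) = σ (jΩ (iB (residue B₀ b)))
    rw [← hσ, hε2]
  have hK5 : σm ≫ kK = ψm := by
    apply Over.OverMorphism.ext
    change Spec.map (CommRingCat.ofHom (σ.comp jΩ)) ≫ Spec.map (CommRingCat.ofHom iK) =
      Spec.map (CommRingCat.ofHom ((σ.comp jΩ).comp iK))
    rw [← Spec.map_comp]
    rfl
  have hK7 : πm ≫ φmC ≫ βC = φm ≫ β := by
    apply Over.OverMorphism.ext
    change Spec.map (CommRingCat.ofHom π) ≫ Spec.map (CommRingCat.ofHom eC.φ) ≫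
      Spec.map φC ≫ hV₀.fromSpec = Spec.map (CommRingCat.ofHom e.φ) ≫ β.left
    rw [← hφA, ← Spec.map_comp_assoc, ← Spec.map_comp_assoc, ← Spec.map_comp_assoc,
      ← Category.assoc φC, hR3]
  refine ⟨e, (yon S).map πm ≫ lC, ?_, ?_⟩
  · change (yon S).map km' ≫ (yon S).map πm ≫ lC = (yon S).map ψm ≫ sq.top
    calc (yon S).map km' ≫ (yon S).map πm ≫ lC = (yon S).map (km' ≫ πm) ≫ lC := by
          rw [Functor.map_comp, Category.assoc]
      _ = (yon S).map resm ≫ l₂ := by rw [hK3, Functor.map_comp, Category.assoc]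
      _ = (yon S).map resm ≫ l₁ := by rw [heq]
      _ = (yon S).map (resm ≫ bB') ≫ mB := by rw [Functor.map_comp, Category.assoc]
      _ = (yon S).map σm ≫ (yon S).map cl ≫ mB := by
          rw [hK4, Functor.map_comp, Category.assoc]
      _ = (yon S).map σm ≫ (yon S).map kK ≫ sq.top := by rw [hcl']
      _ = (yon S).map ψm ≫ sq.top := by rw [← Category.assoc, ← Functor.map_comp, hK5]
  · change ((yon S).map πm ≫ lC) ≫ f = (yon S).map φm ≫ sq.bot
    calc ((yon S).map πm ≫ lC) ≫ f = (yon S).map πm ≫ (yon S).map φmC ≫ sqC.bot := by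
          rw [Category.assoc, hlC2']
      _ = (yon S).map πm ≫ (yon S).map φmC ≫ (yon S).map βC := rfl
      _ = (yon S).map (πm ≫ φmC ≫ βC) := by simp only [Functor.map_comp]
      _ = _ := by rw [hK7, Functor.map_comp, hβ]

end Groth.Agent.Lib.Helper14.AS
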