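import Groth.Agent.Lib.Helper14.GenExt1

/-!
# Extending a morphism from the generic fibre by fpqc descent: main lemma (helper14)
-/

set_option autoImplicit false

universe u

namespace Groth.Agent.Lib.Helper14.GenExt

open CategoryTheory CategoryTheory.Limits AlgebraicGeometry TopologicalSpace Opposite

theorem exists_extension {T Y Z T' E : Scheme.{u}} (pY : Y ⟶ T) (pZ : Z ⟶ T) [Flat pY]
    [IsSeparated pZ] (η : E ⟶ T) [IsSchemeTheoreticallyDominant η] [QuasiCompact η]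
    (ψ : pullback pY η ⟶ Z) (g : T' ⟶ T) [Flat g] [Surjective g] [QuasiCompact g]
    (φ' : pullback pY g ⟶ pullback pZ g) (hφ' : φ' ≫ pullback.snd pZ g = pullback.snd pY g)
    (hagree : pullback.fst (pullback.fst pY g) (pullback.fst pY η) ≫ φ' ≫ pullback.fst pZ g =
      pullback.snd (pullback.fst pY g) (pullback.fst pY η) ≫ ψ) :
    ∃ φ : Y ⟶ Z, φ ≫ pZ = pY ∧ pullback.fst pY η ≫ φ = ψ := by
  obtain ⟨π, hπ⟩ : ∃ π : pullback pY g ⟶ Y, π = pullback.fst pY g := ⟨_, rfl⟩
  obtain ⟨ι, hι⟩ : ∃ ι : pullback pY η ⟶ Y, ι = pullback.fst pY η := ⟨_, rfl⟩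
  obtain ⟨e, he⟩ : ∃ e : pullback pY g ⟶ Z, e = φ' ≫ pullback.fst pZ g := ⟨_, rfl⟩
  rw [← hπ, ← hι, ← he] at hagree
  rw [← hι]
  have heZ : e ≫ pZ = π ≫ pY := by
    rw [he, hπ, Category.assoc, pullback.condition, ← Category.assoc, hφ', pullback.condition]
  have hflatπ : Flat π := by rw [hπ]; infer_instance
  have hsurjπ : Surjective π := by rw [hπ]; infer_instance
  have hqcπ : QuasiCompact π := by rw [hπ]; infer_instance
  -- agreement on the kernel pair
  have hkp : pullback.fst π π ≫ e = pullback.snd π π ≫ e := by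
    obtain ⟨pr₁, hpr₁⟩ : ∃ pr₁ : pullback π π ⟶ pullback pY g, pr₁ = pullback.fst π π := ⟨_, rfl⟩
    obtain ⟨pr₂, hpr₂⟩ : ∃ pr₂ : pullback π π ⟶ pullback pY g, pr₂ = pullback.snd π π := ⟨_, rfl⟩
    rw [← hpr₁, ← hpr₂]
    have hpr : pr₁ ≫ π = pr₂ ≫ π := by rw [hpr₁, hpr₂]; exact pullback.condition
    have hflat1 : Flat pr₁ := by rw [hpr₁]; infer_instance
    have hflat : Flat (pr₁ ≫ π ≫ pY) := inferInstance
    have hdom : IsSchemeTheoreticallyDominant (pullback.fst (pr₁ ≫ π ≫ pY) η) := inferInstance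
    obtain ⟨d, hd⟩ : ∃ d : pullback (pr₁ ≫ π ≫ pY) η ⟶ pullback π π,
      d = pullback.fst (pr₁ ≫ π ≫ pY) η := ⟨_, rfl⟩
    rw [← hd] at hdom
    refine ext_of_schDominant pZ ?_ d ?_
    · rw [Category.assoc, Category.assoc, heZ, ← Category.assoc, ← Category.assoc, hpr]
    · -- both sides equal `n ≫ ψ`
      have hn : (d ≫ pr₁ ≫ π) ≫ pY = pullback.snd (pr₁ ≫ π ≫ pY) η ≫ η := by
        rw [hd, Category.assoc, Category.assoc]
        exact pullback.condition
      obtain ⟨n, hn1⟩ : ∃ n : pullback (pr₁ ≫ π ≫ pY) η ⟶ pullback pY η,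
          n ≫ ι = d ≫ pr₁ ≫ π :=
        ⟨pullback.lift (d ≫ pr₁ ≫ π) (pullback.snd (pr₁ ≫ π ≫ pY) η) hn, by
          rw [hι]; exact pullback.lift_fst _ _ _⟩
      have key : ∀ (pr : pullback π π ⟶ pullback pY g), pr ≫ π = pr₁ ≫ π →
          d ≫ pr ≫ e = n ≫ ψ := by
        intro pr hprπ
        have hc : (d ≫ pr) ≫ π = n ≫ ι := by
          rw [hn1, Category.assoc, hprπ]
        have hm1 : pullback.lift (d ≫ pr) n hc ≫ pullback.fst π ι = d ≫ pr :=
          pullback.lift_fst _ _ _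
        have hm2 : pullback.lift (d ≫ pr) n hc ≫ pullback.snd π ι = n := pullback.lift_snd _ _ _
        calc d ≫ pr ≫ e = (d ≫ pr) ≫ e := (Category.assoc _ _ _).symm
          _ = (pullback.lift (d ≫ pr) n hc ≫ pullback.fst π ι) ≫ e := by rw [hm1]
          _ = pullback.lift (d ≫ pr) n hc ≫ pullback.snd π ι ≫ ψ := by
              rw [Category.assoc, hagree]
          _ = n ≫ ψ := (Category.assoc _ _ _).symm.trans (congrArg (fun t => t ≫ ψ) hm2)
      rw [key pr₁ rfl, key pr₂ hpr.symm]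
  have hdesc : ∀ {W : Scheme.{u}} (a₁ a₂ : W ⟶ pullback pY g), a₁ ≫ π = a₂ ≫ π →
      a₁ ≫ e = a₂ ≫ e := by
    intro W a₁ a₂ ha
    have h1 : pullback.lift a₁ a₂ ha ≫ pullback.fst π π = a₁ := pullback.lift_fst _ _ _
    have h2 : pullback.lift a₁ a₂ ha ≫ pullback.snd π π = a₂ := pullback.lift_snd _ _ _
    calc a₁ ≫ e = (pullback.lift a₁ a₂ ha ≫ pullback.fst π π) ≫ e := by rw [h1]
      _ = pullback.lift a₁ a₂ ha ≫ pullback.snd π π ≫ e := by rw [Category.assoc, hkp]
      _ = a₂ ≫ e := (Category.assoc _ _ _).symm.trans (congrArg (fun t => t ≫ e) h2)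
  have hfac : π ≫ EffectiveEpi.desc π e hdesc = e := EffectiveEpi.fac π e hdesc
  refine ⟨EffectiveEpi.desc π e hdesc, ?_, ?_⟩
  · rw [← cancel_epi π, ← Category.assoc, hfac, heZ]
  · have hepi : Epi (pullback.snd π ι) := by
      have h1 : Flat (pullback.snd π ι) := inferInstance
      have h2 : Surjective (pullback.snd π ι) := inferInstance
      have h3 : QuasiCompact (pullback.snd π ι) := inferInstance
      infer_instance
    rw [← cancel_epi (pullback.snd π ι), ← Category.assoc, ← pullback.condition, Category.assoc,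
      hfac]
    exact hagree

end Groth.Agent.Lib.Helper14.GenExt
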