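import Groth.Agent.Lib.Helper14.GenSpec

open CategoryTheory CategoryTheory.Limits AlgebraicGeometry

universe u

namespace Groth.Agent.Lib.Helper14.AS

/-- For a morphism of affine schemes, every point of the closure of the image is a
specialization of a point of the image. -/
theorem exists_specializes_of_mem_closure_range {T W : Scheme.{u}} [IsAffine T] [IsAffine W]
    (g : T ⟶ W) (w : W) (hw : w ∈ closure (Set.range g)) : ∃ t : T, g t ⤳ w := by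
  let φ := g.appTop
  have hnat : T.isoSpec.hom ≫ Spec.map φ = g ≫ W.isoSpec.hom := Scheme.isoSpec_hom_naturality g
  have h6 : T.isoSpec.inv ≫ g ≫ W.isoSpec.hom = Spec.map φ := by
    rw [← hnat, Iso.inv_hom_id_assoc]
  let 𝔭 : PrimeSpectrum Γ(W, ⊤) := W.isoSpec.hom w
  have h𝔭 : 𝔭 ∈ closure (Set.range (PrimeSpectrum.comap φ.hom)) := by
    refine map_mem_closure W.isoSpec.hom.continuous hw ?_
    rintro _ ⟨t, rfl⟩
    refine ⟨T.isoSpec.hom t, ?_⟩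
    change (T.isoSpec.hom ≫ Spec.map φ) t = W.isoSpec.hom (g t)
    rw [hnat]
    rfl
  rw [PrimeSpectrum.closure_range_comap, PrimeSpectrum.mem_zeroLocus] at h𝔭
  have h𝔭' : RingHom.ker φ.hom ≤ 𝔭.asIdeal := h𝔭
  obtain ⟨𝔭₀, h𝔭₀, hle⟩ := Ideal.exists_minimalPrimes_le h𝔭'
  have h𝔭₀' : 𝔭₀ ∈ ((⊥ : Ideal Γ(T, ⊤)).comap φ.hom).minimalPrimes := by
    rw [← RingHom.ker_eq_comap_bot]
    exact h𝔭₀
  obtain ⟨𝔮, h𝔮p, -, h𝔮⟩ := Ideal.exists_comap_eq_of_mem_minimalPrimes φ.hom 𝔭₀ h𝔭₀'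
  let 𝔮' : ↥(Spec Γ(T, ⊤)) := ⟨𝔮, h𝔮p⟩
  refine ⟨T.isoSpec.inv 𝔮', ?_⟩
  have h4 : W.isoSpec.hom (g (T.isoSpec.inv 𝔮')) = Spec.map φ 𝔮' := by
    rw [← h6]
    rfl
  have h7 : (Spec.map φ 𝔮' : ↥(Spec Γ(W, ⊤))) ⤳ W.isoSpec.hom w := by
    have h8 : (PrimeSpectrum.comap φ.hom ⟨𝔮, h𝔮p⟩ : PrimeSpectrum Γ(W, ⊤)) ≤ 𝔭 := by
      change Ideal.comap φ.hom 𝔮 ≤ 𝔭.asIdeal
      rw [h𝔮]
      exact hle
    exact (PrimeSpectrum.le_iff_specializes _ _).1 h8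
  have h5 : W.isoSpec.hom (g (T.isoSpec.inv 𝔮')) ⤳ W.isoSpec.hom w := by
    rw [h4]
    exact h7
  have hind : Topology.IsInducing W.isoSpec.hom :=
    (TopCat.homeoOfIso (Scheme.forgetToTop.mapIso W.isoSpec)).isInducing
  exact hind.specializes_iff.1 h5

end Groth.Agent.Lib.Helper14.AS
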