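import Groth.Agent.Lib.Helper14.GenChart

/-!
# Valuation rings through a dense morphism (helper14)
-/

open CategoryTheory CategoryTheory.Limits AlgebraicGeometry Opposite AlgSp
open CategoryTheory.Functor Groth.Agent.Lib.Helper14.AS

universe u

noncomputable section

namespace Groth.Agent.Lib.Helper14.AS

variable {S : Scheme.{u}}

set_option backward.isDefEq.respectTransparency.types false in
set_option maxHeartbeats 1600000 in
/-- For a quasi-compact `h : U ⟶ X` with dense image, every field-valued point of `X` is, after a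
field extension, the closed point of a valuation ring mapping to `X` whose generic point factors
through `U`. -/
theorem exists_valuationSubring_through_dense {X U : Sp S} (hX : IsAlgSpace X)
    (hU : IsAlgSpace U) (h : U ⟶ X) (hqc : IsQuasiCompactMor h)
    (hd : DenseRange (Points.map h)) {K : Type u} [Field K]
    (strK : Spec (CommRingCat.of K) ⟶ S) (top : (yon S).obj (Over.mk strK) ⟶ X) :
    ∃ (Ω₀ : Type u) (_ : Field Ω₀) (B₀ : ValuationSubring Ω₀)
      (strB : Spec (CommRingCat.of B₀) ⟶ S) (mB : (yon S).obj (Over.mk strB) ⟶ X)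
      (tU : (yon S).obj (Over.mk (Spec.map (CommRingCat.ofHom (algebraMap B₀ Ω₀)) ≫ strB)) ⟶ U)
      (Ω : Type u) (_ : Field Ω) (iK : K →+* Ω) (iB : IsLocalRing.ResidueField B₀ →+* Ω)
      (hw : (Spec.map (CommRingCat.ofHom iB) ≫
        Spec.map (CommRingCat.ofHom (IsLocalRing.residue B₀))) ≫ strB =
          Spec.map (CommRingCat.ofHom iK) ≫ strK),
      tU ≫ h = (yon S).map (Over.homMk (Spec.map (CommRingCat.ofHom (algebraMap B₀ Ω₀))) rfl :
        Over.mk (Spec.map (CommRingCat.ofHom (algebraMap B₀ Ω₀)) ≫ strB) ⟶ Over.mk strB) ≫ mB ∧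
      (yon S).map (Over.homMk (Spec.map (CommRingCat.ofHom iK)) rfl :
        Over.mk (Spec.map (CommRingCat.ofHom iK) ≫ strK) ⟶ Over.mk strK) ≫ top =
        (yon S).map (Over.homMk (Spec.map (CommRingCat.ofHom iB) ≫
          Spec.map (CommRingCat.ofHom (IsLocalRing.residue B₀))) hw :
          Over.mk (Spec.map (CommRingCat.ofHom iK) ≫ strK) ⟶ Over.mk strB) ≫ mB := by
  classical
  obtain ⟨W, hWaff, a, hae, K', instK', ψ, r, hr⟩ := exists_affine_chart_through hX strK top
  obtain ⟨T, hTaff, g, τ, hτ, hgd⟩ := exists_dense_affine_over_chart hX hU h hqc hd a hae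
  let w : ↥W.left := r.left (IsLocalRing.closedPoint K')
  obtain ⟨t, ht⟩ := exists_specializes_of_denseRange g.left hgd w
  let Ω₀ : Type u := T.left.residueField t
  let ι : W.left.residueField (g.left t) ⟶ CommRingCat.of Ω₀ := g.left.residueFieldMap t
  obtain ⟨B₀, m, hm1, hm2⟩ := exists_valuationSubring_lift ht ι
  have hm1' : Spec.map (CommRingCat.ofHom (algebraMap B₀ Ω₀)) ≫ m =
      T.left.fromSpecResidueField t ≫ g.left := by
    rw [hm1]
    exact Scheme.Hom.SpecMap_residueFieldMap_fromSpecResidueField g.left t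
  let strB : Spec (CommRingCat.of B₀) ⟶ S := m ≫ W.hom
  let mO : Over.mk strB ⟶ W := Over.homMk m rfl
  let ptΩ₀ : Over S := Over.mk (Spec.map (CommRingCat.ofHom (algebraMap B₀ Ω₀)) ≫ strB)
  have htTw : T.left.fromSpecResidueField t ≫ T.hom = ptΩ₀.hom := by
    change _ = Spec.map (CommRingCat.ofHom (algebraMap B₀ Ω₀)) ≫ m ≫ W.hom
    rw [← Category.assoc, hm1', Category.assoc]
    congr 1
    exact (Over.w g).symm
  let tT : ptΩ₀ ⟶ T := Over.homMk (T.left.fromSpecResidueField t) htTw
  let gen : ptΩ₀ ⟶ Over.mk strB :=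
    Over.homMk (Spec.map (CommRingCat.ofHom (algebraMap B₀ Ω₀))) rfl
  have htg : tT ≫ g = gen ≫ mO := by
    apply Over.OverMorphism.ext
    exact hm1'.symm
  -- the common extension
  let r₂ : Spec (CommRingCat.of (IsLocalRing.ResidueField B₀)) ⟶ W.left :=
    Spec.map (CommRingCat.ofHom (IsLocalRing.residue B₀)) ≫ m
  have hr₂ : r.left (IsLocalRing.closedPoint K') =
      r₂ (IsLocalRing.closedPoint (IsLocalRing.ResidueField B₀)) := by
    change w = m (Spec.map (CommRingCat.ofHom (IsLocalRing.residue B₀))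
      (IsLocalRing.closedPoint (IsLocalRing.ResidueField B₀)))
    have h1 : Spec.map (CommRingCat.ofHom (IsLocalRing.residue B₀))
        (IsLocalRing.closedPoint (IsLocalRing.ResidueField B₀)) =
        (IsLocalRing.closedPoint B₀ : ↥(Spec (CommRingCat.of B₀))) := by
      apply PrimeSpectrum.ext
      change Ideal.comap (IsLocalRing.residue B₀)
        (IsLocalRing.maximalIdeal (IsLocalRing.ResidueField B₀)) = IsLocalRing.maximalIdeal B₀
      rw [IsLocalRing.maximalIdeal_eq_bot, ← RingHom.ker_eq_comap_bot, IsLocalRing.ker_residue]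
    rw [h1, hm2]
  obtain ⟨Ω, instΩ, i₁, i₂, hi⟩ := exists_common_extension_of_eq r.left r₂ hr₂
  let iK : K →+* Ω := i₁.comp ψ
  have hiK : Spec.map (CommRingCat.ofHom iK) =
      Spec.map (CommRingCat.ofHom i₁) ≫ Spec.map (CommRingCat.ofHom ψ) := by
    rw [← Spec.map_comp]
    rfl
  have hw : (Spec.map (CommRingCat.ofHom i₂) ≫
      Spec.map (CommRingCat.ofHom (IsLocalRing.residue B₀))) ≫ strB =
        Spec.map (CommRingCat.ofHom iK) ≫ strK := by
    change (Spec.map (CommRingCat.ofHom i₂) ≫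
      Spec.map (CommRingCat.ofHom (IsLocalRing.residue B₀))) ≫ m ≫ W.hom = _
    have h1 : r.left ≫ W.hom = Spec.map (CommRingCat.ofHom ψ) ≫ strK := Over.w r
    have h2 : (Spec.map (CommRingCat.ofHom i₂) ≫
        Spec.map (CommRingCat.ofHom (IsLocalRing.residue B₀))) ≫ m =
        Spec.map (CommRingCat.ofHom i₁) ≫ r.left := by
      rw [Category.assoc]
      exact hi.symm
    rw [← Category.assoc, h2, Category.assoc, h1, hiK, Category.assoc]
  refine ⟨Ω₀, inferInstance, B₀, strB, (yon S).map mO ≫ a, (yon S).map tT ≫ τ, Ω, instΩ, iK, i₂,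
    hw, ?_, ?_⟩
  · calc ((yon S).map tT ≫ τ) ≫ h = (yon S).map tT ≫ (yon S).map g ≫ a := by
          rw [Category.assoc, hτ]
      _ = (yon S).map (tT ≫ g) ≫ a := by rw [Functor.map_comp, Category.assoc]
      _ = (yon S).map (gen ≫ mO) ≫ a := by rw [htg]
      _ = (yon S).map gen ≫ (yon S).map mO ≫ a := by rw [Functor.map_comp, Category.assoc]
  · let i₁O : Over.mk (Spec.map (CommRingCat.ofHom iK) ≫ strK) ⟶
        Over.mk (Spec.map (CommRingCat.ofHom ψ) ≫ strK) :=
      Over.homMk (Spec.map (CommRingCat.ofHom i₁)) (by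
        change Spec.map (CommRingCat.ofHom i₁) ≫ Spec.map (CommRingCat.ofHom ψ) ≫ strK =
          Spec.map (CommRingCat.ofHom iK) ≫ strK
        rw [hiK, Category.assoc])
    have h3 : (Over.homMk (Spec.map (CommRingCat.ofHom iK)) rfl :
        Over.mk (Spec.map (CommRingCat.ofHom iK) ≫ strK) ⟶ Over.mk strK) =
        i₁O ≫ (Over.homMk (Spec.map (CommRingCat.ofHom ψ)) rfl :
          Over.mk (Spec.map (CommRingCat.ofHom ψ) ≫ strK) ⟶ Over.mk strK) := by
      apply Over.OverMorphism.ext
      exact hiK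
    have h4 : i₁O ≫ r = (Over.homMk (Spec.map (CommRingCat.ofHom i₂) ≫
          Spec.map (CommRingCat.ofHom (IsLocalRing.residue B₀))) hw :
          Over.mk (Spec.map (CommRingCat.ofHom iK) ≫ strK) ⟶ Over.mk strB) ≫ mO := by
      apply Over.OverMorphism.ext
      change Spec.map (CommRingCat.ofHom i₁) ≫ r.left =
        (Spec.map (CommRingCat.ofHom i₂) ≫
          Spec.map (CommRingCat.ofHom (IsLocalRing.residue B₀))) ≫ m
      rw [Category.assoc]
      exact hi
    calc (yon S).map (Over.homMk (Spec.map (CommRingCat.ofHom iK)) rfl :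
          Over.mk (Spec.map (CommRingCat.ofHom iK) ≫ strK) ⟶ Over.mk strK) ≫ top
        = (yon S).map i₁O ≫ (yon S).map (Over.homMk (Spec.map (CommRingCat.ofHom ψ)) rfl :
          Over.mk (Spec.map (CommRingCat.ofHom ψ) ≫ strK) ⟶ Over.mk strK) ≫ top := by
          rw [h3, Functor.map_comp, Category.assoc]
      _ = (yon S).map i₁O ≫ (yon S).map r ≫ a := by rw [hr]
      _ = (yon S).map (i₁O ≫ r) ≫ a := by rw [Functor.map_comp, Category.assoc]
      _ = _ := by rw [h4, Functor.map_comp, Category.assoc]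

end Groth.Agent.Lib.Helper14.AS
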