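import Groth.Agent.Lib.Helper14.GeomRed3
import Groth.Agent.Lib.Helper14.AlgSpDecent

/-!
# Geometrically integral algebraic spaces over a field (helper14)
-/

universe u
open CategoryTheory CategoryTheory.Limits AlgebraicGeometry Opposite
open AlgSp

namespace Groth.Agent.Lib.Helper14.AS

variable {S : Scheme.{u}}

theorem isPullback_prodChart_id {X : Sp S} {U : Over S} (a : (yon S).obj U ⟶ X) (T : Over S) :
    IsPullback ((yon S).map (prod.fst : U ⨯ T ⟶ U)) (prodChart a (𝟙 ((yon S).obj T))) a
      prod.fst := by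
  have sq0 := IsPullback.of_prod_fst_with_id a ((yon S).obj T)
  refine IsPullback.of_iso sq0 (asIso (prodComparison (yon S) U T)).symm (Iso.refl _)
    (Iso.refl _) (Iso.refl _) ?_ ?_ ?_ ?_
  · change prod.fst ≫ 𝟙 _ = inv (prodComparison _ _ _) ≫ (yon S).map prod.fst
    rw [Category.comp_id, IsIso.eq_inv_comp, prodComparison_fst]
  · change prod.map a (𝟙 _) ≫ 𝟙 _ = inv (prodComparison _ _ _) ≫ prodChart a (𝟙 _)
    rw [Category.comp_id, IsIso.eq_inv_comp]
    rfl
  · simp
  · simp

theorem representable_prod_fst_yon (X : Sp S) (T : Over S) :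
    Representable (prod.fst : X ⨯ (yon S).obj T ⟶ X) := by
  intro U a
  exact ⟨U ⨯ T, prod.fst, prodChart a (𝟙 _), (isPullback_prodChart_id a T).flip⟩

theorem isDecent_prod_yon {X : Sp S} (hX : IsDecent X) (T : Over S) :
    IsDecent (X ⨯ (yon S).obj T) :=
  isDecent_of_representable prod.fst (representable_prod_fst_yon X T) hX

/-- Geometrically integral = geometrically reduced + geometrically irreducible. -/
theorem geomIntegral_iff (k : Type u) [Field k] {X : Sp (Spec (CommRingCat.of k))}
    (hXa : IsAlgSpace X) (hX : IsDecent X) :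
    (∀ (K : Type u) [Field K] [Algebra k K],
      IsIntegralSp (X ⨯ (yon (Spec (CommRingCat.of k))).obj (fieldOver k K))) ↔
      (∀ x : Points X, GRAt X x) ∧ ∀ (K : Type u) [Field K] [Algebra k K],
        IrreducibleSpace (Points (X ⨯ (yon (Spec (CommRingCat.of k))).obj (fieldOver k K))) := by
  constructor
  · intro h
    exact ⟨fun x => grAt_of_forall_etaleLocally_isReduced_bc hXa (fun K _ _ => (h K).1) x,
      fun K _ _ => (h K).2.2⟩
  · rintro ⟨h1, h2⟩ K _ _
    exact ⟨etaleLocally_isReduced_bc_of_forall_grAt K hXa h1, isDecent_prod_yon hX _, h2 K⟩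

end Groth.Agent.Lib.Helper14.AS
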