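import Groth.Prelude.Def_FDesc
import Groth.Agent.Lib.Helper14.EtRed
import Groth.Agent.Lib.Helper14.AlgSpFibreEmb
import Groth.Agent.Lib.Helper14.AlgSpPoints
import Groth.Agent.Lib.Helper14.AlgSpBasic2
import Groth.Prelude.Def_AlgSpDec

universe u
open CategoryTheory CategoryTheory.Limits AlgebraicGeometry Opposite

namespace Groth.Agent.Lib.Helper14.AS
open AlgSp

section Scheme
variable {k : Type u} [Field k] {U V : Scheme.{u}}

/-- The base change of `g : V ⟶ U` along a field extension. -/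
noncomputable def bcMap (f : U ⟶ Spec (CommRingCat.of k)) (g : V ⟶ U) (K : Type u) [Field K]
    [Algebra k K] : FBase.bc (g ≫ f) K ⟶ FBase.bc f K :=
  show pullback (g ≫ f) (Spec.map (CommRingCat.ofHom (algebraMap k K))) ⟶
    pullback f (Spec.map (CommRingCat.ofHom (algebraMap k K))) from
  pullback.lift (pullback.fst (g ≫ f) (Spec.map (CommRingCat.ofHom (algebraMap k K))) ≫ g)
    (pullback.snd (g ≫ f) (Spec.map (CommRingCat.ofHom (algebraMap k K)))) (by
    rw [Category.assoc, pullback.condition])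

theorem bcMap_bcπ (f : U ⟶ Spec (CommRingCat.of k)) (g : V ⟶ U) (K : Type u) [Field K]
    [Algebra k K] : bcMap f g K ≫ FBase.bcπ f K = FBase.bcπ (g ≫ f) K ≫ g :=
  pullback.lift_fst _ _ _

theorem isPullback_bcMap (f : U ⟶ Spec (CommRingCat.of k)) (g : V ⟶ U) (K : Type u) [Field K]
    [Algebra k K] : IsPullback (bcMap f g K) (FBase.bcπ (g ≫ f) K) (FBase.bcπ f K) g := by
  refine IsPullback.of_right (h₁₂ := FBase.bcStr f K) (v₁₃ := Spec.map (CommRingCat.ofHom
    (algebraMap k K))) (h₂₂ := f) ?_ (bcMap_bcπ f g K) (IsPullback.of_hasPullback f _).flip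
  have h : bcMap f g K ≫ FBase.bcStr f K = FBase.bcStr (g ≫ f) K := pullback.lift_snd _ _ _
  rw [h]
  exact (IsPullback.of_hasPullback (g ≫ f) _).flip

instance (f : U ⟶ Spec (CommRingCat.of k)) (g : V ⟶ U) [Etale g] (K : Type u) [Field K]
    [Algebra k K] : Etale (bcMap f g K) :=
  MorphismProperty.of_isPullback (P := @Etale) (isPullback_bcMap f g K).flip ‹_›

/-- Geometric reducedness at a point is etale local. -/
theorem isGeomReducedAt_comp_iff (f : U ⟶ Spec (CommRingCat.of k)) (g : V ⟶ U) [Etale g]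
    (v : ↥V) : FBase.IsGeomReducedAt (g ≫ f) v ↔ FBase.IsGeomReducedAt f (g v) := by
  constructor
  · intro h K _ _ y' hy'
    obtain ⟨x', hx1, hx2⟩ := exists_preimage_of_isPullback' (isPullback_bcMap f g K) y' v hy'
    have hred := h K x' hx2
    rw [← hx1]
    exact isReduced_of_injective _ (stalkMap_injective_of_flat (bcMap f g K) x')
  · intro h K _ _ x' hx'
    have h1 : (FBase.bcπ f K) (bcMap f g K x') = g v := by
      rw [← hx', ← Scheme.Hom.comp_apply, bcMap_bcπ, Scheme.Hom.comp_apply]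
    exact Groth.Agent.Lib.Helper8.RedStalk.isReduced_stalk_of_smooth (bcMap f g K) x'
      (h K _ h1)

end Scheme

section Sp
variable {k : Type u} [Field k] {X Y : Sp (Spec (CommRingCat.of k))}

/-- Geometric reducedness at a point of an algebraic space over a field, on some etale chart. -/
def GRAt (X : Sp (Spec (CommRingCat.of k))) (x : Points X) : Prop :=
  ∃ (U : Over (Spec (CommRingCat.of k))) (a : (yon (Spec (CommRingCat.of k))).obj U ⟶ X)
    (u : ↥U.left), RepWith @Etale a ∧ Points.ofPt a u = x ∧ FBase.IsGeomReducedAt U.hom u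

/-- Geometric reducedness at a point does not depend on the etale chart. -/
theorem isGeomReducedAt_of_chart {U U' : Over (Spec (CommRingCat.of k))}
    {a : (yon (Spec (CommRingCat.of k))).obj U ⟶ X}
    {a' : (yon (Spec (CommRingCat.of k))).obj U' ⟶ X} (ha : RepWith @Etale a)
    (ha' : RepWith @Etale a') {u : ↥U.left} {u' : ↥U'.left}
    (h : Points.ofPt a u = Points.ofPt a' u') (hu : FBase.IsGeomReducedAt U.hom u) :
    FBase.IsGeomReducedAt U'.hom u' := by
  have sq := ha.rep.isPullback' a'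
  have hsnd : Etale (ha.rep.snd a').left := ha.property_snd a'
  have hfst : Etale (ha.rep.fst' a').left := by
    have : RepWith @Etale ((yon _).map (ha.rep.fst' a')) :=
      repWith_of_isPullback _ sq.flip ha'
    exact (repWith_yon_map_iff _ _).1 this
  obtain ⟨w, hw1, hw2⟩ := exists_point_of_isPullback_yon sq u u' h
  have h1 : FBase.IsGeomReducedAt ((ha.rep.fst' a').left ≫ U.hom) w := by
    rw [isGeomReducedAt_comp_iff, hw1]
    exact hu
  have h2 : (ha.rep.fst' a').left ≫ U.hom = (ha.rep.snd a').left ≫ U'.hom := by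
    rw [Over.w, Over.w]
  rw [h2, isGeomReducedAt_comp_iff, hw2] at h1
  exact h1

theorem grAt_ofPt_iff {U : Over (Spec (CommRingCat.of k))}
    {a : (yon (Spec (CommRingCat.of k))).obj U ⟶ X} (ha : RepWith @Etale a) (u : ↥U.left) :
    GRAt X (Points.ofPt a u) ↔ FBase.IsGeomReducedAt U.hom u := by
  constructor
  · rintro ⟨U', a', u', ha', hx, hu'⟩
    exact isGeomReducedAt_of_chart ha' ha hx hu'
  · intro h
    exact ⟨U, a, u, ha, rfl, h⟩

theorem exists_chart_at (hX : IsAlgSpace X) (x : Points X) :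
    ∃ (U : Over (Spec (CommRingCat.of k))) (a : (yon (Spec (CommRingCat.of k))).obj U ⟶ X)
      (u : ↥U.left), RepWith @Etale a ∧ Points.ofPt a u = x := by
  obtain ⟨U, a, hae, has⟩ := hX.atlas
  obtain ⟨u, hu⟩ := ofPt_surjective_of_repWith has x
  exact ⟨U, a, u, hae, hu⟩

theorem grAt_iff_forall (hX : IsAlgSpace X) (x : Points X) :
    GRAt X x ↔ ∀ (U : Over (Spec (CommRingCat.of k)))
      (a : (yon (Spec (CommRingCat.of k))).obj U ⟶ X) (u : ↥U.left),
      RepWith @Etale a → Points.ofPt a u = x → FBase.IsGeomReducedAt U.hom u := by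
  constructor
  · rintro ⟨U', a', u', ha', hx, hu'⟩ U a u ha hu
    exact isGeomReducedAt_of_chart ha' ha (hx.trans hu.symm) hu'
  · intro h
    obtain ⟨U, a, u, hae, hu⟩ := exists_chart_at hX x
    exact ⟨U, a, u, hae, hu, h U a u hae hu⟩

theorem grAt_map_iff_of_isEtaleMor (hX : IsAlgSpace X) (f : X ⟶ Y) (he : IsEtaleMor f)
    (x : Points X) : GRAt Y (Points.map f x) ↔ GRAt X x := by
  obtain ⟨U, a, u, hae, rfl⟩ := exists_chart_at hX x
  rw [Points.map_ofPt, grAt_ofPt_iff (he a hae), grAt_ofPt_iff hae]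

theorem grAt_iff_of_etaleAt (f : X ⟶ Y) (x : Points X)
    (he : HasAtMor (fun U _ h u => ∃ W : U.Opens, u ∈ W ∧ Etale (W.ι ≫ h)) f x) :
    GRAt X x ↔ GRAt Y (Points.map f x) := by
  obtain ⟨U, V, a, b, h, u, hae, hbe, hcomm, rfl, W, huW, hW⟩ := he
  rw [Points.map_ofPt, hcomm, ofPt_yon_map_comp, grAt_ofPt_iff hae, grAt_ofPt_iff hbe]
  have h1 := isGeomReducedAt_comp_iff U.hom W.ι ⟨u, huW⟩
  have h2 := isGeomReducedAt_comp_iff V.hom (W.ι ≫ h.left) ⟨u, huW⟩
  have h3 : W.ι ≫ U.hom = (W.ι ≫ h.left) ≫ V.hom := by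
    rw [Category.assoc, Over.w]
  rw [h3] at h1
  exact h1.symm.trans h2

end Sp

end Groth.Agent.Lib.Helper14.AS
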