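import Groth.Agent.Lib.Helper14.GeomRed1
import Groth.Agent.Lib.Helper14.AlgSpDiag
import Groth.Agent.Lib.Helper14.FieldBC

universe u
open CategoryTheory CategoryTheory.Limits AlgebraicGeometry Opposite

namespace Groth.Agent.Lib.Helper14.AS
open AlgSp

section Scheme
variable {k : Type u} [Field k] {U : Scheme.{u}}

theorem spec_map_tower (k K Ω : Type u) [Field k] [Field K] [Field Ω] [Algebra k K] [Algebra k Ω]
    [Algebra K Ω] [IsScalarTower k K Ω] :
    Spec.map (CommRingCat.ofHom (algebraMap K Ω)) ≫ Spec.map (CommRingCat.ofHom (algebraMap k K)) =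
      Spec.map (CommRingCat.ofHom (algebraMap k Ω)) := by
  rw [← Spec.map_comp, ← CommRingCat.ofHom_comp, ← IsScalarTower.algebraMap_eq]

/-- Change of fields `X_Ω ⟶ X_K` for a tower `k → K → Ω`. -/
noncomputable def bcTower (f : U ⟶ Spec (CommRingCat.of k)) (K Ω : Type u) [Field K] [Field Ω]
    [Algebra k K] [Algebra k Ω] [Algebra K Ω] [IsScalarTower k K Ω] :
    FBase.bc f Ω ⟶ FBase.bc f K :=
  show pullback f (Spec.map (CommRingCat.ofHom (algebraMap k Ω))) ⟶
    pullback f (Spec.map (CommRingCat.ofHom (algebraMap k K))) from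
  pullback.lift (pullback.fst f _) (pullback.snd f _ ≫ Spec.map (CommRingCat.ofHom (algebraMap K Ω)))
    (by rw [Category.assoc, spec_map_tower, pullback.condition])

variable (f : U ⟶ Spec (CommRingCat.of k)) (K Ω : Type u) [Field K] [Field Ω]
    [Algebra k K] [Algebra k Ω] [Algebra K Ω] [IsScalarTower k K Ω]

theorem bcTower_bcπ : bcTower f K Ω ≫ FBase.bcπ f K = FBase.bcπ f Ω :=
  pullback.lift_fst _ _ _

theorem bcTower_bcStr : bcTower f K Ω ≫ FBase.bcStr f K =
    FBase.bcStr f Ω ≫ Spec.map (CommRingCat.ofHom (algebraMap K Ω)) :=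
  pullback.lift_snd _ _ _

theorem isPullback_bcTower :
    IsPullback (bcTower f K Ω) (FBase.bcStr f Ω) (FBase.bcStr f K)
      (Spec.map (CommRingCat.ofHom (algebraMap K Ω))) := by
  refine IsPullback.of_right (h₁₂ := FBase.bcπ f K) (v₁₃ := f)
    (h₂₂ := Spec.map (CommRingCat.ofHom (algebraMap k K))) ?_ (bcTower_bcStr f K Ω)
    (IsPullback.of_hasPullback f _)
  rw [bcTower_bcπ, spec_map_tower]
  exact IsPullback.of_hasPullback f _

instance : Flat (bcTower f K Ω) :=
  MorphismProperty.of_isPullback (P := @Flat) (isPullback_bcTower f K Ω).flip inferInstance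

/-- Transitivity of base change: `(X_K)_Ω ≅ X_Ω`. -/
noncomputable def bcTowerIso : FBase.bc f Ω ≅ FBase.bc (FBase.bcStr f K) Ω :=
  (isPullback_bcTower f K Ω).isoPullback

theorem bcTowerIso_hom_bcπ :
    (bcTowerIso f K Ω).hom ≫ FBase.bcπ (FBase.bcStr f K) Ω = bcTower f K Ω :=
  (isPullback_bcTower f K Ω).isoPullback_hom_fst

theorem bcTowerIso_inv_bcTower :
    (bcTowerIso f K Ω).inv ≫ bcTower f K Ω = FBase.bcπ (FBase.bcStr f K) Ω :=
  (isPullback_bcTower f K Ω).isoPullback_inv_fst

omit [Field Ω] [Algebra k Ω] [Algebra K Ω] [IsScalarTower k K Ω] in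
theorem isGeomReducedAt_bcStr_of (u : ↥U) (u' : ↥(FBase.bc f K)) (hu' : FBase.bcπ f K u' = u)
    (h : FBase.IsGeomReducedAt f u) : FBase.IsGeomReducedAt (FBase.bcStr f K) u' := by
  intro L _ _ x'' hx''
  let _ : Algebra k L := ((algebraMap K L).comp (algebraMap k K)).toAlgebra
  have : IsScalarTower k K L := IsScalarTower.of_algebraMap_eq (fun _ => rfl)
  let y : ↥(FBase.bc f L) := (bcTowerIso f K L).inv x''
  have hy : FBase.bcπ f L y = u := by
    rw [← hu', ← hx'', ← bcTower_bcπ f K L, ← bcTowerIso_inv_bcTower f K L]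
    rfl
  have hred := h L y hy
  have hxy : (bcTowerIso f K L).hom y = x'' := by
    change ((bcTowerIso f K L).inv ≫ (bcTowerIso f K L).hom) x'' = x''
    rw [Iso.inv_hom_id]
    rfl
  rw [← hxy]
  exact isReduced_of_injective _ (stalkMap_injective_of_flat (bcTowerIso f K L).hom y)

theorem spec_map_ofHom_preimage {R : CommRingCat.{u}} {A : Type u} [CommRing A]
    (s : Spec R ⟶ Spec (CommRingCat.of A)) :
    Spec.map (CommRingCat.ofHom (Spec.preimage s).hom) = s :=
  Spec.map_preimage s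

set_option backward.isDefEq.respectTransparency false in
omit [Field Ω] [Algebra k Ω] [Algebra K Ω] [IsScalarTower k K Ω] in
theorem isGeomReducedAt_of_bcStr (u : ↥U) (u' : ↥(FBase.bc f K)) (hu' : FBase.bcπ f K u' = u)
    (h : FBase.IsGeomReducedAt (FBase.bcStr f K) u') : FBase.IsGeomReducedAt f u := by
  intro L _ _ x'' hx''
  obtain ⟨z, hz1, hz2⟩ := Scheme.Pullback.exists_preimage_pullback (f := FBase.bcπ f K)
    (g := FBase.bcπ f L) u' x'' (hu'.trans hx''.symm)
  let P : Scheme.{u} := pullback (FBase.bcπ f K) (FBase.bcπ f L)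
  let Ω : Type u := P.residueField z
  let r : Spec (P.residueField z) ⟶ P := P.fromSpecResidueField z
  let sK : Spec (P.residueField z) ⟶ Spec (CommRingCat.of K) :=
    r ≫ pullback.fst _ _ ≫ FBase.bcStr f K
  let sL : Spec (P.residueField z) ⟶ Spec (CommRingCat.of L) :=
    r ≫ pullback.snd _ _ ≫ FBase.bcStr f L
  let φK : K →+* Ω := (Spec.preimage sK).hom
  let φL : L →+* Ω := (Spec.preimage sL).hom
  have hφK : Spec.map (CommRingCat.ofHom φK) = sK := spec_map_ofHom_preimage sK
  have hφL : Spec.map (CommRingCat.ofHom φL) = sL := spec_map_ofHom_preimage sL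
  have hcK : FBase.bcπ f K ≫ f = FBase.bcStr f K ≫ Spec.map (CommRingCat.ofHom (algebraMap k K)) :=
    pullback.condition
  have hcL : FBase.bcπ f L ≫ f = FBase.bcStr f L ≫ Spec.map (CommRingCat.ofHom (algebraMap k L)) :=
    pullback.condition
  have hPc : pullback.fst (FBase.bcπ f K) (FBase.bcπ f L) ≫ FBase.bcπ f K =
      pullback.snd (FBase.bcπ f K) (FBase.bcπ f L) ≫ FBase.bcπ f L := pullback.condition
  have hcomp : φK.comp (algebraMap k K) = φL.comp (algebraMap k L) := by
    have h1 : Spec.map (CommRingCat.ofHom (φK.comp (algebraMap k K))) =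
        Spec.map (CommRingCat.ofHom (φL.comp (algebraMap k L))) := by
      rw [CommRingCat.ofHom_comp, CommRingCat.ofHom_comp, Spec.map_comp, Spec.map_comp, hφK, hφL]
      simp only [sK, sL, Category.assoc]
      rw [← hcK, ← hcL, reassoc_of% hPc]
    have h2 := Spec.map_injective h1
    exact congrArg CommRingCat.Hom.hom h2
  let _ : Algebra K Ω := φK.toAlgebra
  let _ : Algebra L Ω := φL.toAlgebra
  let _ : Algebra k Ω := (φK.comp (algebraMap k K)).toAlgebra
  have tK : IsScalarTower k K Ω := IsScalarTower.of_algebraMap_eq (fun _ => rfl)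
  have tL : IsScalarTower k L Ω := IsScalarTower.of_algebraMap_eq (fun x => by
    change (φK.comp (algebraMap k K)) x = (φL.comp (algebraMap k L)) x
    rw [hcomp])
  have hmc : (r ≫ pullback.fst _ _ ≫ FBase.bcπ f K) ≫ f =
      𝟙 _ ≫ Spec.map (CommRingCat.ofHom (algebraMap k Ω)) := by
    rw [Category.id_comp]
    change _ = Spec.map (CommRingCat.ofHom (φK.comp (algebraMap k K)))
    rw [CommRingCat.ofHom_comp, Spec.map_comp, hφK]
    simp only [sK, Category.assoc]
    rw [hcK]
  let m : Spec (P.residueField z) ⟶ FBase.bc f Ω :=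
    pullback.lift (r ≫ pullback.fst _ _ ≫ FBase.bcπ f K) (𝟙 _) hmc
  have hm1 : m ≫ FBase.bcπ f Ω = r ≫ pullback.fst _ _ ≫ FBase.bcπ f K := pullback.lift_fst _ _ _
  have hm2 : m ≫ FBase.bcStr f Ω = 𝟙 _ := pullback.lift_snd _ _ _
  have E1 : m ≫ bcTower f K Ω = r ≫ pullback.fst _ _ := by
    apply pullback.hom_ext
    · change (m ≫ bcTower f K Ω) ≫ FBase.bcπ f K = (r ≫ pullback.fst _ _) ≫ FBase.bcπ f K
      rw [Category.assoc, bcTower_bcπ, hm1, Category.assoc]
    · change (m ≫ bcTower f K Ω) ≫ FBase.bcStr f K = (r ≫ pullback.fst _ _) ≫ FBase.bcStr f K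
      rw [Category.assoc, bcTower_bcStr, reassoc_of% hm2]
      change Spec.map (CommRingCat.ofHom φK) = _
      rw [hφK, Category.assoc]
  have E2 : m ≫ bcTower f L Ω = r ≫ pullback.snd _ _ := by
    apply pullback.hom_ext
    · change (m ≫ bcTower f L Ω) ≫ FBase.bcπ f L = (r ≫ pullback.snd _ _) ≫ FBase.bcπ f L
      rw [Category.assoc, bcTower_bcπ, hm1, Category.assoc, hPc]
    · change (m ≫ bcTower f L Ω) ≫ FBase.bcStr f L = (r ≫ pullback.snd _ _) ≫ FBase.bcStr f L
      rw [Category.assoc, bcTower_bcStr, reassoc_of% hm2]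
      change Spec.map (CommRingCat.ofHom φL) = _
      rw [hφL, Category.assoc]
  let c : ↥(Spec (P.residueField z)) := IsLocalRing.closedPoint _
  have hrc : r c = z := Scheme.fromSpecResidueField_apply _ _
  let w : ↥(FBase.bc f Ω) := m c
  have hwK : bcTower f K Ω w = u' := by
    change (m ≫ bcTower f K Ω) c = u'
    rw [E1, Scheme.Hom.comp_apply, hrc, hz1]
  have hwL : bcTower f L Ω w = x'' := by
    change (m ≫ bcTower f L Ω) c = x''
    rw [E2, Scheme.Hom.comp_apply, hrc, hz2]
  let y : ↥(FBase.bc (FBase.bcStr f K) Ω) := (bcTowerIso f K Ω).hom w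
  have hy : FBase.bcπ (FBase.bcStr f K) Ω y = u' := by
    change ((bcTowerIso f K Ω).hom ≫ FBase.bcπ (FBase.bcStr f K) Ω) w = u'
    rw [bcTowerIso_hom_bcπ, hwK]
  have hredy := h Ω y hy
  have hyw : (bcTowerIso f K Ω).inv y = w := by
    change ((bcTowerIso f K Ω).hom ≫ (bcTowerIso f K Ω).inv) w = w
    rw [Iso.hom_inv_id]
    rfl
  have hredw : IsReduced ↑((FBase.bc f Ω).presheaf.stalk w) := by
    rw [← hyw]
    exact isReduced_of_injective _ (stalkMap_injective_of_flat (bcTowerIso f K Ω).inv y)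
  rw [← hwL]
  exact isReduced_of_injective _ (stalkMap_injective_of_flat (bcTower f L Ω) w)

end Scheme

section Sp
variable {k : Type u} [Field k] (K : Type u) [Field K] [Algebra k K]

theorem isGeomReducedAt_iff_bcStr {U : Scheme.{u}} (f : U ⟶ Spec (CommRingCat.of k))
    (u' : ↥(FBase.bc f K)) :
    FBase.IsGeomReducedAt (FBase.bcStr f K) u' ↔ FBase.IsGeomReducedAt f (FBase.bcπ f K u') :=
  ⟨isGeomReducedAt_of_bcStr f K _ u' rfl, isGeomReducedAt_bcStr_of f K _ u' rfl⟩

/-- (★) geometric reducedness over `K` of the chart `U × Spec K` versus over `k` of `U`. -/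
theorem isGeomReducedAt_prod_snd_iff (U : Over (Spec (CommRingCat.of k)))
    (u' : ↥(U ⨯ fieldOver k K).left) :
    FBase.IsGeomReducedAt (k := K) (prod.snd : U ⨯ fieldOver k K ⟶ fieldOver k K).left u' ↔
      FBase.IsGeomReducedAt U.hom ((prod.fst : U ⨯ fieldOver k K ⟶ U).left u') := by
  let e : (U ⨯ fieldOver k K).left ≅ FBase.bc U.hom K := Over.prodLeftIsoPullback U (fieldOver k K)
  have h1 : e.hom ≫ FBase.bcπ U.hom K = (prod.fst : U ⨯ fieldOver k K ⟶ U).left :=
    Over.prodLeftIsoPullback_hom_fst U (fieldOver k K)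
  have h2 : e.hom ≫ FBase.bcStr U.hom K = (prod.snd : U ⨯ fieldOver k K ⟶ fieldOver k K).left :=
    Over.prodLeftIsoPullback_hom_snd U (fieldOver k K)
  rw [← h2, isGeomReducedAt_comp_iff (k := K), isGeomReducedAt_iff_bcStr, ← h1]
  rfl

variable {X : Sp (Spec (CommRingCat.of k))} {U : Over (Spec (CommRingCat.of k))}
  (a : (yon (Spec (CommRingCat.of k))).obj U ⟶ X)

/-- The chart `U × Spec K` of `X × Spec K`. -/
noncomputable abbrev bcChart :
    (yon (Spec (CommRingCat.of k))).obj (U ⨯ fieldOver k K) ⟶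
      X ⨯ (yon (Spec (CommRingCat.of k))).obj (fieldOver k K) :=
  prodChart a (𝟙 _)

set_option backward.isDefEq.respectTransparency.types false in
theorem repWith_bcChart (ha : RepWith @Etale a) : RepWith @Etale (bcChart K a) :=
  repWith_prodChart _ ha (repWith_id _ _)

theorem bcChart_fst : bcChart K a ≫ prod.fst = (yon _).map prod.fst ≫ a := by
  change (prodComparison _ _ _ ≫ prod.map a (𝟙 _)) ≫ prod.fst = _
  rw [Category.assoc, Limits.prod.map_fst, ← Category.assoc, prodComparison_fst]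

theorem bcChart_snd : bcChart K a ≫ prod.snd = (yon _).map prod.snd := by
  change (prodComparison _ _ _ ≫ prod.map a (𝟙 _)) ≫ prod.snd = _
  rw [Category.assoc, Limits.prod.map_snd, Category.comp_id, prodComparison_snd]

theorem isPullback_bcChart :
    IsPullback ((yon _).map (prod.fst : U ⨯ fieldOver k K ⟶ U)) (bcChart K a) a prod.fst := by
  have sq0 := IsPullback.of_prod_fst_with_id a ((yon (Spec (CommRingCat.of k))).obj (fieldOver k K))
  refine IsPullback.of_iso sq0 (asIso (prodComparison (yon _) U (fieldOver k K))).symm (Iso.refl _)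
    (Iso.refl _) (Iso.refl _) ?_ ?_ ?_ ?_
  · change prod.fst ≫ 𝟙 _ = inv (prodComparison _ _ _) ≫ (yon _).map prod.fst
    rw [Category.comp_id, IsIso.eq_inv_comp, prodComparison_fst]
  · change prod.map a (𝟙 _) ≫ 𝟙 _ = inv (prodComparison _ _ _) ≫ bcChart K a
    rw [Category.comp_id, IsIso.eq_inv_comp]
    rfl
  · simp
  · simp

theorem map_fst_ofPt_bcChart (u' : ↥(U ⨯ fieldOver k K).left) :
    Points.map prod.fst (Points.ofPt (bcChart K a) u') =
      Points.ofPt a ((prod.fst : U ⨯ fieldOver k K ⟶ U).left u') := by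
  rw [Points.map_ofPt, bcChart_fst, ofPt_yon_map_comp]

theorem exists_ofPt_bcChart_eq
    (x' : Points (X ⨯ (yon (Spec (CommRingCat.of k))).obj (fieldOver k K))) (u : ↥U.left)
    (h : Points.map prod.fst x' = Points.ofPt a u) :
    ∃ u' : ↥(U ⨯ fieldOver k K).left, Points.ofPt (bcChart K a) u' = x' ∧
      (prod.fst : U ⨯ fieldOver k K ⟶ U).left u' = u := by
  rw [Points.ofPt_eq_map_ofScheme a] at h
  obtain ⟨z, hz1, hz2⟩ := points_exists_of_isPullback (isPullback_bcChart K a) _ _ h.symm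
  obtain ⟨v, rfl⟩ := (Points.schemeHomeo _).surjective z
  refine ⟨v, ?_, ?_⟩
  · rw [Points.ofPt_eq_map_ofScheme]
    exact hz2
  · have := (Points.map_yon_map_apply (prod.fst : U ⨯ fieldOver k K ⟶ U) v).symm.trans hz1
    exact (Points.schemeHomeo U).injective this

/-- Geometric reducedness over `K` at a point does not depend on the etale chart over `K`. -/
theorem isGeomReducedAt_of_chartK {Z : Sp (Spec (CommRingCat.of k))}
    (s : Z ⟶ (yon (Spec (CommRingCat.of k))).obj (fieldOver k K))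
    {V V' : Over (Spec (CommRingCat.of k))}
    {b : (yon (Spec (CommRingCat.of k))).obj V ⟶ Z}
    {b' : (yon (Spec (CommRingCat.of k))).obj V' ⟶ Z} (hb : RepWith @Etale b)
    (hb' : RepWith @Etale b') {q : V ⟶ fieldOver k K} {q' : V' ⟶ fieldOver k K}
    (hq : b ≫ s = (yon _).map q) (hq' : b' ≫ s = (yon _).map q')
    {v : ↥V.left} {v' : ↥V'.left}
    (h : Points.ofPt b v = Points.ofPt b' v') (hv : FBase.IsGeomReducedAt (k := K) q.left v) :
    FBase.IsGeomReducedAt (k := K) q'.left v' := by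
  have sq := hb.rep.isPullback' b'
  have hsnd : Etale (hb.rep.snd b').left := hb.property_snd b'
  have hfst : Etale (hb.rep.fst' b').left := by
    have : RepWith @Etale ((yon _).map (hb.rep.fst' b')) :=
      repWith_of_isPullback _ sq.flip hb'
    exact (repWith_yon_map_iff _ _).1 this
  obtain ⟨w, hw1, hw2⟩ := exists_point_of_isPullback_yon sq v v' h
  have h1 : FBase.IsGeomReducedAt (k := K) ((hb.rep.fst' b').left ≫ q.left) w := by
    rw [isGeomReducedAt_comp_iff (k := K), hw1]
    exact hv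
  have h2 : (hb.rep.fst' b').left ≫ q.left = (hb.rep.snd b').left ≫ q'.left := by
    have e : (yon _).map (hb.rep.fst' b' ≫ q) = (yon _).map (hb.rep.snd b' ≫ q') := by
      rw [Functor.map_comp, Functor.map_comp, ← hq, ← hq', ← Category.assoc, ← Category.assoc, sq.w]
    exact congrArg (fun m => m.left) ((yon _).map_injective e)
  rw [h2, isGeomReducedAt_comp_iff (k := K), hw2] at h1
  exact h1

/-- Geometric reducedness over `K` at a point of `X × Spec K`, on some etale chart over `K`. -/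
def GRAtK (x' : Points (X ⨯ (yon (Spec (CommRingCat.of k))).obj (fieldOver k K))) : Prop :=
  ∃ (U' : Over (Spec (CommRingCat.of k)))
    (a' : (yon (Spec (CommRingCat.of k))).obj U' ⟶
      X ⨯ (yon (Spec (CommRingCat.of k))).obj (fieldOver k K))
    (q : U' ⟶ fieldOver k K) (u' : ↥U'.left),
    RepWith @Etale a' ∧ a' ≫ prod.snd = (yon (Spec (CommRingCat.of k))).map q ∧
      Points.ofPt a' u' = x' ∧ FBase.IsGeomReducedAt (k := K) q.left u'

theorem grAt_iff_grAtK (hX : IsAlgSpace X) (x : Points X)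
    (x' : Points (X ⨯ (yon (Spec (CommRingCat.of k))).obj (fieldOver k K)))
    (hx' : Points.map prod.fst x' = x) : GRAt X x ↔ GRAtK K x' := by
  obtain ⟨U, a, u, ha, hu⟩ := exists_chart_at hX x
  obtain ⟨u'', hu''1, hu''2⟩ := exists_ofPt_bcChart_eq K a x' u (hx'.trans hu.symm)
  have key : GRAtK K x' ↔
      FBase.IsGeomReducedAt (k := K) (prod.snd : U ⨯ fieldOver k K ⟶ fieldOver k K).left u'' := by
    constructor
    · rintro ⟨U', a', q, u', ha', hq, hpt, hgr⟩
      exact isGeomReducedAt_of_chartK K prod.snd ha' (repWith_bcChart K a ha) hq (bcChart_snd K a)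
        (hpt.trans hu''1.symm) hgr
    · intro h
      exact ⟨_, bcChart K a, prod.snd, u'', repWith_bcChart K a ha, bcChart_snd K a, hu''1, h⟩
  rw [key, isGeomReducedAt_prod_snd_iff, hu''2, ← hu, grAt_ofPt_iff ha]

theorem exists_prod_fst_left_eq (U : Over (Spec (CommRingCat.of k))) (u : ↥U.left) :
    ∃ u' : ↥(U ⨯ fieldOver k K).left, (prod.fst : U ⨯ fieldOver k K ⟶ U).left u' = u := by
  have hsub : Subsingleton ↥(Spec (CommRingCat.of k)) :=
    (inferInstance : Subsingleton (PrimeSpectrum k))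
  let y : ↥(Spec (CommRingCat.of K)) := IsLocalRing.closedPoint K
  obtain ⟨z, hz1, -⟩ := Scheme.Pullback.exists_preimage_pullback (f := U.hom)
    (g := Spec.map (CommRingCat.ofHom (algebraMap k K))) u y (Subsingleton.elim _ _)
  refine ⟨(Over.prodLeftIsoPullback U (fieldOver k K)).inv z, ?_⟩
  rw [← Scheme.Hom.comp_apply, Over.prodLeftIsoPullback_inv_fst]
  exact hz1

theorem points_map_prod_fst_surjective (hX : IsAlgSpace X) :
    Function.Surjective (Points.map
      (prod.fst : X ⨯ (yon (Spec (CommRingCat.of k))).obj (fieldOver k K) ⟶ X)) := by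
  intro x
  obtain ⟨U, a, u, ha, hu⟩ := exists_chart_at hX x
  obtain ⟨u', hu'⟩ := exists_prod_fst_left_eq K U u
  refine ⟨Points.ofPt (bcChart K a) u', ?_⟩
  rw [map_fst_ofPt_bcChart, hu', hu]

theorem forall_grAt_iff_forall_grAtK (hX : IsAlgSpace X) :
    (∀ x : Points X, GRAt X x) ↔
      ∀ x' : Points (X ⨯ (yon (Spec (CommRingCat.of k))).obj (fieldOver k K)), GRAtK K x' := by
  constructor
  · intro h x'
    exact (grAt_iff_grAtK K hX _ x' rfl).1 (h _)
  · intro h x
    obtain ⟨x', hx'⟩ := points_map_prod_fst_surjective K hX x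
    exact (grAt_iff_grAtK K hX x x' hx').2 (h x')

end Sp

end Groth.Agent.Lib.Helper14.AS
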