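import Mathlib

/-!
# Surjectivity of morphisms of finite type schemes over a field can be tested on geometric points
(helper14)
-/

set_option autoImplicit false
universe u
open CategoryTheory CategoryTheory.Limits AlgebraicGeometry Topology

namespace Groth.Agent.Lib.Helper14.GeomSurj

/-- `s` is a union of locally closed subsets. -/
def LC {X : Type*} [TopologicalSpace X] (s : Set X) : Prop :=
  ∀ x ∈ s, ∃ t : Set X, IsLocallyClosed t ∧ x ∈ t ∧ t ⊆ s

theorem lc_and_lc_compl_of_isConstructible {X : Type*} [TopologicalSpace X] {s : Set X}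
    (hs : IsConstructible s) : LC s ∧ LC sᶜ := by
  induction hs using IsConstructible.empty_union_induction with
  | open_retrocompact U hU _ =>
    exact ⟨fun x hx => ⟨U, hU.isLocallyClosed, hx, subset_rfl⟩,
      fun x hx => ⟨Uᶜ, hU.isClosed_compl.isLocallyClosed, hx, subset_rfl⟩⟩
  | union s _ t _ hs ht =>
    refine ⟨?_, ?_⟩
    · rintro x (hx | hx)
      · obtain ⟨t', h1, h2, h3⟩ := hs.1 x hx
        exact ⟨t', h1, h2, h3.trans Set.subset_union_left⟩
      · obtain ⟨t', h1, h2, h3⟩ := ht.1 x hx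
        exact ⟨t', h1, h2, h3.trans Set.subset_union_right⟩
    · intro x hx
      rw [Set.compl_union] at hx
      obtain ⟨t₁, h1, h2, h3⟩ := hs.2 x hx.1
      obtain ⟨t₂, h1', h2', h3'⟩ := ht.2 x hx.2
      refine ⟨t₁ ∩ t₂, h1.inter h1', ⟨h2, h2'⟩, ?_⟩
      rw [Set.compl_union]
      exact Set.inter_subset_inter h3 h3'
  | compl s _ hs =>
    refine ⟨hs.2, ?_⟩
    rw [compl_compl]
    exact hs.1

/-- A nonempty constructible subset of a Jacobson space contains a closed point. -/
theorem exists_closedPoint_of_isConstructible {X : Type*} [TopologicalSpace X] [JacobsonSpace X]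
    {s : Set X} (hs : IsConstructible s) (hne : s.Nonempty) : (s ∩ closedPoints X).Nonempty := by
  obtain ⟨x, hx⟩ := hne
  obtain ⟨t, h1, h2, h3⟩ := (lc_and_lc_compl_of_isConstructible hs).1 x hx
  obtain ⟨y, hy1, hy2⟩ := nonempty_inter_closedPoints ⟨x, h2⟩ h1
  exact ⟨y, h3 hy1, hy2⟩

end Groth.Agent.Lib.Helper14.GeomSurj
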