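import Groth.Agent.Lib.Helper14.GeomSurj2

set_option autoImplicit false
universe u
open CategoryTheory CategoryTheory.Limits AlgebraicGeometry Topology

namespace Groth.Agent.Lib.Helper14.GeomSurj

variable {k : Type u} [Field k] (K : Type u) [Field K] [Algebra k K] [IsAlgClosure k K]

/-- A morphism of schemes of finite type over a field is surjective iff it is surjective on
points with values in an algebraic closure. -/
theorem surjective_iff_forall_geomPoint {P Q : Over (Spec (CommRingCat.of k))} (Φ : P ⟶ Q)
    [LocallyOfFiniteType P.hom] [QuasiCompact P.hom] [LocallyOfFiniteType Q.hom]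
    [QuasiCompact Q.hom] :
    Surjective Φ.left ↔
      ∀ q : Over.mk (Spec.map (CommRingCat.ofHom (algebraMap k K))) ⟶ Q,
        ∃ p : Over.mk (Spec.map (CommRingCat.ofHom (algebraMap k K))) ⟶ P, p ≫ Φ = q := by
  have hK : IsAlgClosed K := IsAlgClosure.isAlgClosed k
  have hw : Φ.left ≫ Q.hom = P.hom := Over.w Φ
  have hΦlft : LocallyOfFiniteType Φ.left := by
    have : LocallyOfFiniteType (Φ.left ≫ Q.hom) := by rw [hw]; infer_instance
    exact locallyOfFiniteType_of_comp Φ.left Q.hom
  constructor
  · intro hs q
    obtain ⟨u, hu⟩ := hs.surj (q.left (IsLocalRing.closedPoint K))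
    obtain ⟨z, hz⟩ := exists_lift_of_lft Φ.left q.left u hu
    have hzP : z ≫ P.hom = Spec.map (CommRingCat.ofHom (algebraMap k K)) := by
      rw [← hw, ← Category.assoc, hz]
      exact Over.w q
    refine ⟨Over.homMk z hzP, ?_⟩
    ext
    exact hz
  · intro hpts
    have hQN : IsLocallyNoetherian Q.left := LocallyOfFiniteType.isLocallyNoetherian Q.hom
    have hQc : CompactSpace ↥Q.left := QuasiCompact.compactSpace_of_compactSpace Q.hom
    have hPc : CompactSpace ↥P.left := QuasiCompact.compactSpace_of_compactSpace P.hom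
    have hΦlfp : LocallyOfFinitePresentation Φ.left :=
      LocallyOfFinitePresentation.iff_locallyOfFiniteType.2 hΦlft
    have hΦqc : QuasiCompact Φ.left := inferInstance
    have hcons : IsConstructible (Set.range Φ.left) := by
      rw [← Set.image_univ]
      exact Φ.left.isConstructible_image IsConstructible.univ
    have hQJ : JacobsonSpace ↥Q.left := LocallyOfFiniteType.jacobsonSpace Q.hom
    refine ⟨fun y => ?_⟩
    by_contra hy
    obtain ⟨z, hz1, hz2⟩ := exists_closedPoint_of_isConstructible hcons.compl ⟨y, hy⟩
    obtain ⟨q, hq1, hq2⟩ := exists_geomPoint_of_closedPoint K Q.hom z hz2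
    obtain ⟨p, hp⟩ := hpts (Over.homMk q hq1)
    apply hz1
    refine ⟨p.left (IsLocalRing.closedPoint K), ?_⟩
    have h3 := congrArg (fun m => m.left) hp
    simp only [Over.comp_left, Over.homMk_left] at h3
    rw [← hq2, ← h3]
    rfl

end Groth.Agent.Lib.Helper14.GeomSurj
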