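import Groth.Agent.Lib.Helper14.GorSq
import Groth.Agent.Lib.Helper14.AlgSpNoethChart
import Groth.Agent.Lib.Helper14.AlgSpDecent
import Groth.Agent.Lib.Helper14.ChainRule

universe u
open CategoryTheory CategoryTheory.Limits AlgebraicGeometry Opposite Topology

namespace Groth.Agent.Lib.Helper14.AS
open AlgSp

variable {S : Scheme.{u}} {X Y : Sp S}

/-- fibres over field points are locally Noetherian -/
def LNFSp (f : X ⟶ Y) : Prop :=
  ∀ (k : FieldPt Y) (Xk : Sp S) (a : Xk ⟶ X) (b : Xk ⟶ (yon S).obj k.pt),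
    IsPullback a b f k.toHom → IsLocNoethSp Xk

set_option backward.isDefEq.respectTransparency.types false in
theorem lnf_chart (f : X ⟶ Y) (hf : LNFSp f) {U V : Over S}
    (a : (yon S).obj U ⟶ X) (b : (yon S).obj V ⟶ Y) (h : U ⟶ V)
    (ha : RepWith @Etale a) (hb : RepWith @Etale b) (comm : a ≫ f = (yon S).map h ≫ b) :
    LNF h.left := by
  intro v
  let k : FieldPt Y := FieldPt.ofPt b v
  let g : k.pt ⟶ V := Over.homMk (V.left.fromSpecResidueField v) rfl
  have hk : k.toHom = (yon S).map g ≫ b := FieldPt.toHom_ofPt b v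
  have hXk := hf k _ _ _ (IsPullback.of_hasPullback f k.toHom)
  -- the fibre of the chart
  have sqT := IsPullback.of_hasPullback h g
  have sqTy := sqT.map (yon S)
  -- the pullback of b along f
  have sqP := IsPullback.of_hasPullback f b
  have hq1 : RepWith @Etale (pullback.fst f b) := repWith_of_isPullback _ sqP.flip hb
  obtain ⟨γ, hγ1, hγ2⟩ : ∃ γ : (yon S).obj U ⟶ pullback f b, γ ≫ pullback.fst f b = a ∧
      γ ≫ pullback.snd f b = (yon S).map h := ⟨pullback.lift a _ comm, pullback.lift_fst _ _ _,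
        pullback.lift_snd _ _ _⟩
  have hγ : RepWith @Etale γ := repWith_etale_of_comp γ _ hq1 (by rw [hγ1]; exact ha)
  -- the map from the fibre to P
  obtain ⟨m, hm1, hm2⟩ : ∃ m : pullback f k.toHom ⟶ pullback f b,
      m ≫ pullback.fst f b = pullback.fst f k.toHom ∧
      m ≫ pullback.snd f b = pullback.snd f k.toHom ≫ (yon S).map g :=
    ⟨pullback.lift (pullback.fst _ _) (pullback.snd _ _ ≫ (yon S).map g)
      (by rw [pullback.condition, hk, Category.assoc]), pullback.lift_fst _ _ _,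
      pullback.lift_snd _ _ _⟩
  have sqR : IsPullback (pullback.snd f k.toHom) m ((yon S).map g) (pullback.snd f b) := by
    refine IsPullback.of_bot ?_ hm2.symm sqP.flip
    rw [hm1, ← hk]
    exact (IsPullback.of_hasPullback f k.toHom).flip
  obtain ⟨e, he1, he2⟩ : ∃ e : (yon S).obj (pullback h g) ⟶ pullback f k.toHom,
      e ≫ pullback.fst f k.toHom = (yon S).map (pullback.fst h g) ≫ a ∧
      e ≫ pullback.snd f k.toHom = (yon S).map (pullback.snd h g) :=
    ⟨pullback.lift ((yon S).map (pullback.fst h g) ≫ a) ((yon S).map (pullback.snd h g))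
      (by rw [Category.assoc, comm, hk, ← Category.assoc, ← Category.assoc, sqTy.w]),
      pullback.lift_fst _ _ _, pullback.lift_snd _ _ _⟩
  have hem : e ≫ m = (yon S).map (pullback.fst h g) ≫ γ := by
    apply pullback.hom_ext
    · rw [Category.assoc, hm1, he1, Category.assoc, hγ1]
    · rw [Category.assoc, hm2, ← Category.assoc, he2, Category.assoc, hγ2, sqTy.w]
  have sqL : IsPullback e ((yon S).map (pullback.fst h g)) m γ := by
    refine IsPullback.of_right ?_ hem sqR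
    rw [he2, hγ2]
    exact sqTy.flip
  have hee : RepWith @Etale e := repWith_of_isPullback _ sqL.flip hγ
  have hN : IsLocallyNoetherian (pullback h g).left := isLocallyNoetherian_of_etale_over hXk e hee
  have sqS := sqT.map (Over.forget S)
  have : IsLocallyNoetherian ((Over.forget S).obj (pullback h g)) := hN
  have hiso := isLocallyNoetherian_of_isOpenImmersion sqS.isoPullback.inv
  exact hiso

/-- invariance under etale squares between morphisms of a class `C` -/
def EtSqInvOn (C : ∀ (U V : Scheme.{u}), (U ⟶ V) → Prop)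
    (Q : ∀ (U V : Scheme.{u}), (U ⟶ V) → ↥U → Prop) : Prop :=
  ∀ ⦃U U' V V' : Scheme.{u}⦄ (h : U ⟶ V) (h' : U' ⟶ V') (a : U' ⟶ U) (b : V' ⟶ V),
    Etale a → Etale b → h' ≫ b = a ≫ h → C U V h → C U' V' h' →
      ∀ u' : ↥U', Q U V h (a u') ↔ Q U' V' h' u'

set_option backward.isDefEq.respectTransparency.types false in
theorem Q_chart_indep_on {C : ∀ (U V : Scheme.{u}), (U ⟶ V) → Prop}
    {Q : ∀ (U V : Scheme.{u}), (U ⟶ V) → ↥U → Prop} (hQ : EtSqInvOn C Q)
    (f : X ⟶ Y)
    (hC : ∀ ⦃U V : Over S⦄ (a : (yon S).obj U ⟶ X) (b : (yon S).obj V ⟶ Y) (h : U ⟶ V),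
      RepWith @Etale a → RepWith @Etale b → a ≫ f = (yon S).map h ≫ b → C U.left V.left h.left)
    {U V U₁ V₁ : Over S}
    (a : (yon S).obj U ⟶ X) (b : (yon S).obj V ⟶ Y) (h : U ⟶ V)
    (ha : RepWith @Etale a) (hb : RepWith @Etale b) (comm : a ≫ f = (yon S).map h ≫ b)
    (a₁ : (yon S).obj U₁ ⟶ X) (b₁ : (yon S).obj V₁ ⟶ Y) (h₁ : U₁ ⟶ V₁)
    (ha₁ : RepWith @Etale a₁) (hb₁ : RepWith @Etale b₁)
    (comm₁ : a₁ ≫ f = (yon S).map h₁ ≫ b₁) (u : ↥U.left) (u₁ : ↥U₁.left)
    (hu : Points.ofPt a u = Points.ofPt a₁ u₁) :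
    Q U.left V.left h.left u ↔ Q U₁.left V₁.left h₁.left u₁ := by
  have sqU := ha.rep.isPullback' a₁
  have sqV := hb.rep.isPullback' b₁
  have eU1 : Etale (ha.rep.snd a₁).left := ha.property_snd a₁
  have eU0' : RepWith @Etale ((yon S).map (ha.rep.fst' a₁)) :=
    repWith_of_isPullback _ sqU.flip ha₁
  have eU0 : Etale (ha.rep.fst' a₁).left := (repWith_yon_map_iff _ _).1 eU0'
  have eV1 : Etale (hb.rep.snd b₁).left := hb.property_snd b₁
  have eV0' : RepWith @Etale ((yon S).map (hb.rep.fst' b₁)) :=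
    repWith_of_isPullback _ sqV.flip hb₁
  have eV0 : Etale (hb.rep.fst' b₁).left := (repWith_yon_map_iff _ _).1 eV0'
  have compat : (yon S).map (ha.rep.fst' a₁ ≫ h) ≫ b = (yon S).map (ha.rep.snd a₁ ≫ h₁) ≫ b₁ := by
    rw [Functor.map_comp, Functor.map_comp, Category.assoc, Category.assoc, ← comm, ← comm₁,
      ← Category.assoc, ← Category.assoc, sqU.w]
  obtain ⟨h₃, hh₃⟩ := (yon S).map_surjective (sqV.lift _ _ compat)
  have c0 : h₃ ≫ hb.rep.fst' b₁ = ha.rep.fst' a₁ ≫ h :=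
    (yon S).map_injective (by rw [Functor.map_comp, hh₃, sqV.lift_fst])
  have c1 : h₃ ≫ hb.rep.snd b₁ = ha.rep.snd a₁ ≫ h₁ :=
    (yon S).map_injective (by rw [Functor.map_comp, hh₃, sqV.lift_snd])
  obtain ⟨w, hw0, hw1⟩ := exists_point_of_isPullback_yon sqU u u₁ hu
  have C0 := hC a b h ha hb comm
  have C1 := hC a₁ b₁ h₁ ha₁ hb₁ comm₁
  have C3 : C _ _ h₃.left := by
    refine hC ((yon S).map (ha.rep.fst' a₁) ≫ a) ((yon S).map (hb.rep.fst' b₁) ≫ b) h₃
      (repWith_comp _ eU0' ha) (repWith_comp _ eV0' hb) ?_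
    rw [Category.assoc, comm, ← Category.assoc, ← Functor.map_comp, ← c0, Functor.map_comp,
      Category.assoc]
  have k0 := hQ h.left h₃.left (ha.rep.fst' a₁).left (hb.rep.fst' b₁).left eU0 eV0
    (by rw [← Over.comp_left, ← Over.comp_left, c0]) C0 C3 w
  have k1 := hQ h₁.left h₃.left (ha.rep.snd a₁).left (hb.rep.snd b₁).left eU1 eV1
    (by rw [← Over.comp_left, ← Over.comp_left, c1]) C1 C3 w
  rw [hw0] at k0
  rw [hw1] at k1
  exact k0.trans k1.symm

theorem etSqInvOn_gor : EtSqInvOn (fun _ _ h => LNF h) (fun _ _ h u => Dual3.IsGorensteinAt h u) := by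
  intro U U' V V' h h' a b ha hb comm hh hh' u'
  exact gorAt_etSq h h' a b comm hh hh' u'

/-- one chart diagram suffices for Gorenstein-ness at a point -/
theorem locPAt_gor_iff (f : X ⟶ Y) (hf : LNFSp f) {U V : Over S}
    (a : (yon S).obj U ⟶ X) (b : (yon S).obj V ⟶ Y) (h : U ⟶ V)
    (ha : RepWith @Etale a) (hb : RepWith @Etale b) (comm : a ≫ f = (yon S).map h ≫ b)
    (u : ↥U.left) :
    LocPAt (fun h u => Dual3.IsGorensteinAt h u) f (Points.ofPt a u) ↔
      Dual3.IsGorensteinAt h.left u := by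
  constructor
  · intro H
    exact H a b h u ha hb comm rfl
  · intro H U₁ V₁ a₁ b₁ h₁ u₁ ha₁ hb₁ comm₁ hu₁
    exact (Q_chart_indep_on etSqInvOn_gor f (fun _ _ a b h ha hb comm => lnf_chart f hf a b h ha hb comm)
      a b h ha hb comm a₁ b₁ h₁ ha₁ hb₁ comm₁ u u₁ hu₁.symm).1 H

end Groth.Agent.Lib.Helper14.AS
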