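import Groth.Agent.Lib.Helper14.GorBCSch
import Groth.Agent.Lib.Helper14.GorSp
import Groth.Agent.Lib.Helper14.BCChart
import Groth.Agent.Lib.Helper14.FibTop
import Groth.Prelude.Def_AlgSpDec

universe u
set_option linter.style.haveILetI false
set_option linter.unusedSectionVars false
open CategoryTheory CategoryTheory.Limits AlgebraicGeometry Opposite Topology

namespace Groth.Agent.Lib.Helper14.AS
open AlgSp

variable {S : Scheme.{u}}

theorem lnfSp_baseChange {X Y X' Y' : Sp S} (f : X ⟶ Y) (g : Y' ⟶ Y) (g' : X' ⟶ X) (f' : X' ⟶ Y')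
    (hsq : IsPullback g' f' f g) (hf : LNFSp f) : LNFSp f' := by
  intro k Xk a b sq
  have h1 := sq.paste_horiz hsq
  rw [← FieldPt.toHom_map g k] at h1
  exact hf (k.map g) Xk (a ≫ g') b h1

set_option backward.isDefEq.respectTransparency.types false in
theorem gor_baseChange_sp {X Y X' Y' : Sp S} (hX : IsAlgSpace X) (hY : IsAlgSpace Y)
    (hY' : IsAlgSpace Y') (f : X ⟶ Y) (g : Y' ⟶ Y) (g' : X' ⟶ X) (f' : X' ⟶ Y')
    (hsq : IsPullback g' f' f g) (hf : LNFSp f) (hg : LocP @LocallyOfFiniteType g)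
    (x' : Points X') :
    (LocPAt (fun h u => Dual3.IsGorensteinAt h u) f (Points.map g' x') →
        LocPAt (fun h u => Dual3.IsGorensteinAt h u) f' x') ∧
      (IsFlatAtMor f (Points.map g' x') → LocPAt (fun h u => Dual3.IsGorensteinAt h u) f' x' →
        LocPAt (fun h u => Dual3.IsGorensteinAt h u) f (Points.map g' x')) ∧
      (IsFlatAtMor g (Points.map f' x') → LocPAt (fun h u => Dual3.IsGorensteinAt h u) f' x' →
        LocPAt (fun h u => Dual3.IsGorensteinAt h u) f (Points.map g' x')) := by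
  obtain ⟨U, V, U', V', a, b, a', b', h, h', α, β, hae, has, hbe, hbs, ha'e, ha's, hb'e, hb's,
    comm, comm', cα, cβ, sqS⟩ := exists_bc_chart hX hY hY' f g g' f' hsq
  obtain ⟨u', rfl⟩ := ofPt_surjective_of_repWith ha's x'
  have hf' : LNFSp f' := lnfSp_baseChange f g g' f' hsq hf
  have hx : Points.map g' (Points.ofPt a' u') = Points.ofPt a (α.left u') :=
    map_ofPt_chart g' a' a α cα u'
  have hy : Points.map f' (Points.ofPt a' u') = Points.ofPt b' (h'.left u') :=
    map_ofPt_chart f' a' b' h' comm' u'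
  rw [hx, locPAt_gor_iff f hf a b h hae hbe comm, locPAt_gor_iff f' hf' a' b' h' ha'e hb'e comm']
  haveI : LocallyOfFiniteType β.left := hg b' b β hb'e hbe cβ
  have sqSch : IsPullback α.left h'.left h.left β.left := sqS.map (Over.forget S)
  have key := gorAt_baseChange sqSch (lnf_chart f hf a b h hae hbe comm) u'
  refine ⟨key.1, fun hfl => key.2.1 (hfl a b h (α.left u') hae hbe comm rfl), fun hfl => key.2.2 ?_⟩
  exact hfl b' b β (h'.left u') hb'e hbe cβ hy.symm

end Groth.Agent.Lib.Helper14.AS
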