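import Groth.Agent.Lib.Helper14.GorSp2
import Groth.Agent.Lib.Helper4.HzsLocal2
import Groth.Agent.Lib.Helper4.HzsQuot
import Groth.Agent.Lib.Helper18.FibBridge

universe u
set_option linter.style.haveILetI false
open CategoryTheory CategoryTheory.Limits AlgebraicGeometry Opposite Topology
open scoped TensorProduct

namespace Groth.Agent.Lib.Helper14.AS
open AlgSp
open Groth.Agent.Lib.Helper4.Hzs Groth.Agent.Lib.Helper4.Hzn IsLocalRing

section

variable (R S : Type u) [CommRing R] [IsLocalRing R] [CommRing S] [IsLocalRing S] [Algebra R S]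
  (Rh : Type u) [CommRing Rh] [IsLocalRing Rh] [Algebra R Rh] [IsLocalHom (algebraMap R Rh)]
  (Sh : Type u) [CommRing Sh] [IsLocalRing Sh] [Algebra S Sh] [IsLocalHom (algebraMap S Sh)]
  [Algebra R Sh] [IsScalarTower R S Sh] [Algebra Rh Sh] [IsScalarTower R Rh Sh]
  [hRh : Hensel.IsStrictHenselization R Rh] [hSh : Hensel.IsStrictHenselization S Sh]

include hRh hSh in
theorem flat_strictHenselization_of_flat (hloc : IsLocalHom (algebraMap Rh Sh))
    [Module.Flat R S] : Module.Flat Rh Sh := by
  have hsh := isStrictHenselization_tensor_local R S Rh Sh hloc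
  have h3 : (tψ R S Rh Sh).Flat := by
    letI : Algebra (Localization.AtPrime (tQ R S Rh Sh)) Sh := (tψ R S Rh Sh).toAlgebra
    haveI : IsLocalHom (algebraMap (Localization.AtPrime (tQ R S Rh Sh)) Sh) :=
      isLocalHom_tψ R S Rh Sh
    have hff : Module.FaithfullyFlat (Localization.AtPrime (tQ R S Rh Sh)) Sh :=
      faithfullyFlat_of_isStrictHenselization _ Sh
    exact (inferInstance : Module.Flat (Localization.AtPrime (tQ R S Rh Sh)) Sh)
  have h1 : (algebraMap Rh (Rh ⊗[R] S)).Flat := by
    rw [RingHom.flat_algebraMap_iff]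
    infer_instance
  have h2 : (algebraMap (Rh ⊗[R] S) (Localization.AtPrime (tQ R S Rh Sh))).Flat := by
    rw [RingHom.flat_algebraMap_iff]
    exact IsLocalization.flat _ (tQ R S Rh Sh).primeCompl
  have hcomp : algebraMap Rh Sh = (tψ R S Rh Sh).comp
      ((algebraMap (Rh ⊗[R] S) (Localization.AtPrime (tQ R S Rh Sh))).comp
        (algebraMap Rh (Rh ⊗[R] S))) := by
    ext a
    exact (tψ_tmul_one R S Rh Sh a).symm
  rw [← RingHom.flat_algebraMap_iff, hcomp]
  exact (h1.comp h2).comp h3

end

/-- Flatness of a local homomorphism is equivalent to flatness of a compatible map of strict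
henselizations. -/
theorem flat_iff_flat_strictHenselization {A B : Type u} [CommRing A] [IsLocalRing A]
    [CommRing B] [IsLocalRing B] (ψ : A →+* B)
    (A' : Type u) [CommRing A'] [IsLocalRing A'] [Algebra A A'] [IsLocalHom (algebraMap A A')]
    [Hensel.IsStrictHenselization A A']
    (B' : Type u) [CommRing B'] [IsLocalRing B'] [Algebra B B'] [IsLocalHom (algebraMap B B')]
    [Hensel.IsStrictHenselization B B']
    (φ : A' →+* B') [IsLocalHom φ]
    (hφ : φ.comp (algebraMap A A') = (algebraMap B B').comp ψ) : ψ.Flat ↔ φ.Flat := by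
  letI : Algebra A B := ψ.toAlgebra
  letI : Algebra A B' := ((algebraMap B B').comp ψ).toAlgebra
  haveI : IsScalarTower A B B' := IsScalarTower.of_algebraMap_eq' rfl
  letI : Algebra A' B' := φ.toAlgebra
  haveI : IsScalarTower A A' B' := IsScalarTower.of_algebraMap_eq' hφ.symm
  have hloc : IsLocalHom (algebraMap A' B') := ‹IsLocalHom φ›
  constructor
  · intro h
    haveI : Module.Flat A B := h
    exact flat_strictHenselization_of_flat A B A' B' hloc
  · intro h
    haveI : Module.Flat A' B' := h
    haveI : Module.FaithfullyFlat A A' := faithfullyFlat_of_isStrictHenselization A A'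
    haveI : Module.FaithfullyFlat B B' := faithfullyFlat_of_isStrictHenselization B B'
    haveI : Module.Flat A B' := Module.Flat.trans A A' B'
    exact Groth.Agent.Lib.Helper18.FibBridge.flat_of_faithfullyFlat_comp A B B'

open Groth.Agent.Lib.Helper2 in
/-- Gorenstein-ness of `T/IT` for a strict henselization `T` of `O`. -/
theorem gor_quot_strictHenselization_iff (O T : Type u) [CommRing O] [IsLocalRing O]
    [CommRing T] [IsLocalRing T] [Algebra O T] [IsLocalHom (algebraMap O T)]
    [Hensel.IsStrictHenselization O T] (I : Ideal O) [hloc : IsLocalRing (O ⧸ I)]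
    [IsNoetherianRing (O ⧸ I)] :
    LocCoh.IsGorensteinLocalRing (T ⧸ I.map (algebraMap O T)) ↔
      LocCoh.IsGorensteinLocalRing (O ⧸ I) := by
  have hlh : IsLocalHom (algebraMap O (O ⧸ I)) :=
    IsLocalHom.of_surjective (Ideal.Quotient.mk I) Ideal.Quotient.mk_surjective
  have hint : Algebra.IsIntegral O (O ⧸ I) :=
    Algebra.IsIntegral.of_surjective (Algebra.ofId O (O ⧸ I)) Ideal.Quotient.mk_surjective
  have hpi : IsPurelyInseparable (ResidueField O) (ResidueField (O ⧸ I)) := by
    rw [isPurelyInseparable_iff]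
    intro x
    obtain ⟨y, rfl⟩ := residue_surjective x
    obtain ⟨a, rfl⟩ := Ideal.Quotient.mk_surjective y
    have h1 : residue (O ⧸ I) (Ideal.Quotient.mk I a) =
        algebraMap (ResidueField O) (ResidueField (O ⧸ I)) (residue O a) := by
      rw [ResidueField.algebraMap_residue]
      rfl
    rw [h1]
    exact ⟨isIntegral_algebraMap, fun _ => ⟨_, rfl⟩⟩
  obtain ⟨h1, h2'⟩ := Groth.Agent.Lib.Helper4.Unibr.isStrictHenselization_tensor_of_integral_local O (O ⧸ I) T
  let _ : Algebra (O ⧸ I) (T ⊗[O] (O ⧸ I)) := Algebra.TensorProduct.rightAlgebra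
  obtain ⟨h2, h3⟩ := h2'
  have e := Algebra.TensorProduct.quotIdealMapEquivTensorQuot T I
  rw [← gor_strictHenselization_iff (O ⧸ I) (T ⊗[O] (O ⧸ I))]
  exact ⟨fun h => GK.gor_of_ringEquiv e.toRingEquiv h,
    fun h => GK.gor_of_ringEquiv e.toRingEquiv.symm h⟩

open Groth.Agent.Lib.Helper16.GorMor in
theorem isLocalRing_CF {X Y : Scheme.{u}} (f : X ⟶ Y) (x : ↥X) : IsLocalRing (CF f x) := by
  have hle : Ideal.map (f.stalkMap x).hom (IsLocalRing.maximalIdeal (Y.presheaf.stalk (f x))) ≤
      IsLocalRing.maximalIdeal (X.presheaf.stalk x) :=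
    IsLocalRing.map_maximalIdeal_le (f.stalkMap x).hom
  have : Nontrivial (CF f x) := Ideal.Quotient.nontrivial_iff.2 (fun h => by
    rw [h] at hle
    exact (IsLocalRing.maximalIdeal.isMaximal _).ne_top (top_le_iff.1 hle))
  exact IsLocalRing.of_surjective' (Ideal.Quotient.mk _) Ideal.Quotient.mk_surjective

open Groth.Agent.Lib.Helper16.GorMor in
/-- Scheme-level: Gorenstein at a point via strict henselizations of the local rings. -/
theorem gorAt_iff_strictHenselization {U V : Scheme.{u}} (h : U ⟶ V) (u : ↥U)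
    [IsLocallyNoetherian (h.fiber (h u))]
    (R : Type u) [CommRing R] [IsLocalRing R] [Algebra ↥(U.presheaf.stalk u) R]
    [IsLocalHom (algebraMap ↥(U.presheaf.stalk u) R)]
    [Hensel.IsStrictHenselization ↥(U.presheaf.stalk u) R]
    (R' : Type u) [CommRing R'] [IsLocalRing R'] [Algebra ↥(V.presheaf.stalk (h u)) R']
    [IsLocalHom (algebraMap ↥(V.presheaf.stalk (h u)) R')]
    [Hensel.IsStrictHenselization ↥(V.presheaf.stalk (h u)) R']
    (φ : R' →+* R) [IsLocalHom φ]
    (hφ : φ.comp (algebraMap ↥(V.presheaf.stalk (h u)) R') =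
      (algebraMap ↥(U.presheaf.stalk u) R).comp (h.stalkMap u).hom) :
    Dual3.IsGorensteinAt h u ↔
      φ.Flat ∧ LocCoh.IsGorensteinLocalRing (R ⧸ (IsLocalRing.maximalIdeal R').map φ) := by
  unfold Dual3.IsGorensteinAt
  rw [gor_fiber_stalk_iff, flat_iff_flat_strictHenselization (h.stalkMap u).hom R' R φ hφ]
  have hI : (maximalIdeal R').map φ =
      (Ideal.map (h.stalkMap u).hom (maximalIdeal (V.presheaf.stalk (h u)))).map
        (algebraMap (U.presheaf.stalk u) R) := by
    rw [Ideal.map_map, ← hφ, ← Ideal.map_map,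
      map_maximalIdeal_of_isStrictHenselization (V.presheaf.stalk (h u)) R']
  have hN : IsNoetherianRing (CF h u) := isNoetherianRing_CF h u
  have hL : IsLocalRing (CF h u) := isLocalRing_CF h u
  have key := gor_quot_strictHenselization_iff (U.presheaf.stalk u) R
    (Ideal.map (h.stalkMap u).hom (maximalIdeal (V.presheaf.stalk (h u))))
  rw [← key]
  exact and_congr_right fun _ => ⟨gor_congr_ideal' hI.symm, gor_congr_ideal' hI⟩

end Groth.Agent.Lib.Helper14.AS
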