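import Groth.Agent.Lib.Helper14.AlgSpLargestOpen
import Groth.Agent.Lib.Helper14.AlgSpGpd6
import Groth.Agent.Lib.Helper14.AlgSpMisc3
import Groth.Prelude.Def_AlgSpGpd

universe u
open CategoryTheory CategoryTheory.Limits AlgebraicGeometry Opposite Topology TopologicalSpace

namespace Groth.Agent.Lib.Helper14.AS

open AlgSp Groth.Agent.Lib.Helper14.ESL Groth.Agent.Lib.Helper8.AlgSpOpen
  Groth.Agent.Lib.Helper8.AlgSpOpenSub Groth.Agent.Lib.Helper8.AlgSpPres

variable {S : Scheme.{u}}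

/-- An open subspace characterised as the largest one over which `f` has `P` has as its set of
points the largest open of `exists_largest_open`. -/
theorem range_eq_of_largest {Q P : MorphismProperty (Sp S)} (hQ : CoverClass Q)
    (hP : IsLocalOnBase (CoverOf Q) P) {X Y : Space S} (f : X ⟶ Y)
    (Wm : Opens (Points Y.obj)) (h1 : HasOver P f (Wm : Set (Points Y.obj)))
    (h3 : ∀ (Y' X' : Space S) (g : Y' ⟶ Y) (g' : X' ⟶ X) (f' : X' ⟶ Y'), Q g.hom →
        IsPullback g'.hom f'.hom f.hom g.hom → P f'.hom →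
        Set.range (Points.map g.hom) ⊆ (Wm : Set (Points Y.obj)))
    {W : Sp S} (hWsp : IsAlgSpace W) (w : W ⟶ Y.obj) (hw : RepWith @IsOpenImmersion w)
    (hmax : ∀ (W' : Sp S) (w' : W' ⟶ Y.obj), IsAlgSpace W' → RepWith @IsOpenImmersion w' →
      (P (pullback.snd f.hom w') ↔ ∃ k : W' ⟶ W, k ≫ w = w')) :
    Set.range (Points.map w) = (Wm : Set (Points Y.obj)) := by
  apply Set.Subset.antisymm
  · have hPw : P (pullback.snd f.hom w) := (hmax W w hWsp hw).2 ⟨𝟙 _, Category.id_comp _⟩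
    have sq : IsPullback (pullback.fst f.hom w) (pullback.snd f.hom w) f.hom w :=
      IsPullback.of_hasPullback _ _
    have hX' : IsAlgSpace (pullback f.hom w) :=
      isAlgSpace_of_isPullback (repDiag_of_isAlgSpace Y.property) X.property hWsp sq
    exact h3 ⟨W, hWsp⟩ ⟨pullback f.hom w, hX'⟩ (ObjectProperty.homMk w)
      (ObjectProperty.homMk (pullback.fst f.hom w)) (ObjectProperty.homMk (pullback.snd f.hom w))
      (hQ.of_open w hWsp Y.property hw) sq hPw
  · obtain ⟨W₀, j₀, hj₀, hr₀⟩ := exists_openSubspace Y (Wm : Set _) Wm.isOpen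
    have sq₀ : IsPullback (pullback.fst f.hom j₀.hom) (pullback.snd f.hom j₀.hom) f.hom j₀.hom :=
      IsPullback.of_hasPullback _ _
    have hX₀ : IsAlgSpace (pullback f.hom j₀.hom) :=
      isAlgSpace_of_isPullback (repDiag_of_isAlgSpace Y.property) X.property W₀.property sq₀
    have hPf₀ : P (pullback.snd f.hom j₀.hom) :=
      h1 W₀ ⟨pullback f.hom j₀.hom, hX₀⟩ j₀ (ObjectProperty.homMk (pullback.fst f.hom j₀.hom))
        (ObjectProperty.homMk (pullback.snd f.hom j₀.hom)) hj₀ hr₀ sq₀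
    obtain ⟨k, hk⟩ := (hmax W₀.obj j₀.hom W₀.property hj₀).1 hPf₀
    rw [← hr₀]
    rintro _ ⟨x, rfl⟩
    exact ⟨Points.map k x, by rw [← Points.map_comp, hk]⟩

/-- Core of the invariance statements: if the base changes of `f : X ⟶ U` along `s` and along `t`
are isomorphic over `R` (given as two pullback squares with the same `f'`), then the largest open
over which `f` has `P` is `R`-invariant. -/
theorem invariant_of_two_squares {Q P : MorphismProperty (Sp S)} (hQ : CoverClass Q)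
    (hP : IsLocalOnBase (CoverOf Q) P) {B : Sp S} (G : GroupoidSp B)
    (hU : IsAlgSpace G.U) (hR : IsAlgSpace G.R) (hs : Q G.s) (ht : Q G.t)
    {X X' : Sp S} (hX : IsAlgSpace X) (hX' : IsAlgSpace X') (f : X ⟶ G.U) (f' : X' ⟶ G.R)
    (gs gt : X' ⟶ X) (sqs : IsPullback gs f' f G.s) (sqt : IsPullback gt f' f G.t)
    {W : Sp S} (hWsp : IsAlgSpace W) (w : W ⟶ G.U) (hw : RepWith @IsOpenImmersion w)
    (hmax : ∀ (W' : Sp S) (w' : W' ⟶ G.U), IsAlgSpace W' → RepWith @IsOpenImmersion w' →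
      (P (pullback.snd f w') ↔ ∃ k : W' ⟶ W, k ≫ w = w')) :
    G.IsInvariant w := by
  let Xs : Space S := ⟨X, hX⟩
  let Us : Space S := ⟨G.U, hU⟩
  let Rs : Space S := ⟨G.R, hR⟩
  let X's : Space S := ⟨X', hX'⟩
  let fs : Xs ⟶ Us := ObjectProperty.homMk f
  let f's : X's ⟶ Rs := ObjectProperty.homMk f'
  obtain ⟨Wm, h1, h2, h3, h4⟩ := exists_largest_open hQ hP fs
  have hrange : Set.range (Points.map w) = (Wm : Set (Points G.U)) :=
    range_eq_of_largest hQ hP fs Wm h1 h3 hWsp w hw hmax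
  obtain ⟨W', h1', h2', -, -⟩ := exists_largest_open hQ hP f's
  have e_s : (W' : Set (Points G.R)) = Points.map G.s ⁻¹' (Wm : Set (Points G.U)) :=
    h4 Rs X's (ObjectProperty.homMk G.s) (ObjectProperty.homMk gs) f's hs sqs W' h1' h2'
  have e_t : (W' : Set (Points G.R)) = Points.map G.t ⁻¹' (Wm : Set (Points G.U)) :=
    h4 Rs X's (ObjectProperty.homMk G.t) (ObjectProperty.homMk gt) f's ht sqt W' h1' h2'
  have key : Points.map G.s ⁻¹' (Wm : Set (Points G.U)) =
      Points.map G.t ⁻¹' (Wm : Set (Points G.U)) := e_s.symm.trans e_t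
  intro T r
  rw [exists_factor_iff_range_subset w hw, exists_factor_iff_range_subset w hw, hrange]
  constructor
  · rintro h _ ⟨x, rfl⟩
    have hx : Points.map r x ∈ Points.map G.t ⁻¹' (Wm : Set (Points G.U)) := by
      show Points.map G.t (Points.map r x) ∈ (Wm : Set (Points G.U))
      rw [← Points.map_comp]
      exact h ⟨x, rfl⟩
    rw [← key] at hx
    rw [Points.map_comp]
    exact hx
  · rintro h _ ⟨x, rfl⟩
    have hx : Points.map r x ∈ Points.map G.s ⁻¹' (Wm : Set (Points G.U)) := by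
      show Points.map G.s (Points.map r x) ∈ (Wm : Set (Points G.U))
      rw [← Points.map_comp]
      exact h ⟨x, rfl⟩
    rw [key] at hx
    rw [Points.map_comp]
    exact hx

/-- The three covering notions allowed in the statements. -/
theorem invariant_of_two_squares_tau {B : Sp S} (G : GroupoidSp B)
    (hU : IsAlgSpace G.U) (hR : IsAlgSpace G.R)
    (τ : CovNotion S) (hτ : τ = IsFppfCover ∨ τ = IsEtCover ∨ τ = IsSmCover)
    (P : MorphismProperty (Sp S)) (hP : IsLocalOnBase τ P)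
    (hs : τ (fun _ : PUnit.{u + 1} => G.R) (fun _ => G.s))
    (ht : τ (fun _ : PUnit.{u + 1} => G.R) (fun _ => G.t))
    {X X' : Sp S} (hX : IsAlgSpace X) (hX' : IsAlgSpace X') (f : X ⟶ G.U) (f' : X' ⟶ G.R)
    (gs gt : X' ⟶ X) (sqs : IsPullback gs f' f G.s) (sqt : IsPullback gt f' f G.t)
    {W : Sp S} (hWsp : IsAlgSpace W) (w : W ⟶ G.U) (hw : RepWith @IsOpenImmersion w)
    (hmax : ∀ (W' : Sp S) (w' : W' ⟶ G.U), IsAlgSpace W' → RepWith @IsOpenImmersion w' →
      (P (pullback.snd f w') ↔ ∃ k : W' ⟶ W, k ≫ w = w')) :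
    G.IsInvariant w := by
  rcases hτ with rfl | rfl | rfl
  · exact invariant_of_two_squares coverClass_fppf hP G hU hR (hs.1 PUnit.unit) (ht.1 PUnit.unit)
      hX hX' f f' gs gt sqs sqt hWsp w hw hmax
  · exact invariant_of_two_squares coverClass_isEtaleMor hP G hU hR (hs.1 PUnit.unit)
      (ht.1 PUnit.unit) hX hX' f f' gs gt sqs sqt hWsp w hw hmax
  · exact invariant_of_two_squares coverClass_smooth hP G hU hR (hs.1 PUnit.unit)
      (ht.1 PUnit.unit) hX hX' f f' gs gt sqs sqt hWsp w hw hmax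

end Groth.Agent.Lib.Helper14.AS
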