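import Groth.Agent.Lib.Helper14.GpdInv1
import Groth.Agent.Lib.Helper14.AlgSpGpd3

universe u
open CategoryTheory CategoryTheory.Limits AlgebraicGeometry Opposite

namespace Groth.Agent.Lib.Helper14.AS

open AlgSp

variable {S : Scheme.{u}} {B : Sp S} (G : GroupoidSp B)

/-- Composition of `T`-valued arrows. -/
noncomputable def gmul {T : Sp S} (α β : T ⟶ G.R) (h : α ≫ G.s = β ≫ G.t) : T ⟶ G.R :=
  pullback.lift α β h ≫ G.c

theorem gmul_congr {T : Sp S} {α α' β β' : T ⟶ G.R} (h : α ≫ G.s = β ≫ G.t) (ha : α = α')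
    (hb : β = β') : gmul G α β h = gmul G α' β' (by rw [← ha, ← hb]; exact h) := by
  subst ha; subst hb; rfl

theorem gmul_s {T : Sp S} (α β : T ⟶ G.R) (h : α ≫ G.s = β ≫ G.t) :
    gmul G α β h ≫ G.s = β ≫ G.s := G.comp_s α β h

theorem gmul_t {T : Sp S} (α β : T ⟶ G.R) (h : α ≫ G.s = β ≫ G.t) :
    gmul G α β h ≫ G.t = α ≫ G.t := G.comp_t α β h

theorem comp_gmul {T T' : Sp S} (w : T' ⟶ T) (α β : T ⟶ G.R) (h : α ≫ G.s = β ≫ G.t) :
    w ≫ gmul G α β h = gmul G (w ≫ α) (w ≫ β) (by rw [Category.assoc, Category.assoc, h]) := by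
  unfold gmul
  rw [← Category.assoc, pullback_comp_lift]

theorem inv_s {T : Sp S} (α : T ⟶ G.R) : (α ≫ G.i) ≫ G.s = α ≫ G.t := by
  rw [Category.assoc, G.i_s]

theorem inv_t {T : Sp S} (α : T ⟶ G.R) : (α ≫ G.i) ≫ G.t = α ≫ G.s := by
  rw [Category.assoc, G.i_t]

/-- `α⁻¹ ∘ (α ∘ β) = β`. -/
theorem gmul_inv_mul_cancel_left {T : Sp S} (α β : T ⟶ G.R) (h : α ≫ G.s = β ≫ G.t) :
    gmul G (α ≫ G.i) (gmul G α β h) (by rw [inv_s, gmul_t]) = β :=
  gpd_inv_comp_comp G α β h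

/-- `α ∘ (α⁻¹ ∘ γ) = γ`. -/
theorem gmul_mul_inv_cancel_left {T : Sp S} (α γ : T ⟶ G.R) (h : α ≫ G.t = γ ≫ G.t) :
    gmul G α (gmul G (α ≫ G.i) γ (by rw [inv_s, h])) (by rw [gmul_t, inv_t]) = γ :=
  gpd_comp_inv_comp G α γ h

/-- `(α ∘ β) ∘ β⁻¹ = α`. -/
theorem gmul_mul_inv_cancel_right {T : Sp S} (α β : T ⟶ G.R) (h : α ≫ G.s = β ≫ G.t) :
    gmul G (gmul G α β h) (β ≫ G.i) (by rw [gmul_s, inv_t]) = α :=
  gpd_comp_comp_inv G α β h

/-- `(γ ∘ β⁻¹) ∘ β = γ`. -/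
theorem gmul_inv_mul_cancel_right {T : Sp S} (γ β : T ⟶ G.R) (h : γ ≫ G.s = β ≫ G.s) :
    gmul G (gmul G γ (β ≫ G.i) (by rw [inv_t, h])) β (by rw [gmul_s, inv_s]) = γ :=
  gpd_comp_inv_comp' G γ β h

/-- `(α⁻¹)⁻¹ = α`. -/
theorem gpd_inv_inv {T : Sp S} (α : T ⟶ G.R) : (α ≫ G.i) ≫ G.i = α := by
  have h1 : (α ≫ G.i) ≫ G.s = α ≫ G.t := inv_s G α
  have h2 := gmul_inv_mul_cancel_left G (α ≫ G.i) α h1
  have h3 : gmul G (α ≫ G.i) α h1 = α ≫ G.s ≫ G.e := G.i_comp α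
  have h4 : gmul G ((α ≫ G.i) ≫ G.i) (α ≫ G.s ≫ G.e)
      (by rw [inv_s, inv_t, Category.assoc, Category.assoc, G.e_t, Category.comp_id]) = α :=
    (gmul_congr G _ rfl h3.symm).trans h2
  have h5 : gmul G ((α ≫ G.i) ≫ G.i) (((α ≫ G.i) ≫ G.i) ≫ G.s ≫ G.e)
      (by simp only [Category.assoc, G.e_t, Category.comp_id]) = (α ≫ G.i) ≫ G.i :=
    G.comp_e ((α ≫ G.i) ≫ G.i)
  have h6 : ((α ≫ G.i) ≫ G.i) ≫ G.s ≫ G.e = α ≫ G.s ≫ G.e := by
    rw [← Category.assoc ((α ≫ G.i) ≫ G.i), inv_s, inv_t, Category.assoc]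
  exact h5.symm.trans ((gmul_congr G _ rfl h6).trans h4)

theorem gpd_inv_injective {T : Sp S} {α α' : T ⟶ G.R} (h : α ≫ G.i = α' ≫ G.i) : α = α' := by
  rw [← gpd_inv_inv G α, ← gpd_inv_inv G α', h]

section Stab

theorem stabι_t {T : Sp S} (x : T ⟶ G.stabilizer) :
    (x ≫ G.stabilizerι) ≫ G.t = x ≫ G.stabilizerToU := by
  have : G.stabilizerι ≫ G.j = G.stabilizerToU ≫ G.diag := pullback.condition
  have h := congrArg (fun m => x ≫ m ≫ pullback.fst G.pU G.pU) this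
  simp only [Category.assoc, G.j_fst, GroupoidSp.diag, pullback.lift_fst, Category.comp_id] at h
  rw [Category.assoc]; exact h

theorem stabι_s {T : Sp S} (x : T ⟶ G.stabilizer) :
    (x ≫ G.stabilizerι) ≫ G.s = x ≫ G.stabilizerToU := by
  have : G.stabilizerι ≫ G.j = G.stabilizerToU ≫ G.diag := pullback.condition
  have h := congrArg (fun m => x ≫ m ≫ pullback.snd G.pU G.pU) this
  simp only [Category.assoc, G.j_snd, GroupoidSp.diag, pullback.lift_snd, Category.comp_id] at h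
  rw [Category.assoc]; exact h

theorem jj_t {T : Sp S} (z : T ⟶ pullback G.j G.j) :
    (z ≫ pullback.fst G.j G.j) ≫ G.t = (z ≫ pullback.snd G.j G.j) ≫ G.t := by
  rw [← G.j_fst, Category.assoc, ← Category.assoc (pullback.fst _ _), pullback.condition,
    Category.assoc, Category.assoc]

theorem jj_s {T : Sp S} (z : T ⟶ pullback G.j G.j) :
    (z ≫ pullback.fst G.j G.j) ≫ G.s = (z ≫ pullback.snd G.j G.j) ≫ G.s := by
  rw [← G.j_snd, Category.assoc, ← Category.assoc (pullback.fst _ _), pullback.condition,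
    Category.assoc, Category.assoc]

theorem j_ext {T : Sp S} {α β : T ⟶ G.R} (ht : α ≫ G.t = β ≫ G.t) (hs : α ≫ G.s = β ≫ G.s) :
    α ≫ G.j = β ≫ G.j := by
  apply pullback.hom_ext
  · rw [Category.assoc, Category.assoc, G.j_fst, ht]
  · rw [Category.assoc, Category.assoc, G.j_snd, hs]

theorem comp_gpd_divR {T : Sp S} (z : T ⟶ pullback G.j G.j) :
    z ≫ gpd_divR G = gmul G ((z ≫ pullback.fst G.j G.j) ≫ G.i) (z ≫ pullback.snd G.j G.j)
      (by rw [inv_s, jj_t]) :=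
  gpd_comp_divR G z

/-- The base change of the stabilizer along `s`: `(α, β) ↦ (α⁻¹ ∘ β, β)`. -/
theorem gpd_isPullback_div_s :
    IsPullback (gpd_div G) (pullback.snd G.j G.j) G.stabilizerToU G.s := by
  refine isPullback_of_exists_unique (gpd_div_toU G) ?_ ?_
  · intro T x y hxy
    have hρs : (x ≫ G.stabilizerι) ≫ G.s = y ≫ G.s := by rw [stabι_s, hxy]
    have hρt : (x ≫ G.stabilizerι) ≫ G.t = y ≫ G.s := by rw [stabι_t, hxy]
    have h0 : y ≫ G.s = ((x ≫ G.stabilizerι) ≫ G.i) ≫ G.t := by rw [inv_t, hρs]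
    have hα : gmul G y ((x ≫ G.stabilizerι) ≫ G.i) h0 ≫ G.j = y ≫ G.j :=
      j_ext G (gmul_t G _ _ _) (by rw [gmul_s, inv_s, hρt])
    refine ⟨pullback.lift (gmul G y ((x ≫ G.stabilizerι) ≫ G.i) h0) y hα, ?_,
      pullback.lift_snd _ _ _⟩
    rw [← cancel_mono G.stabilizerι, Category.assoc, gpd_div_ι, comp_gpd_divR]
    have h1 := gmul_inv_mul_cancel_right G y (x ≫ G.stabilizerι) hρs.symm
    have h2 := gmul_inv_mul_cancel_left G (gmul G y ((x ≫ G.stabilizerι) ≫ G.i) h0)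
      (x ≫ G.stabilizerι) (by rw [gmul_s, inv_s])
    refine (gmul_congr G _ ?_ ?_).trans h2
    · rw [pullback.lift_fst]
    · rw [pullback.lift_snd, h1]
  · intro T z z' hdiv hsnd
    refine pullback.hom_ext ?_ hsnd
    have hR : z ≫ gpd_divR G = z' ≫ gpd_divR G := by
      rw [← gpd_div_ι, ← Category.assoc, hdiv, Category.assoc]
    rw [comp_gpd_divR, comp_gpd_divR] at hR
    apply gpd_inv_injective G
    have e1 := gmul_mul_inv_cancel_right G ((z ≫ pullback.fst G.j G.j) ≫ G.i)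
      (z ≫ pullback.snd G.j G.j) (by rw [inv_s, jj_t])
    have e2 := gmul_mul_inv_cancel_right G ((z' ≫ pullback.fst G.j G.j) ≫ G.i)
      (z' ≫ pullback.snd G.j G.j) (by rw [inv_s, jj_t])
    exact e1.symm.trans ((gmul_congr G _ hR (by rw [hsnd])).trans e2)

/-- `(α, β) ↦ β ∘ α⁻¹` from `R ×_{U ×_B U} R` to `R`. -/
noncomputable def gpd_divR' : pullback G.j G.j ⟶ G.R :=
  gmul G (pullback.snd G.j G.j) (pullback.fst G.j G.j ≫ G.i) (by
    rw [inv_t]
    have := jj_s G (𝟙 (pullback G.j G.j))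
    simp only [Category.id_comp] at this
    exact this.symm)

theorem gpd_divR'_s : gpd_divR' G ≫ G.s = pullback.snd G.j G.j ≫ G.t := by
  unfold gpd_divR'
  rw [gmul_s, inv_s]
  have := jj_t G (𝟙 (pullback G.j G.j))
  simp only [Category.id_comp] at this
  exact this

theorem gpd_divR'_t : gpd_divR' G ≫ G.t = pullback.snd G.j G.j ≫ G.t := by
  unfold gpd_divR'
  rw [gmul_t]

/-- `(α, β) ↦ β ∘ α⁻¹` from `R ×_{U ×_B U} R` to the stabilizer. -/
noncomputable def gpd_div' : pullback G.j G.j ⟶ G.stabilizer :=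
  pullback.lift (gpd_divR' G) (pullback.snd G.j G.j ≫ G.t) (by
    apply pullback.hom_ext
    · rw [Category.assoc, G.j_fst, gpd_divR'_t, Category.assoc, GroupoidSp.diag, pullback.lift_fst,
        Category.comp_id]
    · rw [Category.assoc, G.j_snd, gpd_divR'_s, Category.assoc, GroupoidSp.diag, pullback.lift_snd,
        Category.comp_id])

theorem gpd_div'_ι : gpd_div' G ≫ G.stabilizerι = gpd_divR' G := pullback.lift_fst _ _ _

theorem gpd_div'_toU : gpd_div' G ≫ G.stabilizerToU = pullback.snd G.j G.j ≫ G.t :=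
  pullback.lift_snd _ _ _

theorem comp_gpd_divR' {T : Sp S} (z : T ⟶ pullback G.j G.j) :
    z ≫ gpd_divR' G = gmul G (z ≫ pullback.snd G.j G.j) ((z ≫ pullback.fst G.j G.j) ≫ G.i)
      (by rw [inv_t, jj_s]) := by
  unfold gpd_divR'
  rw [comp_gmul]
  exact gmul_congr G _ rfl (by rw [Category.assoc])

/-- The base change of the stabilizer along `t`: `(α, β) ↦ (β ∘ α⁻¹, β)`. -/
theorem gpd_isPullback_div_t :
    IsPullback (gpd_div' G) (pullback.snd G.j G.j) G.stabilizerToU G.t := by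
  refine isPullback_of_exists_unique (gpd_div'_toU G) ?_ ?_
  · intro T x y hxy
    have hρs : (x ≫ G.stabilizerι) ≫ G.s = y ≫ G.t := by rw [stabι_s, hxy]
    have hρt : (x ≫ G.stabilizerι) ≫ G.t = y ≫ G.t := by rw [stabι_t, hxy]
    have h0 : ((x ≫ G.stabilizerι) ≫ G.i) ≫ G.s = y ≫ G.t := by rw [inv_s, hρt]
    have hα : gmul G ((x ≫ G.stabilizerι) ≫ G.i) y h0 ≫ G.j = y ≫ G.j :=
      j_ext G (by rw [gmul_t, inv_t, hρs]) (gmul_s G _ _ _)
    refine ⟨pullback.lift (gmul G ((x ≫ G.stabilizerι) ≫ G.i) y h0) y hα, ?_,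
      pullback.lift_snd _ _ _⟩
    rw [← cancel_mono G.stabilizerι, Category.assoc, gpd_div'_ι, comp_gpd_divR']
    have h1 := gmul_mul_inv_cancel_left G (x ≫ G.stabilizerι) y hρt
    have h2 := gmul_mul_inv_cancel_right G (x ≫ G.stabilizerι)
      (gmul G ((x ≫ G.stabilizerι) ≫ G.i) y h0) (by rw [gmul_t, inv_t])
    refine (gmul_congr G _ ?_ ?_).trans h2
    · rw [pullback.lift_snd, h1]
    · rw [pullback.lift_fst]
  · intro T z z' hdiv hsnd
    refine pullback.hom_ext ?_ hsnd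
    have hR : z ≫ gpd_divR' G = z' ≫ gpd_divR' G := by
      rw [← gpd_div'_ι, ← Category.assoc, hdiv, Category.assoc]
    rw [comp_gpd_divR', comp_gpd_divR'] at hR
    apply gpd_inv_injective G
    have e1 := gmul_inv_mul_cancel_left G (z ≫ pullback.snd G.j G.j)
      ((z ≫ pullback.fst G.j G.j) ≫ G.i) (by rw [inv_t, jj_s])
    have e2 := gmul_inv_mul_cancel_left G (z' ≫ pullback.snd G.j G.j)
      ((z' ≫ pullback.fst G.j G.j) ≫ G.i) (by rw [inv_t, jj_s])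
    exact e1.symm.trans ((gmul_congr G _ (by rw [hsnd]) hR).trans e2)

end Stab

theorem isAlgSpace_stabilizer_and_jj (hB : IsAlgSpace B) (hU : IsAlgSpace G.U)
    (hR : IsAlgSpace G.R) : IsAlgSpace G.stabilizer ∧ IsAlgSpace (pullback G.j G.j) := by
  have hP : IsAlgSpace (pullback G.pU G.pU) :=
    isAlgSpace_of_isPullback (repDiag_of_isAlgSpace hB) hU hU (IsPullback.of_hasPullback _ _)
  exact ⟨isAlgSpace_of_isPullback (repDiag_of_isAlgSpace hP) hR hU
      (IsPullback.of_hasPullback G.j G.diag),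
    isAlgSpace_of_isPullback (repDiag_of_isAlgSpace hP) hR hR
      (IsPullback.of_hasPullback G.j G.j)⟩

end Groth.Agent.Lib.Helper14.AS
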