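import Mathlib
import Groth.Prelude.Def_HTop
import Groth.Agent.S7476
import Groth.Agent.Lib.Lead.VLift

set_option autoImplicit false
universe w u
open CategoryTheory CategoryTheory.Limits AlgebraicGeometry Opposite

namespace Groth.Agent.Lib.Helper14.HBlow

/-- A finite family of quasi-compact morphisms with the valuation-ring lifting property is a
V covering. -/
theorem isVCover_of_finite_of_hasValLift {T : Scheme.{u}} (E : PreZeroHypercover.{w} T)
    [Finite E.I₀] (hqc : ∀ j, QuasiCompact (E.f j)) (h : HTop.HasValLift E) : HTop.IsVCover E := by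
  rintro ⟨U, hU⟩
  have hUa : IsAffineOpen U := hU
  have hc : ∀ j, IsCompact ((E.f j) ⁻¹ᵁ U : Set (E.X j)) := fun j =>
    QuasiCompact.isCompact_preimage (f := E.f j) _ U.isOpen hUa.isCompact
  choose s hs hsU using fun j =>
    (isCompact_iff_finite_and_eq_biUnion_affineOpens (U := (E.f j) ⁻¹ᵁ U)).mp (hc j)
  have hfin : ∀ j, Finite (s j) := fun j => (hs j)
  have : Finite (Σ j : E.I₀, s j) := inferInstance
  obtain ⟨n, ⟨e⟩⟩ := Finite.exists_equiv_fin (Σ j : E.I₀, s j)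
  let idx : Fin n → E.I₀ := fun k => (e.symm k).1
  let opn : (k : Fin n) → (E.X (idx k)).Opens := fun k => ((e.symm k).2.1).1
  have haff : ∀ k, IsAffineOpen (opn k) := fun k => ((e.symm k).2.1).2
  have hle : ∀ k : Fin n, opn k ≤ (E.f (idx k)) ⁻¹ᵁ U := by
    intro k
    rw [hsU]
    exact le_iSup₂ (f := fun (i : (E.X (idx k)).affineOpens) (_ : i ∈ s (idx k)) =>
      (i.1 : (E.X (idx k)).Opens)) (e.symm k).2.1 (e.symm k).2.2
  let F : PreZeroHypercover.{0} (U : Scheme.{u}) :=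
    { I₀ := Fin n
      X := fun k => (opn k : Scheme.{u})
      f := fun k => (E.f (idx k)).resLE U (opn k) (hle k) }
  refine ⟨F, ⟨hUa, inferInstanceAs (Finite (Fin n)), haff, ?_⟩, ?_⟩
  · intro V _ _ g
    obtain ⟨W, hWd, hWv, φ, hφ, j, g', hg'⟩ := h V (g ≫ U.ι)
    have hmem : g' (IsLocalRing.closedPoint W : ↥(Spec W)) ∈ (E.f j) ⁻¹ᵁ U := by
      have h1 : (E.f j) (g' (IsLocalRing.closedPoint W : ↥(Spec W))) =
          (g' ≫ E.f j) (IsLocalRing.closedPoint W : ↥(Spec W)) := rfl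
      change (E.f j) (g' _) ∈ U
      rw [h1, hg']
      exact ((Spec.map φ ≫ g) (IsLocalRing.closedPoint W : ↥(Spec W))).2
    rw [hsU] at hmem
    simp only [TopologicalSpace.Opens.mem_iSup] at hmem
    obtain ⟨i, his, hi⟩ := hmem
    obtain ⟨k, hk⟩ : ∃ k, e.symm k = ⟨j, ⟨i, his⟩⟩ := ⟨e ⟨j, ⟨i, his⟩⟩, e.symm_apply_apply _⟩
    have key : ∀ (q : Σ j : E.I₀, s j) (_ : q = ⟨j, ⟨i, his⟩⟩),
        ∃ (g'' : Spec W ⟶ ((q.2.1.1 : (E.X q.1).Opens) : Scheme.{u})),
          g'' ≫ (q.2.1.1 : (E.X q.1).Opens).ι ≫ E.f q.1 = Spec.map φ ≫ g ≫ U.ι := by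
      rintro q rfl
      obtain ⟨g'', hg''⟩ := Groth.Agent.S7476.exists_lift_of_closedPoint_mem g' i.1 hi
      exact ⟨g'', by rw [← Category.assoc, hg'', hg']⟩
    obtain ⟨g'', hg''⟩ := key (e.symm k) hk
    refine ⟨W, hWd, hWv, φ, hφ, k, g'', ?_⟩
    rw [← cancel_mono U.ι]
    change (g'' ≫ (E.f (idx k)).resLE U (opn k) (hle k)) ≫ U.ι = _
    rw [Category.assoc, Scheme.Hom.resLE_comp_ι, Category.assoc]
    exact hg''
  · intro k
    exact ⟨idx k, (opn k).ι, (Scheme.Hom.resLE_comp_ι _ (hle k)).symm⟩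

end Groth.Agent.Lib.Helper14.HBlow
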