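import Mathlib
import Groth.Prelude.Def_HTop
import Groth.Agent.Lib.Helper14.HBlow1
import Groth.Agent.Lib.Helper14.LfpOfComp

set_option autoImplicit false
universe w u
open CategoryTheory CategoryTheory.Limits AlgebraicGeometry Opposite

namespace Groth.Agent.Lib.Helper14.HBlow

open Groth.Agent.Lib.Helper10.ValSpec

variable {S : Scheme.{u}}

/-- separatedness with respect to an h covering family of `P.left` -/
theorem ext_of_isHCover (F : HTop.ShH S) {P : Over S} (E : PreZeroHypercover.{w} P.left)
    (hE : HTop.IsHCover E) (x y : F.obj.obj (op P))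
    (h : ∀ j, F.obj.map (Over.homMk (E.f j) rfl : Over.mk (E.f j ≫ P.hom) ⟶ P).op x =
      F.obj.map (Over.homMk (E.f j) rfl : Over.mk (E.f j ≫ P.hom) ⟶ P).op y) : x = y := by
  have hR : Sieve.generate E.presieve₀ ∈ HTop.hTopology P.left :=
    Precoverage.generate_mem_toGrothendieck ((HTop.presieve₀_mem_hPrecoverage_iff E).mpr hE)
  have hR' : (Sieve.overEquiv P).symm (Sieve.generate E.presieve₀) ∈ HTop.Jh S P :=
    GrothendieckTopology.overEquiv_symm_mem_over _ P _ hR
  have h1 : Presieve.IsSheaf (HTop.Jh S) F.obj := (isSheaf_iff_isSheaf_of_type _ _).1 F.property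
  refine (h1 _ hR').isSeparatedFor.ext ?_
  intro Z g hg
  rw [Sieve.overEquiv_symm_iff] at hg
  obtain ⟨W, a, b, ⟨j⟩, hab⟩ := hg
  have hw : a ≫ (E.f j ≫ P.hom) = Z.hom := by
    rw [← Category.assoc, hab, Over.w]
  have hg' : g = (Over.homMk a hw : Z ⟶ Over.mk (E.f j ≫ P.hom)) ≫ Over.homMk (E.f j) rfl := by
    ext
    simpa using hab.symm
  rw [hg', op_comp, Functor.map_comp_apply, Functor.map_comp_apply, h j]

theorem existsUnique_of_singleton (F : HTop.ShH S) {A B : Over S} (g : A ⟶ B)
    (hE : HTop.IsHCover (PreZeroHypercover.singleton.{0} g.left)) (s' : F.obj.obj (op A))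
    (hs : ∀ (T : Over S) (p₁ p₂ : T ⟶ A), p₁ ≫ g = p₂ ≫ g →
      F.obj.map p₁.op s' = F.obj.map p₂.op s') :
    ∃! s : F.obj.obj (op B), F.obj.map g.op s = s' := by
  have hR : Sieve.generate (Presieve.singleton g.left) ∈ HTop.hTopology B.left := by
    have := Precoverage.generate_mem_toGrothendieck
      ((HTop.presieve₀_mem_hPrecoverage_iff _).mpr hE)
    rwa [PreZeroHypercover.presieve₀_singleton] at this
  have hS : Sieve.generate (Presieve.singleton g) ∈ (HTop.Jh S) B := by
    rw [GrothendieckTopology.mem_over_iff]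
    refine (HTop.hTopology).superset_covering ?_ hR
    rintro Z k ⟨W, a, b, ⟨⟩, rfl⟩
    rw [Sieve.overEquiv_iff]
    refine ⟨A, Over.homMk a (by simp), g, Presieve.singleton.mk, ?_⟩
    ext
    simp
  have h1 : Presieve.IsSheaf (HTop.Jh S) F.obj := (isSheaf_iff_isSheaf_of_type _ _).1 F.property
  have h2 := h1 _ hS
  rw [← Presieve.isSheafFor_iff_generate, Presieve.isSheafFor_singleton] at h2
  exact h2 s' (fun p₁ p₂ hp => hs _ p₁ p₂ hp)

theorem isHCover_singleton {X Y : Scheme.{u}} (f : X ⟶ Y) [UniversallyClosed f] [QuasiCompact f]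
    [Surjective f] [LocallyOfFinitePresentation f] :
    HTop.IsHCover (PreZeroHypercover.singleton.{0} f) :=
  ⟨fun _ => ‹LocallyOfFinitePresentation f›, Groth.Agent.S7476.isVCover_of_lift1 f (fun V _ _ g =>
    Groth.Agent.Lib.Lead.exists_extVal_lift_of_universallyClosed_surjective f V g)⟩

theorem lift_closedImmersion {A P : Scheme.{u}} (m : A ⟶ P) [IsClosedImmersion m]
    (V : CommRingCat.{u}) [IsDomain V] (g : Spec V ⟶ P) (h : g (genericPt V) ∈ Set.range m) :
    ∃ g' : Spec V ⟶ A, g' ≫ m = g := by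
  obtain ⟨x, hx⟩ := h
  obtain ⟨w, hw1, hw2⟩ := Scheme.Pullback.exists_preimage_pullback (f := g) (g := m)
    (genericPt V) x hx.symm
  have hs : Surjective (pullback.fst g m) := by
    constructor
    intro p
    have hcl : IsClosed (Set.range (pullback.fst g m)) :=
      (pullback.fst g m).isClosedEmbedding.isClosed_range
    have hmem : genericPt V ∈ Set.range (pullback.fst g m) := ⟨w, hw1⟩
    exact (genericPt_specializes V p).mem_closed hcl hmem
  have : IsReduced (Spec V) := inferInstance
  have hiso : IsIso (pullback.fst g m) := isIso_of_isClosedImmersion_of_surjective _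
  refine ⟨inv (pullback.fst g m) ≫ pullback.snd g m, ?_⟩
  rw [Category.assoc, ← pullback.condition, IsIso.inv_hom_id_assoc]

theorem isHCover_pair_closedImmersion {A B P : Scheme.{u}} (a : A ⟶ P) (b : B ⟶ P)
    [IsClosedImmersion a] [IsClosedImmersion b] [LocallyOfFinitePresentation a]
    [LocallyOfFinitePresentation b] (hsurj : ∀ p : P, p ∈ Set.range a ∨ p ∈ Set.range b) :
    HTop.IsHCover ((PreZeroHypercover.singleton.{0} a).sum (PreZeroHypercover.singleton.{0} b)) := by
  have hfin : Finite ((PreZeroHypercover.singleton.{0} a).sum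
      (PreZeroHypercover.singleton.{0} b)).I₀ := inferInstanceAs (Finite (PUnit ⊕ PUnit))
  refine ⟨?_, isVCover_of_finite_of_hasValLift _ ?_ ?_⟩
  · rintro (_ | _)
    · exact ‹LocallyOfFinitePresentation a›
    · exact ‹LocallyOfFinitePresentation b›
  · rintro (_ | _)
    · exact (inferInstance : QuasiCompact a)
    · exact (inferInstance : QuasiCompact b)
  · intro V _ _ g
    have hext : HTop.IsExtVal V V (𝟙 V) := ⟨Function.injective_id, ⟨fun _ h => h⟩⟩
    rcases hsurj (g (genericPt V)) with h | h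
    · obtain ⟨g', hg'⟩ := lift_closedImmersion a V g h
      refine ⟨V, inferInstance, inferInstance, 𝟙 V, hext, Sum.inl PUnit.unit, g', ?_⟩
      rw [Spec.map_id, Category.id_comp]
      exact hg'
    · obtain ⟨g', hg'⟩ := lift_closedImmersion b V g h
      refine ⟨V, inferInstance, inferInstance, 𝟙 V, hext, Sum.inr PUnit.unit, g', ?_⟩
      rw [Spec.map_id, Category.id_comp]
      exact hg'

end Groth.Agent.Lib.Helper14.HBlow
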