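import Mathlib
import Groth.Prelude.Def_HTop
import Groth.Agent.Lib.Helper14.HBlow3

/-!
# Two-member h coverings and descent of sections; blow-up type squares without surjectivity
-/

set_option autoImplicit false
universe w u
open CategoryTheory CategoryTheory.Limits AlgebraicGeometry Opposite

namespace Groth.Agent.Lib.Helper14.HBlow

open Groth.Agent.Lib.Helper10.ValSpec

variable {S : Scheme.{u}}

/-- Valuation-ring lifting along a universally closed morphism whose image contains the image of
the generic point. -/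
theorem exists_extVal_lift_of_generic_mem {A P : Scheme.{u}} (a : A ⟶ P) [UniversallyClosed a]
    (V : CommRingCat.{u}) [IsDomain V] [ValuationRing V] (g : Spec V ⟶ P)
    (h : g (genericPt V) ∈ Set.range a) :
    ∃ (W : CommRingCat.{u}) (_ : IsDomain W) (_ : ValuationRing W) (φ : V ⟶ W),
      HTop.IsExtVal V W φ ∧ ∃ g' : Spec W ⟶ A, g' ≫ a = Spec.map φ ≫ g := by
  obtain ⟨x, hx⟩ := h
  obtain ⟨w, hw1, hw2⟩ := Scheme.Pullback.exists_preimage_pullback (f := g) (g := a)
    (genericPt V) x hx.symm
  have hs : Surjective (pullback.fst g a) := by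
    constructor
    intro p
    have hcl : IsClosed (Set.range (pullback.fst g a)) :=
      (pullback.fst g a).isClosedMap.isClosed_range
    have hmem : genericPt V ∈ Set.range (pullback.fst g a) := ⟨w, hw1⟩
    exact (genericPt_specializes V p).mem_closed hcl hmem
  obtain ⟨W, hWd, hWv, φ, hφ, g', hg'⟩ :=
    Groth.Agent.Lib.Lead.exists_extVal_lift_of_universallyClosed_surjective
      (pullback.fst g a) V (𝟙 (Spec V))
  refine ⟨W, hWd, hWv, φ, hφ, g' ≫ pullback.snd g a, ?_⟩
  rw [Category.assoc, ← pullback.condition, ← Category.assoc, hg', Category.comp_id]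

/-- Two universally closed quasi-compact finitely presented morphisms which are jointly
surjective form an h covering. -/
theorem isHCover_pair_of_universallyClosed {A B P : Scheme.{u}} (a : A ⟶ P) (b : B ⟶ P)
    [UniversallyClosed a] [UniversallyClosed b] [QuasiCompact a] [QuasiCompact b]
    [LocallyOfFinitePresentation a] [LocallyOfFinitePresentation b]
    (hsurj : ∀ p : P, p ∈ Set.range a ∨ p ∈ Set.range b) :
    HTop.IsHCover ((PreZeroHypercover.singleton.{0} a).sum (PreZeroHypercover.singleton.{0} b)) := by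
  have hfin : Finite ((PreZeroHypercover.singleton.{0} a).sum
      (PreZeroHypercover.singleton.{0} b)).I₀ := inferInstanceAs (Finite (PUnit ⊕ PUnit))
  refine ⟨?_, isVCover_of_finite_of_hasValLift _ ?_ ?_⟩
  · rintro (_ | _)
    · exact ‹LocallyOfFinitePresentation a›
    · exact ‹LocallyOfFinitePresentation b›
  · rintro (_ | _)
    · exact ‹QuasiCompact a›
    · exact ‹QuasiCompact b›
  · intro V _ _ g
    rcases hsurj (g (genericPt V)) with h | h
    · obtain ⟨W, hWd, hWv, φ, hφ, g', hg'⟩ := exists_extVal_lift_of_generic_mem a V g h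
      exact ⟨W, hWd, hWv, φ, hφ, Sum.inl PUnit.unit, g', hg'⟩
    · obtain ⟨W, hWd, hWv, φ, hφ, g', hg'⟩ := exists_extVal_lift_of_generic_mem b V g h
      exact ⟨W, hWd, hWv, φ, hφ, Sum.inr PUnit.unit, g', hg'⟩

/-- The two-member family of objects. -/
def pairObj (A B : Over S) : Bool → Over S := fun k => if k then A else B

/-- The two-member family of arrows. -/
def pairHom {A B T : Over S} (a : A ⟶ T) (b : B ⟶ T) : ∀ k : Bool, pairObj A B k ⟶ T
  | true => a
  | false => b

/-- Descent of sections of an h sheaf along a two-member h covering. -/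
theorem existsUnique_of_pair (F : HTop.ShH S) {A B T : Over S} (a : A ⟶ T) (b : B ⟶ T)
    (hE : HTop.IsHCover ((PreZeroHypercover.singleton.{0} a.left).sum
      (PreZeroHypercover.singleton.{0} b.left)))
    (x : F.obj.obj (op A)) (y : F.obj.obj (op B))
    (hxx : ∀ (W : Over S) (p₁ p₂ : W ⟶ A), p₁ ≫ a = p₂ ≫ a →
      F.obj.map p₁.op x = F.obj.map p₂.op x)
    (hyy : ∀ (W : Over S) (p₁ p₂ : W ⟶ B), p₁ ≫ b = p₂ ≫ b →
      F.obj.map p₁.op y = F.obj.map p₂.op y)
    (hxy : ∀ (W : Over S) (p : W ⟶ A) (q : W ⟶ B), p ≫ a = q ≫ b →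
      F.obj.map p.op x = F.obj.map q.op y) :
    ∃! s : F.obj.obj (op T), F.obj.map a.op s = x ∧ F.obj.map b.op s = y := by
  have hR : Sieve.generate ((PreZeroHypercover.singleton.{0} a.left).sum
      (PreZeroHypercover.singleton.{0} b.left)).presieve₀ ∈ HTop.hTopology T.left :=
    Precoverage.generate_mem_toGrothendieck ((HTop.presieve₀_mem_hPrecoverage_iff _).mpr hE)
  have hS : Sieve.generate (Presieve.ofArrows (pairObj A B) (pairHom a b)) ∈ (HTop.Jh S) T := by
    rw [GrothendieckTopology.mem_over_iff]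
    refine (HTop.hTopology).superset_covering ?_ hR
    rintro Z k ⟨W, c, d, ⟨j⟩, rfl⟩
    rw [Sieve.overEquiv_iff]
    rcases j with j | j
    · let c' : Z ⟶ A.left := c
      have hc' : c' ≫ A.hom = (c' ≫ a.left) ≫ T.hom := by rw [Category.assoc, Over.w a]
      refine ⟨A, Over.homMk c' hc', a, Presieve.ofArrows.mk (ι := Bool) true, ?_⟩
      ext
      rfl
    · let c' : Z ⟶ B.left := c
      have hc' : c' ≫ B.hom = (c' ≫ b.left) ≫ T.hom := by rw [Category.assoc, Over.w b]
      refine ⟨B, Over.homMk c' hc', b, Presieve.ofArrows.mk (ι := Bool) false, ?_⟩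
      ext
      rfl
  have h1 : Presieve.IsSheaf (HTop.Jh S) F.obj := (isSheaf_iff_isSheaf_of_type _ _).1 F.property
  have h2 := h1 _ hS
  rw [← Presieve.isSheafFor_iff_generate, Presieve.isSheafFor_arrows_iff] at h2
  let fam : ∀ k : Bool, F.obj.obj (op (pairObj A B k))
    | true => x
    | false => y
  have hcompat : Presieve.Arrows.Compatible F.obj (pairHom a b) fam := by
    rintro (_ | _) (_ | _) W p q hpq
    · exact hyy W p q hpq
    · exact (hxy W q p hpq.symm).symm
    · exact hxy W p q hpq
    · exact hxx W p q hpq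
  obtain ⟨s, hs, hsu⟩ := h2 fam hcompat
  refine ⟨s, ⟨hs true, hs false⟩, fun s₂ h₂ => hsu s₂ ?_⟩
  rintro (_ | _)
  · exact h₂.2
  · exact h₂.1

end Groth.Agent.Lib.Helper14.HBlow
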