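import Mathlib
import Groth.Prelude.Def_HTop
import Groth.Prelude.Def_HTop3
import Groth.Agent.Lib.Helper14.HBlow5
import Groth.Agent.Lib.Helper25.BlowUpDense

/-!
# Almost blow-up squares: the proper morphism is an isomorphism away from the centre
-/

set_option autoImplicit false
universe w u
open CategoryTheory CategoryTheory.Limits AlgebraicGeometry Opposite

namespace Groth.Agent.Lib.Helper14.HBlow

/-- The scheme-theoretic closure of an open subscheme restricts to the open subscheme. -/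
theorem isIso_subschemeι_ker_restrict {X : Scheme.{u}} (W : X.Opens) :
    IsIso (W.ι.ker.subschemeι ∣_ W) := by
  let c : W.ι.ker.subscheme ⟶ X := W.ι.ker.subschemeι
  have hfac : W.ι.toImage ≫ c = W.ι := W.ι.toImage_imageι
  have hrange : Set.range W.ι.toImage ⊆ Set.range (c ⁻¹ᵁ W).ι := by
    rintro _ ⟨w, rfl⟩
    rw [Scheme.Opens.range_ι]
    change c (W.ι.toImage w) ∈ W
    rw [← Scheme.Hom.comp_apply, hfac]
    exact w.2
  let s : W.toScheme ⟶ (c ⁻¹ᵁ W).toScheme := IsOpenImmersion.lift (c ⁻¹ᵁ W).ι W.ι.toImage hrange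
  have hs' : s ≫ (c ⁻¹ᵁ W).ι = W.ι.toImage := IsOpenImmersion.lift_fac _ _ _
  have hs : s ≫ (c ∣_ W) = 𝟙 _ := by
    rw [← cancel_mono W.ι, Category.assoc, morphismRestrict_ι, ← Category.assoc, hs', hfac,
      Category.id_comp]
  have hmono : Mono (c ∣_ W) := by
    have : Mono ((c ∣_ W) ≫ W.ι) := by
      rw [morphismRestrict_ι]
      infer_instance
    exact mono_of_mono (c ∣_ W) W.ι
  have hsplit : IsSplitEpi (c ∣_ W) := ⟨⟨s, hs⟩⟩
  exact isIso_of_mono_of_isSplitEpi (c ∣_ W)

open Groth.Agent.Lib.Helper25.BlowUpUP in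
theorem isIso_restrict_of_isAlmostBlowUpSquare {E Z X' X : Scheme.{u}} {e : E ⟶ X'} {π : E ⟶ Z}
    {b : X' ⟶ X} {i : Z ⟶ X} (h : HTop.IsAlmostBlowUpSquare e π b i) :
    IsIso (b ∣_ i.ker.support.compl) := by
  have hβ : IsIso (((HTop.supportedOn (i.ker.comap b)).subschemeι ≫ b) ∣_ i.ker.support.compl) :=
    isIso_restrict_compl_support i.ker _ h.isBlowUp
  rw [morphismRestrict_comp] at hβ
  have hW : b ⁻¹ᵁ i.ker.support.compl = HTop.awayFrom (i.ker.comap b) := by
    ext x
    simp [HTop.awayFrom, Scheme.IdealSheafData.support_comap]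
  have hc : IsIso ((HTop.supportedOn (i.ker.comap b)).subschemeι ∣_ (b ⁻¹ᵁ i.ker.support.compl)) := by
    rw [hW]
    exact isIso_subschemeι_ker_restrict (HTop.awayFrom (i.ker.comap b))
  exact @IsIso.of_isIso_comp_left _ _ _ _ _ _ (b ∣_ i.ker.support.compl) hc hβ

theorem coe_compl_support_ker {Z X : Scheme.{u}} (i : Z ⟶ X) [IsClosedImmersion i] :
    ((i.ker.support.compl : X.Opens) : Set X) = (Set.range i.base)ᶜ := by
  change ((i.ker.support : Set X))ᶜ = _
  rw [Scheme.Hom.support_ker, i.isClosedEmbedding.isClosed_range.closure_eq]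

end Groth.Agent.Lib.Helper14.HBlow
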