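import Groth.Prelude.Def_AlgSp4
import Groth.Agent.S10004
import Groth.Agent.Lib.Helper14.LimB
import Mathlib.AlgebraicGeometry.AffineTransitionLimit
universe u
open CategoryTheory CategoryTheory.Limits AlgebraicGeometry Opposite
namespace Groth.Agent.Lib.Helper14.AS
open AlgSp

set_option backward.isDefEq.respectTransparency.types false in
/-- a cofiltered diagram of schemes with affine transition maps has a limit -/
theorem exists_isLimit_of_isAffineHom {I : Type u} [SmallCategory I] [IsCofiltered I]
    (D : I ⥤ Scheme.{u}) [∀ (i j : I) (f : i ⟶ j), IsAffineHom (D.map f)] :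
    ∃ (c : Limits.Cone D) (_ : Limits.IsLimit c), ∀ i, IsAffineHom (c.π.app i) := by
  obtain ⟨i₀⟩ : Nonempty I := IsCofiltered.nonempty
  have hconn : IsConnected (Over i₀) := IsCofiltered.isConnected _
  let S : Scheme.{u} := D.obj i₀
  let E : Over i₀ ⥤ Over S := Over.post D
  let DJ : Over i₀ ⥤ Sp S := E ⋙ yon S
  have hD : ∀ k, IsAlgSpace (DJ.obj k) := fun k => IsAlgSpace.yon_obj _
  have hDa : ∀ (k k' : Over i₀) (φ : k ⟶ k'), IsAffineMor (DJ.map φ) := fun k k' φ => by
    refine isAffineMor_of_repWith ((repWith_yon_map_iff @IsAffineHom (E.map φ)).2 ?_)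
    change IsAffineHom (D.map φ.left)
    infer_instance
  obtain ⟨hL, hπ⟩ := Groth.Agent.S10004.result S DJ hD hDa (limit.cone DJ) (limit.isLimit DJ)
  let k₀ : Over i₀ := Over.mk (𝟙 i₀)
  have hrep := (repWith_isAffineHom_of_isAffineMor' _ (hπ k₀)).rep
  obtain ⟨W, i, fst, sq⟩ := hrep (𝟙 ((yon S).obj (E.obj k₀)))
  have hfst : IsIso fst := sq.isIso_fst_of_isIso
  let e : (yon S).obj W ≅ (limit.cone DJ).pt := asIso fst
  -- the cone in `Over S`
  let cW : Cone E :=
    { pt := W
      π :=
        { app := fun k => (yon S).preimage (e.hom ≫ (limit.cone DJ).π.app k)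
          naturality := fun k k' φ => by
            apply (yon S).map_injective
            simp only [Functor.const_obj_obj, Functor.const_obj_map, Category.id_comp,
              Functor.map_comp, Functor.map_preimage, Category.assoc]
            rw [← (limit.cone DJ).w φ]
            rfl } }
  have hcW : IsLimit ((yon S).mapCone cW) := by
    refine IsLimit.ofIsoLimit (limit.isLimit DJ) (Cones.ext e.symm (fun k => ?_))
    change (limit.cone DJ).π.app k = e.inv ≫ (yon S).map ((yon S).preimage _)
    rw [Functor.map_preimage, Iso.inv_hom_id_assoc]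
  have hcW' : IsLimit cW := isLimitOfReflects (yon S) hcW
  have hcF : IsLimit ((Over.forget S).mapCone cW) := isLimitOfPreserves (Over.forget S) hcW'
  let t : Cone (Over.forget i₀ ⋙ D) := (Over.forget S).mapCone cW
  have ht : IsLimit t := hcF
  refine ⟨(Functor.Initial.extendCone (F := Over.forget i₀)).obj t,
    (Functor.Initial.isLimitExtendConeEquiv (Over.forget i₀) t).symm ht, ?_⟩
  have hinst : ∀ {i j : I} (f : i ⟶ j), IsAffineHom (D.map f) := fun f => inferInstance
  intro i
  exact isAffineHom_π_app D _ ((Functor.Initial.isLimitExtendConeEquiv (Over.forget i₀) t).symm ht) i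

end Groth.Agent.Lib.Helper14.AS
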