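import Mathlib
import Groth.Agent.Lib.Helper16.ReducedSub

universe u
open CategoryTheory AlgebraicGeometry TopologicalSpace

namespace Groth.Agent.Lib.Helper14.AS

/-- (A1) A quasi-compact immersion is an open immersion into any closed subscheme cut out by its
kernel. -/
theorem isOpenImmersion_of_ker_eq {W C V : Scheme.{u}} (g : W ⟶ V) [IsImmersion g] [QuasiCompact g]
    (ι : C ⟶ V) [IsClosedImmersion ι] (hk : ι.ker = g.ker) (g' : W ⟶ C) (fac : g' ≫ ι = g) :
    IsOpenImmersion g' := by
  have hk' : g.imageι.ker = ι.ker := by rw [Scheme.Hom.imageι, Scheme.IdealSheafData.ker_subschemeι, hk]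
  have := IsClosedImmersion.isIso_lift g.imageι ι hk'
  have h1 : g' ≫ IsClosedImmersion.lift g.imageι ι hk'.le = g.toImage := by
    rw [← cancel_mono g.imageι, Category.assoc, IsClosedImmersion.lift_fac, fac, g.toImage_imageι]
  have h2 : g' = g.toImage ≫ inv (IsClosedImmersion.lift g.imageι ι hk'.le) := by
    rw [← h1, Category.assoc, IsIso.hom_inv_id, Category.comp_id]
  rw [h2]
  infer_instance

/-- (A2) An immersion with reduced source is an open immersion into the reduced closed subscheme
on the closure of its range. -/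
theorem isOpenImmersion_of_isReduced {W C V : Scheme.{u}} (g : W ⟶ V) [IsImmersion g] [IsReduced W]
    (ι : C ⟶ V) [IsClosedImmersion ι] [IsReduced C] (hr : Set.range ι = closure (Set.range g))
    (g' : W ⟶ C) (fac : g' ≫ ι = g) : IsOpenImmersion g' := by
  have : IsImmersion (g' ≫ ι) := by rw [fac]; infer_instance
  have hg' : IsImmersion g' := IsImmersion.of_comp g' ι
  -- the open subset `U = ι⁻¹(coborder)` of `C` equals the range of `g'`
  let U : C.Opens := ι ⁻¹ᵁ g.coborderRange
  have hU : (U : Set C) = Set.range g' := by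
    ext x
    constructor
    · intro hx
      have h1 : ι x ∈ coborder (Set.range g) ∩ closure (Set.range g) :=
        ⟨hx, hr ▸ Set.mem_range_self x⟩
      rw [coborder_inter_closure] at h1
      obtain ⟨w, hw⟩ := h1
      refine ⟨w, ι.injective ?_⟩
      rw [← hw, ← fac]
      rfl
    · rintro ⟨w, rfl⟩
      change ι (g' w) ∈ coborder (Set.range g)
      apply subset_coborder
      refine ⟨w, ?_⟩
      rw [← fac]
      rfl
  let g'' : W ⟶ U := IsOpenImmersion.lift U.ι g' (by rw [Scheme.Opens.range_ι, hU])
  have hfac : g'' ≫ U.ι = g' := IsOpenImmersion.lift_fac _ _ _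
  have : IsImmersion (g'' ≫ U.ι) := by rw [hfac]; exact hg'
  have : IsImmersion g'' := IsImmersion.of_comp g'' U.ι
  have hsurj : Surjective g'' := by
    refine ⟨fun x => ?_⟩
    have hx : x.1 ∈ (U : Set C) := x.2
    rw [hU] at hx
    obtain ⟨w, hw⟩ := hx
    refine ⟨w, U.ι.injective ?_⟩
    have h3 : U.ι (g'' w) = g' w := by rw [← hfac]; rfl
    rw [h3, hw]
    rfl
  have : IsClosedImmersion g'' := by
    refine IsClosedImmersion.of_isPreimmersion _ ?_
    rw [Set.range_eq_univ.2 hsurj.surj]
    exact isClosed_univ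
  have : IsIso g'' := isIso_of_isClosedImmersion_of_surjective g''
  rw [← hfac]
  infer_instance

end Groth.Agent.Lib.Helper14.AS
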