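import Mathlib
import Groth.Prelude.Def_AlgSpSub
import Groth.Agent.Lib.Helper14.ImmImg1
import Groth.Agent.Lib.Helper14.EtDense4
import Groth.Agent.Lib.Helper14.SchImg10
import Groth.Agent.Lib.Helper14.RedInd2
import Groth.Agent.Lib.Helper14.ReducedEtale
import Groth.Agent.Lib.Helper14.AlgSpImmTop
import Groth.Agent.Lib.Helper14.AlgSpQCMor2

universe u
open CategoryTheory AlgebraicGeometry TopologicalSpace

namespace Groth.Agent.Lib.Helper14.AS
open Groth.Agent.Lib.Helper14.AS Groth.Agent.Lib.Helper14 Groth.Agent.Lib.Helper12.SchDense AlgSp CategoryTheory.Limits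

variable {S : Scheme.{u}}

set_option backward.isDefEq.respectTransparency.types false in
/-- Every étale chart of a reduced sheaf is reduced. -/
theorem isReduced_chart_of_isReducedSp {X : Sp S} (hX : IsReducedSp X) {V : Over S}
    (b : (yon S).obj V ⟶ X) (hb : RepWith @Etale b) : IsReduced V.left := by
  obtain ⟨U₀, a₀, hae, has, hU₀⟩ := hX
  have sqR := hae.rep.isPullback' b
  have h1 : Etale (hae.rep.fst' b).left := hb.property _ _ _ sqR.flip
  have h2 : Etale (hae.rep.snd b).left := hae.property_snd _
  have h3 : Surjective (hae.rep.snd b).left := has.property _ _ _ sqR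
  have : IsReduced U₀.left := hU₀
  have : IsReduced (hae.rep.pullback b).left := isReduced_of_etale_scheme (hae.rep.fst' b).left
  have : Flat (hae.rep.snd b).left := inferInstance
  exact isReduced_of_flat_surjective (hae.rep.snd b).left

/-- The identity is the scheme theoretic image of the factorisation through the scheme theoretic
image. -/
theorem isSchImage_id_of_isSchImage {Z X Zbar : Sp S} {h : Z ⟶ X} {c : Zbar ⟶ X}
    (hc : IsSchImage h c) {h' : Z ⟶ Zbar} (fac : h' ≫ c = h) : IsSchImage h' (𝟙 Zbar) := by
  have : Mono c := mono_of_repWith_isClosedImmersion hc.1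
  have : MorphismProperty.ContainsIdentities @IsClosedImmersion.{u} :=
    ⟨fun X => inferInstance⟩
  have : MorphismProperty.IsStableUnderComposition @IsClosedImmersion.{u} :=
    ⟨fun f g hf hg => by have := hf; have := hg; infer_instance⟩
  refine ⟨repWith_of_isIso _ _, ⟨h', Category.comp_id _⟩, ?_⟩
  intro Z' i' hZ' hi' ⟨f'', hf''⟩
  obtain ⟨k, hk⟩ := hc.2.2 (i' ≫ c) hZ' (repWith_comp _ hi' hc.1) ⟨f'', by
    rw [← Category.assoc, hf'', fac]⟩
  refine ⟨k, ?_⟩
  rw [← cancel_mono c, Category.assoc, hk, Category.id_comp]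


set_option backward.isDefEq.respectTransparency.types false in
/-- A quasi-compact (or reduced-source) immersion is a scheme theoretically dense, topologically
dense open immersion into its scheme theoretic image. -/
theorem immersion_into_schImage {Z X Zbar : Sp S} (hZ : IsAlgSpace Z) (hX : IsAlgSpace X)
    (hZbar : IsAlgSpace Zbar) {h : Z ⟶ X}
    (hh : RepWith @IsImmersion h) (hq : IsQuasiCompactMor h ∨ IsReducedSp Z)
    {c : Zbar ⟶ X} (hc : IsSchImage h c) {h' : Z ⟶ Zbar} (fac : h' ≫ c = h) :
    RepWith @IsOpenImmersion h' ∧ IsSchDense h' ∧ Dense (Set.range (Points.map h')) := by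
  obtain ⟨V₀, b₀, hbe, hbs⟩ := hX.atlas
  have sqZ := hh.rep.isPullback b₀
  have sqC := hc.1.rep.isPullback b₀
  have hgimm : IsImmersion (hh.rep.snd b₀).left := hh.property_snd b₀
  have hιcl : IsClosedImmersion (hc.1.rep.snd b₀).left := hc.1.property_snd b₀
  obtain ⟨g', hg'⟩ := (yon S).map_surjective (sqC.lift (hh.rep.fst b₀ ≫ h')
    ((yon S).map (hh.rep.snd b₀)) (by rw [Category.assoc, fac, sqZ.w]))
  have fac₀ : g' ≫ hc.1.rep.snd b₀ = hh.rep.snd b₀ := by
    apply (yon S).map_injective
    rw [Functor.map_comp, hg', sqC.lift_snd]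
  have fac₀' : g'.left ≫ (hc.1.rep.snd b₀).left = (hh.rep.snd b₀).left := by
    rw [← Over.comp_left, fac₀]
  have sqL : IsPullback (hh.rep.fst b₀) ((yon S).map g') h' (hc.1.rep.fst b₀) := by
    refine (IsPullback.of_right ?_ ?_ sqC.flip).flip
    · rw [← Functor.map_comp, fac₀, fac]
      exact sqZ.flip
    · rw [hg', sqC.lift_fst]
  have hqe : RepWith @Etale (hc.1.rep.fst b₀) :=
    MorphismProperty.of_isPullback (P := RepWith @Etale) sqC.flip hbe
  have hqs : RepWith @Surjective (hc.1.rep.fst b₀) :=
    MorphismProperty.of_isPullback (P := RepWith @Surjective) sqC.flip hbs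
  have hql : Sheaf.IsLocallySurjective (hc.1.rep.fst b₀) :=
    isLocallySurjective_of_etale_surjective _ hqe hqs
  have hrep' : RepWith @IsImmersion h' :=
    repWith_of_comp_repWith_immersion _ hh (repWith_mono isClosedImmersion_le_isImmersion hc.1) fac
  have hfe : RepWith @Etale (hh.rep.fst b₀) :=
    MorphismProperty.of_isPullback (P := RepWith @Etale) sqZ.flip hbe
  -- range of `c` inside the closure of the range of `h`
  have hrange : Set.range (Points.map c) ⊆ closure (Set.range (Points.map h)) := by
    rcases hq with hq | hq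
    · exact range_subset_closure_of_isSchImage hX hq c hc
    · exact (isRedInduced_of_isSchImage_of_reduced hX hq h c hc).2.1.le
  -- (3) topological density
  have hdense : Dense (Set.range (Points.map h')) := by
    have hemb := (isEmbedding_points_of_repWith_isImmersion hX
      (repWith_mono isClosedImmersion_le_isImmersion hc.1)).1
    intro z
    rw [hemb.isInducing.closure_eq_preimage_closure_image, Set.mem_preimage, ← Set.range_comp]
    have : Points.map c ∘ Points.map h' = Points.map h := by
      funext x
      rw [Function.comp_apply, ← Points.map_comp, fac]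
    rw [this]
    exact hrange ⟨z, rfl⟩
  -- (1) open immersion on the chart
  have hopen : IsOpenImmersion g'.left := by
    rcases hq with hq | hq
    · have hqc : QuasiCompact (hh.rep.snd b₀).left :=
        (repWith_quasiCompact_of_isQuasiCompactMor hh.rep hq).property_snd b₀
      have hk : (hc.1.rep.snd b₀).left.ker = (hh.rep.snd b₀).left.ker :=
        (ker_snd_eq_imgKer hX hq c hc b₀ hbe).trans (imgKer_eq_ker_snd hh.rep b₀)
      exact isOpenImmersion_of_ker_eq (hh.rep.snd b₀).left (hc.1.rep.snd b₀).left hk g'.left fac₀'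
    · have hred := isRedInduced_of_isSchImage_of_reduced hX hq h c hc
      have : IsReduced (hh.rep.pullback b₀).left := isReduced_chart_of_isReducedSp hq _ hfe
      have : IsReduced (hc.1.rep.pullback b₀).left := isReduced_chart_of_isReducedSp hred.2.2 _ hqe
      refine isOpenImmersion_of_isReduced (hh.rep.snd b₀).left (hc.1.rep.snd b₀).left ?_ g'.left fac₀'
      rw [range_snd_eq_preimage sqC, range_snd_eq_preimage sqZ, hred.2.1]
      exact (isOpenMap_ofPt b₀ hbe).preimage_closure_eq_closure_preimage
        (Points.continuous_ofPt b₀) _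
  have hopen' : RepWith @IsOpenImmersion h' :=
    (repWith_iff_of_chart hrep'.rep (hc.1.rep.fst b₀) sqL @IsOpenImmersion).2 hopen
  refine ⟨hopen', ?_, hdense⟩
  -- (2) schematic density
  rcases hq with hq | hq
  · have hsep : IsQuasiSeparatedMor c :=
      repWith_mono isClosedImmersion_le_quasiCompact (isSeparatedMor_of_repWith_isClosedImmersion hc.1)
    have hqc' : IsQuasiCompactMor h' :=
      isQuasiCompactMor_of_comp hZ hZbar (repDiag_of_isAlgSpace hX) h' c (fac ▸ hq) hsep
    exact isSchDense_of_isSchImage_id hZbar hopen' hqc' (isSchImage_id_of_isSchImage hc fac)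
  · have hred := isRedInduced_of_isSchImage_of_reduced hX hq h c hc
    have : IsReduced (hc.1.rep.pullback b₀).left := isReduced_chart_of_isReducedSp hred.2.2 _ hqe
    obtain ⟨W, fst, sq⟩ := exists_opens_of_repWith_isOpenImmersion hopen' (hc.1.rep.fst b₀)
    refine ⟨hopen', _, hc.1.rep.fst b₀, W, fst, hqe, hqs, sq, ?_⟩
    apply of_dense_of_isReduced
    have hW : (W : Set (hc.1.rep.pullback b₀).left) =
        Points.ofPt (hc.1.rep.fst b₀) ⁻¹' Set.range (Points.map h') :=
      coe_eq_preimage_of_isPullback sq
    rw [hW]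
    exact hdense.preimage (isOpenMap_ofPt _ hqe)

end Groth.Agent.Lib.Helper14.AS
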