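import Groth.Prelude.Def_AlgSpDec
import Groth.Prelude.Def_AlgSp3
import Groth.Prelude.Def_AlgSp4
import Groth.Agent.Lib.Helper14.AlgSpDim
import Groth.Agent.Lib.Helper14.EtSite1
import Groth.Agent.S9683

universe u
open CategoryTheory CategoryTheory.Limits AlgebraicGeometry Opposite

namespace Groth.Agent.Lib.Helper14.AS
open AlgSp

variable {S : Scheme.{u}} {X Y : Sp S}

theorem ringKrullDim_stalk_le_topologicalKrullDim (U : Scheme.{u}) (u : ↥U) :
    ringKrullDim (U.presheaf.stalk u) ≤ topologicalKrullDim ↥U := by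
  rw [topologicalKrullDim_eq_iSup_stalk]
  exact le_iSup (fun x : ↥U => ringKrullDim (U.presheaf.stalk x)) u

theorem topologicalKrullDim_le_dim {U : Over S} (a : (yon S).obj U ⟶ X) (ha : RepWith @Etale a) :
    topologicalKrullDim ↥U.left ≤ AlgSp.dim X := by
  unfold AlgSp.dim
  exact le_iSup_of_le U (le_iSup_of_le a (le_iSup_of_le ha le_rfl))

set_option backward.isDefEq.respectTransparency.types false in
/-- The data of an integral morphism over an affine open of a chart of the target through a given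
point. -/
theorem exists_integral_chart (f : X ⟶ Y) (hf : IsIntegralMor f)
    {V : Over S} (b : (yon S).obj V ⟶ Y) (hb : RepWith @Etale b) (v : ↥V.left) :
    ∃ (V' W : Over S) (j : V' ⟶ V) (i : W ⟶ V') (fst : (yon S).obj W ⟶ X) (v' : ↥V'.left),
      IsOpenImmersion j.left ∧ j.left v' = v ∧ RepWith @Etale ((yon S).map j ≫ b) ∧
      IsPullback fst ((yon S).map i) f ((yon S).map j ≫ b) ∧ RepWith @Etale fst ∧
      IsIntegralHom i.left := by
  obtain ⟨_, ⟨O, hO, rfl⟩, hvO, -⟩ := (V.left.isBasis_affineOpens).exists_subset_of_mem_open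
    (Set.mem_univ v) isOpen_univ
  let O : V.left.Opens := O
  let V' : Over S := Over.mk (O.ι ≫ V.hom)
  let j : V' ⟶ V := Over.homMk O.ι rfl
  have hj : RepWith @Etale ((yon S).map j ≫ b) :=
    repWith_comp (@Etale : MorphismProperty Scheme.{u})
      ((repWith_yon_map_iff _ _).2 (show Etale O.ι from inferInstance)) hb
  have hA : IsAffine V'.left := hO
  obtain ⟨W, i, fst, sq, -, hi⟩ := hf hA ((yon S).map j ≫ b)
  exact ⟨V', W, j, i, fst, ⟨v, hvO⟩, (inferInstance : IsOpenImmersion O.ι), rfl, hj, sq,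
    repWith_of_isPullback _ sq.flip hj, hi⟩

theorem dim_le_of_isIntegralMor (hY : IsAlgSpace Y) (f : X ⟶ Y) (hf : IsIntegralMor f) :
    AlgSp.dim X ≤ AlgSp.dim Y := by
  unfold AlgSp.dim
  refine iSup_le fun U => iSup_le fun a => iSup_le fun ha => ?_
  rw [topologicalKrullDim_eq_iSup_stalk]
  refine iSup_le fun u => ?_
  obtain ⟨V, b, hb, hbs⟩ := hY.atlas
  obtain ⟨v, hv⟩ := ofPt_surjective_of_repWith hbs (Points.map f (Points.ofPt a u))
  obtain ⟨V', W, j, i, fst, v', -, hv', hj, sq, hfst, hi⟩ := exists_integral_chart f hf b hb v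
  have e : Points.map f (Points.ofPt a u) =
      Points.map ((yon S).map j ≫ b) (Points.ofScheme V' v') := by
    rw [← hv, Points.map_ofPt, Category.id_comp, ofPt_yon_map_comp, hv']
  obtain ⟨w, hw1, -⟩ := points_exists_of_isPullback sq _ _ e
  obtain ⟨w, rfl⟩ := (Points.schemeHomeo W).surjective w
  have hw1' : Points.ofPt fst w = Points.ofPt a u := by
    rw [Points.ofPt_eq_map_ofScheme fst]
    exact hw1
  rw [ringKrullDim_stalk_chart_indep a ha fst hfst u w hw1'.symm]
  refine (ringKrullDim_stalk_le_topologicalKrullDim W.left w).trans ?_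
  refine (Groth.Agent.S9683.result i.left).1.trans ?_
  exact topologicalKrullDim_le_dim _ hj

theorem dim_le_of_isIntegralMor_of_isSurjectiveMor
    (f : X ⟶ Y) (hf : IsIntegralMor f) (hs : IsSurjectiveMor f) :
    AlgSp.dim Y ≤ AlgSp.dim X := by
  unfold AlgSp.dim
  refine iSup_le fun V => iSup_le fun b => iSup_le fun hb => ?_
  rw [topologicalKrullDim_eq_iSup_stalk]
  refine iSup_le fun v => ?_
  obtain ⟨V', W, j, i, fst, v', hjo, hv', hj, sq, hfst, hi⟩ := exists_integral_chart f hf b hb v
  have e : Points.ofPt b v = Points.ofPt ((yon S).map j ≫ b) v' := by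
    rw [ofPt_yon_map_comp, hv']
  rw [ringKrullDim_stalk_chart_indep b hb _ hj v v' e]
  refine (ringKrullDim_stalk_le_topologicalKrullDim V'.left v').trans ?_
  have hsurj : Surjective i.left := by
    refine ⟨fun t => ?_⟩
    obtain ⟨x, hx⟩ := hs (Points.ofPt ((yon S).map j ≫ b) t)
    have e' : Points.map f x = Points.map ((yon S).map j ≫ b) (Points.ofScheme V' t) := by
      rw [hx, Points.map_ofPt, Category.id_comp]
    obtain ⟨w, -, hw2⟩ := points_exists_of_isPullback sq _ _ e'
    obtain ⟨w, rfl⟩ := (Points.schemeHomeo W).surjective w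
    refine ⟨w, ?_⟩
    have := (Points.map_yon_map_apply i w).symm.trans hw2
    exact (Points.schemeHomeo V').injective this
  rw [← (Groth.Agent.S9683.result i.left).2 hsurj]
  exact topologicalKrullDim_le_dim _ hfst

end Groth.Agent.Lib.Helper14.AS
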