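import Mathlib

universe u
open CategoryTheory CategoryTheory.Limits AlgebraicGeometry Opposite Topology TopologicalSpace

namespace Groth.Agent.Lib.Helper14.AS

/-- If `G(1/b) = 0` in `B[1/b]` for a polynomial `G` over `A` with constant term one, then `b`
is integral over `A`. -/
theorem exists_monic_of_eval_inv {A B : Type*} [CommRing A] [CommRing B] (φ : A →+* B) (b : B)
    (G : Polynomial A) (hG0 : G.coeff 0 = 1)
    (hG : Polynomial.eval₂ ((algebraMap B (Localization.Away b)).comp φ)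
      (IsLocalization.Away.invSelf b) G = 0) :
    ∃ p : Polynomial A, p.Monic ∧ Polynomial.eval₂ φ b p = 0 := by
  obtain ⟨u, hu⟩ : ∃ u, u = algebraMap B (Localization.Away b) b := ⟨_, rfl⟩
  obtain ⟨v, hv⟩ : ∃ v : Localization.Away b, v = IsLocalization.Away.invSelf b := ⟨_, rfl⟩
  have huv : u * v = 1 := by rw [hu, hv]; exact IsLocalization.Away.mul_invSelf b
  have hvu : v * u = 1 := by rw [mul_comm]; exact huv
  let inst : Invertible v := ⟨u, huv, hvu⟩
  have h1 := Polynomial.eval₂_reverse_mul_pow ((algebraMap B (Localization.Away b)).comp φ) v G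
  have h2 : Polynomial.eval₂ ((algebraMap B (Localization.Away b)).comp φ) u G.reverse = 0 := by
    have h3 : Polynomial.eval₂ ((algebraMap B (Localization.Away b)).comp φ) u G.reverse
        * v ^ G.natDegree = 0 := by
      have : (⅟ v) = u := rfl
      rw [this] at h1
      rw [h1, hv]
      exact hG
    have h4 : v ^ G.natDegree * u ^ G.natDegree = 1 := by rw [← mul_pow, hvu, one_pow]
    calc _ = Polynomial.eval₂ ((algebraMap B (Localization.Away b)).comp φ) u G.reverse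
        * (v ^ G.natDegree * u ^ G.natDegree) := by rw [h4, mul_one]
      _ = 0 := by rw [← mul_assoc, h3, zero_mul]
  have h5 : algebraMap B (Localization.Away b) (Polynomial.eval₂ φ b G.reverse) = 0 := by
    rw [Polynomial.hom_eval₂, ← hu]
    exact h2
  obtain ⟨⟨m, n, rfl⟩, hm⟩ := (IsLocalization.map_eq_zero_iff (Submonoid.powers b)
    (Localization.Away b) _).1 h5
  have hmon : G.reverse.Monic := by
    apply Polynomial.monic_of_natDegree_le_of_coeff_eq_one G.natDegree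
      (Polynomial.reverse_natDegree_le G)
    rw [Polynomial.coeff_reverse, Polynomial.revAt_le le_rfl, Nat.sub_self]
    exact hG0
  refine ⟨Polynomial.X ^ n * G.reverse, (Polynomial.monic_X_pow n).mul hmon, ?_⟩
  rw [Polynomial.eval₂_mul, Polynomial.eval₂_X_pow]
  exact hm

/-- The affine line over an affine scheme `V`, as a morphism to `V`. -/
noncomputable def lineMap (V : Scheme.{u}) [IsAffine V] :
    Spec (CommRingCat.of (Polynomial Γ(V, ⊤))) ⟶ V :=
  Spec.map (CommRingCat.ofHom (Polynomial.C : Γ(V, ⊤) →+* Polynomial Γ(V, ⊤))) ≫ V.isoSpec.inv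

/-- The coordinate function of the affine line. -/
noncomputable def lineT (V : Scheme.{u}) : Γ(Spec (CommRingCat.of (Polynomial Γ(V, ⊤))), ⊤) :=
  (Scheme.ΓSpecIso (CommRingCat.of (Polynomial Γ(V, ⊤)))).inv.hom Polynomial.X

/-- The function `1 - b T` on `E₀ ×_V 𝔸¹_V`. -/
noncomputable def lineF {E₀ V : Scheme.{u}} [IsAffine V] (k₀ : E₀ ⟶ V) (b₀ : Γ(E₀, ⊤)) :
    Γ(pullback k₀ (lineMap V), ⊤) :=
  1 - (pullback.fst k₀ (lineMap V)).appTop.hom b₀ *
    (pullback.snd k₀ (lineMap V)).appTop.hom (lineT V)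

theorem isoSpec_inv_appTop' (E : Scheme.{u}) [IsAffine E] :
    E.isoSpec.inv.appTop = (Scheme.ΓSpecIso Γ(E, ⊤)).inv := by
  have h1 : E.isoSpec.hom.appTop = (Scheme.ΓSpecIso Γ(E, ⊤)).hom := by
    rw [Scheme.isoSpec_hom]
    exact Scheme.toSpecΓ_appTop E
  have h2 : E.isoSpec.inv.appTop ≫ E.isoSpec.hom.appTop = 𝟙 _ := by
    rw [← Scheme.Hom.comp_appTop, Iso.hom_inv_id]
    rfl
  rw [h1] at h2
  rw [← cancel_mono (Scheme.ΓSpecIso Γ(E, ⊤)).hom, h2, Iso.inv_hom_id]

theorem exists_monic_of_isClosed_image {E₀ V : Scheme.{u}} [IsAffine E₀] [IsAffine V]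
    (k₀ : E₀ ⟶ V) (b₀ : Γ(E₀, ⊤))
    (hcl : IsClosed ((pullback.snd k₀ (lineMap V)) ''
      ((pullback k₀ (lineMap V)).basicOpen (lineF k₀ b₀) : Set ↥(pullback k₀ (lineMap V)))ᶜ)) :
    ∃ p : Polynomial Γ(V, ⊤), p.Monic ∧ p.eval₂ k₀.appTop.hom b₀ = 0 := by
  obtain ⟨Z, hZ⟩ : ∃ Z : Set (PrimeSpectrum (Polynomial Γ(V, ⊤))), Z =
      (pullback.snd k₀ (lineMap V)) ''
      ((pullback k₀ (lineMap V)).basicOpen (lineF k₀ b₀) : Set ↥(pullback k₀ (lineMap V)))ᶜ :=
    ⟨_, rfl⟩
  have hZcl : IsClosed Z := by rw [hZ]; exact hcl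
  -- Z is disjoint from T = 0
  have hdisj : PrimeSpectrum.zeroLocus
      ((PrimeSpectrum.vanishingIdeal Z ⊔ Ideal.span {(Polynomial.X : Polynomial Γ(V, ⊤))} :
        Ideal (Polynomial Γ(V, ⊤))) : Set (Polynomial Γ(V, ⊤))) = ∅ := by
    rw [PrimeSpectrum.zeroLocus_sup, PrimeSpectrum.zeroLocus_vanishingIdeal_eq_closure,
      hZcl.closure_eq, PrimeSpectrum.zeroLocus_span]
    rw [Set.eq_empty_iff_forall_notMem]
    rintro z ⟨hz1, hz2⟩
    rw [hZ] at hz1
    obtain ⟨e, he, rfl⟩ := hz1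
    have hz3 : (pullback.snd k₀ (lineMap V)) e ∉
        (Spec (CommRingCat.of (Polynomial Γ(V, ⊤)))).basicOpen (lineT V) := by
      unfold lineT
      rw [basicOpen_eq_of_affine]
      intro hcon
      exact hcon (hz2 (Set.mem_singleton _))
    have hz4 : e ∉ (pullback k₀ (lineMap V)).basicOpen
        ((pullback.snd k₀ (lineMap V)).appTop.hom (lineT V)) := by
      rw [← Scheme.preimage_basicOpen_top]
      exact hz3
    have h1 : lineF k₀ b₀ + (pullback.fst k₀ (lineMap V)).appTop.hom b₀ *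
        (pullback.snd k₀ (lineMap V)).appTop.hom (lineT V) = 1 := by
      unfold lineF; ring
    have h2 : e ∈ (pullback k₀ (lineMap V)).basicOpen (1 : Γ(pullback k₀ (lineMap V), ⊤)) := by
      rw [Scheme.basicOpen_of_isUnit _ isUnit_one]
      trivial
    rw [← h1] at h2
    have h3 := Scheme.basicOpen_add_le _ _ _ h2
    rcases h3 with h3 | h3
    · exact he h3
    · rw [Scheme.basicOpen_mul] at h3
      exact hz4 h3.2
  rw [PrimeSpectrum.zeroLocus_empty_iff_eq_top] at hdisj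
  have h1mem : (1 : Polynomial Γ(V, ⊤)) ∈
      PrimeSpectrum.vanishingIdeal Z ⊔ Ideal.span {(Polynomial.X : Polynomial Γ(V, ⊤))} := by
    rw [hdisj]; trivial
  obtain ⟨g, hg, h, hh, hgh⟩ := Submodule.mem_sup.1 h1mem
  obtain ⟨c, rfl⟩ := Ideal.mem_span_singleton'.1 hh
  have hg0 : g.coeff 0 = 1 := by
    have : g = 1 - c * Polynomial.X := by rw [← hgh]; ring
    rw [this, Polynomial.coeff_sub, Polynomial.coeff_one_zero, Polynomial.mul_coeff_zero,
      Polynomial.coeff_X_zero, mul_zero, sub_zero]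
  rw [PrimeSpectrum.mem_vanishingIdeal] at hg
  -- the section over `b₀ ≠ 0`
  obtain ⟨α, hα⟩ : ∃ α : Γ(E₀, ⊤) →+* Localization.Away b₀,
      α = algebraMap Γ(E₀, ⊤) (Localization.Away b₀) := ⟨_, rfl⟩
  obtain ⟨ψ, hψ⟩ : ∃ ψ : Polynomial Γ(V, ⊤) →+* Localization.Away b₀,
      ψ = Polynomial.eval₂RingHom (α.comp k₀.appTop.hom) (IsLocalization.Away.invSelf b₀) :=
    ⟨_, rfl⟩
  have hψC : CommRingCat.ofHom (Polynomial.C : Γ(V, ⊤) →+* Polynomial Γ(V, ⊤)) ≫
      CommRingCat.ofHom ψ = k₀.appTop ≫ CommRingCat.ofHom α := by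
    ext a
    change ψ (Polynomial.C a) = α (k₀.appTop.hom a)
    rw [hψ, Polynomial.coe_eval₂RingHom, Polynomial.eval₂_C]
    rfl
  have hcomm : (Spec.map (CommRingCat.ofHom α) ≫ E₀.isoSpec.inv) ≫ k₀ =
      Spec.map (CommRingCat.ofHom ψ) ≫ lineMap V := by
    unfold lineMap
    rw [Category.assoc, ← Scheme.isoSpec_inv_naturality, ← Category.assoc, ← Category.assoc,
      ← Spec.map_comp, ← Spec.map_comp, hψC]
  obtain ⟨σ, hσ⟩ : ∃ σ, σ = pullback.lift (Spec.map (CommRingCat.ofHom α) ≫ E₀.isoSpec.inv)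
      (Spec.map (CommRingCat.ofHom ψ)) hcomm := ⟨_, rfl⟩
  have hσ1 : σ ≫ pullback.fst k₀ (lineMap V) = Spec.map (CommRingCat.ofHom α) ≫ E₀.isoSpec.inv := by
    rw [hσ, pullback.lift_fst]
  have hσ2 : σ ≫ pullback.snd k₀ (lineMap V) = Spec.map (CommRingCat.ofHom ψ) := by
    rw [hσ, pullback.lift_snd]
  -- pullbacks of functions along σ
  have hpb1 : σ.appTop.hom ((pullback.fst k₀ (lineMap V)).appTop.hom b₀) =
      (Scheme.ΓSpecIso (CommRingCat.of (Localization.Away b₀))).inv.hom (α b₀) := by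
    have h1 : (pullback.fst k₀ (lineMap V)).appTop ≫ σ.appTop =
        CommRingCat.ofHom α ≫ (Scheme.ΓSpecIso (CommRingCat.of (Localization.Away b₀))).inv := by
      rw [← Scheme.Hom.comp_appTop, hσ1, Scheme.Hom.comp_appTop, isoSpec_inv_appTop',
        Scheme.ΓSpecIso_inv_naturality]
      rfl
    exact ConcreteCategory.congr_hom h1 b₀
  have hpb2 : ∀ r : Polynomial Γ(V, ⊤), σ.appTop.hom ((pullback.snd k₀ (lineMap V)).appTop.hom
      ((Scheme.ΓSpecIso (CommRingCat.of (Polynomial Γ(V, ⊤)))).inv.hom r)) =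
      (Scheme.ΓSpecIso (CommRingCat.of (Localization.Away b₀))).inv.hom (ψ r) := by
    intro r
    have h1 : (Scheme.ΓSpecIso (CommRingCat.of (Polynomial Γ(V, ⊤)))).inv ≫
        (pullback.snd k₀ (lineMap V)).appTop ≫ σ.appTop =
        CommRingCat.ofHom ψ ≫ (Scheme.ΓSpecIso (CommRingCat.of (Localization.Away b₀))).inv := by
      rw [← Scheme.Hom.comp_appTop, hσ2, Scheme.ΓSpecIso_inv_naturality]
    exact ConcreteCategory.congr_hom h1 r
  have hσF : σ.appTop.hom (lineF k₀ b₀) = 0 := by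
    have e1 : σ.appTop.hom ((pullback.snd k₀ (lineMap V)).appTop.hom (lineT V)) =
        (Scheme.ΓSpecIso (CommRingCat.of (Localization.Away b₀))).inv.hom (ψ Polynomial.X) :=
      hpb2 Polynomial.X
    have e2 : α b₀ * ψ Polynomial.X = 1 := by
      rw [hψ, Polynomial.coe_eval₂RingHom, Polynomial.eval₂_X, hα]
      exact IsLocalization.Away.mul_invSelf b₀
    have e3 : (Scheme.ΓSpecIso (CommRingCat.of (Localization.Away b₀))).inv.hom (α b₀) *
        (Scheme.ΓSpecIso (CommRingCat.of (Localization.Away b₀))).inv.hom (ψ Polynomial.X) = 1 := by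
      have := ((Scheme.ΓSpecIso (CommRingCat.of (Localization.Away b₀))).inv.hom).map_mul (α b₀)
        (ψ Polynomial.X)
      rw [← this, e2]
      exact ((Scheme.ΓSpecIso (CommRingCat.of (Localization.Away b₀))).inv.hom).map_one
    have e4 : σ.appTop.hom ((pullback.fst k₀ (lineMap V)).appTop.hom b₀) *
        σ.appTop.hom ((pullback.snd k₀ (lineMap V)).appTop.hom (lineT V)) = 1 :=
      (congrArg₂ (· * ·) hpb1 e1).trans e3
    unfold lineF
    rw [RingHom.map_sub, RingHom.map_one, RingHom.map_mul, e4, sub_self]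
  -- ψ g is nilpotent
  have hnil : IsNilpotent (ψ g) := by
    have key : (σ ≫ pullback.snd k₀ (lineMap V)) ⁻¹ᵁ
        ((Spec (CommRingCat.of (Polynomial Γ(V, ⊤)))).basicOpen
          ((Scheme.ΓSpecIso (CommRingCat.of (Polynomial Γ(V, ⊤)))).inv.hom g)) = ⊥ := by
      rw [eq_bot_iff]
      intro y hy
      have hy1 : (pullback.snd k₀ (lineMap V)) (σ y) ∈
          (Spec (CommRingCat.of (Polynomial Γ(V, ⊤)))).basicOpen
            ((Scheme.ΓSpecIso (CommRingCat.of (Polynomial Γ(V, ⊤)))).inv.hom g) := hy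
      rw [basicOpen_eq_of_affine] at hy1
      have hy2 : (pullback.snd k₀ (lineMap V)) (σ y) ∉ Z := fun hcon => hy1 (hg _ hcon)
      have hy3 : σ y ∈ (pullback k₀ (lineMap V)).basicOpen (lineF k₀ b₀) := by
        by_contra hcon
        apply hy2
        rw [hZ]
        exact ⟨σ y, hcon, rfl⟩
      have hy4 : y ∈ σ ⁻¹ᵁ (pullback k₀ (lineMap V)).basicOpen (lineF k₀ b₀) := hy3
      rw [Scheme.preimage_basicOpen_top, hσF, Scheme.basicOpen_zero] at hy4
      exact hy4
    have hnat : (Spec.map (CommRingCat.ofHom ψ)).appTop.hom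
        ((Scheme.ΓSpecIso (CommRingCat.of (Polynomial Γ(V, ⊤)))).inv.hom g) =
        (Scheme.ΓSpecIso (CommRingCat.of (Localization.Away b₀))).inv.hom (ψ g) :=
      (ConcreteCategory.congr_hom (Scheme.ΓSpecIso_inv_naturality (CommRingCat.ofHom ψ)) g).symm
    rw [Scheme.preimage_basicOpen_top, hσ2, hnat,
      basicOpen_eq_of_affine (R := CommRingCat.of (Localization.Away b₀)) (ψ g)] at key
    exact (PrimeSpectrum.basicOpen_eq_bot_iff _).1 key
  obtain ⟨m, hm⟩ := hnil
  rw [← map_pow] at hm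
  have hG0 : (g ^ m).coeff 0 = 1 := by
    rw [Polynomial.coeff_zero_eq_eval_zero, Polynomial.eval_pow,
      ← Polynomial.coeff_zero_eq_eval_zero, hg0, one_pow]
  refine exists_monic_of_eval_inv k₀.appTop.hom b₀ (g ^ m) hG0 ?_
  rw [hψ, Polynomial.coe_eval₂RingHom, hα] at hm
  exact hm

end Groth.Agent.Lib.Helper14.AS
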