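import Groth.Agent.Lib.Helper14.IntGS1
import Groth.Agent.Lib.Helper14.GSect1
import Groth.Agent.Lib.Helper14.AlgSpProper
import Groth.Agent.Lib.Helper14.AlgSpBasic2
import Groth.Agent.Lib.Helper14.AlgSpPoints
import Groth.Agent.Lib.Helper14.AlgSpQC
import Groth.Agent.Lib.Helper14.AlgSpQCMor

universe u
open CategoryTheory CategoryTheory.Limits AlgebraicGeometry Opposite Topology TopologicalSpace

namespace Groth.Agent.Lib.Helper14.AS
open AlgSp

variable {S : Scheme.{u}}

set_option backward.isDefEq.respectTransparency.types false in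
/-- The image of the zero locus of a function on an etale surjective chart is closed when the
function is compatible with the etale equivalence relation. -/
theorem isClosed_image_compl_basicOpen_of_saturated {X1 : Sp S} {E1 : Over S}
    (a1 : (yon S).obj E1 ⟶ X1) (hae : RepWith @Etale a1) (has : RepWith @Surjective a1)
    (F : Γ(E1.left, ⊤))
    (hsat : ∀ (R : Over S) (p1 p2 : R ⟶ E1), (yon S).map p1 ≫ a1 = (yon S).map p2 ≫ a1 →
      p1.left.appTop.hom F = p2.left.appTop.hom F) :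
    IsClosed (Points.ofPt a1 '' ((E1.left.basicOpen F : Set ↥E1.left)ᶜ)) := by
  have hcompl : (Points.ofPt a1 '' ((E1.left.basicOpen F : Set ↥E1.left)ᶜ))ᶜ =
      Points.ofPt a1 '' (E1.left.basicOpen F : Set ↥E1.left) := by
    ext x
    constructor
    · intro hx
      obtain ⟨e, rfl⟩ := ofPt_surjective_of_repWith has x
      refine ⟨e, ?_, rfl⟩
      by_contra hcon
      exact hx ⟨e, hcon, rfl⟩
    · rintro ⟨e', he', rfl⟩ ⟨e, he, hee⟩
      have sq := hae.rep.isPullback' a1
      obtain ⟨w, hw1, hw2⟩ := exists_point_of_isPullback_yon sq e e' hee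
      have h := hsat _ (hae.rep.fst' a1) (hae.rep.snd a1) sq.w
      apply he
      rw [← hw1]
      change w ∈ (hae.rep.fst' a1).left ⁻¹ᵁ E1.left.basicOpen F
      rw [Scheme.preimage_basicOpen_top, h, ← Scheme.preimage_basicOpen_top]
      change (hae.rep.snd a1).left w ∈ E1.left.basicOpen F
      rw [hw2]
      exact he'
  rw [← isOpen_compl_iff, hcompl]
  exact isOpenMap_ofPt a1 hae _ (E1.left.basicOpen F).isOpen

theorem map_one_sub_mul {A B : Type*} [CommRing A] [CommRing B] (φ : A →+* B) (x y : A) :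
    φ (1 - x * y) = 1 - φ x * φ y := by
  rw [map_sub, map_one, map_mul]

/-- The image in the affine line over `V` of the locus `b T = 1` on `E₀ ×_V 𝔸¹_V` is closed. -/
theorem isClosed_image_lineF {V : Over S} [IsAffine V.left] {X : Sp S} (f : X ⟶ (yon S).obj V)
    (huc : IsUnivClosedMor f) (s : ↥(gsectEt (OEt X))) {E₀ : Over S}
    (a₀ : (yon S).obj E₀ ⟶ X) (hae : RepWith @Etale a₀) (has : RepWith @Surjective a₀)
    (k₀ : E₀ ⟶ V) (hk₀ : a₀ ≫ f = (yon S).map k₀) :
    IsClosed ((pullback.snd k₀.left (lineMap V.left)) ''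
      ((pullback k₀.left (lineMap V.left)).basicOpen
        (lineF k₀.left (gres s (EtOver.mk a₀ hae))) :
          Set ↥(pullback k₀.left (lineMap V.left)))ᶜ) := by
  obtain ⟨b₀, hb₀⟩ : ∃ b₀ : Γ(E₀.left, ⊤), b₀ = gres s (EtOver.mk a₀ hae) := ⟨_, rfl⟩
  rw [← hb₀]
  obtain ⟨p1, hp1⟩ : ∃ p1, p1 = pullback.fst k₀.left (lineMap V.left) := ⟨_, rfl⟩
  obtain ⟨p2, hp2⟩ : ∃ p2, p2 = pullback.snd k₀.left (lineMap V.left) := ⟨_, rfl⟩
  have hcond : p1 ≫ k₀.left = p2 ≫ lineMap V.left := by
    rw [hp1, hp2]; exact pullback.condition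
  have hsnd : p2 ≫ (lineMap V.left ≫ V.hom) = p1 ≫ E₀.hom := by
    rw [← Category.assoc, ← hcond, Category.assoc, Over.w k₀]
  obtain ⟨π, hπ⟩ : ∃ π : Over.mk (p1 ≫ E₀.hom) ⟶ E₀, π = Over.homMk p1 rfl := ⟨_, rfl⟩
  obtain ⟨h1, hh1⟩ : ∃ h1 : Over.mk (p1 ≫ E₀.hom) ⟶ Over.mk (lineMap V.left ≫ V.hom),
      h1 = Over.homMk p2 hsnd := ⟨_, rfl⟩
  obtain ⟨q, hq⟩ : ∃ q : Over.mk (lineMap V.left ≫ V.hom) ⟶ V,
      q = Over.homMk (lineMap V.left) rfl := ⟨_, rfl⟩
  have hπl : π.left = p1 := by rw [hπ]; rfl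
  have hh1l : h1.left = p2 := by rw [hh1]; rfl
  have schemeSq : IsPullback p1 p2 k₀.left (lineMap V.left) := by
    rw [hp1, hp2]; exact IsPullback.of_hasPullback _ _
  have hcommO : π ≫ k₀ = h1 ≫ q := by
    ext
    rw [hπ, hh1, hq]
    exact hcond
  have sqO : IsPullback π h1 k₀ q := by
    apply IsPullback.of_map (Over.forget S) hcommO
    rw [hπ, hh1, hq]
    exact schemeSq
  have sqY := sqO.map (yon S)
  have sq0 := IsPullback.of_hasPullback f ((yon S).map q)
  obtain ⟨a1, ha1⟩ : ∃ a1, a1 = sq0.lift ((yon S).map π ≫ a₀) ((yon S).map h1)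
      (by rw [Category.assoc, hk₀]; exact sqY.w) := ⟨_, rfl⟩
  have hb1 : a1 ≫ pullback.fst f ((yon S).map q) = (yon S).map π ≫ a₀ := by
    rw [ha1, sq0.lift_fst]
  have hb2 : a1 ≫ pullback.snd f ((yon S).map q) = (yon S).map h1 := by
    rw [ha1, sq0.lift_snd]
  have top : IsPullback ((yon S).map π) a1 a₀ (pullback.fst f ((yon S).map q)) := by
    refine IsPullback.of_bot ?_ hb1.symm sq0
    rw [hb2, hk₀]
    exact sqY
  have ha1e : RepWith @Etale a1 := repWith_of_isPullback _ top hae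
  have ha1s : RepWith @Surjective a1 := repWith_of_isPullback _ top has
  have hF : (lineF k₀.left b₀ : Γ((Over.mk (p1 ≫ E₀.hom)).left, ⊤)) =
      (1 : Γ((Over.mk (p1 ≫ E₀.hom)).left, ⊤)) -
        π.left.appTop.hom b₀ * h1.left.appTop.hom (lineT V.left) := by
    subst hπ hh1 hp1 hp2
    rfl
  -- saturation
  have hsat : ∀ (R : Over S) (r1 r2 : R ⟶ Over.mk (p1 ≫ E₀.hom)),
      (yon S).map r1 ≫ a1 = (yon S).map r2 ≫ a1 →
      r1.left.appTop.hom (lineF k₀.left b₀) = r2.left.appTop.hom (lineF k₀.left b₀) := by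
    intro R r1 r2 hr
    have hcomp : ∀ {A B C : Over S} (x : A ⟶ B) (y : B ⟶ C) (t : Γ(C.left, ⊤)),
        (x ≫ y).left.appTop.hom t = x.left.appTop.hom (y.left.appTop.hom t) := by
      intro A B C x y t
      rw [Over.comp_left, Scheme.Hom.comp_appTop]
      rfl
    have hr' : (yon S).map (r1 ≫ π) ≫ a₀ = (yon S).map (r2 ≫ π) ≫ a₀ := by
      rw [Functor.map_comp, Functor.map_comp, Category.assoc, Category.assoc, ← hb1,
        ← Category.assoc, ← Category.assoc, hr]
    obtain ⟨ℓ, hℓ⟩ : ∃ ℓ, ℓ = (EtOver.mk a₀ hae).property.1.lift' (r1 ≫ π) (r2 ≫ π) hr' :=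
      ⟨_, rfl⟩
    have hℓ1 : ℓ ≫ (EtOver.mk a₀ hae).property.1.fst' a₀ = r1 ≫ π := by
      rw [hℓ]; exact Functor.relativelyRepresentable.lift'_fst _ _ _ _
    have hℓ2 : ℓ ≫ (EtOver.mk a₀ hae).property.1.snd a₀ = r2 ≫ π := by
      rw [hℓ]; exact Functor.relativelyRepresentable.lift'_snd _ _ _ _
    have g1 := gres_map s (EtOver.prodFst (EtOver.mk a₀ hae) (EtOver.mk a₀ hae))
    have g2 := gres_map s (EtOver.prodSnd (EtOver.mk a₀ hae) (EtOver.mk a₀ hae))
    have e1 : (r1 ≫ π).left.appTop.hom b₀ = (r2 ≫ π).left.appTop.hom b₀ := by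
      rw [← hℓ1, ← hℓ2, hcomp, hcomp, hb₀]
      exact congrArg _ (g2.trans g1.symm)
    have e2 : r1 ≫ h1 = r2 ≫ h1 := by
      apply (yon S).map_injective
      rw [Functor.map_comp, Functor.map_comp, ← hb2, ← Category.assoc, ← Category.assoc, hr]
    have hexp : ∀ r : R ⟶ Over.mk (p1 ≫ E₀.hom),
        (r.left.appTop.hom (lineF k₀.left b₀) : Γ(R.left, ⊤)) =
        (1 : Γ(R.left, ⊤)) -
          ((r ≫ π).left.appTop.hom b₀ : Γ(R.left, ⊤)) *
            ((r ≫ h1).left.appTop.hom (lineT V.left) : Γ(R.left, ⊤)) := by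
      intro r
      have h1' := congrArg (fun z => r.left.appTop.hom z) hF
      refine h1'.trans ((map_one_sub_mul r.left.appTop.hom _ _).trans ?_)
      rfl
    have e3 : (r1 ≫ h1).left.appTop.hom (lineT V.left) =
        (r2 ≫ h1).left.appTop.hom (lineT V.left) :=
      congrArg (fun t => t.left.appTop.hom (lineT V.left)) e2
    rw [hexp r1, hexp r2, e1, e3]
  have hC := isClosed_image_compl_basicOpen_of_saturated a1 ha1e ha1s (lineF k₀.left b₀) hsat
  have hcl : IsClosedMap (Points.map (pullback.snd f ((yon S).map q))) :=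
    huc (IsAlgSpace.yon_obj _) ((yon S).map q) _ _ sq0
  have h2 := hcl _ hC
  obtain ⟨e, he⟩ : ∃ e, e = Points.schemeHomeo (Over.mk (lineMap V.left ≫ V.hom)) := ⟨_, rfl⟩
  have key : ∀ c : ↥(pullback k₀.left (lineMap V.left)),
      Points.map (pullback.snd f ((yon S).map q)) (Points.ofPt a1 c) = e (p2 c) := by
    intro c
    rw [Points.map_ofPt, hb2, he, ← hh1l]
    have := ofPt_yon_map_comp h1 (𝟙 ((yon S).obj (Over.mk (lineMap V.left ≫ V.hom)))) c
    rw [Category.comp_id] at this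
    exact this
  rw [← hp2]
  have himg : p2 '' ((pullback k₀.left (lineMap V.left)).basicOpen (lineF k₀.left b₀) :
      Set ↥(pullback k₀.left (lineMap V.left)))ᶜ =
      e ⁻¹' (Points.map (pullback.snd f ((yon S).map q)) '' (Points.ofPt a1 ''
        ((pullback k₀.left (lineMap V.left)).basicOpen (lineF k₀.left b₀) :
          Set ↥(pullback k₀.left (lineMap V.left)))ᶜ)) := by
    ext z
    constructor
    · rintro ⟨c, hc, rfl⟩
      exact ⟨Points.ofPt a1 c, ⟨c, hc, rfl⟩, key c⟩
    · rintro ⟨_, ⟨c, hc, rfl⟩, hz⟩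
      exact ⟨c, hc, e.injective ((key c).symm.trans hz)⟩
  rw [himg]
  exact h2.preimage e.continuous

/-- Pullback of functions along a flat surjective morphism is injective. -/
theorem appTop_injective_of_flat_surjective {U V : Scheme.{u}} (k : U ⟶ V) [Flat k]
    [Surjective k] : Function.Injective k.appTop.hom := by
  rw [injective_iff_map_eq_zero]
  intro x hx
  refine TopCat.Presheaf.section_ext V.sheaf ⊤ x 0 fun v hv => ?_
  obtain ⟨w, rfl⟩ := k.surjective v
  have hinj : Function.Injective (k.stalkMap w).hom := by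
    algebraize [(k.stalkMap w).hom]
    have : Module.FaithfullyFlat (V.presheaf.stalk (k w)) (U.presheaf.stalk w) :=
      @Module.FaithfullyFlat.of_flat_of_isLocalHom _ _ _ _ _ _ _
        (Flat.stalkMap k w) (k.toLRSHom.prop w)
    exact ‹RingHom.FaithfullyFlat _›.injective
  apply hinj
  have h1 := Scheme.Hom.germ_stalkMap_apply k ⊤ w trivial x
  have h2 : k.app ⊤ x = 0 := hx
  rw [h2, map_zero] at h1
  have h3 : (k.stalkMap w).hom ((V.presheaf.germ ⊤ (k w) trivial).hom 0) = 0 := by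
    rw [map_zero, map_zero]
  exact h1.trans h3.symm

set_option backward.isDefEq.respectTransparency.types false in
/-- Restriction along a morphism of the small etale site of the value of a polynomial at a
global function. -/
theorem eval₂_map_etOver {V : Over S} {X : Sp S} (f : X ⟶ (yon S).obj V)
    (s : ↥(gsectEt (OEt X))) {W E : EtOver X} (φ : W ⟶ E) (p : Polynomial Γ(V.left, ⊤)) :
    φ.hom.left.left.appTop.hom
      (Polynomial.eval₂ ((yon S).preimage (E.obj.hom ≫ f)).left.appTop.hom (gres s E) p) =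
      Polynomial.eval₂ ((yon S).preimage (W.obj.hom ≫ f)).left.appTop.hom (gres s W) p := by
  rw [Polynomial.hom_eval₂, gres_map]
  have h1 : (yon S).preimage (W.obj.hom ≫ f) =
      φ.hom.left ≫ (yon S).preimage (E.obj.hom ≫ f) := by
    apply (yon S).map_injective
    rw [Functor.map_comp, Functor.map_preimage, Functor.map_preimage, ← Category.assoc,
      EtOver.w]
  have h2 : ((yon S).preimage (W.obj.hom ≫ f)).left.appTop.hom =
      (φ.hom.left.left.appTop.hom).comp ((yon S).preimage (E.obj.hom ≫ f)).left.appTop.hom := by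
    rw [h1, Over.comp_left, Scheme.Hom.comp_appTop, CommRingCat.hom_comp]
  rw [h2]

set_option backward.isDefEq.respectTransparency.types false in
/-- A global function on an algebraic space quasi-compact and universally closed over an affine
scheme is integral over the functions of the base. -/
theorem exists_monic_gsect {V : Over S} [IsAffine V.left] (X : Space S)
    (f : X.obj ⟶ (yon S).obj V) (hqc : IsQuasiCompactMor f) (huc : IsUnivClosedMor f)
    (s : ↥(gsectEt (OEt X.obj))) :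
    ∃ p : Polynomial Γ(V.left, ⊤), p.Monic ∧ ∀ E : EtOver X.obj,
      Polynomial.eval₂ ((yon S).preimage (E.obj.hom ≫ f)).left.appTop.hom (gres s E) p = 0 := by
  have hXqc : IsQuasiCompactSp X.obj :=
    hqc (IsAlgSpace.yon_obj V) ((isQuasiCompactSp_yon_iff V).2 inferInstance) (𝟙 _) (𝟙 _) f
      (IsPullback.id_vert f).flip
  obtain ⟨E₀, a₀, hE₀, hae, has⟩ := isQuasiCompactSp_iff_exists_affine_chart.1 hXqc
  obtain ⟨k₀, hk₀⟩ : ∃ k₀, k₀ = (yon S).preimage (a₀ ≫ f) := ⟨_, rfl⟩
  have hk₀' : a₀ ≫ f = (yon S).map k₀ := by rw [hk₀, Functor.map_preimage]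
  have hcl := isClosed_image_lineF f huc s a₀ hae has k₀ hk₀'
  obtain ⟨p, hp, hp0⟩ := exists_monic_of_isClosed_image k₀.left (gres s (EtOver.mk a₀ hae)) hcl
  refine ⟨p, hp, fun E => ?_⟩
  have hsurj : Surjective (EtOver.prodFst E (EtOver.mk a₀ hae)).hom.left.left :=
    has.property E.obj.hom _ _ (hae.rep.isPullback E.obj.hom)
  have het : Etale (EtOver.prodFst E (EtOver.mk a₀ hae)).hom.left.left :=
    hae.property_snd E.obj.hom
  apply appTop_injective_of_flat_surjective (EtOver.prodFst E (EtOver.mk a₀ hae)).hom.left.left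
  rw [eval₂_map_etOver f s (EtOver.prodFst E (EtOver.mk a₀ hae)) p, map_zero,
    ← eval₂_map_etOver f s (EtOver.prodSnd E (EtOver.mk a₀ hae)) p]
  have h0 : Polynomial.eval₂ ((yon S).preimage ((EtOver.mk a₀ hae).obj.hom ≫ f)).left.appTop.hom
      (gres s (EtOver.mk a₀ hae)) p = 0 := by
    rw [hk₀] at hp0
    exact hp0
  rw [h0, map_zero]

end Groth.Agent.Lib.Helper14.AS
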