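import Groth.Agent.Lib.Helper14.AlgSpSubsheaf
import Groth.Agent.Lib.Helper24.RepLocal
import Groth.Agent.Lib.Helper25.ImmDescent

/-!
# Invariant locally closed subschemes of an atlas descend (helper14)
-/

universe u
open CategoryTheory CategoryTheory.Limits AlgebraicGeometry Opposite Topology

namespace Groth.Agent.Lib.Helper14.AS

open AlgSp Groth.Agent.Lib.Helper14.AS

variable {S : Scheme.{u}}

/-- The subsheaf of `Y` of points whose pullback to the chart `p : h_U ⟶ Y` lies in the
subscheme `c : W ⟶ U`. -/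
noncomputable def invPred {Y : Sp S} {U W : Over S} (p : (yon S).obj U ⟶ Y) (c : W ⟶ U) [Mono c] :
    SubPred Y where
  P T g := ∀ (T' : Over S) (t : T' ⟶ T) (v : T' ⟶ U),
    (yon S).map t ≫ g = (yon S).map v ≫ p → ∃ l : T' ⟶ W, l ≫ c = v
  comp T T' s g h T'' t v hv := h T'' (t ≫ s) v (by rw [Functor.map_comp, Category.assoc, hv])
  loc T g R hR h T' t v hv := by
    have hmono : Mono ((yon S).map c) := inferInstance
    obtain ⟨k, hk⟩ := exists_lift_of_locally ((yon S).map c) ((yon S).map v) (F := (yon S).obj T')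
      (fun T'' x => by
        obtain ⟨x₀, rfl⟩ := (yon S).map_surjective x
        refine ⟨Sieve.pullback (x₀ ≫ t) (Sieve.generate R),
          (AlgSp.J S).pullback_stable _ ((mem_J_iff _).2 ⟨R, hR, Sieve.le_generate R⟩), ?_⟩
        rintro W' w ⟨W'', a, r, hr, har⟩
        obtain ⟨l, hl⟩ := h r hr W' a (w ≫ x₀ ≫ v) (by
          rw [← Functor.map_comp_assoc, har]
          simp only [Functor.map_comp, Category.assoc]
          rw [hv])
        exact ⟨(yon S).map l, by
          rw [← Functor.map_comp, hl, Functor.map_comp, Functor.map_comp]⟩)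
    obtain ⟨l, rfl⟩ := (yon S).map_surjective k
    exact ⟨l, (yon S).map_injective (by rw [Functor.map_comp, hk])⟩

/-- On the chart itself, the predicate says that the point lies in the invariant subscheme. -/
theorem invPred_iff {Y : Sp S} {R U W : Over S} (s t : R ⟶ U) (p : (yon S).obj U ⟶ Y)
    (hpb : IsPullback ((yon S).map t) ((yon S).map s) p p) (c : W ⟶ U) [Mono c]
    (hinv : ∀ ⦃T : Over S⦄ (r : T ⟶ R), (∃ l : T ⟶ W, l ≫ c = r ≫ s) → ∃ l : T ⟶ W, l ≫ c = r ≫ t)
    {T : Over S} (t₀ : T ⟶ U) :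
    (invPred p c).P ((yon S).map t₀ ≫ p) ↔ ∃ l : T ⟶ W, l ≫ c = t₀ := by
  constructor
  · intro h
    exact h T (𝟙 T) t₀ (by rw [CategoryTheory.Functor.map_id, Category.id_comp])
  · rintro ⟨l, hl⟩ T' t' v hv
    obtain ⟨r', hr1, hr2⟩ : ∃ r' : (yon S).obj T' ⟶ (yon S).obj R,
        r' ≫ (yon S).map t = (yon S).map v ∧ r' ≫ (yon S).map s = (yon S).map (t' ≫ t₀) :=
      ⟨hpb.lift ((yon S).map v) ((yon S).map (t' ≫ t₀)) (by rw [Functor.map_comp, Category.assoc, hv]),
        hpb.lift_fst _ _ _, hpb.lift_snd _ _ _⟩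
    obtain ⟨r, rfl⟩ := (yon S).map_surjective r'
    have h1 : r ≫ t = v := (yon S).map_injective (by rw [Functor.map_comp, hr1])
    have h2 : r ≫ s = t' ≫ t₀ := (yon S).map_injective (by rw [Functor.map_comp, hr2])
    obtain ⟨l', hl'⟩ := hinv r ⟨t' ≫ l, by rw [Category.assoc, hl, h2]⟩
    exact ⟨l', by rw [hl', h1]⟩

set_option backward.isDefEq.respectTransparency.types false in
/-- An invariant subscheme of an atlas, whose inclusion has a property `P` descending along fppf
covers, descends to a subspace with the same property. -/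
theorem repWith_invPred (P : MorphismProperty Scheme.{u}) [IsZariskiLocalAtTarget P]
    [P.IsStableUnderBaseChange]
    [P.DescendsAlong (@Surjective ⊓ @Flat ⊓ @LocallyOfFinitePresentation)]
    (hP : ∀ ⦃X Y : Scheme.{u}⦄ (f : X ⟶ Y), P f →
      IsSeparated f ∧ LocallyQuasiFinite f ∧ LocallyOfFiniteType f)
    {Y : Sp S} {R U W : Over S} (s t : R ⟶ U) (p : (yon S).obj U ⟶ Y)
    (hpe : RepWith @Etale p) (hps : RepWith @Surjective p)
    (hpb : IsPullback ((yon S).map t) ((yon S).map s) p p) (c : W ⟶ U) [Mono c]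
    (hinv : ∀ ⦃T : Over S⦄ (r : T ⟶ R), (∃ l : T ⟶ W, l ≫ c = r ≫ s) → ∃ l : T ⟶ W, l ≫ c = r ≫ t)
    (hc : P c.left) : RepWith P (invPred p c).ι := by
  refine Groth.Agent.Lib.Helper24.RepLocal.repWith_of_locally P hP _ ?_
  intro T g₀ x
  let pK := hpe.rep.snd g₀
  let qP := hpe.rep.fst' g₀
  have sqP : IsPullback ((yon S).map qP) ((yon S).map pK) p g₀ := hpe.rep.isPullback' g₀
  have hpKet : Etale pK.left := hpe.property_snd g₀
  have hpKsurj : Surjective pK.left := hps.property _ _ _ sqP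
  have sqc := IsPullback.of_hasPullback c qP
  have hc' : P (pullback.snd c qP).left :=
    MorphismProperty.of_isPullback (P := P) (sqc.map (Over.forget S)) hc
  obtain ⟨fst, sq⟩ := (invPred p c).exists_isPullback ((yon S).map pK ≫ g₀)
    (pullback.snd c qP) (fun T' t' => by
      rw [← sqP.w, ← Category.assoc, ← Functor.map_comp, invPred_iff s t p hpb c hinv (t' ≫ qP)]
      constructor
      · rintro ⟨l, hl⟩
        exact ⟨pullback.lift l t' hl, pullback.lift_snd _ _ _⟩
      · rintro ⟨w', rfl⟩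
        exact ⟨w' ≫ pullback.fst _ _, by rw [Category.assoc, pullback.condition, Category.assoc]⟩)
  exact ⟨_, _, pK, _, fst, sq, inferInstance, inferInstance, hpKsurj.surj x, hc'⟩

end Groth.Agent.Lib.Helper14.AS
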