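import Mathlib
import Groth.Prelude.Def_ega3

set_option autoImplicit false
universe u
open AlgebraicGeometry CategoryTheory CategoryTheory.Limits TopologicalSpace Opposite

namespace Groth.Agent.Lib.Helper14.IsoLocus

lemma isPullback_overPullback_map {S S' : Scheme.{u}} (h : S' ⟶ S) {X Y : Over S} (f : X ⟶ Y) :
    IsPullback ((Over.pullback h).map f).left (pullback.fst X.hom h) (pullback.fst Y.hom h)
      f.left := by
  refine IsPullback.of_right (h₁₂ := pullback.snd Y.hom h) (h₂₂ := Y.hom) (v₁₃ := h) ?_ ?_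
    (IsPullback.of_hasPullback Y.hom h).flip
  · have e1 : ((Over.pullback h).map f).left ≫ pullback.snd Y.hom h = pullback.snd X.hom h :=
      Over.w ((Over.pullback h).map f)
    have e2 : f.left ≫ Y.hom = X.hom := Over.w f
    rw [e1, e2]
    exact (IsPullback.of_hasPullback X.hom h).flip
  · exact pullback.lift_fst _ _ _

lemma isIso_of_isPullback_of_range_subset {X Y T X' : Scheme.{u}} (f : X ⟶ Y) (W : Y.Opens)
    [IsIso (f ∣_ W)] (g : T ⟶ Y) (hg : Set.range g ⊆ W) (f' : X' ⟶ T) (g' : X' ⟶ X)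
    (H : IsPullback f' g' g f) : IsIso f' := by
  let g₀ : T ⟶ W.toScheme := IsOpenImmersion.lift W.ι g (by
    rw [Scheme.Opens.range_ι]
    exact hg)
  have hg₀ : g₀ ≫ W.ι = g := IsOpenImmersion.lift_fac _ _ _
  have Hr := isPullback_morphismRestrict f W
  let g'₀ : X' ⟶ (f ⁻¹ᵁ W).toScheme := Hr.lift (f' ≫ g₀) g' (by rw [Category.assoc, hg₀, H.w])
  have h1 : g'₀ ≫ (f ∣_ W) = f' ≫ g₀ := Hr.lift_fst _ _ _
  have h2 : g'₀ ≫ (f ⁻¹ᵁ W).ι = g' := Hr.lift_snd _ _ _
  have Ht : IsPullback f' g'₀ g₀ (f ∣_ W) := by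
    refine IsPullback.of_bot (v₂₁ := (f ⁻¹ᵁ W).ι) (v₂₂ := W.ι) (h₃₁ := f) ?_ h1.symm Hr
    rw [h2, hg₀]
    exact H
  exact Ht.isIso_fst_of_isIso

end Groth.Agent.Lib.Helper14.IsoLocus

namespace Groth.Agent.Lib.Helper14.IsoLocus

lemma isPullback_fiberMapOver {X Y Z : Scheme.{u}} (f : X ⟶ Y) (g : X ⟶ Z) (h : Y ⟶ Z)
    (w : f ≫ h = g) (z : Z) :
    IsPullback (CohIII.fiberMapOver f g h w z) (g.fiberι z) (h.fiberι z) f := by
  have e1 : CohIII.fiberMapOver f g h w z ≫ h.fiberToSpecResidueField z =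
      g.fiberToSpecResidueField z :=
    (pullback.lift_snd _ _ _).trans (Category.comp_id _)
  have e2 : CohIII.fiberMapOver f g h w z ≫ h.fiberι z = g.fiberι z ≫ f :=
    pullback.lift_fst _ _ _
  have Hh : IsPullback (h.fiberToSpecResidueField z) (h.fiberι z) (Z.fromSpecResidueField z) h :=
    (IsPullback.of_hasPullback h (Z.fromSpecResidueField z)).flip
  have Hg : IsPullback (g.fiberToSpecResidueField z) (g.fiberι z) (Z.fromSpecResidueField z) g :=
    (IsPullback.of_hasPullback g (Z.fromSpecResidueField z)).flip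
  refine IsPullback.of_right (h₁₂ := h.fiberToSpecResidueField z) (h₂₂ := h)
    (v₁₃ := Z.fromSpecResidueField z) ?_ e2 Hh
  rw [e1, w]
  exact Hg

end Groth.Agent.Lib.Helper14.IsoLocus
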