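import Mathlib
import Groth.Prelude.Def_ega3
import Groth.Agent.Lib.Helper14.IsoLocus1
import Groth.Agent.Lib.Helper14.FibIso5

set_option autoImplicit false
universe u
open AlgebraicGeometry CategoryTheory CategoryTheory.Limits TopologicalSpace Opposite

namespace Groth.Agent.Lib.Helper14.IsoLocus

theorem exists_nhd_isIso {X Y Z : Scheme.{u}} (f : X ⟶ Y) (g : X ⟶ Z) (h : Y ⟶ Z) (w : f ≫ h = g)
    [IsLocallyNoetherian Z] [IsProper g] [IsProper h] [Flat g] (z : Z)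
    [IsIso (CohIII.fiberMapOver f g h w z)] :
    ∃ U : Z.Opens, z ∈ U ∧ IsIso (f ∣_ (h ⁻¹ᵁ U)) := by
  subst w
  exact Groth.Agent.Lib.Helper14.FibIso.main f h z

theorem isIso_fiberMapOver_of_mem {X Y Z : Scheme.{u}} (f : X ⟶ Y) (g : X ⟶ Z) (h : Y ⟶ Z)
    (w : f ≫ h = g) (U : Z.Opens) [IsIso (f ∣_ (h ⁻¹ᵁ U))] (z : Z) (hz : z ∈ U) :
    IsIso (CohIII.fiberMapOver f g h w z) := by
  refine isIso_of_isPullback_of_range_subset f (h ⁻¹ᵁ U) (h.fiberι z) ?_ _ _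
    (isPullback_fiberMapOver f g h w z)
  rw [Scheme.Hom.range_fiberι]
  intro y hy
  change h y ∈ U
  rw [hy]
  exact hz

theorem isOpen_isoLocus {X Y Z : Scheme.{u}} (f : X ⟶ Y) (g : X ⟶ Z) (h : Y ⟶ Z) (w : f ≫ h = g)
    [IsLocallyNoetherian Z] [IsProper g] [IsProper h] [Flat g] :
    IsOpen {z : Z | IsIso (CohIII.fiberMapOver f g h w z)} := by
  rw [isOpen_iff_forall_mem_open]
  intro z hz
  haveI : IsIso (CohIII.fiberMapOver f g h w z) := hz
  obtain ⟨U, hzU, hU⟩ := exists_nhd_isIso f g h w z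
  exact ⟨U, fun z' hz' => isIso_fiberMapOver_of_mem f g h w U z' hz', U.2, hzU⟩

end Groth.Agent.Lib.Helper14.IsoLocus
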