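import Mathlib
import Groth.Prelude.Def_ega3
import Groth.Agent.Lib.Helper14.IsoLocus2

set_option autoImplicit false
universe u
open AlgebraicGeometry CategoryTheory CategoryTheory.Limits TopologicalSpace Opposite

namespace Groth.Agent.Lib.Helper14.IsoLocus

theorem isIso_baseChange_of_forall {S S' : Scheme.{u}} [IsLocallyNoetherian S] (X Y : Over S)
    [IsProper X.hom] [IsProper Y.hom] [Flat X.hom] (f : X ⟶ Y) (h : S' ⟶ S)
    (hr : ∀ t : S', IsIso (CohIII.fiberMapOver f.left X.hom Y.hom (Over.w f) (h t))) :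
    IsIso ((Over.pullback h).map f).left := by
  change MorphismProperty.isomorphisms Scheme ((Over.pullback h).map f).left
  refine IsZariskiLocalAtTarget.of_forall_exists_morphismRestrict
    (P := MorphismProperty.isomorphisms Scheme) fun y' => ?_
  haveI := hr ((pullback.snd Y.hom h) y')
  obtain ⟨U, hsU, hU⟩ := exists_nhd_isIso f.left X.hom Y.hom (Over.w f)
    (h ((pullback.snd Y.hom h) y'))
  refine ⟨(pullback.fst Y.hom h) ⁻¹ᵁ (Y.hom ⁻¹ᵁ U), ?_, ?_⟩
  · change Y.hom ((pullback.fst Y.hom h) y') ∈ U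
    rw [← Scheme.Hom.comp_apply, pullback.condition, Scheme.Hom.comp_apply]
    exact hsU
  · change IsIso _
    have H1 := isPullback_morphismRestrict ((Over.pullback h).map f).left
      ((pullback.fst Y.hom h) ⁻¹ᵁ (Y.hom ⁻¹ᵁ U))
    have H2 := isPullback_overPullback_map h f
    have H := H1.paste_vert H2
    refine isIso_of_isPullback_of_range_subset f.left (Y.hom ⁻¹ᵁ U) _ ?_ _ _ H
    rintro _ ⟨w, rfl⟩
    rw [Scheme.Hom.comp_apply]
    exact w.2

end Groth.Agent.Lib.Helper14.IsoLocus
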