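import Mathlib
import Groth.Prelude.Def_ega3
import Groth.Agent.Lib.Helper14.IsoLocus2

set_option autoImplicit false
universe u
open AlgebraicGeometry CategoryTheory CategoryTheory.Limits TopologicalSpace Opposite

namespace Groth.Agent.Lib.Helper14.IsoLocus

/-- `Spec` of a field extension is an fpqc cover. -/
lemma fpqc_SpecMap_field {K L : Type u} [Field K] [Field L] (φ : K →+* L) :
    (@Surjective ⊓ @Flat ⊓ @QuasiCompact : MorphismProperty Scheme.{u})
      (Spec.map (CommRingCat.ofHom φ)) := by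
  refine ⟨⟨?_, ?_⟩, inferInstance⟩
  · refine ⟨fun y => ?_⟩
    have h1 : Nonempty (PrimeSpectrum L) := inferInstance
    have h2 : Subsingleton (PrimeSpectrum K) := inferInstance
    obtain ⟨x⟩ := h1
    exact ⟨x, h2.elim _ _⟩
  · rw [Flat.SpecMap_iff]
    letI := φ.toAlgebra
    exact (inferInstance : Module.Flat K L)

end Groth.Agent.Lib.Helper14.IsoLocus

namespace Groth.Agent.Lib.Helper14.IsoLocus

lemma exists_isPullback_of_factor {X Y X₁ Y₁ X₂ Y₂ : Scheme.{u}} (f : X ⟶ Y)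
    (f₁ : X₁ ⟶ Y₁) (p₁ : X₁ ⟶ X) (q₁ : Y₁ ⟶ Y) (H₁ : IsPullback f₁ p₁ q₁ f)
    (f₂ : X₂ ⟶ Y₂) (p₂ : X₂ ⟶ X) (q₂ : Y₂ ⟶ Y) (H₂ : IsPullback f₂ p₂ q₂ f)
    (v : Y₁ ⟶ Y₂) (hv : v ≫ q₂ = q₁) : ∃ vX : X₁ ⟶ X₂, IsPullback f₁ vX v f₂ := by
  let vX : X₁ ⟶ X₂ := H₂.lift (f₁ ≫ v) p₁ (by rw [Category.assoc, hv, H₁.w])
  have h1 : vX ≫ f₂ = f₁ ≫ v := H₂.lift_fst _ _ _
  have h2 : vX ≫ p₂ = p₁ := H₂.lift_snd _ _ _
  refine ⟨vX, IsPullback.of_bot (v₂₁ := p₂) (v₂₂ := q₂) (h₃₁ := f) ?_ h1.symm H₂⟩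
  rw [h2, hv]
  exact H₁

theorem isIso_fiberMapOver_of_isIso_baseChange {S S' : Scheme.{u}} (X Y : Over S) (f : X ⟶ Y)
    (h : S' ⟶ S) [IsIso ((Over.pullback h).map f).left] (t : S') :
    IsIso (CohIII.fiberMapOver f.left X.hom Y.hom (Over.w f) (h t)) := by
  obtain ⟨b, hb⟩ : ∃ b : Spec (S'.residueField t) ⟶ S, b = S'.fromSpecResidueField t ≫ h := ⟨_, rfl⟩
  have hb' : b = Spec.map (h.residueFieldMap t) ≫ S.fromSpecResidueField (h t) := by
    rw [hb, Scheme.Hom.SpecMap_residueFieldMap_fromSpecResidueField]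
  have H_b := isPullback_overPullback_map b f
  have H_h := isPullback_overPullback_map h f
  have H_s := isPullback_fiberMapOver f.left X.hom Y.hom (Over.w f) (h t)
  -- `f_b` is an isomorphism
  let u : pullback Y.hom b ⟶ pullback Y.hom h :=
    pullback.lift (pullback.fst Y.hom b) (pullback.snd Y.hom b ≫ S'.fromSpecResidueField t)
      (by rw [pullback.condition, Category.assoc, hb])
  obtain ⟨uX, Hu⟩ := exists_isPullback_of_factor f.left _ _ _ H_b _ _ _ H_h u
    (pullback.lift_fst _ _ _)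
  haveI : IsIso ((Over.pullback b).map f).left := Hu.isIso_fst_of_isIso
  -- descent
  let v : pullback Y.hom b ⟶ Y.hom.fiber (h t) :=
    pullback.lift (pullback.fst Y.hom b) (pullback.snd Y.hom b ≫ Spec.map (h.residueFieldMap t))
      (by rw [pullback.condition, Category.assoc, hb'])
  obtain ⟨vX, Hv⟩ := exists_isPullback_of_factor f.left _ _ _ H_b _ _ _ H_s v
    (pullback.lift_fst _ _ _)
  have Hc : IsPullback v (pullback.snd Y.hom b) (Y.hom.fiberToSpecResidueField (h t))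
      (Spec.map (h.residueFieldMap t)) := by
    refine IsPullback.of_right (h₁₂ := Y.hom.fiberι (h t)) (h₂₂ := S.fromSpecResidueField (h t))
      (v₁₃ := Y.hom) ?_ (pullback.lift_snd _ _ _)
      (IsPullback.of_hasPullback Y.hom (S.fromSpecResidueField (h t)))
    have e1 : v ≫ Y.hom.fiberι (h t) = pullback.fst Y.hom b := pullback.lift_fst _ _ _
    rw [e1, ← hb']
    exact IsPullback.of_hasPullback Y.hom b
  have hQ : (@Surjective ⊓ @Flat ⊓ @QuasiCompact : MorphismProperty Scheme.{u}) v :=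
    MorphismProperty.of_isPullback Hc.flip (fpqc_SpecMap_field (h.residueFieldMap t).hom)
  exact MorphismProperty.of_isPullback_of_descendsAlong
    (P := MorphismProperty.isomorphisms Scheme.{u})
    (Q := (@Surjective ⊓ @Flat ⊓ @QuasiCompact : MorphismProperty Scheme.{u})) Hv hQ
    (inferInstance : IsIso ((Over.pullback b).map f).left)

end Groth.Agent.Lib.Helper14.IsoLocus
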