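import Mathlib

/-!
# Jouanolou's trick: the algebra (helper14)
-/

universe u
open CategoryTheory CategoryTheory.Limits MvPolynomial

namespace Groth.Agent.Lib.Helper14.Jouan

section Alg
variable {A R : Type u} [CommRing A] [CommRing R] (φ : A →+* R) {σ : Type u} [Fintype σ]
  (f : σ → A) (c : σ → R)

/-- the relation `∑ f_i x_i - 1`. -/
noncomputable def rel : MvPolynomial (Option σ) A := ∑ i, C (f i) * X (some i) - 1

/-- The Jouanolou ring `A[x_i, t]/(∑ f_i x_i - 1)`. -/
abbrev B : Type u := MvPolynomial (Option σ) A ⧸ Ideal.span {rel f}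

noncomputable def xx (i : σ) : B f := Ideal.Quotient.mk _ (X (some i))
noncomputable def tt : B f := Ideal.Quotient.mk _ (X none)

theorem algebraMap_B (a : A) : algebraMap A (B f) a = Ideal.Quotient.mk _ (C a) := rfl

theorem sum_f_xx : ∑ i, algebraMap A (B f) (f i) * xx f i = 1 := by
  have : Ideal.Quotient.mk (Ideal.span {rel f}) (∑ i, C (f i) * X (some i) - 1) = 0 :=
    Ideal.Quotient.eq_zero_iff_mem.2 (Ideal.subset_span rfl)
  rw [map_sub, map_sum, map_one, sub_eq_zero] at this
  rw [← this]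
  apply Finset.sum_congr rfl
  intro i _
  rw [map_mul]
  rfl

noncomputable def ry : MvPolynomial σ R := ∑ j, C (φ (f j)) * X j

noncomputable def ψ₀ : MvPolynomial (Option σ) A →+* MvPolynomial σ R :=
  eval₂Hom (C.comp φ) (fun o => Option.elim o (ry φ f) (fun i => X i + (1 - ry φ f) * C (c i)))

theorem ψ₀_rel (hc : ∑ i, c i * φ (f i) = 1) : ψ₀ φ f c (rel f) = 0 := by
  have h1 : ∑ i, C (φ (f i)) * (X i + (1 - ry φ f) * C (c i)) =
      ry φ f + (1 - ry φ f) * C (∑ i, c i * φ (f i)) := by
    simp only [mul_add, Finset.sum_add_distrib, map_sum, map_mul, Finset.mul_sum]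
    congr 1
    apply Finset.sum_congr rfl
    intro i _
    ring
  simp only [rel, ψ₀, map_sub, map_sum, map_mul, eval₂Hom_C, eval₂Hom_X', map_one, Option.elim,
    RingHom.comp_apply]
  rw [h1, hc, map_one]
  ring

noncomputable def ψ (hc : ∑ i, c i * φ (f i) = 1) : B f →+* MvPolynomial σ R :=
  Ideal.Quotient.lift _ (ψ₀ φ f c) (fun a ha => by
    have : Ideal.span {rel f} ≤ RingHom.ker (ψ₀ φ f c) :=
      (Ideal.span_singleton_le_iff_mem _).2 (ψ₀_rel φ f c hc)
    exact this ha)

variable (hc : ∑ i, c i * φ (f i) = 1)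

theorem ψ_algebraMap (a : A) : ψ φ f c hc (algebraMap A (B f) a) = C (φ a) := by
  simp [ψ, algebraMap_B, ψ₀]

theorem ψ_tt : ψ φ f c hc (tt f) = ry φ f := by
  simp [ψ, tt, ψ₀]

theorem ψ_xx (i : σ) : ψ φ f c hc (xx f i) = X i + (1 - ry φ f) * C (c i) := by
  simp [ψ, xx, ψ₀]

theorem X_eq (i : σ) :
    (X i : MvPolynomial σ R) = ψ φ f c hc (xx f i) - C (c i) + ψ φ f c hc (tt f) * C (c i) := by
  rw [ψ_tt, ψ_xx]
  ring

/-- The descent map. -/
noncomputable def desc {D : Type u} [CommRing D] (α : R →+* D) (β : B f →+* D) :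
    MvPolynomial σ R →+* D :=
  eval₂Hom α (fun i => β (xx f i) - α (c i) + β (tt f) * α (c i))

theorem desc_comp_C {D : Type u} [CommRing D] (α : R →+* D) (β : B f →+* D) :
    (desc f c α β).comp C = α := by
  ext r
  simp [desc]

include hc in
theorem desc_ry {D : Type u} [CommRing D] (α : R →+* D) (β : B f →+* D)
    (hαβ : α.comp φ = β.comp (algebraMap A (B f))) :
    desc f c α β (ry φ f) = β (tt f) := by
  have h1 : ∀ j, α (φ (f j)) = β (algebraMap A (B f) (f j)) := fun j =>
    congrArg (fun g : A →+* D => g (f j)) hαβ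
  have h2 : ∑ j, β (algebraMap A (B f) (f j)) * β (xx f j) = 1 := by
    simp only [← map_mul, ← map_sum, sum_f_xx, map_one]
  have h3 : ∑ j, α (φ (f j)) * α (c j) = 1 := by
    simp only [← map_mul, ← map_sum]
    rw [← map_one α, ← hc]
    congr 1
    apply Finset.sum_congr rfl
    intro i _
    ring
  simp only [ry, desc, map_sum, map_mul, eval₂Hom_C, eval₂Hom_X']
  calc ∑ j, α (φ (f j)) * (β (xx f j) - α (c j) + β (tt f) * α (c j))
      = ∑ j, β (algebraMap A (B f) (f j)) * β (xx f j) - ∑ j, α (φ (f j)) * α (c j)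
        + β (tt f) * ∑ j, α (φ (f j)) * α (c j) := by
        rw [Finset.mul_sum, ← Finset.sum_sub_distrib, ← Finset.sum_add_distrib]
        apply Finset.sum_congr rfl
        intro j _
        rw [← h1 j]
        ring
    _ = β (tt f) := by rw [h2, h3]; ring

theorem desc_comp_ψ {D : Type u} [CommRing D] (α : R →+* D) (β : B f →+* D)
    (hαβ : α.comp φ = β.comp (algebraMap A (B f))) :
    (desc f c α β).comp (ψ φ f c hc) = β := by
  apply Ideal.Quotient.ringHom_ext
  apply MvPolynomial.ringHom_ext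
  · intro a
    have h1 : α (φ a) = β (algebraMap A (B f) a) := congrArg (fun g : A →+* D => g a) hαβ
    change desc f c α β (ψ φ f c hc (algebraMap A (B f) a)) = β (algebraMap A (B f) a)
    rw [ψ_algebraMap, ← h1]
    simp [desc]
  · intro o
    cases o with
    | none =>
      change desc f c α β (ψ φ f c hc (tt f)) = β (tt f)
      rw [ψ_tt, desc_ry φ f c hc α β hαβ]
    | some i =>
      change desc f c α β (ψ φ f c hc (xx f i)) = β (xx f i)
      rw [ψ_xx, map_add, map_mul, map_sub, map_one, desc_ry φ f c hc α β hαβ]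
      simp only [desc, eval₂Hom_C, eval₂Hom_X']
      ring

theorem desc_unique {D : Type u} [CommRing D] (α : R →+* D) (β : B f →+* D)
    (δ : MvPolynomial σ R →+* D) (h1 : δ.comp C = α) (h2 : δ.comp (ψ φ f c hc) = β) :
    δ = desc f c α β := by
  apply MvPolynomial.ringHom_ext
  · intro r
    have := congrArg (fun g : R →+* D => g r) h1
    simpa [desc] using this
  · intro i
    have e1 : ∀ b, δ (ψ φ f c hc b) = β b := fun b =>
      congrArg (fun g : B f →+* D => g b) h2
    have e2 : ∀ r, δ (C r) = α r := fun r => congrArg (fun g : R →+* D => g r) h1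
    have e3 : desc f c α β (X i) = β (xx f i) - α (c i) + β (tt f) * α (c i) := by
      simp [desc]
    rw [e3]
    conv_lhs => rw [X_eq φ f c hc i]
    rw [map_add, map_sub, map_mul, e1, e1, e2]

end Alg

section Cat

variable {A R : CommRingCat.{u}} (φ : A ⟶ R) {σ : Type u} [Fintype σ]
  (f : σ → A) (c : σ → R) (hc : ∑ i, c i * φ.hom (f i) = 1)

theorem isPushout :
    IsPushout φ (CommRingCat.ofHom (algebraMap A (B f)))
      (CommRingCat.ofHom (C : R →+* MvPolynomial σ R))
      (CommRingCat.ofHom (ψ φ.hom f c hc)) := by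
  refine ⟨⟨?_⟩, ⟨PushoutCocone.IsColimit.mk _
    (fun s => CommRingCat.ofHom (desc f c s.inl.hom s.inr.hom)) ?_ ?_ ?_⟩⟩
  · apply CommRingCat.hom_ext
    apply RingHom.ext
    intro a
    exact (ψ_algebraMap φ.hom f c hc a).symm
  · intro s
    apply CommRingCat.hom_ext
    exact desc_comp_C f c s.inl.hom s.inr.hom
  · intro s
    have hαβ : s.inl.hom.comp φ.hom = s.inr.hom.comp (algebraMap A (B f)) := by
      have := s.condition
      exact congrArg CommRingCat.Hom.hom this
    apply CommRingCat.hom_ext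
    exact desc_comp_ψ φ.hom f c hc s.inl.hom s.inr.hom hαβ
  · intro s m hm1 hm2
    ext1
    apply desc_unique φ.hom f c hc
    · exact congrArg CommRingCat.Hom.hom hm1
    · exact congrArg CommRingCat.Hom.hom hm2

end Cat

end Groth.Agent.Lib.Helper14.Jouan
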