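import Groth.Agent.Lib.Helper14.Jouan1

/-!
# Jouanolou's trick: the geometry (helper14)
-/

universe u
open CategoryTheory CategoryTheory.Limits MvPolynomial AlgebraicGeometry

namespace Groth.Agent.Lib.Helper14.Jouan

theorem isPullback_of_comp_mono {C : Type*} [Category C] {P X Y W Z : C} {fst : P ⟶ X}
    {snd : P ⟶ Y} {f : X ⟶ W} {g : Y ⟶ W} (i : W ⟶ Z) [Mono i]
    (h : IsPullback fst snd (f ≫ i) (g ≫ i)) : IsPullback fst snd f g := by
  have w : fst ≫ f = snd ≫ g := by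
    rw [← cancel_mono i]
    simpa using h.w
  refine ⟨⟨w⟩, ⟨PullbackCone.IsLimit.mk w
    (fun s => h.lift s.fst s.snd (by rw [← Category.assoc, s.condition, Category.assoc]))
    (fun s => h.lift_fst _ _ _) (fun s => h.lift_snd _ _ _)
    (fun s m h1 h2 => h.hom_ext (by simpa using h1) (by simpa using h2))⟩⟩

set_option backward.isDefEq.respectTransparency.types false in
theorem main (X : Scheme.{u}) [X.IsQuasiAffine] :
    ∃ (n : ℕ) (T : Scheme.{u}) (_ : IsAffine T) (p : T ⟶ X),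
      ∀ (X' : Scheme.{u}) [IsAffine X'] (g : X' ⟶ X),
        ∃ e : Limits.pullback g p ≅ 𝔸(ULift.{u} (Fin n); X'),
          e.hom ≫ (𝔸(ULift.{u} (Fin n); X') ↘ X') = Limits.pullback.fst g p := by
  have hco : IsCompact (Set.range X.toSpecΓ) ∧ IsOpen (Set.range X.toSpecΓ) :=
    ⟨isCompact_range X.toSpecΓ.continuous, X.toSpecΓ.isOpenEmbedding.isOpen_range⟩
  obtain ⟨t, ht⟩ := PrimeSpectrum.isCompact_isOpen_iff.1 hco
  let m := t.card
  let σ := ULift.{u} (Fin m)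
  let e0 : σ ≃ t := Equiv.ulift.trans t.equivFin.symm
  let f : σ → Γ(X, ⊤) := fun i => ((e0 i : t) : Γ(X, ⊤))
  have hft : ∀ i, f i ∈ t := fun i => (e0 i).2
  have htf : ∀ a ∈ t, ∃ i, f i = a := fun a ha => ⟨e0.symm ⟨a, ha⟩, by simp [f]⟩
  let T := Spec (CommRingCat.of (B f))
  let αB : Γ(X, ⊤) ⟶ CommRingCat.of (B f) := CommRingCat.ofHom (algebraMap _ _)
  have hrange : Set.range (Spec.map αB) ⊆ Set.range X.toSpecΓ := by
    rintro _ ⟨q, rfl⟩
    rw [← ht]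
    intro (hsub : (t : Set Γ(X, ⊤)) ⊆ ((Spec.map αB) q).asIdeal)
    have h1 : (1 : B f) ∈ q.asIdeal := by
      rw [← sum_f_xx f]
      refine Ideal.sum_mem _ fun i _ => Ideal.mul_mem_right _ _ ?_
      exact hsub (hft i)
    exact q.isPrime.ne_top ((Ideal.eq_top_iff_one _).2 h1)
  let p : T ⟶ X := IsOpenImmersion.lift X.toSpecΓ (Spec.map αB) hrange
  have hp : p ≫ X.toSpecΓ = Spec.map αB := IsOpenImmersion.lift_fac _ _ _
  refine ⟨m, T, inferInstance, p, fun X' _ g => ?_⟩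
  let φ : Γ(X, ⊤) ⟶ Γ(X', ⊤) := g.appTop
  have hg : g ≫ X.toSpecΓ = X'.toSpecΓ ≫ Spec.map φ := Scheme.toSpecΓ_naturality g
  have hspan : Ideal.span (Set.range fun i => φ.hom (f i)) = ⊤ := by
    by_contra hne
    obtain ⟨M, hM, hle⟩ := Ideal.exists_le_maximal _ hne
    let pt : Spec Γ(X', ⊤) := ⟨M, hM.isPrime⟩
    let x' : X' := X'.isoSpec.inv pt
    have h1 : (g ≫ X.toSpecΓ) x' ∈ Set.range X.toSpecΓ := ⟨g x', rfl⟩
    rw [hg, ← ht] at h1
    refine h1 (?_ : (t : Set Γ(X, ⊤)) ⊆ ((X'.toSpecΓ ≫ Spec.map φ) x').asIdeal)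
    have h2 : X'.toSpecΓ x' = pt := by
      change (X'.isoSpec.inv ≫ X'.isoSpec.hom) pt = pt
      rw [Iso.inv_hom_id]
      rfl
    rw [Scheme.Hom.comp_apply, h2]
    intro a ha
    obtain ⟨i, rfl⟩ := htf a ha
    exact hle (Ideal.subset_span ⟨i, rfl⟩)
  obtain ⟨c, hc⟩ := Ideal.mem_span_range_iff_exists_fun.1
    (hspan ▸ Submodule.mem_top : (1 : Γ(X', ⊤)) ∈ Ideal.span (Set.range fun i => φ.hom (f i)))
  have po := isPushout φ f c hc
  have sqA := isPullback_SpecMap_of_isPushout _ _ _ _ po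
  have sqB : IsPullback (Spec.map (CommRingCat.ofHom (C : Γ(X', ⊤) →+* MvPolynomial σ Γ(X', ⊤))) ≫
      X'.isoSpec.inv) (Spec.map (CommRingCat.ofHom (ψ φ.hom f c hc))) (g ≫ X.toSpecΓ)
      (p ≫ X.toSpecΓ) := by
    refine IsPullback.of_iso sqA (Iso.refl _) X'.isoSpec.symm (Iso.refl _) (Iso.refl _)
      (by simp) (by simp) ?_ (by simp [hp, αB])
    rw [hg]
    change _ = X'.isoSpec.inv ≫ X'.isoSpec.hom ≫ _
    simp
  have sqC := isPullback_of_comp_mono X.toSpecΓ sqB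
  let e1 := AffineSpace.isoOfIsAffine σ X'
  refine ⟨(e1 ≪≫ sqC.isoPullback).symm, ?_⟩
  simp only [Iso.symm_hom, Iso.trans_inv, Category.assoc]
  rw [AffineSpace.isoOfIsAffine_inv_over]
  exact sqC.isoPullback_inv_fst

end Groth.Agent.Lib.Helper14.Jouan
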