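import Groth.Agent.Lib.Helper14.RLP1

universe u
open CategoryTheory CategoryTheory.Limits AlgebraicGeometry Opposite

namespace Groth.Agent.Lib.Helper14.AS
open AlgSp

variable {S : Scheme.{u}}

theorem psp_cone_apply (F : PSp S) {I : Type u} [SmallCategory I] (D : I ⥤ Over S) (c : Cone D)
    {j i : I} (φ : j ⟶ i) (t : F.obj (op (D.obj i))) :
    F.map (c.π.app j).op (F.map (D.map φ).op t) = F.map (c.π.app i).op t := by
  rw [← psp_map_comp_apply, Cone.w]

theorem rlpElem_comp {F G H : PSp S} (a : F ⟶ G) (b : G ⟶ H) (ha : RLPElem a)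
    (hb : RLPElem b) : RLPElem (a ≫ b) := by
  intro I _ _ D c hc hD hcA
  obtain ⟨A1, A2⟩ := ha D c hc hD hcA
  obtain ⟨B1, B2⟩ := hb D c hc hD hcA
  constructor
  · intro i z x hx
    obtain ⟨j, φ, yj, h1, h2⟩ := B1 i z (a.app _ x) hx
    obtain ⟨k, ψ, xk, h3, h4⟩ := A1 j yj x h1.symm
    refine ⟨k, ψ ≫ φ, xk, h3, ?_⟩
    change b.app _ (a.app _ xk) = _
    rw [h4, psp_nat_apply, h2, ← psp_map_comp_apply, ← D.map_comp]
  · intro i x x' hxx' hres
    have h1 : G.map (c.π.app i).op (a.app _ x) = G.map (c.π.app i).op (a.app _ x') := by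
      rw [← psp_nat_apply, ← psp_nat_apply, hres]
    obtain ⟨j, φ, hφ⟩ := B2 i (a.app _ x) (a.app _ x') hxx' h1
    rw [← psp_nat_apply, ← psp_nat_apply] at hφ
    have h2 : F.map (c.π.app j).op (F.map (D.map φ).op x) =
        F.map (c.π.app j).op (F.map (D.map φ).op x') := by
      rw [psp_cone_apply, psp_cone_apply, hres]
    obtain ⟨k, ψ, hψ⟩ := A2 j _ _ hφ h2
    refine ⟨k, ψ ≫ φ, ?_⟩
    rw [D.map_comp, psp_map_comp_apply, psp_map_comp_apply]
    exact hψ

theorem rlpElem_of_comp {F G H : PSp S} (a : F ⟶ G) (b : G ⟶ H) (hab : RLPElem (a ≫ b))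
    (hb : RLPElem b) : RLPElem a := by
  intro I _ _ D c hc hD hcA
  obtain ⟨A1, A2⟩ := hab D c hc hD hcA
  obtain ⟨B1, B2⟩ := hb D c hc hD hcA
  constructor
  · intro i y x hx
    have h0 : (a ≫ b).app _ x = H.map (c.π.app i).op (b.app _ y) := by
      change b.app _ (a.app _ x) = _
      rw [hx, psp_nat_apply]
    obtain ⟨j, φ, xj, h1, h2⟩ := A1 i (b.app _ y) x h0
    have h3 : b.app _ (a.app _ xj) = b.app _ (G.map (D.map φ).op y) := by
      rw [psp_nat_apply]
      exact h2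
    have h4 : G.map (c.π.app j).op (a.app _ xj) =
        G.map (c.π.app j).op (G.map (D.map φ).op y) := by
      rw [psp_cone_apply, ← psp_nat_apply, h1]
      exact hx
    obtain ⟨k, ψ, hψ⟩ := B2 j _ _ h3 h4
    refine ⟨k, ψ ≫ φ, F.map (D.map ψ).op xj, ?_, ?_⟩
    · rw [psp_cone_apply, h1]
    · rw [psp_nat_apply, hψ, D.map_comp, psp_map_comp_apply]
  · intro i x x' hxx' hres
    exact A2 i x x' (congrArg (b.app _) hxx') hres

/-- Objectwise description of a pullback square of presheaves. -/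
theorem psp_isPullback_app {F G H P : PSp S} {fst : P ⟶ F} {snd : P ⟶ H} {a : F ⟶ G} {b : H ⟶ G}
    (hP : IsPullback fst snd a b) (T : (Over S)ᵒᵖ) :
    IsPullback (fst.app T) (snd.app T) (a.app T) (b.app T) :=
  hP.map ((evaluation _ _).obj T)

theorem psp_pullback_ext {F G H P : PSp S} {fst : P ⟶ F} {snd : P ⟶ H} {a : F ⟶ G} {b : H ⟶ G}
    (hP : IsPullback fst snd a b) {T : (Over S)ᵒᵖ} (p p' : P.obj T)
    (h1 : fst.app T p = fst.app T p') (h2 : snd.app T p = snd.app T p') : p = p' :=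
  ((Types.isPullback_iff _ _ _ _).1 (psp_isPullback_app hP T)).2.1 p p' ⟨h1, h2⟩

theorem psp_pullback_exists {F G H P : PSp S} {fst : P ⟶ F} {snd : P ⟶ H} {a : F ⟶ G}
    {b : H ⟶ G} (hP : IsPullback fst snd a b) {T : (Over S)ᵒᵖ} (f : F.obj T) (h : H.obj T)
    (hfh : a.app T f = b.app T h) : ∃ p : P.obj T, fst.app T p = f ∧ snd.app T p = h :=
  ((Types.isPullback_iff _ _ _ _).1 (psp_isPullback_app hP T)).2.2 f h hfh

theorem psp_pullback_w_apply {F G H P : PSp S} {fst : P ⟶ F} {snd : P ⟶ H} {a : F ⟶ G}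
    {b : H ⟶ G} (hP : IsPullback fst snd a b) {T : (Over S)ᵒᵖ} (p : P.obj T) :
    a.app T (fst.app T p) = b.app T (snd.app T p) :=
  congrFun (congrArg (fun k => (ConcreteCategory.hom k : P.obj T → G.obj T))
    ((psp_isPullback_app hP T).w)) p

theorem rlpElem_baseChange {F G H P : PSp S} {fst : P ⟶ F} {snd : P ⟶ H} {a : F ⟶ G}
    {b : H ⟶ G} (hP : IsPullback fst snd a b) (hb : RLPElem b) : RLPElem fst := by
  intro I _ _ D c hc hD hcA
  obtain ⟨B1, B2⟩ := hb D c hc hD hcA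
  constructor
  · intro i f p hp
    have h0 : b.app _ (snd.app _ p) = G.map (c.π.app i).op (a.app _ f) := by
      rw [← psp_pullback_w_apply hP, hp, psp_nat_apply]
    obtain ⟨j, φ, hj, h1, h2⟩ := B1 i (a.app _ f) (snd.app _ p) h0
    obtain ⟨pj, hpj1, hpj2⟩ := psp_pullback_exists hP (F.map (D.map φ).op f) hj (by
      rw [psp_nat_apply, h2])
    refine ⟨j, φ, pj, ?_, hpj1⟩
    apply psp_pullback_ext hP
    · rw [psp_nat_apply, hpj1, psp_cone_apply]
      exact hp.symm
    · rw [psp_nat_apply, hpj2]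
      exact h1
  · intro i p p' hpp' hres
    have h1 : b.app _ (snd.app _ p) = b.app _ (snd.app _ p') := by
      rw [← psp_pullback_w_apply hP, ← psp_pullback_w_apply hP, hpp']
    have h2 : H.map (c.π.app i).op (snd.app _ p) = H.map (c.π.app i).op (snd.app _ p') := by
      rw [← psp_nat_apply, ← psp_nat_apply, hres]
    obtain ⟨j, φ, hφ⟩ := B2 i _ _ h1 h2
    refine ⟨j, φ, ?_⟩
    apply psp_pullback_ext hP
    · rw [psp_nat_apply, psp_nat_apply, hpp']
    · rw [psp_nat_apply, psp_nat_apply, hφ]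

section Sq
variable {F G : PSp S} (a : F ⟶ G) {I : Type u} [SmallCategory I]
  (D : I ⥤ Over S) (c : Cone D)

theorem colimMap_ι_apply (i : Iᵒᵖ) (x : F.obj (op (D.obj i.unop))) :
    colimMap (Functor.whiskerLeft D.op a) (colimit.ι (D.op ⋙ F) i x) =
      colimit.ι (D.op ⋙ G) i (a.app _ x) :=
  congrFun (congrArg (fun k => (ConcreteCategory.hom k : _ → _))
    (ι_colimMap (Functor.whiskerLeft D.op a) i)) x

theorem desc_ι_apply (F : PSp S) (i : Iᵒᵖ) (x : F.obj (op (D.obj i.unop))) :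
    colimit.desc (D.op ⋙ F) (F.mapCocone c.op) (colimit.ι (D.op ⋙ F) i x) =
      F.map (c.π.app i.unop).op x :=
  congrFun (congrArg (fun k => (ConcreteCategory.hom k : _ → _))
    (colimit.ι_desc (F.mapCocone c.op) i)) x

theorem sq_comm :
    colimMap (Functor.whiskerLeft D.op a) ≫ colimit.desc (D.op ⋙ G) (G.mapCocone c.op) =
      colimit.desc (D.op ⋙ F) (F.mapCocone c.op) ≫ a.app (op c.pt) := by
  apply colimit.hom_ext
  intro i
  rw [ι_colimMap_assoc, colimit.ι_desc, colimit.ι_desc_assoc]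
  exact (a.naturality (c.π.app i.unop).op).symm

theorem ι_map_apply (F : PSp S) {i j : I} (φ : j ⟶ i) (x : F.obj (op (D.obj i))) :
    colimit.ι (D.op ⋙ F) (op j) (F.map (D.map φ).op x) = colimit.ι (D.op ⋙ F) (op i) x :=
  congrFun (congrArg (fun k => (ConcreteCategory.hom k : _ → _))
    (colimit.w (D.op ⋙ F) φ.op)) x

variable [IsCofiltered I]

theorem isPullback_of_E
    (E1 : ∀ (i : I) (y : G.obj (op (D.obj i))) (x : F.obj (op c.pt)),
        a.app _ x = G.map (c.π.app i).op y →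
        ∃ (j : I) (φ : j ⟶ i) (xj : F.obj (op (D.obj j))),
          F.map (c.π.app j).op xj = x ∧ a.app _ xj = G.map (D.map φ).op y)
    (E2 : ∀ (i : I) (x x' : F.obj (op (D.obj i))), a.app _ x = a.app _ x' →
        F.map (c.π.app i).op x = F.map (c.π.app i).op x' →
        ∃ (j : I) (φ : j ⟶ i), F.map (D.map φ).op x = F.map (D.map φ).op x') :
    IsPullback (colimMap (Functor.whiskerLeft D.op a)) (colimit.desc (D.op ⋙ F) (F.mapCocone c.op))
      (colimit.desc (D.op ⋙ G) (G.mapCocone c.op)) (a.app (op c.pt)) := by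
  rw [Types.isPullback_iff]
  refine ⟨sq_comm a D c, ?_, ?_⟩
  · rintro x₁ y₁ ⟨ht, hl⟩
    obtain ⟨i, x, x', rfl, rfl⟩ :=
      Types.FilteredColimit.jointly_surjective_of_isColimit₂ (colimit.isColimit (D.op ⋙ F)) x₁ y₁
    change colimMap (Functor.whiskerLeft D.op a) (colimit.ι (D.op ⋙ F) i x) =
      colimMap (Functor.whiskerLeft D.op a) (colimit.ι (D.op ⋙ F) i x') at ht
    change colimit.desc (D.op ⋙ F) (F.mapCocone c.op) (colimit.ι (D.op ⋙ F) i x) =
      colimit.desc (D.op ⋙ F) (F.mapCocone c.op) (colimit.ι (D.op ⋙ F) i x') at hl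
    change colimit.ι (D.op ⋙ F) i x = colimit.ι (D.op ⋙ F) i x'
    rw [colimMap_ι_apply, colimMap_ι_apply] at ht
    rw [desc_ι_apply, desc_ι_apply] at hl
    obtain ⟨k, f, hf⟩ := (Types.FilteredColimit.isColimit_eq_iff' (colimit.isColimit (D.op ⋙ G))
      _ _).1 ht
    obtain ⟨i⟩ := i
    obtain ⟨k⟩ := k
    have hf' : G.map (D.map f.unop).op (a.app _ x) = G.map (D.map f.unop).op (a.app _ x') := hf
    rw [← psp_nat_apply, ← psp_nat_apply] at hf'
    have h2 : F.map (c.π.app k).op (F.map (D.map f.unop).op x) =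
        F.map (c.π.app k).op (F.map (D.map f.unop).op x') := by
      rw [← psp_map_comp_apply, ← psp_map_comp_apply, Cone.w]
      exact hl
    obtain ⟨j, φ, hφ⟩ := E2 k _ _ hf' h2
    rw [← ι_map_apply D F f.unop x, ← ι_map_apply D F f.unop x', ← ι_map_apply D F φ,
      ← ι_map_apply D F φ (F.map (D.map f.unop).op x'), hφ]
  · intro x₂ x₃ h
    obtain ⟨i, y, rfl⟩ := Types.jointly_surjective' x₂
    obtain ⟨i⟩ := i
    rw [desc_ι_apply] at h
    obtain ⟨j, φ, xj, h1, h2⟩ := E1 i y x₃ h.symm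
    refine ⟨colimit.ι (D.op ⋙ F) (op j) xj, ?_, ?_⟩
    · rw [colimMap_ι_apply]
      exact (congrArg _ h2).trans (ι_map_apply D G φ y)
    · rw [desc_ι_apply]
      exact h1

theorem E_of_isPullback
    (h : IsPullback (colimMap (Functor.whiskerLeft D.op a))
      (colimit.desc (D.op ⋙ F) (F.mapCocone c.op))
      (colimit.desc (D.op ⋙ G) (G.mapCocone c.op)) (a.app (op c.pt))) :
    (∀ (i : I) (y : G.obj (op (D.obj i))) (x : F.obj (op c.pt)),
        a.app _ x = G.map (c.π.app i).op y →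
        ∃ (j : I) (φ : j ⟶ i) (xj : F.obj (op (D.obj j))),
          F.map (c.π.app j).op xj = x ∧ a.app _ xj = G.map (D.map φ).op y) ∧
    (∀ (i : I) (x x' : F.obj (op (D.obj i))), a.app _ x = a.app _ x' →
        F.map (c.π.app i).op x = F.map (c.π.app i).op x' →
        ∃ (j : I) (φ : j ⟶ i), F.map (D.map φ).op x = F.map (D.map φ).op x') := by
  rw [Types.isPullback_iff] at h
  obtain ⟨-, hinj, hex⟩ := h
  constructor
  · intro i y x hx
    obtain ⟨x₁, h1, h2⟩ := hex (colimit.ι (D.op ⋙ G) (op i) y) x (by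
      rw [desc_ι_apply]
      exact hx.symm)
    obtain ⟨j, xj, rfl⟩ := Types.jointly_surjective' x₁
    obtain ⟨j⟩ := j
    rw [colimMap_ι_apply] at h1
    rw [desc_ι_apply] at h2
    obtain ⟨k, f, g, hfg⟩ := (Types.FilteredColimit.colimit_eq_iff (D.op ⋙ G)).1 h1
    obtain ⟨k⟩ := k
    have hfg' : G.map (D.map f.unop).op (a.app _ xj) = G.map (D.map g.unop).op y := hfg
    refine ⟨k, g.unop, F.map (D.map f.unop).op xj, ?_, ?_⟩
    · rw [← psp_map_comp_apply, Cone.w]
      exact h2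
    · rw [psp_nat_apply]
      exact hfg'
  · intro i x x' hxx' hres
    have := hinj (colimit.ι (D.op ⋙ F) (op i) x) (colimit.ι (D.op ⋙ F) (op i) x') ⟨by
      rw [colimMap_ι_apply, colimMap_ι_apply]
      exact congrArg _ hxx', by
      rw [desc_ι_apply, desc_ι_apply]
      exact hres⟩
    obtain ⟨k, f, hf⟩ := (Types.FilteredColimit.isColimit_eq_iff' (colimit.isColimit (D.op ⋙ F))
      _ _).1 this
    obtain ⟨k⟩ := k
    exact ⟨k, f.unop, hf⟩

end Sq

theorem rlpElem_iff_isPullback {F G : PSp S} (a : F ⟶ G) :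
    RLPElem a ↔
      ∀ ⦃I : Type u⦄ [SmallCategory I] [IsCofiltered I] (D : I ⥤ Over S) (c : Cone D),
        IsLimit ((Over.forget S).mapCone c) → (∀ i, IsAffine (D.obj i).left) → IsAffine c.pt.left →
          IsPullback (colimMap (Functor.whiskerLeft D.op a)) (colimit.desc (D.op ⋙ F) (F.mapCocone c.op))
            (colimit.desc (D.op ⋙ G) (G.mapCocone c.op)) (a.app (Opposite.op c.pt)) := by
  constructor
  · intro h I _ _ D c hc hD hcA
    obtain ⟨E1, E2⟩ := h D c hc hD hcA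
    exact isPullback_of_E a D c E1 E2
  · intro h I _ _ D c hc hD hcA
    exact E_of_isPullback a D c (h D c hc hD hcA)

end Groth.Agent.Lib.Helper14.AS
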