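import Groth.Prelude.Def_AlgSp4
import Groth.Agent.Lib.Helper14.AffChart
import Groth.Agent.Lib.Helper14.RLP2
universe u
open CategoryTheory CategoryTheory.Limits AlgebraicGeometry Opposite
namespace Groth.Agent.Lib.Helper14.AS
variable {S : Scheme.{u}}
open AlgSp

/-- elementwise form of limit preservation of a presheaf along a given system -/
def LPAt (F : PSp S) {J : Type u} [SmallCategory J] (G : J ⥤ Over S) (cG : Cone G) : Prop :=
  (∀ s : F.obj (op cG.pt), ∃ (k : J) (sk : F.obj (op (G.obj k))),
      F.map (cG.π.app k).op sk = s) ∧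
  (∀ (k : J) (s s' : F.obj (op (G.obj k))),
      F.map (cG.π.app k).op s = F.map (cG.π.app k).op s' →
      ∃ (k' : J) (φ : k' ⟶ k), F.map (G.map φ).op s = F.map (G.map φ).op s')

variable {J : Type u} [SmallCategory J] [IsCofiltered J]

theorem lpAt_of_isColimit (F : PSp S) (G : J ⥤ Over S) (cG : Cone G)
    (h : Nonempty (IsColimit (F.mapCocone cG.op))) : LPAt F G cG := by
  obtain ⟨hcol⟩ := h
  constructor
  · intro s
    obtain ⟨k, sk, hsk⟩ := Types.jointly_surjective_of_isColimit hcol s
    exact ⟨k.unop, sk, hsk⟩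
  · intro k s s' hss'
    obtain ⟨k', f, hf⟩ := (Types.FilteredColimit.isColimit_eq_iff' hcol (i := op k) s s').1 hss'
    exact ⟨k'.unop, f.unop, hf⟩

theorem isColimit_of_lpAt (F : PSp S) (G : J ⥤ Over S) (cG : Cone G) (h : LPAt F G cG) :
    Nonempty (IsColimit (F.mapCocone cG.op)) := by
  refine ⟨Types.FilteredColimit.isColimitOf _ _ ?_ ?_⟩
  · intro s
    obtain ⟨k, sk, hsk⟩ := h.1 s
    exact ⟨op k, sk, hsk.symm⟩
  · intro i j xi xj hij
    obtain ⟨i⟩ := i
    obtain ⟨j⟩ := j
    obtain ⟨l, α, β, -⟩ := IsCofilteredOrEmpty.cone_objs i j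
    have e1 : F.map (cG.π.app l).op (F.map (G.map α).op xi) =
        F.map (cG.π.app l).op (F.map (G.map β).op xj) := by
      rw [← psp_map_comp_apply, ← psp_map_comp_apply, Cone.w, Cone.w]
      exact hij
    obtain ⟨l', φ, hφ⟩ := h.2 l _ _ e1
    refine ⟨op l', (φ ≫ α).op, (φ ≫ β).op, ?_⟩
    change F.map (G.map (φ ≫ α)).op xi = F.map (G.map (φ ≫ β)).op xj
    rw [G.map_comp, G.map_comp, psp_map_comp_apply, psp_map_comp_apply]
    exact hφ

section Over

variable (F : PSp S) (U : Over S) (G : J ⥤ Over S) (cG : Cone G)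
  (t : ∀ k, G.obj k ⟶ U) (ht : ∀ {k k' : J} (φ : k ⟶ k'), G.map φ ≫ t k' = t k)
  (tInf : cG.pt ⟶ U) (htInf : ∀ k, cG.π.app k ≫ t k = tInf)

/-- a system over `S` with compatible maps to `U`, as a system over `U` -/
def ovD : J ⥤ Over U.left where
  obj k := Over.mk (t k).left
  map {k k'} φ := Over.homMk (G.map φ).left (by
    change (G.map φ).left ≫ (t k').left = (t k).left
    rw [← Over.comp_left, ht])
  map_id k := by
    ext
    change (G.map (𝟙 k)).left = _
    rw [G.map_id]; rfl
  map_comp f f' := by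
    ext
    change (G.map (f ≫ f')).left = _
    rw [G.map_comp]; rfl

def ovC : Cone (ovD U G t ht) where
  pt := Over.mk tInf.left
  π :=
    { app := fun k => Over.homMk (cG.π.app k).left (by
        change (cG.π.app k).left ≫ (t k).left = tInf.left
        rw [← Over.comp_left, htInf])
      naturality := fun k k' f => by
        ext
        change (𝟙 _) ≫ (cG.π.app k').left = (cG.π.app k).left ≫ (G.map f).left
        rw [Category.id_comp, ← Over.comp_left, cG.w] }

def ovEK (k : J) : (Over.map U.hom).obj ((ovD U G t ht).obj k) ≅ G.obj k :=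
  Over.isoMk (Iso.refl _) (by
    change 𝟙 _ ≫ (G.obj k).hom = (t k).left ≫ U.hom
    rw [Category.id_comp, Over.w])

def ovEInf : (Over.map U.hom).obj (ovC U G cG t ht tInf htInf).pt ≅ cG.pt :=
  Over.isoMk (Iso.refl _) (by
    change 𝟙 _ ≫ cG.pt.hom = tInf.left ≫ U.hom
    rw [Category.id_comp, Over.w])

theorem ov_comp1 (k : J) :
    (Over.map U.hom).map ((ovC U G cG t ht tInf htInf).π.app k) ≫ (ovEK U G t ht k).hom =
      (ovEInf U G cG t ht tInf htInf).hom ≫ cG.π.app k := by
  ext
  change (cG.π.app k).left ≫ 𝟙 _ = 𝟙 _ ≫ (cG.π.app k).left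
  rw [Category.comp_id, Category.id_comp]

theorem ov_comp4 {k k' : J} (f : k ⟶ k') :
    (Over.map U.hom).map ((ovD U G t ht).map f) ≫ (ovEK U G t ht k').hom =
      (ovEK U G t ht k).hom ≫ G.map f := by
  ext
  change (G.map f).left ≫ 𝟙 _ = 𝟙 _ ≫ (G.map f).left
  rw [Category.comp_id, Category.id_comp]

include t ht tInf htInf in
set_option backward.isDefEq.respectTransparency.types false in
theorem lpAt_of_over
    (hloc : IsLimitPreserving (S := U.left) ((Over.map U.hom).op ⋙ F))
    (hc : IsLimit ((Over.forget S).mapCone cG))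
    (haff : ∀ k, IsAffine (G.obj k).left) (haffc : IsAffine cG.pt.left) : LPAt F G cG := by
  have hc' : IsLimit ((Over.forget U.left).mapCone (ovC U G cG t ht tInf htInf)) := hc
  obtain ⟨hcol⟩ := hloc (ovD U G t ht) (ovC U G cG t ht tInf htInf) hc' haff haffc
  constructor
  · intro s
    obtain ⟨k, sk, hsk⟩ := Types.jointly_surjective_of_isColimit hcol
      (F.map (ovEInf U G cG t ht tInf htInf).hom.op s)
    obtain ⟨k⟩ := k
    have hsk' : F.map ((Over.map U.hom).map ((ovC U G cG t ht tInf htInf).π.app k)).op sk =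
        F.map (ovEInf U G cG t ht tInf htInf).hom.op s := hsk
    refine ⟨k, F.map (ovEK U G t ht k).inv.op sk, ?_⟩
    apply psp_map_iso_injective F (ovEInf U G cG t ht tInf htInf)
    rw [← psp_map_comp_apply, ← ov_comp1, psp_map_comp_apply, psp_map_hom_inv]
    exact hsk'
  · intro k s s' hss'
    have himg : F.map ((Over.map U.hom).map ((ovC U G cG t ht tInf htInf).π.app k)).op
          (F.map (ovEK U G t ht k).hom.op s) =
        F.map ((Over.map U.hom).map ((ovC U G cG t ht tInf htInf).π.app k)).op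
          (F.map (ovEK U G t ht k).hom.op s') := by
      rw [← psp_map_comp_apply, ← psp_map_comp_apply, ov_comp1, psp_map_comp_apply,
        psp_map_comp_apply, hss']
    obtain ⟨k', f, hf⟩ := (Types.FilteredColimit.isColimit_eq_iff' hcol (i := op k)
      (F.map (ovEK U G t ht k).hom.op s) (F.map (ovEK U G t ht k).hom.op s')).1 himg
    obtain ⟨k'⟩ := k'
    have hf1 : F.map ((Over.map U.hom).map ((ovD U G t ht).map f.unop)).op
          (F.map (ovEK U G t ht k).hom.op s) =
        F.map ((Over.map U.hom).map ((ovD U G t ht).map f.unop)).op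
          (F.map (ovEK U G t ht k).hom.op s') := hf
    refine ⟨k', f.unop, ?_⟩
    rw [← psp_map_comp_apply, ← psp_map_comp_apply, ov_comp4, psp_map_comp_apply,
      psp_map_comp_apply] at hf1
    exact psp_map_iso_injective F (ovEK U G t ht k') hf1

end Over

end Groth.Agent.Lib.Helper14.AS
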