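import Groth.Agent.Lib.Helper14.AlgSpGeomPts
import Mathlib.RingTheory.Algebraic.Cardinality
import Mathlib.RingTheory.Algebraic.LinearIndependent

universe u
open CategoryTheory CategoryTheory.Limits AlgebraicGeometry Opposite Topology

namespace Groth.Agent.Lib.Helper14.AS
open AlgSp
open Cardinal TensorProduct

variable {S : Scheme.{u}}

/-- A field extension of an algebraically closed field `K` of `K`-dimension `< #K` is trivial. -/
theorem bijective_algebraMap_of_rank_lt {K L : Type u} [Field K] [Field L] [Algebra K L]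
    [IsAlgClosed K] (h : Module.rank K L < #K) : Function.Bijective (algebraMap K L) := by
  have halg : Algebra.IsAlgebraic K L := by
    constructor
    intro x
    by_contra hx
    have ht : Transcendental K x := hx
    have h2 := (Transcendental.linearIndependent_sub_inv ht).cardinal_lift_le_rank
    simp only [Cardinal.lift_id] at h2
    exact absurd (h2.trans_lt h) (lt_irrefl _)
  have : Algebra.IsIntegral K L := Algebra.isAlgebraic_iff_isIntegral.mp halg
  exact IsAlgClosed.algebraMap_bijective_of_isIntegral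

/-- Extending a field embedding into a large algebraically closed field. -/
theorem exists_ringHom_of_card_lt {F E K : Type u} [Field F] [Field E] [Field K] [IsAlgClosed K]
    (i : F →+* E) (j : F →+* K) (h : #E < #K) : ∃ φ : E →+* K, φ.comp i = j := by
  let _ := i.toAlgebra
  let _ := j.toAlgebra
  have : Nontrivial (K ⊗[F] E) :=
    Algebra.TensorProduct.nontrivial_of_algebraMap_injective_of_isDomain F K E
      (algebraMap F K).injective (algebraMap F E).injective
  obtain ⟨m, hm⟩ := Ideal.exists_maximal (K ⊗[F] E)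
  let _ : Field ((K ⊗[F] E) ⧸ m) := Ideal.Quotient.field m
  have hr : Module.rank K ((K ⊗[F] E) ⧸ m) < #K := by
    have h1 : Module.rank K ((K ⊗[F] E) ⧸ m) ≤ Module.rank K (K ⊗[F] E) :=
      LinearMap.rank_le_of_surjective (Ideal.Quotient.mkₐ K m).toLinearMap
        (Ideal.Quotient.mkₐ_surjective K m)
    have h2 : Module.rank K (K ⊗[F] E) = Module.rank F E := by
      rw [Module.rank_baseChange, Cardinal.lift_id]
    have h3 : Module.rank F E ≤ #E := rank_le_card _ _
    exact (h1.trans (h2.le.trans h3)).trans_lt h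
  have hb := bijective_algebraMap_of_rank_lt hr
  let e : K ≃+* ((K ⊗[F] E) ⧸ m) := RingEquiv.ofBijective (algebraMap K _) hb
  let ψ : E →+* ((K ⊗[F] E) ⧸ m) :=
    (Ideal.Quotient.mk m).comp (Algebra.TensorProduct.includeRight (R := F) (A := K) (B := E)).toRingHom
  refine ⟨(e.symm : _ →+* K).comp ψ, ?_⟩
  ext x
  change e.symm (ψ (algebraMap F E x)) = algebraMap F K x
  rw [RingEquiv.symm_apply_eq]
  change Ideal.Quotient.mk m ((1 : K) ⊗ₜ[F] algebraMap F E x) = algebraMap K _ (algebraMap F K x)
  rw [← Algebra.TensorProduct.tmul_one_eq_one_tmul]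
  rfl

/-- Lifting a field-valued point through a point with small residue field. -/
theorem exists_lift_at_of_card_lt {U V : Scheme.{u}} (h : U ⟶ V) {K : Type u} [Field K]
    [IsAlgClosed K] (v : Spec (CommRingCat.of K) ⟶ V) (u : ↥U)
    (hu : h u = v (IsLocalRing.closedPoint K)) (hc : #(U.residueField u) < #K) :
    ∃ z : Spec (CommRingCat.of K) ⟶ U, z ≫ h = v ∧ z (IsLocalRing.closedPoint K) = u := by
  obtain ⟨⟨w, jw⟩, rfl⟩ := (Scheme.SpecToEquivOfField K V).symm.surjective v
  have hv : ((Scheme.SpecToEquivOfField K V).symm ⟨w, jw⟩) =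
      Spec.map jw ≫ V.fromSpecResidueField w := rfl
  have hw : (Spec.map jw ≫ V.fromSpecResidueField w)
      (IsLocalRing.closedPoint K : ↥(Spec (CommRingCat.of K))) = w := by
    change (V.fromSpecResidueField w) ((Spec.map jw) _) = w
    exact Scheme.fromSpecResidueField_apply _ _
  rw [hv] at hu
  obtain rfl : h u = w := hu.trans hw
  obtain ⟨φ, hφ⟩ := exists_ringHom_of_card_lt (h.residueFieldMap u).hom jw.hom hc
  refine ⟨Spec.map (CommRingCat.ofHom φ) ≫ U.fromSpecResidueField u, ?_, ?_⟩
  · rw [Category.assoc, ← Scheme.Hom.SpecMap_residueFieldMap_fromSpecResidueField,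
      ← Category.assoc, ← Spec.map_comp]
    change _ = Spec.map jw ≫ V.fromSpecResidueField (h u)
    congr 2
    exact CommRingCat.hom_ext hφ
  · change (U.fromSpecResidueField u) ((Spec.map (CommRingCat.ofHom φ)) _) = u
    exact Scheme.fromSpecResidueField_apply _ _

/-- Residue field extensions of etale morphisms are finite. -/
theorem finite_residueField_of_etale {X Y : Scheme.{u}} (f : X ⟶ Y) [Etale f] (x : ↥X) :
    letI := (f.residueFieldMap x).hom.toAlgebra
    Module.Finite ↑(Y.residueField (f x)) ↑(X.residueField x) := by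
  algebraize [(f.stalkMap x).hom]
  have : IsLocalHom (algebraMap (Y.presheaf.stalk (f x)) (X.presheaf.stalk x)) :=
    inferInstanceAs <| IsLocalHom (f.stalkMap x).hom
  suffices h : @Module.Finite
      (IsLocalRing.ResidueField (Y.presheaf.stalk (f x)))
      (IsLocalRing.ResidueField (X.presheaf.stalk x)) _ _ _ by
    convert! h
    refine Module.ext' _ _ fun r m => ?_
    obtain ⟨r, rfl⟩ := IsLocalRing.residue_surjective r
    obtain ⟨m, rfl⟩ := IsLocalRing.residue_surjective m
    rfl
  have : Algebra.EssFiniteType (Y.presheaf.stalk (f x)) (X.presheaf.stalk x) := by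
    rw [← RingHom.essFiniteType_algebraMap, RingHom.algebraMap_toAlgebra]
    exact LocallyOfFiniteType.stalkMap f x
  have : Algebra.FormallyUnramified (Y.presheaf.stalk (f x)) (X.presheaf.stalk x) := by
    rw [← RingHom.formallyUnramified_algebraMap, RingHom.algebraMap_toAlgebra]
    exact FormallyUnramified.stalkMap f x
  infer_instance

theorem card_residueField_lt_of_etale {X Y : Scheme.{u}} (f : X ⟶ Y) [Etale f] (x : ↥X)
    {K : Type u} [Field K] [Infinite K] (h : #(Y.residueField (f x)) < #K) :
    #(X.residueField x) < #K := by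
  have hfin0 := finite_residueField_of_etale f x
  letI := (f.residueFieldMap x).hom.toAlgebra
  have hfin : Module.Finite ↑(Y.residueField (f x)) ↑(X.residueField x) := hfin0
  by_cases hF : Finite (Y.residueField (f x))
  · have : Finite (X.residueField x) := Module.finite_of_finite (Y.residueField (f x))
    exact (Cardinal.lt_aleph0_of_finite _).trans_le (Cardinal.aleph0_le_mk K)
  · rw [not_finite_iff_infinite] at hF
    have h1 := Algebra.IsAlgebraic.cardinalMk_le_max (Y.residueField (f x)) (X.residueField x)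
    rw [max_eq_left (Cardinal.aleph0_le_mk _)] at h1
    exact h1.trans_lt h

set_option backward.isDefEq.respectTransparency.types false in
/-- Lifting a geometric point of `Y` to `X` through a prescribed point with small residue
field. -/
theorem exists_geom_lift_of_card_lt {X Y : Sp S} (hY : IsAlgSpace Y) (f : X ⟶ Y)
    {U : Over S} (a : (yon S).obj U ⟶ X) {k : Type u} [Field k] [IsAlgClosed k]
    (str : Spec (CommRingCat.of k) ⟶ S) (y : (yon S).obj (Over.mk str) ⟶ Y) (u0 : ↥U.left)
    (hk : #(U.left.residueField u0) < #k)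
    (e0 : Points.ofPt (a ≫ f) u0 = fpt y) :
    ∃ x : (yon S).obj (Over.mk str) ⟶ X, x ≫ f = y ∧ fpt x = Points.ofPt a u0 := by
  obtain ⟨V, b, hbe, hbs⟩ := hY.atlas
  obtain ⟨v, hv⟩ := exists_lift_geom_of_repWith (repWith_mono etale_le_lft hbe) hbs str y
  obtain ⟨v', rfl⟩ := (yon S).map_surjective v
  have sqU := hbe.rep.isPullback (a ≫ f)
  obtain ⟨h, hh⟩ := (yon S).map_surjective (hbe.rep.fst (a ≫ f))
  have hsnd : Etale (hbe.rep.snd (a ≫ f)).left := hbe.property_snd _
  have comm : ((yon S).map (hbe.rep.snd (a ≫ f)) ≫ a) ≫ f = (yon S).map h ≫ b := by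
    rw [hh, Category.assoc]
    exact sqU.w.symm
  rw [← hh] at sqU
  have e : Points.ofPt b (v'.left (IsLocalRing.closedPoint k)) = Points.ofPt (a ≫ f) u0 := by
    rw [← fpt_yon_map_comp, hv, e0]
  obtain ⟨u, hu1, hu2⟩ := exists_point_of_isPullback_yon sqU _ _ e
  have hcard : #((hbe.rep.pullback (a ≫ f)).left.residueField u) < #k := by
    apply card_residueField_lt_of_etale (hbe.rep.snd (a ≫ f)).left u
    rw [hu2]
    exact hk
  obtain ⟨z, hz, hzu⟩ := exists_lift_at_of_card_lt h.left v'.left u hu1 hcard
  have hw : z ≫ (hbe.rep.pullback (a ≫ f)).hom = str := by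
    have h1 := Over.w h
    have h2 := Over.w v'
    change v'.left ≫ V.hom = str at h2
    rw [← h1, ← Category.assoc, hz, h2]
  let z' : Over.mk str ⟶ hbe.rep.pullback (a ≫ f) := Over.homMk z hw
  have hz' : z' ≫ h = v' := Over.OverMorphism.ext hz
  refine ⟨(yon S).map z' ≫ (yon S).map (hbe.rep.snd (a ≫ f)) ≫ a, ?_, ?_⟩
  · rw [Category.assoc, Category.assoc, ← Category.assoc _ a f, comm, ← Category.assoc,
      ← Functor.map_comp, hz', hv]
  · rw [fpt_yon_map_comp]
    change Points.ofPt _ (z (IsLocalRing.closedPoint k)) = _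
    rw [hzu, ofPt_yon_map_comp, hu2]

end Groth.Agent.Lib.Helper14.AS
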