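import Groth.Agent.Lib.Helper18.GFl5
import Groth.Agent.Lib.Helper10.ProjBC

/-!
# Sections of a base change `X ×_k Spec C` over preimages of affine opens (helper14)
-/

set_option autoImplicit false
universe u
open CategoryTheory CategoryTheory.Limits AlgebraicGeometry Opposite

namespace Groth.Agent.Lib.Helper14.QcOpenDesc

variable (k : Type u) [Field k] (X : Scheme.{u}) [X.Over (Spec (CommRingCat.of k))]

/-- the structure morphism of `Spec C` -/
noncomputable abbrev sC (C : Type u) [CommRing C] [Algebra k C] :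
    Spec (CommRingCat.of C) ⟶ Spec (CommRingCat.of k) :=
  Spec.map (CommRingCat.ofHom (algebraMap k C))

/-- the base change -/
noncomputable abbrev P (C : Type u) [CommRing C] [Algebra k C] : Scheme.{u} :=
  pullback (X ↘ (Spec (CommRingCat.of k))) (sC k C)

section

variable (C : Type u) [CommRing C] [Algebra k C]

/-- preimage of an open of `X` -/
noncomputable abbrev W (U : X.Opens) : (P k X C).Opens :=
  (pullback.fst (X ↘ (Spec (CommRingCat.of k))) (sC k C)) ⁻¹ᵁ U

/-- pullback of functions from `X` -/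
noncomputable abbrev fstS (U : X.Opens) : Γ(X, U) →+* Γ(P k X C, W k X C U) :=
  ((pullback.fst (X ↘ (Spec (CommRingCat.of k))) (sC k C)).app U).hom

/-- pullback of elements of `C` -/
noncomputable def sndS (U : X.Opens) : C →+* Γ(P k X C, W k X C U) :=
  ((pullback.snd (X ↘ (Spec (CommRingCat.of k))) (sC k C)).appLE ⊤ (W k X C U) le_top).hom.comp
    (Scheme.ΓSpecIso (CommRingCat.of C)).inv.hom

instance isAffineHom_fst : IsAffineHom (pullback.fst (X ↘ (Spec (CommRingCat.of k))) (sC k C)) :=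
  MorphismProperty.of_isPullback (P := @IsAffineHom.{u})
    (IsPullback.of_hasPullback (X ↘ (Spec (CommRingCat.of k))) (sC k C)).flip inferInstance

theorem mem_closure_sections {U : X.Opens} (hU : IsAffineOpen U) (z : Γ(P k X C, W k X C U)) :
    z ∈ AddSubmonoid.closure
      (Set.range fun p : Γ(X, U) × C => fstS k X C U p.1 * sndS k X C U p.2) := by
  have H := IsPullback.of_hasPullback (X ↘ (Spec (CommRingCat.of k))) (sC k C)
  have hS : IsAffineOpen (⊤ : (Spec (CommRingCat.of k)).Opens) := isAffineOpen_top _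
  have hT : IsAffineOpen (⊤ : (Spec (CommRingCat.of C)).Opens) := isAffineOpen_top _
  have hpo := Groth.Agent.Lib.Helper18.GFl.isPushout_appLE_of_isPullback H hS hT hU
    (UY := W k X C U) le_top le_top (by
      ext x
      simp)
  have h1 := Groth.Agent.Lib.Helper10.ProjBC.mem_closure _ _ _ _ hpo z
  refine AddSubmonoid.closure_mono ?_ h1
  rintro _ ⟨⟨a, y⟩, rfl⟩
  obtain ⟨c, rfl⟩ : ∃ c : C, (Scheme.ΓSpecIso (CommRingCat.of C)).inv.hom c = y :=
    ⟨(Scheme.ΓSpecIso (CommRingCat.of C)).hom.hom y, by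
      change ((Scheme.ΓSpecIso (CommRingCat.of C)).hom ≫
        (Scheme.ΓSpecIso (CommRingCat.of C)).inv).hom y = y
      rw [Iso.hom_inv_id]
      rfl⟩
  refine ⟨(a, c), ?_⟩
  have e1 : fstS k X C U a = ((pullback.fst (X ↘ (Spec (CommRingCat.of k))) (sC k C)).appLE U
      (W k X C U) le_rfl).hom a := by
    change ((pullback.fst (X ↘ (Spec (CommRingCat.of k))) (sC k C)).app U).hom a = _
    rw [Scheme.Hom.app_eq_appLE]
  exact congrArg₂ (· * ·) e1 rfl

end

section compat

variable {k X}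
variable {C C' : Type u} [CommRing C] [Algebra k C] [CommRing C'] [Algebra k C']
  (ι : C' →+* C) (π : P k X C ⟶ P k X C')
  (h1 : π ≫ pullback.fst (X ↘ (Spec (CommRingCat.of k))) (sC k C') =
    pullback.fst (X ↘ (Spec (CommRingCat.of k))) (sC k C))
  (h2 : π ≫ pullback.snd (X ↘ (Spec (CommRingCat.of k))) (sC k C') =
    pullback.snd (X ↘ (Spec (CommRingCat.of k))) (sC k C) ≫ Spec.map (CommRingCat.ofHom ι))

include h1 in
theorem preimage_W (U : X.Opens) : π ⁻¹ᵁ (W k X C' U) = W k X C U := by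
  change (π ≫ pullback.fst (X ↘ (Spec (CommRingCat.of k))) (sC k C')) ⁻¹ᵁ U = _
  rw [h1]

theorem appLE_congr_hom {Y Z : Scheme.{u}} {f g : Y ⟶ Z} (h : f = g) (U : Z.Opens) (V : Y.Opens)
    (e : V ≤ f ⁻¹ᵁ U) : f.appLE U V e = g.appLE U V (h ▸ e) := by
  subst h
  rfl

/-- pullback of sections along `π` -/
noncomputable def πS (U : X.Opens) : Γ(P k X C', W k X C' U) →+* Γ(P k X C, W k X C U) :=
  (π.appLE (W k X C' U) (W k X C U) (preimage_W π h1 U).ge).hom

theorem πS_fstS (U : X.Opens) (r : Γ(X, U)) :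
    πS π h1 U (fstS k X C' U r) = fstS k X C U r := by
  have e1 : (pullback.fst (X ↘ (Spec (CommRingCat.of k))) (sC k C')).app U ≫
      π.appLE (W k X C' U) (W k X C U) (preimage_W π h1 U).ge =
      (pullback.fst (X ↘ (Spec (CommRingCat.of k))) (sC k C)).app U := by
    rw [Scheme.Hom.app_eq_appLE, Scheme.Hom.appLE_comp_appLE, appLE_congr_hom h1,
      ← Scheme.Hom.app_eq_appLE]
  exact congrArg (fun m => m.hom r) e1

include h2 in
theorem πS_sndS (U : X.Opens) (c : C') :
    πS π h1 U (sndS k X C' U c) = sndS k X C U (ι c) := by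
  have e1 : (pullback.snd (X ↘ (Spec (CommRingCat.of k))) (sC k C')).appLE ⊤ (W k X C' U) le_top ≫
      π.appLE (W k X C' U) (W k X C U) (preimage_W π h1 U).ge =
      (Spec.map (CommRingCat.ofHom ι)).appTop ≫
        (pullback.snd (X ↘ (Spec (CommRingCat.of k))) (sC k C)).appLE ⊤ (W k X C U) le_top := by
    refine (Scheme.Hom.appLE_comp_appLE π
      (pullback.snd (X ↘ (Spec (CommRingCat.of k))) (sC k C')) ⊤ (W k X C' U) (W k X C U)
      le_top (preimage_W π h1 U).ge).trans ?_
    refine (appLE_congr_hom h2 ⊤ (W k X C U) _).trans ?_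
    exact Scheme.Hom.comp_appLE _ _ _ _ _
  have e2 := Scheme.ΓSpecIso_inv_naturality (CommRingCat.ofHom ι)
  have e3 : (Scheme.ΓSpecIso (CommRingCat.of C')).inv ≫
      (pullback.snd (X ↘ (Spec (CommRingCat.of k))) (sC k C')).appLE ⊤ (W k X C' U) le_top ≫
      π.appLE (W k X C' U) (W k X C U) (preimage_W π h1 U).ge =
      CommRingCat.ofHom ι ≫ (Scheme.ΓSpecIso (CommRingCat.of C)).inv ≫
        (pullback.snd (X ↘ (Spec (CommRingCat.of k))) (sC k C)).appLE ⊤ (W k X C U) le_top := by
    rw [e1, ← Category.assoc, ← e2, Category.assoc]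
  exact congrArg (fun m => m.hom c) e3

theorem preimage_basicOpen (U : X.Opens) (g : Γ(P k X C', W k X C' U)) :
    π ⁻¹ᵁ ((P k X C').basicOpen g) = (P k X C).basicOpen (πS π h1 U g) := by
  rw [Scheme.preimage_basicOpen]
  have e : πS π h1 U g = ((P k X C).presheaf.map
      (homOfLE (preimage_W π h1 U).ge).op).hom ((π.app (W k X C' U)).hom g) := rfl
  rw [e]
  have := (P k X C).basicOpen_res ((π.app (W k X C' U)).hom g)
    (homOfLE (preimage_W π h1 U).ge).op
  refine Eq.trans ?_ this.symm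
  rw [eq_comm, inf_eq_right]
  exact ((P k X C).basicOpen_le _).trans (preimage_W π h1 U).le

end compat

section main

theorem exists_finset_of_mem_closure {R A M : Type*} [AddCommMonoid M] (F : R → A → M) (z : M)
    (hz : z ∈ AddSubmonoid.closure (Set.range fun p : R × A => F p.1 p.2)) :
    ∃ s : Finset A, z ∈ AddSubmonoid.closure ((fun p : R × A => F p.1 p.2) '' {p | p.2 ∈ s}) := by
  classical
  induction hz using AddSubmonoid.closure_induction with
  | mem x hx =>
    obtain ⟨⟨r, a⟩, rfl⟩ := hx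
    exact ⟨{a}, AddSubmonoid.subset_closure ⟨(r, a), by simp, rfl⟩⟩
  | zero => exact ⟨∅, zero_mem _⟩
  | add x y _ _ hx hy =>
    obtain ⟨s₁, h₁⟩ := hx
    obtain ⟨s₂, h₂⟩ := hy
    refine ⟨s₁ ∪ s₂, add_mem ?_ ?_⟩
    · refine AddSubmonoid.closure_mono (Set.image_mono ?_) h₁
      intro p hp
      exact Finset.mem_union_left _ hp
    · refine AddSubmonoid.closure_mono (Set.image_mono ?_) h₂
      intro p hp
      exact Finset.mem_union_right _ hp

variable {k X}

theorem exists_descent_of_mem_closure {C C' : Type u} [CommRing C] [Algebra k C] [CommRing C']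
    [Algebra k C'] (ι : C' →+* C) (U : X.Opens) (z : Γ(P k X C, W k X C U))
    (hz : z ∈ AddSubmonoid.closure
      (Set.range fun p : Γ(X, U) × C' => fstS k X C U p.1 * sndS k X C U (ι p.2))) :
    ∃ z' : Γ(P k X C', W k X C' U), ∀ (π : P k X C ⟶ P k X C')
      (h1 : π ≫ pullback.fst (X ↘ (Spec (CommRingCat.of k))) (sC k C') =
        pullback.fst (X ↘ (Spec (CommRingCat.of k))) (sC k C))
      (_ : π ≫ pullback.snd (X ↘ (Spec (CommRingCat.of k))) (sC k C') =
        pullback.snd (X ↘ (Spec (CommRingCat.of k))) (sC k C) ≫ Spec.map (CommRingCat.ofHom ι)),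
      πS π h1 U z' = z := by
  induction hz using AddSubmonoid.closure_induction with
  | mem x hx =>
    obtain ⟨⟨r, a⟩, rfl⟩ := hx
    refine ⟨fstS k X C' U r * sndS k X C' U a, fun π h1 h2 => ?_⟩
    rw [map_mul, πS_fstS, πS_sndS ι π h1 h2]
  | zero => exact ⟨0, fun π h1 _ => map_zero _⟩
  | add x y _ _ hx hy =>
    obtain ⟨x', hx'⟩ := hx
    obtain ⟨y', hy'⟩ := hy
    exact ⟨x' + y', fun π h1 h2 => by rw [map_add, hx' π h1 h2, hy' π h1 h2]⟩

variable (k X)

theorem main (A : Type u) [CommRing A] [Algebra k A]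
    (V : Set ↥(pullback (X ↘ (Spec (CommRingCat.of k)))
      (Spec.map (CommRingCat.ofHom (algebraMap k A))))) (hV : IsOpen V) (hVc : IsCompact V) :
    ∃ (A' : Subalgebra k A), A'.FG ∧
      ∃ (V' : Set ↥(pullback (X ↘ (Spec (CommRingCat.of k)))
        (Spec.map (CommRingCat.ofHom (algebraMap k ↥A'))))), IsOpen V' ∧ IsCompact V' ∧
        ∀ π : pullback (X ↘ (Spec (CommRingCat.of k)))
              (Spec.map (CommRingCat.ofHom (algebraMap k A))) ⟶
            pullback (X ↘ (Spec (CommRingCat.of k)))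
              (Spec.map (CommRingCat.ofHom (algebraMap k ↥A'))),
          π ≫ pullback.fst _ _ = pullback.fst _ _ →
          π ≫ pullback.snd _ _ = pullback.snd _ _ ≫
            Spec.map (CommRingCat.ofHom A'.val.toRingHom) →
            π.base ⁻¹' V' = V := by
  classical
  let Vo : (P k X A).Opens := ⟨V, hV⟩
  -- local data
  have hloc : ∀ v : V, ∃ (U : X.Opens) (_ : IsAffineOpen U) (g : Γ(P k X A, W k X A U))
      (s : Finset A), (v : P k X A) ∈ (P k X A).basicOpen g ∧ (P k X A).basicOpen g ≤ Vo ∧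
      g ∈ AddSubmonoid.closure ((fun p : Γ(X, U) × A => fstS k X A U p.1 * sndS k X A U p.2) ''
        {p | p.2 ∈ s}) := by
    intro v
    obtain ⟨U, hU, hvU, -⟩ := TopologicalSpace.Opens.isBasis_iff_nbhd.mp X.isBasis_affineOpens
      (show (pullback.fst (X ↘ (Spec (CommRingCat.of k))) (sC k A)) (v : P k X A) ∈
        (⊤ : X.Opens) from trivial)
    have hU : IsAffineOpen U := hU
    have hW : IsAffineOpen (W k X A U) := hU.preimage _
    obtain ⟨g, hgV, hvg⟩ := hW.exists_basicOpen_le (V := Vo) ⟨v.1, v.2⟩ hvU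
    obtain ⟨s, hs⟩ := exists_finset_of_mem_closure
      (fun (r : Γ(X, U)) (a : A) => fstS k X A U r * sndS k X A U a) g
      (mem_closure_sections k X A hU g)
    exact ⟨U, hU, g, s, hvg, hgV, hs⟩
  choose U hU g s hvg hgV hgs using hloc
  -- finite subcover
  have hcov : V ⊆ ⋃ v : V, ((P k X A).basicOpen (g v) : Set (P k X A)) :=
    fun x hx => Set.mem_iUnion.2 ⟨⟨x, hx⟩, hvg ⟨x, hx⟩⟩
  obtain ⟨t, ht⟩ := hVc.elim_finite_subcover
    (fun v : V => ((P k X A).basicOpen (g v) : Set (P k X A)))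
    (fun v => ((P k X A).basicOpen (g v)).isOpen) hcov
  -- the subalgebra
  let T : Finset A := t.biUnion s
  let A' : Subalgebra k A := Algebra.adjoin k (T : Set A)
  refine ⟨A', Subalgebra.fg_adjoin_finset T, ?_⟩
  -- descend each section
  have hdesc : ∀ v ∈ t, ∃ z' : Γ(P k X ↥A', W k X ↥A' (U v)), ∀ (π : P k X A ⟶ P k X ↥A')
      (h1 : π ≫ pullback.fst (X ↘ (Spec (CommRingCat.of k))) (sC k ↥A') =
        pullback.fst (X ↘ (Spec (CommRingCat.of k))) (sC k A))
      (_ : π ≫ pullback.snd (X ↘ (Spec (CommRingCat.of k))) (sC k ↥A') =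
        pullback.snd (X ↘ (Spec (CommRingCat.of k))) (sC k A) ≫
          Spec.map (CommRingCat.ofHom A'.val.toRingHom)),
      πS π h1 (U v) z' = g v := by
    intro v hv
    apply exists_descent_of_mem_closure A'.val.toRingHom (U v) (g v)
    refine AddSubmonoid.closure_mono ?_ (hgs v)
    rintro _ ⟨⟨r, a⟩, ha, rfl⟩
    have haT : a ∈ A' := Algebra.subset_adjoin (Finset.mem_biUnion.2 ⟨v, hv, ha⟩)
    exact ⟨(r, ⟨a, haT⟩), rfl⟩
  choose! g' hg' using hdesc
  refine ⟨⋃ v ∈ t, ((P k X ↥A').basicOpen (g' v) : Set _), ?_, ?_, ?_⟩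
  · exact isOpen_biUnion fun v _ => ((P k X ↥A').basicOpen (g' v)).isOpen
  · refine t.isCompact_biUnion fun v _ => ?_
    have hW' : IsAffineOpen (W k X ↥A' (U v)) := (hU v).preimage _
    exact (hW'.basicOpen (g' v)).isCompact
  · intro π h1 h2
    rw [Set.preimage_iUnion₂]
    apply Set.Subset.antisymm
    · intro x hx
      obtain ⟨v, hv, hxv⟩ := Set.mem_iUnion₂.1 hx
      have e := preimage_basicOpen π h1 (U v) (g' v)
      rw [hg' v hv π h1 h2] at e
      have hx' : x ∈ π ⁻¹ᵁ ((P k X ↥A').basicOpen (g' v)) := hxv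
      rw [e] at hx'
      exact hgV v hx'
    · intro x hx
      obtain ⟨v, hv, hxv⟩ := Set.mem_iUnion₂.1 (ht hx)
      refine Set.mem_iUnion₂.2 ⟨v, hv, ?_⟩
      have e := preimage_basicOpen π h1 (U v) (g' v)
      rw [hg' v hv π h1 h2] at e
      change x ∈ π ⁻¹ᵁ ((P k X ↥A').basicOpen (g' v))
      rw [e]
      exact hxv

end main

end Groth.Agent.Lib.Helper14.QcOpenDesc
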