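import Mathlib
import Groth.Agent.Lib.Helper14.QcOpenDesc1

/-!
# Algebras of small dimension over a large field are Jacobson (helper14)
-/

set_option autoImplicit false
universe u
open CategoryTheory CategoryTheory.Limits AlgebraicGeometry Opposite Cardinal

namespace Groth.Agent.Lib.Helper14.LargeFieldJac

/-- A field extension of dimension smaller than the cardinality of the base field is algebraic. -/
theorem isAlgebraic_of_rank_lt {K L : Type u} [Field K] [Field L] [Algebra K L]
    (h : Module.rank K L < #K) : Algebra.IsAlgebraic K L := by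
  constructor
  intro x
  by_contra hx
  have ht : Transcendental K x := hx
  have h2 := (Transcendental.linearIndependent_sub_inv ht).cardinal_lift_le_rank
  simp only [Cardinal.lift_id] at h2
  exact absurd (h2.trans_lt h) (lt_irrefl _)

/-- Amitsur: an algebra of dimension smaller than the cardinality of the (infinite) base field is a
Jacobson ring. -/
theorem isJacobsonRing_of_rank_lt {K B : Type u} [Field K] [CommRing B] [Algebra K B] [Infinite K]
    (h : Module.rank K B < #K) : IsJacobsonRing B := by
  rw [isJacobsonRing_iff_prime_eq]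
  intro P hP
  refine le_antisymm ?_ Ideal.le_jacobson
  intro x hx
  by_contra hxP
  have hdom : IsDomain (B ⧸ P) := Ideal.Quotient.isDomain P
  obtain ⟨d, hd⟩ : ∃ d : B ⧸ P, d = Ideal.Quotient.mk P x := ⟨_, rfl⟩
  have hd0 : d ≠ 0 := fun h0 => hxP (Ideal.Quotient.eq_zero_iff_mem.mp (hd ▸ h0))
  have hunit : ∀ y : B ⧸ P, IsUnit (d * y + 1) := by
    intro y
    obtain ⟨y₀, rfl⟩ := Ideal.Quotient.mk_surjective y
    obtain ⟨z, hz⟩ := Ideal.mem_jacobson_iff.mp hx y₀
    have hz' : Ideal.Quotient.mk P (z * y₀ * x + z - 1) = 0 := Ideal.Quotient.eq_zero_iff_mem.mpr hz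
    rw [map_sub, map_add, map_mul, map_mul, map_one, ← hd, sub_eq_zero] at hz'
    refine IsUnit.of_mul_eq_one (Ideal.Quotient.mk P z) ?_
    have e : (d * Ideal.Quotient.mk P y₀ + 1) * Ideal.Quotient.mk P z =
        Ideal.Quotient.mk P z * Ideal.Quotient.mk P y₀ * d + Ideal.Quotient.mk P z := by ring
    rw [e, hz']
  have hrank : Module.rank K (B ⧸ P) < #K :=
    (LinearMap.rank_le_of_surjective (Ideal.Quotient.mkₐ K P).toLinearMap
      (Ideal.Quotient.mkₐ_surjective K P)).trans_lt h
  by_cases halg : IsAlgebraic K d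
  · have hu : IsUnit d := halg.isIntegral.isUnit hd0
    obtain ⟨u, rfl⟩ := hu
    have h0 := hunit (-(↑u⁻¹ : B ⧸ P))
    rw [mul_neg, Units.mul_inv, neg_add_cancel] at h0
    exact not_isUnit_zero h0
  · have ht : Transcendental K d := halg
    have hinj : Function.Injective (algebraMap (B ⧸ P) (FractionRing (B ⧸ P))) :=
      IsFractionRing.injective _ _
    have htF : Transcendental K (algebraMap (B ⧸ P) (FractionRing (B ⧸ P)) d) :=
      (transcendental_algebraMap_iff hinj).mpr ht
    have hli := Transcendental.linearIndependent_sub_inv htF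
    -- units `d - a` for `a ≠ 0`
    have hu : ∀ a : {a : K // a ≠ 0}, IsUnit (d - algebraMap K (B ⧸ P) a.1) := by
      intro a
      have h1 := hunit (algebraMap K (B ⧸ P) (-(a.1)⁻¹))
      have h2 : d - algebraMap K (B ⧸ P) a.1 =
          algebraMap K (B ⧸ P) (-a.1) * (d * algebraMap K (B ⧸ P) (-(a.1)⁻¹) + 1) := by
        rw [mul_add, mul_one, mul_left_comm, ← map_mul, neg_mul_neg, mul_inv_cancel₀ a.2, map_one,
          mul_one, map_neg]
        ring
      rw [h2]
      refine IsUnit.mul ?_ h1
      exact (IsUnit.mk0 (-a.1) (neg_ne_zero.mpr a.2)).map (algebraMap K (B ⧸ P))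
    let w : {a : K // a ≠ 0} → B ⧸ P := fun a => ((hu a).unit⁻¹ : (B ⧸ P)ˣ)
    have hw : ∀ a, algebraMap (B ⧸ P) (FractionRing (B ⧸ P)) (w a) =
        (algebraMap (B ⧸ P) (FractionRing (B ⧸ P)) d -
          algebraMap K (FractionRing (B ⧸ P)) a.1)⁻¹ := by
      intro a
      have h3 : (d - algebraMap K (B ⧸ P) a.1) * w a = 1 := (hu a).mul_val_inv
      have h4 := congrArg (algebraMap (B ⧸ P) (FractionRing (B ⧸ P))) h3
      rw [map_mul, map_one, map_sub, ← IsScalarTower.algebraMap_apply] at h4
      exact eq_inv_of_mul_eq_one_right h4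
    have hli2 : LinearIndependent K w := by
      have h5 : LinearIndependent K
          ((IsScalarTower.toAlgHom K (B ⧸ P) (FractionRing (B ⧸ P))).toLinearMap ∘ w) := by
        have h6 := hli.comp (fun a : {a : K // a ≠ 0} => a.1) Subtype.val_injective
        have e : ((IsScalarTower.toAlgHom K (B ⧸ P) (FractionRing (B ⧸ P))).toLinearMap ∘ w) =
            ((fun a : K => (algebraMap (B ⧸ P) (FractionRing (B ⧸ P)) d -
              algebraMap K (FractionRing (B ⧸ P)) a)⁻¹) ∘ fun a : {a : K // a ≠ 0} => a.1) :=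
          funext fun a => hw a
        rw [e]
        exact h6
      exact h5.of_comp _
    have h7 := hli2.cardinal_lift_le_rank
    simp only [Cardinal.lift_id] at h7
    have h8 : #{a : K // a ≠ 0} = #K := by
      have := Cardinal.mk_compl_of_infinite ({0} : Set K)
        (by rw [Cardinal.mk_singleton]; exact Cardinal.one_lt_aleph0.trans_le (Cardinal.aleph0_le_mk K))
      exact this
    rw [h8] at h7
    exact absurd (h7.trans_lt hrank) (lt_irrefl _)

section geom

open Groth.Agent.Lib.Helper14.QcOpenDesc TopologicalSpace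

variable (k : Type u) [Field k] (X : Scheme.{u}) [X.Over (Spec (CommRingCat.of k))]
variable (K : Type u) [Field K] [Algebra k K]

theorem rank_sections_le {U : X.Opens} (hU : IsAffineOpen U) :
    letI := (sndS k X K U).toAlgebra
    Module.rank K Γ(P k X K, W k X K U) ≤ #Γ(X, U) := by
  letI : Algebra K Γ(P k X K, W k X K U) := (sndS k X K U).toAlgebra
  have hspan : Submodule.span K (Set.range (fstS k X K U)) = ⊤ := by
    rw [eq_top_iff]
    rintro z -
    have hz := mem_closure_sections k X K hU z
    induction hz using AddSubmonoid.closure_induction with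
    | mem x hx =>
      obtain ⟨⟨r, a⟩, rfl⟩ := hx
      have e : fstS k X K U r * sndS k X K U a = a • fstS k X K U r := by
        rw [Algebra.smul_def, mul_comm]
        rfl
      change fstS k X K U r * sndS k X K U a ∈ _
      rw [e]
      exact Submodule.smul_mem _ _ (Submodule.subset_span ⟨r, rfl⟩)
    | zero => exact zero_mem _
    | add x y _ _ hx hy => exact add_mem hx hy
  calc Module.rank K Γ(P k X K, W k X K U)
      = Module.rank K (⊤ : Submodule K Γ(P k X K, W k X K U)) := by rw [rank_top]
    _ = Module.rank K (Submodule.span K (Set.range (fstS k X K U))) := by rw [hspan]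
    _ ≤ #(Set.range (fstS k X K U)) := rank_span_le _
    _ ≤ #Γ(X, U) := Cardinal.mk_range_le

attribute [local instance] Curv2.resAlgebra

theorem main : ∃ κ : Cardinal.{u}, ∀ (K : Type u) [Field K] [Algebra k K], κ ≤ Cardinal.mk K →
      JacobsonSpace ↥(Curv2.bc k X K) ∧
        ∀ x : ↥(Curv2.bc k X K), IsClosed ({x} : Set ↥(Curv2.bc k X K)) →
          letI : (Curv2.bc k X K).Over (Spec (CommRingCat.of K)) := ⟨Curv2.bcSnd k X K⟩
          Algebra.IsAlgebraic K ((Curv2.bc k X K).residueField x) := by
  refine ⟨Order.succ (max ℵ₀ (⨆ U : X.affineOpens, #Γ(X, U.1))), ?_⟩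
  intro K _ _ hκ
  have hlt : max ℵ₀ (⨆ U : X.affineOpens, #Γ(X, U.1)) < #K := (Order.lt_succ _).trans_le hκ
  have hinf : Infinite K := Cardinal.infinite_iff.mpr ((le_max_left _ _).trans hlt.le)
  have hU_lt : ∀ U : X.affineOpens, #Γ(X, U.1) < #K := fun U =>
    ((le_ciSup Cardinal.bddAbove_of_small U).trans (le_max_right _ _)).trans_lt hlt
  have hrank : ∀ U : X.affineOpens,
      letI := (sndS k X K U.1).toAlgebra
      Module.rank K Γ(P k X K, W k X K U.1) < #K :=
    fun U => (rank_sections_le k X K U.2).trans_lt (hU_lt U)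
  have hjac : ∀ U : X.affineOpens, IsJacobsonRing Γ(P k X K, W k X K U.1) := fun U => by
    letI := (sndS k X K U.1).toAlgebra
    exact isJacobsonRing_of_rank_lt (hrank U)
  have hWaff : ∀ U : X.affineOpens, IsAffineOpen (W k X K U.1) := fun U => U.2.preimage _
  have hexU : ∀ x : ↥(P k X K), ∃ U : X.affineOpens, x ∈ W k X K U.1 := by
    intro x
    obtain ⟨U, hU, hxU, -⟩ := Opens.isBasis_iff_nbhd.mp X.isBasis_affineOpens
      (show (pullback.fst (X ↘ (Spec (CommRingCat.of k))) (sC k K)) x ∈ (⊤ : X.Opens) from trivial)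
    exact ⟨⟨U, hU⟩, hxU⟩
  constructor
  · have hcov : TopologicalSpace.IsOpenCover (fun U : X.affineOpens => W k X K U.1) := by
      rw [TopologicalSpace.IsOpenCover, eq_top_iff]
      intro x _
      obtain ⟨U, hxU⟩ := hexU x
      exact Opens.mem_iSup.2 ⟨U, hxU⟩
    rw [hcov.jacobsonSpace_iff]
    intro U
    have := hjac U
    exact JacobsonSpace.of_isOpenEmbedding
      (Scheme.homeoOfIso (hWaff U).isoSpec).isOpenEmbedding
  · intro x hx
    obtain ⟨Uo, hxW⟩ := hexU x
    have hW := hWaff Uo
    letI algB : Algebra K Γ(P k X K, W k X K Uo.1) := (sndS k X K Uo.1).toAlgebra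
    obtain ⟨p, hp⟩ : ∃ p, p = hW.primeIdealOf ⟨x, hxW⟩ := ⟨_, rfl⟩
    have hmax : p.asIdeal.IsMaximal := by
      rw [← PrimeSpectrum.isClosed_singleton_iff_isMaximal]
      have hcl : IsClosed ({⟨x, hxW⟩} : Set ↥(W k X K Uo.1)) := by
        have := hx.preimage (continuous_subtype_val (p := fun y => y ∈ W k X K Uo.1))
        convert this using 1
        ext y
        simp [Subtype.ext_iff]
      have h2 := (Scheme.homeoOfIso hW.isoSpec).isClosedMap _ hcl
      have e : (Scheme.homeoOfIso hW.isoSpec) '' ({⟨x, hxW⟩} : Set ↥(W k X K Uo.1)) =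
          {(Scheme.homeoOfIso hW.isoSpec) ⟨x, hxW⟩} := Set.image_singleton
      have h3 : IsClosed ({(Scheme.homeoOfIso hW.isoSpec) ⟨x, hxW⟩} : Set _) := e ▸ h2
      rw [hp]
      exact h3
    letI : Field (Γ(P k X K, W k X K Uo.1) ⧸ p.asIdeal) := Ideal.Quotient.field _
    have hL : Algebra.IsAlgebraic K (Γ(P k X K, W k X K Uo.1) ⧸ p.asIdeal) :=
      isAlgebraic_of_rank_lt ((LinearMap.rank_le_of_surjective
        (Ideal.Quotient.mkₐ K p.asIdeal).toLinearMap
        (Ideal.Quotient.mkₐ_surjective K _)).trans_lt (hrank Uo))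
    -- the evaluation map
    let _ := TopCat.Presheaf.algebra_section_stalk (P k X K).presheaf (⟨x, hxW⟩ : W k X K Uo.1)
    have hloc : IsLocalization.AtPrime ((P k X K).presheaf.stalk x) p.asIdeal := by
      rw [hp]
      exact hW.isLocalization_stalk ⟨x, hxW⟩
    let res : (P k X K).presheaf.stalk x →+* (P k X K).residueField x :=
      ((P k X K).residue x).hom
    have hres_surj : Function.Surjective res := IsLocalRing.residue_surjective
    have hres0 : ∀ t, res t = 0 ↔ t ∈ IsLocalRing.maximalIdeal ((P k X K).presheaf.stalk x) :=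
      fun t => IsLocalRing.residue_eq_zero_iff t
    let gm : Γ(P k X K, W k X K Uo.1) →+* (P k X K).presheaf.stalk x :=
      algebraMap Γ(P k X K, W k X K Uo.1) ((P k X K).presheaf.stalk x)
    have hgm : gm = ((P k X K).presheaf.germ (W k X K Uo.1) x hxW).hom := rfl
    letI : (Curv2.bc k X K).Over (Spec (CommRingCat.of K)) := ⟨Curv2.bcSnd k X K⟩
    have hev_alg : ∀ a : K, res (gm (algebraMap K Γ(P k X K, W k X K Uo.1) a)) =
        algebraMap K ((Curv2.bc k X K).residueField x) a := by
      intro a
      change res (gm (sndS k X K Uo.1 a)) = Curv2.resMap K (Curv2.bc k X K) x a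
      unfold Curv2.resMap Curv2.stalkMap Coh.toGlobal
      simp only [RingHom.comp_apply]
      congr 1
      rw [hgm]
      exact TopCat.Presheaf.germ_res_apply (P k X K).presheaf
        (homOfLE (le_top : W k X K Uo.1 ≤ ⊤)) x hxW _
    let evA : Γ(P k X K, W k X K Uo.1) →ₐ[K] (Curv2.bc k X K).residueField x :=
      { (res.comp gm) with commutes' := hev_alg }
    have hevA : ∀ b, evA b = res (gm b) := fun b => rfl
    have hker : ∀ b ∈ p.asIdeal, evA b = 0 := by
      intro b hb
      rw [hevA, hres0]
      have := IsLocalization.AtPrime.comap_maximalIdeal ((P k X K).presheaf.stalk x) p.asIdeal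
      rw [← this] at hb
      exact hb
    let ι : (Γ(P k X K, W k X K Uo.1) ⧸ p.asIdeal) →ₐ[K] (Curv2.bc k X K).residueField x :=
      Ideal.Quotient.liftₐ p.asIdeal evA hker
    have hev_algebraic : ∀ b : Γ(P k X K, W k X K Uo.1), IsAlgebraic K (res (gm b)) := by
      intro b
      have h1 := (hL.isAlgebraic (Ideal.Quotient.mk p.asIdeal b)).algHom ι
      have h2 : ι (Ideal.Quotient.mk p.asIdeal b) = res (gm b) := rfl
      rw [h2] at h1
      exact h1
    constructor
    intro z
    obtain ⟨t, rfl⟩ := hres_surj z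
    obtain ⟨⟨b, s⟩, hbs⟩ := IsLocalization.mk'_surjective p.asIdeal.primeCompl t
    have h1 : t * gm s = gm b := by
      rw [← hbs]
      exact IsLocalization.mk'_spec _ _ _
    have h2 : res t * res (gm s) = res (gm b) := by
      rw [← map_mul, h1]
    have hs0 : res (gm s) ≠ 0 := by
      intro h0
      rw [hres0] at h0
      have hu : IsUnit (gm s) := IsLocalization.map_units ((P k X K).presheaf.stalk x) s
      exact (IsLocalRing.maximalIdeal.isMaximal _).ne_top (Ideal.eq_top_of_isUnit_mem _ h0 hu)
    have h3 : res t = res (gm b) * (res (gm s))⁻¹ := (eq_mul_inv_iff_mul_eq₀ hs0).mpr h2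
    rw [h3]
    exact (hev_algebraic b).mul (hev_algebraic s).inv

end geom

end Groth.Agent.Lib.Helper14.LargeFieldJac
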