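import Groth.Agent.S9208
import Mathlib.AlgebraicGeometry.AffineTransitionLimit
universe u
open CategoryTheory CategoryTheory.Limits AlgebraicGeometry Opposite
namespace Groth.Agent.Lib.Helper14.AS

set_option backward.isDefEq.respectTransparency.types false in
theorem lfp_of_preservesColimit_affine {X S : Scheme.{u}} (f : X ⟶ S)
    (h : ∀ (U : S.Opens), IsAffineOpen U →
      ∀ (J : Type u) [Preorder J] [IsDirected J (· ≤ ·)] [Nonempty J] (Z : Jᵒᵖ ⥤ Over (U : Scheme.{u})),
      (∀ j, IsAffine (Z.obj j).left) →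
      Limits.PreservesColimit (Z ⋙ Over.map U.ι).op (yoneda.obj (Over.mk f))) :
    LocallyOfFinitePresentation f := by
  have key : ∀ U : S.affineOpens, LocallyOfFinitePresentation (f ∣_ U.1) := by
    intro U
    apply Groth.Agent.S9208.result
    intro J _ _ _ D t c hc hD j₀ g hg
    have hconn : IsConnected Jᵒᵖ := IsCofiltered.isConnected _
    -- the system over `U`
    let Z : Jᵒᵖ ⥤ Over (U.1 : Scheme.{u}) :=
      { obj := fun j => Over.mk (t.app j)
        map := fun {j j'} φ => Over.homMk (D.map φ) (by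
          have := t.naturality φ
          simpa using this)
        map_id := fun j => by ext; simp
        map_comp := fun φ ψ => by ext; simp }
    have hpres := h U.1 U.2 J Z hD
    let W : Jᵒᵖ ⥤ Over S := Z ⋙ Over.map U.1.ι
    -- the structure map of the limit does not depend on the stage
    have hstr : ∀ j, c.π.app j ≫ t.app j = c.π.app j₀ ≫ t.app j₀ := by
      intro j
      obtain ⟨k, a, b, -⟩ := IsCofilteredOrEmpty.cone_objs j j₀
      have h1 := t.naturality a
      have h2 := t.naturality b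
      simp only [Functor.const_obj_obj, Functor.const_obj_map, Category.comp_id] at h1 h2
      rw [← c.w a, ← c.w b, Category.assoc, Category.assoc, h1, h2]
    let cW : Cone W :=
      { pt := Over.mk ((c.π.app j₀ ≫ t.app j₀) ≫ U.1.ι)
        π :=
          { app := fun j => Over.homMk (c.π.app j) (by
              change c.π.app j ≫ t.app j ≫ U.1.ι = (c.π.app j₀ ≫ t.app j₀) ≫ U.1.ι
              rw [← Category.assoc, hstr])
            naturality := fun j j' φ => by
              ext
              change 𝟙 _ ≫ c.π.app j' = c.π.app j ≫ D.map φ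
              rw [Category.id_comp, c.w] } }
    have hcW0 : IsLimit ((Over.forget S).mapCone cW) := hc
    have hcW : IsLimit cW := isLimitOfReflects (Over.forget S) hcW0
    have hcol := isColimitOfPreserves (yoneda.obj (Over.mk f)) hcW.op
    have hι : (f ⁻¹ᵁ U.1).ι ≫ f = (f ∣_ U.1) ≫ U.1.ι := (morphismRestrict_ι f U.1).symm
    let x : cW.pt ⟶ Over.mk f := Over.homMk (g ≫ (f ⁻¹ᵁ U.1).ι) (by
      change (g ≫ (f ⁻¹ᵁ U.1).ι) ≫ f = (c.π.app j₀ ≫ t.app j₀) ≫ U.1.ι
      rw [Category.assoc, hι, ← Category.assoc, hg])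
    obtain ⟨j, y, hy⟩ := Types.jointly_surjective_of_isColimit hcol x
    obtain ⟨j⟩ := j
    have hy' : cW.π.app j ≫ y = x := hy
    have hy1 : c.π.app j ≫ y.left = g ≫ (f ⁻¹ᵁ U.1).ι := congrArg (fun q => q.left) hy'
    have hy2 : y.left ≫ f = t.app j ≫ U.1.ι := Over.w y
    have hrange : Set.range y.left ⊆ Set.range (f ⁻¹ᵁ U.1).ι := by
      rintro _ ⟨z, rfl⟩
      rw [Scheme.Opens.range_ι]
      change f (y.left z) ∈ U.1
      rw [← Scheme.Hom.comp_apply, hy2, Scheme.Hom.comp_apply]
      exact (t.app j z).2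
    refine ⟨j, IsOpenImmersion.lift (f ⁻¹ᵁ U.1).ι y.left hrange, ?_, ?_⟩
    · rw [← cancel_mono U.1.ι, Category.assoc, ← hι, ← Category.assoc,
        IsOpenImmersion.lift_fac, hy2]
    · rw [← cancel_mono (f ⁻¹ᵁ U.1).ι, Category.assoc, IsOpenImmersion.lift_fac, hy1]
  exact IsZariskiLocalAtTarget.of_iSup_eq_top (P := @LocallyOfFinitePresentation)
    (fun U : S.affineOpens => U.1) (iSup_affineOpens_eq_top S) key

end Groth.Agent.Lib.Helper14.AS
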