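import Groth.Agent.Lib.Helper14.AlgSpFibrePt3
import Groth.Agent.Lib.Helper14.AlgSpNoethChart
import Groth.Agent.Lib.Helper14.AlgSpLocP
import Groth.Agent.Lib.Helper14.LqfDim0
import Groth.Agent.Lib.Helper21.DVRExt4

universe u
open CategoryTheory CategoryTheory.Limits AlgebraicGeometry Opposite TopologicalSpace

namespace Groth.Agent.Lib.Helper14.AS

open AlgSp

section Top

theorem topologicalKrullDim_le_zero_of_no_specialization (T : Type*) [TopologicalSpace T]
    [QuasiSober T] (h : ∀ t t' : T, t' ⤳ t → t' = t) : topologicalKrullDim T ≤ 0 := by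
  unfold topologicalKrullDim
  rw [Order.krullDim_nonpos_iff_forall_isMax]
  intro A B hAB
  obtain ⟨a, ha⟩ := QuasiSober.sober A.isIrreducible A.isClosed
  obtain ⟨b, hb⟩ := QuasiSober.sober B.isIrreducible B.isClosed
  have haB : a ∈ (B : Set T) := hAB (ha.mem)
  have hba : b ⤳ a := hb.specializes haB
  have e : b = a := h a b hba
  subst e
  have : (B : Set T) = (A : Set T) := by rw [← hb.def, ← ha.def]
  exact le_of_eq (SetLike.coe_injective this)

theorem eq_of_specializes_of_dim_le_zero {T : Type*} [TopologicalSpace T] [T0Space T]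
    (hdim : topologicalKrullDim T ≤ 0) {t t' : T} (h : t' ⤳ t) : t' = t := by
  unfold topologicalKrullDim at hdim
  rw [Order.krullDim_nonpos_iff_forall_isMax] at hdim
  let A : IrreducibleCloseds T := ⟨closure {t}, isIrreducible_singleton.closure, isClosed_closure⟩
  let B : IrreducibleCloseds T := ⟨closure {t'}, isIrreducible_singleton.closure, isClosed_closure⟩
  have hAB : A ≤ B := by
    show closure {t} ⊆ closure {t'}
    exact closure_minimal (Set.singleton_subset_iff.2 (specializes_iff_mem_closure.1 h))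
      isClosed_closure
  have hBA : B ≤ A := hdim A hAB
  have h2 : t ⤳ t' := by
    rw [specializes_iff_mem_closure]
    exact hBA (subset_closure rfl)
  exact (h.antisymm h2).eq

theorem eq_of_specializes_of_dim_le_zero_subset {T : Type*} [TopologicalSpace T] [T0Space T]
    (O : Set T) (hdim : topologicalKrullDim ↥O ≤ 0) {t t' : T} (ht : t ∈ O) (ht' : t' ∈ O)
    (h : t' ⤳ t) : t' = t := by
  have h' : (⟨t', ht'⟩ : ↥O) ⤳ ⟨t, ht⟩ :=
    (Topology.IsInducing.subtypeVal.specializes_iff).1 h
  exact congrArg Subtype.val (eq_of_specializes_of_dim_le_zero hdim h')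

theorem localDim_eq_zero_of_isOpen_singleton {T : Type*} [TopologicalSpace T] (t : T)
    (h : IsOpen ({t} : Set T)) : FlatMor.localDim T t = 0 := by
  unfold FlatMor.localDim
  apply le_antisymm
  · refine (iInf_le _ ⟨⟨{t}, h⟩, rfl⟩).trans ?_
    change topologicalKrullDim ↥({t} : Set T) ≤ 0
    exact topologicalKrullDim_zero_of_discreteTopology _
  · refine le_iInf fun O => ?_
    have : Nonempty ↥(O.1 : Set T) := ⟨⟨t, O.2⟩⟩
    exact topologicalKrullDim_nonneg' _

theorem isOpen_of_isClosed_of_stableUnderGeneralization_top {T : Type*} [TopologicalSpace T]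
    [NoetherianSpace T] [QuasiSober T] (Z : Set T) (hc : IsClosed Z)
    (hg : StableUnderGeneralization Z) : IsOpen Z := by
  have hfin : (irreducibleComponents T).Finite := NoetherianSpace.finite_irreducibleComponents
  have h1 : Zᶜ = ⋃ C ∈ {C ∈ irreducibleComponents T | ¬ C ⊆ Z}, C := by
    ext t
    simp only [Set.mem_compl_iff, Set.mem_iUnion, Set.mem_setOf_eq, exists_prop]
    constructor
    · intro ht
      exact ⟨irreducibleComponent t, ⟨irreducibleComponent_mem_irreducibleComponents t,
        fun hsub => ht (hsub mem_irreducibleComponent)⟩, mem_irreducibleComponent⟩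
    · rintro ⟨C, ⟨hC, hCZ⟩, htC⟩ htZ
      have hCirr : IsIrreducible C := hC.1
      have hCcl : IsClosed C := isClosed_of_mem_irreducibleComponents C hC
      obtain ⟨η, hη⟩ := QuasiSober.sober hCirr hCcl
      have hηt : η ⤳ t := hη.specializes htC
      have hηZ : η ∈ Z := hg hηt htZ
      apply hCZ
      rw [← hη.def]
      exact closure_minimal (Set.singleton_subset_iff.2 hηZ) hc
  rw [← isClosed_compl_iff, h1]
  refine Set.Finite.isClosed_biUnion (hfin.subset fun C hC => hC.1) ?_
  intro C hC
  exact isClosed_of_mem_irreducibleComponents C hC.1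

end Top

section Sch

variable {U : Scheme.{u}}

theorem isOpen_singleton_of_dim_le_zero [IsLocallyNoetherian U] (O : U.Opens)
    (hdim : topologicalKrullDim ↥(O : Set ↥U) ≤ 0) {u : ↥U} (hu : u ∈ O) :
    IsOpen ({u} : Set ↥U) := by
  have hArt : IsLocallyArtinian (O : Scheme.{u}) :=
    IsLocallyArtinian.of_topologicalKrullDim_le_zero hdim
  have hdisc : DiscreteTopology ↥(O : Scheme.{u}) := inferInstance
  have h1 : IsOpen ({⟨u, hu⟩} : Set ↥O) := @isOpen_discrete _ _ hdisc _
  have h2 := O.2.isOpenMap_subtype_val _ h1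
  simpa using h2

theorem isOpen_singleton_of_no_specialization [IsLocallyNoetherian U] (O : U.Opens)
    (h : ∀ w ∈ O, ∀ w' ∈ O, w' ⤳ w → w' = w) {u : ↥U} (hu : u ∈ O) :
    IsOpen ({u} : Set ↥U) := by
  have : QuasiSober ↥(O : Set ↥U) := O.2.isOpenEmbedding_subtypeVal.quasiSober
  refine isOpen_singleton_of_dim_le_zero O ?_ hu
  refine topologicalKrullDim_le_zero_of_no_specialization _ fun t t' hs => ?_
  exact Subtype.ext (h t.1 t.2 t'.1 t'.2 (hs.map continuous_subtype_val))

theorem isOpen_singleton_of_localDim_eq_zero [IsLocallyNoetherian U] (u : ↥U)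
    (h : FlatMor.localDim ↥U u = 0) : IsOpen ({u} : Set ↥U) := by
  obtain ⟨O, huO, hO⟩ := exists_opens_dim_le_zero_of_localDim_eq_zero _ _ h
  exact isOpen_singleton_of_dim_le_zero O hO huO

theorem isOpen_of_isClosed_of_stableUnderGeneralization [IsLocallyNoetherian U] (Z : Set ↥U)
    (hc : IsClosed Z) (hg : StableUnderGeneralization Z) : IsOpen Z := by
  rw [isOpen_iff_forall_mem_open]
  intro z hz
  obtain ⟨W₁, hW₁, hzW₁, -⟩ := Opens.isBasis_iff_nbhd.mp U.isBasis_affineOpens
    (show z ∈ (⊤ : U.Opens) from trivial)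
  replace hW₁ : IsAffineOpen W₁ := hW₁
  have hN : IsNoetherianRing Γ(U, W₁) := IsLocallyNoetherian.component_noetherian ⟨W₁, hW₁⟩
  have : NoetherianSpace ↥(W₁ : Set ↥U) := noetherianSpace_of_isAffineOpen W₁ hW₁
  have : QuasiSober ↥(W₁ : Set ↥U) := W₁.isOpen.isOpenEmbedding_subtypeVal.quasiSober
  let Z' : Set ↥(W₁ : Set ↥U) := Subtype.val ⁻¹' Z
  have hZ'o : IsOpen Z' := by
    refine isOpen_of_isClosed_of_stableUnderGeneralization_top Z'
      (hc.preimage continuous_subtype_val) ?_
    intro t t' hs ht
    exact hg (hs.map continuous_subtype_val) ht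
  refine ⟨Subtype.val '' Z', ?_, W₁.2.isOpenMap_subtype_val _ hZ'o, ⟨⟨z, hzW₁⟩, hz, rfl⟩⟩
  rintro _ ⟨t, ht, rfl⟩
  exact ht

/-- In a Jacobson locally Noetherian scheme, an open set with no nontrivial specializations
between its points is closed. -/
theorem isClosed_of_isOpen_of_no_specialization [IsLocallyNoetherian U] [JacobsonSpace ↥U]
    (O : U.Opens) (h : ∀ w ∈ O, ∀ w' ∈ O, w' ⤳ w → w' = w) : IsClosed (O : Set ↥U) := by
  rw [← closure_subset_iff_isClosed]
  intro z hz
  have hz' : z ∈ closure ((O : Set ↥U) ∩ Set.univ) := by rwa [Set.inter_univ]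
  obtain ⟨t, ⟨htO, -⟩, htz⟩ :=
    Groth.Agent.Lib.Helper21.DVRExt.exists_specializes_of_mem_closure_scheme O.2 isClosed_univ hz'
  have hto : IsOpen ({t} : Set ↥U) := isOpen_singleton_of_no_specialization O h htO
  have htc : IsClosed ({t} : Set ↥U) :=
    isClosed_singleton_of_isLocallyClosed_singleton hto.isLocallyClosed
  have : z ∈ ({t} : Set ↥U) := by
    have := specializes_iff_mem_closure.1 htz
    rwa [htc.closure_eq] at this
  rw [Set.mem_singleton_iff] at this
  rw [this]
  exact htO

end Sch


section Sp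

variable {S : Scheme.{u}}

set_option backward.isDefEq.respectTransparency.types false in
/-- If an open subset `O` of `|X|` has no nontrivial specializations, then every point of `O` is
open (for `X` locally Noetherian). -/
theorem isOpen_singleton_ofPt_of_no_specialization {X : Sp S} (hN : IsLocNoethSp X)
    {U : Over S} (a : (yon S).obj U ⟶ X) (ha : RepWith @Etale a) (O : Set (Points X))
    (hO : IsOpen O) (hsp : ∀ x ∈ O, ∀ x' ∈ O, x' ⤳ x → x' = x) (u : ↥U.left)
    (hu : Points.ofPt a u ∈ O) : IsOpen ({Points.ofPt a u} : Set (Points X)) := by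
  have : IsLocallyNoetherian U.left := isLocallyNoetherian_of_etale_over hN a ha
  let W : U.left.Opens := ⟨Points.ofPt a ⁻¹' O, hO.preimage (Points.continuous_ofPt a)⟩
  have hW : ∀ w ∈ W, ∀ w' ∈ W, w' ⤳ w → w' = w := by
    intro w hw w' hw' hs
    have he : Points.ofPt a w' = Points.ofPt a w :=
      hsp _ hw _ hw' (hs.map (Points.continuous_ofPt a))
    exact (eq_of_specializes_of_isLocNoethSp hN a ha w w' he.symm hs).symm
  have h1 : IsOpen ({u} : Set ↥U.left) := isOpen_singleton_of_no_specialization W hW hu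
  have h2 := isOpenMap_ofPt a ha _ h1
  rwa [Set.image_singleton] at h2

set_option backward.isDefEq.respectTransparency.types false in
theorem isOpen_singleton_iff_isClosed_and_forall_specializes {X : Sp S} (hX : IsAlgSpace X)
    (hN : IsLocNoethSp X)
    (hJ : ∀ (U : Over S) (a : (yon S).obj U ⟶ X), RepWith @Etale a → JacobsonSpace ↥U.left)
    (x : Points X) :
    IsOpen ({x} : Set (Points X)) ↔
      (IsClosed ({x} : Set (Points X)) ∧ ∀ x' : Points X, x' ⤳ x → x' = x) := by
  obtain ⟨U, a, hae, has⟩ := hX.atlas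
  have hq := isQuotientMap_ofPt a hae has
  have : IsLocallyNoetherian U.left := isLocallyNoetherian_of_etale_over hN a hae
  have : JacobsonSpace ↥U.left := hJ U a hae
  constructor
  · intro h
    refine ⟨?_, fun x' hs => hs.mem_open h rfl⟩
    rw [← hq.isClosed_preimage]
    let W : U.left.Opens := ⟨Points.ofPt a ⁻¹' {x}, h.preimage (Points.continuous_ofPt a)⟩
    have hW : ∀ w ∈ W, ∀ w' ∈ W, w' ⤳ w → w' = w := by
      intro w hw w' hw' hs
      have he : Points.ofPt a w = Points.ofPt a w' := by
        have h1 : Points.ofPt a w = x := hw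
        have h2 : Points.ofPt a w' = x := hw'
        rw [h1, h2]
      exact (eq_of_specializes_of_isLocNoethSp hN a hae w w' he hs).symm
    exact isClosed_of_isOpen_of_no_specialization W hW
  · rintro ⟨hc, hg⟩
    have hZc : IsClosed (Points.ofPt a ⁻¹' {x}) := hc.preimage (Points.continuous_ofPt a)
    have hZg : StableUnderGeneralization (Points.ofPt a ⁻¹' {x}) := by
      intro t t' hs ht
      have h1 : Points.ofPt a t = x := ht
      have := hg (Points.ofPt a t') (h1 ▸ hs.map (Points.continuous_ofPt a))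
      exact this
    have hZo := isOpen_of_isClosed_of_stableUnderGeneralization _ hZc hZg
    have h2 := isOpenMap_ofPt a hae _ hZo
    rwa [Set.image_preimage_eq _ (ofPt_surjective_of_repWith has)] at h2

set_option backward.isDefEq.respectTransparency.types false in
theorem isOpen_singleton_iff_hasAt_localDim {X : Sp S} (hX : IsAlgSpace X)
    (hN : IsLocNoethSp X) (x : Points X) :
    IsOpen ({x} : Set (Points X)) ↔ HasAt (fun U u => FlatMor.localDim ↥U u = 0) X x := by
  constructor
  · intro h
    obtain ⟨U, a, hae, has⟩ := hX.atlas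
    obtain ⟨u, hu⟩ := ofPt_surjective_of_repWith has x
    have : IsLocallyNoetherian U.left := isLocallyNoetherian_of_etale_over hN a hae
    let W : U.left.Opens := ⟨Points.ofPt a ⁻¹' {x}, h.preimage (Points.continuous_ofPt a)⟩
    have hW : ∀ w ∈ W, ∀ w' ∈ W, w' ⤳ w → w' = w := by
      intro w hw w' hw' hs
      have he : Points.ofPt a w = Points.ofPt a w' := by
        have h1 : Points.ofPt a w = x := hw
        have h2 : Points.ofPt a w' = x := hw'
        rw [h1, h2]
      exact (eq_of_specializes_of_isLocNoethSp hN a hae w w' he hs).symm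
    have h1 : IsOpen ({u} : Set ↥U.left) := isOpen_singleton_of_no_specialization W hW hu
    exact ⟨U, a, u, hae, hu, localDim_eq_zero_of_isOpen_singleton u h1⟩
  · rintro ⟨U, a, u, hae, hu, hd⟩
    have : IsLocallyNoetherian U.left := isLocallyNoetherian_of_etale_over hN a hae
    have h1 : IsOpen ({u} : Set ↥U.left) := isOpen_singleton_of_localDim_eq_zero u hd
    have h2 := isOpenMap_ofPt a hae _ h1
    rwa [Set.image_singleton, hu] at h2

theorem localDim_points_eq_zero_iff_of_isDecent {X : Sp S} (hX : IsAlgSpace X)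
    (hN : IsLocNoethSp X) (hd : IsDecent X) (x : Points X) :
    FlatMor.localDim (Points X) x = 0 ↔ IsOpen ({x} : Set (Points X)) := by
  constructor
  · intro h
    have : T0Space (Points X) := t0Space_points_of_isDecent hX hd
    obtain ⟨O, hxO, hO⟩ := exists_opens_dim_le_zero_of_localDim_eq_zero _ _ h
    obtain ⟨U, a, hae, has⟩ := hX.atlas
    obtain ⟨u, hu⟩ := ofPt_surjective_of_repWith has x
    have := isOpen_singleton_ofPt_of_no_specialization hN a hae (O : Set (Points X)) O.2
      (fun x hx x' hx' hs => eq_of_specializes_of_dim_le_zero_subset _ hO hx hx' hs) u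
      (by rw [hu]; exact hxO)
    rwa [hu] at this
  · intro h
    exact localDim_eq_zero_of_isOpen_singleton x h


set_option backward.isDefEq.respectTransparency.types false in
/-- Charts of a space locally of finite type over a Jacobson locally Noetherian scheme. -/
theorem chart_props_of_locP_lft_over {X : Sp S} (T : Over S) [IsLocallyNoetherian T.left]
    [JacobsonSpace ↥T.left] (g : X ⟶ (yon S).obj T) (hg : LocP @LocallyOfFiniteType g)
    (U : Over S) (a : (yon S).obj U ⟶ X) (ha : RepWith @Etale a) :
    JacobsonSpace ↥U.left ∧ IsLocallyNoetherian U.left := by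
  obtain ⟨h, hh⟩ := (yon S).map_surjective (a ≫ g)
  have hft : LocallyOfFiniteType h.left :=
    hg a (𝟙 _) h ha (repWith_id _ _) (by rw [hh, Category.comp_id])
  exact ⟨LocallyOfFiniteType.jacobsonSpace h.left, LocallyOfFiniteType.isLocallyNoetherian h.left⟩

set_option backward.isDefEq.respectTransparency.types false in
theorem isLocNoethSp_of_locP_lft_over {X : Sp S} (hX : IsAlgSpace X) (T : Over S)
    [IsLocallyNoetherian T.left] (g : X ⟶ (yon S).obj T) (hg : LocP @LocallyOfFiniteType g) :
    IsLocNoethSp X :=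
  isLocNoethSp_of_locP_lft hX g hg ⟨T, 𝟙 _, repWith_id _ _, repWith_id _ _, inferInstance⟩

set_option backward.isDefEq.respectTransparency.types false in
theorem dim_chart_le_zero_of_no_specialization {X : Sp S} (hN : IsLocNoethSp X)
    (hsp : ∀ x x' : Points X, x' ⤳ x → x' = x) {U : Over S} (a : (yon S).obj U ⟶ X)
    (ha : RepWith @Etale a) : topologicalKrullDim ↥U.left ≤ 0 := by
  refine topologicalKrullDim_le_zero_of_no_specialization _ fun t t' hs => ?_
  have he : Points.ofPt a t' = Points.ofPt a t := hsp _ _ (hs.map (Points.continuous_ofPt a))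
  exact (eq_of_specializes_of_isLocNoethSp hN a ha t t' he.symm hs).symm

theorem dim_nonneg_of_nonempty {X : Sp S} (hX : IsAlgSpace X) [Nonempty (Points X)] :
    0 ≤ AlgSp.dim X := by
  obtain ⟨x⟩ := ‹Nonempty (Points X)›
  obtain ⟨U, a, hae, has⟩ := hX.atlas
  obtain ⟨u, hu⟩ := ofPt_surjective_of_repWith has x
  have : Nonempty ↥U.left := ⟨u⟩
  unfold AlgSp.dim
  exact le_iSup_of_le U (le_iSup_of_le a (le_iSup_of_le hae (topologicalKrullDim_nonneg' _)))

set_option backward.isDefEq.respectTransparency.types false in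
theorem discreteTopology_points_iff_dim_eq_zero {X : Sp S} (hX : IsAlgSpace X)
    (hN : IsLocNoethSp X) [Nonempty (Points X)] :
    DiscreteTopology (Points X) ↔ AlgSp.dim X = 0 := by
  constructor
  · intro hD
    apply le_antisymm _ (dim_nonneg_of_nonempty hX)
    unfold AlgSp.dim
    refine iSup_le fun U => iSup_le fun a => iSup_le fun ha => ?_
    exact dim_chart_le_zero_of_no_specialization hN (fun x x' hs => hs.eq) a ha
  · intro h0
    rw [discreteTopology_iff_isOpen_singleton]
    intro x
    obtain ⟨U, a, hae, has⟩ := hX.atlas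
    obtain ⟨u, hu⟩ := ofPt_surjective_of_repWith has x
    have : IsLocallyNoetherian U.left := isLocallyNoetherian_of_etale_over hN a hae
    have hU : topologicalKrullDim ↥U.left ≤ 0 := by
      rw [← h0]
      unfold AlgSp.dim
      exact le_iSup_of_le U (le_iSup_of_le a (le_iSup_of_le hae le_rfl))
    have hU' : topologicalKrullDim ↥((⊤ : U.left.Opens) : Set ↥U.left) ≤ 0 :=
      (Topology.IsInducing.topologicalKrullDim_le Topology.IsInducing.subtypeVal).trans hU
    have h1 : IsOpen ({u} : Set ↥U.left) := isOpen_singleton_of_dim_le_zero ⊤ hU' trivial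
    have h2 := isOpenMap_ofPt a hae _ h1
    rwa [Set.image_singleton, hu] at h2

theorem discreteTopology_points_of_dim_points_le_zero {X : Sp S} (hX : IsAlgSpace X)
    (hN : IsLocNoethSp X) (hd : IsDecent X) (h0 : topologicalKrullDim (Points X) ≤ 0) :
    DiscreteTopology (Points X) := by
  have : T0Space (Points X) := t0Space_points_of_isDecent hX hd
  rw [discreteTopology_iff_isOpen_singleton]
  intro x
  obtain ⟨U, a, hae, has⟩ := hX.atlas
  obtain ⟨u, hu⟩ := ofPt_surjective_of_repWith has x
  have := isOpen_singleton_ofPt_of_no_specialization hN a hae Set.univ isOpen_univ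
    (fun x _ x' _ hs => eq_of_specializes_of_dim_le_zero h0 hs) u trivial
  rwa [hu] at this

set_option backward.isDefEq.respectTransparency.types false in
theorem dim_eq_zero_of_finite_of_isDecent {X : Sp S} (hX : IsAlgSpace X)
    (hJ : ∀ (U : Over S) (a : (yon S).obj U ⟶ X), RepWith @Etale a → JacobsonSpace ↥U.left)
    (hd : IsDecent X) [Nonempty (Points X)] [Finite (Points X)] : AlgSp.dim X = 0 := by
  apply le_antisymm _ (dim_nonneg_of_nonempty hX)
  unfold AlgSp.dim
  refine iSup_le fun U => iSup_le fun a => iSup_le fun ha => ?_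
  refine topologicalKrullDim_le_zero_of_no_specialization _ fun t t' hs => ?_
  obtain ⟨N, hNa, htN, -⟩ := exists_isAffineOpen_mem_and_subset (x := t) (U := ⊤) trivial
  have ht'N : t' ∈ N := hs.mem_open N.2 htN
  let V : Over S := Over.mk (N.ι ≫ U.hom)
  let ι : V ⟶ U := Over.homMk N.ι rfl
  have hb : RepWith @Etale ((yon S).map ι ≫ a) :=
    repWith_comp _ ((repWith_yon_map_iff _ _).2 (inferInstance : Etale N.ι)) ha
  have hfinV : Finite ↥V.left := by
    have h1 : (Set.univ : Set ↥V.left) = ⋃ x : Points X, Points.ofPt ((yon S).map ι ≫ a) ⁻¹' {x} := by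
      ext v; simp
    rw [← Set.finite_univ_iff, h1]
    exact Set.finite_iUnion fun x => finite_fibre_of_isDecent hd x V _ hNa hb
  have : JacobsonSpace ↥V.left := hJ V _ hb
  have : DiscreteTopology ↥V.left := inferInstance
  obtain ⟨n, hn⟩ : ∃ n : ↥V.left, ι.left n = t := ⟨⟨t, htN⟩, rfl⟩
  obtain ⟨n', hn'⟩ : ∃ n : ↥V.left, ι.left n = t' := ⟨⟨t', ht'N⟩, rfl⟩
  have hs' : n' ⤳ n := by
    have hι : Topology.IsInducing ι.left := N.ι.isOpenEmbedding.isInducing
    rw [← hι.specializes_iff, hn, hn']
    exact hs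
  rw [← hn, ← hn', hs'.eq]

end Sp

end Groth.Agent.Lib.Helper14.AS
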