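import Groth.Prelude.Def_AlgSp4
import Groth.Agent.Lib.Helper14.LimY
import Mathlib.RingTheory.Smooth.NoetherianDescent
universe u
open CategoryTheory CategoryTheory.Limits AlgebraicGeometry Opposite TensorProduct
namespace Groth.Agent.Lib.Helper14.AS
variable {S : Scheme.{u}}
open AlgSp

/-- an etale algebra is the base change of an etale algebra over a finitely presented
`ℤ`-algebra -/
theorem exists_etale_model_ring (A B : CommRingCat.{u}) (φ : A ⟶ B) (hφ : φ.hom.Etale) :
    ∃ (A₀ B₀ : CommRingCat.{u}) (α : A₀ ⟶ A) (γ : A₀ ⟶ B₀) (β : B₀ ⟶ B),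
      (∀ g : CommRingCat.of (ULift.{u} ℤ) ⟶ A₀, g.hom.FinitePresentation) ∧ γ.hom.Etale ∧
      IsPushout α γ φ β := by
  algebraize [φ.hom]
  have hE : Algebra.Etale A B := hφ
  obtain ⟨A₀, B₀, _, _, hfg, hB₀, ⟨e⟩⟩ := Algebra.Etale.exists_subalgebra_fg ℤ A B
  have hpo := CommRingCat.isPushout_tensorProduct A₀ A B₀
  refine ⟨.of A₀, .of B₀, CommRingCat.ofHom (algebraMap A₀ A),
    CommRingCat.ofHom (algebraMap A₀ B₀),
    CommRingCat.ofHom ((e.symm.toAlgHom.toRingHom).comp
      (Algebra.TensorProduct.includeRight (R := A₀) (A := A) (B := B₀)).toRingHom), ?_, ?_, ?_⟩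
  · intro g
    have hN : IsNoetherianRing (ULift.{u} ℤ) :=
      isNoetherianRing_of_ringEquiv ℤ ULift.ringEquiv.symm
    rw [← RingHom.FinitePresentation.of_finiteType]
    letI alg : Algebra (ULift.{u} ℤ) A₀ := g.hom.toAlgebra
    have hft : Algebra.FiniteType ℤ A₀ := (Subalgebra.fg_iff_finiteType A₀).mp hfg
    have hst : @IsScalarTower ℤ (ULift.{u} ℤ) A₀ _ alg.toSMul _ := by
      refine @IsScalarTower.mk ℤ (ULift.{u} ℤ) A₀ _ alg.toSMul _ fun x y z => ?_
      rw [@Algebra.smul_def _ _ _ _ alg, @Algebra.smul_def _ _ _ _ alg, map_zsmul, smul_mul_assoc]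
    exact Algebra.FiniteType.of_restrictScalars_finiteType (R := ℤ) (S := ULift.{u} ℤ) (A := A₀)
  · exact RingHom.etale_algebraMap.2 hB₀
  · refine hpo.of_iso (Iso.refl _) (Iso.refl _) (Iso.refl _)
      (e.symm.toRingEquiv.toCommRingCatIso) ?_ ?_ ?_ ?_
    · simp
    · simp
    · ext a
      simp only [Iso.refl_hom, Category.id_comp, CommRingCat.hom_comp, CommRingCat.hom_ofHom,
        RingHom.coe_comp, Function.comp_apply, RingEquiv.toCommRingCatIso_hom]
      change e.symm (a ⊗ₜ[A₀] (1 : B₀)) = algebraMap A B a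
      rw [show a ⊗ₜ[A₀] (1 : B₀) = algebraMap A (A ⊗[A₀] B₀) a from rfl, e.symm.commutes]
    · ext b
      simp

set_option backward.isDefEq.respectTransparency.types false in
/-- an etale morphism of affine schemes over an affine scheme `Sa` locally of finite presentation
over `S` is the base change of an etale morphism of affine schemes locally of finite presentation
over `S` -/
theorem exists_etale_model {T U Sa : Over S} [IsAffine T.left] [IsAffine U.left]
    [IsAffine Sa.left] [LocallyOfFinitePresentation Sa.hom] (tS : T ⟶ Sa) (u : U ⟶ T)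
    [Etale u.left] :
    ∃ (P E : Over S) (ε : E ⟶ P) (x : T ⟶ P) (y : U ⟶ E), IsAffine P.left ∧ IsAffine E.left ∧
      LocallyOfFinitePresentation P.hom ∧ Etale ε.left ∧ IsPullback u y x ε := by
  have hφ : (u.left.appTop).hom.Etale :=
    (HasRingHomProperty.iff_of_isAffine (P := @Etale)).1 inferInstance
  obtain ⟨A₀, B₀, α, γ, β, hfp, hγ, hpo⟩ := exists_etale_model_ring _ _ u.left.appTop hφ
  have H := isPullback_SpecMap_of_isPushout α γ u.left.appTop β hpo
  let tP : Spec A₀ ⟶ Spec (.of (ULift.{u} ℤ)) := specULiftZIsTerminal.from _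
  let tSa : Sa.left ⟶ Spec (.of (ULift.{u} ℤ)) := specULiftZIsTerminal.from _
  have hlfp : LocallyOfFinitePresentation tP := by
    rw [← Spec.map_preimage tP]
    exact (HasRingHomProperty.Spec_iff (P := @LocallyOfFinitePresentation)).2 (hfp _)
  have hγe : Etale (Spec.map γ) := (HasRingHomProperty.Spec_iff (P := @Etale)).2 hγ
  let x₀ : T.left ⟶ Spec A₀ := T.left.toSpecΓ ≫ Spec.map α
  let y₀ : U.left ⟶ Spec B₀ := U.left.toSpecΓ ≫ Spec.map β
  have sq₀ : IsPullback u.left y₀ x₀ (Spec.map γ) := by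
    refine IsPullback.of_iso H (asIso U.left.toSpecΓ).symm (asIso T.left.toSpecΓ).symm
      (Iso.refl _) (Iso.refl _) ?_ ?_ ?_ ?_
    · simp only [Iso.symm_hom, asIso_inv]
      rw [IsIso.comp_inv_eq, Category.assoc, Scheme.toSpecΓ_naturality, IsIso.inv_hom_id_assoc]
    · simp [y₀]
    · simp [x₀]
    · simp
  let x' : T.left ⟶ pullback tP tSa := pullback.lift x₀ tS.left (specULiftZIsTerminal.hom_ext _ _)
  let P : Over S := Over.mk (pullback.snd tP tSa ≫ Sa.hom)
  let x : T ⟶ P := Over.homMk x' (by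
    change x' ≫ pullback.snd tP tSa ≫ Sa.hom = T.hom
    rw [← Category.assoc, pullback.lift_snd, Over.w])
  let εa := pullback.fst (pullback.fst tP tSa) (Spec.map γ)
  let E : Over S := Over.mk (εa ≫ P.hom)
  let ε : E ⟶ P := Over.homMk εa rfl
  have hy' : (u.left ≫ x') ≫ pullback.fst tP tSa = y₀ ≫ Spec.map γ := by
    rw [Category.assoc, pullback.lift_fst, sq₀.w]
  let y' : U.left ⟶ pullback (pullback.fst tP tSa) (Spec.map γ) :=
    pullback.lift (u.left ≫ x') y₀ hy'
  let y : U ⟶ E := Over.homMk y' (by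
    change y' ≫ εa ≫ P.hom = U.hom
    rw [← Category.assoc, pullback.lift_fst, Category.assoc]
    change u.left ≫ x.left ≫ P.hom = U.hom
    rw [Over.w, Over.w])
  have sq : IsPullback y' u.left εa x' := by
    refine IsPullback.of_right (h₁₂ := pullback.snd (pullback.fst tP tSa) (Spec.map γ))
      (h₂₂ := pullback.fst tP tSa) (v₁₃ := Spec.map γ) ?_ (pullback.lift_fst _ _ _)
      (IsPullback.of_hasPullback _ _).flip
    rw [pullback.lift_snd, pullback.lift_fst]
    exact sq₀.flip
  refine ⟨P, E, ε, x, y, ?_, ?_, ?_, ?_, ?_⟩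
  · exact inferInstanceAs (IsAffine (pullback tP tSa))
  · exact inferInstanceAs (IsAffine (pullback (pullback.fst tP tSa) (Spec.map γ)))
  · change LocallyOfFinitePresentation (pullback.snd tP tSa ≫ Sa.hom)
    infer_instance
  · change Etale (pullback.fst (pullback.fst tP tSa) (Spec.map γ))
    infer_instance
  · exact IsPullback.of_map (Over.forget S) (Over.OverMorphism.ext sq.flip.w) sq.flip

end Groth.Agent.Lib.Helper14.AS
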