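import Groth.Prelude.Def_AlgSp4
import Groth.Agent.Lib.Helper14.LimP
import Groth.Agent.Lib.Helper14.AlgSpMisc2
import Groth.Agent.Lib.Helper14.GrpNear
import Groth.Agent.Lib.Helper14.ElemDist
import Groth.Agent.S9192
universe u
open CategoryTheory CategoryTheory.Limits AlgebraicGeometry Opposite
namespace Groth.Agent.Lib.Helper14.AS
variable {S : Scheme.{u}}
open AlgSp

theorem schDescends_etale : SchDescends @Etale.{u} := by
  intro I _ _ D c hc _ i₀ _ _ X₀ Y₀ f₀ g₀ _ _ _ _ _ X Y f g qY qX hY hX hP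
  have : Etale f := hP
  exact Groth.Agent.S9192.result D c hc i₀ f₀ g₀ f g qY qX hY hX

theorem univSp_baseChange (Q : MorphismProperty (Sp S)) {A B A' B' : Sp S} {f : A ⟶ B}
    {g : B' ⟶ B} {fst : A' ⟶ A} {snd : A' ⟶ B'} (sq : IsPullback fst snd f g)
    (h : UnivSp Q f) : UnivSp Q snd := by
  intro Z Z' hZ t a q sq'
  exact h hZ (t ≫ g) (a ≫ fst) q (sq'.paste_horiz sq)

theorem isSurjectiveMor_baseChange {A B A' B' : Sp S} {f : A ⟶ B}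
    {g : B' ⟶ B} {fst : A' ⟶ A} {snd : A' ⟶ B'} (sq : IsPullback fst snd f g)
    (h : IsSurjectiveMor f) : IsSurjectiveMor snd := by
  intro y
  obtain ⟨x, hx⟩ := h (Points.map g y)
  obtain ⟨z, -, hz⟩ := points_exists_of_isPullback sq x y hx
  exact ⟨z, hz⟩

theorem isUnivInjectiveMor_of_mono {X Y : Sp S} (f : X ⟶ Y) [Mono f] : IsUnivInjectiveMor f :=
  isUnivInjectiveMor_of_fieldInj (fun _ _ _ _ _ h => (cancel_mono f).1 h)

theorem isIso_of_etale_surjective_univInjective {X Y : Sp S} (hX : IsAlgSpace X)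
    (hY : IsAlgSpace Y) (f : X ⟶ Y) (het : IsEtaleMor f) (hs : IsSurjectiveMor f)
    (hinj : IsUnivInjectiveMor f) : IsIso f :=
  Groth.Agent.Lib.Helper8.AlgSpOpen.isIso_of_openImmersion_of_isSurjectiveMor f
    (repWith_isOpenImmersion_of_etale_univInjective hX hY f het hinj) hs

section Lim

variable {I : Type u} [SmallCategory I] [IsCofiltered I]

omit [IsCofiltered I] in
/-- stagewise conclusions persist along refinements of the index -/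
theorem stage_mono (Q : MorphismProperty (Sp S))
    (hQ : ∀ ⦃A B A' B' : Sp S⦄ (f : A ⟶ B) (g : B' ⟶ B) (fst : A' ⟶ A) (snd : A' ⟶ B'),
      IsAlgSpace A → IsAlgSpace B → IsAlgSpace B' → IsPullback fst snd f g → Q f → Q snd)
    (D : I ⥤ Sp S) (hD : ∀ i, IsAlgSpace (D.obj i)) {i₀ i i' : I} (φ : i ⟶ i₀) (ψ : i' ⟶ i)
    (X₀ Y₀ : Space S) (f₀ : X₀.obj ⟶ Y₀.obj) (b₀ : Y₀.obj ⟶ D.obj i₀)
    (h : ∀ (Xi Yi : Sp S) (fi : Xi ⟶ Yi) (pYi : Yi ⟶ Y₀.obj) (qYi : Yi ⟶ D.obj i)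
      (_ : IsPullback pYi qYi b₀ (D.map φ)) (pXi : Xi ⟶ X₀.obj) (_ : IsPullback pXi fi f₀ pYi),
      Q fi) :
    ∀ (Xi Yi : Sp S) (fi : Xi ⟶ Yi) (pYi : Yi ⟶ Y₀.obj) (qYi : Yi ⟶ D.obj i')
      (_ : IsPullback pYi qYi b₀ (D.map (ψ ≫ φ))) (pXi : Xi ⟶ X₀.obj)
      (_ : IsPullback pXi fi f₀ pYi), Q fi := by
  intro Xi' Yi' fi' pYi' qYi' hYi' pXi' hXi'
  have sqY := IsPullback.of_hasPullback b₀ (D.map φ)
  have sqX := IsPullback.of_hasPullback f₀ (pullback.fst b₀ (D.map φ))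
  have hQfi : Q (pullback.snd f₀ (pullback.fst b₀ (D.map φ))) := h _ _ _ _ _ sqY _ sqX
  have hYialg : IsAlgSpace (pullback b₀ (D.map φ)) :=
    isAlgSpace_of_isPullback (repDiag_of_isAlgSpace (hD i₀)) Y₀.property (hD i) sqY
  have hXialg : IsAlgSpace (pullback f₀ (pullback.fst b₀ (D.map φ))) :=
    isAlgSpace_of_isPullback (repDiag_of_isAlgSpace Y₀.property) X₀.property hYialg sqX
  have hYi'alg : IsAlgSpace Yi' :=
    isAlgSpace_of_isPullback (repDiag_of_isAlgSpace (hD i₀)) Y₀.property (hD i') hYi'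
  let r : Yi' ⟶ pullback b₀ (D.map φ) := pullback.lift pYi' (qYi' ≫ D.map ψ) (by
    rw [hYi'.w, Category.assoc, ← D.map_comp])
  have hr1 : r ≫ pullback.fst b₀ (D.map φ) = pYi' := pullback.lift_fst _ _ _
  let s : Xi' ⟶ pullback f₀ (pullback.fst b₀ (D.map φ)) := pullback.lift pXi' (fi' ≫ r) (by
    rw [hXi'.w, Category.assoc, hr1])
  have hs1 : s ≫ pullback.fst f₀ (pullback.fst b₀ (D.map φ)) = pXi' := pullback.lift_fst _ _ _
  have hs2 : s ≫ pullback.snd f₀ (pullback.fst b₀ (D.map φ)) = fi' ≫ r := pullback.lift_snd _ _ _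
  have big : IsPullback (s ≫ pullback.fst f₀ (pullback.fst b₀ (D.map φ))) fi' f₀
      (r ≫ pullback.fst b₀ (D.map φ)) := by
    rw [hs1, hr1]; exact hXi'
  have sq : IsPullback s fi' (pullback.snd f₀ (pullback.fst b₀ (D.map φ))) r :=
    IsPullback.of_right big hs2 sqX
  exact hQ _ r s fi' hXialg hYialg hYi'alg sq hQfi

set_option backward.isDefEq.respectTransparency.types false in
theorem descend_iso_limit_qc [QuasiSeparatedSpace S]
    (D : I ⥤ Sp S) (hD : ∀ i, IsAlgSpace (D.obj i))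
    (hDa : ∀ (i j : I) (φ : i ⟶ j), IsAffineMor (D.map φ))
    (c : Cone D) (hc : IsLimit c) (i₀ : I)
    (X₀ Y₀ : Space S) (f₀ : X₀.obj ⟶ Y₀.obj) (b₀ : Y₀.obj ⟶ D.obj i₀)
    (hXqc : IsQuasiCompactSp X₀.obj) (hXqs : IsQuasiSeparatedSp X₀.obj)
    (hYqc : IsQuasiCompactSp Y₀.obj)
    (hqcf : IsQuasiCompactMor f₀)
    (X Y : Sp S) (f : X ⟶ Y) (pY : Y ⟶ Y₀.obj) (qY : Y ⟶ c.pt)
    (hY : IsPullback pY qY b₀ (c.π.app i₀)) (pX : X ⟶ X₀.obj) (hX : IsPullback pX f f₀ pY)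
    [IsIso f] (hf₀ : LocP @LocallyOfFinitePresentation f₀) :
    ∃ (i : I) (φ : i ⟶ i₀), ∀ (Xi Yi : Sp S) (fi : Xi ⟶ Yi) (pYi : Yi ⟶ Y₀.obj)
      (qYi : Yi ⟶ D.obj i)
      (_ : IsPullback pYi qYi b₀ (D.map φ)) (pXi : Xi ⟶ X₀.obj) (_ : IsPullback pXi fi f₀ pYi),
      IsIso fi := by
  obtain ⟨i₁, φ₁, h₁⟩ := descend_locP_limit_qc etLocal_etale schDescends_etale D hDa c hc i₀
    X₀ Y₀ f₀ b₀ hXqc hYqc hqcf X Y f pY qY hY pX hX
    (locP_etale_of_isEtaleMor (isEtaleMor_of_isIso f)) hf₀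
  obtain ⟨i₂, φ₂, h₂⟩ := descend_surjective_limit_qc D hDa c hc i₀ X₀ Y₀ f₀ b₀ hXqc hYqc hqcf
    X Y f pY qY hY pX hX (points_map_surjective_of_isIso f) hf₀
  have hlft : LocP @LocallyOfFiniteType f₀ :=
    locP_mono (fun _ _ k hk => by
      have : LocallyOfFinitePresentation k := hk
      infer_instance) hf₀
  obtain ⟨i₃, φ₃, h₃⟩ := descend_univInj_limit_qc D hD hDa c hc i₀ X₀ Y₀ f₀ b₀ hXqc hXqs hqcf
    X Y f pY qY hY pX hX (isUnivInjectiveMor_of_mono f) hlft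
  obtain ⟨j, ψ₁, ψ₂, ψ₃, -⟩ : ∃ (j : Over i₀) (_ : j ⟶ Over.mk φ₁) (_ : j ⟶ Over.mk φ₂)
      (_ : j ⟶ Over.mk φ₃), True :=
    ⟨IsCofiltered.min (IsCofiltered.min (Over.mk φ₁) (Over.mk φ₂)) (Over.mk φ₃),
      IsCofiltered.minToLeft _ _ ≫ IsCofiltered.minToLeft _ _,
      IsCofiltered.minToLeft _ _ ≫ IsCofiltered.minToRight _ _,
      IsCofiltered.minToRight _ _, trivial⟩
  have e₁ : ψ₁.left ≫ φ₁ = j.hom := Over.w ψ₁
  have e₂ : ψ₂.left ≫ φ₂ = j.hom := Over.w ψ₂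
  have e₃ : ψ₃.left ≫ φ₃ = j.hom := Over.w ψ₃
  have h₁' := stage_mono (LocP @Etale)
    (fun A B A' B' f g fst snd hA hB hB' sq hf =>
      locP_baseChange etLocal_etale hA hB hB' f g fst snd sq hf)
    D hD φ₁ ψ₁.left X₀ Y₀ f₀ b₀ h₁
  have h₂' := stage_mono IsSurjectiveMor
    (fun A B A' B' f g fst snd _ _ _ sq hf => isSurjectiveMor_baseChange sq hf)
    D hD φ₂ ψ₂.left X₀ Y₀ f₀ b₀ h₂
  have h₃' := stage_mono IsUnivInjectiveMor
    (fun A B A' B' f g fst snd _ _ _ sq hf => univSp_baseChange _ sq hf)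
    D hD φ₃ ψ₃.left X₀ Y₀ f₀ b₀ h₃
  rw [e₁] at h₁'
  rw [e₂] at h₂'
  rw [e₃] at h₃'
  refine ⟨j.left, j.hom, fun Xi Yi fi pYi qYi hYi pXi hXi => ?_⟩
  have hYialg : IsAlgSpace Yi :=
    isAlgSpace_of_isPullback (repDiag_of_isAlgSpace (hD i₀)) Y₀.property (hD j.left) hYi
  have hXialg : IsAlgSpace Xi :=
    isAlgSpace_of_isPullback (repDiag_of_isAlgSpace Y₀.property) X₀.property hYialg hXi
  exact isIso_of_etale_surjective_univInjective hXialg hYialg fi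
    (isEtaleMor_of_locP_etale hYialg (h₁' Xi Yi fi pYi qYi hYi pXi hXi))
    (h₂' Xi Yi fi pYi qYi hYi pXi hXi) (h₃' Xi Yi fi pYi qYi hYi pXi hXi)

end Lim

end Groth.Agent.Lib.Helper14.AS
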