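import Groth.Prelude.Def_AlgSp4
import Groth.Agent.Lib.Helper14.LimAff1
import Groth.Agent.Lib.Helper14.LimLP
import Groth.Agent.Lib.Helper14.AlgSpQC
import Groth.Agent.Lib.Helper14.GpdSep
import Groth.Agent.Lib.Helper14.GrpSep
import Groth.Agent.Lib.Helper14.AlgSpProper
import Groth.Agent.Lib.Helper24.DescAffMor
import Groth.Agent.Lib.Helper14.LimB
import Groth.Agent.Lib.Helper14.LimQ
import Groth.Agent.Lib.Helper14.LimI
import Groth.Agent.Lib.Helper14.LimJ
import Groth.Agent.Lib.Helper14.AlgSpRepTo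
import Groth.Agent.Lib.Helper14.AlgSpProdQC
import Groth.Agent.Lib.Helper14.AlgSpSep
import Groth.Agent.Lib.Helper14.AlgSpImm
import Groth.Agent.Lib.Helper14.AlgSpLocP
universe u
open CategoryTheory CategoryTheory.Limits AlgebraicGeometry Opposite
namespace Groth.Agent.Lib.Helper14.AS
variable {S : Scheme.{u}}
open AlgSp

/-- a version of `exists_etale_model` for a surjective etale map: the model can be taken
surjective (at the cost of the base of the model being only an open of an affine scheme) -/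
theorem exists_etale_model_surj {T U Sa : Over S} [IsAffine T.left] [IsAffine U.left]
    [IsAffine Sa.left] [LocallyOfFinitePresentation Sa.hom] (tS : T ⟶ Sa) (u : U ⟶ T)
    [Etale u.left] [Surjective u.left] :
    ∃ (P E : Over S) (ε : E ⟶ P) (x : T ⟶ P) (y : U ⟶ E), IsAffine E.left ∧
      LocallyOfFinitePresentation P.hom ∧ Etale ε.left ∧ Surjective ε.left ∧
      IsAffineHom ε.left ∧ IsPullback u y x ε := by
  obtain ⟨P₀, E, ε₀, x₀, y, hP₀a, hE, hP₀, hε₀, sq₀⟩ := exists_etale_model tS u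
  obtain ⟨W, hW⟩ : ∃ W : P₀.left.Opens, (W : Set P₀.left) = Set.range ε₀.left :=
    ⟨⟨Set.range ε₀.left, ε₀.left.isOpenMap.isOpen_range⟩, rfl⟩
  have hεW : Set.range ε₀.left ⊆ Set.range W.ι := by
    rw [Scheme.Opens.range_ι, hW]
  have hxW : Set.range x₀.left ⊆ Set.range W.ι := by
    rw [Scheme.Opens.range_ι, hW]
    rintro _ ⟨t, rfl⟩
    obtain ⟨u₀, rfl⟩ := u.left.surjective t
    refine ⟨y.left u₀, ?_⟩
    have h := congrArg (fun f => f.left) sq₀.w
    change u.left ≫ x₀.left = y.left ≫ ε₀.left at h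
    have h2 := congrArg (fun f : U.left ⟶ P₀.left => f u₀) h
    simpa using h2.symm
  let ι := openSubι P₀ W
  have hιl : ι.left = W.ι := rfl
  have hιm : Mono ι := by
    have : Mono ((Over.forget S).map ι) := inferInstanceAs (Mono W.ι)
    exact (Over.forget S).mono_of_mono_map this
  have hεW' : Set.range ε₀.left ⊆ Set.range ι.left := hεW
  have hxW' : Set.range x₀.left ⊆ Set.range ι.left := hxW
  let ε : E ⟶ openSub P₀ W := Over.homMk (IsOpenImmersion.lift ι.left ε₀.left hεW') (by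
    have h1 : (openSub P₀ W).hom = ι.left ≫ P₀.hom := rfl
    rw [h1, IsOpenImmersion.lift_fac_assoc, Over.w])
  let x : T ⟶ openSub P₀ W := Over.homMk (IsOpenImmersion.lift ι.left x₀.left hxW') (by
    have h1 : (openSub P₀ W).hom = ι.left ≫ P₀.hom := rfl
    rw [h1, IsOpenImmersion.lift_fac_assoc, Over.w])
  have hε : ε ≫ ι = ε₀ := Over.OverMorphism.ext (IsOpenImmersion.lift_fac ι.left ε₀.left hεW')
  have hx : x ≫ ι = x₀ := Over.OverMorphism.ext (IsOpenImmersion.lift_fac ι.left x₀.left hxW')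
  refine ⟨openSub P₀ W, E, ε, x, y, hE, ?_, ?_, ?_, ?_, ?_⟩
  · change LocallyOfFinitePresentation (W.ι ≫ P₀.hom)
    infer_instance
  · have h1 : Etale (ε.left ≫ ι.left) := by
      change Etale (ε ≫ ι).left
      rw [hε]; exact hε₀
    have h2 : Etale ι.left := inferInstance
    exact MorphismProperty.of_postcomp (W := @Etale) (W' := @Etale) ε.left ι.left h2 h1
  · refine ⟨fun w => ?_⟩
    obtain ⟨e₀, he₀⟩ : (ι.left w) ∈ Set.range ε₀.left := by
      rw [← hW]
      exact w.2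
    refine ⟨e₀, ?_⟩
    apply ι.left.isOpenEmbedding.injective
    rw [← he₀]
    change (ε ≫ ι).left e₀ = _
    rw [hε]
  · have h1 : IsAffineHom (ε.left ≫ ι.left) := by
      change IsAffineHom (ε ≫ ι).left
      rw [hε]
      exact isAffineHom_of_isAffine (X := E.left) (Y := P₀.left) _
    exact IsAffineHom.of_comp ε.left ι.left
  · refine isPullback_of_exists_unique ?_ ?_ ?_
    · rw [← cancel_mono ι, Category.assoc, Category.assoc, hx, hε, sq₀.w]
    · intro Z a b hab
      refine ⟨sq₀.lift a b ?_, sq₀.lift_fst _ _ _, sq₀.lift_snd _ _ _⟩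
      rw [← hx, ← hε, ← Category.assoc, hab, Category.assoc]
    · intro Z z z' h1 h2
      exact sq₀.hom_ext h1 h2


set_option backward.isDefEq.respectTransparency.types false in
theorem isQuasiSeparatedSp_of_isSeparatedMor {X Y : Sp S} (f : X ⟶ Y) (hf : IsSeparatedMor f)
    (hY : IsQuasiSeparatedSp Y) : IsQuasiSeparatedSp X := by
  have hT : ∀ {Z : Sp S} (a b : Z ⟶ ⊤_ (Sp S)), a = b := fun a b => Subsingleton.elim a b
  have h1 : RepWith @QuasiCompact (pullback.diagonal (terminal.from Y)) :=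
    repWith_diagonal_of_diag_subterminal _ _ hT hY
  have hf' : RepWith @QuasiCompact (pullback.diagonal f) :=
    repWith_mono (fun _ _ k hk => by
      have : IsClosedImmersion k := hk
      infer_instance) hf
  have h2 := repWith_diagonal_comp @QuasiCompact f (terminal.from Y) hf' h1
  exact repWith_diag_of_diagonal_subterminal _ (f ≫ terminal.from Y) hT h2

theorem isQuasiSeparatedSp_yon_of_isAffine (U : Over S) [IsAffine U.left] :
    IsQuasiSeparatedSp ((yon S).obj U) := by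
  have h1 : IsSeparated U.hom := inferInstance
  have h2 : QuasiCompact (pullback.diagonal U.hom) := inferInstance
  exact (repWith_diag_yon_iff @QuasiCompact U).2 h2

set_option backward.isDefEq.respectTransparency.types false in
/-- a sheaf with a map to (an open of) a scheme which becomes a map of affine schemes after an
etale surjective base change from an affine scheme is representable -/
theorem exists_iso_yon_of_etale_affine_pullback {X : Sp S} {P E U : Over S}
    (f : X ⟶ (yon S).obj P) (ε : E ⟶ P) (hεe : Etale ε.left) (hεs : Surjective ε.left)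
    (hE : IsAffine E.left) (hU : IsAffine U.left) (fst : (yon S).obj U ⟶ X) (h : U ⟶ E)
    (sq : IsPullback fst ((yon S).map h) f ((yon S).map ε)) :
    ∃ T' : Over S, Nonempty ((yon S).obj T' ≅ X) := by
  have haff : IsAffineHom h.left := isAffineHom_of_isAffine (X := U.left) (Y := E.left) _
  have key : ∀ ⦃Z' : Over S⦄, IsAffine Z'.left → ∀ (g' : (yon S).obj Z' ⟶ (yon S).obj E),
      ∃ (W' : Over S) (r : W' ⟶ Z') (fst' : (yon S).obj W' ⟶ (yon S).obj U),
        IsPullback fst' ((yon S).map r) ((yon S).map h) g' ∧ IsAffine W'.left ∧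
          (⊤ : MorphismProperty Scheme.{u}) r.left := by
    intro Z' hZ' g'
    obtain ⟨t, rfl⟩ := (yon S).map_surjective g'
    have sqc := IsPullback.of_hasPullback h t
    refine ⟨_, pullback.snd h t, (yon S).map (pullback.fst h t), sqc.map (yon S), ?_, trivial⟩
    have h1 : IsAffineHom (pullback.snd h t).left :=
      MorphismProperty.of_isPullback (P := @IsAffineHom) (sqc.map (Over.forget S)) haff
    exact isAffine_of_isAffineHom (pullback.snd h t).left
  have hfa : IsAffineMor f := by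
    intro Z hZ g
    obtain ⟨U₀, fstW, hWp, hU₀, -⟩ :=
      Groth.Agent.Lib.Helper24.DescAffMor.exists_affine_descent ⊤ f ((yon S).map ε)
        ((repWith_yon_map_iff @Etale ε).2 hεe) ((repWith_yon_map_iff @Surjective ε).2 hεs)
        fst ((yon S).map h) sq key hZ g
    exact ⟨_, _, fstW, hWp, hU₀⟩
  have hrep := (repWith_isAffineHom_of_isAffineMor' f hfa).rep
  have sq1 := hrep.isPullback (𝟙 ((yon S).obj P))
  have : IsIso (hrep.fst (𝟙 ((yon S).obj P))) := sq1.isIso_fst_of_isIso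
  exact ⟨_, ⟨asIso (hrep.fst (𝟙 ((yon S).obj P)))⟩⟩


section Lim

variable {I : Type u} [SmallCategory I] [IsCofiltered I]

set_option backward.isDefEq.respectTransparency.types false in
set_option maxHeartbeats 1600000 in
-- a long proof
/-- if the chart of the limit is the base change of an etale affine model `E ⟶ P`, compatibly with
maps from a stage, then so is the chart of some later stage -/
theorem exists_stage_isPullback_of_model [QuasiSeparatedSpace S]
    (D : I ⥤ Sp S) (hD : ∀ i, IsAlgSpace (D.obj i))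
    (hDa : ∀ (i j : I) (φ : i ⟶ j), IsAffineMor (D.map φ))
    (hqc : ∀ i, IsQuasiCompactSp (D.obj i)) (hqs : ∀ i, IsQuasiSeparatedSp (D.obj i))
    (c : Cone D) (hc : IsLimit c) (i₀ : I) {U₀ : Over S} (p : (yon S).obj U₀ ⟶ D.obj i₀)
    (hpe : RepWith @Etale p)
    (cs : ChartSystem D c i₀ p) (haff : ∀ j, IsAffine (cs.G.obj j).left)
    (k : Over i₀) {P E : Over S} (ε : E ⟶ P) (hεe : Etale ε.left)
    (hεa : IsAffineHom ε.left)
    (f₄ : D.obj k.left ⟶ (yon S).obj P) (h₄ : cs.G.obj k ⟶ E)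
    (hcompat : (yon S).map h₄ ≫ (yon S).map ε = cs.fst k ≫ f₄)
    (y : cs.cG.pt ⟶ E) (hy : cs.cG.π.app k ≫ h₄ = y)
    (sqlim : IsPullback cs.a ((yon S).map y) (c.π.app k.left ≫ f₄) ((yon S).map ε)) :
    ∃ (j : Over i₀) (d : j ⟶ k),
      IsPullback (cs.fst j) ((yon S).map (cs.G.map d ≫ h₄)) (D.map d.left ≫ f₄)
        ((yon S).map ε) := by
  have sqV : IsPullback (pullback.fst f₄ ((yon S).map ε)) (pullback.snd f₄ ((yon S).map ε)) f₄
      ((yon S).map ε) := IsPullback.of_hasPullback _ _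
  obtain ⟨V, b₀, q₀, sqV⟩ : ∃ (V : Sp S) (b₀ : V ⟶ D.obj k.left) (q₀ : V ⟶ (yon S).obj E),
      IsPullback b₀ q₀ f₄ ((yon S).map ε) := ⟨_, _, _, sqV⟩
  let f₀ : (yon S).obj (cs.G.obj k) ⟶ V := sqV.lift (cs.fst k) ((yon S).map h₄) hcompat.symm
  have hf₀b : f₀ ≫ b₀ = cs.fst k := sqV.lift_fst _ _ _
  have hf₀q : f₀ ≫ q₀ = (yon S).map h₄ := sqV.lift_snd _ _ _
  -- properties of V
  have hεaff : IsAffineMor ((yon S).map ε) :=
    isAffineMor_of_repWith ((repWith_yon_map_iff @IsAffineHom ε).2 hεa)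
  have hb₀aff : IsAffineMor b₀ := isAffineMor_of_isPullback sqV.flip hεaff
  have hVrep : Representable b₀ := (repWith_isAffineHom_of_isAffineMor' b₀ hb₀aff).rep
  have hValg : IsAlgSpace V := isAlgSpace_of_representable_to (hD _) b₀ hVrep
  have hVqc : IsQuasiCompactSp V := isQuasiCompactSp_of_isAffineMor b₀ hb₀aff (hD _) (hqc _)
  have hVqs : IsQuasiSeparatedSp V := isQuasiSeparatedSp_of_isSeparatedMor b₀
    (isSeparatedMor_of_isAffineMor hValg.diag b₀ hb₀aff) (hqs _)
  have hUkalg := IsAlgSpace.yon_obj (cs.G.obj k)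
  have hUkqc : IsQuasiCompactSp ((yon S).obj (cs.G.obj k)) :=
    (isQuasiCompactSp_yon_iff _).2 (by have := haff k; infer_instance)
  have hUkqs : IsQuasiSeparatedSp ((yon S).obj (cs.G.obj k)) := by
    have := haff k
    exact isQuasiSeparatedSp_yon_of_isAffine _
  have hqcf₀ : IsQuasiCompactMor f₀ :=
    isQuasiCompactMor_of_isQuasiSeparatedSp hUkalg hUkqc hVqs f₀
  -- f₀ is etale
  have hb₀e : RepWith @Etale b₀ :=
    repWith_of_isPullback _ sqV.flip ((repWith_yon_map_iff @Etale ε).2 hεe)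
  have hΔb₀ : RepWith @Etale (pullback.diagonal b₀) := by
    refine repWith_diagonal_of_base_changes @Etale hVrep (representable_diagonal b₀ hValg.diag)
      fun T x => ?_
    have h1 : Etale (hVrep.snd x).left := hb₀e.property x _ _ (hVrep.isPullback x)
    exact (repWith_diagonal_yon_map_iff @Etale _).2 inferInstance
  have hfke : RepWith @Etale (cs.fst k) := repWith_of_isPullback _ (cs.sq k).flip hpe
  have hf₀e : RepWith @Etale f₀ :=
    repWith_of_comp_of_diagonal f₀ b₀ @Etale hΔb₀ (by rw [hf₀b]; exact hfke)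
  have hlfp : LocP @LocallyOfFinitePresentation f₀ :=
    locP_of_repWith etale_le_lfp (repWith_mono etale_le_lfp hf₀e)
  -- the limit squares
  have hpYw : (cs.a ≫ c.π.app k.left) ≫ f₄ = (yon S).map y ≫ (yon S).map ε := by
    rw [Category.assoc]; exact sqlim.w
  let pY : (yon S).obj cs.cG.pt ⟶ V := sqV.lift (cs.a ≫ c.π.app k.left) ((yon S).map y) hpYw
  have hpYb : pY ≫ b₀ = cs.a ≫ c.π.app k.left := sqV.lift_fst _ _ _
  have hpYq : pY ≫ q₀ = (yon S).map y := sqV.lift_snd _ _ _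
  have hY : IsPullback pY cs.a b₀ (c.π.app k.left) := by
    refine IsPullback.of_right ?_ hpYb sqV.flip
    rw [hpYq]
    exact sqlim.flip
  have hpYX : pY = (yon S).map (cs.cG.π.app k) ≫ f₀ := by
    apply sqV.hom_ext
    · rw [hpYb, Category.assoc, hf₀b, cs.a_π]
    · rw [hpYq, Category.assoc, hf₀q, ← (yon S).map_comp, hy]
  have hX : IsPullback ((yon S).map (cs.cG.π.app k)) (𝟙 ((yon S).obj cs.cG.pt)) f₀ pY := by
    refine (IsPullback.of_right ?_ ?_ hY.flip).flip
    · have h1 : 𝟙 ((yon S).obj cs.cG.pt) ≫ cs.a = cs.a := Category.id_comp _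
      rw [h1, hf₀b]
      exact chartSystem_isPullback_stage cs k
    · have h1 : 𝟙 ((yon S).obj cs.cG.pt) ≫ pY = pY := Category.id_comp _
      rw [h1, hpYX]
  obtain ⟨i, φ, hi⟩ := descend_iso_limit_qc D hD hDa c hc k.left
    ⟨(yon S).obj (cs.G.obj k), hUkalg⟩ ⟨V, hValg⟩ f₀ b₀ hUkqc hUkqs hVqc hqcf₀
    ((yon S).obj cs.cG.pt) ((yon S).obj cs.cG.pt) (𝟙 _) pY cs.a hY
    ((yon S).map (cs.cG.π.app k)) hX hlfp
  let jφ : Over i₀ := Over.mk (φ ≫ k.hom)
  let dφ : jφ ⟶ k := Over.homMk φ rfl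
  have hstage : IsPullback (cs.fst jφ) ((yon S).map (cs.G.map dφ)) (D.map φ) (cs.fst k) :=
    chartSystem_isPullback_map cs dφ
  have sqYi := IsPullback.of_hasPullback b₀ (D.map φ)
  have hfiw : ((yon S).map (cs.G.map dφ) ≫ f₀) ≫ b₀ = cs.fst jφ ≫ D.map φ := by
    rw [Category.assoc, hf₀b]; exact hstage.w.symm
  let fi : (yon S).obj (cs.G.obj jφ) ⟶ pullback b₀ (D.map φ) :=
    pullback.lift ((yon S).map (cs.G.map dφ) ≫ f₀) (cs.fst jφ) hfiw
  have hfi1 : fi ≫ pullback.fst b₀ (D.map φ) = (yon S).map (cs.G.map dφ) ≫ f₀ :=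
    pullback.lift_fst _ _ _
  have hfi2 : fi ≫ pullback.snd b₀ (D.map φ) = cs.fst jφ := pullback.lift_snd _ _ _
  have hXi : IsPullback ((yon S).map (cs.G.map dφ)) fi f₀ (pullback.fst b₀ (D.map φ)) := by
    refine (IsPullback.of_right ?_ hfi1 sqYi.flip).flip
    rw [hfi2, hf₀b]
    exact hstage
  have hiso : IsIso fi := hi _ _ fi _ _ sqYi _ hXi
  refine ⟨jφ, dφ, ?_⟩
  have big := (sqYi.paste_horiz sqV.flip).flip
  refine IsPullback.of_iso big (asIso fi).symm (Iso.refl _) (Iso.refl _) (Iso.refl _) ?_ ?_ ?_ ?_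
  · simp only [Iso.refl_hom, Category.comp_id, Iso.symm_hom, asIso_inv]
    rw [IsIso.eq_inv_comp, hfi2]
  · simp only [Iso.refl_hom, Category.comp_id, Iso.symm_hom, asIso_inv]
    rw [IsIso.eq_inv_comp, ← Category.assoc, hfi1, Category.assoc, hf₀q, ← (yon S).map_comp]
  · simp
    rfl
  · simp

set_option backward.isDefEq.respectTransparency.types false in
set_option maxHeartbeats 1600000 in
-- a long proof
/-- **Affine limits come from scheme stages.** If the limit of a cofiltered system of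
quasi-compact quasi-separated algebraic spaces with affine transition maps is an affine scheme and
some stage maps to an affine scheme locally of finite presentation over `S`, then some later stage
is representable. -/
theorem exists_stage_representable_of_limit_affine [QuasiSeparatedSpace S]
    (D : I ⥤ Sp S) (hD : ∀ i, IsAlgSpace (D.obj i))
    (hDa : ∀ (i j : I) (φ : i ⟶ j), IsAffineMor (D.map φ))
    (hqc : ∀ i, IsQuasiCompactSp (D.obj i)) (hqs : ∀ i, IsQuasiSeparatedSp (D.obj i))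
    (c : Cone D) (hc : IsLimit c) (T : Over S) (hT : IsAffine T.left)
    (e : (yon S).obj T ≅ c.pt) (i₀ : I) (Sa : Over S) (hSa : IsAffine Sa.left)
    [LocallyOfFinitePresentation Sa.hom] (σ : D.obj i₀ ⟶ (yon S).obj Sa) :
    ∃ (i : I) (_ : i ⟶ i₀) (T' : Over S), Nonempty ((yon S).obj T' ≅ D.obj i) := by
  obtain ⟨U₀, p, hU₀, hpe, hps⟩ := isQuasiCompactSp_iff_exists_affine_chart.1 (hqc i₀)
  obtain ⟨cs, haff, haffc⟩ := exists_chartSystem D hDa c hc i₀ hU₀ p
  have hconn : IsConnected (Over i₀) := IsCofiltered.isConnected _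
  have hcsae : RepWith @Etale cs.a := repWith_of_isPullback _ cs.isPullback.flip hpe
  have hcsas : RepWith @Surjective cs.a := repWith_of_isPullback _ cs.isPullback.flip hps
  obtain ⟨u, hu⟩ := (yon S).map_surjective (cs.a ≫ e.inv)
  have hue : Etale u.left := (repWith_yon_map_iff @Etale u).1 (by
    rw [hu]; exact repWith_comp _ hcsae (repWith_of_isIso _ _))
  have hus : Surjective u.left := (repWith_yon_map_iff @Surjective u).1 (by
    rw [hu]; exact repWith_comp _ hcsas (repWith_of_isIso _ _))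
  obtain ⟨tS, htS⟩ := (yon S).map_surjective (e.hom ≫ c.π.app i₀ ≫ σ)
  obtain ⟨P, E, ε, x, y, hE, hP, hεe, hεs, hεa, sqPE⟩ := exists_etale_model_surj tS u
  -- factor the limit map to `P` through a stage over `i₀`
  let DJ : Over i₀ ⥤ Sp S := Over.forget i₀ ⋙ D
  let cJ : Cone DJ := c.whisker (Over.forget i₀)
  have hcJ : IsLimit cJ := (Functor.Initial.isLimitWhiskerEquiv (Over.forget i₀) c).symm hc
  obtain ⟨j₁, f₁, hf₁⟩ := exists_factor_of_lfp DJ (fun j => hD _) (fun a b φ => hDa _ _ _)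
    (fun j => hqc _) (fun j => hqs _) cJ hcJ P (e.inv ≫ (yon S).map x)
  have hf₁' : c.π.app j₁.left ≫ f₁ = e.inv ≫ (yon S).map x := hf₁
  -- the chart-level map at a finite stage
  let D₁ : Over i₀ ⥤ Scheme.{u} := cs.G ⋙ Over.forget S
  let c₁ : Cone D₁ := (Over.forget S).mapCone cs.cG
  have hc₁ : IsLimit c₁ := isLimitOfPreserves (Over.forget S) cs.hcG
  let t₁ : D₁ ⟶ (Functor.const (Over i₀)).obj S :=
    { app := fun j => (cs.G.obj j).hom
      naturality := fun j j' h => by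
        change (cs.G.map h).left ≫ (cs.G.obj j').hom = (cs.G.obj j).hom ≫ 𝟙 _
        rw [Over.w, Category.comp_id] }
  have h1a : ∀ {a b : Over i₀} (f : a ⟶ b), IsAffineHom (D₁.map f) := by
    intro a b f
    have := haff a
    have := haff b
    exact isAffineHom_of_isAffine (X := (cs.G.obj a).left) (Y := (cs.G.obj b).left) _
  have h1c : ∀ j, CompactSpace (D₁.obj j) := fun j => by
    have := haff j
    exact inferInstanceAs (CompactSpace (cs.G.obj j).left)
  have h1s : ∀ j, QuasiSeparatedSpace (D₁.obj j) := fun j => by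
    have := haff j
    exact inferInstanceAs (QuasiSeparatedSpace (cs.G.obj j).left)
  have hElfp : LocallyOfFinitePresentation E.hom := by
    rw [← Over.w ε]; infer_instance
  have hPlft : LocallyOfFiniteType P.hom := inferInstance
  obtain ⟨j₂, h₂, hh₂1, hh₂2⟩ := Scheme.exists_π_app_comp_eq_of_locallyOfFinitePresentation
    D₁ t₁ E.hom c₁ hc₁ y.left (by
      ext j
      change (cs.cG.π.app j).left ≫ (cs.G.obj j).hom = y.left ≫ E.hom
      rw [Over.w, Over.w]
      rfl)
  let h₂o : cs.G.obj j₂ ⟶ E := Over.homMk h₂ hh₂2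
  have hh₂o : cs.cG.π.app j₂ ≫ h₂o = y := Over.OverMorphism.ext hh₂1
  -- common refinement
  obtain ⟨j₃, α₁, α₂, -⟩ : ∃ (j₃ : Over i₀) (_ : j₃ ⟶ j₁) (_ : j₃ ⟶ j₂), True :=
    ⟨IsCofiltered.min j₁ j₂, IsCofiltered.minToLeft _ _, IsCofiltered.minToRight _ _, trivial⟩
  obtain ⟨f₃, hf₃d⟩ : ∃ f₃ : D.obj j₃.left ⟶ (yon S).obj P, f₃ = D.map α₁.left ≫ f₁ := ⟨_, rfl⟩
  obtain ⟨h₃, hh₃d⟩ : ∃ h₃ : cs.G.obj j₃ ⟶ E, h₃ = cs.G.map α₂ ≫ h₂o := ⟨_, rfl⟩
  have hf₃ : c.π.app j₃.left ≫ f₃ = e.inv ≫ (yon S).map x := by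
    rw [hf₃d, ← Category.assoc, c.w, hf₁']
  have hh₃ : cs.cG.π.app j₃ ≫ h₃ = y := by
    rw [hh₃d, ← Category.assoc, cs.cG.w, hh₂o]
  obtain ⟨w₃, hw₃⟩ := (yon S).map_surjective (cs.fst j₃ ≫ f₃)
  have hlim : cs.cG.π.app j₃ ≫ (h₃ ≫ ε) = cs.cG.π.app j₃ ≫ w₃ := by
    apply (yon S).map_injective
    have h1 : (yon S).map (cs.cG.π.app j₃ ≫ (h₃ ≫ ε)) = (cs.a ≫ e.inv) ≫ (yon S).map x := by
      rw [← Category.assoc, hh₃, ← sqPE.w, (yon S).map_comp, hu]
    have h2 : (yon S).map (cs.cG.π.app j₃ ≫ w₃) = (cs.a ≫ e.inv) ≫ (yon S).map x := by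
      rw [(yon S).map_comp, hw₃, ← Category.assoc, ← cs.a_π, Category.assoc, hf₃, Category.assoc]
    rw [h1, h2]
  obtain ⟨k, hk, hkeq⟩ := Scheme.exists_hom_comp_eq_comp_of_locallyOfFiniteType D₁ t₁ P.hom c₁ hc₁
    (h₃ ≫ ε).left w₃.left (Over.w (h₃ ≫ ε)).symm (Over.w w₃).symm
    (congrArg (fun f => f.left) hlim)
  obtain ⟨f₄, hf₄d⟩ : ∃ f₄ : D.obj k.left ⟶ (yon S).obj P, f₄ = D.map hk.left ≫ f₃ := ⟨_, rfl⟩
  obtain ⟨h₄, hh₄d⟩ : ∃ h₄ : cs.G.obj k ⟶ E, h₄ = cs.G.map hk ≫ h₃ := ⟨_, rfl⟩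
  have hkeq' : h₄ ≫ ε = cs.G.map hk ≫ w₃ := by
    rw [hh₄d, Category.assoc]
    exact Over.OverMorphism.ext hkeq
  have hcompat : (yon S).map h₄ ≫ (yon S).map ε = cs.fst k ≫ f₄ := by
    rw [← (yon S).map_comp, hkeq', (yon S).map_comp, hw₃, ← Category.assoc, cs.map_fst,
      Category.assoc, hf₄d]
  have hy₄ : cs.cG.π.app k ≫ h₄ = y := by
    rw [hh₄d, ← Category.assoc, cs.cG.w, hh₃]
  have hf₄ : c.π.app k.left ≫ f₄ = e.inv ≫ (yon S).map x := by
    rw [hf₄d, ← Category.assoc, c.w, hf₃]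
  have sqlim : IsPullback cs.a ((yon S).map y) (c.π.app k.left ≫ f₄) ((yon S).map ε) := by
    rw [hf₄]
    refine IsPullback.of_iso (sqPE.map (yon S)) (Iso.refl _) e (Iso.refl _) (Iso.refl _)
      ?_ ?_ ?_ ?_
    · simp only [Iso.refl_hom, Category.id_comp]
      rw [hu, Category.assoc, Iso.inv_hom_id, Category.comp_id]
    · simp
    · simp
    · simp
  obtain ⟨j, d, sqj⟩ := exists_stage_isPullback_of_model D hD hDa hqc hqs c hc i₀ p hpe cs haff k
    ε hεe hεa f₄ h₄ hcompat y hy₄ sqlim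
  obtain ⟨T', hT'⟩ := exists_iso_yon_of_etale_affine_pullback (D.map d.left ≫ f₄) ε hεe hεs hE
    (haff j) (cs.fst j) (cs.G.map d ≫ h₄) sqj
  exact ⟨j.left, j.hom, T', hT'⟩

end Lim

end Groth.Agent.Lib.Helper14.AS
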