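import Groth.Prelude.Def_AlgSp4
import Groth.Agent.Lib.Helper14.LimAff2
import Groth.Agent.Lib.Helper14.LimW
import Groth.Agent.Lib.Helper14.Glue3
import Groth.Agent.Lib.Helper24.ZarGlue
import Groth.Agent.Lib.Helper14.AlgSpQCMor
import Groth.Agent.Lib.Helper14.AlgSpBasic2
import Groth.Agent.Lib.Helper14.LimV
import Groth.Agent.Lib.Helper14.AlgSpEtaleMor
import Groth.Agent.Lib.Helper14.FpqcBase4
universe u
open CategoryTheory CategoryTheory.Limits AlgebraicGeometry Opposite
namespace Groth.Agent.Lib.Helper14.AS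
variable {S : Scheme.{u}}
open AlgSp

/-- a sheaf covered (on points) by representable open subfunctors is representable -/
theorem exists_iso_yon_of_points_cover {X : Sp S} {ι : Type u} (T' : ι → Over S)
    (f : ∀ b, (yon S).obj (T' b) ⟶ X) (hf : ∀ b, RepWith @IsOpenImmersion (f b))
    (hcov : ∀ x : Points X, ∃ b, x ∈ Set.range (Points.map (f b))) :
    ∃ U : Over S, Nonempty ((yon S).obj U ≅ X) := by
  obtain ⟨U, e, -, -, -, -⟩ := Groth.Agent.Lib.Helper24.ZarGlue.exists_iso_yon_of_open_cover hf (by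
    intro T t x
    obtain ⟨b, y₀, hy₀⟩ := hcov (Points.ofPt t x)
    have sq := (hf b).rep.isPullback t
    have hoi : IsOpenImmersion ((hf b).rep.snd t).left := (hf b).property_snd t
    obtain ⟨v, -, hv⟩ := exists_point_of_isPullback_yon' sq y₀ x hy₀
    let O : T.left.Opens := ((hf b).rep.snd t).left.opensRange
    have hxO : x ∈ O := ⟨v, hv⟩
    have hr : Set.range O.ι ⊆ Set.range ((hf b).rep.snd t).left := by
      rw [Scheme.Opens.range_ι]; exact subset_rfl
    let r₀ : (O : Scheme.{u}) ⟶ ((hf b).rep.pullback t).left :=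
      IsOpenImmersion.lift ((hf b).rep.snd t).left O.ι hr
    have hr₀ : r₀ ≫ ((hf b).rep.snd t).left = O.ι := IsOpenImmersion.lift_fac _ _ _
    let r : Groth.Agent.Lib.Helper24.ZarGlue.resOpen T O ⟶ (hf b).rep.pullback t :=
      Over.homMk r₀ (by
        change r₀ ≫ ((hf b).rep.pullback t).hom = O.ι ≫ T.hom
        rw [← Over.w ((hf b).rep.snd t), ← Category.assoc, hr₀])
    have hr' : r ≫ (hf b).rep.snd t = Groth.Agent.Lib.Helper24.ZarGlue.resOpenι T O :=
      Over.OverMorphism.ext hr₀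
    refine ⟨b, O, hxO, r ≫ (yon S).preimage ((hf b).rep.fst t), ?_⟩
    rw [(yon S).map_comp, Functor.map_preimage, Category.assoc, sq.w, ← Category.assoc,
      ← (yon S).map_comp, hr'])
  exact ⟨U, ⟨e⟩⟩

/-- a sheaf affine over a representable sheaf is representable -/
theorem exists_iso_yon_of_isAffineMor_to_iso_yon {X Y : Sp S} {T' : Over S}
    (f : X ⟶ Y) (hf : IsAffineMor f) (e : (yon S).obj T' ≅ Y) :
    ∃ T'' : Over S, Nonempty ((yon S).obj T'' ≅ X) := by
  have hrep := (repWith_isAffineHom_of_isAffineMor' f hf).rep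
  have sq1 := hrep.isPullback e.hom
  have : IsIso (hrep.fst e.hom) := sq1.isIso_fst_of_isIso
  exact ⟨_, ⟨asIso (hrep.fst e.hom)⟩⟩

section Lim

variable {I : Type u} [SmallCategory I] [IsCofiltered I]

set_option backward.isDefEq.respectTransparency.types false in
/-- if an open subset of a stage contains the image of the limit, it contains the image of some
later stage -/
theorem exists_stage_map_mem_open
    (D : I ⥤ Sp S) (hDa : ∀ (i j : I) (φ : i ⟶ j), IsAffineMor (D.map φ))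
    (hqc : ∀ i, IsQuasiCompactSp (D.obj i)) (c : Cone D) (hc : IsLimit c) (i : I)
    (W : Set (Points (D.obj i))) (hW : IsOpen W)
    (h : ∀ x : Points c.pt, Points.map (c.π.app i) x ∈ W) :
    ∃ (i' : I) (φ : i' ⟶ i), ∀ x : Points (D.obj i'), Points.map (D.map φ) x ∈ W := by
  obtain ⟨U₀, p, hU₀, hpe, hps⟩ := isQuasiCompactSp_iff_exists_affine_chart.1 (hqc i)
  obtain ⟨cs, haff, haffc⟩ := exists_chartSystem D hDa c hc i hU₀ p
  have hconn : IsConnected (Over i) := IsCofiltered.isConnected _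
  let D₁ : Over i ⥤ Scheme.{u} := cs.G ⋙ Over.forget S
  let c₁ : Cone D₁ := (Over.forget S).mapCone cs.cG
  have hc₁ : IsLimit c₁ := isLimitOfPreserves (Over.forget S) cs.hcG
  have h1a : ∀ {a b : Over i} (f : a ⟶ b), IsAffineHom (D₁.map f) := by
    intro a b f
    have := haff a
    have := haff b
    exact isAffineHom_of_isAffine (X := (cs.G.obj a).left) (Y := (cs.G.obj b).left) _
  have h1c : ∀ j, CompactSpace (D₁.obj j) := fun j => by
    have := haff j
    exact inferInstanceAs (CompactSpace (cs.G.obj j).left)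
  let j₀ : Over i := Over.mk (𝟙 i)
  let g : ∀ j : Over i, (cs.G.obj j).left → Points (D.obj i) := fun j =>
    Points.ofPt (cs.fst j ≫ D.map j.hom)
  have hg : ∀ {j j' : Over i} (φ : j ⟶ j') (v : (cs.G.obj j).left),
      g j' ((cs.G.map φ).left v) = g j v := by
    intro j j' φ v
    change Points.ofPt (cs.fst j' ≫ D.map j'.hom) ((cs.G.map φ).left v) =
      Points.ofPt (cs.fst j ≫ D.map j.hom) v
    rw [← ofPt_yon_map_comp, ← Category.assoc, cs.map_fst, Category.assoc, ← D.map_comp,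
      Over.w φ]
  let W₀ : (D₁.obj j₀).Opens := ⟨g j₀ ⁻¹' W, hW.preimage (Points.continuous_ofPt _)⟩
  have hU : c₁.π.app j₀ ⁻¹ᵁ W₀ = ⊤ := by
    apply TopologicalSpace.Opens.ext
    ext v
    simp only [TopologicalSpace.Opens.map_coe, Set.mem_preimage, TopologicalSpace.Opens.coe_top,
      Set.mem_univ, iff_true]
    change g j₀ ((cs.cG.π.app j₀).left v) ∈ W
    change Points.ofPt (cs.fst j₀ ≫ D.map j₀.hom) ((cs.cG.π.app j₀).left v) ∈ W
    rw [← ofPt_yon_map_comp, ← Category.assoc, ← cs.a_π, Category.assoc, c.w,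
      ← Points.map_ofPt]
    exact h _
  obtain ⟨j, fji, hj⟩ := exists_map_eq_top D₁ c₁ hc₁ W₀ hU
  refine ⟨j.left, j.hom, fun x => ?_⟩
  have hfs : RepWith @Surjective (cs.fst j) := repWith_of_isPullback _ (cs.sq j).flip hps
  obtain ⟨v, rfl⟩ := ofPt_surjective_of_repWith hfs x
  rw [Points.map_ofPt]
  change g j v ∈ W
  rw [← hg fji v]
  have hv : (show ↥(D₁.obj j) from v) ∈ D₁.map fji ⁻¹ᵁ W₀ := by
    rw [hj]
    trivial
  exact hv

set_option backward.isDefEq.respectTransparency.types false in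
set_option maxHeartbeats 1600000 in
-- a long proof
/-- an affine open piece of the limit lying over an affine open of the base descends to a
representable open subspace of some stage -/
theorem exists_stage_open_representable [QuasiSeparatedSpace S]
    (D : I ⥤ Sp S) (hD : ∀ i, IsAlgSpace (D.obj i))
    (hDa : ∀ (i j : I) (φ : i ⟶ j), IsAffineMor (D.map φ))
    (hqc : ∀ i, IsQuasiCompactSp (D.obj i)) (hqs : ∀ i, IsQuasiSeparatedSp (D.obj i))
    (c : Cone D) (hc : IsLimit c) (Tb : Over S) (hTb : IsAffine Tb.left)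
    (jb : (yon S).obj Tb ⟶ c.pt) (hjb : RepWith @IsOpenImmersion jb)
    (Sa : Over S) (hSa : IsAffine Sa.left) [IsOpenImmersion Sa.hom] (tb : Tb ⟶ Sa) :
    ∃ (i : I) (O : Sp S) (o : O ⟶ D.obj i) (q : (yon S).obj Tb ⟶ O) (T' : Over S),
      RepWith @IsOpenImmersion o ∧ Nonempty ((yon S).obj T' ≅ O) ∧
      IsPullback jb q (c.π.app i) o := by
  have hB : IsTerminal ((yon S).obj (Over.mk (𝟙 S))) :=
    IsTerminal.isTerminalObj (yon S) _ Over.mkIdTerminal
  let sa : Sa ⟶ Over.mk (𝟙 S) := Over.homMk Sa.hom (Category.comp_id _)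
  have hsa_oi : RepWith @IsOpenImmersion ((yon S).map sa) :=
    (repWith_yon_map_iff @IsOpenImmersion sa).2 (inferInstanceAs (IsOpenImmersion Sa.hom))
  have hsa_qc : RepWith @QuasiCompact ((yon S).map sa) :=
    (repWith_yon_map_iff @QuasiCompact sa).2 (by
      change QuasiCompact Sa.hom
      infer_instance)
  have hTbqc : IsQuasiCompactSp ((yon S).obj Tb) :=
    (isQuasiCompactSp_yon_iff _).2 inferInstance
  obtain ⟨i₁, O₁, o₁, q₁, ho₁, hO₁qc, sq₁⟩ := exists_quasiCompact_open_descends_limit D hD hDa hqc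
    hqs c hc ((yon S).obj Tb) jb hjb hTbqc
  have hO₁alg : IsAlgSpace O₁ := isAlgSpace_of_representable_to (hD _) o₁ ho₁.rep
  -- intersect with the preimage of the affine open of the base
  have sqO' := IsPullback.of_hasPullback (hB.from O₁) ((yon S).map sa)
  obtain ⟨O', pr, s, sqO'⟩ : ∃ (O' : Sp S) (pr : O' ⟶ O₁) (s : O' ⟶ (yon S).obj Sa),
      IsPullback pr s (hB.from O₁) ((yon S).map sa) := ⟨_, _, _, sqO'⟩
  have hpr_oi : RepWith @IsOpenImmersion pr := repWith_of_isPullback _ sqO'.flip hsa_oi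
  have hpr_qc : RepWith @QuasiCompact pr := repWith_of_isPullback _ sqO'.flip hsa_qc
  have hO'qc : IsQuasiCompactSp O' :=
    isQuasiCompactMor_of_repWith hpr_qc hO₁alg hO₁qc (𝟙 _) (𝟙 _) pr
      (IsPullback.of_horiz_isIso ⟨by simp⟩)
  have hι' : RepWith @IsOpenImmersion (pr ≫ o₁) := repWith_comp _ hpr_oi ho₁
  obtain ⟨ι', hι'd⟩ : ∃ ι' : O' ⟶ D.obj i₁, ι' = pr ≫ o₁ := ⟨_, rfl⟩
  rw [← hι'd] at hι'
  have hprm : Mono pr := mono_of_repWith_mono (repWith_mono isOpenImmersion_le_mono hpr_oi)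
  let q' : (yon S).obj Tb ⟶ O' := sqO'.lift q₁ ((yon S).map tb) (hB.hom_ext _ _)
  have hq'1 : q' ≫ pr = q₁ := sqO'.lift_fst _ _ _
  have sq' : IsPullback jb q' (c.π.app i₁) ι' := by
    have h1 : IsPullback (𝟙 ((yon S).obj Tb)) q' q₁ pr := isPullback_id_of_mono hq'1
    have h2 := (h1.flip.paste_vert sq₁.flip).flip
    rw [hι'd]
    have h3 : 𝟙 ((yon S).obj Tb) ≫ jb = jb := Category.id_comp _
    rw [h3] at h2
    exact h2
  -- the restricted system
  have hRalg := res_isAlgSpace D i₁ ι' hι' hD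
  have hRaff : ∀ (j j' : Over i₁) (φ : j ⟶ j'), IsAffineMor ((resDiag D i₁ ι').map φ) :=
    fun j j' φ => res_isAffineMor D i₁ ι' hDa φ
  have hRqc := res_isQuasiCompactSp D i₁ ι' hι' hD hDa hO'qc
  have hRqs := res_isQuasiSeparatedSp D i₁ ι' hι' hqs
  have hcR := resIsLimit D c i₁ ι' hc
  let eb : (yon S).obj Tb ≅ (resCone D c i₁ ι').pt := sq'.isoPullback
  have heb : eb.hom ≫ resιpt D c i₁ ι' = jb := sq'.isoPullback_hom_fst
  obtain ⟨j, -, T', ⟨eT'⟩⟩ := exists_stage_representable_of_limit_affine (resDiag D i₁ ι') hRalg hRaff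
    hRqc hRqs (resCone D c i₁ ι') hcR Tb hTb eb (Over.mk (𝟙 i₁)) Sa hSa
    (resσ D i₁ ι' _ ≫ s)
  refine ⟨j.left, (resDiag D i₁ ι').obj j, resι D i₁ ι' j, eb.hom ≫ (resCone D c i₁ ι').π.app j, T',
    res_openImmersion D i₁ ι' hι' j, ⟨eT'⟩, ?_⟩
  have h1 := res_leg_isPullback D c i₁ ι' j
  refine IsPullback.of_iso h1 eb.symm (Iso.refl _) (Iso.refl _) (Iso.refl _) ?_ ?_ ?_ ?_
  · simp only [Iso.refl_hom, Category.comp_id, Iso.symm_hom]
    rw [← heb, Iso.inv_hom_id_assoc]
  · simp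
  · simp
  · simp

set_option backward.isDefEq.respectTransparency.types false in
set_option maxHeartbeats 1600000 in
-- a long proof
/-- **Scheme limits come from scheme stages.** -/
theorem isRepresentable_stage_of_limit [QuasiSeparatedSpace S]
    (D : I ⥤ Sp S) (hD : ∀ i, IsAlgSpace (D.obj i))
    (hDa : ∀ (i j : I) (φ : i ⟶ j), IsAffineMor (D.map φ))
    (hqc : ∀ i, IsQuasiCompactSp (D.obj i)) (hqs : ∀ i, IsQuasiSeparatedSp (D.obj i))
    (c : Cone D) (hc : IsLimit c) (hX : c.pt.obj.IsRepresentable) :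
    ∃ i, (D.obj i).obj.IsRepresentable := by
  obtain ⟨T, ⟨R⟩⟩ := hX.has_representation
  let e : (yon S).obj T ≅ c.pt := isoOfRepresentableBy R
  obtain ⟨i₀⟩ := IsCofiltered.nonempty (C := I)
  have hcqc : IsQuasiCompactSp c.pt := isQuasiCompactSp_of_limit D hD hDa c hc i₀ (hqc i₀)
  have hTc : CompactSpace T.left := by
    refine (isQuasiCompactSp_yon_iff T).1 ?_
    obtain ⟨U, a, hae, has, hU⟩ := hcqc
    exact ⟨U, a ≫ e.inv, repWith_comp _ hae (repWith_of_isIso _ _),
      repWith_comp _ has (repWith_of_isIso _ _), hU⟩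
  -- affine pieces over affine opens of the base
  have key : ∀ t : T.left, ∃ (Tb : T.left.Opens) (Sa : S.Opens), t ∈ Tb ∧ IsAffineOpen Tb ∧
      IsAffineOpen Sa ∧ Tb ≤ T.hom ⁻¹ᵁ Sa := by
    intro t
    obtain ⟨Sa, hSa, hts⟩ : ∃ Sa : S.Opens, IsAffineOpen Sa ∧ T.hom t ∈ Sa := by
      obtain ⟨_, ⟨Sa, hSa, rfl⟩, h1, -⟩ := S.isBasis_affineOpens.exists_subset_of_mem_open
        (Set.mem_univ (T.hom t)) isOpen_univ
      exact ⟨Sa, hSa, h1⟩
    obtain ⟨_, ⟨Tb, hTb, rfl⟩, h1, h2⟩ := T.left.isBasis_affineOpens.exists_subset_of_mem_open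
      (show t ∈ (T.hom ⁻¹ᵁ Sa : Set T.left) from hts) (T.hom ⁻¹ᵁ Sa).2
    exact ⟨Tb, Sa, h1, hTb, hSa, h2⟩
  choose Tb Sa htTb hTbaff hSaaff hTbSa using key
  obtain ⟨F, hF⟩ := isCompact_univ.elim_finite_subcover (fun t => (Tb t : Set T.left))
    (fun t => (Tb t).2) (fun t _ => Set.mem_iUnion.2 ⟨t, htTb t⟩)
  have hjb : ∀ t, RepWith @IsOpenImmersion ((yon S).map (openSubι T (Tb t)) ≫ e.hom) := fun t =>
    repWith_comp _ ((repWith_yon_map_iff @IsOpenImmersion _).2 inferInstance)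
      (repWith_of_isIso _ _)
  have hrange : ∀ t, Set.range ((Tb t).ι ≫ T.hom) ⊆ Set.range (Sa t).ι := by
    intro t
    rw [Scheme.Opens.range_ι]
    rintro _ ⟨x, rfl⟩
    exact hTbSa t x.2
  let tb : ∀ t, openSub T (Tb t) ⟶ Over.mk (Sa t).ι := fun t =>
    Over.homMk (IsOpenImmersion.lift (Sa t).ι ((Tb t).ι ≫ T.hom) (hrange t))
      (IsOpenImmersion.lift_fac _ _ _)
  have L1 := fun t =>
    haveI : IsOpenImmersion (Over.mk (Sa t).ι).hom := inferInstanceAs (IsOpenImmersion (Sa t).ι)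
    exists_stage_open_representable D hD hDa hqc hqs c hc (openSub T (Tb t))
      (hTbaff t) ((yon S).map (openSubι T (Tb t)) ≫ e.hom) (hjb t) (Over.mk (Sa t).ι) (hSaaff t)
      (tb t)
  choose it O o q T' ho hiso hsq using L1
  -- a common stage
  classical
  obtain ⟨i₁, hi₁⟩ := IsCofiltered.inf_objs_exists (F.image it)
  let ι : Type u := {t // t ∈ F}
  have ψ : ∀ b : ι, i₁ ⟶ it b.1 := fun b => (hi₁ (Finset.mem_image_of_mem _ b.2)).some
  have hf₁ : ∀ b : ι, RepWith @IsOpenImmersion (pullback.fst (D.map (ψ b)) (o b.1)) := fun b =>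
    repWith_of_isPullback _ (IsPullback.of_hasPullback _ _).flip (ho b.1)
  have hO₁alg : ∀ b : ι, IsAlgSpace (pullback (D.map (ψ b)) (o b.1)) := fun b =>
    isAlgSpace_of_representable_to (hD _) _ (hf₁ b).rep
  let W : Set (Points (D.obj i₁)) :=
    ⋃ b : ι, Set.range (Points.map (pullback.fst (D.map (ψ b)) (o b.1)))
  have hW : IsOpen W := isOpen_iUnion fun b =>
    (isOpenMap_points_of_isEtaleMor (hO₁alg b) (hD _) (isEtaleMor_of_repWith_etale
      (repWith_mono isOpenImmersion_le_etale (hf₁ b)))).isOpen_range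
  have hWlim : ∀ x : Points c.pt, Points.map (c.π.app i₁) x ∈ W := by
    intro x
    obtain ⟨t', ht'⟩ := (Points.schemeHomeo T).surjective (Points.map e.inv x)
    obtain ⟨t, htF, htt'⟩ : ∃ t ∈ F, t' ∈ Tb t := by
      have := hF (Set.mem_univ t')
      simpa using this
    let b : ι := ⟨t, htF⟩
    let z : ↥(openSub T (Tb t)).left := ⟨t', htt'⟩
    have hx : x = Points.ofPt ((yon S).map (openSubι T (Tb t)) ≫ e.hom) z := by
      rw [ofPt_yon_map_comp, Points.ofPt_eq_map_ofScheme]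
      have h1 : Points.ofScheme T ((openSubι T (Tb t)).left z) = Points.map e.inv x := ht'
      rw [h1, ← Points.map_comp, Iso.inv_hom_id, Points.map_id]
    have hw : (((yon S).map (openSubι T (Tb t)) ≫ e.hom) ≫ c.π.app i₁) ≫ D.map (ψ b) =
        q t ≫ o t := by
      rw [Category.assoc, c.w]
      exact (hsq t).w
    let l : (yon S).obj (openSub T (Tb t)) ⟶ pullback (D.map (ψ b)) (o b.1) :=
      pullback.lift _ _ hw
    have hl : l ≫ pullback.fst (D.map (ψ b)) (o b.1) =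
        ((yon S).map (openSubι T (Tb t)) ≫ e.hom) ≫ c.π.app i₁ := pullback.lift_fst _ _ _
    refine Set.mem_iUnion.2 ⟨b, Points.ofPt l z, ?_⟩
    rw [hx, Points.map_ofPt, Points.map_ofPt, hl]
  obtain ⟨i₂, φ₂, h₂⟩ := exists_stage_map_mem_open D hDa hqc c hc i₁ W hW hWlim
  -- the pieces at the stage `i₂`
  have hf₂ : ∀ b : ι, RepWith @IsOpenImmersion
      (pullback.fst (D.map φ₂) (pullback.fst (D.map (ψ b)) (o b.1))) := fun b =>
    repWith_of_isPullback _ (IsPullback.of_hasPullback _ _).flip (hf₁ b)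
  have hg₂ : ∀ b : ι, IsAffineMor (pullback.snd (D.map φ₂) (pullback.fst (D.map (ψ b)) (o b.1)) ≫
      pullback.snd (D.map (ψ b)) (o b.1)) := fun b =>
    isAffineMor_comp (isAffineMor_of_isPullback (IsPullback.of_hasPullback _ _) (hDa _ _ _))
      (isAffineMor_of_isPullback (IsPullback.of_hasPullback _ _) (hDa _ _ _))
  have hT'' : ∀ b : ι, ∃ T'' : Over S, Nonempty ((yon S).obj T'' ≅
      pullback (D.map φ₂) (pullback.fst (D.map (ψ b)) (o b.1))) := fun b => by
    obtain ⟨eb⟩ := hiso b.1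
    exact exists_iso_yon_of_isAffineMor_to_iso_yon _ (hg₂ b) eb
  choose T'' hT'' using hT''
  have eT'' : ∀ b : ι, (yon S).obj (T'' b) ≅
      pullback (D.map φ₂) (pullback.fst (D.map (ψ b)) (o b.1)) := fun b => (hT'' b).some
  obtain ⟨U, ⟨eU⟩⟩ := exists_iso_yon_of_points_cover T''
    (fun b => (eT'' b).hom ≫ pullback.fst (D.map φ₂) (pullback.fst (D.map (ψ b)) (o b.1)))
    (fun b => repWith_comp _ (repWith_of_isIso _ _) (hf₂ b)) (by
      intro x
      obtain ⟨b, y, hy⟩ := Set.mem_iUnion.1 (h₂ x)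
      obtain ⟨z, hz, -⟩ := points_exists_of_isPullback
        (IsPullback.of_hasPullback (D.map φ₂) (pullback.fst (D.map (ψ b)) (o b.1))) x y hy.symm
      refine ⟨b, Points.map (eT'' b).inv z, ?_⟩
      rw [Points.map_comp, ← Points.map_comp (eT'' b).inv, Iso.inv_hom_id, Points.map_id]
      exact hz)
  exact ⟨i₂, (representableByOfIso eU).isRepresentable⟩

end Lim

end Groth.Agent.Lib.Helper14.AS
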