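import Groth.Prelude.Def_AlgSp4
import Groth.Agent.Lib.Helper14.LimAff3
universe u
open CategoryTheory CategoryTheory.Limits AlgebraicGeometry Opposite
namespace Groth.Agent.Lib.Helper14.AS
variable {S : Scheme.{u}}
open AlgSp

section Lim

variable {I : Type u} [SmallCategory I] [IsCofiltered I]

set_option backward.isDefEq.respectTransparency.types false in
set_option maxHeartbeats 1600000 in
-- a long proof
/-- **Affine limits come from affine stages.** -/
theorem exists_affine_stage_of_limit [QuasiSeparatedSpace S]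
    (D : I ⥤ Sp S) (hD : ∀ i, IsAlgSpace (D.obj i))
    (hDa : ∀ (i j : I) (φ : i ⟶ j), IsAffineMor (D.map φ))
    (hqc : ∀ i, IsQuasiCompactSp (D.obj i)) (hqs : ∀ i, IsQuasiSeparatedSp (D.obj i))
    (c : Cone D) (hc : IsLimit c) (T : Over S) (hT : IsAffine T.left)
    (e : (yon S).obj T ≅ c.pt) :
    ∃ (i : I) (T' : Over S), IsAffine T'.left ∧ Nonempty ((yon S).obj T' ≅ D.obj i) := by
  obtain ⟨i₁, hi₁⟩ := isRepresentable_stage_of_limit D hD hDa hqc hqs c hc
    (representableByOfIso e).isRepresentable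
  obtain ⟨T₁, ⟨R₁⟩⟩ := hi₁.has_representation
  let ε₁ : (yon S).obj T₁ ≅ D.obj i₁ := isoOfRepresentableBy R₁
  have hconn : IsConnected (Over i₁) := IsCofiltered.isConnected _
  have hTj : ∀ j : Over i₁, ∃ Tj : Over S, Nonempty ((yon S).obj Tj ≅ D.obj j.left) := fun j =>
    exists_iso_yon_of_isAffineMor_to_iso_yon (D.map j.hom) (hDa _ _ _) ε₁
  choose Tj hTj using hTj
  have ε : ∀ j : Over i₁, (yon S).obj (Tj j) ≅ D.obj j.left := fun j => (hTj j).some
  let G : Over i₁ ⥤ Over S :=
    { obj := Tj
      map := fun {j j'} φ => (yon S).preimage ((ε j).hom ≫ D.map φ.left ≫ (ε j').inv)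
      map_id := fun j => by
        apply (yon S).map_injective
        rw [Functor.map_preimage, (yon S).map_id]
        change (ε j).hom ≫ D.map (𝟙 j.left) ≫ (ε j).inv = _
        rw [D.map_id, Category.id_comp, Iso.hom_inv_id]
      map_comp := fun {j j' j''} φ φ' => by
        apply (yon S).map_injective
        rw [(yon S).map_comp, Functor.map_preimage, Functor.map_preimage, Functor.map_preimage]
        change (ε j).hom ≫ D.map (φ.left ≫ φ'.left) ≫ (ε j'').inv = _
        rw [D.map_comp]
        simp only [Category.assoc, Iso.inv_hom_id_assoc] }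
  have hGmap : ∀ {j j' : Over i₁} (φ : j ⟶ j'),
      (yon S).map (G.map φ) = (ε j).hom ≫ D.map φ.left ≫ (ε j').inv := fun φ =>
    Functor.map_preimage _ _
  let cG : Cone G :=
    { pt := T
      π :=
        { app := fun j => (yon S).preimage (e.hom ≫ c.π.app j.left ≫ (ε j).inv)
          naturality := fun j j' φ => by
            apply (yon S).map_injective
            simp only [Functor.const_obj_obj, Functor.const_obj_map, Category.id_comp]
            rw [(yon S).map_comp, Functor.map_preimage, Functor.map_preimage, hGmap]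
            simp only [Category.assoc, Iso.inv_hom_id_assoc]
            rw [← Category.assoc (c.π.app j.left), c.w] } }
  have hcGπ : ∀ j, (yon S).map (cG.π.app j) = e.hom ≫ c.π.app j.left ≫ (ε j).inv := fun j =>
    Functor.map_preimage _ _
  let DJ : Over i₁ ⥤ Sp S := Over.forget i₁ ⋙ D
  let cJ : Cone DJ := c.whisker (Over.forget i₁)
  have hcJ : IsLimit cJ := (Functor.Initial.isLimitWhiskerEquiv (Over.forget i₁) c).symm hc
  let α : G ⋙ yon S ≅ DJ := NatIso.ofComponents ε (fun {j j'} φ => by
    change (yon S).map (G.map φ) ≫ (ε j').hom = (ε j).hom ≫ D.map φ.left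
    rw [hGmap]
    simp only [Category.assoc, Iso.inv_hom_id, Category.comp_id])
  have h1 : IsLimit ((Cones.postcompose α.inv).obj cJ) :=
    (IsLimit.postcomposeInvEquiv α cJ).symm hcJ
  have hcG' : IsLimit ((yon S).mapCone cG) := by
    refine IsLimit.ofIsoLimit h1 (Cones.ext e.symm (fun j => ?_))
    change (c.π.app j.left ≫ (ε j).inv) = e.inv ≫ (yon S).map (cG.π.app j)
    rw [hcGπ, Iso.inv_hom_id_assoc]
  have hcG : IsLimit cG := isLimitOfReflects (yon S) hcG'
  let D₁ : Over i₁ ⥤ Scheme.{u} := G ⋙ Over.forget S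
  let c₁ : Cone D₁ := (Over.forget S).mapCone cG
  have hc₁ : IsLimit c₁ := isLimitOfPreserves (Over.forget S) hcG
  have h1a : ∀ {a b : Over i₁} (f : a ⟶ b), IsAffineHom (D₁.map f) := by
    intro a b f
    change IsAffineHom (G.map f).left
    refine (repWith_yon_map_iff @IsAffineHom (G.map f)).1 ?_
    rw [hGmap]
    exact repWith_comp _ (repWith_of_isIso _ _)
      (repWith_comp _ (repWith_isAffineHom_of_isAffineMor' _ (hDa _ _ _)) (repWith_of_isIso _ _))
  have h1c : ∀ j, CompactSpace (D₁.obj j) := fun j => by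
    change CompactSpace (Tj j).left
    refine (isQuasiCompactSp_yon_iff (Tj j)).1 ?_
    obtain ⟨U, a, hae, has, hU⟩ := hqc j.left
    exact ⟨U, a ≫ (ε j).inv, repWith_comp _ hae (repWith_of_isIso _ _),
      repWith_comp _ has (repWith_of_isIso _ _), hU⟩
  have h1s : ∀ j, QuasiSeparatedSpace (D₁.obj j) := fun j => by
    change QuasiSeparatedSpace (Tj j).left
    have h2 : IsQuasiSeparatedSp ((yon S).obj (Tj j)) :=
      isQuasiSeparatedSp_of_mono (ε j).hom (hqs j.left)
    have h3 : QuasiCompact (pullback.diagonal (Tj j).hom) :=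
      (repWith_diag_yon_iff @QuasiCompact (Tj j)).1 h2
    have h4 : QuasiSeparated (Tj j).hom := ⟨h3⟩
    exact quasiSeparatedSpace_of_quasiSeparated (Tj j).hom
  have h1T : IsAffine c₁.pt := hT
  obtain ⟨j, hj⟩ := Scheme.exists_isAffine_of_isLimit D₁ c₁ hc₁
  exact ⟨j.left, Tj j, hj, ⟨ε j⟩⟩

end Lim

end Groth.Agent.Lib.Helper14.AS
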