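import Groth.Prelude.Def_AlgSp4
import Groth.Agent.Lib.Helper14.LimAff4
import Groth.Agent.Lib.Helper14.LimU
import Groth.Agent.Lib.Helper14.AlgSpFibre
universe u
open CategoryTheory CategoryTheory.Limits AlgebraicGeometry Opposite
namespace Groth.Agent.Lib.Helper14.AS
variable {S : Scheme.{u}}
open AlgSp

set_option backward.isDefEq.respectTransparency.types false in
theorem isQuasiSeparatedSp_of_isQuasiSeparatedMor {X Y : Sp S} (f : X ⟶ Y)
    (hf : IsQuasiSeparatedMor f) (hY : IsQuasiSeparatedSp Y) : IsQuasiSeparatedSp X := by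
  have hT : ∀ {Z : Sp S} (a b : Z ⟶ ⊤_ (Sp S)), a = b := fun a b => Subsingleton.elim a b
  have h1 : RepWith @QuasiCompact (pullback.diagonal (terminal.from Y)) :=
    repWith_diagonal_of_diag_subterminal _ _ hT hY
  have h2 := repWith_diagonal_comp @QuasiCompact f (terminal.from Y) hf h1
  exact repWith_diag_of_diagonal_subterminal _ (f ≫ terminal.from Y) hT h2

/-- a fibre product of quasi-separated sheaves (over anything) is quasi-separated -/
theorem isQuasiSeparatedSp_of_isPullback {X Y T P : Sp S} {f : X ⟶ Y} {x : T ⟶ Y} {pr : P ⟶ X}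
    {fT : P ⟶ T} (sq : IsPullback pr fT f x) (hX : IsQuasiSeparatedSp X)
    (hT : IsQuasiSeparatedSp T) : IsQuasiSeparatedSp P := by
  have hΔf : RepWith @QuasiCompact (pullback.diagonal f) := repWith_diagonal_of_diag _ f hX
  have hΔfT : RepWith @QuasiCompact (pullback.diagonal fT) :=
    repWith_of_isPullback _ (isPullback_diagonal_of_isPullback sq) hΔf
  exact isQuasiSeparatedSp_of_isQuasiSeparatedMor fT hΔfT hT

set_option backward.isDefEq.respectTransparency.types false in
/-- a morphism which becomes a map of affine schemes after an etale surjective base change from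
an affine scheme is affine -/
theorem isAffineMor_of_etale_affine_pullback {X Y : Sp S} {E U : Over S}
    (f : X ⟶ Y) (p : (yon S).obj E ⟶ Y) (hpe : RepWith @Etale p) (hps : RepWith @Surjective p)
    (hE : IsAffine E.left) (hU : IsAffine U.left) (fst : (yon S).obj U ⟶ X) (h : U ⟶ E)
    (sq : IsPullback fst ((yon S).map h) f p) : IsAffineMor f := by
  have haff : IsAffineHom h.left := isAffineHom_of_isAffine (X := U.left) (Y := E.left) _
  have key : ∀ ⦃Z' : Over S⦄, IsAffine Z'.left → ∀ (g' : (yon S).obj Z' ⟶ (yon S).obj E),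
      ∃ (W' : Over S) (r : W' ⟶ Z') (fst' : (yon S).obj W' ⟶ (yon S).obj U),
        IsPullback fst' ((yon S).map r) ((yon S).map h) g' ∧ IsAffine W'.left ∧
          (⊤ : MorphismProperty Scheme.{u}) r.left := by
    intro Z' hZ' g'
    obtain ⟨t, rfl⟩ := (yon S).map_surjective g'
    have sqc := IsPullback.of_hasPullback h t
    refine ⟨_, pullback.snd h t, (yon S).map (pullback.fst h t), sqc.map (yon S), ?_, trivial⟩
    have h1 : IsAffineHom (pullback.snd h t).left :=
      MorphismProperty.of_isPullback (P := @IsAffineHom) (sqc.map (Over.forget S)) haff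
    exact isAffine_of_isAffineHom (pullback.snd h t).left
  intro Z hZ g
  obtain ⟨U₀, fstW, hWp, hU₀, -⟩ :=
    Groth.Agent.Lib.Helper24.DescAffMor.exists_affine_descent ⊤ f p hpe hps
      fst ((yon S).map h) sq key hZ g
  exact ⟨_, _, fstW, hWp, hU₀⟩

/-- the same with the pullback only isomorphic to an affine scheme -/
theorem isAffineMor_of_etale_affine_pullback_iso {X Y P : Sp S} {E U : Over S}
    (f : X ⟶ Y) (p : (yon S).obj E ⟶ Y) (hpe : RepWith @Etale p) (hps : RepWith @Surjective p)
    (hE : IsAffine E.left) (hU : IsAffine U.left) (fst : P ⟶ X) (snd : P ⟶ (yon S).obj E)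
    (sq : IsPullback fst snd f p) (ε : (yon S).obj U ≅ P) : IsAffineMor f := by
  obtain ⟨h, hh⟩ := (yon S).map_surjective (ε.hom ≫ snd)
  refine isAffineMor_of_etale_affine_pullback f p hpe hps hE hU (ε.hom ≫ fst) h ?_
  rw [hh]
  refine IsPullback.of_iso sq ε.symm (Iso.refl _) (Iso.refl _) (Iso.refl _) ?_ ?_ ?_ ?_ <;> simp

/-- a sheaf affine over an affine scheme is an affine scheme -/
theorem exists_iso_yon_affine_of_isAffineMor_to_iso_yon {X Y : Sp S} {T' : Over S}
    (f : X ⟶ Y) (hf : IsAffineMor f) (e : (yon S).obj T' ≅ Y) (hT' : IsAffine T'.left) :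
    ∃ T'' : Over S, IsAffine T''.left ∧ Nonempty ((yon S).obj T'' ≅ X) := by
  obtain ⟨W, i, fst, sq, hW⟩ := hf hT' e.hom
  have : IsIso fst := sq.isIso_fst_of_isIso
  exact ⟨W, hW, ⟨asIso fst⟩⟩

section Lim

variable {I : Type u} [SmallCategory I] [IsCofiltered I]

set_option backward.isDefEq.respectTransparency.types false in
set_option maxHeartbeats 1600000 in
-- a long proof
/-- **Affineness over a base descends from the limit to a stage.** -/
theorem isAffineMor_stage_of_limit_affine [QuasiSeparatedSpace S]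
    (Y : Space S) (D : I ⥤ Sp S) (hD : ∀ i, IsAlgSpace (D.obj i))
    (t : D ⟶ (Functor.const I).obj Y.obj)
    (hDa : ∀ (i j : I) (φ : i ⟶ j), IsAffineMor (D.map φ))
    (c : Cone D) (hc : IsLimit c) (g : c.pt ⟶ Y.obj) (hg : ∀ i, c.π.app i ≫ t.app i = g)
    (hqc : ∀ i, IsQuasiCompactSp (D.obj i)) (hqs : ∀ i, IsQuasiSeparatedSp (D.obj i))
    (hYqc : IsQuasiCompactSp Y.obj) (hYqs : IsQuasiSeparatedSp Y.obj) (hX : IsAffineMor g) :
    ∃ i₀ : I, ∀ (i : I) (_ : i ⟶ i₀), IsAffineMor (t.app i) := by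
  have ht : ∀ {j j' : I} (φ : j ⟶ j'), D.map φ ≫ t.app j' = t.app j := fun φ => by
    have := t.naturality φ
    simpa using this
  obtain ⟨V, v, hV, hve, hvs⟩ := isQuasiCompactSp_iff_exists_affine_chart.1 hYqc
  have hconn : IsConnected I := IsCofiltered.isConnected _
  have hVqc : IsQuasiCompactSp ((yon S).obj V) := (isQuasiCompactSp_yon_iff _).2 inferInstance
  have hVqs : IsQuasiSeparatedSp ((yon S).obj V) := isQuasiSeparatedSp_yon_of_isAffine _
  have hcV := isLimitPbCone D (fun j => t.app j) ht v c g hg hc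
  have hDValg : ∀ j, IsAlgSpace ((pbDiag D (fun j => t.app j) ht v).obj j) := fun j =>
    isAlgSpace_of_isPullback (repDiag_of_isAlgSpace Y.property) (hD j) (IsAlgSpace.yon_obj V)
      (IsPullback.of_hasPullback (t.app j) v)
  have hDVa : ∀ (j j' : I) (φ : j ⟶ j'), IsAffineMor ((pbDiag D (fun j => t.app j) ht v).map φ) :=
    fun j j' φ => isAffineMor_of_isPullback (isPullback_pbMap D (fun j => t.app j) ht v φ)
      (hDa _ _ φ)
  have hDVqc : ∀ j, IsQuasiCompactSp ((pbDiag D (fun j => t.app j) ht v).obj j) := fun j =>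
    isQuasiCompactSp_of_isPullback (hD j) (hqc j) (IsAlgSpace.yon_obj V) hVqc hYqs
      (IsPullback.of_hasPullback (t.app j) v)
  have hDVqs : ∀ j, IsQuasiSeparatedSp ((pbDiag D (fun j => t.app j) ht v).obj j) := fun j =>
    isQuasiSeparatedSp_of_isPullback (IsPullback.of_hasPullback (t.app j) v) (hqs j) hVqs
  -- the limit is an affine scheme
  obtain ⟨W, iW, fstW, sqW, hW⟩ := hX hV v
  let eW : (yon S).obj W ≅ (pbCone D (fun j => t.app j) ht v c g hg).pt := sqW.isoPullback
  obtain ⟨i₀, T', hT', ⟨eT'⟩⟩ := exists_affine_stage_of_limit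
    (pbDiag D (fun j => t.app j) ht v) hDValg hDVa hDVqc hDVqs
    (pbCone D (fun j => t.app j) ht v c g hg) hcV W hW eW
  refine ⟨i₀, fun i φ => ?_⟩
  obtain ⟨T'', hT'', ⟨eT''⟩⟩ := exists_iso_yon_affine_of_isAffineMor_to_iso_yon _ (hDVa _ _ φ)
    eT' hT'
  exact isAffineMor_of_etale_affine_pullback_iso (t.app i) v hve hvs hV hT''
    (pullback.fst (t.app i) v) (pullback.snd (t.app i) v) (IsPullback.of_hasPullback _ _) eT''

end Lim

end Groth.Agent.Lib.Helper14.AS
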