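import Groth.Prelude.Def_AlgSp4
import Groth.Agent.Lib.Helper14.LimAff5
universe u
open CategoryTheory CategoryTheory.Limits AlgebraicGeometry Opposite
namespace Groth.Agent.Lib.Helper14.AS
variable {S : Scheme.{u}}
open AlgSp

/-- the base change of a chart of the target of `f₀` to a base change of `f₀` -/
theorem exists_isPullback_chart_of_base_change {C : Type*} [Category C]
    {B₀ B' Y₀ Y' X₀ X' V₀ V' Z₀ Z' : C}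
    {b₀ : Y₀ ⟶ B₀} {β : B' ⟶ B₀} {pY' : Y' ⟶ Y₀} {qY' : Y' ⟶ B'} (hY' : IsPullback pY' qY' b₀ β)
    {f₀ : X₀ ⟶ Y₀} {f' : X' ⟶ Y'} {pX' : X' ⟶ X₀} (hX' : IsPullback pX' f' f₀ pY')
    {v₀ : V₀ ⟶ Y₀} {z₁ : Z₀ ⟶ X₀} {z₂ : Z₀ ⟶ V₀} (sqZ₀ : IsPullback z₁ z₂ f₀ v₀)
    {a' : V' ⟶ Y'} {i' : V' ⟶ V₀} (sqV' : IsPullback a' i' pY' v₀)
    {w₁ : Z' ⟶ B'} {w₂ : Z' ⟶ Z₀} (sqZ' : IsPullback w₁ w₂ β (z₁ ≫ f₀ ≫ b₀)) :
    ∃ (m : Z' ⟶ X') (n : Z' ⟶ V'), IsPullback m n f' a' := by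
  have hXB : IsPullback pX' (f' ≫ qY') (f₀ ≫ b₀) β := hX'.paste_vert hY'
  have hw : (w₂ ≫ z₁) ≫ f₀ ≫ b₀ = w₁ ≫ β := by
    rw [Category.assoc]; exact sqZ'.w.symm
  let m : Z' ⟶ X' := hXB.lift (w₂ ≫ z₁) w₁ hw
  have hm1 : m ≫ pX' = w₂ ≫ z₁ := hXB.lift_fst _ _ _
  have hm2 : m ≫ f' ≫ qY' = w₁ := hXB.lift_snd _ _ _
  have step1 : IsPullback w₂ m z₁ pX' := by
    refine IsPullback.of_bot ?_ hm1.symm hXB
    rw [hm2]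
    exact sqZ'.flip
  have step2 : IsPullback m (w₂ ≫ z₂) (pX' ≫ f₀) v₀ := step1.flip.paste_vert sqZ₀
  have hn : (m ≫ f') ≫ pY' = (w₂ ≫ z₂) ≫ v₀ := by
    rw [Category.assoc, ← hX'.w, ← Category.assoc, hm1, Category.assoc, sqZ₀.w, Category.assoc]
  let n : Z' ⟶ V' := sqV'.lift (m ≫ f') (w₂ ≫ z₂) hn
  have hn1 : n ≫ a' = m ≫ f' := sqV'.lift_fst _ _ _
  have hn2 : n ≫ i' = w₂ ≫ z₂ := sqV'.lift_snd _ _ _
  refine ⟨m, n, IsPullback.of_bot ?_ hn1.symm sqV'⟩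
  rw [hn2, ← hX'.w]
  exact step2

section Lim

variable {I : Type u} [SmallCategory I] [IsCofiltered I]

set_option backward.isDefEq.respectTransparency.types false in
set_option maxHeartbeats 1600000 in
-- a long proof
/-- **Affineness of a base change descends from the limit to a stage.** -/
theorem descend_isAffineMor_limit [QuasiSeparatedSpace S]
    (D : I ⥤ Sp S) (hD : ∀ i, IsAlgSpace (D.obj i))
    (hDa : ∀ (i j : I) (φ : i ⟶ j), IsAffineMor (D.map φ))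
    (c : Cone D) (hc : IsLimit c) (i₀ : I)
    (X₀ Y₀ : Space S) (f₀ : X₀.obj ⟶ Y₀.obj) (b₀ : Y₀.obj ⟶ D.obj i₀)
    (hXqc : IsQuasiCompactSp X₀.obj) (hXqs : IsQuasiSeparatedSp X₀.obj)
    (hYqc : IsQuasiCompactSp Y₀.obj) (hYqs : IsQuasiSeparatedSp Y₀.obj)
    (X Y : Sp S) (f : X ⟶ Y) (pY : Y ⟶ Y₀.obj) (qY : Y ⟶ c.pt)
    (hY : IsPullback pY qY b₀ (c.π.app i₀)) (pX : X ⟶ X₀.obj) (hX : IsPullback pX f f₀ pY)
    (hf : IsAffineMor f) :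
    ∃ (i : I) (φ : i ⟶ i₀), ∀ (Xi Yi : Sp S) (fi : Xi ⟶ Yi) (pYi : Yi ⟶ Y₀.obj)
      (qYi : Yi ⟶ D.obj i)
      (_ : IsPullback pYi qYi b₀ (D.map φ)) (pXi : Xi ⟶ X₀.obj) (_ : IsPullback pXi fi f₀ pYi),
      IsAffineMor fi := by
  obtain ⟨V₀, v₀, hV₀, hv₀e, hv₀s⟩ := isQuasiCompactSp_iff_exists_affine_chart.1 hYqc
  have hV₀qc : IsQuasiCompactSp ((yon S).obj V₀) := (isQuasiCompactSp_yon_iff _).2 inferInstance
  have hV₀qs : IsQuasiSeparatedSp ((yon S).obj V₀) := isQuasiSeparatedSp_yon_of_isAffine _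
  have sqZ₀ := IsPullback.of_hasPullback f₀ v₀
  obtain ⟨Z₀, z₁, z₂, sqZ₀⟩ : ∃ (Z₀ : Sp S) (z₁ : Z₀ ⟶ X₀.obj) (z₂ : Z₀ ⟶ (yon S).obj V₀),
      IsPullback z₁ z₂ f₀ v₀ := ⟨_, _, _, sqZ₀⟩
  have hZ₀alg : IsAlgSpace Z₀ :=
    isAlgSpace_of_isPullback (repDiag_of_isAlgSpace Y₀.property) X₀.property
      (IsAlgSpace.yon_obj V₀) sqZ₀
  have hZ₀qc : IsQuasiCompactSp Z₀ :=
    isQuasiCompactSp_of_isPullback X₀.property hXqc (IsAlgSpace.yon_obj V₀) hV₀qc hYqs sqZ₀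
  have hZ₀qs : IsQuasiSeparatedSp Z₀ := isQuasiSeparatedSp_of_isPullback sqZ₀ hXqs hV₀qs
  obtain ⟨ζ₀, hζ₀⟩ : ∃ ζ₀ : Z₀ ⟶ D.obj i₀, ζ₀ = z₁ ≫ f₀ ≫ b₀ := ⟨_, rfl⟩
  -- the system of base changes of `Z₀`
  have hσaff : ∀ j : Over i₀, IsAffineMor (resσ D i₀ ζ₀ j) := fun j =>
    isAffineMor_of_isPullback (res_isPullback_σ D i₀ ζ₀ j) (hDa _ _ j.hom)
  have hRalg : ∀ j : Over i₀, IsAlgSpace ((resDiag D i₀ ζ₀).obj j) := fun j =>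
    isAlgSpace_of_representable_to hZ₀alg (resσ D i₀ ζ₀ j)
      (repWith_isAffineHom_of_isAffineMor' _ (hσaff j)).rep
  have hRaff : ∀ (j j' : Over i₀) (φ : j ⟶ j'), IsAffineMor ((resDiag D i₀ ζ₀).map φ) :=
    fun j j' φ => res_isAffineMor D i₀ ζ₀ hDa φ
  have hRqc : ∀ j : Over i₀, IsQuasiCompactSp ((resDiag D i₀ ζ₀).obj j) := fun j =>
    isQuasiCompactSp_of_isAffineMor (resσ D i₀ ζ₀ j) (hσaff j) hZ₀alg hZ₀qc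
  have hRqs : ∀ j : Over i₀, IsQuasiSeparatedSp ((resDiag D i₀ ζ₀).obj j) := fun j =>
    isQuasiSeparatedSp_of_isSeparatedMor (resσ D i₀ ζ₀ j)
      (isSeparatedMor_of_isAffineMor (hRalg j).diag _ (hσaff j)) hZ₀qs
  have hcR := resIsLimit D c i₀ ζ₀ hc
  -- the limit is an affine scheme
  have hpYaff : IsAffineMor pY :=
    isAffineMor_of_isPullback hY.flip (isAffineMor_of_limit D hDa c hc i₀)
  obtain ⟨Vl, il, al, sqVl, hVl⟩ := hpYaff hV₀ v₀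
  obtain ⟨Tz, r, az, sqTz, hTz⟩ := hf hVl al
  have sqZl : IsPullback (resιpt D c i₀ ζ₀) (pullback.snd (c.π.app i₀) ζ₀) (c.π.app i₀)
      (z₁ ≫ f₀ ≫ b₀) := by
    rw [← hζ₀]; exact res_isPullback_pt D c i₀ ζ₀
  obtain ⟨ml, nl, sqml⟩ := exists_isPullback_chart_of_base_change hY hX sqZ₀ sqVl sqZl
  let eTz : (yon S).obj Tz ≅ (resCone D c i₀ ζ₀).pt := sqTz.isoIsPullback _ _ sqml
  obtain ⟨j, T', hT', ⟨eT'⟩⟩ := exists_affine_stage_of_limit (resDiag D i₀ ζ₀) hRalg hRaff hRqc hRqs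
    (resCone D c i₀ ζ₀) hcR Tz hTz eTz
  refine ⟨j.left, j.hom, fun Xi Yi fi pYi qYi hYi pXi hXi => ?_⟩
  have hpYiaff : IsAffineMor pYi := isAffineMor_of_isPullback hYi.flip (hDa _ _ j.hom)
  obtain ⟨Vj, ij, aj, sqVj, hVj⟩ := hpYiaff hV₀ v₀
  have sqZj : IsPullback (resι D i₀ ζ₀ j) (resσ D i₀ ζ₀ j) (D.map j.hom) (z₁ ≫ f₀ ≫ b₀) := by
    rw [← hζ₀]; exact res_isPullback_σ D i₀ ζ₀ j
  obtain ⟨mj, nj, sqmj⟩ := exists_isPullback_chart_of_base_change hYi hXi sqZ₀ sqVj sqZj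
  exact isAffineMor_of_etale_affine_pullback_iso fi aj
    (repWith_of_isPullback _ sqVj.flip hv₀e) (repWith_of_isPullback _ sqVj.flip hv₀s) hVj hT'
    mj nj sqmj eT'

end Lim

end Groth.Agent.Lib.Helper14.AS
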