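import Groth.Prelude.Def_AlgSp4
import Groth.Agent.Lib.Helper14.LimAff6
import Groth.Agent.Lib.Helper14.LimT
import Groth.Agent.Lib.Helper14.IntFinRep
import Groth.Agent.Lib.Helper14.AlgSpLocP3
import Groth.Agent.S9187
import Groth.Agent.S0084
universe u
open CategoryTheory CategoryTheory.Limits AlgebraicGeometry Opposite
namespace Groth.Agent.Lib.Helper14.AS
variable {S : Scheme.{u}}
open AlgSp

set_option backward.isDefEq.respectTransparency.types false in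
instance isFinite_fppf :
    MorphismProperty.IsLocalAtTarget (@IsFinite.{u}) Scheme.fppfPrecoverage := by
  have h1 := isZariskiLocalAtTarget_isFinite.{u}
  have h2 : MorphismProperty.DescendsAlong @IsFinite.{u} (@Surjective ⊓ @Flat ⊓ @QuasiCompact) :=
    Groth.Agent.S0084.result.{u}
  have h3 : MorphismProperty.DescendsAlong @IsFinite.{u}
      (@Surjective ⊓ @Flat ⊓ @LocallyOfFinitePresentation) := inferInstance
  exact Groth.Agent.Lib.Helper14.FL.isLocalAtTarget_fppf _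

theorem schDescendsFT_isFinite : SchDescendsFT @IsFinite.{u} := by
  intro I _ _ D c hc _ i₀ _ _ X₀ Y₀ f₀ g₀ _ _ _ _ _ X Y f g qY qX hY hX hP
  have : IsFinite f := hP
  exact Groth.Agent.S9187.result D c hc i₀ f₀ g₀ f g qY qX hY hX

/-- re-basing a base change of `f₀` to the canonical base change at another stage -/
theorem exists_rebase {C : Type*} [Category C] {B₀ B₁ B' Y₀ Y₁ X₀ X₁ Y' X' : C}
    {b₀ : Y₀ ⟶ B₀} {φ₁ : B₁ ⟶ B₀} {p₁ : Y₁ ⟶ Y₀} {b₁ : Y₁ ⟶ B₁} (sqY₁ : IsPullback p₁ b₁ b₀ φ₁)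
    {f₀ : X₀ ⟶ Y₀} {x₁ : X₁ ⟶ X₀} {f₁ : X₁ ⟶ Y₁} (sqX₁ : IsPullback x₁ f₁ f₀ p₁)
    {β' : B' ⟶ B₁} {β : B' ⟶ B₀} (hβ : β' ≫ φ₁ = β)
    {pY' : Y' ⟶ Y₀} {qY' : Y' ⟶ B'} (hY' : IsPullback pY' qY' b₀ β)
    {pX' : X' ⟶ X₀} {f' : X' ⟶ Y'} (hX' : IsPullback pX' f' f₀ pY') :
    ∃ (pY₁' : Y' ⟶ Y₁) (pX₁' : X' ⟶ X₁), IsPullback pY₁' qY' b₁ β' ∧
      IsPullback pX₁' f' f₁ pY₁' := by
  subst hβ
  have hw : pY' ≫ b₀ = (qY' ≫ β') ≫ φ₁ := by rw [Category.assoc]; exact hY'.w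
  let pY₁' : Y' ⟶ Y₁ := sqY₁.lift pY' (qY' ≫ β') hw
  have h1 : pY₁' ≫ p₁ = pY' := sqY₁.lift_fst _ _ _
  have h2 : pY₁' ≫ b₁ = qY' ≫ β' := sqY₁.lift_snd _ _ _
  have hw' : pX' ≫ f₀ = (f' ≫ pY₁') ≫ p₁ := by rw [Category.assoc, h1]; exact hX'.w
  let pX₁' : X' ⟶ X₁ := sqX₁.lift pX' (f' ≫ pY₁') hw'
  have h3 : pX₁' ≫ x₁ = pX' := sqX₁.lift_fst _ _ _
  have h4 : pX₁' ≫ f₁ = f' ≫ pY₁' := sqX₁.lift_snd _ _ _
  refine ⟨pY₁', pX₁', IsPullback.of_right ?_ h2 sqY₁, IsPullback.of_right ?_ h4 sqX₁⟩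
  · rw [h1]; exact hY'
  · rw [h3, h1]; exact hX'

theorem repWith_of_affine_test' {P : MorphismProperty Scheme.{u}} [IsZariskiLocalAtTarget P]
    {X Y : Sp S} (f : X ⟶ Y)
    (h : ∀ ⦃Z : Over S⦄, IsAffine Z.left → ∀ (g : (yon S).obj Z ⟶ Y),
      ∃ (W : Over S) (i : W ⟶ Z) (fst : (yon S).obj W ⟶ X),
        IsPullback fst ((yon S).map i) f g ∧ IsAffine W.left ∧ P i.left) :
    RepWith P f := by
  have haff : IsAffineMor f := fun Z hZ g => by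
    obtain ⟨W, i, fst, sq, hW, -⟩ := h hZ g
    exact ⟨W, i, fst, sq, hW⟩
  have hrep : Representable f := (repWith_isAffineHom_of_isAffineMor' f haff).rep
  refine repWith_of_affine hrep fun T hT z W a b sq => ?_
  obtain ⟨W', i, fst, sq', -, hi⟩ := h hT z
  exact P_of_isPullback_of_isPullback sq sq' hi

section Lim

variable {I : Type u} [SmallCategory I] [IsCofiltered I]

set_option backward.isDefEq.respectTransparency.types false in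
set_option maxHeartbeats 1600000 in
-- a long proof
/-- descent of an affine-type representable property of a base change from the limit to a stage,
without any representability assumption on `f₀` -/
theorem descend_repWith_affine_limit [QuasiSeparatedSpace S] {P : MorphismProperty Scheme.{u}}
    [P.IsStableUnderBaseChange] [P.IsLocalAtTarget Scheme.fppfPrecoverage]
    (hPaff : P ≤ @IsAffineHom) (hdesc : SchDescendsFT P)
    (D : I ⥤ Sp S) (hD : ∀ i, IsAlgSpace (D.obj i))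
    (hDa : ∀ (i j : I) (φ : i ⟶ j), IsAffineMor (D.map φ))
    (c : Cone D) (hc : IsLimit c) (i₀ : I)
    (X₀ Y₀ : Space S) (f₀ : X₀.obj ⟶ Y₀.obj) (b₀ : Y₀.obj ⟶ D.obj i₀)
    (hXqc : IsQuasiCompactSp X₀.obj) (hXqs : IsQuasiSeparatedSp X₀.obj)
    (hYqc : IsQuasiCompactSp Y₀.obj) (hYqs : IsQuasiSeparatedSp Y₀.obj)
    (X Y : Sp S) (f : X ⟶ Y) (pY : Y ⟶ Y₀.obj) (qY : Y ⟶ c.pt)
    (hY : IsPullback pY qY b₀ (c.π.app i₀)) (pX : X ⟶ X₀.obj) (hX : IsPullback pX f f₀ pY)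
    (hf : RepWith P f) (hf₀ : LocP @LocallyOfFiniteType f₀) :
    ∃ (i : I) (φ : i ⟶ i₀), ∀ (Xi Yi : Sp S) (fi : Xi ⟶ Yi) (pYi : Yi ⟶ Y₀.obj)
      (qYi : Yi ⟶ D.obj i)
      (_ : IsPullback pYi qYi b₀ (D.map φ)) (pXi : Xi ⟶ X₀.obj) (_ : IsPullback pXi fi f₀ pYi),
      RepWith P fi := by
  have hfaff : IsAffineMor f := isAffineMor_of_repWith (repWith_mono hPaff hf)
  obtain ⟨i₁, φ₁, h₁⟩ := descend_isAffineMor_limit D hD hDa c hc i₀ X₀ Y₀ f₀ b₀ hXqc hXqs hYqc hYqs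
    X Y f pY qY hY pX hX hfaff
  -- the canonical base change at the stage `i₁`
  have sqY₁ := IsPullback.of_hasPullback b₀ (D.map φ₁)
  obtain ⟨Y₁, p₁, b₁, sqY₁⟩ : ∃ (Y₁ : Sp S) (p₁ : Y₁ ⟶ Y₀.obj) (b₁ : Y₁ ⟶ D.obj i₁),
      IsPullback p₁ b₁ b₀ (D.map φ₁) := ⟨_, _, _, sqY₁⟩
  have sqX₁ := IsPullback.of_hasPullback f₀ p₁
  obtain ⟨X₁, x₁, f₁, sqX₁⟩ : ∃ (X₁ : Sp S) (x₁ : X₁ ⟶ X₀.obj) (f₁ : X₁ ⟶ Y₁),
      IsPullback x₁ f₁ f₀ p₁ := ⟨_, _, _, sqX₁⟩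
  have hf₁aff : IsAffineMor f₁ := h₁ X₁ Y₁ f₁ p₁ b₁ sqY₁ x₁ sqX₁
  have hY₁alg : IsAlgSpace Y₁ :=
    isAlgSpace_of_isPullback (repDiag_of_isAlgSpace (hD i₀)) Y₀.property (hD i₁) sqY₁
  have hX₁alg : IsAlgSpace X₁ :=
    isAlgSpace_of_isPullback (repDiag_of_isAlgSpace Y₀.property) X₀.property hY₁alg sqX₁
  have hp₁aff : IsAffineMor p₁ := isAffineMor_of_isPullback sqY₁.flip (hDa _ _ φ₁)
  have hY₁qc : IsQuasiCompactSp Y₁ :=
    isQuasiCompactSp_of_isAffineMor p₁ hp₁aff Y₀.property hYqc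
  have hf₁r := repWith_isAffineHom_of_isAffineMor' f₁ hf₁aff
  have hf₁qc : IsQuasiCompactMor f₁ := isQuasiCompactMor_of_repWith
    (repWith_mono (fun _ _ k hk => by
      have : IsAffineHom k := hk
      infer_instance) hf₁r)
  have hf₁qs : RepWith @QuasiSeparated f₁ :=
    repWith_mono (fun _ _ k hk => by
      have : IsAffineHom k := hk
      infer_instance) hf₁r
  have hf₁lft : RepWith @LocallyOfFiniteType f₁ :=
    repWith_of_locP_of_representable etLocal_lft hY₁alg hf₁r.rep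
      (locP_baseChange etLocal_lft X₀.property Y₀.property hY₁alg f₀ p₁ x₁ f₁ sqX₁ hf₀)
  -- the limit as a base change from the stage `i₁`
  obtain ⟨pY₁, pX₁, hY₁, hX₁⟩ := exists_rebase sqY₁ sqX₁ (c.w φ₁) hY hX
  obtain ⟨i, φ', h⟩ := descend_repWith_limit hdesc D hDa c hc i₁ ⟨X₁, hX₁alg⟩ ⟨Y₁, hY₁alg⟩ f₁ b₁
    hY₁qc hf₁r.rep hf₁qc hf₁qs hf₁lft X Y f pY₁ qY hY₁ pX₁ hX₁ hf
  refine ⟨i, φ' ≫ φ₁, fun Xi Yi fi pYi qYi hYi pXi hXi => ?_⟩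
  obtain ⟨pYi₁, pXi₁, hYi₁, hXi₁⟩ := exists_rebase sqY₁ sqX₁ (D.map_comp φ' φ₁).symm hYi hXi
  exact h Xi Yi fi pYi₁ qYi hYi₁ pXi₁ hXi₁

set_option backward.isDefEq.respectTransparency.types false in
/-- S10018 -/
theorem descend_isFiniteMor_limit [QuasiSeparatedSpace S]
    (D : I ⥤ Sp S) (hD : ∀ i, IsAlgSpace (D.obj i))
    (hDa : ∀ (i j : I) (φ : i ⟶ j), IsAffineMor (D.map φ))
    (c : Cone D) (hc : IsLimit c) (i₀ : I)
    (X₀ Y₀ : Space S) (f₀ : X₀.obj ⟶ Y₀.obj) (b₀ : Y₀.obj ⟶ D.obj i₀)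
    (hXqc : IsQuasiCompactSp X₀.obj) (hXqs : IsQuasiSeparatedSp X₀.obj)
    (hYqc : IsQuasiCompactSp Y₀.obj) (hYqs : IsQuasiSeparatedSp Y₀.obj)
    (X Y : Sp S) (f : X ⟶ Y) (pY : Y ⟶ Y₀.obj) (qY : Y ⟶ c.pt)
    (hY : IsPullback pY qY b₀ (c.π.app i₀)) (pX : X ⟶ X₀.obj) (hX : IsPullback pX f f₀ pY)
    (hf : IsFiniteMor f) (hf₀ : LocP @LocallyOfFiniteType f₀) :
    ∃ (i : I) (φ : i ⟶ i₀), ∀ (Xi Yi : Sp S) (fi : Xi ⟶ Yi) (pYi : Yi ⟶ Y₀.obj)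
      (qYi : Yi ⟶ D.obj i)
      (_ : IsPullback pYi qYi b₀ (D.map φ)) (pXi : Xi ⟶ X₀.obj) (_ : IsPullback pXi fi f₀ pYi),
      IsFiniteMor fi := by
  have := isZariskiLocalAtTarget_isFinite.{u}
  have hle : (@IsFinite.{u} : MorphismProperty Scheme.{u}) ≤ @IsAffineHom :=
    fun _ _ k hk => by have : IsFinite k := hk; infer_instance
  have hfr : RepWith @IsFinite f := repWith_of_affine_test' f hf
  obtain ⟨i, φ, h⟩ := descend_repWith_affine_limit hle schDescendsFT_isFinite D hD hDa c hc i₀ X₀ Y₀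
    f₀ b₀ hXqc hXqs hYqc hYqs X Y f pY qY hY pX hX hfr hf₀
  exact ⟨i, φ, fun Xi Yi fi pYi qYi hYi pXi hXi Z hZ g =>
    affine_test_of_repWith hle (h Xi Yi fi pYi qYi hYi pXi hXi) hZ g⟩

set_option backward.isDefEq.respectTransparency.types false in
/-- S10019 -/
theorem descend_isClosedImmersion_limit [QuasiSeparatedSpace S]
    (D : I ⥤ Sp S) (hD : ∀ i, IsAlgSpace (D.obj i))
    (hDa : ∀ (i j : I) (φ : i ⟶ j), IsAffineMor (D.map φ))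
    (c : Cone D) (hc : IsLimit c) (i₀ : I)
    (X₀ Y₀ : Space S) (f₀ : X₀.obj ⟶ Y₀.obj) (b₀ : Y₀.obj ⟶ D.obj i₀)
    (hXqc : IsQuasiCompactSp X₀.obj) (hXqs : IsQuasiSeparatedSp X₀.obj)
    (hYqc : IsQuasiCompactSp Y₀.obj) (hYqs : IsQuasiSeparatedSp Y₀.obj)
    (X Y : Sp S) (f : X ⟶ Y) (pY : Y ⟶ Y₀.obj) (qY : Y ⟶ c.pt)
    (hY : IsPullback pY qY b₀ (c.π.app i₀)) (pX : X ⟶ X₀.obj) (hX : IsPullback pX f f₀ pY)
    (hf : RepWith @IsClosedImmersion f) (hf₀ : LocP @LocallyOfFiniteType f₀) :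
    ∃ (i : I) (φ : i ⟶ i₀), ∀ (Xi Yi : Sp S) (fi : Xi ⟶ Yi) (pYi : Yi ⟶ Y₀.obj)
      (qYi : Yi ⟶ D.obj i)
      (_ : IsPullback pYi qYi b₀ (D.map φ)) (pXi : Xi ⟶ X₀.obj) (_ : IsPullback pXi fi f₀ pYi),
      RepWith @IsClosedImmersion fi :=
  descend_repWith_affine_limit isClosedImmersion_le_isAffineHom schDescendsFT_isClosedImmersion
    D hD hDa c hc i₀ X₀ Y₀ f₀ b₀ hXqc hXqs hYqc hYqs X Y f pY qY hY pX hX hf hf₀

end Lim

end Groth.Agent.Lib.Helper14.AS
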