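import Groth.Prelude.Def_AlgSp4
import Groth.Agent.Lib.Helper14.LimU
universe u
open CategoryTheory CategoryTheory.Limits AlgebraicGeometry Opposite
namespace Groth.Agent.Lib.Helper14.AS
variable {S : Scheme.{u}}
open AlgSp

section SchDiag

variable {J : Type u} [SmallCategory J] (R : J ⥤ Sp S) (Tj : J → Over S)
  (ε : ∀ j, (yon S).obj (Tj j) ≅ R.obj j)

/-- a diagram of sheaves all of whose objects are representable lifts to a diagram of schemes -/
noncomputable abbrev schDiag : J ⥤ Over S where
  obj := Tj
  map {j j'} φ := (yon S).preimage ((ε j).hom ≫ R.map φ ≫ (ε j').inv)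
  map_id j := by
    apply (yon S).map_injective
    rw [Functor.map_preimage, (yon S).map_id, R.map_id, Category.id_comp, Iso.hom_inv_id]
  map_comp {j j' j''} φ φ' := by
    apply (yon S).map_injective
    rw [(yon S).map_comp, Functor.map_preimage, Functor.map_preimage, Functor.map_preimage,
      R.map_comp]
    simp only [Category.assoc, Iso.inv_hom_id_assoc]

theorem schDiag_obj (j : J) : (schDiag R Tj ε).obj j = Tj j := rfl

theorem yon_map_schDiag_map {j j' : J} (φ : j ⟶ j') :
    (yon S).map ((schDiag R Tj ε).map φ) = (ε j).hom ≫ R.map φ ≫ (ε j').inv :=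
  Functor.map_preimage _ _

variable (cR : Cone R) (T : Over S) (e : (yon S).obj T ≅ cR.pt)

/-- the cone of schemes over the lifted diagram -/
noncomputable abbrev schCone : Cone (schDiag R Tj ε) where
  pt := T
  π :=
    { app := fun j => (yon S).preimage (e.hom ≫ cR.π.app j ≫ (ε j).inv)
      naturality := fun j j' φ => by
        apply (yon S).map_injective
        simp only [Functor.const_obj_obj, Functor.const_obj_map, Category.id_comp]
        rw [(yon S).map_comp, Functor.map_preimage, Functor.map_preimage, yon_map_schDiag_map]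
        simp only [Category.assoc, Iso.inv_hom_id_assoc]
        rw [← Category.assoc (cR.π.app j), cR.w] }

theorem schCone_pt : (schCone R Tj ε cR T e).pt = T := rfl

theorem yon_map_schCone_π (j : J) :
    (yon S).map ((schCone R Tj ε cR T e).π.app j) = e.hom ≫ cR.π.app j ≫ (ε j).inv :=
  Functor.map_preimage _ _

/-- the lifted cone is a limit cone -/
noncomputable def schIsLimit (hcR : IsLimit cR) : IsLimit (schCone R Tj ε cR T e) := by
  let α : schDiag R Tj ε ⋙ yon S ≅ R := NatIso.ofComponents ε (fun {j j'} φ => by
    change (yon S).map ((schDiag R Tj ε).map φ) ≫ (ε j').hom = (ε j).hom ≫ R.map φ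
    rw [yon_map_schDiag_map]
    simp only [Category.assoc, Iso.inv_hom_id, Category.comp_id])
  have h1 : IsLimit ((Cones.postcompose α.inv).obj cR) :=
    (IsLimit.postcomposeInvEquiv α cR).symm hcR
  have h2 : IsLimit ((yon S).mapCone (schCone R Tj ε cR T e)) := by
    refine IsLimit.ofIsoLimit h1 (Cones.ext e.symm (fun j => ?_))
    change (cR.π.app j ≫ (ε j).inv) = e.inv ≫ (yon S).map ((schCone R Tj ε cR T e).π.app j)
    rw [yon_map_schCone_π, Iso.inv_hom_id_assoc]
  exact isLimitOfReflects (yon S) h2

end SchDiag

end Groth.Agent.Lib.Helper14.AS
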