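import Groth.Prelude.Def_AlgSp4
import Groth.Agent.Lib.Helper14.LimAff7
import Groth.Agent.Lib.Helper14.LimSch
import Groth.Agent.S0594
import Groth.Agent.S2154
universe u
open CategoryTheory CategoryTheory.Limits AlgebraicGeometry Opposite
namespace Groth.Agent.Lib.Helper14.AS
variable {S : Scheme.{u}}
open AlgSp

/-- lifting a system of base changes, all of whose objects are representable, to schemes -/
theorem exists_scheme_system_of_pb {J : Type u} [SmallCategory J]
    {Y : Sp S} (DJ : J ⥤ Sp S) (tJ : ∀ j, DJ.obj j ⟶ Y) {V : Over S} (v : (yon S).obj V ⟶ Y)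
    (R : J ⥤ Sp S) (cR : Cone R) (hcR : IsLimit cR)
    (r₁ : ∀ j, R.obj j ⟶ DJ.obj j) (r₂ : ∀ j, R.obj j ⟶ (yon S).obj V)
    (sq : ∀ j, IsPullback (r₁ j) (r₂ j) (tJ j) v)
    (hr₂ : ∀ {j j' : J} (φ : j ⟶ j'), R.map φ ≫ r₂ j' = r₂ j)
    (hR : ∀ {j j' : J} (φ : j ⟶ j'), IsPullback (r₁ j) (R.map φ) (DJ.map φ) (r₁ j'))
    (ρ₂ : cR.pt ⟶ (yon S).obj V) (hρ₂ : ∀ j, cR.π.app j ≫ r₂ j = ρ₂)
    (Wj : J → Over S) (ε : ∀ j, (yon S).obj (Wj j) ≅ R.obj j)
    {W : Over S} (e : (yon S).obj W ≅ cR.pt) (iW : W ⟶ V) (he : e.hom ≫ ρ₂ = (yon S).map iW) :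
    ∃ (G : J ⥤ Over S) (s : ∀ j, G.obj j ⟶ V)
      (fst : ∀ j : J, (yon S).obj (G.obj j) ⟶ DJ.obj j) (cG : Cone G)
      (_ : IsLimit cG) (κ : cG.pt ≅ W),
      (∀ j, G.obj j = Wj j) ∧
      (∀ j, IsPullback (fst j) ((yon S).map (s j)) (tJ j) v) ∧
      (∀ {j j' : J} (φ : j ⟶ j'), G.map φ ≫ s j' = s j) ∧
      (∀ {j j' : J} (φ : j ⟶ j'),
        IsPullback (fst j) ((yon S).map (G.map φ)) (DJ.map φ) (fst j')) ∧
      (∀ j, cG.π.app j ≫ s j = κ.hom ≫ iW) := by
  have hs : ∀ j, ∃ s : Wj j ⟶ V, (yon S).map s = (ε j).hom ≫ r₂ j := fun j =>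
    (yon S).map_surjective _
  choose s hs using hs
  refine ⟨schDiag R Wj ε, s, fun j => (ε j).hom ≫ r₁ j, schCone R Wj ε cR W e,
    schIsLimit R Wj ε cR W e hcR, Iso.refl _, fun j => rfl, ?_, ?_, ?_, ?_⟩
  · intro j
    rw [hs]
    refine IsPullback.of_iso (sq j) (ε j).symm (Iso.refl _) (Iso.refl _) (Iso.refl _)
      ?_ ?_ ?_ ?_ <;> simp
  · intro j j' φ
    apply (yon S).map_injective
    rw [(yon S).map_comp, yon_map_schDiag_map, hs, hs]
    simp only [Category.assoc, Iso.inv_hom_id_assoc]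
    rw [hr₂]
  · intro j j' φ
    rw [yon_map_schDiag_map]
    refine IsPullback.of_iso (hR φ) (ε j).symm (Iso.refl _) (ε j').symm (Iso.refl _)
      ?_ ?_ ?_ ?_ <;> simp
  · intro j
    apply (yon S).map_injective
    rw [(yon S).map_comp, yon_map_schCone_π, hs]
    simp only [Category.assoc, Iso.inv_hom_id_assoc, Iso.refl_hom, Functor.map_comp,
      Functor.map_id, Category.id_comp]
    rw [hρ₂, he]

set_option backward.isDefEq.respectTransparency.types false in
/-- over an affine chart `V` of the base `Y`, a system of spaces affine over `Y` becomes a system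
of affine schemes over `V`, with limit the base change of the limit -/
theorem exists_scheme_system_over_chart {J : Type u} [SmallCategory J] [IsConnected J]
    (Y : Sp S) (DJ : J ⥤ Sp S) (tJ : ∀ j, DJ.obj j ⟶ Y)
    (htJ : ∀ {j j' : J} (φ : j ⟶ j'), DJ.map φ ≫ tJ j' = tJ j)
    (cJ : Cone DJ) (hcJ : IsLimit cJ) (g : cJ.pt ⟶ Y) (hgJ : ∀ j, cJ.π.app j ≫ tJ j = g)
    {V : Over S} (hV : IsAffine V.left) (v : (yon S).obj V ⟶ Y)
    (haff : ∀ j, IsAffineMor (tJ j))
    {W : Over S} (iW : W ⟶ V) (fstW : (yon S).obj W ⟶ cJ.pt)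
    (sqW : IsPullback fstW ((yon S).map iW) g v) :
    ∃ (G : J ⥤ Over S) (s : ∀ j, G.obj j ⟶ V)
      (fst : ∀ j : J, (yon S).obj (G.obj j) ⟶ DJ.obj j) (cG : Cone G)
      (_ : IsLimit cG) (κ : cG.pt ≅ W),
      (∀ j, IsAffine (G.obj j).left) ∧
      (∀ j, IsPullback (fst j) ((yon S).map (s j)) (tJ j) v) ∧
      (∀ {j j' : J} (φ : j ⟶ j'), G.map φ ≫ s j' = s j) ∧
      (∀ {j j' : J} (φ : j ⟶ j'),
        IsPullback (fst j) ((yon S).map (G.map φ)) (DJ.map φ) (fst j')) ∧
      (∀ j, cG.π.app j ≫ s j = κ.hom ≫ iW) := by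
  have hcR := isLimitPbCone DJ tJ htJ v cJ g hgJ hcJ
  choose Wj ij fstj sqj hWj using fun j : J => haff j hV v
  obtain ⟨G, s, fst, cG, hcG, κ, hG, h1, h2, h3, h4⟩ := exists_scheme_system_of_pb DJ tJ v
    (pbDiag DJ tJ htJ v) (pbCone DJ tJ htJ v cJ g hgJ) hcR
    (fun j => pullback.fst (tJ j) v) (fun j => pullback.snd (tJ j) v)
    (fun j => IsPullback.of_hasPullback _ _)
    (fun φ => pbMap_snd DJ tJ htJ v φ) (fun φ => isPullback_pbMap DJ tJ htJ v φ)
    (pullback.snd g v) (fun j => pbLeg_snd DJ tJ htJ v cJ g hgJ j)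
    Wj (fun j => (sqj j).isoPullback) sqW.isoPullback iW sqW.isoPullback_hom_snd
  exact ⟨G, s, fst, cG, hcG, κ, fun j => by rw [hG j]; exact hWj j, h1, h2, h3, h4⟩

set_option backward.isDefEq.respectTransparency.types false in
/-- S10062 -/
theorem closedImmersion_stage_of_limit [QuasiSeparatedSpace S]
    {I : Type u} [SmallCategory I] [IsCofiltered I]
    (Y : Space S) (D : I ⥤ Sp S) (hD : ∀ i, IsAlgSpace (D.obj i))
    (t : D ⟶ (Functor.const I).obj Y.obj)
    (hDc : ∀ (i j : I) (φ : i ⟶ j), RepWith @IsClosedImmersion (D.map φ))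
    (c : Cone D) (hc : IsLimit c) (g : c.pt ⟶ Y.obj) (hg : ∀ i, c.π.app i ≫ t.app i = g)
    (hqc : ∀ i, IsQuasiCompactSp (D.obj i)) (hqs : ∀ i, IsQuasiSeparatedSp (D.obj i))
    (hYqc : IsQuasiCompactSp Y.obj) (hYqs : IsQuasiSeparatedSp Y.obj)
    (hft : ∀ i, LocP @LocallyOfFiniteType (t.app i)) (hX : RepWith @IsClosedImmersion g) :
    ∃ i₀ : I, ∀ (i : I) (_ : i ⟶ i₀), RepWith @IsClosedImmersion (t.app i) := by
  have ht : ∀ {j j' : I} (φ : j ⟶ j'), D.map φ ≫ t.app j' = t.app j := fun φ => by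
    have := t.naturality φ
    simpa using this
  have hDa : ∀ (i j : I) (φ : i ⟶ j), IsAffineMor (D.map φ) := fun i j φ =>
    isAffineMor_of_repWith_isClosedImmersion (hDc i j φ)
  have hgaff : IsAffineMor g := isAffineMor_of_repWith_isClosedImmersion hX
  obtain ⟨i₁, hi₁⟩ := isAffineMor_stage_of_limit_affine Y D hD t hDa c hc g hg hqc hqs hYqc hYqs
    hgaff
  obtain ⟨V, v, hV, hve, hvs⟩ := isQuasiCompactSp_iff_exists_affine_chart.1 hYqc
  haveI : Sheaf.IsLocallySurjective v := isLocallySurjective_of_etale_surjective v hve hvs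
  obtain ⟨W, iW, fstW, sqW, hW⟩ := hgaff hV v
  have hiW : IsClosedImmersion iW.left := hX.property v fstW iW sqW
  have hconn : IsConnected (Over i₁) := IsCofiltered.isConnected _
  have hcJ : IsLimit (c.whisker (Over.forget i₁)) :=
    (Functor.Initial.isLimitWhiskerEquiv (Over.forget i₁) c).symm hc
  obtain ⟨G, s, fst, cG, hcG, κ, hG, h1, h2, h3, h4⟩ :=
    exists_scheme_system_over_chart Y.obj (Over.forget i₁ ⋙ D) (fun j => t.app j.left)
      (fun φ => ht φ.left) (c.whisker (Over.forget i₁)) hcJ g (fun j => hg j.left) hV v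
      (fun j => hi₁ j.left j.hom) iW fstW sqW
  -- the system of schemes over `V`
  let D₁ : Over i₁ ⥤ Scheme.{u} := G ⋙ Over.forget S
  let t₁ : D₁ ⟶ (Functor.const (Over i₁)).obj V.left :=
    { app := fun j => (s j).left
      naturality := fun j j' φ => by
        change (G.map φ).left ≫ (s j').left = (s j).left ≫ 𝟙 _
        rw [Category.comp_id, ← Over.comp_left, h2] }
  let c₁ : Cone D₁ := (Over.forget S).mapCone cG
  have hc₁ : IsLimit c₁ := isLimitOfPreserves (Over.forget S) hcG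
  have hrep : ∀ j : Over i₁, Representable (t.app j.left) := fun j =>
    (repWith_isAffineHom_of_isAffineMor' _ (hi₁ j.left j.hom)).rep
  have i1 : ∀ (a b : Over i₁) (f : a ⟶ b), IsClosedImmersion (D₁.map f) := fun a b f =>
    (hDc _ _ f.left).property (fst b) (fst a) (G.map f) (h3 f)
  have i2 : ∀ j, CompactSpace (D₁.obj j) := fun j => by
    have := hG j
    exact inferInstanceAs (CompactSpace (G.obj j).left)
  have i3 : ∀ j, QuasiSeparatedSpace (D₁.obj j) := fun j => by
    have := hG j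
    exact inferInstanceAs (QuasiSeparatedSpace (G.obj j).left)
  have i4 : ∀ j, LocallyOfFiniteType (t₁.app j) := fun j =>
    (repWith_of_locP_of_representable etLocal_lft Y.property (hrep j) (hft j.left)).property
      v (fst j) (s j) (h1 j)
  let j₀ : Over i₁ := Over.mk (𝟙 i₁)
  have i5 : IsClosedImmersion (c₁.π.app j₀ ≫ t₁.app j₀) := by
    have e1 : c₁.π.app j₀ ≫ t₁.app j₀ = (κ.hom ≫ iW).left := by
      change (cG.π.app j₀).left ≫ (s j₀).left = _
      rw [← Over.comp_left, h4]
    rw [e1, Over.comp_left]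
    haveI : IsIso κ.hom.left := inferInstanceAs (IsIso ((Over.forget S).map κ.hom))
    haveI h5 : IsClosedImmersion κ.hom.left := inferInstance
    exact (inferInstance : MorphismProperty.IsStableUnderComposition @IsClosedImmersion).comp_mem _ _ h5 hiW
  haveI : CompactSpace V.left := inferInstance
  haveI : QuasiSeparatedSpace V.left := inferInstance
  obtain ⟨j, hj⟩ := Groth.Agent.S0594.result V.left D₁ t₁ c₁ hc₁ j₀
  refine ⟨j.left, fun i ψ => ?_⟩
  let j' : Over i₁ := Over.mk (ψ ≫ j.hom)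
  let f : j' ⟶ j := Over.homMk ψ rfl
  have e2 : (s j').left = (G.map f).left ≫ (s j).left := by
    rw [← Over.comp_left, h2]
  have hcl : IsClosedImmersion (s j').left := by
    rw [e2]
    have : IsClosedImmersion (G.map f).left := i1 j' j f
    have : IsClosedImmersion (s j).left := hj
    infer_instance
  exact (repWith_iff_of_chart (hrep j') v (h1 j') @IsClosedImmersion).2 hcl

set_option backward.isDefEq.respectTransparency.types false in
/-- S10061 -/
theorem isFiniteMor_stage_of_limit [QuasiSeparatedSpace S]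
    {I : Type u} [SmallCategory I] [IsCofiltered I]
    (Y : Space S) (D : I ⥤ Sp S) (hD : ∀ i, IsAlgSpace (D.obj i))
    (t : D ⟶ (Functor.const I).obj Y.obj)
    (hDf : ∀ (i j : I) (φ : i ⟶ j), IsFiniteMor (D.map φ))
    (c : Cone D) (hc : IsLimit c) (g : c.pt ⟶ Y.obj) (hg : ∀ i, c.π.app i ≫ t.app i = g)
    (hqc : ∀ i, IsQuasiCompactSp (D.obj i)) (hqs : ∀ i, IsQuasiSeparatedSp (D.obj i))
    (hYqc : IsQuasiCompactSp Y.obj) (hYqs : IsQuasiSeparatedSp Y.obj)
    (hft : ∀ i, LocP @LocallyOfFiniteType (t.app i)) (hX : IsIntegralMor g) :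
    ∃ i₀ : I, ∀ (i : I) (_ : i ⟶ i₀), IsFiniteMor (t.app i) := by
  have := isZariskiLocalAtTarget_isFinite.{u}
  have hle : (@IsFinite.{u} : MorphismProperty Scheme.{u}) ≤ @IsAffineHom :=
    fun _ _ k hk => by have : IsFinite k := hk; infer_instance
  have ht : ∀ {j j' : I} (φ : j ⟶ j'), D.map φ ≫ t.app j' = t.app j := fun φ => by
    have := t.naturality φ
    simpa using this
  have hDa : ∀ (i j : I) (φ : i ⟶ j), IsAffineMor (D.map φ) := fun i j φ Z hZ z => by
    obtain ⟨W, i', fst', sq, hW, -⟩ := hDf i j φ hZ z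
    exact ⟨W, i', fst', sq, hW⟩
  have hgaff : IsAffineMor g := fun Z hZ z => by
    obtain ⟨W, i', fst', sq, hW, -⟩ := hX hZ z
    exact ⟨W, i', fst', sq, hW⟩
  obtain ⟨i₁, hi₁⟩ := isAffineMor_stage_of_limit_affine Y D hD t hDa c hc g hg hqc hqs hYqc hYqs
    hgaff
  obtain ⟨V, v, hV, hve, hvs⟩ := isQuasiCompactSp_iff_exists_affine_chart.1 hYqc
  haveI : Sheaf.IsLocallySurjective v := isLocallySurjective_of_etale_surjective v hve hvs
  obtain ⟨W, iW, fstW, sqW, hW, hiW⟩ := hX hV v
  have hconn : IsConnected (Over i₁) := IsCofiltered.isConnected _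
  have hcJ : IsLimit (c.whisker (Over.forget i₁)) :=
    (Functor.Initial.isLimitWhiskerEquiv (Over.forget i₁) c).symm hc
  obtain ⟨G, s, fst, cG, hcG, κ, hG, h1, h2, h3, h4⟩ :=
    exists_scheme_system_over_chart Y.obj (Over.forget i₁ ⋙ D) (fun j => t.app j.left)
      (fun φ => ht φ.left) (c.whisker (Over.forget i₁)) hcJ g (fun j => hg j.left) hV v
      (fun j => hi₁ j.left j.hom) iW fstW sqW
  -- the system of schemes over `V`
  let D' : Over i₁ ⥤ Over V.left :=
    { obj := fun j => Over.mk (s j).left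
      map := fun {j j'} f => Over.homMk (G.map f).left (by
        change (G.map f).left ≫ (s j').left = (s j).left
        rw [← Over.comp_left, h2])
      map_id := fun j => by
        ext
        change (G.map (𝟙 j)).left = _
        rw [G.map_id]; rfl
      map_comp := fun f f' => by
        ext
        change (G.map (f ≫ f')).left = _
        rw [G.map_comp]; rfl }
  let c' : Cone D' :=
    { pt := Over.mk (κ.hom ≫ iW).left
      π :=
        { app := fun j => Over.homMk (cG.π.app j).left (by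
            change (cG.π.app j).left ≫ (s j).left = (κ.hom ≫ iW).left
            rw [← Over.comp_left, h4])
          naturality := fun j j' f => by
            ext
            change (𝟙 _) ≫ (cG.π.app j').left = (cG.π.app j).left ≫ (G.map f).left
            rw [Category.id_comp, ← Over.comp_left, cG.w] } }
  have hc' : IsLimit c' := by
    refine isLimitOfReflects (Over.forget V.left) ?_
    exact isLimitOfPreserves (Over.forget S) hcG
  have hrep : ∀ j : Over i₁, Representable (t.app j.left) := fun j =>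
    (repWith_isAffineHom_of_isAffineMor' _ (hi₁ j.left j.hom)).rep
  have i1 : ∀ (a b : Over i₁) (f : a ⟶ b), IsFinite (D'.map f).left := fun a b f =>
    (repWith_of_affine_test' _ (hDf _ _ f.left)).property (fst b) (fst a) (G.map f) (h3 f)
  have i2 : ∀ j, CompactSpace (D'.obj j).left := fun j => by
    have := hG j
    exact inferInstanceAs (CompactSpace (G.obj j).left)
  have i3 : ∀ j, QuasiSeparatedSpace (D'.obj j).left := fun j => by
    have := hG j
    exact inferInstanceAs (QuasiSeparatedSpace (G.obj j).left)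
  have i4 : ∀ j, LocallyOfFiniteType (D'.obj j).hom := fun j =>
    (repWith_of_locP_of_representable etLocal_lft Y.property (hrep j) (hft j.left)).property
      v (fst j) (s j) (h1 j)
  have i5 : IsIntegralHom c'.pt.hom := by
    change IsIntegralHom (κ.hom ≫ iW).left
    rw [Over.comp_left]
    haveI : IsIso κ.hom.left := inferInstanceAs (IsIso ((Over.forget S).map κ.hom))
    haveI h5 : IsIntegralHom κ.hom.left := inferInstance
    exact (inferInstance : MorphismProperty.IsStableUnderComposition @IsIntegralHom).comp_mem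
      _ _ h5 hiW
  haveI : CompactSpace V.left := inferInstance
  haveI : QuasiSeparatedSpace V.left := inferInstance
  obtain ⟨j, hj⟩ := Groth.Agent.S2154.result V.left D' c' hc'
  refine ⟨j.left, fun i ψ => ?_⟩
  let j' : Over i₁ := Over.mk (ψ ≫ j.hom)
  let f : j' ⟶ j := Over.homMk ψ rfl
  have hfin : IsFinite (s j').left := hj j' f
  have hr : RepWith @IsFinite (t.app i) :=
    (repWith_iff_of_chart (hrep j') v (h1 j') @IsFinite).2 hfin
  exact fun Z hZ z => affine_test_of_repWith hle hr hZ z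

end Groth.Agent.Lib.Helper14.AS
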