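import Groth.Agent.Lib.Helper1.NAMain
import Groth.Agent.Lib.Helper1.NACI

/-!
# Projections of a cofiltered limit with affine transition maps are eventually closed immersions

General cofiltered index category version of `Groth.Agent.Lib.Helper1.NA.exists_isClosedImmersion_π`.
-/

set_option autoImplicit false
universe u

open AlgebraicGeometry CategoryTheory CategoryTheory.Limits TopologicalSpace Opposite

namespace Groth.Agent.Lib.Helper14.LimCI

open Groth.Agent.Lib.Helper1.NA

variable {I : Type u} [SmallCategory I] [IsCofiltered I] (D : I ⥤ Scheme.{u}) (c : Cone D)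
  (hc : IsLimit c) [∀ {i j : I} (a : i ⟶ j), IsAffineHom (D.map a)]

include hc in
/-- Local statement: for an affine open `W` of `D.obj i₀`, the projections are eventually
closed immersions over `W`. -/
lemma exists_isClosedImmersion_opensCone (i₀ : I) [LocallyOfFiniteType (c.π.app i₀)]
    (W : (D.obj i₀).Opens) (hW : IsAffineOpen W) :
    ∃ j : Over i₀, ∀ (k : Over i₀) (_ : k ⟶ j),
      IsClosedImmersion (coneLeg _ (opensCone D c i₀ W) k) := by
  have hA : ∀ j : Over i₀, IsAffine ((opensDiagram D i₀ W).obj j) :=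
    fun j => hW.preimage (D.map _)
  have hπ : IsAffineHom (c.π.app i₀) := isAffineHom_π_app D c hc i₀
  have hpt : IsAffine (opensCone D c i₀ W).pt := hW.preimage (c.π.app i₀)
  have hlft : LocallyOfFiniteType (coneLeg _ (opensCone D c i₀ W) (Over.mk (𝟙 i₀))) := by
    change LocallyOfFiniteType ((c.π.app i₀).resLE _ _ _)
    infer_instance
  have hft := (HasRingHomProperty.iff_of_isAffine (P := @LocallyOfFiniteType)).mp hlft
  obtain ⟨j, -, hj⟩ := exists_surjective_appTop_of_finiteType (opensDiagram D i₀ W)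
    (opensCone D c i₀ W) (isLimitOpensCone D c hc i₀ W) (Over.mk (𝟙 i₀)) hft
  exact ⟨j, fun k g => IsClosedImmersion.of_surjective_of_isAffine _ (hj k g)⟩

include hc in
/-- **Closed immersion at a finite level**: if `D.obj i₀` is quasi-compact and the projection
`c.pt ⟶ D.obj i₀` is locally of finite type, then some projection `c.pt ⟶ D.obj k` with `k` over
`i₀` is a closed immersion. -/
theorem exists_isClosedImmersion_π (i₀ : I) [CompactSpace (D.obj i₀)]
    [LocallyOfFiniteType (c.π.app i₀)] :
    ∃ (k : I) (_ : k ⟶ i₀), IsClosedImmersion (c.π.app k) := by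
  classical
  obtain ⟨m, W, hW, hcov⟩ := exists_fin_affine_cover (D.obj i₀)
  have h := fun l => exists_isClosedImmersion_opensCone D c hc i₀ (W l) (hW l)
  choose jo hjo using h
  obtain ⟨K, hK⟩ := IsCofiltered.inf_objs_exists (Finset.univ.image jo)
  refine ⟨K.left, K.hom, ?_⟩
  have hcov' : ⨆ l, D.map K.hom ⁻¹ᵁ W l = ⊤ := by
    rw [← Scheme.Hom.preimage_iSup, hcov]
    rfl
  rw [IsZariskiLocalAtTarget.iff_of_iSup_eq_top (P := @IsClosedImmersion) _ hcov']
  intro l
  obtain ⟨g⟩ := hK (Finset.mem_image_of_mem jo (Finset.mem_univ l))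
  have h1 := hjo l K g
  rw [← Scheme.Hom.resLE_eq_morphismRestrict]
  have e₂ : c.π.app i₀ ⁻¹ᵁ W l = c.π.app K.left ⁻¹ᵁ (D.map K.hom ⁻¹ᵁ W l) := by
    rw [← Scheme.Hom.comp_preimage, c.w]
  exact (Scheme.Hom.resLE_congr (c.π.app K.left) _ rfl e₂ @IsClosedImmersion).mp h1

end Groth.Agent.Lib.Helper14.LimCI
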