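import Groth.Prelude.Def_AlgSp4
import Groth.Prelude.Def_AlgSpSub
import Groth.Agent.Lib.Helper14.LimC
import Groth.Agent.Lib.Helper14.ImmImg2
universe u
open CategoryTheory CategoryTheory.Limits AlgebraicGeometry Opposite
namespace Groth.Agent.Lib.Helper14.AS
variable {S : Scheme.{u}}
open AlgSp
open LimChart

/-- a cofiltered limit of reduced affine schemes is reduced -/
theorem isReduced_of_isLimit_of_isAffine {J : Type u} [SmallCategory J] [IsCofiltered J]
    (D : J ⥤ Scheme.{u}) (c : Cone D) (hc : IsLimit c) [∀ i, IsAffine (D.obj i)]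
    [∀ i, IsReduced (D.obj i)] [IsAffine c.pt] : IsReduced c.pt := by
  have : _root_.IsReduced Γ(c.pt, ⊤) := by
    constructor
    intro s hs
    obtain ⟨n, hn⟩ := hs
    obtain ⟨i, t, rfl⟩ := exists_appTop_π_eq_of_isAffine_of_isLimit D c hc s
    have h0 : (c.π.app i).appTop (t ^ n) = 0 := by rw [map_pow]; exact hn
    obtain ⟨j, f, hj⟩ := exists_appTop_map_eq_zero_of_isAffine_of_isLimit D c hc i (t ^ n) h0
    rw [map_pow] at hj
    have h1 : (D.map f).appTop t = 0 := IsNilpotent.eq_zero ⟨n, hj⟩
    have h2 : c.π.app i = c.π.app j ≫ D.map f := (c.w f).symm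
    rw [h2, Scheme.Hom.comp_appTop, CommRingCat.comp_apply, h1, map_zero]
  exact isReduced_of_isAffine_isReduced _

section Lim

variable {I : Type u} [SmallCategory I] [IsCofiltered I] (D : I ⥤ Sp S)

set_option backward.isDefEq.respectTransparency.types false in
theorem isReducedSp_of_limit (hD : ∀ i, IsAlgSpace (D.obj i))
    (hDa : ∀ (i j : I) (φ : i ⟶ j), IsAffineMor (D.map φ))
    (c : Cone D) (hc : IsLimit c)
    (hred : ∀ i, IsReducedSp (D.obj i)) : IsReducedSp c.pt := by
  obtain ⟨i₀⟩ := IsCofiltered.nonempty (C := I)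
  obtain ⟨U, p, hpe, hps⟩ := (hD i₀).atlas
  have haff := repWith_isAffineHom_of_isAffineMor' _ (isAffineMor_of_limit D hDa c hc i₀)
  have sqP := haff.rep.isPullback p
  refine ⟨haff.rep.pullback p, haff.rep.fst p, repWith_of_isPullback _ sqP.flip hpe,
    repWith_of_isPullback _ sqP.flip hps, ?_⟩
  let 𝒰 := U.left.affineCover
  have hconn : IsConnected (Over i₀) := IsCofiltered.isConnected _
  have key : ∀ k, IsReduced ((𝒰.pullback₁ (haff.rep.snd p).left).X k) := by
    intro k
    let Z : Over S := Over.mk (𝒰.f k ≫ U.hom)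
    let ιk : Z ⟶ U := Over.homMk (𝒰.f k) rfl
    have hZ : IsAffine Z.left := inferInstanceAs (IsAffine (𝒰.X k))
    have hιe : RepWith @Etale ((yon S).map ιk) :=
      (repWith_yon_map_iff _ _).2 (inferInstanceAs (Etale (𝒰.f k)))
    have hge : RepWith @Etale ((yon S).map ιk ≫ p) := repWith_comp _ hιe hpe
    obtain ⟨cs, haffG, haffc⟩ := exists_chartSystem D hDa c hc i₀ hZ ((yon S).map ιk ≫ p)
    have hredG : ∀ j, IsReduced (cs.G.obj j).left := fun j =>
      isReduced_chart_of_isReducedSp (hred j.left) (cs.fst j)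
        (repWith_of_isPullback _ (cs.sq j).flip hge)
    have hredc : IsReduced cs.cG.pt.left := by
      let D' := cs.G ⋙ Over.forget S
      have h1 : ∀ j, IsAffine (D'.obj j) := haffG
      have h2 : ∀ j, IsReduced (D'.obj j) := hredG
      have h3 : IsAffine ((Over.forget S).mapCone cs.cG).pt := haffc
      exact isReduced_of_isLimit_of_isAffine D' ((Over.forget S).mapCone cs.cG)
        (isLimitOfPreserves (Over.forget S) cs.hcG)
    -- the piece of `P` over `Z`
    have hPk := IsPullback.of_hasPullback (haff.rep.snd p) ιk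
    have hbig := (hPk.map (yon S)).paste_horiz sqP
    let e := hbig.isoIsPullback _ _ cs.isPullback
    let e' : pullback (haff.rep.snd p) ιk ≅ cs.cG.pt := (yon S).preimageIso e
    let e'' : (pullback (haff.rep.snd p) ιk).left ≅ cs.cG.pt.left := (Over.forget S).mapIso e'
    have hPkred : IsReduced (pullback (haff.rep.snd p) ιk).left :=
      isReduced_of_isOpenImmersion e''.hom
    have hPks := hPk.map (Over.forget S)
    let e3 : (pullback (haff.rep.snd p) ιk).left ≅ pullback (haff.rep.snd p).left (𝒰.f k) :=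
      hPks.isoPullback
    exact isReduced_of_isOpenImmersion e3.inv
  exact IsReduced.of_openCover _ (𝒰.pullback₁ (haff.rep.snd p).left)

end Lim

end Groth.Agent.Lib.Helper14.AS
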