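import Groth.Prelude.Def_AlgSp4
import Groth.Agent.Lib.Helper14.LimF
import Groth.Agent.Lib.Helper14.LimC
import Groth.Agent.Lib.Helper14.IntFinRep
universe u
open CategoryTheory CategoryTheory.Limits AlgebraicGeometry Opposite
namespace Groth.Agent.Lib.Helper14.AS
variable {S : Scheme.{u}}
open AlgSp

/-- a cofiltered limit of closed subschemes of an affine scheme is a closed subscheme -/
theorem isClosedImmersion_of_isLimit_of_isAffine {J : Type u} [SmallCategory J] [IsCofiltered J]
    (D : J ⥤ Scheme.{u}) (c : Cone D) (hc : IsLimit c) [∀ i, IsAffine (D.obj i)] [IsAffine c.pt]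
    {Z : Scheme.{u}} [IsAffine Z] (ι : ∀ j, D.obj j ⟶ Z) [∀ j, IsClosedImmersion (ι j)]
    (b : c.pt ⟶ Z) (hb : ∀ j, c.π.app j ≫ ι j = b) : IsClosedImmersion b := by
  refine IsClosedImmersion.of_surjective_of_isAffine b fun s => ?_
  obtain ⟨i, t, rfl⟩ := exists_appTop_π_eq_of_isAffine_of_isLimit D c hc s
  obtain ⟨r, rfl⟩ := (IsClosedImmersion.isAffine_surjective_of_isAffine (f := ι i)).2 t
  refine ⟨r, ?_⟩
  rw [← hb i, Scheme.Hom.comp_appTop, CommRingCat.comp_apply]

section Lim

variable {I : Type u} [SmallCategory I] [IsCofiltered I]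

set_option backward.isDefEq.respectTransparency.types false in
theorem repWith_isClosedImmersion_limMap
    (DX DY : I ⥤ Sp S) (hDX : ∀ i, IsAlgSpace (DX.obj i)) (hDY : ∀ i, IsAlgSpace (DY.obj i))
    (hXa : ∀ (i j : I) (φ : i ⟶ j), IsAffineMor (DX.map φ))
    (hYa : ∀ (i j : I) (φ : i ⟶ j), IsAffineMor (DY.map φ))
    (τ : DX ⟶ DY) (hτ : ∀ i, RepWith @IsClosedImmersion (τ.app i))
    (cX : Cone DX) (hcX : IsLimit cX) (cY : Cone DY) (hcY : IsLimit cY)
    (g : cX.pt ⟶ cY.pt) (hg : ∀ i, g ≫ cY.π.app i = cX.π.app i ≫ τ.app i) :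
    RepWith @IsClosedImmersion g := by
  have hXalg := isAlgSpace_of_limit DX hDX hXa cX hcX
  have hYalg := isAlgSpace_of_limit DY hDY hYa cY hcY
  let Xs : Space S := ⟨cX.pt, hXalg⟩
  let Ys : Space S := ⟨cY.pt, hYalg⟩
  let gs : Xs ⟶ Ys := ObjectProperty.homMk g
  refine repWith_of_affine_test (P := @IsClosedImmersion) gs ?_
  intro Z hZ z
  have hrep := fun j => (hτ j).rep.isPullback (z ≫ cY.π.app j)
  let W := fun j => (hτ j).rep.pullback (z ≫ cY.π.app j)
  let ι : ∀ j, W j ⟶ Z := fun j => (hτ j).rep.snd (z ≫ cY.π.app j)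
  let fst : ∀ j, (yon S).obj (W j) ⟶ DX.obj j := fun j => (hτ j).rep.fst (z ≫ cY.π.app j)
  have hιc : ∀ j, IsClosedImmersion (ι j).left := fun j => (hτ j).property_snd _
  have hW : ∀ j, IsAffine (W j).left := fun j => by
    have := hιc j
    exact isAffine_of_isAffineHom (ι j).left
  let G := LimChart2.chartDiagram DX DY τ cY z W ι fst hrep
  have hconn : IsConnected I := IsCofiltered.isConnected _
  obtain ⟨hG, haff⟩ := hasLimit_of_forall_isAffine G hW
  obtain ⟨j₀⟩ := IsCofiltered.nonempty (C := I)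
  have hp := LimChart2.isPullback_chart_limit DX DY τ cY z W ι fst hrep hcY cX hcX g hg
    (limit.cone G) (limit.isLimit G) j₀
  have haffc := haff _ (limit.isLimit G)
  refine ⟨(limit.cone G).pt, _, _, hp, haffc, ?_⟩
  let D' := G ⋙ Over.forget S
  have h1 : ∀ j, IsAffine (D'.obj j) := hW
  have h3 : IsAffine ((Over.forget S).mapCone (limit.cone G)).pt := haffc
  let ι' : ∀ j, D'.obj j ⟶ Z.left := fun j => (ι j).left
  have h4 : ∀ j, IsClosedImmersion (ι' j) := hιc
  exact isClosedImmersion_of_isLimit_of_isAffine D' ((Over.forget S).mapCone (limit.cone G))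
    (isLimitOfPreserves (Over.forget S) (limit.isLimit G)) ι' _ (fun j => by
      have := LimChart2.cG_ι DX DY τ cY z W ι fst hrep (limit.cone G) j j₀
      exact congrArg (fun k => k.left) this)

end Lim

end Groth.Agent.Lib.Helper14.AS
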