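import Groth.Prelude.Def_AlgSp4
import Groth.Agent.Lib.Helper14.LimZ
universe u
open CategoryTheory CategoryTheory.Limits AlgebraicGeometry Opposite Topology
namespace Groth.Agent.Lib.Helper14.AS
variable {S : Scheme.{u}}
open AlgSp

section Top

variable {I : Type u} [SmallCategory I] [IsCofiltered I]

set_option backward.isDefEq.respectTransparency.types false in
set_option maxHeartbeats 800000 in
/-- every open neighbourhood of a point of a limit contains the preimage of an open
neighbourhood of the image in some stage -/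
theorem exists_stage_open_nhd (D : I ⥤ Sp S) (hD : ∀ i, IsAlgSpace (D.obj i))
    (hDa : ∀ (i j : I) (φ : i ⟶ j), IsAffineMor (D.map φ))
    (c : Cone D) (hc : IsLimit c) (W : Set (Points c.pt)) (hW : IsOpen W)
    (x : Points c.pt) (hx : x ∈ W) :
    ∃ (i : I) (N : Set (Points (D.obj i))), IsOpen N ∧ Points.map (c.π.app i) x ∈ N ∧
      Points.map (c.π.app i) ⁻¹' N ⊆ W := by
  obtain ⟨i₀⟩ := IsCofiltered.nonempty (C := I)
  -- an affine etale chart of the stage `i₀` through the image of `x`
  obtain ⟨P, a, hae, has⟩ := (hD i₀).atlas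
  obtain ⟨p₀, hp₀⟩ := ofPt_surjective_of_repWith has (Points.map (c.π.app i₀) x)
  obtain ⟨_, ⟨U₀, hU₀ : IsAffineOpen U₀, rfl⟩, hpU₀, -⟩ :=
    P.left.isBasis_affineOpens.exists_subset_of_mem_open (Set.mem_univ p₀) isOpen_univ
  let U : Over S := openSub P U₀
  have hUaff : IsAffine U.left := hU₀
  let g : (yon S).obj U ⟶ D.obj i₀ := (yon S).map (openSubι P U₀) ≫ a
  have hge : RepWith @Etale g := repWith_etale_restrict hae U₀
  obtain ⟨cs, haff, haffc⟩ := exists_chartSystem D hDa c hc i₀ hUaff g
  have hconn : IsConnected (Over i₀) := IsCofiltered.isConnected _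
  let D' : Over i₀ ⥤ Scheme.{u} := cs.G ⋙ Over.forget S
  let c' : Cone D' := (Over.forget S).mapCone cs.cG
  have hc' : IsLimit c' := isLimitOfPreserves (Over.forget S) cs.hcG
  have h1 : ∀ (a b : Over i₀) (f : a ⟶ b), IsAffineHom (D'.map f) := by
    intro a b f
    have := haff a
    have := haff b
    exact isAffineHom_of_isAffine (X := (cs.G.obj a).left) (Y := (cs.G.obj b).left) _
  have hcsae : RepWith @Etale cs.a := repWith_of_isPullback _ cs.isPullback.flip hge
  -- a point of the limit chart over `x`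
  obtain ⟨u₀, hu₀⟩ : ∃ u₀ : U.left, Points.map (c.π.app i₀) x = Points.ofPt g u₀ := by
    have : Points.ofPt a p₀ ∈ Set.range (Points.ofPt g) := by
      rw [range_ofPt_restrict]
      exact ⟨p₀, hpU₀, rfl⟩
    obtain ⟨u₀, hu₀⟩ := this
    exact ⟨u₀, by rw [hu₀, hp₀]⟩
  obtain ⟨v, hv, -⟩ := exists_point_of_isPullback_yon' cs.isPullback x u₀ hu₀
  -- the open set of the limit chart
  have hW' : IsOpen (Points.ofPt cs.a ⁻¹' W) := hW.preimage (Points.continuous_ofPt cs.a)
  obtain ⟨_, ⟨V, hV : IsAffineOpen V, rfl⟩, hvV, hVW⟩ :=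
    cs.cG.pt.left.isBasis_affineOpens.exists_subset_of_mem_open
      (show v ∈ Points.ofPt cs.a ⁻¹' W by rw [Set.mem_preimage, hv]; exact hx) hW'
  obtain ⟨k, Vk, -, hVk⟩ := exists_preimage_eq D' c' hc' V hV.isCompact
  have hmem : ∀ v' : cs.cG.pt.left, v' ∈ V ↔ (cs.cG.π.app k).left v' ∈ Vk := by
    intro v'
    rw [← hVk]
    rfl
  have hfstke : RepWith @Etale (cs.fst k) := repWith_of_isPullback _ (cs.sq k).flip hge
  have hstage := chartSystem_isPullback_stage cs k
  refine ⟨k.left, Points.ofPt (cs.fst k) '' (Vk : Set (D'.obj k)),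
    isOpenMap_ofPt (cs.fst k) hfstke _ Vk.isOpen, ?_, ?_⟩
  · refine ⟨(cs.cG.π.app k).left v, (hmem v).1 hvV, ?_⟩
    rw [← hv, Points.map_ofPt, hstage.w, ofPt_yon_map_comp]
  · rintro x' ⟨o, ho, hox'⟩
    obtain ⟨v', hv'1, hv'2⟩ := exists_point_of_isPullback_yon' hstage x' o hox'.symm
    have : v' ∈ V := (hmem v').2 (by rw [hv'2]; exact ho)
    have := hVW this
    rwa [Set.mem_preimage, hv'1] at this

/-- the topology of a limit is induced by the projections -/
theorem points_topology_of_limit (D : I ⥤ Sp S) (hD : ∀ i, IsAlgSpace (D.obj i))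
    (hDa : ∀ (i j : I) (φ : i ⟶ j), IsAffineMor (D.map φ))
    (c : Cone D) (hc : IsLimit c) :
    Points.topologicalSpace c.pt =
      ⨅ i, TopologicalSpace.induced (Points.map (c.π.app i)) (Points.topologicalSpace (D.obj i)) := by
  apply le_antisymm
  · refine le_iInf fun i => ?_
    exact continuous_iff_le_induced.1 (Points.continuous_map (c.π.app i))
  · intro W hW
    have hW' : IsOpen W := hW
    choose i N hN hxN hNW using fun x : W => exists_stage_open_nhd D hD hDa c hc W hW' x.1 x.2
    have hWeq : W = ⋃ x : W, Points.map (c.π.app (i x)) ⁻¹' N x := by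
      ext y
      constructor
      · intro hy
        exact Set.mem_iUnion.2 ⟨⟨y, hy⟩, hxN ⟨y, hy⟩⟩
      · intro hy
        obtain ⟨x, hx⟩ := Set.mem_iUnion.1 hy
        exact hNW x hx
    rw [hWeq]
    refine @isOpen_iUnion _ _ (⨅ i, TopologicalSpace.induced (Points.map (c.π.app i))
      (Points.topologicalSpace (D.obj i))) _ fun x => ?_
    have h1 : IsOpen[TopologicalSpace.induced (Points.map (c.π.app (i x)))
        (Points.topologicalSpace (D.obj (i x)))] (Points.map (c.π.app (i x)) ⁻¹' N x) :=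
      isOpen_induced_iff.2 ⟨N x, hN x, rfl⟩
    exact (TopologicalSpace.le_def.1 (iInf_le (fun i => TopologicalSpace.induced
      (Points.map (c.π.app i)) (Points.topologicalSpace (D.obj i))) (i x))) _ h1

end Top

end Groth.Agent.Lib.Helper14.AS
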