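import Groth.Prelude.Def_AlgSp4
import Groth.Prelude.Def_AlgSpSub
import Groth.Agent.Lib.Helper14.LimTop
import Groth.Agent.Lib.Helper14.LimG
import Groth.Agent.Lib.Helper14.LimE
import Groth.Agent.Lib.Helper14.RedInd2
universe u
open CategoryTheory CategoryTheory.Limits AlgebraicGeometry Opposite Topology
namespace Groth.Agent.Lib.Helper14.AS
variable {S : Scheme.{u}}
open AlgSp

/-- a morphism from a reduced space with image in a closed set factors through the reduced
induced structure -/
theorem factors_of_isRedInduced {X Y Z : Sp S} (hY : IsAlgSpace Y) (i : Z ⟶ Y)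
    (T : Set (Points Y)) (hT : IsClosed T) (hi : IsRedInduced T i) (hX : IsReducedSp X)
    (f : X ⟶ Y) (hf : Set.range (Points.map f) ⊆ T) : ∃ f' : X ⟶ Z, f' ≫ i = f := by
  obtain ⟨k, hk⟩ := redFam_le_of_closed hY i hi.1 T hT (by rw [hi.2.1])
  obtain ⟨f'', hf''⟩ := factors_redFam_of_reduced hX f T hT hf
  exact ⟨f'' ≫ k, by rw [Category.assoc, hk, hf'']⟩

/-- uniqueness of the reduced induced structure -/
theorem exists_iso_of_isRedInduced {Y Z Z' : Sp S} (hY : IsAlgSpace Y) (i : Z ⟶ Y) (i' : Z' ⟶ Y)
    (T : Set (Points Y)) (hT : IsClosed T) (hi : IsRedInduced T i) (hi' : IsRedInduced T i') :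
    ∃ e : Z ≅ Z', e.hom ≫ i' = i := by
  obtain ⟨a, ha⟩ := factors_of_isRedInduced hY i' T hT hi' hi.2.2 i (by rw [hi.2.1])
  obtain ⟨b, hb⟩ := factors_of_isRedInduced hY i T hT hi hi'.2.2 i' (by rw [hi'.2.1])
  have : Mono i := mono_of_repWith_isClosedImmersion hi.1
  have : Mono i' := mono_of_repWith_isClosedImmersion hi'.1
  refine ⟨⟨a, b, ?_, ?_⟩, ha⟩
  · rw [← cancel_mono i, Category.assoc, hb, ha, Category.id_comp]
  · rw [← cancel_mono i', Category.assoc, ha, hb, Category.id_comp]

set_option backward.isDefEq.respectTransparency.types false in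
theorem isReducedSp_yon_of_isReduced (T : Over S) [IsReduced T.left] :
    IsReducedSp ((yon S).obj T) :=
  ⟨T, 𝟙 _, repWith_id _ _, repWith_id _ _, inferInstance⟩

section Clos

variable {I : Type u} [SmallCategory I] [IsCofiltered I]

/-- the closure of a point of a limit -/
theorem closure_point_of_limit (D : I ⥤ Sp S) (hD : ∀ i, IsAlgSpace (D.obj i))
    (hDa : ∀ (i j : I) (φ : i ⟶ j), IsAffineMor (D.map φ))
    (c : Cone D) (hc : IsLimit c) (x : Points c.pt) :
    closure {x} = {x' | ∀ i, Points.map (c.π.app i) x' ∈ closure {Points.map (c.π.app i) x}} := by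
  apply Set.Subset.antisymm
  · intro x' hx' i
    have := map_mem_closure (Points.continuous_map (c.π.app i)) hx'
      (t := {Points.map (c.π.app i) x}) (fun y hy => by rw [Set.mem_singleton_iff.1 hy]; rfl)
    exact this
  · intro x' hx'
    rw [mem_closure_iff]
    intro W hW hx'W
    obtain ⟨i, N, hN, hx'N, hNW⟩ := exists_stage_open_nhd D hD hDa c hc W hW x' hx'W
    have h1 := hx' i
    rw [mem_closure_iff] at h1
    obtain ⟨y, hyN, hy⟩ := h1 N hN hx'N
    rw [Set.mem_singleton_iff] at hy
    subst hy
    exact ⟨x, hNW hyN, rfl⟩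

set_option backward.isDefEq.respectTransparency.types false in
/-- the reduced induced structure on the closure of a point of a limit is the limit of the
reduced induced structures on the closures of its images -/
theorem isLimit_closure_point_of_limit (D : I ⥤ Sp S) (hD : ∀ i, IsAlgSpace (D.obj i))
    (hDa : ∀ (i j : I) (φ : i ⟶ j), IsAffineMor (D.map φ))
    (c : Cone D) (hc : IsLimit c) (x : Points c.pt)
    (Z : Sp S) (zι : Z ⟶ c.pt) (hZ : IsRedInduced (closure {x}) zι)
    (DZ : I ⥤ Sp S) (hDZ : ∀ i, IsAlgSpace (DZ.obj i)) (ι : DZ ⟶ D)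
    (hι : ∀ i, IsRedInduced (closure {Points.map (c.π.app i) x}) (ι.app i))
    (ξ : (Functor.const I).obj Z ⟶ DZ) (hξ : ∀ i, ξ.app i ≫ ι.app i = zι ≫ c.π.app i) :
    Nonempty (IsLimit (Cone.mk Z ξ)) := by
  have hXalg : IsAlgSpace c.pt := isAlgSpace_of_limit D hD hDa c hc
  have hmono : ∀ i, Mono (ι.app i) := fun i => mono_of_repWith_isClosedImmersion (hι i).1
  -- the transition maps of the closures are affine
  have hDZa : ∀ (i j : I) (φ : i ⟶ j), IsAffineMor (DZ.map φ) := by
    intro i j φ
    have := hmono j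
    have hΔ : IsIso (pullback.diagonal (ι.app j)) := (pullback.isIso_diagonal_iff _).2 inferInstance
    refine isAffineMor_of_comp (DZ.map φ) (ι.app j) ?_
      (isAffineMor_of_repWith (repWith_of_isIso @IsAffineHom _))
    rw [ι.naturality]
    exact isAffineMor_comp (isAffineMor_of_repWith_isClosedImmersion (hι i).1) (hDa i j φ)
  let cZ := limit.cone DZ
  have hcZ : IsLimit cZ := limit.isLimit DZ
  let G : cZ.pt ⟶ c.pt := hc.lift ⟨cZ.pt, cZ.π ≫ ι⟩
  have hG : ∀ i, G ≫ c.π.app i = cZ.π.app i ≫ ι.app i := fun i => hc.fac _ i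
  have hGcl : RepWith @IsClosedImmersion G :=
    repWith_isClosedImmersion_limMap DZ D hDZ hD hDZa hDa ι (fun i => (hι i).1) cZ hcZ c hc G hG
  have hred : IsReducedSp cZ.pt := isReducedSp_of_limit DZ hDZ hDZa cZ hcZ (fun i => (hι i).2.2)
  have hrange : Set.range (Points.map G) = closure {x} := by
    rw [closure_point_of_limit D hD hDa c hc x]
    apply Set.Subset.antisymm
    · rintro _ ⟨y, rfl⟩ i
      rw [← Points.map_comp, hG, Points.map_comp, ← (hι i).2.1]
      exact ⟨_, rfl⟩
    · intro x' hx'
      induction x' using Points.ind with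
      | h q =>
        have hqred : IsReducedSp ((yon S).obj q.pt) := by
          have : IsReduced q.pt.left := inferInstanceAs (IsReduced (Spec (CommRingCat.of q.K)))
          exact isReducedSp_yon_of_isReduced q.pt
        have hex : ∀ i, ∃ b : (yon S).obj q.pt ⟶ DZ.obj i, b ≫ ι.app i = q.toHom ≫ c.π.app i := by
          intro i
          refine factors_of_isRedInduced (hD i) (ι.app i) _ isClosed_closure (hι i) hqred _ ?_
          rintro _ ⟨y, rfl⟩
          rw [Points.map_comp, points_map_toHom_eq]
          exact hx' i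
        choose b hb using hex
        let ℓ : (yon S).obj q.pt ⟶ cZ.pt := hcZ.lift ⟨(yon S).obj q.pt,
          { app := b
            naturality := fun i j φ => by
              have := hmono j
              rw [← cancel_mono (ι.app j)]
              change (𝟙 _ ≫ b j) ≫ ι.app j = (b i ≫ DZ.map φ) ≫ ι.app j
              rw [Category.id_comp, Category.assoc, ι.naturality, ← Category.assoc, hb, hb,
                Category.assoc, c.w] }⟩
        have hℓ : ∀ i, ℓ ≫ cZ.π.app i = b i := fun i => hcZ.fac _ i
        have hℓG : ℓ ≫ G = q.toHom := by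
          apply hc.hom_ext
          intro i
          rw [Category.assoc, hG, ← Category.assoc, hℓ, hb]
        refine ⟨Points.ofPt ℓ (IsLocalRing.closedPoint q.K), ?_⟩
        rw [Points.map_ofPt, hℓG]
        exact Points.ofPt_toHom q _
  have hGred : IsRedInduced (closure {x}) G := ⟨hGcl, hrange, hred⟩
  obtain ⟨e, he⟩ := exists_iso_of_isRedInduced hXalg zι G _ isClosed_closure hZ hGred
  refine ⟨IsLimit.ofIsoLimit hcZ (Cones.ext e.symm fun i => ?_)⟩
  have := hmono i
  change cZ.π.app i = e.inv ≫ ξ.app i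
  rw [← cancel_mono (ι.app i), Category.assoc, hξ, ← he, ← hG]
  simp

end Clos

end Groth.Agent.Lib.Helper14.AS
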