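import Mathlib
import Groth.Agent.Lib.Helper1.NACI

/-!
# Morphisms from a limit with dominant affine transitions to a scheme of finite type (helper14)
-/

set_option autoImplicit false
universe u
open CategoryTheory CategoryTheory.Limits AlgebraicGeometry Opposite

namespace Groth.Agent.Lib.Helper14.LimHom

open Groth.Agent.Lib.Helper1

/-- A quasi-compact quasi-separated scheme locally of finite type over a quasi-separated base is
a closed subscheme of a scheme locally of finite presentation over the base. -/
theorem exists_closedImmersion_fp {Y S : Scheme.{u}} (f : Y ⟶ S) [CompactSpace Y]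
    [QuasiSeparatedSpace Y] [QuasiSeparatedSpace S] [LocallyOfFiniteType f] :
    ∃ (Y' : Scheme.{u}) (ι : Y ⟶ Y') (f' : Y' ⟶ S), IsClosedImmersion ι ∧
      LocallyOfFinitePresentation f' ∧ ι ≫ f' = f := by
  obtain ⟨Λ, hpre, hdir, hne, E, s, cY, hcY, e, hes, hfp, haff, hπaff, hcpt⟩ :=
    NA.exists_fp_limit' f
  obtain ⟨l₀⟩ := hne
  have hlft : LocallyOfFiniteType (cY.π.app (op l₀)) := by
    have : LocallyOfFiniteType (cY.π.app (op l₀) ≫ s.app (op l₀)) := by
      rw [hes]
      infer_instance
    exact locallyOfFiniteType_of_comp _ (s.app (op l₀))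
  have hc0 := hcpt (op l₀)
  have hne' : Nonempty Λ := ⟨l₀⟩
  obtain ⟨j, _, hj⟩ := NA.exists_isClosedImmersion_π E cY hcY haff l₀
  have hci : IsClosedImmersion (cY.π.app (op j)) := hj j le_rfl
  refine ⟨E.obj (op j), e.inv ≫ cY.π.app (op j), s.app (op j), inferInstance, (hfp _).1, ?_⟩
  rw [Category.assoc, hes, Iso.inv_hom_id_assoc]

/-- The projections of a cofiltered limit with affine scheme-theoretically dominant transition
maps are scheme-theoretically dominant. -/
theorem isSchemeTheoreticallyDominant_π {I : Type u} [Category.{u} I] [IsCofiltered I]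
    (D : I ⥤ Scheme.{u}) (c : Cone D) (hc : IsLimit c)
    [∀ {i j : I} (t : i ⟶ j), IsAffineHom (D.map t)]
    (hdom : ∀ {i j : I} (t : i ⟶ j), IsSchemeTheoreticallyDominant (D.map t)) (i : I) :
    IsSchemeTheoreticallyDominant (c.π.app i) := by
  have haff : IsAffineHom (c.π.app i) := isAffineHom_π_app D c hc i
  refine ⟨?_⟩
  apply Scheme.IdealSheafData.ext
  funext U
  rw [Scheme.Hom.ker_apply, Scheme.IdealSheafData.ideal_bot]
  change RingHom.ker ((c.π.app i).app U.1).hom = ⊥
  rw [← RingHom.injective_iff_ker_eq_bot, injective_iff_map_eq_zero]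
  intro x hx
  obtain ⟨j, t, ht⟩ := exists_app_map_eq_zero_of_isLimit D c hc U.2.isCompact x hx
  have := hdom t
  exact (injective_iff_map_eq_zero _).mp ((D.map t).app_injective U.1) x ht

end Groth.Agent.Lib.Helper14.LimHom
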