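import Mathlib
import Groth.Agent.Lib.Helper14.LimHom1

/-!
# `Hom_S(lim X_i, Y) = colim Hom_S(X_i, Y)` for `Y` of finite type and dominant transitions
-/

set_option autoImplicit false
universe u
open CategoryTheory CategoryTheory.Limits AlgebraicGeometry Opposite

namespace Groth.Agent.Lib.Helper14.LimHom

theorem main {S : Scheme.{u}} [QuasiSeparatedSpace S] {I : Type u} [SmallCategory I]
    [IsCofiltered I] (D : I ⥤ Over S) (c : Cone D) (hc : IsLimit c)
    [∀ (i j : I) (t : i ⟶ j), IsAffineHom (D.map t).left]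
    [∀ (i j : I) (t : i ⟶ j), IsSchemeTheoreticallyDominant (D.map t).left]
    [∀ i, CompactSpace (D.obj i).left] [∀ i, QuasiSeparatedSpace (D.obj i).left]
    (Y : Over S) [CompactSpace Y.left] [QuasiSeparatedSpace Y.left] [LocallyOfFiniteType Y.hom] :
    (∀ φ : c.pt ⟶ Y, ∃ (i : I) (φi : D.obj i ⟶ Y), c.π.app i ≫ φi = φ) ∧
      ∀ (i : I) (φ ψ : D.obj i ⟶ Y), c.π.app i ≫ φ = c.π.app i ≫ ψ →
        ∃ (j : I) (t : j ⟶ i), D.map t ≫ φ = D.map t ≫ ψ := by
  have hconn : IsConnected I := IsCofiltered.isConnected I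
  let D' : I ⥤ Scheme.{u} := D ⋙ Over.forget S
  let t' : D' ⟶ (Functor.const I).obj S :=
    { app := fun i => (D.obj i).hom
      naturality := by
        intro i j a
        change (D.map a).left ≫ (D.obj j).hom = (D.obj i).hom ≫ 𝟙 S
        rw [Over.w, Category.comp_id] }
  let c' : Cone D' := (Over.forget S).mapCone c
  have hc' : IsLimit c' := isLimitOfPreserves (Over.forget S) hc
  have haff : ∀ {i j : I} (f : i ⟶ j), IsAffineHom (D'.map f) := fun f =>
    inferInstanceAs (IsAffineHom (D.map f).left)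
  have hdom : ∀ {i j : I} (f : i ⟶ j), IsSchemeTheoreticallyDominant (D'.map f) := fun f =>
    inferInstanceAs (IsSchemeTheoreticallyDominant (D.map f).left)
  have hcpt : ∀ i, CompactSpace (D'.obj i) := fun i =>
    inferInstanceAs (CompactSpace (D.obj i).left)
  have hqs : ∀ i, QuasiSeparatedSpace (D'.obj i) := fun i =>
    inferInstanceAs (QuasiSeparatedSpace (D.obj i).left)
  constructor
  · intro φ
    obtain ⟨Y', ιY, f', hci, hfp, hfac⟩ := exists_closedImmersion_fp Y.hom
    let a : c'.pt ⟶ Y' := φ.left ≫ ιY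
    have haf : a ≫ f' = c.pt.hom := by
      change (φ.left ≫ ιY) ≫ f' = c.pt.hom
      rw [Category.assoc, hfac, Over.w]
    have ha : c'.π ≫ t' = (Functor.const I).map (a ≫ f') := by
      ext i
      change (c.π.app i).left ≫ (D.obj i).hom = a ≫ f'
      rw [haf]
      exact Over.w (c.π.app i)
    obtain ⟨i, g, hg1, hg2⟩ :=
      Scheme.exists_π_app_comp_eq_of_locallyOfFinitePresentation D' t' f' c' hc' a ha
    let z := pullback.fst g ιY
    let l : c'.pt ⟶ pullback g ιY := pullback.lift (c'.π.app i) φ.left hg1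
    have hl : l ≫ z = c'.π.app i := pullback.lift_fst _ _ _
    have hdomπ := isSchemeTheoreticallyDominant_π D' c' hc' hdom i
    have hz : z.ker = ⊥ := by
      have h1 := l.le_ker_comp z
      rw [hl, (c'.π.app i).ker_eq_bot] at h1
      exact le_bot_iff.mp h1
    have hziso : IsIso z := IsClosedImmersion.isIso_iff_ker_eq_bot.mpr hz
    have hg2' : g ≫ f' = (D.obj i).hom := hg2
    let zi : D'.obj i ⟶ pullback g ιY := inv z
    have hzi : zi ≫ z = 𝟙 _ := IsIso.inv_hom_id z
    let q : (D.obj i).left ⟶ Y.left := zi ≫ pullback.snd g ιY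
    have hq : q ≫ ιY = g := by
      change (zi ≫ pullback.snd g ιY) ≫ ιY = g
      rw [Category.assoc, ← pullback.condition]
      change zi ≫ z ≫ g = g
      rw [← Category.assoc, hzi, Category.id_comp]
    have hw : q ≫ Y.hom = (D.obj i).hom := by
      rw [← hfac, ← Category.assoc, hq]
      exact hg2'
    refine ⟨i, Over.homMk q hw, ?_⟩
    apply Over.OverMorphism.ext
    change (c.π.app i).left ≫ q = φ.left
    have hmono : Mono ιY := inferInstance
    rw [← cancel_mono ιY, Category.assoc, hq]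
    exact hg1
  · intro i φ ψ h
    obtain ⟨k, hik, hk⟩ := Scheme.exists_hom_comp_eq_comp_of_locallyOfFiniteType D' t' Y.hom c' hc'
      φ.left ψ.left (Over.w φ).symm (Over.w ψ).symm (congrArg (fun χ => χ.left) h)
    exact ⟨k, hik, Over.OverMorphism.ext hk⟩

end Groth.Agent.Lib.Helper14.LimHom
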