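import Mathlib
import Groth.Agent.Lib.Helper1.IdealSheafComap

/-!
# Descent of containments of inverse image ideal sheaves along cofiltered limits: affine case
-/

set_option autoImplicit false
universe u
open CategoryTheory CategoryTheory.Limits AlgebraicGeometry Opposite

namespace Groth.Agent.Lib.Helper14.LimIdeal

section affine

variable {𝒥 : Type u} [Category.{u} 𝒥] [IsCofiltered 𝒥] (E : 𝒥 ⥤ Scheme.{u})
  [∀ j, IsAffine (E.obj j)] (cE : Cone E) (hcE : IsLimit cE)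

omit [IsCofiltered 𝒥] [∀ j, IsAffine (E.obj j)] in
theorem map_appTop_comp {j j' j₀ : 𝒥} (a : j' ⟶ j) (s : j ⟶ j₀) (K₀ : Ideal Γ(E.obj j₀, ⊤)) :
    (K₀.map (E.map s).appTop.hom).map (E.map a).appTop.hom = K₀.map (E.map (a ≫ s)).appTop.hom := by
  rw [Ideal.map_map, E.map_comp, Scheme.Hom.comp_appTop]
  rfl

omit [IsCofiltered 𝒥] [∀ j, IsAffine (E.obj j)] in
theorem π_appTop_map {j j' : 𝒥} (a : j' ⟶ j) (y : Γ(E.obj j, ⊤)) :
    (cE.π.app j').appTop ((E.map a).appTop y) = (cE.π.app j).appTop y := by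
  have := cE.w a
  rw [← this, Scheme.Hom.comp_appTop]
  rfl

include hcE in
/-- The ring-level statement. -/
theorem exists_mem_map_appTop (j₀ : 𝒥) (K₀ : Ideal Γ(E.obj j₀, ⊤)) (f : Γ(E.obj j₀, ⊤))
    (h : (cE.π.app j₀).appTop f ∈ K₀.map (cE.π.app j₀).appTop.hom) :
    ∃ (j : 𝒥) (s : j ⟶ j₀), (E.map s).appTop f ∈ K₀.map (E.map s).appTop.hom := by
  have key : ∀ x ∈ K₀.map (cE.π.app j₀).appTop.hom,
      ∃ (j : 𝒥) (s : j ⟶ j₀) (y : Γ(E.obj j, ⊤)), y ∈ K₀.map (E.map s).appTop.hom ∧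
        (cE.π.app j).appTop y = x := by
    intro x hx
    induction hx using Submodule.span_induction with
    | mem x hx =>
      obtain ⟨κ, hκ, rfl⟩ := hx
      exact ⟨j₀, 𝟙 j₀, (E.map (𝟙 j₀)).appTop κ, Ideal.mem_map_of_mem _ hκ, π_appTop_map E cE _ _⟩
    | zero => exact ⟨j₀, 𝟙 j₀, 0, Ideal.zero_mem _, map_zero _⟩
    | add x₁ x₂ _ _ h₁ h₂ =>
      obtain ⟨j₁, s₁, y₁, hy₁, rfl⟩ := h₁
      obtain ⟨j₂, s₂, y₂, hy₂, rfl⟩ := h₂
      obtain ⟨j, a₁, a₂, ha⟩ := IsCofiltered.cospan s₁ s₂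
      refine ⟨j, a₁ ≫ s₁, (E.map a₁).appTop y₁ + (E.map a₂).appTop y₂, Ideal.add_mem _ ?_ ?_, ?_⟩
      · rw [← map_appTop_comp]
        exact Ideal.mem_map_of_mem _ hy₁
      · rw [ha, ← map_appTop_comp]
        exact Ideal.mem_map_of_mem _ hy₂
      · rw [map_add, π_appTop_map, π_appTop_map]
    | smul a x _ hx =>
      obtain ⟨j₁, s₁, y₁, hy₁, rfl⟩ := hx
      obtain ⟨j₂, b, rfl⟩ := exists_appTop_π_eq_of_isAffine_of_isLimit E cE hcE a
      refine ⟨IsCofiltered.min j₁ j₂, IsCofiltered.minToLeft j₁ j₂ ≫ s₁,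
        (E.map (IsCofiltered.minToRight j₁ j₂)).appTop b *
          (E.map (IsCofiltered.minToLeft j₁ j₂)).appTop y₁, Ideal.mul_mem_left _ _ ?_, ?_⟩
      · rw [← map_appTop_comp]
        exact Ideal.mem_map_of_mem _ hy₁
      · rw [map_mul, π_appTop_map, π_appTop_map]
        rfl
  obtain ⟨j, s, y, hy, hyx⟩ := key _ h
  have h0 : (cE.π.app j).appTop (y - (E.map s).appTop f) = 0 := by
    rw [map_sub, hyx, π_appTop_map, sub_self]
  obtain ⟨j', a, ha⟩ := exists_appTop_map_eq_zero_of_isAffine_of_isLimit E cE hcE j _ h0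
  refine ⟨j', a ≫ s, ?_⟩
  rw [map_sub, sub_eq_zero] at ha
  have e1 : (E.map (a ≫ s)).appTop f = (E.map a).appTop ((E.map s).appTop f) := by
    rw [E.map_comp, Scheme.Hom.comp_appTop]
    rfl
  rw [e1, ← ha, ← map_appTop_comp]
  exact Ideal.mem_map_of_mem _ hy

/-- The ideal at `⊤` of an inverse image ideal sheaf, for affine schemes. -/
theorem ideal_top_comap {X Y : Scheme.{u}} [IsAffine X] [IsAffine Y] (I : Y.IdealSheafData)
    (g : X ⟶ Y) :
    (I.comap g).ideal ⟨⊤, isAffineOpen_top X⟩ =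
      (I.ideal ⟨⊤, isAffineOpen_top Y⟩).map g.appTop.hom := by
  rw [Groth.Agent.Lib.Helper1.ideal_comap I g ⟨⊤, isAffineOpen_top X⟩ ⟨⊤, isAffineOpen_top Y⟩
    le_top]
  congr 2
  simp [Scheme.Hom.appLE, Scheme.Hom.appTop]

include hcE in
/-- Affine case of the descent of a containment of inverse image ideal sheaves. -/
theorem exists_comap_le_comap_of_isAffine (j₀ : 𝒥) (J' K' : (E.obj j₀).IdealSheafData)
    (f : Γ(E.obj j₀, ⊤)) (hJ' : J'.ideal ⟨⊤, isAffineOpen_top _⟩ = Ideal.span {f})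
    (h : J'.comap (cE.π.app j₀) ≤ K'.comap (cE.π.app j₀)) :
    ∃ (j : 𝒥) (s : j ⟶ j₀), J'.comap (E.map s) ≤ K'.comap (E.map s) := by
  have hpt : IsAffine cE.pt := Scheme.isAffine_of_isLimit cE hcE
  have hpt' : IsAffine (((Functor.const 𝒥).obj cE.pt).obj j₀) := hpt
  have h1 := h ⟨⊤, isAffineOpen_top _⟩
  rw [ideal_top_comap, ideal_top_comap, hJ', Ideal.map_span, Set.image_singleton,
    Ideal.span_singleton_le_iff_mem] at h1
  obtain ⟨j, s, hs⟩ := exists_mem_map_appTop E cE hcE j₀ _ f h1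
  refine ⟨j, s, Scheme.IdealSheafData.le_of_isAffine ?_⟩
  rw [ideal_top_comap, ideal_top_comap, hJ', Ideal.map_span, Set.image_singleton,
    Ideal.span_singleton_le_iff_mem]
  exact hs

end affine

end Groth.Agent.Lib.Helper14.LimIdeal
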