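import Mathlib
import Groth.Agent.Lib.Helper14.LimIdeal1

/-!
# Descent of containments of inverse image ideal sheaves along cofiltered limits: general case
-/

set_option autoImplicit false
universe u
open CategoryTheory CategoryTheory.Limits AlgebraicGeometry Opposite

namespace Groth.Agent.Lib.Helper14.LimIdeal

/-- A containment of ideal sheaves restricted to an affine open gives the containment of the
ideals on this affine open. -/
theorem ideal_le_of_comap_ι_le {X : Scheme.{u}} (I I' : X.IdealSheafData) (V : X.affineOpens)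
    (h : I.comap V.1.ι ≤ I'.comap V.1.ι) : I.ideal V ≤ I'.ideal V := by
  have hV : IsAffine (V.1 : Scheme.{u}) := V.2
  have h1 := h ⟨⊤, isAffineOpen_top _⟩
  rw [Scheme.IdealSheafData.ideal_comap_of_isOpenImmersion,
    Scheme.IdealSheafData.ideal_comap_of_isOpenImmersion] at h1
  have hsurj : Function.Surjective ((V.1.ι.appIso ⊤).inv.hom) :=
    (ConcreteCategory.bijective_of_isIso (V.1.ι.appIso ⊤).inv).2
  have h2 := (Ideal.comap_le_comap_iff_of_surjective _ hsurj _ _).mp h1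
  have e : (⟨V.1.ι ''ᵁ ⊤, (isAffineOpen_top (V.1 : Scheme.{u})).image_of_isOpenImmersion V.1.ι⟩ :
      X.affineOpens) = V := Subtype.ext (Scheme.Opens.ι_image_top V.1)
  have gen : ∀ V' : X.affineOpens, V' = V → I.ideal V' ≤ I'.ideal V' → I.ideal V ≤ I'.ideal V := by
    rintro _ rfl h
    exact h
  exact gen _ e h2

section general

variable {I : Type u} [Category.{u} I] [IsCofiltered I] (D : I ⥤ Scheme.{u})
  [∀ {i j : I} (t : i ⟶ j), IsAffineHom (D.map t)] (c : Cone D) (hc : IsLimit c)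

include hc in
/-- Local version on an affine open on which `J₀` is principal. -/
theorem exists_ideal_comap_le (i₀ : I) (J₀ K : (D.obj i₀).IdealSheafData)
    (h : J₀.comap (c.π.app i₀) ≤ K.comap (c.π.app i₀)) (U : (D.obj i₀).affineOpens)
    (f : Γ(D.obj i₀, U.1)) (hf : J₀.ideal U = Ideal.span {f}) :
    ∃ j : Over i₀, ∀ (j' : Over i₀) (_ : j' ⟶ j),
      (J₀.comap (D.map j'.hom)).ideal ⟨D.map j'.hom ⁻¹ᵁ U.1, U.2.preimage (D.map j'.hom)⟩ ≤
        (K.comap (D.map j'.hom)).ideal ⟨D.map j'.hom ⁻¹ᵁ U.1, U.2.preimage (D.map j'.hom)⟩ := by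
  let E := opensDiagram D i₀ U.1
  let cE := opensCone D c i₀ U.1
  have hcE : IsLimit cE := isLimitOpensCone D c hc i₀ U.1
  have hEaff : ∀ j, IsAffine (E.obj j) := fun j => U.2.preimage (D.map j.hom)
  let j₀ : Over i₀ := Over.mk (𝟙 i₀)
  let ι₀ : E.obj j₀ ⟶ D.obj i₀ := (opensDiagramι D i₀ U.1).app j₀
  have hι : ∀ j : Over i₀, (opensDiagramι D i₀ U.1).app j = (D.map j.hom ⁻¹ᵁ U.1).ι := fun j => rfl
  -- principal generator upstairs
  have e₀ : (⊤ : (E.obj j₀).Opens) ≤ ι₀ ⁻¹ᵁ U.1 := by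
    intro x _
    have hx : (D.map (𝟙 i₀)) x.1 ∈ U.1 := x.2
    rw [D.map_id] at hx
    exact hx
  have hJ' : (J₀.comap ι₀).ideal ⟨⊤, isAffineOpen_top _⟩ =
      Ideal.span {(ι₀.appLE U.1 ⊤ e₀).hom f} := by
    rw [Groth.Agent.Lib.Helper1.ideal_comap J₀ ι₀ ⟨⊤, isAffineOpen_top _⟩ U e₀, hf,
      Ideal.map_span, Set.image_singleton]
  have hnat : ∀ j : Over i₀, cE.π.app j ≫ (opensDiagramι D i₀ U.1).app j =
      (c.π.app i₀ ⁻¹ᵁ U.1).ι ≫ c.π.app j.left := fun j => Scheme.Hom.resLE_comp_ι _ _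
  let p : ((c.π.app i₀ ⁻¹ᵁ U.1 : (c.pt).Opens) : Scheme.{u}) ⟶ E.obj j₀ := cE.π.app j₀
  have hp : p ≫ ι₀ = (c.π.app i₀ ⁻¹ᵁ U.1).ι ≫ c.π.app i₀ := hnat j₀
  have hh : (J₀.comap ι₀).comap p ≤ (K.comap ι₀).comap p := by
    rw [← Scheme.IdealSheafData.comap_comp, ← Scheme.IdealSheafData.comap_comp, hp,
      Scheme.IdealSheafData.comap_comp, Scheme.IdealSheafData.comap_comp]
    exact Scheme.IdealSheafData.comap_mono _ h
  obtain ⟨j, s, hs⟩ := exists_comap_le_comap_of_isAffine E cE hcE j₀ (J₀.comap ι₀) (K.comap ι₀)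
    _ hJ' hh
  refine ⟨j, fun j' a => ?_⟩
  apply ideal_le_of_comap_ι_le
  have hcomp : E.map (a ≫ s) ≫ ι₀ = (D.map j'.hom ⁻¹ᵁ U.1).ι ≫ D.map j'.hom := by
    have h1 := (opensDiagramι D i₀ U.1).naturality (a ≫ s)
    have h2 : (a ≫ s).left = j'.hom := by
      have := Over.w (a ≫ s)
      exact (Category.comp_id _).symm.trans this
    rw [hι] at h1
    change E.map (a ≫ s) ≫ ι₀ = _ at h1
    rw [h1]
    change (D.map j'.hom ⁻¹ᵁ U.1).ι ≫ D.map (a ≫ s).left = _
    rw [h2]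
  have h3 : (J₀.comap ι₀).comap (E.map (a ≫ s)) ≤ (K.comap ι₀).comap (E.map (a ≫ s)) := by
    rw [E.map_comp, Scheme.IdealSheafData.comap_comp, Scheme.IdealSheafData.comap_comp]
    exact Scheme.IdealSheafData.comap_mono _ hs
  have e5 : ∀ L : (D.obj i₀).IdealSheafData, (L.comap ι₀).comap (E.map (a ≫ s)) =
      (L.comap (D.map j'.hom)).comap (D.map j'.hom ⁻¹ᵁ U.1).ι := fun L =>
    ((Scheme.IdealSheafData.comap_comp L (E.map (a ≫ s)) ι₀).symm.trans
      (congrArg (fun q => L.comap q) hcomp)).trans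
      (Scheme.IdealSheafData.comap_comp L (D.map j'.hom ⁻¹ᵁ U.1).ι (D.map j'.hom))
  exact ((e5 J₀).symm.le.trans h3).trans (e5 K).le

include hc in
/-- Descent of a containment `J₀·O ≤ K·O` of inverse image ideal sheaves from the limit to a finite
level, for `J₀` locally principal on a quasi-compact scheme. -/
theorem exists_comap_le_comap (i₀ : I) [CompactSpace (D.obj i₀)]
    (J₀ K : (D.obj i₀).IdealSheafData)
    (hloc : ∀ x : D.obj i₀, ∃ U : (D.obj i₀).affineOpens, x ∈ U.1 ∧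
      ∃ f : Γ(D.obj i₀, U.1), J₀.ideal U = Ideal.span {f})
    (h : J₀.comap (c.π.app i₀) ≤ K.comap (c.π.app i₀)) :
    ∃ (i : I) (t : i ⟶ i₀), J₀.comap (D.map t) ≤ K.comap (D.map t) := by
  classical
  choose U hxU f hf using hloc
  obtain ⟨T, hT⟩ := CompactSpace.elim_nhds_subcover (fun x => ((U x).1 : Set (D.obj i₀)))
    (fun x => (U x).1.isOpen.mem_nhds (hxU x))
  choose j hj using fun x => exists_ideal_comap_le D c hc i₀ J₀ K h (U x) (f x) (hf x)
  obtain ⟨j', hj'⟩ := IsCofiltered.inf_objs_exists (T.image j)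
  have hj'' : ∀ x ∈ T, Nonempty (j' ⟶ j x) := fun x hx => hj' (Finset.mem_image_of_mem j hx)
  refine ⟨j'.left, j'.hom, ?_⟩
  refine Scheme.IdealSheafData.le_of_iSup_eq_top
    (fun x : {x // x ∈ T} => ⟨D.map j'.hom ⁻¹ᵁ (U x.1).1, (U x.1).2.preimage (D.map j'.hom)⟩) ?_
    (fun x => ?_)
  · rw [eq_top_iff]
    intro y _
    have hy : (D.map j'.hom) y ∈ ⋃ x ∈ T, ((U x).1 : Set (D.obj i₀)) := by
      rw [hT]
      trivial
    simp only [Set.mem_iUnion] at hy
    obtain ⟨x, hxT, hyx⟩ := hy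
    exact TopologicalSpace.Opens.mem_iSup.mpr ⟨⟨x, hxT⟩, hyx⟩
  · obtain ⟨a⟩ := hj'' x.1 x.2
    exact hj x.1 j' a

end general

end Groth.Agent.Lib.Helper14.LimIdeal
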