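import Groth.Prelude.Def_AlgSp4
import Groth.Agent.Lib.Helper14.LimF
universe u
open CategoryTheory CategoryTheory.Limits AlgebraicGeometry Opposite
namespace Groth.Agent.Lib.Helper14.AS
variable {S : Scheme.{u}}
open AlgSp


namespace LimChart2
section Conv

variable {J : Type u} [SmallCategory J] (DX DY : J ⥤ Sp S) (τ : DX ⟶ DY)
  (cY : Cone DY) {Z : Over S} (z : (yon S).obj Z ⟶ cY.pt)
  (W : J → Over S) (ι : ∀ j, W j ⟶ Z) (fst : ∀ j, (yon S).obj (W j) ⟶ DX.obj j)
  (sq : ∀ j, IsPullback (fst j) ((yon S).map (ι j)) (τ.app j) (z ≫ cY.π.app j))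
  (hcY : IsLimit cY) (cX : Cone DX) (hcX : IsLimit cX)
  (g : cX.pt ⟶ cY.pt) (hg : ∀ j, g ≫ cY.π.app j = cX.π.app j ≫ τ.app j)
  {P : Over S} (a : (yon S).obj P ⟶ cX.pt) (b : P ⟶ Z) (hP : IsPullback a ((yon S).map b) g z)

include hP hg in
theorem pLeg_cond (j : J) :
    (a ≫ cX.π.app j) ≫ τ.app j = (yon S).map b ≫ z ≫ cY.π.app j := by
  rw [Category.assoc, ← hg, ← Category.assoc, hP.w, Category.assoc]

/-- the legs of the cone with apex the base change of the limit -/
noncomputable def pLeg (j : J) : P ⟶ W j :=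
  (yon S).preimage ((sq j).lift (a ≫ cX.π.app j) ((yon S).map b)
    (pLeg_cond DX DY τ cY z cX g hg a b hP j))

theorem pLeg_fst (j : J) :
    (yon S).map (pLeg DX DY τ cY z W ι fst sq cX g hg a b hP j) ≫ fst j = a ≫ cX.π.app j := by
  rw [pLeg, Functor.map_preimage, (sq j).lift_fst]

theorem pLeg_ι (j : J) : pLeg DX DY τ cY z W ι fst sq cX g hg a b hP j ≫ ι j = b := by
  apply (yon S).map_injective
  rw [(yon S).map_comp, pLeg, Functor.map_preimage, (sq j).lift_snd]

theorem pLeg_nat {j j' : J} (h : j ⟶ j') :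
    pLeg DX DY τ cY z W ι fst sq cX g hg a b hP j ≫ chartMap DX DY τ cY z W ι fst sq h =
      pLeg DX DY τ cY z W ι fst sq cX g hg a b hP j' := by
  apply chart_hom_ext DX DY τ cY z W ι fst sq
  · rw [pLeg_fst, (yon S).map_comp, Category.assoc, chartMap_fst, ← Category.assoc,
      pLeg_fst, Category.assoc, cX.w]
  · rw [pLeg_ι, Category.assoc, chartMap_ι, pLeg_ι]

/-- the cone with apex the base change of the limit -/
noncomputable def pCone : Cone (chartDiagram DX DY τ cY z W ι fst sq) where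
  pt := P
  π :=
    { app := fun j => pLeg DX DY τ cY z W ι fst sq cX g hg a b hP j
      naturality := fun j j' h =>
        (Category.id_comp _).trans (pLeg_nat DX DY τ cY z W ι fst sq cX g hg a b hP h).symm }

include hcY hcX in
/-- the base change of the limit is the limit of the charts -/
theorem nonempty_isLimit_pCone [IsPreconnected J] [Nonempty J] :
    Nonempty (IsLimit (pCone DX DY τ cY z W ι fst sq cX g hg a b hP)) := by
  obtain ⟨j₀⟩ := ‹Nonempty J›
  refine ⟨IsLimit.ofExistsUnique fun s => ?_⟩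
  -- the induced point of the limit
  have hsw : ∀ {j j' : J} (h : j ⟶ j'), s.π.app j ≫ chartMap DX DY τ cY z W ι fst sq h =
      s.π.app j' := fun h => s.w h
  let sπ : ∀ j, s.pt ⟶ W j := fun j => s.π.app j
  have hsπ : ∀ {j j' : J} (h : j ⟶ j'), sπ j ≫ chartMap DX DY τ cY z W ι fst sq h = sπ j' := hsw
  have hconst : ∀ j j', sπ j ≫ ι j = sπ j' ≫ ι j' := by
    intro j j'
    refine constant_of_preserves_morphisms (fun j => sπ j ≫ ι j) (fun j₁ j₂ h => ?_) j j'
    rw [← hsπ h, Category.assoc, chartMap_ι]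
  let sX : Cone DX :=
    { pt := (yon S).obj s.pt
      π :=
        { app := fun j => (yon S).map (sπ j) ≫ fst j
          naturality := fun j j' h => by
            simp only [Functor.const_obj_obj, Functor.const_obj_map, Category.id_comp]
            rw [← hsπ h, (yon S).map_comp, Category.assoc, chartMap_fst, Category.assoc] } }
  let x : (yon S).obj s.pt ⟶ cX.pt := hcX.lift sX
  have hx : ∀ j, x ≫ cX.π.app j = (yon S).map (sπ j) ≫ fst j := fun j => hcX.fac sX j
  let t' : s.pt ⟶ Z := sπ j₀ ≫ ι j₀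
  have hcond : x ≫ g = (yon S).map t' ≫ z := by
    apply hcY.hom_ext
    intro j
    rw [Category.assoc, hg, ← Category.assoc, hx, Category.assoc, (sq j).w, ← Category.assoc,
      ← (yon S).map_comp, hconst j j₀, Category.assoc]
  let l : s.pt ⟶ P := (yon S).preimage (hP.lift x ((yon S).map t') hcond)
  have hl1 : (yon S).map l ≫ a = x := by rw [Functor.map_preimage, hP.lift_fst]
  have hl2 : l ≫ b = t' := by
    apply (yon S).map_injective
    rw [(yon S).map_comp, Functor.map_preimage, hP.lift_snd]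
  refine ⟨l, fun j => ?_, fun (l' : s.pt ⟶ P) hl' => ?_⟩
  · change l ≫ pLeg DX DY τ cY z W ι fst sq cX g hg a b hP j = sπ j
    apply chart_hom_ext DX DY τ cY z W ι fst sq
    · rw [(yon S).map_comp, Category.assoc, pLeg_fst, ← Category.assoc, hl1, hx]
    · rw [Category.assoc, pLeg_ι, hl2, hconst j j₀]
  · have hl'' : ∀ j, l' ≫ pLeg DX DY τ cY z W ι fst sq cX g hg a b hP j = sπ j := hl'
    apply (yon S).map_injective
    apply hP.hom_ext
    · rw [hl1]
      apply hcX.hom_ext
      intro j
      rw [Category.assoc, ← pLeg_fst DX DY τ cY z W ι fst sq cX g hg a b hP j, ← Category.assoc,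
        ← (yon S).map_comp, hl'', hx]
    · rw [← (yon S).map_comp, ← (yon S).map_comp, hl2,
        ← pLeg_ι DX DY τ cY z W ι fst sq cX g hg a b hP j₀, ← Category.assoc, hl'']

end Conv
end LimChart2

end Groth.Agent.Lib.Helper14.AS
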