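import Groth.Prelude.Def_AlgSp4
import Groth.Agent.Lib.Helper14.LimJ
import Groth.Agent.Lib.Helper14.LimK
import Groth.Agent.Lib.Helper14.AlgSpLocP2
import Mathlib.CategoryTheory.Limits.Connected
universe u
open CategoryTheory CategoryTheory.Limits AlgebraicGeometry Opposite
namespace Groth.Agent.Lib.Helper14.AS
variable {S : Scheme.{u}}
open AlgSp

section Lim

variable {I : Type u} [SmallCategory I] [IsCofiltered I]

set_option backward.isDefEq.respectTransparency.types false in
set_option maxHeartbeats 800000 in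
theorem eventually_mono_of_limit [QuasiSeparatedSpace S]
    (B : Space S) (D : I ⥤ Sp S) (hD : ∀ i, IsAlgSpace (D.obj i))
    (t : D ⟶ (Functor.const I).obj B.obj)
    (hDa : ∀ (i j : I) (φ : i ⟶ j), IsAffineMor (D.map φ))
    (c : Cone D) (hc : IsLimit c)
    (hqs : ∀ i, IsQuasiSeparatedSp (D.obj i))
    (Y : Space S) (hYqc : IsQuasiCompactSp Y.obj) (y : Y.obj ⟶ c.pt) [Mono y] (i₁ : I)
    (hYB : LocP @LocallyOfFiniteType (y ≫ c.π.app i₁ ≫ t.app i₁)) :
    ∃ i₀ : I, ∀ (i : I) (_ : i ⟶ i₀), Mono (y ≫ c.π.app i) := by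
  obtain ⟨W₀, w, hwe, hws⟩ := B.property.atlas
  obtain ⟨U, a, h, hae, has, hcomm⟩ :=
    exists_chart_diagram Y.property (y ≫ c.π.app i₁ ≫ t.app i₁) w hwe hws
  obtain ⟨V, e, hV, hve, hvs⟩ := exists_affine_chart_refinement Y.property hYqc a hae has
  generalize hv : (yon S).map e ≫ a = v at hve hvs
  have : Sheaf.IsLocallySurjective v := isLocallySurjective_of_etale_surjective _ hve hvs
  let z : (yon S).obj V ⟶ c.pt := v ≫ y
  have hIconn : IsConnected I := IsCofiltered.isConnected _
  have : IsAffine V.left := hV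
  -- the fibre products `V ×_{X_j} V`
  have rep : ∀ j, Representable (z ≫ c.π.app j) := fun j => repDiag_of_isAlgSpace (hD j) _
  let W : I → Over S := fun j => (rep j).pullback (z ≫ c.π.app j)
  let p1 : ∀ j, W j ⟶ V := fun j => (rep j).fst' (z ≫ c.π.app j)
  let p2 : ∀ j, W j ⟶ V := fun j => (rep j).snd (z ≫ c.π.app j)
  have sq : ∀ j, IsPullback ((yon S).map (p1 j)) ((yon S).map (p2 j)) (z ≫ c.π.app j)
      (z ≫ c.π.app j) := fun j => (rep j).isPullback' _
  let DX : I ⥤ Sp S := (Functor.const I).obj ((yon S).obj V)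
  let τ : DX ⟶ D :=
    { app := fun j => z ≫ c.π.app j
      naturality := fun j j' φ => (Category.id_comp _).trans
        ((congrArg (z ≫ ·) (c.w φ).symm).trans (Category.assoc _ _ _).symm) }
  let fstc : ∀ j, (yon S).obj (W j) ⟶ DX.obj j := fun j => (yon S).map (p1 j)
  have sq' : ∀ j, IsPullback (fstc j) ((yon S).map (p2 j)) (τ.app j) (z ≫ c.π.app j) := sq
  -- the fibre product `V ×_Y V`
  have repY : Representable v := repDiag_of_isAlgSpace Y.property v
  let P : Over S := repY.pullback v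
  let q1 : P ⟶ V := repY.fst' v
  let q2 : P ⟶ V := repY.snd v
  have sqP : IsPullback ((yon S).map q1) ((yon S).map q2) v v := repY.isPullback' v
  have sqP' : IsPullback ((yon S).map q1) ((yon S).map q2) z z := by
    refine isPullback_of_exists_unique ?_ ?_ ?_
    · change _ ≫ v ≫ y = _ ≫ v ≫ y
      rw [← Category.assoc, sqP.w, Category.assoc]
    · intro T x x' hxx'
      have : x ≫ v = x' ≫ v := by
        rw [← cancel_mono y, Category.assoc, Category.assoc]; exact hxx'
      exact ⟨sqP.lift x x' this, sqP.lift_fst _ _ _, sqP.lift_snd _ _ _⟩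
    · intro T r r' h1 h2
      exact sqP.hom_ext h1 h2
  let cX : Cone DX := constCone I ((yon S).obj V)
  have hcX : IsLimit cX := isLimitConstCone I _
  have hg : ∀ j, z ≫ c.π.app j = cX.π.app j ≫ τ.app j := fun j => (Category.id_comp _).symm
  obtain ⟨hlim⟩ := LimChart2.nonempty_isLimit_pCone DX D τ c z W p2 fstc sq' hc cX hcX z hg
    ((yon S).map q1) q2 sqP'
  let G := LimChart2.chartDiagram DX D τ c z W p2 fstc sq'
  let pc : Cone G := LimChart2.pCone DX D τ c z W p2 fstc sq' cX z hg ((yon S).map q1) q2 sqP'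
  have hleg1 : ∀ j, (yon S).map (pc.π.app j) ≫ (yon S).map (p1 j) = (yon S).map q1 := fun j => by
    have := LimChart2.pLeg_fst DX D τ c z W p2 fstc sq' cX z hg ((yon S).map q1) q2 sqP' j
    exact this.trans (Category.comp_id _)
  have hleg2 : ∀ j, pc.π.app j ≫ p2 j = q2 := fun j =>
    LimChart2.pLeg_ι DX D τ c z W p2 fstc sq' cX z hg ((yon S).map q1) q2 sqP' j
  -- the scheme level system
  let D' : I ⥤ Scheme.{u} := G ⋙ Over.forget S
  let c' : Cone D' := (Over.forget S).mapCone pc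
  have hc' : IsLimit c' := isLimitOfPreserves (Over.forget S) hlim
  let t' : D' ⟶ (Functor.const I).obj V.left :=
    { app := fun j => (p2 j).left
      naturality := fun j j' φ => by
        change (G.map φ).left ≫ (p2 j').left = (p2 j).left ≫ 𝟙 _
        rw [Category.comp_id, ← Over.comp_left]
        congr 1
        exact LimChart2.chartMap_ι DX D τ c z W p2 fstc sq' φ }
  have h1 : ∀ {a b : I} (φ : a ⟶ b), IsClosedImmersion (D'.map φ) := by
    intro j j' φ
    have hsep := isSeparatedMor_of_isAffineMor (hD j).diag (D.map φ) (hDa j j' φ)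
    have e1 : (z ≫ c.π.app j) ≫ D.map φ = z ≫ c.π.app j' := by rw [Category.assoc, c.w]
    have hPY : IsPullback ((yon S).map (p1 j')) ((yon S).map (p2 j'))
        ((z ≫ c.π.app j) ≫ D.map φ) ((z ≫ c.π.app j) ≫ D.map φ) := by
      rw [e1]; exact sq j'
    have hc1 : (yon S).map (G.map φ) ≫ (yon S).map (p1 j') = (yon S).map (p1 j) := by
      have := LimChart2.chartMap_fst DX D τ c z W p2 fstc sq' φ
      exact this.trans (Category.comp_id _)
    have hc2 : (yon S).map (G.map φ) ≫ (yon S).map (p2 j') = (yon S).map (p2 j) := by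
      rw [← (yon S).map_comp]
      congr 1
      exact LimChart2.chartMap_ι DX D τ c z W p2 fstc sq' φ
    have magic := isPullback_diagonal_of_isPullback_abs (D.map φ) (z ≫ c.π.app j) (z ≫ c.π.app j)
      (sq j) hPY ((yon S).map (G.map φ)) hc1 hc2
    exact hsep.property _ _ _ magic
  have h2 : ∀ j, CompactSpace (D'.obj j) := fun j =>
    compactSpace_of_isPullback_of_isQuasiSeparatedSp (hqs j) (sq j)
  have h3 : ∀ j, QuasiSeparatedSpace (D'.obj j) := fun j =>
    quasiSeparatedSpace_of_isPullback (hD j) hV hV (sq j)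
  have hvF : LocP @LocallyOfFiniteType (v ≫ y ≫ c.π.app i₁ ≫ t.app i₁) := by
    intro U' V' a' b' h' ha' hb' comm
    exact hYB (a' ≫ v) b' h' (repWith_comp _ ha' hve) hb' (by rw [Category.assoc]; exact comm)
  have h4 : ∀ j, LocallyOfFiniteType (t'.app j) := fun j => by
    have e2 : (z ≫ c.π.app j) ≫ t.app j = v ≫ y ≫ c.π.app i₁ ≫ t.app i₁ := by
      change ((v ≫ y) ≫ c.π.app j) ≫ t.app j = _
      rw [Category.assoc, Category.assoc, cone_π_t_eq D t c j i₁]
    have hf : LocP @LocallyOfFiniteType (z ≫ c.π.app j) :=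
      locP_lft_of_comp B.property _ (t.app j) (by rw [e2]; exact hvF)
    have := locP_baseChange etLocal_lft (IsAlgSpace.yon_obj V) (hD j) (IsAlgSpace.yon_obj V)
      (z ≫ c.π.app j) (z ≫ c.π.app j) ((yon S).map (p1 j)) ((yon S).map (p2 j)) (sq j) hf
    exact locP_yon_map this
  have h5 : LocallyOfFinitePresentation (c'.π.app i₁ ≫ t'.app i₁) := by
    have e3 : c'.π.app i₁ ≫ t'.app i₁ = q2.left := by
      change (pc.π.app i₁).left ≫ (p2 i₁).left = _
      rw [← Over.comp_left, hleg2]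
    rw [e3]
    have : Etale q2.left := hve.property _ _ _ sqP
    exact etale_le_lfp _ _ _ this
  obtain ⟨j₀, hj₀⟩ := exists_isIso_π_of_closedImmersion_transitions D' t' c' hc' i₁
  refine ⟨j₀, fun i ψ => ?_⟩
  have hiso : IsIso (pc.π.app i).left := hj₀ i ψ
  have hiso' : IsIso (pc.π.app i) := by
    have : IsIso ((Over.forget S).map (pc.π.app i)) := hiso
    exact isIso_of_reflects_iso _ (Over.forget S)
  have hiso'' : IsIso ((yon S).map (pc.π.app i)) := Functor.map_isIso _ _
  refine mono_of_locally_injective (y ≫ c.π.app i) v fun T v1 v2 h12 => ?_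
  have hcond : v1 ≫ z ≫ c.π.app i = v2 ≫ z ≫ c.π.app i := by
    change v1 ≫ (v ≫ y) ≫ c.π.app i = v2 ≫ (v ≫ y) ≫ c.π.app i
    simpa only [Category.assoc] using h12
  let ei : (yon S).obj P ≅ (yon S).obj (W i) := @asIso _ _ _ _ ((yon S).map (pc.π.app i)) hiso''
  have h1' : ei.hom ≫ (yon S).map (p1 i) = (yon S).map q1 := hleg1 i
  have h2' : ei.hom ≫ (yon S).map (p2 i) = (yon S).map q2 := by
    rw [← hleg2 i]
    exact ((yon S).map_comp _ _).symm
  let r : (yon S).obj T ⟶ (yon S).obj P := (sq i).lift v1 v2 hcond ≫ ei.inv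
  have hr1 : r ≫ (yon S).map q1 = v1 := by
    rw [← h1', Category.assoc, Iso.inv_hom_id_assoc, (sq i).lift_fst]
  have hr2 : r ≫ (yon S).map q2 = v2 := by
    rw [← h2', Category.assoc, Iso.inv_hom_id_assoc, (sq i).lift_snd]
  obtain ⟨r, hr1, hr2⟩ : ∃ r : (yon S).obj T ⟶ (yon S).obj P,
      r ≫ (yon S).map q1 = v1 ∧ r ≫ (yon S).map q2 = v2 := ⟨r, hr1, hr2⟩
  calc v1 ≫ v = (r ≫ (yon S).map q1) ≫ v := by rw [hr1]
    _ = (r ≫ (yon S).map q2) ≫ v := by rw [Category.assoc, sqP.w, Category.assoc]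
    _ = v2 ≫ v := by rw [hr2]

end Lim

end Groth.Agent.Lib.Helper14.AS
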