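import Mathlib
import Groth.Agent.Lib.Helper24.AffineLimTop

open AlgebraicGeometry CategoryTheory Limits

namespace Groth.Agent.Lib.Helper14.LimMaxPts

universe u

section Top

variable {X : Type*} [TopologicalSpace X]

/-- every point of a quasi-sober T0 space has a maximal generization -/
theorem exists_max_gen [QuasiSober X] [T0Space X] (x : X) :
    ∃ m : X, (∀ z : X, z ⤳ m → z = m) ∧ m ⤳ x := by
  have hZ : irreducibleComponent x ∈ irreducibleComponents X :=
    irreducibleComponent_mem_irreducibleComponents x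
  have hirr : IsIrreducible (irreducibleComponent x) := isIrreducible_irreducibleComponent
  have hcl : IsClosed (irreducibleComponent x) := isClosed_irreducibleComponent
  obtain ⟨m, hm⟩ := QuasiSober.sober hirr hcl
  refine ⟨m, ?_, ?_⟩
  · intro z hz
    have h1 : irreducibleComponent x ⊆ closure {z} := by
      rw [← hm.def]
      exact (specializes_iff_closure_subset.mp hz)
    have h2 : IsIrreducible (closure ({z} : Set X)) := isIrreducible_singleton.closure
    have h3 : closure {z} = irreducibleComponent x := hZ.eq_of_ge h2 h1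
    have hz' : IsGenericPoint z (irreducibleComponent x) := h3
    exact hz'.eq hm
  · rw [specializes_iff_mem_closure, hm.def]
    exact mem_irreducibleComponent

theorem dense_of_max_subset [QuasiSober X] [T0Space X] (V : Set X)
    (h : ∀ m : X, (∀ z : X, z ⤳ m → z = m) → m ∈ V) : Dense V := by
  rw [dense_iff_inter_open]
  intro W hW ⟨x, hx⟩
  obtain ⟨m, hm, hmx⟩ := exists_max_gen x
  exact ⟨m, hmx.mem_open hW hx, h m hm⟩

theorem max_mem_of_dense [QuasiSober X] [T0Space X] (V : Set X) (hV : IsOpen V) (hd : Dense V)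
    (hfin : {s : X | ∀ z : X, z ⤳ s → z = s}.Finite)
    (m : X) (hm : ∀ z : X, z ⤳ m → z = m) : m ∈ V := by
  classical
  -- W = complement of the union of closures of the other maximal points
  set M := {s : X | ∀ z : X, z ⤳ s → z = s} with hM
  let C : Set X := ⋃ s ∈ (M \ {m}), closure {s}
  have hCcl : IsClosed C := by
    apply Set.Finite.isClosed_biUnion (hfin.subset Set.sdiff_subset)
    intro s _
    exact isClosed_closure
  have hmC : m ∉ C := by
    simp only [C, Set.mem_iUnion, not_exists]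
    intro s hs hms
    have : s ⤳ m := specializes_iff_mem_closure.mpr hms
    exact hs.2 (hm s this)
  obtain ⟨y, hyW, hyV⟩ := (dense_iff_inter_open.mp hd) Cᶜ hCcl.isOpen_compl ⟨m, hmC⟩
  obtain ⟨m', hm', hm'y⟩ := exists_max_gen y
  have : m' = m := by
    by_contra hne
    apply hyW
    simp only [C, Set.mem_iUnion]
    exact ⟨m', ⟨hm', hne⟩, specializes_iff_mem_closure.mp hm'y⟩
  rw [← this]
  exact hm'y.mem_open hV hyV

end Top

section Lim

variable {I : Type u} [SmallCategory I] [IsCofiltered I] (D : I ⥤ Scheme.{u})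
  [∀ {i j : I} (f : i ⟶ j), IsAffineHom (D.map f)] (c : Cone D) (hc : IsLimit c)

include hc in
theorem specializes_of_forall (m s : c.pt) (h : ∀ i, c.π.app i m ⤳ c.π.app i s) : m ⤳ s := by
  rw [specializes_iff_forall_open]
  intro U hU hs
  have hB := isBasis_preimage_isAffineOpen D c hc
  rw [TopologicalSpace.Opens.isBasis_iff_nbhd] at hB
  obtain ⟨_, ⟨i, V, -, rfl⟩, hsV, hVU⟩ := hB (U := ⟨U, hU⟩) hs
  apply hVU
  exact (h i).mem_open V.2 hsV

include hc in
theorem isMax_of_forall (s : c.pt)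
    (h : ∀ (i : I) (z : ↥(D.obj i)), z ⤳ c.π.app i s → z = c.π.app i s) :
    ∀ z : ↥c.pt, z ⤳ s → z = s := by
  intro z hz
  apply Groth.Agent.Lib.Helper24.affLim_point_ext D c hc
  intro i
  exact h i _ (hz.map (c.π.app i).continuous)

omit [∀ {i j : I} (f : i ⟶ j), IsAffineHom (D.map f)] in
include hc in
theorem exists_max_point_of_system
    (P : ∀ i, ↥(D.obj i) → Prop)
    (hfin : ∀ i : I, {s : ↥(D.obj i) | P i s}.Finite)
    (hne : ∀ i : I, ∃ s, P i s)
    (hsys : ∀ (i j : I) (g : i ⟶ j) (s : ↥(D.obj i)), P i s → P j (D.map g s)) :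
    ∃ m : c.pt, ∀ i, P i (c.π.app i m) := by
  let G : I ⥤ Type u :=
    { obj := fun i => {s : ↥(D.obj i) // P i s}
      map := fun {i j} g => TypeCat.ofHom
        (fun s : {s : ↥(D.obj i) // P i s} =>
          (⟨D.map g s.1, hsys i j g s.1 s.2⟩ : {s : ↥(D.obj j) // P j s}))
      map_id := fun i => by
        ext s
        show (D.map (𝟙 i)) s.1 = s.1
        simp
      map_comp := fun {i j k} f g => by
        ext s
        show (D.map (f ≫ g)) s.1 = (D.map g) ((D.map f) s.1)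
        simp }
  have hGfin : ∀ i, Finite (G.obj i) := fun i => (hfin i).to_subtype
  have hGne : ∀ i, Nonempty (G.obj i) := fun i => by
    obtain ⟨s, hs⟩ := hne i
    exact ⟨⟨s, hs⟩⟩
  obtain ⟨u, hu⟩ := nonempty_sections_of_finite_cofiltered_system G
  obtain ⟨m, hm⟩ := Groth.Agent.Lib.Helper24.affLim_exists_point D c hc (fun i => (u i).1)
    (fun i j f => congrArg Subtype.val (hu f))
  exact ⟨m, fun i => by rw [hm i]; exact (u i).2⟩

include hc in
theorem isMax_image_of_isMax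
    (hfin : ∀ i : I, {s : ↥(D.obj i) | ∀ z : ↥(D.obj i), z ⤳ s → z = s}.Finite)
    (hsys : ∀ (i j : I) (g : i ⟶ j) (s : ↥(D.obj i)), (∀ z : ↥(D.obj i), z ⤳ s → z = s) →
      ∀ z : ↥(D.obj j), z ⤳ D.map g s → z = D.map g s)
    (s : ↥c.pt) (hs : ∀ z : ↥c.pt, z ⤳ s → z = s) (i : I) :
    ∀ z : ↥(D.obj i), z ⤳ c.π.app i s → z = c.π.app i s := by
  obtain ⟨m, hm⟩ := exists_max_point_of_system D c hc
    (fun i x => (∀ z : ↥(D.obj i), z ⤳ x → z = x) ∧ x ⤳ c.π.app i s)
    (fun i => (hfin i).subset (fun x hx => hx.1))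
    (fun i => exists_max_gen (c.π.app i s))
    (fun i j g x hx => ⟨hsys i j g x hx.1, by
      have := hx.2.map (D.map g).continuous
      have hw : D.map g (c.π.app i s) = c.π.app j s := by
        rw [← Scheme.Hom.comp_apply, c.w]
      rw [← hw]
      exact this⟩)
  have hms : m ⤳ s := specializes_of_forall D c hc m s (fun i => (hm i).2)
  have : m = s := hs m hms
  subst this
  exact (hm i).1

include hc in
theorem dense_preimage_of_dense
    (hfin : ∀ i : I, {s : ↥(D.obj i) | ∀ z : ↥(D.obj i), z ⤳ s → z = s}.Finite)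
    (hsys : ∀ (i j : I) (g : i ⟶ j) (s : ↥(D.obj i)), (∀ z : ↥(D.obj i), z ⤳ s → z = s) →
      ∀ z : ↥(D.obj j), z ⤳ D.map g s → z = D.map g s)
    (i₀ : I) (V₀ : (D.obj i₀).Opens) (hd : Dense (V₀ : Set ↥(D.obj i₀))) :
    (∀ (i : I) (g : i ⟶ i₀), Dense (((D.map g) ⁻¹ᵁ V₀ : (D.obj i).Opens) : Set ↥(D.obj i))) ∧
      Dense (((c.π.app i₀) ⁻¹ᵁ V₀ : c.pt.Opens) : Set ↥c.pt) := by
  have h0 : ∀ m : ↥(D.obj i₀), (∀ z : ↥(D.obj i₀), z ⤳ m → z = m) → m ∈ V₀ :=
    fun m hm => max_mem_of_dense (V₀ : Set ↥(D.obj i₀)) V₀.2 hd (hfin i₀) m hm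
  constructor
  · intro i g
    apply dense_of_max_subset
    intro m hm
    exact h0 _ (hsys i i₀ g m hm)
  · apply dense_of_max_subset
    intro m hm
    exact h0 _ (isMax_image_of_isMax D c hc hfin hsys m hm i₀)

include hc in
theorem exists_dense_stage
    (hfin : ∀ i : I, {s : ↥(D.obj i) | ∀ z : ↥(D.obj i), z ⤳ s → z = s}.Finite)
    (hsys : ∀ (i j : I) (g : i ⟶ j) (s : ↥(D.obj i)), (∀ z : ↥(D.obj i), z ⤳ s → z = s) →
      ∀ z : ↥(D.obj j), z ⤳ D.map g s → z = D.map g s)
    (i₀ : I) (V₀ : (D.obj i₀).Opens)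
    (hd : Dense (((c.π.app i₀) ⁻¹ᵁ V₀ : c.pt.Opens) : Set ↥c.pt))
    (hfinS : {s : ↥c.pt | ∀ z : ↥c.pt, z ⤳ s → z = s}.Finite) :
    ∃ (i : I) (g : i ⟶ i₀), Dense (((D.map g) ⁻¹ᵁ V₀ : (D.obj i).Opens) : Set ↥(D.obj i)) := by
  by_contra H
  push Not at H
  let D' : Over i₀ ⥤ Scheme.{u} := Over.forget i₀ ⋙ D
  let c' : Cone D' := c.whisker (Over.forget i₀)
  have hc' : IsLimit c' := (Functor.Initial.isLimitWhiskerEquiv (Over.forget i₀) c).symm hc
  have haff : ∀ {j k : Over i₀} (f : j ⟶ k), IsAffineHom (D'.map f) := fun f => by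
    dsimp [D']; infer_instance
  obtain ⟨m, hm⟩ := exists_max_point_of_system D' c' hc'
    (fun j x => (∀ z : ↥(D.obj j.left), z ⤳ x → z = x) ∧
      x ∉ ((D.map j.hom) ⁻¹ᵁ V₀ : (D.obj j.left).Opens))
    (fun j => (hfin j.left).subset (fun x hx => hx.1))
    (fun j => by
      by_contra hno
      push Not at hno
      apply H j.left j.hom
      apply dense_of_max_subset
      intro x hx
      exact hno x hx)
    (fun j k f x hx => ⟨hsys j.left k.left f.left x hx.1, fun hmem => hx.2 (by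
      change D.map j.hom x ∈ V₀
      have hw : D.map j.hom = D.map f.left ≫ D.map k.hom := by
        rw [← D.map_comp, Over.w f]
      rw [hw]
      exact hmem)⟩)
  have hmax : ∀ z : ↥c.pt, z ⤳ m → z = m :=
    isMax_of_forall D' c' hc' m (fun j => (hm j).1)
  have hmV : m ∈ ((c.π.app i₀) ⁻¹ᵁ V₀ : c.pt.Opens) :=
    max_mem_of_dense _ ((c.π.app i₀) ⁻¹ᵁ V₀ : c.pt.Opens).2 hd hfinS m hmax
  apply (hm (Over.mk (𝟙 i₀))).2
  change D.map (𝟙 i₀) (c.π.app i₀ m) ∈ V₀
  rw [D.map_id]
  exact hmV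

end Lim

end Groth.Agent.Lib.Helper14.LimMaxPts
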