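import Groth.Prelude.Def_AlgSp4
import Groth.Agent.Lib.Helper14.LimD
import Groth.Agent.Lib.Helper14.LimM
universe u
open CategoryTheory CategoryTheory.Limits AlgebraicGeometry Opposite
namespace Groth.Agent.Lib.Helper14.AS
variable {S : Scheme.{u}}
open AlgSp
open LimChart

section Lim

variable {I : Type u} [SmallCategory I] [IsCofiltered I]

set_option backward.isDefEq.respectTransparency.types false in
set_option maxHeartbeats 800000 in
theorem descend_surjective_limit [QuasiSeparatedSpace S]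
    (D : I ⥤ Sp S)
    (hDa : ∀ (i j : I) (φ : i ⟶ j), IsAffineMor (D.map φ))
    (c : Cone D) (hc : IsLimit c) (i₀ : I)
    (X₀ Y₀ : Space S) (f₀ : X₀.obj ⟶ Y₀.obj) (b₀ : Y₀.obj ⟶ D.obj i₀)
    (hXqc : IsQuasiCompactSp X₀.obj)
    (hYqc : IsQuasiCompactSp Y₀.obj) (hYqs : IsQuasiSeparatedSp Y₀.obj)
    (X Y : Sp S) (f : X ⟶ Y) (pY : Y ⟶ Y₀.obj) (qY : Y ⟶ c.pt)
    (hY : IsPullback pY qY b₀ (c.π.app i₀)) (pX : X ⟶ X₀.obj) (hX : IsPullback pX f f₀ pY)
    (hf : IsSurjectiveMor f) (hf₀ : LocP @LocallyOfFinitePresentation f₀) :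
    ∃ (i : I) (φ : i ⟶ i₀), ∀ (Xi Yi : Sp S) (fi : Xi ⟶ Yi) (pYi : Yi ⟶ Y₀.obj)
      (qYi : Yi ⟶ D.obj i)
      (_ : IsPullback pYi qYi b₀ (D.map φ)) (pXi : Xi ⟶ X₀.obj) (_ : IsPullback pXi fi f₀ pYi),
      IsSurjectiveMor fi := by
  -- affine chart of Y₀
  obtain ⟨V₀, v, hV₀, hve, hvs⟩ := isQuasiCompactSp_iff_exists_affine_chart.1 hYqc
  -- affine chart of X₀ ×_{Y₀} V₀
  have sqX' := IsPullback.of_hasPullback f₀ v
  have hV₀alg : IsAlgSpace ((yon S).obj V₀) := IsAlgSpace.yon_obj V₀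
  have hV₀qc : IsQuasiCompactSp ((yon S).obj V₀) :=
    ⟨V₀, 𝟙 _, repWith_id _ _, repWith_id _ _, inferInstance⟩
  have hX'alg : IsAlgSpace (pullback f₀ v) :=
    isAlgSpace_of_isPullback (repDiag_of_isAlgSpace Y₀.property) X₀.property hV₀alg sqX'
  have hX'qc : IsQuasiCompactSp (pullback f₀ v) :=
    isQuasiCompactSp_of_isPullback X₀.property hXqc hV₀alg hV₀qc hYqs sqX'
  obtain ⟨U₀, u, hU₀, hue, hus⟩ := isQuasiCompactSp_iff_exists_affine_chart.1 hX'qc
  let a : (yon S).obj U₀ ⟶ X₀.obj := u ≫ pullback.fst f₀ v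
  obtain ⟨s, hs⟩ := (yon S).map_surjective (u ≫ pullback.snd f₀ v)
  have comm : a ≫ f₀ = (yon S).map s ≫ v := by
    rw [hs, Category.assoc, Category.assoc, pullback.condition]
  have hfste : RepWith @Etale (pullback.fst f₀ v) := repWith_of_isPullback _ sqX'.flip hve
  have hfsts : RepWith @Surjective (pullback.fst f₀ v) := repWith_of_isPullback _ sqX'.flip hvs
  have hae : RepWith @Etale a := repWith_comp _ hue hfste
  have has : RepWith @Surjective a := repWith_comp _ hus hfsts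
  have hlfp : LocallyOfFinitePresentation s.left := hf₀ a v s hae hve comm
  -- the chart system
  obtain ⟨cs, haff, haffc⟩ := exists_chartSystem D hDa c hc i₀ hV₀ (v ≫ b₀)
  have hconn : IsConnected (Over i₀) := IsCofiltered.isConnected _
  let D' : Over i₀ ⥤ Scheme.{u} := cs.G ⋙ Over.forget S
  let c' : Cone D' := (Over.forget S).mapCone cs.cG
  have hc' : IsLimit c' := isLimitOfPreserves (Over.forget S) cs.hcG
  have h1 : ∀ (a b : Over i₀) (f : a ⟶ b), IsAffineHom (D'.map f) := by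
    intro a b f
    have := haff a
    have := haff b
    exact isAffineHom_of_isAffine (X := (cs.G.obj a).left) (Y := (cs.G.obj b).left) _
  have h2 : ∀ j, CompactSpace (D'.obj j) := fun j => by
    have := haff j
    exact inferInstanceAs (CompactSpace (cs.G.obj j).left)
  have h3 : ∀ j, QuasiSeparatedSpace (D'.obj j) := fun j => by
    have := haff j
    exact inferInstanceAs (QuasiSeparatedSpace (cs.G.obj j).left)
  let j₀ : Over i₀ := Over.mk (𝟙 i₀)
  -- ι j₀ is an isomorphism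
  have hιiso : IsIso (cs.ι j₀) := by
    have h := cs.sq j₀
    have hid : D.map j₀.hom = 𝟙 _ := D.map_id i₀
    have : IsIso (D.map j₀.hom) := by rw [hid]; infer_instance
    have : IsIso ((yon S).map (cs.ι j₀)) := h.isIso_snd_of_isIso
    exact isIso_of_fully_faithful (yon S) _
  let e₀ : (cs.G.obj j₀).left ≅ V₀.left := (Over.forget S).mapIso (asIso (cs.ι j₀))
  have he₀ : e₀.hom = (cs.ι j₀).left := rfl
  let g₀s : V₀.left ⟶ D'.obj j₀ := e₀.inv
  have hπb : ∀ j, (cs.cG.π.app j).left ≫ (cs.ι j).left = cs.b.left := fun j => by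
    rw [← Over.comp_left, cs.π_ι]
  have hYs : IsPullback cs.b.left (𝟙 cs.cG.pt.left) e₀.inv (cs.cG.π.app j₀).left := by
    refine IsPullback.of_vert_isIso ⟨?_⟩
    rw [Category.id_comp, Iso.comp_inv_eq, he₀]
    exact (hπb j₀).symm
  -- the scheme `U'` over the limit
  have hU := IsPullback.of_hasPullback s cs.b
  have hUs : IsPullback (pullback.fst s cs.b).left (pullback.snd s cs.b).left s.left cs.b.left :=
    hU.map (Over.forget S)
  have hUy := hU.map (yon S)
  obtain ⟨b', a', sqb', sqa', comm', -⟩ := exists_chart_transfer hY hX comm cs.isPullback hUy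
  -- surjectivity in the limit
  have hsurj : Surjective (pullback.snd s cs.b).left := by
    refine ⟨fun v' => ?_⟩
    obtain ⟨x, hx⟩ := hf (Points.ofPt b' v')
    have hcond : Points.map f₀ (Points.map pX x) =
        Points.map v (Points.ofPt ((yon S).map cs.b) v') := by
      rw [← Points.map_comp, hX.w, Points.map_comp, hx, Points.map_ofPt, Points.map_ofPt, sqb'.w]
    obtain ⟨ξ, hξ1, hξ2⟩ := points_exists_of_isPullback sqX' _ _ hcond
    obtain ⟨u₀, hu₀⟩ := ofPt_surjective_of_repWith hus ξ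
    have hsu : s.left u₀ = cs.b.left v' := by
      have h1 : Points.ofPt ((yon S).map s) u₀ = Points.ofPt ((yon S).map cs.b) v' := by
        rw [hs, ← Points.map_ofPt, hu₀, hξ2]
      have h2 := congrArg (Points.toScheme V₀) h1
      rwa [Points.toScheme_ofPt, Points.toScheme_ofPt] at h2
    obtain ⟨u', -, hu'⟩ := exists_point_of_isPullback_scheme hUs u₀ v' hsu
    exact ⟨u', hu'⟩
  have : IsAffine U₀.left := hU₀
  have : IsAffine V₀.left := hV₀
  have hqc : QuasiCompact s.left := inferInstance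
  obtain ⟨j, φ', hj⟩ := exists_surjective_descend D' c' hc' j₀ s.left g₀s
    (pullback.snd s cs.b).left (𝟙 _) cs.b.left (pullback.fst s cs.b).left hYs hUs
  refine ⟨j.left, j.hom, fun Xi Yi fi pYi qYi hYi pXi hXi => ?_⟩
  have hUj := IsPullback.of_hasPullback s (cs.ι j)
  have hUjs := hUj.map (Over.forget S)
  have hUjy := hUj.map (yon S)
  obtain ⟨bj, aj, sqbj, sqaj, commj, -⟩ := exists_chart_transfer hYi hXi comm (cs.sq j) hUjy
  have hbjs : RepWith @Surjective bj := repWith_of_isPullback _ sqbj hvs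
  have hkey : (cs.G.map φ').left ≫ (cs.ι j₀).left = (cs.ι j).left := by
    rw [← Over.comp_left, cs.map_ι]
  have hYjs : IsPullback (cs.ι j).left (𝟙 (cs.G.obj j).left) e₀.inv (D'.map φ') := by
    refine IsPullback.of_vert_isIso ⟨?_⟩
    rw [Category.id_comp, Iso.comp_inv_eq, he₀]
    exact hkey.symm
  have hsj : Surjective (pullback.snd s (cs.ι j)).left := hj _ _ _ _ _ _ hYjs hUjs
  intro y
  obtain ⟨vj, hvj⟩ := ofPt_surjective_of_repWith hbjs y
  obtain ⟨uj, huj⟩ := hsj.surj vj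
  refine ⟨Points.ofPt aj uj, ?_⟩
  rw [Points.map_ofPt, commj, ofPt_yon_map_comp, huj, hvj]

end Lim

end Groth.Agent.Lib.Helper14.AS
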