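import Groth.Prelude.Def_AlgSp4
import Groth.Agent.Lib.Helper14.LimQ
universe u
open CategoryTheory CategoryTheory.Limits AlgebraicGeometry Opposite
namespace Groth.Agent.Lib.Helper14.AS
variable {S : Scheme.{u}}
open AlgSp

section Lim

variable {I : Type u} [SmallCategory I] [IsCofiltered I]

set_option backward.isDefEq.respectTransparency.types false in
theorem descend_mono_limit_qc [QuasiSeparatedSpace S]
    (D : I ⥤ Sp S) (hD : ∀ i, IsAlgSpace (D.obj i))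
    (hDa : ∀ (i j : I) (φ : i ⟶ j), IsAffineMor (D.map φ))
    (c : Cone D) (hc : IsLimit c) (i₀ : I)
    (X₀ Y₀ : Space S) (f₀ : X₀.obj ⟶ Y₀.obj) (b₀ : Y₀.obj ⟶ D.obj i₀)
    (hXqc : IsQuasiCompactSp X₀.obj) (hXqs : IsQuasiSeparatedSp X₀.obj)
    (hqcf : IsQuasiCompactMor f₀)
    (X Y : Sp S) (f : X ⟶ Y) (pY : Y ⟶ Y₀.obj) (qY : Y ⟶ c.pt)
    (hY : IsPullback pY qY b₀ (c.π.app i₀)) (pX : X ⟶ X₀.obj) (hX : IsPullback pX f f₀ pY)
    [Mono f] (hf₀ : LocP @LocallyOfFiniteType f₀) :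
    ∃ (i : I) (φ : i ⟶ i₀), ∀ (Xi Yi : Sp S) (fi : Xi ⟶ Yi) (pYi : Yi ⟶ Y₀.obj)
      (qYi : Yi ⟶ D.obj i)
      (_ : IsPullback pYi qYi b₀ (D.map φ)) (pXi : Xi ⟶ X₀.obj) (_ : IsPullback pXi fi f₀ pYi),
      Mono fi := by
  have hΔiso : IsIso (pullback.diagonal f) := (pullback.isIso_diagonal_iff f).2 inferInstance
  have sqP := IsPullback.of_hasPullback f₀ f₀
  have P₀alg : IsAlgSpace (pullback f₀ f₀) :=
    isAlgSpace_of_isPullback (repDiag_of_isAlgSpace Y₀.property) X₀.property X₀.property sqP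
  have P₀qc : IsQuasiCompactSp (pullback f₀ f₀) := hqcf X₀.property hXqc f₀ _ _ sqP
  have hΔlfp := (diagonal_lfp_of_locP_lft X₀.property Y₀.property f₀ hf₀).1
  have hΔqc : IsQuasiCompactMor (pullback.diagonal f₀) :=
    isQuasiCompactMor_of_repWith (repWith_diagonal_of_diag _ f₀ hXqs)
  obtain ⟨hY', hX'⟩ := diag_squares hY hX
  obtain ⟨i, φ, h⟩ := descend_iso_limit_qc D hD hDa c hc i₀ X₀ ⟨pullback f₀ f₀, P₀alg⟩
    (pullback.diagonal f₀) (pullback.fst f₀ f₀ ≫ f₀ ≫ b₀) hXqc hXqs P₀qc hΔqc X (pullback f f)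
    (pullback.diagonal f) _ _ hY' pX hX' hΔlfp
  refine ⟨i, φ, fun Xi Yi fi pYi qYi hYi pXi hXi => ?_⟩
  obtain ⟨hYi', hXi'⟩ := diag_squares hYi hXi
  have hs := h Xi (pullback fi fi) (pullback.diagonal fi) _ _ hYi' pXi hXi'
  exact (pullback.isIso_diagonal_iff fi).1 hs

end Lim

end Groth.Agent.Lib.Helper14.AS
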