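import Groth.Prelude.Def_AlgSp4
import Groth.Agent.Lib.Helper14.LimLP
import Groth.Agent.Lib.Helper14.RLP2
universe u
open CategoryTheory CategoryTheory.Limits AlgebraicGeometry Opposite
namespace Groth.Agent.Lib.Helper14.AS
variable {S : Scheme.{u}}
open AlgSp

/-- surjectivity half of relative limit preservation, for morphisms of sheaves and affine systems -/
def LPSurj {X Y : Sp S} (f : X ⟶ Y) : Prop :=
  ∀ ⦃I : Type u⦄ [SmallCategory I] [IsCofiltered I] (D : I ⥤ Over S) (c : Cone D),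
    IsLimit ((Over.forget S).mapCone c) → (∀ i, IsAffine (D.obj i).left) → IsAffine c.pt.left →
    ∀ (x : (yon S).obj c.pt ⟶ X) (i : I) (y : (yon S).obj (D.obj i) ⟶ Y),
      x ≫ f = (yon S).map (c.π.app i) ≫ y →
      ∃ (i' : I) (φ : i' ⟶ i) (x' : (yon S).obj (D.obj i') ⟶ X),
        (yon S).map (c.π.app i') ≫ x' = x ∧ x' ≫ f = (yon S).map (D.map φ) ≫ y

/-- injectivity half of relative limit preservation -/
def LPInj {X Y : Sp S} (f : X ⟶ Y) : Prop :=
  ∀ ⦃I : Type u⦄ [SmallCategory I] [IsCofiltered I] (D : I ⥤ Over S) (c : Cone D),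
    IsLimit ((Over.forget S).mapCone c) → (∀ i, IsAffine (D.obj i).left) → IsAffine c.pt.left →
    ∀ (i : I) (x₁ x₂ : (yon S).obj (D.obj i) ⟶ X), x₁ ≫ f = x₂ ≫ f →
      (yon S).map (c.π.app i) ≫ x₁ = (yon S).map (c.π.app i) ≫ x₂ →
      ∃ (i' : I) (φ : i' ⟶ i), (yon S).map (D.map φ) ≫ x₁ = (yon S).map (D.map φ) ≫ x₂

theorem lpSurj_comp {X Y Z : Sp S} (f : X ⟶ Y) (g : Y ⟶ Z) (hf : LPSurj f) (hg : LPSurj g) :
    LPSurj (f ≫ g) := by
  intro I _ _ D c hc hD hcA x i z hxz
  obtain ⟨j, φ, yj, h1, h2⟩ := hg D c hc hD hcA (x ≫ f) i z (by rw [Category.assoc, hxz])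
  obtain ⟨k, ψ, xk, h3, h4⟩ := hf D c hc hD hcA x j yj h1.symm
  refine ⟨k, ψ ≫ φ, xk, h3, ?_⟩
  rw [← Category.assoc, h4, Category.assoc, h2, D.map_comp, (yon S).map_comp, Category.assoc]

section Rep

variable {I : Type u} [SmallCategory I] [IsCofiltered I] (D : I ⥤ Over S) (c : Cone D) (i : I)

/-- the system over a stage, as schemes -/
abbrev stD : Over i ⥤ Scheme.{u} := Over.forget i ⋙ D ⋙ Over.forget S

abbrev stC : Cone (stD D i) := ((Over.forget S).mapCone c).whisker (Over.forget i)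

noncomputable def stIsLimit (hc : IsLimit ((Over.forget S).mapCone c)) : IsLimit (stC D c i) :=
  (Functor.Initial.isLimitWhiskerEquiv (Over.forget i) _).symm hc

abbrev stT : stD D i ⟶ (Functor.const (Over i)).obj (D.obj i).left where
  app k := (D.map k.hom).left
  naturality k k' h := by
    change (D.map h.left).left ≫ (D.map k'.hom).left = (D.map k.hom).left ≫ 𝟙 _
    rw [Category.comp_id, ← Over.comp_left, ← D.map_comp, Over.w]

end Rep

set_option backward.isDefEq.respectTransparency.types false in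
theorem lpSurj_of_repWith_lfp {X Y : Sp S} (g : X ⟶ Y)
    (hg : RepWith @LocallyOfFinitePresentation g) : LPSurj g := by
  intro I _ _ D c hc hD hcA x i y hxy
  have hr := hg.rep
  have hlfp : LocallyOfFinitePresentation (hr.snd y).left := hg.property_snd y
  let σ : (yon S).obj c.pt ⟶ (yon S).obj (hr.pullback y) :=
    (hr.isPullback y).lift x ((yon S).map (c.π.app i)) hxy
  have hσ1 : σ ≫ hr.fst y = x := (hr.isPullback y).lift_fst _ _ _
  have hσ2 : σ ≫ (yon S).map (hr.snd y) = (yon S).map (c.π.app i) :=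
    (hr.isPullback y).lift_snd _ _ _
  obtain ⟨σ', hσ'⟩ := (yon S).map_surjective σ
  have hσ'2 : σ' ≫ hr.snd y = c.π.app i := by
    apply (yon S).map_injective
    rw [(yon S).map_comp, hσ', hσ2]
  have h1a : ∀ {a b : Over i} (f : a ⟶ b), IsAffineHom ((stD D i).map f) := by
    intro a b f
    have := hD a.left
    have := hD b.left
    exact isAffineHom_of_isAffine (X := (D.obj a.left).left) (Y := (D.obj b.left).left) _
  have h1c : ∀ j, CompactSpace ((stD D i).obj j) := fun j => by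
    have := hD j.left
    exact inferInstanceAs (CompactSpace (D.obj j.left).left)
  have h1s : ∀ j, QuasiSeparatedSpace ((stD D i).obj j) := fun j => by
    have := hD j.left
    exact inferInstanceAs (QuasiSeparatedSpace (D.obj j.left).left)
  obtain ⟨k, g₁, hg1', hg2'⟩ : ∃ (k : Over i) (g₁ : (D.obj k.left).left ⟶ (hr.pullback y).left),
      (c.π.app k.left).left ≫ g₁ = σ'.left ∧ g₁ ≫ (hr.snd y).left = (D.map k.hom).left :=
    Scheme.exists_π_app_comp_eq_of_locallyOfFinitePresentation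
    (stD D i) (stT D i) (hr.snd y).left (stC D c i) (stIsLimit D c i hc) σ'.left (by
      ext k
      change (c.π.app k.left).left ≫ (D.map k.hom).left = σ'.left ≫ (hr.snd y).left
      rw [← Over.comp_left, ← Over.comp_left, hσ'2, Cone.w])
  let g₁O : D.obj k.left ⟶ hr.pullback y := Over.homMk g₁ (by
    rw [← Over.w (hr.snd y), ← Category.assoc, hg2', Over.w])
  have e1 : c.π.app k.left ≫ g₁O = σ' := Over.OverMorphism.ext hg1'
  have e2 : g₁O ≫ hr.snd y = D.map k.hom := Over.OverMorphism.ext hg2'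
  refine ⟨k.left, k.hom, (yon S).map g₁O ≫ hr.fst y, ?_, ?_⟩
  · rw [← Category.assoc, ← (yon S).map_comp, e1, hσ', hσ1]
  · rw [Category.assoc, (hr.isPullback y).w, ← Category.assoc, ← (yon S).map_comp, e2]

set_option backward.isDefEq.respectTransparency.types false in
theorem lpInj_of_repWith_lft {X Y : Sp S} (g : X ⟶ Y)
    (hg : RepWith @LocallyOfFiniteType g) : LPInj g := by
  intro I _ _ D c hc hD hcA i x₁ x₂ h12 hlim
  have hr := hg.rep
  obtain ⟨y, hy⟩ : ∃ y : (yon S).obj (D.obj i) ⟶ Y, y = x₁ ≫ g := ⟨_, rfl⟩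
  have hlft : LocallyOfFiniteType (hr.snd y).left := hg.property_snd y
  let s₁ : (yon S).obj (D.obj i) ⟶ (yon S).obj (hr.pullback y) :=
    (hr.isPullback y).lift x₁ (𝟙 _) (by rw [Category.id_comp, hy])
  let s₂ : (yon S).obj (D.obj i) ⟶ (yon S).obj (hr.pullback y) :=
    (hr.isPullback y).lift x₂ (𝟙 _) (by rw [Category.id_comp, hy, h12])
  have hs₁1 : s₁ ≫ hr.fst y = x₁ := (hr.isPullback y).lift_fst _ _ _
  have hs₁2 : s₁ ≫ (yon S).map (hr.snd y) = 𝟙 _ := (hr.isPullback y).lift_snd _ _ _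
  have hs₂1 : s₂ ≫ hr.fst y = x₂ := (hr.isPullback y).lift_fst _ _ _
  have hs₂2 : s₂ ≫ (yon S).map (hr.snd y) = 𝟙 _ := (hr.isPullback y).lift_snd _ _ _
  obtain ⟨s₁', hs₁'⟩ := (yon S).map_surjective s₁
  obtain ⟨s₂', hs₂'⟩ := (yon S).map_surjective s₂
  have e₁ : s₁' ≫ hr.snd y = 𝟙 _ := by
    apply (yon S).map_injective
    rw [(yon S).map_comp, hs₁', hs₁2, (yon S).map_id]
  have e₂ : s₂' ≫ hr.snd y = 𝟙 _ := by
    apply (yon S).map_injective
    rw [(yon S).map_comp, hs₂', hs₂2, (yon S).map_id]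
  have elim : c.π.app i ≫ s₁' = c.π.app i ≫ s₂' := by
    apply (yon S).map_injective
    rw [(yon S).map_comp, (yon S).map_comp, hs₁', hs₂']
    apply (hr.isPullback y).hom_ext
    · rw [Category.assoc, Category.assoc, hs₁1, hs₂1, hlim]
    · rw [Category.assoc, Category.assoc, hs₁2, hs₂2]
  have h1a : ∀ {a b : Over i} (f : a ⟶ b), IsAffineHom ((stD D i).map f) := by
    intro a b f
    have := hD a.left
    have := hD b.left
    exact isAffineHom_of_isAffine (X := (D.obj a.left).left) (Y := (D.obj b.left).left) _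
  have h1c : ∀ j, CompactSpace ((stD D i).obj j) := fun j => by
    have := hD j.left
    exact inferInstanceAs (CompactSpace (D.obj j.left).left)
  obtain ⟨k, hik, hk⟩ : ∃ (k : Over i) (hik : k ⟶ Over.mk (𝟙 i)),
      (D.map hik.left).left ≫ s₁'.left = (D.map hik.left).left ≫ s₂'.left :=
    Scheme.exists_hom_comp_eq_comp_of_locallyOfFiniteType
      (stD D i) (stT D i) (hr.snd y).left (stC D c i) (stIsLimit D c i hc)
      (i := Over.mk (𝟙 i)) s₁'.left s₂'.left
      (by
        change (D.map (𝟙 i)).left = s₁'.left ≫ (hr.snd y).left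
        rw [← Over.comp_left, e₁, D.map_id])
      (by
        change (D.map (𝟙 i)).left = s₂'.left ≫ (hr.snd y).left
        rw [← Over.comp_left, e₂, D.map_id])
      (by
        change (c.π.app i).left ≫ s₁'.left = (c.π.app i).left ≫ s₂'.left
        rw [← Over.comp_left, ← Over.comp_left, elim])
  have hk' : D.map hik.left ≫ s₁' = D.map hik.left ≫ s₂' := Over.OverMorphism.ext hk
  refine ⟨k.left, hik.left, ?_⟩
  rw [← hs₁1, ← hs₂1, ← Category.assoc, ← Category.assoc, ← hs₁', ← hs₂', ← (yon S).map_comp,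
    ← (yon S).map_comp, hk']

/-- injectivity follows from surjectivity for the diagonal -/
theorem lpInj_of_lpSurj_diagonal {X Y : Sp S} (f : X ⟶ Y)
    (h : LPSurj (pullback.diagonal f)) : LPInj f := by
  intro I _ _ D c hc hD hcA i x₁ x₂ h12 hlim
  obtain ⟨j, φ, x', h1, h2⟩ := h D c hc hD hcA ((yon S).map (c.π.app i) ≫ x₁) i
    (pullback.lift x₁ x₂ h12) (by
      apply pullback.hom_ext
      · rw [Category.assoc, Category.assoc, Category.assoc, pullback.diagonal_fst,
          Category.comp_id, pullback.lift_fst]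
      · rw [Category.assoc, Category.assoc, Category.assoc, pullback.diagonal_snd,
          Category.comp_id, pullback.lift_snd, hlim])
  refine ⟨j, φ, ?_⟩
  have e1 := congrArg (· ≫ pullback.fst f f) h2
  have e2 := congrArg (· ≫ pullback.snd f f) h2
  simp only [Category.assoc, pullback.diagonal_fst, pullback.diagonal_snd, Category.comp_id,
    pullback.lift_fst, pullback.lift_snd] at e1 e2
  rw [← e1, ← e2]

theorem yEquiv_comp' {T : Over S} {X Y : Sp S} (x : (yon S).obj T ⟶ X) (f : X ⟶ Y) :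
    yEquiv (x ≫ f) = f.hom.app _ (yEquiv x) :=
  (AlgSp.J S).uliftYonedaEquiv_comp x f

theorem yEquiv_map_comp {T T' : Over S} {X : Sp S} (m : T' ⟶ T) (x : (yon S).obj T ⟶ X) :
    yEquiv ((yon S).map m ≫ x) = X.obj.map m.op (yEquiv x) :=
  ((AlgSp.J S).uliftYonedaEquiv_naturality x m).symm

theorem rlpElem_iff_lp {X Y : Sp S} (f : X ⟶ Y) : RLPElem f.hom ↔ LPSurj f ∧ LPInj f := by
  constructor
  · intro h
    refine ⟨fun I _ _ D c hc hD hcA x i y hxy => ?_, fun I _ _ D c hc hD hcA i x₁ x₂ h12 hlim => ?_⟩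
    · obtain ⟨E1, -⟩ := h D c hc hD hcA
      obtain ⟨j, φ, xj, h1, h2⟩ := E1 i (yEquiv y) (yEquiv x) (by
        rw [← yEquiv_comp', hxy, yEquiv_map_comp])
      refine ⟨j, φ, yEquiv.symm xj, ?_, ?_⟩
      · apply yEquiv.injective
        rw [yEquiv_map_comp, Equiv.apply_symm_apply, h1]
      · apply yEquiv.injective
        rw [yEquiv_comp', Equiv.apply_symm_apply, h2, yEquiv_map_comp]
    · obtain ⟨-, E2⟩ := h D c hc hD hcA
      obtain ⟨j, φ, hφ⟩ := E2 i (yEquiv x₁) (yEquiv x₂) (by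
        rw [← yEquiv_comp', ← yEquiv_comp', h12]) (by
        rw [← yEquiv_map_comp, ← yEquiv_map_comp, hlim])
      refine ⟨j, φ, ?_⟩
      apply yEquiv.injective
      rw [yEquiv_map_comp, yEquiv_map_comp, hφ]
  · rintro ⟨hs, hi⟩ I _ _ D c hc hD hcA
    refine ⟨fun i y x hxy => ?_, fun i x x' hxx' hlim => ?_⟩
    · obtain ⟨j, φ, xj, h1, h2⟩ := hs D c hc hD hcA (yEquiv.symm x) i (yEquiv.symm y) (by
        apply yEquiv.injective
        rw [yEquiv_comp', yEquiv_map_comp, Equiv.apply_symm_apply, Equiv.apply_symm_apply, hxy])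
      refine ⟨j, φ, yEquiv xj, ?_, ?_⟩
      · rw [← yEquiv_map_comp, h1, Equiv.apply_symm_apply]
      · rw [← yEquiv_comp', h2, yEquiv_map_comp, Equiv.apply_symm_apply]
    · obtain ⟨j, φ, hφ⟩ := hi D c hc hD hcA i (yEquiv.symm x) (yEquiv.symm x') (by
        apply yEquiv.injective
        rw [yEquiv_comp', yEquiv_comp', Equiv.apply_symm_apply, Equiv.apply_symm_apply, hxx'])
        (by
        apply yEquiv.injective
        rw [yEquiv_map_comp, yEquiv_map_comp, Equiv.apply_symm_apply, Equiv.apply_symm_apply,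
          hlim])
      refine ⟨j, φ, ?_⟩
      have := congrArg yEquiv hφ
      rwa [yEquiv_map_comp, yEquiv_map_comp, Equiv.apply_symm_apply, Equiv.apply_symm_apply]
        at this

end Groth.Agent.Lib.Helper14.AS
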