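import Groth.Prelude.Def_AlgSp4
import Groth.Agent.Lib.Helper14.LimRLP1
import Groth.Agent.S9208
universe u
open CategoryTheory CategoryTheory.Limits AlgebraicGeometry Opposite
namespace Groth.Agent.Lib.Helper14.AS
variable {S : Scheme.{u}}
open AlgSp

set_option backward.isDefEq.respectTransparency.types false in
/-- S10031 -/
theorem locP_lfp_of_lpSurj {X Y : Sp S} (f : X ⟶ Y) (h : LPSurj f) :
    LocP @LocallyOfFinitePresentation f := by
  intro U V a b h₀ hae hbe hcomm
  apply Groth.Agent.S9208.result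
  intro J _ _ _ D t c hc hDaff j₀ g hg
  have hconst : ∀ j, c.π.app j ≫ t.app j = c.π.app j₀ ≫ t.app j₀ := by
    intro j
    obtain ⟨k, φ, ψ, -⟩ := IsCofilteredOrEmpty.cone_objs j j₀
    have e1 := t.naturality φ
    have e2 := t.naturality ψ
    simp only [Functor.const_obj_obj, Functor.const_obj_map, Category.comp_id] at e1 e2
    rw [← c.w φ, Category.assoc, e1, ← e2, ← Category.assoc, c.w ψ]
  let t' : D ⟶ (Functor.const Jᵒᵖ).obj S :=
    { app := fun j => t.app j ≫ V.hom
      naturality := fun j j' φ => by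
        have e1 := t.naturality φ
        simp only [Functor.const_obj_obj, Functor.const_obj_map, Category.comp_id] at e1 ⊢
        rw [← Category.assoc, e1] }
  let D' : Jᵒᵖ ⥤ Over S := Over.lift D t'
  let c' : Cone D' := Over.liftCone D t' c (c.π.app j₀ ≫ t.app j₀ ≫ V.hom) (fun j => by
    change c.π.app j ≫ t.app j ≫ V.hom = _
    rw [← Category.assoc, hconst, Category.assoc])
  have hc' : IsLimit ((Over.forget S).mapCone c') :=
    IsLimit.ofIsoLimit hc (Cones.ext (Iso.refl _) (fun j => by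
      change c.π.app j = 𝟙 _ ≫ c.π.app j
      rw [Category.id_comp]))
  have hD' : ∀ j, IsAffine (D'.obj j).left := fun j => hDaff j
  have hcA : IsAffine c'.pt.left := Scheme.isAffine_of_isLimit c hc
  let gO : c'.pt ⟶ U := Over.homMk g (by
    change g ≫ U.hom = c.π.app j₀ ≫ t.app j₀ ≫ V.hom
    rw [← Over.w h₀, ← Category.assoc, hg, Category.assoc])
  let tO : ∀ j, D'.obj j ⟶ V := fun j => Over.homMk (t.app j) rfl
  have htO : ∀ {j j' : Jᵒᵖ} (φ : j ⟶ j'), D'.map φ ≫ tO j' = tO j := fun φ => by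
    apply Over.OverMorphism.ext
    have e1 := t.naturality φ
    simp only [Functor.const_obj_obj, Functor.const_obj_map, Category.comp_id] at e1
    exact e1
  have hgO : gO ≫ h₀ = c'.π.app j₀ ≫ tO j₀ := Over.OverMorphism.ext hg
  have hπtO : ∀ j, c'.π.app j ≫ tO j = c'.π.app j₀ ≫ tO j₀ := fun j =>
    Over.OverMorphism.ext (hconst j)
  -- step 1: descend the point of `X`
  obtain ⟨i', φ, x', hx'1, hx'2⟩ := h D' c' hc' hD' hcA ((yon S).map gO ≫ a) j₀
    ((yon S).map (tO j₀) ≫ b) (by
      rw [Category.assoc, hcomm, ← Category.assoc, ← (yon S).map_comp, hgO, (yon S).map_comp,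
        Category.assoc])
  -- step 2: lift to the chart `U`
  obtain ⟨k', ψ, u₁, hu1, hu2⟩ := lpSurj_of_repWith_lfp a (repWith_mono etale_le_lfp hae)
    D' c' hc' hD' hcA ((yon S).map gO) i' x' hx'1.symm
  obtain ⟨u₁', hu₁'⟩ := (yon S).map_surjective u₁
  -- step 3: the two maps to `V` agree at some stage
  have hb12 : ((yon S).map (u₁' ≫ h₀)) ≫ b = (yon S).map (tO k') ≫ b := by
    rw [(yon S).map_comp, Category.assoc, ← hcomm, hu₁', ← Category.assoc, hu2, Category.assoc,
      hx'2, ← Category.assoc, ← Category.assoc, ← (yon S).map_comp, ← (yon S).map_comp,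
      Category.assoc, htO, htO]
  have hlim12 : (yon S).map (c'.π.app k') ≫ (yon S).map (u₁' ≫ h₀) =
      (yon S).map (c'.π.app k') ≫ (yon S).map (tO k') := by
    rw [(yon S).map_comp, ← Category.assoc, hu₁', hu1, ← (yon S).map_comp, hgO,
      ← (yon S).map_comp, hπtO k']
  obtain ⟨l, χ, hl⟩ := lpInj_of_repWith_lft b (repWith_mono etale_le_lft hbe) D' c' hc' hD' hcA k'
    _ _ hb12 hlim12
  have hl' : D'.map χ ≫ u₁' ≫ h₀ = D'.map χ ≫ tO k' := by
    apply (yon S).map_injective
    rw [(yon S).map_comp, (yon S).map_comp (D'.map χ), hl]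
  refine ⟨l, (D'.map χ ≫ u₁').left, ?_, ?_⟩
  · have e5 : (D'.map χ ≫ u₁').left ≫ h₀.left = (D'.map χ ≫ tO k').left := by
      rw [← Over.comp_left, Category.assoc, hl']
    refine e5.trans ?_
    rw [htO]
    rfl
  · have e3 : c'.π.app k' ≫ u₁' = gO := by
      apply (yon S).map_injective
      rw [(yon S).map_comp, hu₁', hu1]
    have e4 : c'.π.app l ≫ D'.map χ ≫ u₁' = gO := by
      rw [← Category.assoc, c'.w, e3]
    exact congrArg (fun m => m.left) e4

end Groth.Agent.Lib.Helper14.AS
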