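import Groth.Prelude.Def_AlgSp4
import Groth.Agent.Lib.Helper14.LimRLP1
universe u
open CategoryTheory CategoryTheory.Limits AlgebraicGeometry Opposite
namespace Groth.Agent.Lib.Helper14.AS
variable {S : Scheme.{u}}
open AlgSp

variable {I : Type u} [SmallCategory I] [IsCofiltered I]

set_option backward.isDefEq.respectTransparency.types false in
set_option maxHeartbeats 1600000 in
/-- core descent lemma: a point of the limit whose restriction to the limit chart descends to a
stage of the chart system descends to a stage -/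
theorem exists_descend_point_of_chartSystem
    (D : I ⥤ Sp S) (c : Cone D) (hc : IsLimit c)
    (i₀ : I) {U₀ : Over S} (p : (yon S).obj U₀ ⟶ D.obj i₀) (hpe : RepWith @Etale p)
    (hps : RepWith @Surjective p)
    {R₀ : Over S} (r : (yon S).obj R₀ ⟶ pullback p p) (hre : RepWith @Etale r)
    (hrs : RepWith @Surjective r)
    (cs : ChartSystem D c i₀ p)
    {g' : (yon S).obj R₀ ⟶ D.obj i₀} (hg' : g' = r ≫ pullback.fst p p ≫ p)
    (cs' : ChartSystem D c i₀ g')
    (haff' : ∀ j, IsAffine (cs'.G.obj j).left) (haffc' : IsAffine cs'.cG.pt.left)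
    {X Y : Sp S} (f : X ⟶ Y) (hinj : LPInj f)
    (x : c.pt ⟶ X) (y : D.obj i₀ ⟶ Y)
    (k : Over i₀) (xk : (yon S).obj (cs.G.obj k) ⟶ X)
    (hxk1 : (yon S).map (cs.cG.π.app k) ≫ xk = cs.a ≫ x)
    (hxk2 : xk ≫ f = cs.fst k ≫ D.map k.hom ≫ y) :
    ∃ (l : I) (φ : l ⟶ i₀) (xl : D.obj l ⟶ X), c.π.app l ≫ xl = x ∧ xl ≫ f = D.map φ ≫ y := by
  have hconn : IsConnected (Over i₀) := IsCofiltered.isConnected _
  obtain ⟨σ, hσ⟩ := (yon S).map_surjective (r ≫ pullback.fst p p)
  obtain ⟨τ, hτ⟩ := (yon S).map_surjective (r ≫ pullback.snd p p)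
  obtain ⟨s, sInf, hs1, hs2, hs3, hs4, hs5⟩ := exists_chartSystem_hom hc cs cs' σ
    (by rw [hg', hσ, Category.assoc])
  obtain ⟨t, tInf, ht1, ht2, ht3, ht4, ht5⟩ := exists_chartSystem_hom hc cs cs' τ
    (by rw [hg', hτ, Category.assoc, pullback.condition])
  -- the two pullbacks to the relation agree at some stage
  have hc₂ : IsLimit ((Over.forget S).mapCone cs'.cG) := isLimitOfPreserves (Over.forget S) cs'.hcG
  obtain ⟨l, ψ, hl⟩ := hinj cs'.G cs'.cG hc₂ haff' haffc' k
    ((yon S).map (s k) ≫ xk) ((yon S).map (t k) ≫ xk)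
    (by rw [Category.assoc, Category.assoc, hxk2, ← Category.assoc, ← Category.assoc
      ((yon S).map (t k)), hs1, ht1])
    (by
      rw [← Category.assoc, ← Category.assoc, ← (yon S).map_comp, ← (yon S).map_comp, ← hs5, ← ht5,
        (yon S).map_comp, (yon S).map_comp, Category.assoc, Category.assoc, hxk1,
        ← Category.assoc, ← Category.assoc, hs4, ht4])
  obtain ⟨xl'', hxl''⟩ : ∃ xl'' : (yon S).obj (cs.G.obj l) ⟶ X,
      xl'' = (yon S).map (cs.G.map ψ) ≫ xk := ⟨_, rfl⟩
  have hst : (yon S).map (s l) ≫ xl'' = (yon S).map (t l) ≫ xl'' := by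
    rw [hxl'', ← Category.assoc, ← Category.assoc, ← (yon S).map_comp, ← (yon S).map_comp,
      ← hs3, ← ht3, (yon S).map_comp, (yon S).map_comp, Category.assoc, Category.assoc]
    exact hl
  -- descend along the chart of the stage
  have hfe : RepWith @Etale (cs.fst l) := repWith_of_isPullback _ (cs.sq l).flip hpe
  have hfs : RepWith @Surjective (cs.fst l) := repWith_of_isPullback _ (cs.sq l).flip hps
  have hepi : Epi (cs.fst l) := epi_of_etale_surjective _ hfe hfs
  have hcsae : RepWith @Etale cs.a := repWith_of_isPullback _ cs.isPullback.flip hpe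
  have hcsas : RepWith @Surjective cs.a := repWith_of_isPullback _ cs.isPullback.flip hps
  have hepia : Epi cs.a := epi_of_etale_surjective _ hcsae hcsas
  have heq : pullback.fst (cs.fst l) (cs.fst l) ≫ xl'' =
      pullback.snd (cs.fst l) (cs.fst l) ≫ xl'' := by
    let ρ : (yon S).obj (cs'.G.obj l) ⟶ pullback (cs.fst l) (cs.fst l) :=
      pullback.lift ((yon S).map (s l)) ((yon S).map (t l)) (by rw [hs1, ht1])
    have hρ1 : ρ ≫ pullback.fst (cs.fst l) (cs.fst l) = (yon S).map (s l) :=
      pullback.lift_fst _ _ _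
    have hρ2 : ρ ≫ pullback.snd (cs.fst l) (cs.fst l) = (yon S).map (t l) :=
      pullback.lift_snd _ _ _
    let κ : pullback (cs.fst l) (cs.fst l) ⟶ pullback p p :=
      pullback.map _ _ _ _ ((yon S).map (cs.ι l)) ((yon S).map (cs.ι l)) (D.map l.hom)
        (cs.sq l).w (cs.sq l).w
    have hκ1 : κ ≫ pullback.fst p p = pullback.fst _ _ ≫ (yon S).map (cs.ι l) :=
      pullback.lift_fst _ _ _
    have hκ2 : κ ≫ pullback.snd p p = pullback.snd _ _ ≫ (yon S).map (cs.ι l) :=
      pullback.lift_snd _ _ _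
    have K := isPullback_kernelPair_map (cs.sq l) κ hκ1 hκ2
    have hw : ρ ≫ κ = (yon S).map (cs'.ι l) ≫ r := by
      apply pullback.hom_ext
      · rw [Category.assoc, hκ1, ← Category.assoc, hρ1, ← (yon S).map_comp, hs2,
          (yon S).map_comp, hσ, Category.assoc]
      · rw [Category.assoc, hκ2, ← Category.assoc, hρ2, ← (yon S).map_comp, ht2,
          (yon S).map_comp, hτ, Category.assoc]
    have big : IsPullback (ρ ≫ pullback.fst (cs.fst l) (cs.fst l) ≫ cs.fst l)
        ((yon S).map (cs'.ι l)) (D.map l.hom) (r ≫ pullback.fst p p ≫ p) := by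
      rw [← Category.assoc, hρ1, hs1, ← hg']
      exact cs'.sq l
    have sqρ : IsPullback ρ ((yon S).map (cs'.ι l)) κ r := IsPullback.of_right big hw K
    have hρe : RepWith @Etale ρ := repWith_of_isPullback _ sqρ.flip hre
    have hρs : RepWith @Surjective ρ := repWith_of_isPullback _ sqρ.flip hrs
    have : Epi ρ := epi_of_etale_surjective _ hρe hρs
    rw [← cancel_epi ρ, ← Category.assoc, ← Category.assoc, hρ1, hρ2, hst]
  obtain ⟨xl, hxl⟩ := exists_desc_of_epi (cs.fst l) xl'' heq
  refine ⟨l.left, l.hom, xl, ?_, ?_⟩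
  · rw [← cancel_epi cs.a, ← Category.assoc, cs.a_π, Category.assoc, hxl, hxl'',
      ← Category.assoc, ← (yon S).map_comp, cs.cG.w, hxk1]
  · rw [← cancel_epi (cs.fst l), ← Category.assoc, hxl, hxl'', Category.assoc, hxk2,
      ← Category.assoc, cs.map_fst, Category.assoc, ← Category.assoc (D.map ψ.left),
      ← D.map_comp, Over.w]

end Groth.Agent.Lib.Helper14.AS
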