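import Groth.Prelude.Def_AlgSp4
import Groth.Agent.Lib.Helper14.LimRLP3
import Groth.Agent.Lib.Helper14.LimAff2
import Groth.Agent.Lib.Helper14.LimH
import Groth.Agent.Lib.Helper14.LimZ
import Groth.Agent.Lib.Helper14.AlgSpImm
universe u
open CategoryTheory CategoryTheory.Limits AlgebraicGeometry Opposite
namespace Groth.Agent.Lib.Helper14.AS
variable {S : Scheme.{u}}
open AlgSp

variable {I : Type u} [SmallCategory I] [IsCofiltered I]

set_option backward.isDefEq.respectTransparency.types false in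
/-- an affine etale cover of an affine limit descends to a stage (scheme level) -/
theorem exists_etale_cover_stage_scheme (D : I ⥤ Scheme.{u}) (c : Cone D) (hc : IsLimit c)
    (hD : ∀ i, IsAffine (D.obj i)) {T'' : Scheme.{u}} [IsAffine T''] (q : T'' ⟶ c.pt) [Etale q]
    [Surjective q] :
    ∃ (j : I) (Ej : Scheme.{u}) (ε : Ej ⟶ D.obj j) (y' : T'' ⟶ Ej), IsAffine Ej ∧ Etale ε ∧
      Surjective ε ∧ IsPullback q y' (c.π.app j) ε := by
  have hcA : IsAffine c.pt := Scheme.isAffine_of_isLimit c hc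
  let Z : Scheme.{u} := Spec (.of (ULift.{u} ℤ))
  let T_Z : Over Z := Over.mk (specULiftZIsTerminal.from c.pt)
  let U_Z : Over Z := Over.mk (specULiftZIsTerminal.from T'')
  let Sa : Over Z := Over.mk (𝟙 Z)
  have : IsAffine T_Z.left := hcA
  have : IsAffine U_Z.left := inferInstanceAs (IsAffine T'')
  have : IsAffine Sa.left := inferInstanceAs (IsAffine (Spec (.of (ULift.{u} ℤ))))
  have : LocallyOfFinitePresentation Sa.hom :=
    inferInstanceAs (LocallyOfFinitePresentation (𝟙 Z))
  let tS : T_Z ⟶ Sa := Over.homMk (specULiftZIsTerminal.from c.pt) (by simp [Sa, T_Z])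
  let u : U_Z ⟶ T_Z := Over.homMk q (specULiftZIsTerminal.hom_ext _ _)
  have : Etale u.left := inferInstanceAs (Etale q)
  have : Surjective u.left := inferInstanceAs (Surjective q)
  obtain ⟨P, E, ε₀, x₀, y₀, hE, hP, hε₀e, hε₀s, hε₀a, sq₀⟩ := exists_etale_model_surj tS u
  have sq₁ : IsPullback q y₀.left x₀.left ε₀.left := sq₀.map (Over.forget Z)
  let t : D ⟶ (Functor.const I).obj Z :=
    { app := fun j => specULiftZIsTerminal.from _
      naturality := fun _ _ _ => specULiftZIsTerminal.hom_ext _ _ }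
  have h1a : ∀ {a b : I} (f : a ⟶ b), IsAffineHom (D.map f) := by
    intro a b f
    have := hD a
    have := hD b
    exact isAffineHom_of_isAffine _
  have h1c : ∀ j, CompactSpace (D.obj j) := fun j => by
    have := hD j
    infer_instance
  have h1s : ∀ j, QuasiSeparatedSpace (D.obj j) := fun j => by
    have := hD j
    infer_instance
  obtain ⟨j, xj, hxj, -⟩ := Scheme.exists_π_app_comp_eq_of_locallyOfFinitePresentation
    D t P.hom c hc x₀.left (by
      ext k
      exact specULiftZIsTerminal.hom_ext _ _)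
  have hw : (q ≫ c.π.app j) ≫ xj = y₀.left ≫ ε₀.left := by
    rw [Category.assoc, hxj, sq₁.w]
  let y' : T'' ⟶ pullback xj ε₀.left := pullback.lift (q ≫ c.π.app j) y₀.left hw
  have hy'1 : y' ≫ pullback.fst xj ε₀.left = q ≫ c.π.app j := pullback.lift_fst _ _ _
  have hy'2 : y' ≫ pullback.snd xj ε₀.left = y₀.left := pullback.lift_snd _ _ _
  have big : IsPullback q (y' ≫ pullback.snd xj ε₀.left) (c.π.app j ≫ xj) ε₀.left := by
    rw [hy'2, hxj]
    exact sq₁
  have sqL : IsPullback q y' (c.π.app j) (pullback.fst xj ε₀.left) :=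
    IsPullback.of_bot big hy'1.symm (IsPullback.of_hasPullback xj ε₀.left)
  have h1 : IsAffineHom (pullback.fst xj ε₀.left) :=
    MorphismProperty.pullback_fst (P := @IsAffineHom) _ _ hε₀a
  have h2 : Etale (pullback.fst xj ε₀.left) :=
    MorphismProperty.pullback_fst (P := @Etale) _ _ hε₀e
  have h3 : Surjective (pullback.fst xj ε₀.left) :=
    MorphismProperty.pullback_fst (P := @Surjective) _ _ hε₀s
  have := hD j
  exact ⟨j, pullback xj ε₀.left, pullback.fst xj ε₀.left, y',
    isAffine_of_isAffineHom (pullback.fst xj ε₀.left), h2, h3, sqL⟩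

set_option backward.isDefEq.respectTransparency.types false in
/-- an affine etale cover of an affine limit descends to a stage -/
theorem exists_etale_cover_stage (D : I ⥤ Over S) (c : Cone D)
    (hc : IsLimit ((Over.forget S).mapCone c)) (hD : ∀ i, IsAffine (D.obj i).left)
    {T'' : Over S} (hT'' : IsAffine T''.left) (q : T'' ⟶ c.pt) (hqe : Etale q.left)
    (hqs : Surjective q.left) :
    ∃ (j : I) (Ej : Over S) (ε : Ej ⟶ D.obj j) (y' : T'' ⟶ Ej), IsAffine Ej.left ∧
      Etale ε.left ∧ Surjective ε.left ∧ IsPullback q y' (c.π.app j) ε := by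
  have hqe' : Etale (Y := ((Over.forget S).mapCone c).pt) q.left := hqe
  have hqs' : Surjective (Y := ((Over.forget S).mapCone c).pt) q.left := hqs
  obtain ⟨j, Ej₀, ε₀, y'₀, hEj, hεe, hεs, sq'⟩ : ∃ (j : I) (Ej₀ : Scheme.{u})
      (ε₀ : Ej₀ ⟶ (D.obj j).left) (y'₀ : T''.left ⟶ Ej₀), IsAffine Ej₀ ∧ Etale ε₀ ∧
      Surjective ε₀ ∧ IsPullback q.left y'₀ (c.π.app j).left ε₀ :=
    exists_etale_cover_stage_scheme (D ⋙ Over.forget S) ((Over.forget S).mapCone c) hc hD
      (T'' := T''.left) q.left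
  let Ej : Over S := Over.mk (ε₀ ≫ (D.obj j).hom)
  let ε : Ej ⟶ D.obj j := Over.homMk ε₀ rfl
  let y' : T'' ⟶ Ej := Over.homMk y'₀ (by
    change y'₀ ≫ ε₀ ≫ (D.obj j).hom = T''.hom
    rw [← Category.assoc, ← sq'.w, Category.assoc, Over.w]
    exact Over.w q)
  refine ⟨j, Ej, ε, y', hEj, hεe, hεs, ?_⟩
  exact IsPullback.of_map (Over.forget S) (Over.OverMorphism.ext sq'.w) sq'

/-- reduction of `LPSurj` to compatible families -/
theorem lpSurj_of_family {X Y : Sp S} (f : X ⟶ Y)
    (h : ∀ ⦃I : Type u⦄ [SmallCategory I] [IsCofiltered I] (D : I ⥤ Over S) (c : Cone D),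
      IsLimit ((Over.forget S).mapCone c) → (∀ i, IsAffine (D.obj i).left) → IsAffine c.pt.left →
      ∀ (x : (yon S).obj c.pt ⟶ X) (y : ∀ i, (yon S).obj (D.obj i) ⟶ Y),
        (∀ {i i' : I} (φ : i' ⟶ i), (yon S).map (D.map φ) ≫ y i = y i') →
        (∀ i, x ≫ f = (yon S).map (c.π.app i) ≫ y i) →
        ∃ (i' : I) (x' : (yon S).obj (D.obj i') ⟶ X),
          (yon S).map (c.π.app i') ≫ x' = x ∧ x' ≫ f = y i') : LPSurj f := by
  intro I _ _ D c hc hD hcA x i y hxy
  have hc' : IsLimit ((Over.forget S).mapCone (c.whisker (Over.forget i))) :=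
    (Functor.Initial.isLimitWhiskerEquiv (Over.forget i) ((Over.forget S).mapCone c)).symm hc
  obtain ⟨k, x', h1, h2⟩ := h (Over.forget i ⋙ D) (c.whisker (Over.forget i)) hc'
    (fun k => hD k.left) hcA x (fun k => (yon S).map (D.map k.hom) ≫ y)
    (fun {k k'} φ => by
      change (yon S).map (D.map φ.left) ≫ (yon S).map (D.map k.hom) ≫ y = _
      rw [← Category.assoc, ← (yon S).map_comp, ← D.map_comp, Over.w]
      rfl)
    (fun k => by
      change x ≫ f = (yon S).map (c.π.app k.left) ≫ (yon S).map (D.map k.hom) ≫ y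
      rw [← Category.assoc, ← (yon S).map_comp, Cone.w, hxy])
  exact ⟨k.left, k.hom, x', h1, h2⟩

set_option backward.isDefEq.respectTransparency.types false in
set_option maxHeartbeats 1600000 in
/-- descent of `LPSurj` along an etale surjective chart of the source -/
theorem lpSurj_of_etale_surjective_chart {X Y : Sp S} {U : Over S} (a : (yon S).obj U ⟶ X)
    (hae : RepWith @Etale a) (has : RepWith @Surjective a) (f : X ⟶ Y) (hinj : LPInj f)
    (hsurj : LPSurj (a ≫ f)) : LPSurj f := by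
  apply lpSurj_of_family
  intro I _ _ D₀ c₀ hc₀ hD hcA x y hy hxy
  -- step 1: an affine etale cover of the limit on which `x` lifts to `U`
  have hr := hae.rep
  have hse : Etale (hr.snd x).left := hae.property_snd x
  have hss : Surjective (hr.snd x).left := has.property x _ _ (hr.isPullback x)
  have hTalg := IsAlgSpace.yon_obj (S := S) c₀.pt
  have hTqc : IsQuasiCompactSp ((yon S).obj c₀.pt) :=
    (isQuasiCompactSp_yon_iff _).2 inferInstance
  obtain ⟨T'', e, hT'', hqe, hqs⟩ := exists_affine_chart_refinement hTalg hTqc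
    ((yon S).map (hr.snd x)) ((repWith_yon_map_iff _ _).2 hse) ((repWith_yon_map_iff _ _).2 hss)
  obtain ⟨q, hq⟩ : ∃ q : T'' ⟶ c₀.pt, q = e ≫ hr.snd x := ⟨_, rfl⟩
  rw [← (yon S).map_comp, ← hq] at hqe hqs
  have hqe' : Etale q.left := (repWith_yon_map_iff _ _).1 hqe
  have hqs' : Surjective q.left := (repWith_yon_map_iff _ _).1 hqs
  obtain ⟨u, hu⟩ : ∃ u : (yon S).obj T'' ⟶ (yon S).obj U, u = (yon S).map e ≫ hr.fst x :=
    ⟨_, rfl⟩
  have hua : u ≫ a = (yon S).map q ≫ x := by
    rw [hu, Category.assoc, (hr.isPullback x).w, ← Category.assoc, ← (yon S).map_comp, hq]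
  -- step 2: descend the cover to a stage
  obtain ⟨j, Ej, ε, y', hEj, hεe, hεs, sq⟩ :=
    exists_etale_cover_stage D₀ c₀ hc₀ hD hT'' q hqe' hqs'
  -- step 3: chart systems
  have hconn : IsConnected I := IsCofiltered.isConnected _
  have hc₀' : IsLimit c₀ := isLimitOfReflects (Over.forget S) hc₀
  have hc : IsLimit ((yon S).mapCone c₀) := isLimitOfPreserves (yon S) hc₀'
  have hDa : ∀ (i j : I) (φ : i ⟶ j), IsAffineMor ((D₀ ⋙ yon S).map φ) := fun i j φ => by
    have := hD i
    have := hD j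
    exact isAffineMor_yon_map_of_isAffine (D₀.map φ)
  have hpe : RepWith @Etale ((yon S).map ε) := (repWith_yon_map_iff _ _).2 hεe
  have hps : RepWith @Surjective ((yon S).map ε) := (repWith_yon_map_iff _ _).2 hεs
  obtain ⟨cs, haff, haffc⟩ := exists_chartSystem (D₀ ⋙ yon S) hDa ((yon S).mapCone c₀) hc j hEj
    ((yon S).map ε)
  have sqR : IsPullback ((yon S).map (pullback.fst ε ε)) ((yon S).map (pullback.snd ε ε))
      ((yon S).map ε) ((yon S).map ε) := (IsPullback.of_hasPullback ε ε).map (yon S)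
  have hre : RepWith @Etale sqR.isoPullback.hom := repWith_of_isIso _ _
  have hrs : RepWith @Surjective sqR.isoPullback.hom := repWith_of_isIso _ _
  have hR₀ : IsAffine (pullback ε ε).left := by
    have := hD j
    have h1 : IsAffineHom ε.left := isAffineHom_of_isAffine _
    have h2 : IsAffineHom (pullback.fst ε ε).left :=
      MorphismProperty.pullback_fst (P := MorphismProperty.inverseImage (@IsAffineHom) (Over.forget S)) ε ε h1
    exact isAffine_of_isAffineHom (pullback.fst ε ε).left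
  obtain ⟨g', hg'⟩ : ∃ g' : (yon S).obj (pullback ε ε) ⟶ (D₀ ⋙ yon S).obj j,
      g' = sqR.isoPullback.hom ≫ pullback.fst ((yon S).map ε) ((yon S).map ε) ≫ (yon S).map ε :=
    ⟨_, rfl⟩
  obtain ⟨cs', haff', haffc'⟩ := exists_chartSystem (D₀ ⋙ yon S) hDa ((yon S).mapCone c₀) hc j hR₀
    g'
  -- step 4: the point on the limit chart
  have sqT : IsPullback ((yon S).map q) ((yon S).map y') ((yon S).map (c₀.π.app j))
      ((yon S).map ε) := sq.map (yon S)
  have hθ1 : (cs.isPullback.isoIsPullback _ _ sqT).hom ≫ (yon S).map q = cs.a :=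
    IsPullback.isoIsPullback_hom_fst _ _ _ _
  obtain ⟨θ, hθ⟩ : ∃ θ : (yon S).obj cs.cG.pt ⟶ (yon S).obj T'',
      θ = (cs.isPullback.isoIsPullback _ _ sqT).hom := ⟨_, rfl⟩
  rw [← hθ] at hθ1
  have hconnj : IsConnected (Over j) := IsCofiltered.isConnected _
  have hcG : IsLimit ((Over.forget S).mapCone cs.cG) := isLimitOfPreserves (Over.forget S) cs.hcG
  have haπ := cs.a_π (Over.mk (𝟙 j))
  obtain ⟨k, ψ, uk, huk1, huk2⟩ := hsurj cs.G cs.cG hcG haff haffc (θ ≫ u) (Over.mk (𝟙 j))
    (cs.fst (Over.mk (𝟙 j)) ≫ y j) (by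
      rw [Category.assoc, ← Category.assoc u, hua, ← Category.assoc, ← Category.assoc, hθ1,
        Category.assoc, hxy j, ← Category.assoc ((yon S).map (cs.cG.π.app (Over.mk (𝟙 j)))), ← haπ,
        Category.assoc]
      rfl)
  have hxk1 : (yon S).map (cs.cG.π.app k) ≫ uk ≫ a = cs.a ≫ x := by
    rw [← Category.assoc, huk1, Category.assoc, hua, ← Category.assoc, hθ1]
  have hψ : ψ.left = k.hom := by
    have := Over.w ψ
    simpa using this
  have hxk2 : (uk ≫ a) ≫ f = cs.fst k ≫ (D₀ ⋙ yon S).map k.hom ≫ y j := by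
    rw [Category.assoc, huk2, ← Category.assoc, cs.map_fst, Category.assoc, hψ]
  obtain ⟨l, φ, xl, h1, h2⟩ := exists_descend_point_of_chartSystem (D₀ ⋙ yon S)
    ((yon S).mapCone c₀) hc j ((yon S).map ε) hpe hps sqR.isoPullback.hom hre hrs cs hg' cs'
    haff' haffc' f hinj x (y j) k (uk ≫ a) hxk1 hxk2
  refine ⟨l, xl, h1, ?_⟩
  rw [h2]
  exact hy φ

end Groth.Agent.Lib.Helper14.AS
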