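import Groth.Prelude.Def_AlgSp4
import Groth.Agent.Lib.Helper14.LimRLP4
import Groth.Agent.Lib.Helper14.LimRLP2
import Groth.Agent.S9900
import Groth.Agent.S9960
universe u
open CategoryTheory CategoryTheory.Limits AlgebraicGeometry Opposite
namespace Groth.Agent.Lib.Helper14.AS
variable {S : Scheme.{u}}
open AlgSp

set_option backward.isDefEq.respectTransparency.types false in
theorem lpInj_of_locP_lft {X Y : Space S} (f : X ⟶ Y) (hf : LocP @LocallyOfFiniteType f.hom) :
    LPInj f.hom := by
  apply lpInj_of_lpSurj_diagonal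
  apply lpSurj_of_repWith_lfp
  have hP : IsAlgSpace (pullback f.hom f.hom) :=
    isAlgSpace_of_isPullback (repDiag_of_isAlgSpace Y.property) X.property X.property
      (IsPullback.of_hasPullback f.hom f.hom)
  exact repWith_of_locP_of_representable etLocal_lfp hP (Groth.Agent.S9900.result f).1
    (Groth.Agent.S9960.result f hf).1

set_option backward.isDefEq.respectTransparency.types false in
theorem lpSurj_of_locP_lfp {X Y : Space S} (f : X ⟶ Y)
    (hf : LocP @LocallyOfFinitePresentation f.hom) : LPSurj f.hom := by
  have hlft : LocP @LocallyOfFiniteType f.hom :=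
    locP_mono (fun _ _ k hk => by
      have : LocallyOfFinitePresentation k := hk
      infer_instance) hf
  obtain ⟨V, b, hbe, hbs⟩ := Y.property.atlas
  obtain ⟨U, a, h, hae, has, hcomm⟩ := exists_chart_diagram X.property f.hom b hbe hbs
  have hh : LocallyOfFinitePresentation h.left := hf a b h hae hbe hcomm
  refine lpSurj_of_etale_surjective_chart a hae has f.hom (lpInj_of_locP_lft f hlft) ?_
  rw [hcomm]
  exact lpSurj_comp _ _ (lpSurj_of_repWith_lfp _ ((repWith_yon_map_iff _ _).2 hh))
    (lpSurj_of_repWith_lfp b (repWith_mono etale_le_lfp hbe))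

/-- S10024 -/
theorem locP_lfp_iff_isRelLimitPreserving {X Y : Space S} (f : X ⟶ Y) :
    LocP @LocallyOfFinitePresentation f.hom ↔ IsRelLimitPreserving f.hom.hom := by
  constructor
  · intro hf
    have hlft : LocP @LocallyOfFiniteType f.hom :=
      locP_mono (fun _ _ k hk => by
        have : LocallyOfFinitePresentation k := hk
        infer_instance) hf
    exact (isRelLimitPreserving_iff_rlpElem _).2
      ((rlpElem_iff_lp f.hom).2 ⟨lpSurj_of_locP_lfp f hf, lpInj_of_locP_lft f hlft⟩)
  · intro h
    exact locP_lfp_of_lpSurj f.hom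
      ((rlpElem_iff_lp f.hom).1 ((isRelLimitPreserving_iff_rlpElem _).1 h)).1

end Groth.Agent.Lib.Helper14.AS
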