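import Groth.Prelude.Def_AlgSp4
import Groth.Agent.Lib.Helper14.LimRLP5
import Groth.Agent.Lib.Helper14.ColimSq
universe u
open CategoryTheory CategoryTheory.Limits AlgebraicGeometry Opposite
namespace Groth.Agent.Lib.Helper14.AS
variable {S : Scheme.{u}}
open AlgSp

variable {I : Type u} [SmallCategory I] [IsCofiltered I]

set_option backward.isDefEq.respectTransparency.types false in
set_option maxHeartbeats 1600000 in
/-- surjectivity for limits of quasi-compact quasi-separated algebraic spaces -/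
theorem gsurj_of_lp [QuasiSeparatedSpace S] {X Y : Sp S} (f : X ⟶ Y) (hs : LPSurj f)
    (hi : LPInj f)
    (D : I ⥤ Sp S) (hD : ∀ i, IsAlgSpace (D.obj i))
    (hDa : ∀ (i j : I) (φ : i ⟶ j), IsAffineMor (D.map φ))
    (hqc : ∀ i, IsQuasiCompactSp (D.obj i)) (hqs : ∀ i, IsQuasiSeparatedSp (D.obj i))
    (c : Cone D) (hc : IsLimit c)
    (x : c.pt ⟶ X) (i : I) (y : D.obj i ⟶ Y) (hxy : x ≫ f = c.π.app i ≫ y) :
    ∃ (j : I) (φ : j ⟶ i) (xj : D.obj j ⟶ X), c.π.app j ≫ xj = x ∧ xj ≫ f = D.map φ ≫ y := by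
  obtain ⟨U₀, p, hU₀, hpe, hps⟩ := isQuasiCompactSp_iff_exists_affine_chart.1 (hqc i)
  obtain ⟨cs, haff, haffc⟩ := exists_chartSystem D hDa c hc i hU₀ p
  have hconn : IsConnected (Over i) := IsCofiltered.isConnected _
  have hU₀alg := IsAlgSpace.yon_obj U₀
  have hU₀qc : IsQuasiCompactSp ((yon S).obj U₀) :=
    (isQuasiCompactSp_yon_iff U₀).2 (by have := hU₀; infer_instance)
  have hR₀qc : IsQuasiCompactSp (pullback p p) :=
    isQuasiCompactSp_of_isPullback hU₀alg hU₀qc hU₀alg hU₀qc (hqs i)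
      (IsPullback.of_hasPullback p p)
  obtain ⟨R₀, r, hR₀, hre, hrs⟩ := isQuasiCompactSp_iff_exists_affine_chart.1 hR₀qc
  obtain ⟨g', hg'⟩ : ∃ g' : (yon S).obj R₀ ⟶ D.obj i, g' = r ≫ pullback.fst p p ≫ p := ⟨_, rfl⟩
  obtain ⟨cs', haff', haffc'⟩ := exists_chartSystem D hDa c hc i hR₀ g'
  have hcG : IsLimit ((Over.forget S).mapCone cs.cG) := isLimitOfPreserves (Over.forget S) cs.hcG
  have haπ := cs.a_π (Over.mk (𝟙 i))
  obtain ⟨k, ψ, xk, hxk1, hxk2'⟩ := hs cs.G cs.cG hcG haff haffc (cs.a ≫ x) (Over.mk (𝟙 i))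
    (cs.fst (Over.mk (𝟙 i)) ≫ y) (by
      rw [Category.assoc, hxy, ← Category.assoc ((yon S).map (cs.cG.π.app (Over.mk (𝟙 i)))), ← haπ,
        Category.assoc]
      rfl)
  have hψ : ψ.left = k.hom := by
    have := Over.w ψ
    simpa using this
  have hxk2 : xk ≫ f = cs.fst k ≫ D.map k.hom ≫ y := by
    rw [hxk2', ← Category.assoc, cs.map_fst, Category.assoc, hψ]
  exact exists_descend_point_of_chartSystem D c hc i p hpe hps r hre hrs cs hg' cs'
    haff' haffc' f hi x y k xk hxk1 hxk2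

set_option backward.isDefEq.respectTransparency.types false in
/-- injectivity for limits of quasi-compact algebraic spaces -/
theorem ginj_of_lp {X Y : Sp S} (f : X ⟶ Y) (hi : LPInj f)
    (D : I ⥤ Sp S)
    (hDa : ∀ (i j : I) (φ : i ⟶ j), IsAffineMor (D.map φ))
    (hqc : ∀ i, IsQuasiCompactSp (D.obj i))
    (c : Cone D) (hc : IsLimit c)
    (i : I) (x₁ x₂ : D.obj i ⟶ X) (h12 : x₁ ≫ f = x₂ ≫ f)
    (hlim : c.π.app i ≫ x₁ = c.π.app i ≫ x₂) :
    ∃ (j : I) (φ : j ⟶ i), D.map φ ≫ x₁ = D.map φ ≫ x₂ := by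
  obtain ⟨U₀, p, hU₀, hpe, hps⟩ := isQuasiCompactSp_iff_exists_affine_chart.1 (hqc i)
  obtain ⟨cs, haff, haffc⟩ := exists_chartSystem D hDa c hc i hU₀ p
  have hconn : IsConnected (Over i) := IsCofiltered.isConnected _
  have hcG : IsLimit ((Over.forget S).mapCone cs.cG) := isLimitOfPreserves (Over.forget S) cs.hcG
  have haπ := cs.a_π (Over.mk (𝟙 i))
  obtain ⟨k, ψ, hk⟩ := hi cs.G cs.cG hcG haff haffc (Over.mk (𝟙 i))
    (cs.fst (Over.mk (𝟙 i)) ≫ x₁) (cs.fst (Over.mk (𝟙 i)) ≫ x₂)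
    (by rw [Category.assoc, Category.assoc, h12])
    (by
      rw [← Category.assoc, ← Category.assoc, ← haπ, Category.assoc, Category.assoc]
      exact congrArg (cs.a ≫ ·) hlim)
  have hψ : ψ.left = k.hom := by
    have := Over.w ψ
    simpa using this
  have hfe : RepWith @Etale (cs.fst k) := repWith_of_isPullback _ (cs.sq k).flip hpe
  have hfs : RepWith @Surjective (cs.fst k) := repWith_of_isPullback _ (cs.sq k).flip hps
  have hepi : Epi (cs.fst k) := epi_of_etale_surjective _ hfe hfs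
  refine ⟨k.left, k.hom, ?_⟩
  rw [← cancel_epi (cs.fst k), ← Category.assoc, ← Category.assoc, ← hψ, ← cs.map_fst,
    Category.assoc, Category.assoc]
  exact hk

set_option backward.isDefEq.respectTransparency.types false in
/-- S10077 -/
theorem locP_lfp_iff_isPullback_colimit_hom [QuasiSeparatedSpace S] {X Y : Space S} (f : X ⟶ Y) :
    LocP @LocallyOfFinitePresentation f.hom ↔
      ∀ ⦃I : Type u⦄ [SmallCategory I] [IsCofiltered I] (D : I ⥤ Sp S),
        (∀ i, IsAlgSpace (D.obj i)) → (∀ (i j : I) (φ : i ⟶ j), IsAffineMor (D.map φ)) →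
        (∀ i, IsQuasiCompactSp (D.obj i)) → (∀ i, IsQuasiSeparatedSp (D.obj i)) →
        ∀ (c : Cone D) (_ : IsLimit c),
          IsPullback (colimMap (Functor.whiskerLeft D.op (yoneda.map f.hom)))
            (colimit.desc (D.op ⋙ yoneda.obj X.obj) ((yoneda.obj X.obj).mapCocone c.op))
            (colimit.desc (D.op ⋙ yoneda.obj Y.obj) ((yoneda.obj Y.obj).mapCocone c.op))
            ((yoneda.map f.hom).app (Opposite.op c.pt)) := by
  constructor
  · intro hf I _ _ D hD hDa hqc hqs c hc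
    have hlft : LocP @LocallyOfFiniteType f.hom :=
      locP_mono (fun _ _ k hk => by
        have : LocallyOfFinitePresentation k := hk
        infer_instance) hf
    have hs := lpSurj_of_locP_lfp f hf
    have hi := lpInj_of_locP_lft f hlft
    refine gisPullback_of_E (yoneda.map f.hom) D c ?_ ?_
    · intro i y x hx
      exact gsurj_of_lp f.hom hs hi D hD hDa hqc hqs c hc x i y hx
    · intro i x x' hxx' hlim
      exact ginj_of_lp f.hom hi D hDa hqc c hc i x x' hxx' hlim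
  · intro h
    apply locP_lfp_of_lpSurj
    intro I _ _ D₀ c₀ hc₀ hD₀ hcA x i y hxy
    have hconn : IsConnected I := IsCofiltered.isConnected _
    have hc₀' : IsLimit c₀ := isLimitOfReflects (Over.forget S) hc₀
    have hc : IsLimit ((yon S).mapCone c₀) := isLimitOfPreserves (yon S) hc₀'
    have hDa : ∀ (i j : I) (φ : i ⟶ j), IsAffineMor ((D₀ ⋙ yon S).map φ) := fun i j φ => by
      have := hD₀ i
      have := hD₀ j
      exact isAffineMor_yon_map_of_isAffine (D₀.map φ)
    have hP := h (D₀ ⋙ yon S) (fun i => IsAlgSpace.yon_obj _) hDa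
      (fun i => (isQuasiCompactSp_yon_iff _).2 (by have := hD₀ i; infer_instance))
      (fun i => by have := hD₀ i; exact isQuasiSeparatedSp_yon_of_isAffine _)
      ((yon S).mapCone c₀) hc
    obtain ⟨j, φ, xj, h1, h2⟩ := (gE_of_isPullback _ _ _ hP).1 i y x hxy
    exact ⟨j, φ, xj, h1, h2⟩

end Groth.Agent.Lib.Helper14.AS
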