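import Groth.Agent.Lib.Helper14.LinTopTaut
import Mathlib.Topology.Algebra.UniformRing

/-!
# The completion of a linearly topologized ring: ideals `closure (ι '' I)`
-/

set_option autoImplicit false
universe u

namespace Groth.Agent.Lib.Helper14.LT

open Filter Topology UniformSpace

variable {A : Type u} [CommRing A] [UniformSpace A] [IsUniformAddGroup A] [IsTopologicalRing A]

/-- The closure of the image of an ideal in the completion, as an ideal. -/
noncomputable def closureImage (I : Ideal A) : Ideal (Completion A) where
  carrier := closure ((Completion.coeRingHom : A →+* Completion A) '' (I : Set A))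
  add_mem' := fun {a b} ha hb =>
    map_mem_closure₂ continuous_add ha hb (fun x hx y hy => by
      obtain ⟨x', hx', rfl⟩ := hx
      obtain ⟨y', hy', rfl⟩ := hy
      exact ⟨x' + y', I.add_mem hx' hy', map_add _ _ _⟩)
  zero_mem' := subset_closure ⟨0, I.zero_mem, map_zero _⟩
  smul_mem' := fun c x hx => by
    have hc : c ∈ closure (Set.range (Completion.coeRingHom : A →+* Completion A)) :=
      Completion.denseRange_coe c
    exact map_mem_closure₂ continuous_mul hc hx (fun a ha y hy => by
      obtain ⟨a', rfl⟩ := ha
      obtain ⟨y', hy', rfl⟩ := hy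
      exact ⟨a' * y', I.mul_mem_left _ hy', map_mul _ _ _⟩)

theorem coe_closureImage (I : Ideal A) : ((closureImage I : Ideal (Completion A)) : Set (Completion A)) =
    closure ((Completion.coeRingHom : A →+* Completion A) '' (I : Set A)) := rfl

theorem closure_map_coe_eq (I : Ideal A) :
    closure (((I.map (Completion.coeRingHom : A →+* Completion A)) : Ideal (Completion A)) :
      Set (Completion A)) =
    closure ((Completion.coeRingHom : A →+* Completion A) '' (I : Set A)) := by
  apply subset_antisymm
  · have h1 : I.map (Completion.coeRingHom : A →+* Completion A) ≤ closureImage I := by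
      rw [Ideal.map_le_iff_le_comap]
      intro x hx
      exact subset_closure ⟨x, hx, rfl⟩
    exact closure_minimal h1 isClosed_closure
  · apply closure_mono
    rintro _ ⟨x, hx, rfl⟩
    exact Ideal.mem_map_of_mem _ hx

theorem closure_image_mem_nhds (I : Ideal A) (hI : IsOpen (I : Set A)) :
    closure ((Completion.coeRingHom : A →+* Completion A) '' (I : Set A)) ∈
      𝓝 (0 : Completion A) := by
  have := (Completion.isDenseInducing_coe (α := A)).closure_image_mem_nhds
    (hI.mem_nhds I.zero_mem)
  rwa [Completion.coe_zero] at this

theorem isOpen_closureImage (I : Ideal A) (hI : IsOpen (I : Set A)) :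
    IsOpen ((closureImage I : Ideal (Completion A)) : Set (Completion A)) :=
  AddSubgroup.isOpen_of_mem_nhds (closureImage I).toAddSubgroup (g := 0)
    (closure_image_mem_nhds I hI)

/-- every neighbourhood of `0` in the completion contains some `closure (ι '' I)`, `I` an open
ideal. -/
theorem exists_closureImage_subset [IsLinearTopology A A] (U : Set (Completion A))
    (hU : U ∈ 𝓝 (0 : Completion A)) :
    ∃ I : Ideal A, IsOpen (I : Set A) ∧
      closure ((Completion.coeRingHom : A →+* Completion A) '' (I : Set A)) ⊆ U := by
  obtain ⟨U', ⟨hU'n, hU'c⟩, hU'U⟩ := (closed_nhds_basis (0 : Completion A)).mem_iff.mp hU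
  have hpre : (Completion.coeRingHom : A →+* Completion A) ⁻¹' U' ∈ 𝓝 (0 : A) := by
    apply (Completion.continuous_coeRingHom (α := A)).continuousAt.preimage_mem_nhds
    rwa [map_zero]
  obtain ⟨I, hI, hIU⟩ := (IsLinearTopology.hasBasis_open_ideal (R := A)).mem_iff.mp hpre
  refine ⟨I, hI, subset_trans (closure_minimal ?_ hU'c) hU'U⟩
  rintro _ ⟨x, hx, rfl⟩
  exact hIU hx

theorem isTaut_coe [IsLinearTopology A A] :
    LinTop.IsTaut (Completion.coeRingHom : A →+* Completion A) := by
  refine ⟨Completion.continuous_coeRingHom, fun I hI => ?_, fun U hU => ?_⟩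
  · rw [closure_map_coe_eq, ← coe_closureImage]
    exact isOpen_closureImage I hI
  · obtain ⟨I, hI, hIU⟩ := exists_closureImage_subset U hU
    exact ⟨I, hI, by rw [closure_map_coe_eq]; exact hIU⟩

/-- The completion of a linearly topologized ring is linearly topologized. -/
theorem isLinearTopology_completion [IsLinearTopology A A] :
    IsLinearTopology (Completion A) (Completion A) := by
  rw [isLinearTopology_iff_hasBasis_open_ideal]
  rw [Filter.hasBasis_iff]
  intro t
  constructor
  · intro ht
    obtain ⟨I, hI, hIt⟩ := exists_closureImage_subset t ht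
    exact ⟨closureImage I, isOpen_closureImage I hI, hIt⟩
  · rintro ⟨K, hK, hKt⟩
    exact Filter.mem_of_superset (hK.mem_nhds K.zero_mem) hKt

end Groth.Agent.Lib.Helper14.LT
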