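import Groth.Agent.Lib.Helper14.LinTopSum
import Mathlib.Topology.Maps.OpenQuotient
import Mathlib.Topology.Algebra.IsUniformGroup.Basic

/-!
# Open mapping theorem for taut homomorphisms with dense image
-/

set_option autoImplicit false
universe u v

namespace Groth.Agent.Lib.Helper14.LT

open Filter Topology

section Dense

variable {A : Type u} [CommRing A] {B : Type v} [CommRing B] [TopologicalSpace B]
  [IsTopologicalRing B]

/-- closure of the image of an ideal under a ring map with dense image, as an ideal -/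
noncomputable def closureImageD (φ : A →+* B) (hd : DenseRange φ) (I : Ideal A) : Ideal B where
  carrier := closure (φ '' (I : Set A))
  add_mem' := fun {a b} ha hb =>
    map_mem_closure₂ continuous_add ha hb (fun x hx y hy => by
      obtain ⟨x', hx', rfl⟩ := hx
      obtain ⟨y', hy', rfl⟩ := hy
      exact ⟨x' + y', I.add_mem hx' hy', map_add _ _ _⟩)
  zero_mem' := subset_closure ⟨0, I.zero_mem, map_zero _⟩
  smul_mem' := fun c x hx => by
    have hc : c ∈ closure (Set.range φ) := hd c
    exact map_mem_closure₂ continuous_mul hc hx (fun a ha y hy => by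
      obtain ⟨a', rfl⟩ := ha
      obtain ⟨y', hy', rfl⟩ := hy
      exact ⟨a' * y', I.mul_mem_left _ hy', map_mul _ _ _⟩)

theorem closure_map_eq_of_denseRange (φ : A →+* B) (hd : DenseRange φ) (I : Ideal A) :
    closure ((I.map φ : Ideal B) : Set B) = closure (φ '' (I : Set A)) := by
  apply subset_antisymm
  · have h1 : I.map φ ≤ closureImageD φ hd I := by
      rw [Ideal.map_le_iff_le_comap]
      intro x hx
      exact subset_closure ⟨x, hx, rfl⟩
    exact closure_minimal h1 isClosed_closure
  · apply closure_mono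
    rintro _ ⟨x, hx, rfl⟩
    exact Ideal.mem_map_of_mem _ hx

end Dense

theorem surjective_open_complete
    (A : Type u) [CommRing A] [UniformSpace A] [IsUniformAddGroup A] [IsTopologicalRing A]
    [IsLinearTopology A A] [T2Space A] [CompleteSpace A] (hA : (nhds (0 : A)).IsCountablyGenerated)
    (B : Type v) [CommRing B] [UniformSpace B] [IsUniformAddGroup B] [IsTopologicalRing B]
    [T2Space B]
    (φ : A →+* B) (hφ : LinTop.IsTaut φ) (hd : DenseRange φ) :
    Function.Surjective φ ∧ IsOpenQuotientMap φ ∧ CompleteSpace B := by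
  classical
  have := nonarchimedeanAddGroup A
  have := hA
  obtain ⟨s, hs⟩ := (𝓝 (0 : A)).exists_antitone_basis
  have h1 : ∀ n, ∃ I : Ideal A, IsOpen (I : Set A) ∧ (I : Set A) ⊆ s n := fun n =>
    (IsLinearTopology.hasBasis_open_ideal (R := A)).mem_iff.mp (hs.1.mem_of_mem trivial)
  choose I' hI'o hI's using h1
  obtain ⟨I, hI_zero, hI_succ⟩ : ∃ I : ℕ → Ideal A, I 0 = I' 0 ∧
      ∀ n, I (n + 1) = I n ⊓ I' (n + 1) :=
    ⟨fun n => Nat.rec (I' 0) (fun n K => K ⊓ I' (n + 1)) n, rfl, fun _ => rfl⟩
  have hIo : ∀ n, IsOpen (I n : Set A) := by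
    intro n
    induction n with
    | zero => rw [hI_zero]; exact hI'o 0
    | succ n ih =>
      rw [hI_succ]
      exact ih.inter (hI'o (n + 1))
  have hIle : ∀ n, I n ≤ I' n := by
    intro n
    cases n with
    | zero => rw [hI_zero]
    | succ n => rw [hI_succ]; exact inf_le_right
  have hIanti : Antitone I := antitone_nat_of_succ_le (fun n => by rw [hI_succ]; exact inf_le_left)
  have hIbasis : ∀ U ∈ 𝓝 (0 : A), ∃ N, ∀ n, N ≤ n → (I n : Set A) ⊆ U := by
    intro U hU
    obtain ⟨N, -, hN⟩ := hs.1.mem_iff.mp hU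
    refine ⟨N, fun n hn => ?_⟩
    intro x hx
    exact hN (hI's N (hIle N (hIanti hn hx)))
  set J : ℕ → Set B := fun n => closure (φ '' (I n : Set A)) with hJdef
  have hJeq : ∀ n, J n = closure (((I n).map φ : Ideal B) : Set B) := fun n =>
    (closure_map_eq_of_denseRange φ hd (I n)).symm
  have hJo : ∀ n, IsOpen (J n) := fun n => by rw [hJeq]; exact hφ.2.1 _ (hIo n)
  have hJ0 : ∀ n, (0 : B) ∈ J n := fun n => subset_closure ⟨0, (I n).zero_mem, map_zero _⟩
  have hJbasis : ∀ U ∈ 𝓝 (0 : B), ∃ N, ∀ n, N ≤ n → J n ⊆ U := by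
    intro U hU
    obtain ⟨K, hK, hKU⟩ := hφ.2.2 U hU
    obtain ⟨N, hN⟩ := hIbasis K (hK.mem_nhds K.zero_mem)
    refine ⟨N, fun n hn => ?_⟩
    rw [hJeq]
    exact (closure_mono (Ideal.map_mono (fun x hx => hN n hn hx))).trans hKU
  -- lifting
  have hlift : ∀ (n : ℕ) (b : B), b ∈ J n → ∃ a ∈ I n, φ a = b := by
    intro n b hb
    have hstep : ∀ (k : ℕ) (z : B), z ∈ J k → ∃ a ∈ I k, z - φ a ∈ J (k + 1) := by
      intro k z hz
      have hnhds : (fun w : B => z - w) ⁻¹' (J (k + 1)) ∈ 𝓝 z := by
        have hcont : Continuous fun w : B => z - w := continuous_const.sub continuous_id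
        apply hcont.continuousAt.preimage_mem_nhds
        simp only [sub_self]
        exact (hJo (k + 1)).mem_nhds (hJ0 _)
      obtain ⟨w, hw1, ⟨a, ha, rfl⟩⟩ := mem_closure_iff_nhds.mp hz _ hnhds
      exact ⟨a, ha, hw1⟩
    let y : ℕ → B → A := fun m z =>
      if h : z ∈ J (m + n) then (hstep (m + n) z h).choose else 0
    let bs : ℕ → B := fun m => Nat.rec b (fun m z => z - φ (y m z)) m
    have hbs_succ : ∀ m, bs (m + 1) = bs m - φ (y m (bs m)) := fun m => rfl
    have hbs : ∀ m, bs m ∈ J (m + n) := by
      intro m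
      induction m with
      | zero => simpa [bs] using hb
      | succ m ih =>
        rw [hbs_succ]
        simp only [y, dif_pos ih]
        have e : m + 1 + n = m + n + 1 := by ring
        rw [e]
        exact (hstep (m + n) (bs m) ih).choose_spec.2
    have hy : ∀ m, y m (bs m) ∈ I (m + n) := by
      intro m
      simp only [y, dif_pos (hbs m)]
      exact (hstep (m + n) (bs m) (hbs m)).choose_spec.1
    have hsum : Summable (fun m => y m (bs m)) := by
      apply NonarchimedeanAddGroup.summable_of_tendsto_cofinite_zero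
      rw [Nat.cofinite_eq_atTop, tendsto_atTop']
      intro U hU
      obtain ⟨N, hN⟩ := hIbasis U hU
      exact ⟨N, fun m hm => hN (m + n) (by omega) (hy m)⟩
    refine ⟨∑' m, y m (bs m), ?_, ?_⟩
    · have hcl : IsClosed (I n : Set A) := isClosed_of_isOpen _ (hIo n)
      refine hcl.mem_of_tendsto hsum.hasSum.tendsto_sum_nat (Eventually.of_forall fun M => ?_)
      exact (I n).sum_mem (fun m _ => hIanti (Nat.le_add_left n m) (hy m))
    · have h1 : Tendsto (fun M => φ (∑ m ∈ Finset.range M, y m (bs m))) atTop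
          (𝓝 (φ (∑' m, y m (bs m)))) :=
        (hφ.1.tendsto _).comp hsum.hasSum.tendsto_sum_nat
      have h2 : ∀ M, φ (∑ m ∈ Finset.range M, y m (bs m)) = b - bs M := by
        intro M
        induction M with
        | zero => simp [bs]
        | succ M ih =>
          rw [Finset.sum_range_succ, map_add, ih, hbs_succ]
          ring
      have h3 : Tendsto bs atTop (𝓝 0) := by
        rw [tendsto_atTop']
        intro U hU
        obtain ⟨N, hN⟩ := hJbasis U hU
        exact ⟨N, fun m hm => hN (m + n) (by omega) (hbs m)⟩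
      have h4 : Tendsto (fun M => b - bs M) atTop (𝓝 (b - 0)) := tendsto_const_nhds.sub h3
      simp only [h2] at h1
      rw [sub_zero] at h4
      exact tendsto_nhds_unique h1 h4
  -- surjectivity
  have hsurj : Function.Surjective φ := by
    intro b
    have hnhds : (fun w : B => b - w) ⁻¹' (J 0) ∈ 𝓝 b := by
      have hcont : Continuous fun w : B => b - w := continuous_const.sub continuous_id
      apply hcont.continuousAt.preimage_mem_nhds
      simp only [sub_self]
      exact (hJo 0).mem_nhds (hJ0 _)
    obtain ⟨w, hw1, ⟨a', rfl⟩⟩ := mem_closure_iff_nhds.mp (hd b) _ hnhds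
    obtain ⟨a'', -, ha''⟩ := hlift 0 _ hw1
    exact ⟨a' + a'', by rw [map_add, ha'']; ring⟩
  -- openness
  have hopen : IsOpenMap φ := by
    rw [isOpenMap_iff_nhds_le]
    intro x t ht
    rw [Filter.mem_map] at ht
    have h0 : (fun a : A => x + a) ⁻¹' (φ ⁻¹' t) ∈ 𝓝 (0 : A) := by
      have hcont : Continuous fun a : A => x + a := continuous_const.add continuous_id
      apply hcont.continuousAt.preimage_mem_nhds
      simpa using ht
    obtain ⟨N, hN⟩ := hIbasis _ h0
    have h1 : (fun b : B => b - φ x) ⁻¹' (J N) ∈ 𝓝 (φ x) := by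
      have hcont : Continuous fun b : B => b - φ x := continuous_id.sub continuous_const
      apply hcont.continuousAt.preimage_mem_nhds
      simp only [sub_self]
      exact (hJo N).mem_nhds (hJ0 N)
    refine Filter.mem_of_superset h1 ?_
    intro b hb
    obtain ⟨a, ha, hab⟩ := hlift N _ hb
    have h2 : x + a ∈ φ ⁻¹' t := hN N le_rfl ha
    have e : b = φ (x + a) := by rw [map_add, hab]; ring
    rw [e]
    exact h2
  refine ⟨hsurj, ⟨hsurj, hφ.1, hopen⟩, ?_⟩
  -- completeness
  have hbasisB : (𝓝 (0 : B)).HasBasis (fun _ : ℕ => True) J := by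
    rw [Filter.hasBasis_iff]
    intro t
    constructor
    · intro ht
      obtain ⟨N, hN⟩ := hJbasis t ht
      exact ⟨N, trivial, hN N le_rfl⟩
    · rintro ⟨N, -, hN⟩
      exact Filter.mem_of_superset ((hJo N).mem_nhds (hJ0 N)) hN
  haveI : (𝓝 (0 : B)).IsCountablyGenerated := hbasisB.isCountablyGenerated
  haveI : (uniformity B).IsCountablyGenerated := IsUniformAddGroup.uniformity_countably_generated
  apply UniformSpace.complete_of_convergent_controlled_sequences
    (fun N => {p : B × B | p.2 - p.1 ∈ J N})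
  · intro N
    rw [uniformity_eq_comap_nhds_zero B]
    exact preimage_mem_comap ((hJo N).mem_nhds (hJ0 N))
  · intro u hu
    have hdiff : ∀ N, u (N + 1) - u N ∈ J N := fun N => hu N N (N + 1) le_rfl (Nat.le_succ N)
    choose a haI haφ using fun N => hlift N _ (hdiff N)
    have hsum : Summable a := by
      apply NonarchimedeanAddGroup.summable_of_tendsto_cofinite_zero
      rw [Nat.cofinite_eq_atTop, tendsto_atTop']
      intro U hU
      obtain ⟨N, hN⟩ := hIbasis U hU
      exact ⟨N, fun m hm => hN m hm (haI m)⟩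
    refine ⟨u 0 + φ (∑' N, a N), ?_⟩
    have h1 : Tendsto (fun M => u 0 + φ (∑ N ∈ Finset.range M, a N)) atTop
        (𝓝 (u 0 + φ (∑' N, a N))) :=
      tendsto_const_nhds.add ((hφ.1.tendsto _).comp hsum.hasSum.tendsto_sum_nat)
    have h2 : ∀ M, u 0 + φ (∑ N ∈ Finset.range M, a N) = u M := by
      intro M
      induction M with
      | zero => simp
      | succ M ih =>
        rw [Finset.sum_range_succ, map_add, ← add_assoc, ih, haφ]
        ring
    simpa only [h2] using h1

end Groth.Agent.Lib.Helper14.LT
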