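import Groth.Agent.Lib.Helper14.LinTopTaut
import Mathlib.Topology.Algebra.InfiniteSum.Nonarchimedean
import Mathlib.Topology.Algebra.InfiniteSum.Ring
import Mathlib.RingTheory.Finiteness.Ideal
import Mathlib.RingTheory.Finiteness.Basic
import Mathlib.Algebra.BigOperators.Ring.Finset
import Mathlib.RingTheory.AdicCompletion.Basic

/-!
# Convergent sums in powers of a finitely generated ideal (complete linearly topologized rings)
-/

set_option autoImplicit false
universe u

namespace Groth.Agent.Lib.Helper14.LT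

open Filter Topology

/-- A linearly topologized ring (with topological additive group) is nonarchimedean. -/
theorem nonarchimedeanAddGroup (A : Type u) [CommRing A] [TopologicalSpace A]
    [IsTopologicalRing A] [IsLinearTopology A A] : NonarchimedeanAddGroup A :=
  { is_nonarchimedean := fun U hU => by
      obtain ⟨K, hK, hKU⟩ := (IsLinearTopology.hasBasis_open_ideal (R := A)).mem_iff.mp hU
      exact ⟨⟨K.toAddSubgroup, hK⟩, hKU⟩ }

/-- elements of `span (range g) * K` are `K`-combinations of the `g j`. -/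
theorem mem_span_mul {A : Type u} [CommRing A] {s : ℕ} (g : Fin s → A) (K : Ideal A) (x : A)
    (hx : x ∈ Ideal.span (Set.range g) * K) :
    ∃ c : Fin s → A, (∀ j, c j ∈ K) ∧ x = ∑ j, g j * c j := by
  refine Submodule.mul_induction_on hx ?_ ?_
  · intro r hr k hk
    obtain ⟨t, rfl⟩ := (Ideal.mem_span_range_iff_exists_fun).mp hr
    refine ⟨fun j => t j * k, fun j => K.mul_mem_left _ hk, ?_⟩
    rw [Finset.sum_mul]
    refine Finset.sum_congr rfl fun j _ => ?_
    ring
  · rintro x y ⟨c, hc, rfl⟩ ⟨c', hc', rfl⟩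
    refine ⟨fun j => c j + c' j, fun j => K.add_mem (hc j) (hc' j), ?_⟩
    rw [← Finset.sum_add_distrib]
    refine Finset.sum_congr rfl fun j _ => ?_
    ring

/-- If the powers of the finitely generated ideal `I` tend to zero in the complete nonarchimedean
ring `A`, then a series with `m`-th term in `I ^ (m + n)` converges to an element of `I ^ n`. -/
theorem exists_hasSum_mem_pow {A : Type u} [CommRing A] [UniformSpace A] [IsUniformAddGroup A]
    [IsTopologicalRing A] [NonarchimedeanAddGroup A] [CompleteSpace A]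
    (I : Ideal A) (hI : I.FG)
    (hpow : ∀ U ∈ nhds (0 : A), ∃ N : ℕ, ∀ m, N ≤ m → ((I ^ m : Ideal A) : Set A) ⊆ U)
    (n : ℕ) (d : ℕ → A) (hd : ∀ m, d m ∈ I ^ (m + n)) :
    ∃ S ∈ I ^ n, HasSum d S := by
  obtain ⟨s, g, hg⟩ := Submodule.fg_iff_exists_fin_generating_family.mp (hI.pow (n := n))
  have h1 : ∀ m, ∃ c : Fin s → A, (∀ j, c j ∈ I ^ m) ∧ d m = ∑ j, g j * c j := by
    intro m
    apply mem_span_mul
    have : Ideal.span (Set.range g) = I ^ n := hg
    rw [this, ← pow_add, add_comm]
    exact hd m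
  choose c hc hdc using h1
  have hsum : ∀ j, Summable (fun m => c m j) := by
    intro j
    apply NonarchimedeanAddGroup.summable_of_tendsto_cofinite_zero
    rw [Nat.cofinite_eq_atTop, tendsto_atTop']
    intro U hU
    obtain ⟨N, hN⟩ := hpow U hU
    exact ⟨N, fun m hm => hN m hm (hc m j)⟩
  refine ⟨∑ j, g j * ∑' m, c m j, ?_, ?_⟩
  · refine Submodule.sum_mem _ fun j _ => Ideal.mul_mem_right _ _ ?_
    rw [← hg]
    exact Ideal.subset_span (Set.mem_range_self j)
  · have : d = fun m => ∑ j, g j * c m j := funext hdc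
    rw [this]
    exact hasSum_sum fun j _ => (hsum j).hasSum.mul_left (g j)

/-- one approximation step -/
theorem exists_sub_mem_closure {A : Type u} [CommRing A] [TopologicalSpace A] [IsTopologicalRing A]
    (K W : Ideal A) (hW : IsOpen (W : Set A)) (z : A) (hz : z ∈ closure (K : Set A)) :
    ∃ y ∈ K, z - y ∈ W := by
  have hnhds : (fun w : A => z - w) ⁻¹' (W : Set A) ∈ 𝓝 z := by
    have hcont : Continuous fun w : A => z - w := continuous_const.sub continuous_id
    apply hcont.continuousAt.preimage_mem_nhds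
    simp only [sub_self]
    exact hW.mem_nhds W.zero_mem
  obtain ⟨y, hy1, hy2⟩ := mem_closure_iff_nhds.mp hz _ hnhds
  exact ⟨y, hy2, hy1⟩

/-- In a complete Hausdorff linearly topologized ring, if `I` is finitely generated, all
`closure (I ^ n)` are open and form a basis of neighbourhoods of `0`, then `I ^ n` is closed. -/
theorem closure_pow_subset_pow {A : Type u} [CommRing A] [UniformSpace A] [IsUniformAddGroup A]
    [IsTopologicalRing A] [IsLinearTopology A A] [T2Space A] [CompleteSpace A]
    (I : Ideal A) (hfg : I.FG) (hopen : ∀ n : ℕ, IsOpen (closure ((I ^ n : Ideal A) : Set A)))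
    (hbasis : ∀ U ∈ nhds (0 : A), ∃ n : ℕ, closure ((I ^ n : Ideal A) : Set A) ⊆ U) (n : ℕ) :
    closure ((I ^ n : Ideal A) : Set A) ⊆ ((I ^ n : Ideal A) : Set A) := by
  classical
  have := nonarchimedeanAddGroup A
  intro x hx
  have hanti : ∀ {a b : ℕ}, a ≤ b →
      closure ((I ^ b : Ideal A) : Set A) ⊆ closure ((I ^ a : Ideal A) : Set A) :=
    fun h => closure_mono (Ideal.pow_le_pow_right h)
  have hpow : ∀ U ∈ nhds (0 : A), ∃ N : ℕ, ∀ m, N ≤ m → ((I ^ m : Ideal A) : Set A) ⊆ U := by
    intro U hU
    obtain ⟨N, hN⟩ := hbasis U hU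
    exact ⟨N, fun m hm => (subset_closure.trans (hanti hm)).trans hN⟩
  -- the approximating sequence
  have hstep : ∀ (k : ℕ) (z : A), z ∈ closure ((I ^ k : Ideal A) : Set A) →
      ∃ y ∈ I ^ k, z - y ∈ closure ((I ^ (k + 1) : Ideal A) : Set A) := by
    intro k z hz
    have := exists_sub_mem_closure (I ^ k) ((I ^ (k + 1)).closure)
      (by rw [Ideal.coe_closure]; exact hopen (k + 1)) z hz
    simpa only [← SetLike.mem_coe, Ideal.coe_closure] using this
  let y : ℕ → A → A := fun m z =>
    if h : z ∈ closure ((I ^ (m + n) : Ideal A) : Set A) then (hstep (m + n) z h).choose else 0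
  let xs : ℕ → A := fun m => Nat.rec x (fun m z => z - y m z) m
  have hxs_succ : ∀ m, xs (m + 1) = xs m - y m (xs m) := fun m => rfl
  have hxs : ∀ m, xs m ∈ closure ((I ^ (m + n) : Ideal A) : Set A) := by
    intro m
    induction m with
    | zero => simpa [xs] using hx
    | succ m ih =>
      rw [hxs_succ]
      simp only [y, dif_pos ih]
      have e : m + 1 + n = m + n + 1 := by ring
      rw [e]
      exact (hstep (m + n) (xs m) ih).choose_spec.2
  have hd : ∀ m, xs m - xs (m + 1) ∈ I ^ (m + n) := by
    intro m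
    rw [hxs_succ, sub_sub_cancel]
    simp only [y, dif_pos (hxs m)]
    exact (hstep (m + n) (xs m) (hxs m)).choose_spec.1
  obtain ⟨S, hS, hSum⟩ := exists_hasSum_mem_pow I hfg hpow n _ hd
  have h1 := hSum.tendsto_sum_nat
  have h2 : ∀ M, ∑ i ∈ Finset.range M, (xs i - xs (i + 1)) = x - xs M := by
    intro M
    rw [Finset.sum_range_sub']
    rfl
  simp only [h2] at h1
  have h3 : Tendsto xs atTop (𝓝 0) := by
    rw [tendsto_atTop']
    intro U hU
    obtain ⟨N, hN⟩ := hbasis U hU
    exact ⟨N, fun m hm => hN (hanti (by omega) (hxs m))⟩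
  have h4 : Tendsto (fun M => x - xs M) atTop (𝓝 (x - 0)) := tendsto_const_nhds.sub h3
  rw [sub_zero] at h4
  have := tendsto_nhds_unique h1 h4
  rw [← this]
  exact hS

/-- A complete Hausdorff linearly topologized ring is `I`-adically complete for every finitely
generated ideal `I` whose powers tend to zero. -/
theorem isAdicComplete_of_fg_of_pow_tendsto {A : Type u} [CommRing A] [UniformSpace A]
    [IsUniformAddGroup A] [IsTopologicalRing A] [IsLinearTopology A A] [T2Space A] [CompleteSpace A]
    (I : Ideal A) (hI : I.FG)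
    (hpow : ∀ U ∈ nhds (0 : A), ∃ N : ℕ, ∀ m, N ≤ m → ((I ^ m : Ideal A) : Set A) ⊆ U) :
    IsAdicComplete I A := by
  have := nonarchimedeanAddGroup A
  have htop : ∀ k : ℕ, (I ^ k • ⊤ : Submodule A A) = I ^ k := fun k => by
    rw [smul_eq_mul, Ideal.mul_top]
  refine { haus' := ?_, prec' := ?_ }
  · intro x hx
    by_contra hne
    have hU : ({x}ᶜ : Set A) ∈ nhds (0 : A) :=
      isOpen_compl_singleton.mem_nhds (fun h => hne (Set.mem_singleton_iff.mp h).symm)
    obtain ⟨n, hn⟩ := hpow _ hU
    have h1 := hx n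
    rw [SModEq.sub_mem, sub_zero, htop] at h1
    exact hn n le_rfl h1 rfl
  · intro f hf
    have hd : ∀ n m, f (m + n + 1) - f (m + n) ∈ I ^ (m + n) := by
      intro n m
      have := (hf (Nat.le_succ (m + n))).symm
      rwa [SModEq.sub_mem, htop] at this
    have hk : ∀ n, ∃ S ∈ I ^ n, HasSum (fun m => f (m + n + 1) - f (m + n)) S :=
      fun n => exists_hasSum_mem_pow I hI hpow n _ (hd n)
    choose S hS hSum using hk
    have hlim : ∀ n, Tendsto (fun M => f (M + n)) atTop (𝓝 (S n + f n)) := by
      intro n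
      have h1 := (hSum n).tendsto_sum_nat
      have h2 : ∀ M, ∑ i ∈ Finset.range M, (f (i + n + 1) - f (i + n)) = f (M + n) - f n := by
        intro M
        have := Finset.sum_range_sub (fun i => f (i + n)) M
        simpa [Nat.add_right_comm, zero_add] using this
      simp only [h2] at h1
      have h3 := h1.add_const (f n)
      simpa using h3
    have h0 : Tendsto f atTop (𝓝 (S 0 + f 0)) := by simpa using hlim 0
    refine ⟨S 0 + f 0, fun n => ?_⟩
    have h4 : Tendsto (fun M => f (M + n)) atTop (𝓝 (S 0 + f 0)) :=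
      (tendsto_add_atTop_iff_nat n).mpr h0
    have h5 := tendsto_nhds_unique h4 (hlim n)
    rw [SModEq.sub_mem, htop, h5]
    have : f n - (S n + f n) = -(S n) := by ring
    rw [this]
    exact (I ^ n).neg_mem (hS n)

end Groth.Agent.Lib.Helper14.LT
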