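import Groth.Prelude.Def_W4stk3formalspacesTaut
import Mathlib.Topology.Algebra.OpenSubgroup

/-!
# Basic lemmas on closures of ideals, taut homomorphisms, weak ideals of definition
-/

set_option autoImplicit false
universe u v

namespace Groth.Agent.Lib.Helper14.LT

open Filter Topology

section Basic

variable {A : Type u} [CommRing A] [TopologicalSpace A] [IsTopologicalRing A]

/-- An open ideal is closed. -/
theorem isClosed_of_isOpen (I : Ideal A) (h : IsOpen (I : Set A)) : IsClosed (I : Set A) :=
  AddSubgroup.isClosed_of_isOpen I.toAddSubgroup h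

theorem closure_eq_of_isOpen (I : Ideal A) (h : IsOpen (I : Set A)) :
    closure (I : Set A) = I := (isClosed_of_isOpen I h).closure_eq

/-- If an open ideal is contained in the closure of an ideal, this closure is open. -/
theorem isOpen_closure_of_le {I J : Ideal A} (hI : IsOpen (I : Set A))
    (h : (I : Set A) ⊆ closure (J : Set A)) : IsOpen (closure (J : Set A)) := by
  rw [← Ideal.coe_closure]
  refine Ideal.isOpen_of_isOpen_subideal (U := I) (fun x hx => ?_) hI
  rw [← SetLike.mem_coe, Ideal.coe_closure]
  exact h hx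

theorem closure_mul_closure_le (K L : Ideal A) : K.closure * L.closure ≤ (K * L).closure := by
  rw [Ideal.mul_le]
  intro x hx y hy
  rw [← SetLike.mem_coe, Ideal.coe_closure] at hx hy ⊢
  exact map_mem_closure₂ continuous_mul hx hy (fun a ha b hb => Ideal.mul_mem_mul ha hb)

theorem closure_pow_le (K : Ideal A) (n : ℕ) : K.closure ^ n ≤ (K ^ n).closure := by
  induction n with
  | zero =>
    rw [pow_zero, pow_zero]
    intro x hx
    rw [← SetLike.mem_coe, Ideal.coe_closure]
    exact subset_closure hx
  | succ n ih =>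
    rw [pow_succ, pow_succ]
    exact (Ideal.mul_mono_left ih).trans (closure_mul_closure_le _ _)

theorem closure_pow_subset (K : Ideal A) (n : ℕ) :
    (((K.closure) ^ n : Ideal A) : Set A) ⊆ closure ((K ^ n : Ideal A) : Set A) := by
  intro x hx
  have := closure_pow_le K n hx
  rwa [← SetLike.mem_coe, Ideal.coe_closure] at this

variable {B : Type v} [CommRing B] [TopologicalSpace B] [IsTopologicalRing B]

/-- `φ(closure I) B ⊆ closure (φ(I) B)` for continuous `φ`. -/
theorem map_closure_le (φ : A →+* B) (hφ : Continuous φ) (I : Ideal A) :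
    (I.closure).map φ ≤ (I.map φ).closure := by
  rw [Ideal.map_le_iff_le_comap]
  intro x hx
  rw [Ideal.mem_comap, ← SetLike.mem_coe, Ideal.coe_closure]
  rw [← SetLike.mem_coe, Ideal.coe_closure] at hx
  exact map_mem_closure hφ hx (fun a ha => Ideal.mem_map_of_mem φ ha)

theorem closure_map_closure (φ : A →+* B) (hφ : Continuous φ) (I : Ideal A) :
    closure (((I.closure).map φ : Ideal B) : Set B) = closure ((I.map φ : Ideal B) : Set B) := by
  apply subset_antisymm
  · have h := map_closure_le φ hφ I
    have : (((I.closure).map φ : Ideal B) : Set B) ⊆ closure ((I.map φ : Ideal B) : Set B) := by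
      intro x hx
      have := h hx
      rwa [← SetLike.mem_coe, Ideal.coe_closure] at this
    exact closure_minimal this isClosed_closure
  · apply closure_mono
    apply Ideal.map_mono
    intro x hx
    rw [← SetLike.mem_coe, Ideal.coe_closure]
    exact subset_closure hx

end Basic

section Nilp

variable {B : Type v} [CommRing B] [TopologicalSpace B] [IsTopologicalRing B]
  [IsLinearTopology B B]

/-- `x` is topologically nilpotent iff every open ideal contains a power of `x`. -/
theorem isTopologicallyNilpotent_iff_forall_open_ideal (x : B) :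
    IsTopologicallyNilpotent x ↔
      ∀ U : Ideal B, IsOpen (U : Set B) → ∃ n : ℕ, x ^ n ∈ U := by
  constructor
  · intro h U hU
    exact h.exists_pow_mem_of_mem_nhds (hU.mem_nhds U.zero_mem)
  · intro h
    rw [IsTopologicallyNilpotent, tendsto_atTop']
    intro s hs
    obtain ⟨U, hU, hUs⟩ := (IsLinearTopology.hasBasis_open_ideal (R := B)).mem_iff.mp hs
    obtain ⟨n, hn⟩ := h U hU
    refine ⟨n, fun m hm => hUs ?_⟩
    obtain ⟨k, rfl⟩ := Nat.exists_eq_add_of_le hm
    rw [pow_add]
    exact U.mul_mem_right _ hn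

/-- The topological nilradical is closed. -/
theorem isClosed_topologicalNilradical :
    IsClosed ((topologicalNilradical B : Ideal B) : Set B) := by
  rw [← closure_subset_iff_isClosed]
  intro g hg
  rw [SetLike.mem_coe, IsTopologicallyNilpotent.mem_topologicalNilradical_iff,
    isTopologicallyNilpotent_iff_forall_open_ideal]
  intro U hU
  -- g ∈ nilrad + U
  have hnhds : (fun y : B => y - g) ⁻¹' (U : Set B) ∈ 𝓝 g := by
    have hcont : Continuous fun y : B => y - g := continuous_id.sub continuous_const
    apply hcont.continuousAt.preimage_mem_nhds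
    simp only [sub_self]
    exact hU.mem_nhds U.zero_mem
  obtain ⟨h, hhU, hh⟩ := mem_closure_iff_nhds.mp hg _ hnhds
  rw [SetLike.mem_coe, IsTopologicallyNilpotent.mem_topologicalNilradical_iff] at hh
  obtain ⟨n, hn⟩ := hh.exists_pow_mem_of_mem_nhds (hU.mem_nhds U.zero_mem)
  refine ⟨n, ?_⟩
  -- g = h - (h - g), (h - u)^n ∈ h^n + U
  have hu : h - g ∈ U := hhU
  have hg' : g = h + (-(h - g)) := by ring
  rw [hg', add_pow]
  refine U.sum_mem fun k _ => ?_
  by_cases hk : k = n
  · subst hk
    simp only [Nat.sub_self, pow_zero, mul_one, Nat.choose_self, Nat.cast_one]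
    exact hn
  · have hk' : n - k ≠ 0 := by
      have := Finset.mem_range.mp ‹_›
      omega
    apply U.mul_mem_right
    apply U.mul_mem_left
    obtain ⟨j, hj⟩ := Nat.exists_eq_succ_of_ne_zero hk'
    rw [hj, pow_succ]
    exact U.mul_mem_left _ (U.neg_mem hu)

variable {A : Type u} [CommRing A] [TopologicalSpace A]

/-- If `I` consists of topologically nilpotent elements and `φ` is continuous, the closure of
`φ(I)B` consists of topologically nilpotent elements. -/
theorem isTopologicallyNilpotent_of_mem_closure_map (φ : A →+* B) (hφ : Continuous φ)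
    (I : Ideal A) (hI : ∀ f ∈ I, IsTopologicallyNilpotent f) (g : B)
    (hg : g ∈ closure ((I.map φ : Ideal B) : Set B)) : IsTopologicallyNilpotent g := by
  have h1 : I.map φ ≤ topologicalNilradical B := by
    rw [Ideal.map_le_iff_le_comap]
    intro f hf
    rw [Ideal.mem_comap, IsTopologicallyNilpotent.mem_topologicalNilradical_iff]
    exact (hI f hf).map hφ
  have h2 : closure ((I.map φ : Ideal B) : Set B) ⊆ (topologicalNilradical B : Ideal B) :=
    closure_minimal h1 isClosed_topologicalNilradical
  exact IsTopologicallyNilpotent.mem_topologicalNilradical_iff.mp (h2 hg)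

end Nilp

section Adic

variable {R : Type u} [CommRing R] [TopologicalSpace R] [IsTopologicalRing R]

/-- Two ideals with mutually bounded powers define the same adic topology. -/
theorem isAdic_of_pow_le {L M : Ideal R} (hL : IsAdic L) {n m : ℕ} (h1 : L ^ n ≤ M)
    (h2 : M ^ m ≤ L) : IsAdic M := by
  rw [isAdic_iff] at hL ⊢
  refine ⟨fun k => ?_, fun s hs => ?_⟩
  · refine Ideal.isOpen_of_isOpen_subideal (U := L ^ (n * k)) ?_ (hL.1 _)
    rw [pow_mul]
    exact Ideal.pow_right_mono h1 k
  · obtain ⟨j, hj⟩ := hL.2 s hs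
    refine ⟨m * j, subset_trans ?_ hj⟩
    rw [pow_mul]
    exact Ideal.pow_right_mono h2 j

theorem isIdealOfDefinition_of_isAdic {K : Ideal R} (hK : IsAdic K) :
    LinTop.IsIdealOfDefinition R K := by
  rw [isAdic_iff] at hK
  refine ⟨by simpa using hK.1 1, fun U hU => ?_⟩
  obtain ⟨n, hn⟩ := hK.2 U hU
  exact ⟨n + 1, Nat.succ_pos n, subset_trans (Ideal.pow_le_pow_right n.le_succ) hn⟩

theorem isOpen_of_isAdic {K : Ideal R} (hK : IsAdic K) : IsOpen (K : Set R) :=
  (isIdealOfDefinition_of_isAdic hK).1

/-- In a pre-adic ring all powers of an ideal of definition are open. -/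
theorem isOpen_pow_of_isIdealOfDefinition (hR : LinTop.IsPreadic R) {I : Ideal R}
    (hI : LinTop.IsIdealOfDefinition R I) (n : ℕ) : IsOpen ((I ^ n : Ideal R) : Set R) := by
  obtain ⟨K, hK⟩ := hR
  rw [isAdic_iff] at hK
  obtain ⟨m, hm⟩ := hK.2 (I : Set R) (hI.1.mem_nhds I.zero_mem)
  refine Ideal.isOpen_of_isOpen_subideal (U := K ^ (m * n)) ?_ (hK.1 _)
  rw [pow_mul]
  exact Ideal.pow_right_mono (fun x hx => hm hx) n

omit [IsTopologicalRing R] in
theorem isLinearTopology_of_isPreadic (hR : LinTop.IsPreadic R) : IsLinearTopology R R := by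
  obtain ⟨K, hK⟩ := hR
  exact IsLinearTopology.mk_of_hasBasis _ hK.hasBasis_nhds_zero

/-- A ring map out of an adic ring is taut as soon as the closures of the powers of the extended
ideal are open and form a basis of neighbourhoods of zero. -/
theorem isTaut_of_adic_source {A' : Type u} [CommRing A'] [TopologicalSpace A']
    [IsTopologicalRing A'] {A : Type v} [CommRing A] [TopologicalSpace A] [IsTopologicalRing A]
    (φ : A' →+* A) (I' : Ideal A') (hI' : IsAdic I')
    (hIo : ∀ n : ℕ, IsOpen (closure (((I'.map φ) ^ n : Ideal A) : Set A)))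
    (hIb : ∀ U ∈ nhds (0 : A), ∃ n : ℕ, closure (((I'.map φ) ^ n : Ideal A) : Set A) ⊆ U) :
    LinTop.IsTaut φ := by
  have hadic := isAdic_iff.mp hI'
  have hsub : ∀ n : ℕ, ∀ x ∈ I' ^ n, φ x ∈ closure (((I'.map φ) ^ n : Ideal A) : Set A) := by
    intro n x hx
    apply subset_closure
    rw [← Ideal.map_pow]
    exact Ideal.mem_map_of_mem φ hx
  refine ⟨?_, fun K hK => ?_, fun U hU => ?_⟩
  · apply continuous_of_continuousAt_zero φ
    rw [ContinuousAt, map_zero, Filter.tendsto_def]
    intro U hU
    obtain ⟨n, hn⟩ := hIb U hU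
    refine Filter.mem_of_superset ((hadic.1 n).mem_nhds (Ideal.zero_mem _)) ?_
    intro x hx
    exact hn (hsub n x hx)
  · obtain ⟨n, hn⟩ := hadic.2 (K : Set A') (hK.mem_nhds K.zero_mem)
    refine isOpen_closure_of_le (I := ((I'.map φ) ^ n).closure)
      (by rw [Ideal.coe_closure]; exact hIo n) ?_
    rw [Ideal.coe_closure, ← Ideal.map_pow]
    exact closure_mono (Ideal.map_mono (fun x hx => hn hx))
  · obtain ⟨n, hn⟩ := hIb U hU
    refine ⟨I' ^ n, hadic.1 n, ?_⟩
    rw [Ideal.map_pow]
    exact hn

end Adic

section ClosureLin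

variable {A : Type u} [CommRing A] [TopologicalSpace A] [IsTopologicalRing A]
  [IsLinearTopology A A]

/-- In a linearly topologized ring, `x` lies in the closure of the ideal `N` as soon as
`x ∈ N + K` for all open ideals `K`. -/
theorem mem_closure_of_forall_mem_sup (N : Ideal A) (x : A)
    (h : ∀ K : Ideal A, IsOpen (K : Set A) → x ∈ N ⊔ K) : x ∈ closure (N : Set A) := by
  rw [mem_closure_iff_nhds]
  intro t ht
  have hcont : Continuous fun z : A => x - z := continuous_const.sub continuous_id
  have hnhds : (fun z : A => x - z) ⁻¹' t ∈ 𝓝 (0 : A) := by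
    apply hcont.continuousAt.preimage_mem_nhds
    simpa using ht
  obtain ⟨K, hK, hKt⟩ := (IsLinearTopology.hasBasis_open_ideal (R := A)).mem_iff.mp hnhds
  obtain ⟨n, hn, k, hk, hnk⟩ := Submodule.mem_sup.mp (h K hK)
  refine ⟨n, ?_, hn⟩
  have : n = x - k := by rw [← hnk]; ring
  rw [this]
  exact hKt hk

omit [IsLinearTopology A A] in
theorem mem_sup_of_mem_closure (N : Ideal A) (x : A) (hx : x ∈ closure (N : Set A))
    (K : Ideal A) (hK : IsOpen (K : Set A)) : x ∈ N ⊔ K := by
  have hcont : Continuous fun y : A => y - x := continuous_id.sub continuous_const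
  have hnhds : (fun y : A => y - x) ⁻¹' (K : Set A) ∈ 𝓝 x := by
    apply hcont.continuousAt.preimage_mem_nhds
    simp only [sub_self]
    exact hK.mem_nhds K.zero_mem
  obtain ⟨y, hyK, hyN⟩ := mem_closure_iff_nhds.mp hx _ hnhds
  have : x = y - (y - x) := by ring
  rw [this]
  exact Submodule.sub_mem _ (Submodule.mem_sup_left hyN) (Submodule.mem_sup_right hyK)

end ClosureLin

section FFlat

variable {A : Type u} [CommRing A] [TopologicalSpace A]
variable {B : Type v} [CommRing B] [TopologicalSpace B] [IsTopologicalRing B]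

/-- In the taut faithfully flat situation an open ideal is recovered from the closure of its
extension. -/
theorem mem_of_map_mem_closure {φ : A →+* B} (hφ : LinTop.IsTautFFlat φ) (I : Ideal A)
    (hI : IsOpen (I : Set A)) {x : A} (hx : φ x ∈ closure ((I.map φ : Ideal B) : Set B)) :
    x ∈ I := by
  have hinj := (hφ.2 I hI).injective
  rw [← Ideal.Quotient.eq_zero_iff_mem]
  apply hinj
  rw [map_zero]
  change LinTop.descentMap φ I (Ideal.Quotient.mk I x) = 0
  rw [LinTop.descentMap, Ideal.quotientMap_mk, Ideal.Quotient.eq_zero_iff_mem,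
    ← SetLike.mem_coe, Ideal.coe_closure]
  exact hx

/-- If `closure (φ(K)B) ⊆ closure (φ(I)B)` with `I` open, then `K ≤ I`. -/
theorem le_of_closure_map_subset {φ : A →+* B} (hφ : LinTop.IsTautFFlat φ) (I K : Ideal A)
    (hI : IsOpen (I : Set A))
    (h : ((K.map φ : Ideal B) : Set B) ⊆ closure ((I.map φ : Ideal B) : Set B)) : K ≤ I :=
  fun _ hx => mem_of_map_mem_closure hφ I hI (h (Ideal.mem_map_of_mem φ hx))

end FFlat

end Groth.Agent.Lib.Helper14.LT
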