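import Groth.Agent.S13834
import Groth.Agent.Lib.Helper14.AlgSpLocP

/-!
# Locally finitely many irreducible components ascend along flat morphisms locally of finite
type (helper14)
-/

universe u
open CategoryTheory CategoryTheory.Limits AlgebraicGeometry Opposite TopologicalSpace
open AlgSp

namespace Groth.Agent.Lib.Helper14.AS

open Groth.Agent.S13834

/-- scheme level -/
theorem finite_irreducibleComponents_of_flat_lft {Y X : Scheme.{u}} (f : Y ⟶ X) [Flat f]
    [LocallyOfFiniteType f]
    (hX : ∀ U : X.Opens, IsCompact (U : Set X) → (irreducibleComponents (U : Type u)).Finite)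
    (V : Y.Opens) (hV : IsCompact (V : Set Y)) : (irreducibleComponents (V : Type u)).Finite := by
  let g : (V : Scheme) ⟶ X := V.ι ≫ f
  have hgflat : Flat g := inferInstance
  have hgfp : LocallyOfFiniteType g := inferInstance
  have hcpt : CompactSpace (V : Type u) := isCompact_iff_compactSpace.mp hV
  have hpt : ∀ y : (V : Type u), ∃ W : (V : Scheme).Opens, y ∈ W ∧ IsAffineOpen W ∧
      (irreducibleComponents (W : Type u)).Finite := by
    intro y
    obtain ⟨_, ⟨U, hU, rfl⟩, hyU, -⟩ :=
      X.isBasis_affineOpens.exists_subset_of_mem_open (Set.mem_univ (g y)) isOpen_univ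
    obtain ⟨_, ⟨W, hW, rfl⟩, hyW, hWU⟩ :=
      (V : Scheme).isBasis_affineOpens.exists_subset_of_mem_open
        (show y ∈ (g ⁻¹ᵁ U : Set _) from hyU) (g ⁻¹ᵁ U).2
    refine ⟨W, hyW, hW, ?_⟩
    rw [finite_irreducibleComponents_iff_of_isAffineOpen hW]
    have hA : (minimalPrimes Γ(X, U)).Finite :=
      (finite_irreducibleComponents_iff_of_isAffineOpen hU).mp (hX U (IsAffineOpen.isCompact hU))
    have hflat : (g.appLE U W hWU).hom.Flat :=
      HasRingHomProperty.appLE @Flat g hgflat ⟨U, hU⟩ ⟨W, hW⟩ hWU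
    have hfp : (g.appLE U W hWU).hom.FiniteType :=
      HasRingHomProperty.appLE @LocallyOfFiniteType g hgfp ⟨U, hU⟩ ⟨W, hW⟩ hWU
    algebraize [(g.appLE U W hWU).hom]
    exact finite_minimalPrimes_of_flat hA
  choose W hyW hW hWfin using hpt
  obtain ⟨t, ht⟩ := CompactSpace.elim_nhds_subcover (fun y => (W y : Set (V : Type u)))
    (fun y => (W y).2.mem_nhds (hyW y))
  refine (Set.Finite.biUnion t.finite_toSet fun y _ =>
    finite_irreducibleComponents_meeting' (W y).2 (hWfin y)).subset ?_
  intro Z hZ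
  obtain ⟨z, hz⟩ : Z.Nonempty := hZ.1.1
  have : z ∈ ⋃ y ∈ t, (W y : Set (V : Type u)) := ht ▸ Set.mem_univ z
  simp only [Set.mem_iUnion] at this ⊢
  obtain ⟨y, hy, hzy⟩ := this
  exact ⟨y, hy, hZ, z, hz, hzy⟩

variable {S : Scheme.{u}}

theorem locFiniteIrredComp_of_flat_lft {X Y : Sp S} (hX : IsAlgSpace X) (f : X ⟶ Y)
    (hf : LocP @Flat f) (hf' : LocP @LocallyOfFiniteType f)
    (hY : EtaleLocally (fun U => ∀ W : U.Opens, IsCompact (W : Set ↥U) →
      (irreducibleComponents ↥W).Finite) Y) :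
    EtaleLocally (fun U => ∀ W : U.Opens, IsCompact (W : Set ↥U) →
      (irreducibleComponents ↥W).Finite) X := by
  obtain ⟨V, b, hbe, hbs, hV⟩ := hY
  obtain ⟨U, a, h, hae, has, comm⟩ := exists_chart_diagram hX f b hbe hbs
  have : Flat h.left := hf a b h hae hbe comm
  have : LocallyOfFiniteType h.left := hf' a b h hae hbe comm
  exact ⟨U, a, hae, has, finite_irreducibleComponents_of_flat_lft h.left hV⟩

end Groth.Agent.Lib.Helper14.AS
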