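import Mathlib
import Groth.Agent.Lib.Helper21.LocImmTop
import Groth.Agent.Lib.Helper21.LocImmLib

open AlgebraicGeometry CategoryTheory Limits

namespace Groth.Agent.Lib.Helper14.LocImmIdeal

universe u

variable {X Y : Scheme.{u}}

theorem isSchemeTheoreticallyDominant_toImage (h : X ⟶ Y) [QuasiCompact h] :
    IsSchemeTheoreticallyDominant h.toImage := by
  constructor
  have hcov : ⨆ U : Y.affineOpens, (h.imageι ⁻¹ᵁ U.1) = ⊤ := by
    rw [← Scheme.Hom.preimage_iSup, iSup_affineOpens_eq_top]
    rfl
  refine Scheme.IdealSheafData.ext_of_iSup_eq_top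
    (fun U : Y.affineOpens => ⟨h.imageι ⁻¹ᵁ U.1, U.2.preimage h.imageι⟩) hcov ?_
  intro U
  rw [Scheme.Hom.ker_apply]
  simp only [Scheme.IdealSheafData.ideal_bot, Pi.bot_apply]
  exact (RingHom.injective_iff_ker_eq_bot _).mp (h.toImage_app_injective U)

theorem comap_map_eq_of_flat_mono [IsNoetherian X] (f : X ⟶ Y) [Flat f] [Mono f]
    (I : X.IdealSheafData) : (I.map f).comap f = I := by
  apply le_antisymm (Scheme.IdealSheafData.comap_map_le I f)
  let ι := I.subschemeι
  let h := ι ≫ f
  have hqc : QuasiCompact h := inferInstance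
  let g : I.subscheme ⟶ pullback f h.imageι :=
    pullback.lift ι h.toImage (by
      rw [h.toImage_imageι])
  have hg1 : g ≫ pullback.fst f h.imageι = ι := pullback.lift_fst _ _ _
  have hg2 : g ≫ pullback.snd f h.imageι = h.toImage := pullback.lift_snd _ _ _
  have hpb : IsPullback g (𝟙 _) (pullback.snd f h.imageι) h.toImage := by
    refine ⟨⟨by rw [hg2, Category.id_comp]⟩, ⟨PullbackCone.IsLimit.mk _ (fun s => s.snd) ?_ ?_ ?_⟩⟩
    · intro s
      apply pullback.hom_ext
      · rw [Category.assoc, hg1]
        rw [← cancel_mono f]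
        have h1 := s.condition
        calc (s.snd ≫ ι) ≫ f = s.snd ≫ h.toImage ≫ h.imageι := by
              rw [h.toImage_imageι, Category.assoc]
          _ = (s.fst ≫ pullback.snd f h.imageι) ≫ h.imageι := by
              rw [h1, Category.assoc]
          _ = (s.fst ≫ pullback.fst f h.imageι) ≫ f := by
              rw [Category.assoc, Category.assoc, pullback.condition]
      · rw [Category.assoc, hg2]
        exact s.condition.symm
    · intro s
      exact Category.comp_id _
    · intro s m _ hm2
      rw [← hm2, Category.comp_id]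
  have hdom : IsSchemeTheoreticallyDominant h.toImage := isSchemeTheoreticallyDominant_toImage h
  have hflat : Flat (pullback.snd f h.imageι) := inferInstance
  have hgdom : IsSchemeTheoreticallyDominant g := by
    have := IsSchemeTheoreticallyDominant.of_isPullback hpb.flip
    exact this
  have hgcl : IsClosedImmersion g := by
    have : IsClosedImmersion (g ≫ pullback.fst f h.imageι) := by
      rw [hg1]; infer_instance
    exact IsClosedImmersion.of_comp g (pullback.fst f h.imageι)
  have hgiso : IsIso g := by
    rw [IsClosedImmersion.isIso_iff_ker_eq_bot]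
    exact hgdom.ker_eq_bot
  change I ≤ (pullback.fst f h.imageι).ker
  rw [← Scheme.Hom.ker_comp_of_isIso g, hg1, Scheme.IdealSheafData.ker_subschemeι]

theorem exists_comap_eq_of_isLocImmersion [IsNoetherian X]
    (f : X ⟶ Y) (hf : LocImm.IsLocImmersion f) (I : X.IdealSheafData) :
    ∃ J : Y.IdealSheafData, J.comap f = I := by
  have : Flat f := Groth.Agent.Lib.Helper21.LocImmLib.flat_of_isLocalizing f hf.1
  have : Mono f := Groth.Agent.Lib.Helper21.LocImmLib.mono_of_isLocImmersion f hf
  exact ⟨I.map f, comap_map_eq_of_flat_mono f I⟩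

end Groth.Agent.Lib.Helper14.LocImmIdeal
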