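import Mathlib

/-!
# Schemes locally quasi-finite over a field (helper14)
-/

universe u
open CategoryTheory CategoryTheory.Limits AlgebraicGeometry Opposite Topology

namespace Groth.Agent.Lib.Helper14.LqfField

theorem isLocallyArtinian_of_lqf {k : Type u} [Field k] {Z : Scheme.{u}}
    (f : Z ⟶ Spec (CommRingCat.of k)) [LocallyQuasiFinite f] : IsLocallyArtinian Z := by
  have : IsLocallyArtinian (Spec (CommRingCat.of k)) :=
    Scheme.isLocallyArtinianScheme_Spec.2 (inferInstanceAs (IsArtinianRing k))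
  exact IsLocallyArtinian.of_locallyQuasiFinite f

theorem quasiCompact_of_injective_of_discrete {W Z : Scheme.{u}} (g : W ⟶ Z)
    [DiscreteTopology Z] (hg : Function.Injective g) : QuasiCompact g := by
  refine ⟨fun U _ hc => ?_⟩
  have hfin : U.Finite := isCompact_iff_finite.1 hc
  exact (hfin.preimage hg.injOn).isCompact

theorem isClosedImmersion_of_mono {k : Type u} [Field k] {W Z : Scheme.{u}} (g : W ⟶ Z)
    (fZ : Z ⟶ Spec (CommRingCat.of k)) [Mono g] [LocallyQuasiFinite fZ]
    [LocallyQuasiFinite (g ≫ fZ)] : IsClosedImmersion g := by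
  have := isLocallyArtinian_of_lqf fZ
  have : LocallyQuasiFinite g := LocallyQuasiFinite.of_comp g fZ
  have : QuasiCompact g := quasiCompact_of_injective_of_discrete g g.injective
  have : IsFinite g := IsFinite.of_locallyQuasiFinite g
  exact (IsClosedImmersion.iff_isFinite_and_mono g).2 ⟨this, inferInstance⟩

theorem isLocalRing_of_subsingleton_primeSpectrum {R : Type*} [CommRing R] [Nontrivial R]
    [Subsingleton (PrimeSpectrum R)] : IsLocalRing R := by
  obtain ⟨m, hm⟩ := Ideal.exists_maximal R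
  refine IsLocalRing.of_unique_max_ideal ⟨m, hm, fun m' hm' => ?_⟩
  have := Subsingleton.elim (⟨m', hm'.isPrime⟩ : PrimeSpectrum R) ⟨m, hm.isPrime⟩
  exact congrArg PrimeSpectrum.asIdeal this

theorem exists_artinian_nbhd {k : Type u} [Field k] {U : Scheme.{u}}
    (f : U ⟶ Spec (CommRingCat.of k)) [LocallyQuasiFinite f] (u : U) :
    ∃ V : U.Opens, u ∈ V ∧ IsAffineOpen V ∧ IsArtinianRing Γ(U, V) ∧ IsLocalRing Γ(U, V) ∧
      IsFinite (V.ι ≫ f) := by
  have := isLocallyArtinian_of_lqf f
  let V : U.Opens := ⟨{u}, isOpen_discrete _⟩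
  have huV : u ∈ V := rfl
  obtain ⟨W, hW, huW, -⟩ := exists_isAffineOpen_mem_and_subset (x := u) (U := ⊤) trivial
  obtain ⟨r, hr1, hr2⟩ := hW.exists_basicOpen_le (V := V) ⟨u, huV⟩ huW
  have hVeq : U.basicOpen r = V := by
    refine le_antisymm hr1 ?_
    intro x hx
    have : x = u := hx
    rw [this]; exact hr2
  have hV : IsAffineOpen V := hVeq ▸ hW.basicOpen r
  have hsub : Subsingleton V := ⟨fun a b => Subtype.ext (a.2.trans b.2.symm)⟩
  have hne : Nonempty V := ⟨⟨u, huV⟩⟩
  have hart : IsArtinianRing Γ(U, V) :=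
    IsLocallyArtinian.isArtinianRing_presheaf_obj (X := U) ⟨V, hV⟩
  have hloc : IsLocalRing Γ(U, V) := by
    have e : V ≃ PrimeSpectrum Γ(U, V) := hV.isoSpec.schemeIsoToHomeo.toEquiv
    have : Subsingleton (PrimeSpectrum Γ(U, V)) := e.symm.subsingleton
    exact isLocalRing_of_subsingleton_primeSpectrum
  refine ⟨V, huV, hV, hart, hloc, ?_⟩
  have : IsAffine V := hV
  exact IsFinite.of_locallyQuasiFinite (V.ι ≫ f)

end Groth.Agent.Lib.Helper14.LqfField
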