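import Groth.Agent.Lib.Helper24.SlqfMain
import Groth.Agent.Lib.Helper14.AlgSpDiagChart
import Groth.Agent.Lib.Helper14.AlgSpImm
import Groth.Agent.Lib.Helper14.AlgSpLocP2
import Groth.Agent.Lib.Helper14.LqfField1

/-!
# Algebraic spaces locally quasi-finite over a field (helper14)
-/

universe u
open CategoryTheory CategoryTheory.Limits AlgebraicGeometry Opposite Topology

namespace Groth.Agent.Lib.Helper14.LqfField

open AlgSp Groth.Agent.Lib.Helper14.AS Groth.Agent.Lib.Helper24.Slqf

variable {k : Type u} [Field k]

set_option backward.isDefEq.respectTransparency.types false in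
theorem isSeparatedMor_of_lqf {X : Sp (Spec (CommRingCat.of k))} (hX : IsAlgSpace X)
    (p : X ⟶ (yon (Spec (CommRingCat.of k))).obj (Over.mk (𝟙 _)))
    (hp : LocP (@LocallyQuasiFinite ⊓ @LocallyOfFiniteType) p) : IsSeparatedMor p := by
  let S := Spec (CommRingCat.of k)
  let T : Over S := Over.mk (𝟙 S)
  obtain ⟨U, R1, R2, a, h, p1', p2', p1, p2, μ, q, t, hae, has, comm, sq1, sq2, hμ1, hμ2, hq1,
    hq2, hqe, hqs, key, -⟩ :=
    exists_diagonal_chart hX (IsAlgSpace.yon_obj T) p (𝟙 ((yon S).obj T)) (repWith_id _ T)
      (repWith_id _ T)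
  have hh : (@LocallyQuasiFinite ⊓ @LocallyOfFiniteType : MorphismProperty Scheme.{u}) h.left :=
    hp a (𝟙 _) h hae (repWith_id _ T) comm
  have hh1 : LocallyQuasiFinite h.left := hh.1
  have hp1' : Etale p1'.left :=
    (repWith_yon_map_iff _ _).1 (MorphismProperty.of_isPullback (P := RepWith @Etale) sq1.flip hae)
  have hp1'q : LocallyQuasiFinite p1'.left := etale_locallyQuasiFinite _
  have hUhom : U.hom = h.left := by
    have := Over.w h
    simpa [T] using this.symm
  have sq2' : IsPullback ((yon S).map p1) ((yon S).map p2) ((yon S).map h) ((yon S).map h) := by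
    have e : a ≫ p = (yon S).map h := by rw [comm, Category.comp_id]
    rw [e] at sq2
    exact sq2
  have sq2'' : IsPullback p1 p2 h h := IsPullback.of_map_of_faithful (yon S) sq2'
  have hp1 : LocallyQuasiFinite p1.left :=
    MorphismProperty.of_isPullback (P := @LocallyQuasiFinite) (sq2''.map (Over.forget S)).flip hh1
  have hR2 : LocallyQuasiFinite R2.hom := by
    rw [← Over.w p1, hUhom]
    infer_instance
  have hR1 : LocallyQuasiFinite (μ.left ≫ R2.hom) := by
    rw [Over.w μ, ← Over.w p1', hUhom]
    infer_instance
  have hmono : Mono ((yon S).map μ) := by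
    have : Mono (pullback.diagonal p) := inferInstance
    exact MorphismProperty.of_isPullback (P := MorphismProperty.monomorphisms _) key this
  have hmono' : Mono μ := (yon S).mono_of_mono_map hmono
  have hci : IsClosedImmersion μ.left := isClosedImmersion_of_mono μ.left R2.hom
  have hΔ : Representable (pullback.diagonal p) := representable_diagonal p hX.diag
  have := isLocallySurjective_of_etale_surjective q hqe hqs
  exact repWith_of_isLocallySurjective_base hΔ q key @IsClosedImmersion
    ((repWith_yon_map_iff _ _).2 hci)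

end Groth.Agent.Lib.Helper14.LqfField
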