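import Groth.Agent.Lib.Helper14.LqfField2

/-!
# Algebraic spaces locally quasi-finite over a field: main theorem (helper14)
-/

universe u
open CategoryTheory CategoryTheory.Limits AlgebraicGeometry Opposite Topology

namespace Groth.Agent.Lib.Helper14.LqfField

open AlgSp Groth.Agent.Lib.Helper14.AS Groth.Agent.Lib.Helper24.Slqf

variable {k : Type u} [Field k]

set_option backward.isDefEq.respectTransparency.types false in
theorem forward {X : Sp (Spec (CommRingCat.of k))} (hX : IsAlgSpace X)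
    (p : X ⟶ (yon (Spec (CommRingCat.of k))).obj (Over.mk (𝟙 _)))
    (hp : LocP (@LocallyQuasiFinite ⊓ @LocallyOfFiniteType) p) :
    ∃ (U : Over (Spec (CommRingCat.of k))) (_ : (yon (Spec (CommRingCat.of k))).obj U ≅ X),
      ∀ u : ↥U.left, ∃ V : U.left.Opens,
        u ∈ V ∧ IsAffineOpen V ∧ IsArtinianRing ↥Γ(U.left, V) ∧ IsLocalRing ↥Γ(U.left, V) ∧
          IsFinite (V.ι ≫ U.hom) := by
  let S := Spec (CommRingCat.of k)
  let T : Over S := Over.mk (𝟙 S)
  have hG : Good p := ⟨hX, isSeparatedMor_of_lqf hX p hp, hp⟩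
  obtain ⟨W, ⟨ε⟩⟩ := exists_iso_yon_of_good p hG
  refine ⟨W, ε, ?_⟩
  let h : W ⟶ T := Over.homMk W.hom (by simp [T])
  have hh : (@LocallyQuasiFinite ⊓ @LocallyOfFiniteType : MorphismProperty Scheme.{u}) h.left := by
    refine hp ε.hom (𝟙 _) h (repWith_of_isIso _ _) (repWith_id _ T) ?_
    rw [Category.comp_id]
    obtain ⟨g, hg⟩ := (yon S).map_surjective (ε.hom ≫ p)
    rw [← hg]
    congr 1
    ext
    have := Over.w g
    simpa [T, h] using this
  have : LocallyQuasiFinite W.hom := hh.1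
  exact fun u => exists_artinian_nbhd W.hom u

set_option backward.isDefEq.respectTransparency.types false in
theorem backward {X : Sp (Spec (CommRingCat.of k))}
    (p : X ⟶ (yon (Spec (CommRingCat.of k))).obj (Over.mk (𝟙 _)))
    (U : Over (Spec (CommRingCat.of k))) (ε : (yon (Spec (CommRingCat.of k))).obj U ≅ X)
    (H : ∀ u : ↥U.left, ∃ V : U.left.Opens,
        u ∈ V ∧ IsAffineOpen V ∧ IsArtinianRing ↥Γ(U.left, V) ∧ IsLocalRing ↥Γ(U.left, V) ∧
          IsFinite (V.ι ≫ U.hom)) :
    LocP (@LocallyQuasiFinite ⊓ @LocallyOfFiniteType) p := by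
  let S := Spec (CommRingCat.of k)
  let T : Over S := Over.mk (𝟙 S)
  let h : U ⟶ T := Over.homMk U.hom (by simp [T])
  have comm : ε.hom ≫ p = (yon S).map h ≫ 𝟙 _ := by
    rw [Category.comp_id]
    obtain ⟨g, hg⟩ := (yon S).map_surjective (ε.hom ≫ p)
    rw [← hg]
    congr 1
    ext
    have := Over.w g
    simpa [T, h] using this
  refine locP_of_chart etLocal_lqf_lft p ε.hom (𝟙 _) h (repWith_of_isIso _ _)
    (repWith_of_isIso _ _) (repWith_id _ T) comm ?_
  change LocallyQuasiFinite U.hom ∧ LocallyOfFiniteType U.hom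
  choose V hV1 hV2 hV3 hV4 hV5 using H
  have hcov : (⨆ u, V u) = ⊤ := by
    rw [eq_top_iff]
    intro x _
    exact TopologicalSpace.Opens.mem_iSup.2 ⟨x, hV1 x⟩
  constructor
  · rw [IsZariskiLocalAtSource.iff_of_iSup_eq_top (P := @LocallyQuasiFinite) V hcov]
    intro u
    have := hV5 u
    infer_instance
  · rw [IsZariskiLocalAtSource.iff_of_iSup_eq_top (P := @LocallyOfFiniteType) V hcov]
    intro u
    have := hV5 u
    infer_instance

end Groth.Agent.Lib.Helper14.LqfField
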