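import Mathlib
import Groth.Agent.Lib.Helper14.EtaleLQF

universe u

open CategoryTheory Limits AlgebraicGeometry Opposite MorphismProperty

namespace Groth.Agent.Lib.Helper14.AS

/-- The fibres of a morphism whose kernel pair projection is etale are etale over the residue
fields. -/
theorem etale_fiberToSpecResidueField_of_etale_kernelPair {U V : Scheme.{u}} (g : U ⟶ V)
    (hpr : Etale (pullback.snd g g)) (v : V) : Etale (g.fiberToSpecResidueField v) := by
  let φ := V.fromSpecResidueField v
  let s := g.fiberToSpecResidueField v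
  let ι := g.fiberι v
  have sqF : IsPullback ι s g φ := IsPullback.of_hasPullback g φ
  by_cases hF : IsEmpty (g.fiber v)
  · infer_instance
  rw [not_isEmpty_iff] at hF
  obtain ⟨x⟩ := hF
  obtain ⟨W, hW, hxW, -⟩ := exists_isAffineOpen_mem_and_subset (x := x)
    (U := (⊤ : (g.fiber v).Opens)) trivial
  let j : (W : Scheme.{u}) ⟶ g.fiber v := W.ι
  let q : (W : Scheme.{u}) ⟶ Spec (V.residueField v) := j ≫ s
  let u' : (W : Scheme.{u}) ⟶ U := j ≫ ι
  have hqφ : q ≫ φ = u' ≫ g := by
    change (j ≫ s) ≫ φ = (j ≫ ι) ≫ g
    rw [Category.assoc, Category.assoc, sqF.w]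
  -- the base change of `s` along `q` is a base change of `pullback.snd g g`
  have sqL : IsPullback (pullback.fst s q) (pullback.snd s q) s q := IsPullback.of_hasPullback s q
  have big : IsPullback (pullback.fst s q ≫ ι) (pullback.snd s q) g (q ≫ φ) :=
    sqL.paste_horiz sqF
  rw [hqφ] at big
  let l : pullback s q ⟶ pullback g g :=
    pullback.lift (pullback.fst s q ≫ ι) (pullback.snd s q ≫ u') big.w
  have hl1 : l ≫ pullback.fst g g = pullback.fst s q ≫ ι := pullback.lift_fst _ _ _
  have hl2 : l ≫ pullback.snd g g = pullback.snd s q ≫ u' := pullback.lift_snd _ _ _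
  have sqG : IsPullback (pullback.fst g g) (pullback.snd g g) g g := IsPullback.of_hasPullback g g
  have left : IsPullback l (pullback.snd s q) (pullback.snd g g) u' :=
    IsPullback.of_right (by rw [hl1]; exact big) hl2 sqG
  have hsnd : Etale (pullback.snd s q) := MorphismProperty.of_isPullback (P := @Etale) left hpr
  -- `q` is an fpqc covering
  have : IsAffine (W : Scheme.{u}) := hW
  have hQ : (@Surjective ⊓ @Flat ⊓ @QuasiCompact : MorphismProperty Scheme.{u}) q := by
    refine ⟨⟨?_, ?_⟩, ?_⟩
    · constructor
      intro y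
      exact ⟨⟨x, hxW⟩, Subsingleton.elim _ _⟩
    · infer_instance
    · infer_instance
  exact MorphismProperty.of_pullback_snd_of_descendsAlong (P := @Etale)
    (Q := (@Surjective ⊓ @Flat ⊓ @QuasiCompact : MorphismProperty Scheme.{u})) hQ hsnd

/-- A morphism to a locally Artinian scheme whose kernel pair projection is etale is locally
quasi-finite and locally of finite type. -/
theorem lqf_lft_of_etale_kernelPair {U V : Scheme.{u}} [IsLocallyArtinian V] (g : U ⟶ V)
    (hpr : Etale (pullback.snd g g)) : LocallyQuasiFinite g ∧ LocallyOfFiniteType g := by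
  have hq : LocallyQuasiFinite g := by
    refine LocallyQuasiFinite.of_fiberToSpecResidueField g fun v => ?_
    have := etale_fiberToSpecResidueField_of_etale_kernelPair g hpr v
    exact etale_locallyQuasiFinite _
  refine ⟨hq, ?_⟩
  rw [HasRingHomProperty.iff_appLE (P := @LocallyOfFiniteType)]
  intro V' U' e
  have h1 : RingHom.QuasiFinite (g.appLE V'.1 U'.1 e).hom :=
    HasRingHomProperty.appLE (P := @LocallyQuasiFinite) g hq V' U' e
  have hA : IsArtinianRing Γ(V, V'.1) := IsLocallyArtinian.isArtinianRing_presheaf_obj V'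
  algebraize [(g.appLE V'.1 U'.1 e).hom]
  have : Algebra.QuasiFinite Γ(V, V'.1) Γ(U, U'.1) := h1
  have : Module.Finite Γ(V, V'.1) Γ(U, U'.1) := Module.Finite.of_quasiFinite
  have h2 : (g.appLE V'.1 U'.1 e).hom.Finite := RingHom.finite_algebraMap.2 this
  exact h2.finiteType

end Groth.Agent.Lib.Helper14.AS
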