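import Mathlib
import Groth.Agent.Lib.Helper14.MonoLqf1
import Groth.Agent.Lib.Helper14.AlgSpLocP2
import Groth.Agent.Lib.Helper14.AlgSpEtaleMor

universe u

open CategoryTheory Limits AlgebraicGeometry Opposite MorphismProperty AlgSp

namespace Groth.Agent.Lib.Helper14.AS

variable {S : Scheme.{u}}

theorem lqf_lft_of_etale_kernelPair' {U V K : Scheme.{u}} [IsLocallyArtinian V] (g : U ⟶ V)
    {p1 p2 : K ⟶ U} (sq : IsPullback p1 p2 g g)
    (hpr : Etale p2) : LocallyQuasiFinite g ∧ LocallyOfFiniteType g := by
  apply lqf_lft_of_etale_kernelPair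
  rw [← sq.isoPullback_inv_snd]
  infer_instance

set_option backward.isDefEq.respectTransparency.types false in
/-- If `yon h` factors as an etale map followed by a monomorphism, the kernel pair of `h.left` has
etale projections. -/
theorem etale_kernelPair_of_etale_mono {X' : Sp S} {U V : Over S} (h : U ⟶ V)
    (a' : (yon S).obj U ⟶ X') (f' : X' ⟶ (yon S).obj V) [Mono f'] (ha' : RepWith @Etale a')
    (hh : (yon S).map h = a' ≫ f') : Etale (pullback.snd h.left h.left) := by
  have sqK := IsPullback.of_hasPullback h h
  have sqY := sqK.map (yon S)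
  rw [hh] at sqY
  have sqY' := ESL.isPullback_of_comp_mono f' sqY
  have he : Etale (pullback.snd h h).left := ha'.property _ _ _ sqY'
  have sqL := sqK.map (Over.forget S)
  have : pullback.snd h.left h.left = sqL.isoPullback.inv ≫ (pullback.snd h h).left :=
    (sqL.isoPullback_inv_snd).symm
  rw [this]
  have e1 : Etale sqL.isoPullback.inv := inferInstance
  exact MorphismProperty.comp_mem (W := @Etale) _ _ e1 he

end Groth.Agent.Lib.Helper14.AS
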