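import Mathlib
import Groth.Prelude.Def_FGA
import Groth.Prelude.Def_Flatn
import Groth.Agent.Lib.Helper1.AH17

set_option autoImplicit false
universe u
open CategoryTheory CategoryTheory.Limits AlgebraicGeometry

namespace Groth.Agent.Lib.Helper14.MorHilb

variable {X Y S : Scheme.{u}} (gX : X ⟶ S) (gY : Y ⟶ S)

/-- the projection `(X ×_S Y) ×_S T ⟶ T ×_S X` -/
noncomputable def prT (T : Over S) :
    PicF.XT (pullback.fst gX gY ≫ gX) T ⟶ pullback T.hom gX :=
  pullback.lift (pullback.snd (pullback.fst gX gY ≫ gX) T.hom)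
    (pullback.fst (pullback.fst gX gY ≫ gX) T.hom ≫ pullback.fst gX gY)
    (by rw [Category.assoc]; exact pullback.condition.symm)

/-- the projection `(X ×_S Y) ×_S T ⟶ Y` -/
noncomputable def qY (T : Over S) : PicF.XT (pullback.fst gX gY ≫ gX) T ⟶ Y :=
  pullback.fst (pullback.fst gX gY ≫ gX) T.hom ≫ pullback.snd gX gY

lemma prT_fst (T : Over S) :
    prT gX gY T ≫ pullback.fst T.hom gX = pullback.snd (pullback.fst gX gY ≫ gX) T.hom :=
  pullback.lift_fst _ _ _

lemma prT_snd (T : Over S) :
    prT gX gY T ≫ pullback.snd T.hom gX =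
      pullback.fst (pullback.fst gX gY ≫ gX) T.hom ≫ pullback.fst gX gY :=
  pullback.lift_snd _ _ _

lemma isPullback_prT_fst (T : Over S) :
    IsPullback (prT gX gY T) (pullback.fst (pullback.fst gX gY ≫ gX) T.hom)
      (pullback.snd T.hom gX) (pullback.fst gX gY) := by
  refine IsPullback.of_right (h₁₂ := pullback.fst T.hom gX) (h₂₂ := gX) (v₁₃ := T.hom) ?_
    (prT_snd gX gY T) (IsPullback.of_hasPullback T.hom gX)
  rw [prT_fst]
  exact (IsPullback.of_hasPullback (pullback.fst gX gY ≫ gX) T.hom).flip

lemma isPullback_prT (T : Over S) :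
    IsPullback (qY gX gY T) (prT gX gY T) gY (pullback.snd T.hom gX ≫ gX) :=
  (isPullback_prT_fst gX gY T).flip.paste_horiz (IsPullback.of_hasPullback gX gY).flip

instance isSeparated_prT [IsSeparated gY] (T : Over S) : IsSeparated (prT gX gY T) :=
  MorphismProperty.of_isPullback (P := @IsSeparated) (isPullback_prT gX gY T) inferInstance

/-- the graph of `a : T ×_S X ⟶ Y`. -/
noncomputable def graph (T : Over S) (a : (Flatn.morS gX gY).obj (Opposite.op T)) :
    pullback T.hom gX ⟶ PicF.XT (pullback.fst gX gY ≫ gX) T :=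
  pullback.lift
    (pullback.lift (pullback.snd T.hom gX) a.left (Over.w a).symm)
    (pullback.fst T.hom gX)
    ((pullback.lift_fst_assoc _ _ _ _).trans pullback.condition.symm)

lemma graph_prT (T : Over S) (a : (Flatn.morS gX gY).obj (Opposite.op T)) :
    graph gX gY T a ≫ prT gX gY T = 𝟙 _ := by
  apply pullback.hom_ext
  · rw [Category.assoc, prT_fst, Category.id_comp]
    exact pullback.lift_snd _ _ _
  · rw [Category.assoc, prT_snd, Category.id_comp, graph, pullback.lift_fst_assoc,
      pullback.lift_fst]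

lemma graph_qY (T : Over S) (a : (Flatn.morS gX gY).obj (Opposite.op T)) :
    graph gX gY T a ≫ qY gX gY T = a.left := by
  rw [qY, graph, pullback.lift_fst_assoc, pullback.lift_snd]

instance isClosedImmersion_graph [IsSeparated gY] (T : Over S)
    (a : (Flatn.morS gX gY).obj (Opposite.op T)) : IsClosedImmersion (graph gX gY T a) := by
  haveI : IsClosedImmersion (graph gX gY T a ≫ prT gX gY T) := by
    rw [graph_prT]; infer_instance
  exact IsClosedImmersion.of_comp (graph gX gY T a) (prT gX gY T)

lemma graph_XTproj (T : Over S) (a : (Flatn.morS gX gY).obj (Opposite.op T)) :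
    graph gX gY T a ≫ PicF.XTproj (pullback.fst gX gY ≫ gX) T = pullback.fst T.hom gX :=
  pullback.lift_snd _ _ _

/-- the graph is a point of the Hilbert functor -/
lemma graph_mem [IsSeparated gY] [IsProper gX] [Flat gX] (T : Over S)
    (a : (Flatn.morS gX gY).obj (Opposite.op T)) :
    IsProper ((graph gX gY T a).ker.subschemeι ≫ PicF.XTproj (pullback.fst gX gY ≫ gX) T) ∧
      Flat ((graph gX gY T a).ker.subschemeι ≫ PicF.XTproj (pullback.fst gX gY ≫ gX) T) := by
  have e : (graph gX gY T a).ker.subschemeι ≫ PicF.XTproj (pullback.fst gX gY ≫ gX) T =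
      inv (graph gX gY T a).toImage ≫ pullback.fst T.hom gX := by
    rw [IsIso.eq_inv_comp, ← graph_XTproj gX gY T a, Scheme.Hom.toImage_imageι_assoc]
  rw [e]
  exact ⟨inferInstance, inferInstance⟩

/-- two sections with the same graph ideal agree -/
lemma eq_of_ker_graph_eq [IsSeparated gY] (T : Over S)
    (a a' : (Flatn.morS gX gY).obj (Opposite.op T))
    (h : (graph gX gY T a).ker = (graph gX gY T a').ker) : a = a' := by
  have e1 := IsClosedImmersion.lift_fac (graph gX gY T a) (graph gX gY T a') h.le
  have e2 : IsClosedImmersion.lift (graph gX gY T a) (graph gX gY T a') h.le = 𝟙 _ := by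
    have := congrArg (· ≫ prT gX gY T) e1
    simp only [Category.assoc, graph_prT, Category.comp_id] at this
    exact this
  rw [e2, Category.id_comp] at e1
  apply Over.OverMorphism.ext
  rw [← graph_qY gX gY T a, ← graph_qY gX gY T a', e1]

end Groth.Agent.Lib.Helper14.MorHilb
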