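import Mathlib
import Groth.Agent.Lib.Helper14.MorHilb1
import Groth.Agent.Lib.Helper14.IsoLocus1
import Groth.Agent.S17076

set_option autoImplicit false
universe u
open CategoryTheory CategoryTheory.Limits AlgebraicGeometry

namespace Groth.Agent.Lib.Helper14.MorHilb

/-- two descriptions of the base change of a morphism of `S`-schemes -/
lemma isIso_iff_isIso_overPullback_map {S S' : Scheme.{u}} (h : S' ⟶ S) {A B : Over S} (π : A ⟶ B)
    {W' V' : Scheme.{u}} (a : W' ⟶ A.left) (π' : W' ⟶ V') (b : V' ⟶ B.left) (c : V' ⟶ S')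
    (h1 : IsPullback a π' π.left b) (h2 : IsPullback b c B.hom h) :
    IsIso π' ↔ IsIso ((Over.pullback h).map π).left := by
  have h1' : IsPullback a (π' ≫ h2.isoPullback.hom) π.left (pullback.fst B.hom h) :=
    IsPullback.of_iso h1 (Iso.refl _) (Iso.refl _) h2.isoPullback (Iso.refl _)
      (by simp) (by simp) (by simp) (by simp)
  have H := (IsoLocus.isPullback_overPullback_map h π).flip
  have e := IsPullback.isoIsPullback_hom_snd _ _ h1' H
  constructor
  · intro hi
    haveI : IsIso (π' ≫ h2.isoPullback.hom) := inferInstance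
    haveI : IsIso ((h1'.isoIsPullback _ _ H).hom ≫ ((Over.pullback h).map π).left) := by
      rw [e]; infer_instance
    exact IsIso.of_isIso_comp_left (h1'.isoIsPullback _ _ H).hom _
  · intro hi
    haveI : IsIso (π' ≫ h2.isoPullback.hom) := by
      rw [← e]; infer_instance
    exact IsIso.of_isIso_comp_right π' h2.isoPullback.hom

variable {X Y S : Scheme.{u}} (gX : X ⟶ S) (gY : Y ⟶ S)

/-- the map `T ×_S X ⟶ H ×_S X` induced by `g : T ⟶ H`. -/
noncomputable def Xmap {T H : Over S} (g : T ⟶ H) : pullback T.hom gX ⟶ pullback H.hom gX :=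
  pullback.map T.hom gX H.hom gX g.left (𝟙 X) (𝟙 S) (by simp [Over.w g]) (by simp)

lemma Xmap_fst {T H : Over S} (g : T ⟶ H) :
    Xmap gX g ≫ pullback.fst H.hom gX = pullback.fst T.hom gX ≫ g.left :=
  pullback.lift_fst _ _ _

lemma Xmap_snd {T H : Over S} (g : T ⟶ H) :
    Xmap gX g ≫ pullback.snd H.hom gX = pullback.snd T.hom gX :=
  (pullback.lift_snd _ _ _).trans (Category.comp_id _)

lemma isPullback_Xmap {T H : Over S} (g : T ⟶ H) :
    IsPullback (Xmap gX g) (pullback.fst T.hom gX) (pullback.fst H.hom gX) g.left := by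
  refine IsPullback.of_right (h₁₂ := pullback.snd H.hom gX) (h₂₂ := H.hom) (v₁₃ := gX) ?_
    (Xmap_fst gX g) (IsPullback.of_hasPullback H.hom gX).flip
  rw [Xmap_snd, Over.w g]
  exact (IsPullback.of_hasPullback T.hom gX).flip

lemma XTmap_prT {T H : Over S} (g : T ⟶ H) :
    PicF.XTmap (pullback.fst gX gY ≫ gX) g ≫ prT gX gY H = prT gX gY T ≫ Xmap gX g := by
  apply pullback.hom_ext
  · rw [Category.assoc, prT_fst, Category.assoc, Xmap_fst, ← Category.assoc, prT_fst]
    exact Groth.Agent.Lib.Helper1.AH.XTmap_snd _ g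
  · rw [Category.assoc, prT_snd, Category.assoc, Xmap_snd, prT_snd, ← Category.assoc,
      FGA.XTmap_fst]

lemma XTmap_qY {T H : Over S} (g : T ⟶ H) :
    PicF.XTmap (pullback.fst gX gY ≫ gX) g ≫ qY gX gY H = qY gX gY T := by
  rw [qY, ← Category.assoc, FGA.XTmap_fst, qY]

lemma isPullback_XTmap_prT {T H : Over S} (g : T ⟶ H) :
    IsPullback (PicF.XTmap (pullback.fst gX gY ≫ gX) g) (prT gX gY T) (prT gX gY H)
      (Xmap gX g) := by
  refine IsPullback.of_right (h₁₂ := qY gX gY H) (h₂₂ := pullback.snd H.hom gX ≫ gX) (v₁₃ := gY) ?_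
    (XTmap_prT gX gY g) (isPullback_prT gX gY H)
  rw [XTmap_qY, ← Category.assoc, Xmap_snd]
  exact isPullback_prT gX gY T

lemma isPullback_comap {T H : Over S} (g : T ⟶ H)
    (I : (PicF.XT (pullback.fst gX gY ≫ gX) H).IdealSheafData) :
    IsPullback ((I.comapIso (PicF.XTmap (pullback.fst gX gY ≫ gX) g)).hom ≫ pullback.snd _ _)
      ((I.comap (PicF.XTmap (pullback.fst gX gY ≫ gX) g)).subschemeι ≫ prT gX gY T)
      (I.subschemeι ≫ prT gX gY H) (Xmap gX g) := by
  have h1 : IsPullback (I.comap (PicF.XTmap (pullback.fst gX gY ≫ gX) g)).subschemeι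
      ((I.comapIso (PicF.XTmap (pullback.fst gX gY ≫ gX) g)).hom ≫ pullback.snd _ _)
      (PicF.XTmap (pullback.fst gX gY ≫ gX) g) I.subschemeι := by
    refine isPullback_of_isClosedImmersion _ _ _ _ ?_ ?_
    · rw [Category.assoc, ← pullback.condition, Scheme.IdealSheafData.comapIso_hom_fst_assoc]
    · rw [Scheme.IdealSheafData.ker_subschemeι, Scheme.IdealSheafData.ker_subschemeι]
  exact h1.flip.paste_vert (isPullback_XTmap_prT gX gY g)

end Groth.Agent.Lib.Helper14.MorHilb
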