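import Mathlib
import Groth.Agent.Lib.Helper14.MorHilb2

set_option autoImplicit false
universe u
open CategoryTheory CategoryTheory.Limits AlgebraicGeometry

namespace Groth.Agent.Lib.Helper14.MorHilb

variable {X Y S : Scheme.{u}} (gX : X ⟶ S) (gY : Y ⟶ S)

/-- the open locus of the Hilbert scheme of `X ×_S Y` over which the universal family projects
isomorphically to `X`. -/
theorem exists_isoLocus [IsProper gX]
    (H : Over S) (Z : FGA.HilbSet (pullback.fst gX gY ≫ gX) H)
    (hH : FGA.HilbRepresentedBy (pullback.fst gX gY ≫ gX) H Z) :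
    ∃ H₀ : H.left.Opens, ∀ (T : Over S) [IsLocallyNoetherian T.left] (g : T ⟶ H),
      Set.range g.left ⊆ (H₀ : Set H.left) ↔
        IsIso ((FGA.hilbPull (pullback.fst gX gY ≫ gX) g Z.1).subschemeι ≫ prT gX gY T) := by
  haveI := hH.1
  let A : Over H.left := Over.mk (Z.1.subschemeι ≫ PicF.XTproj (pullback.fst gX gY ≫ gX) H)
  let B : Over H.left := Over.mk (pullback.fst H.hom gX)
  let π : A ⟶ B := Over.homMk (Z.1.subschemeι ≫ prT gX gY H) (by
    change (Z.1.subschemeι ≫ prT gX gY H) ≫ pullback.fst H.hom gX = _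
    rw [Category.assoc, prT_fst]
    rfl)
  haveI : IsProper A.hom := Z.2.1
  haveI : Flat A.hom := Z.2.2
  haveI : IsProper B.hom := inferInstanceAs (IsProper (pullback.fst H.hom gX))
  obtain ⟨H₀, hH₀⟩ := Groth.Agent.S17076.result A B π
  refine ⟨H₀, fun T _ g => (hH₀ T.left g.left).trans ?_⟩
  rw [Groth.Agent.Lib.Helper1.AH.hilbPull_eq_comap]
  exact (isIso_iff_isIso_overPullback_map g.left π _ _ _ _
    (isPullback_comap gX gY g Z.1) (isPullback_Xmap gX g)).symm

end Groth.Agent.Lib.Helper14.MorHilb
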