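import Mathlib
import Groth.Agent.Lib.Helper18.JacDim7
import Groth.Agent.Lib.Helper18.JacDim1

/-!
# Topological lemmas for a dimension count: maximal points, components, zero-dimensional stalks
-/

set_option autoImplicit false
set_option linter.style.haveILetI false
set_option linter.unusedSectionVars false
universe u

open AlgebraicGeometry CategoryTheory Limits TopologicalSpace

namespace Groth.Agent.Lib.Helper14.MovDim

/-- every point of a closed subset of a sober space has a generization in the subset which is
maximal there -/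
theorem exists_maximal_point {T : Type*} [TopologicalSpace T] [QuasiSober T] [T0Space T]
    (F : Set T) (hF : IsClosed F) (x : T) (hx : x ∈ F) :
    ∃ s ∈ F, ∀ s' ∈ F, s' ⤳ s → s' = s := by
  haveI : QuasiSober ↥F := hF.isClosedEmbedding_subtypeVal.quasiSober
  obtain ⟨ξ, hξ⟩ := QuasiSober.sober
    (isIrreducible_irreducibleComponent (x := (⟨x, hx⟩ : ↥F))) isClosed_irreducibleComponent
  refine ⟨ξ.1, ξ.2, fun s' hs' hsp => ?_⟩
  have h1 : (⟨s', hs'⟩ : ↥F) ⤳ ξ := (subtype_specializes_iff _ _).mpr hsp
  have h2 : irreducibleComponent (⟨x, hx⟩ : ↥F) ⊆ closure {(⟨s', hs'⟩ : ↥F)} := by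
    rw [← hξ.def]
    exact closure_minimal (Set.singleton_subset_iff.mpr h1.mem_closure) isClosed_closure
  have hmax := irreducibleComponent_mem_irreducibleComponents (⟨x, hx⟩ : ↥F)
  have h3 : closure {(⟨s', hs'⟩ : ↥F)} = irreducibleComponent (⟨x, hx⟩ : ↥F) :=
    (hmax.2 isIrreducible_singleton.closure h2).antisymm h2
  have h4 : IsGenericPoint (⟨s', hs'⟩ : ↥F) (irreducibleComponent (⟨x, hx⟩ : ↥F)) := h3
  exact congrArg Subtype.val (h4.eq hξ)

/-- the dimension of a space is bounded by the dimensions of its irreducible components -/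
theorem topologicalKrullDim_le_of_components {X : Type u} [TopologicalSpace X] (d : WithBot ℕ∞)
    (h : ∀ C ∈ irreducibleComponents X, topologicalKrullDim ↥C ≤ d) :
    topologicalKrullDim X ≤ d := by
  unfold topologicalKrullDim
  rw [Order.krullDim]
  apply iSup_le
  intro s
  obtain ⟨X', hX', hsX'⟩ := Groth.Agent.Lib.Helper18.JacDim.exists_irreducibleComponent_superset
    (s.last : Set X) s.last.isIrreducible
  exact (Groth.Agent.Lib.Helper18.JacDim.length_le_topologicalKrullDim_of_subset X'
    (isClosed_of_mem_irreducibleComponents X' hX') s hsX').trans (h X' hX')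

/-- every irreducible component of the target of a dominant continuous map from a Noetherian sober
space is the closure of an image point -/
theorem exists_closure_eq_of_component {S Y : Type*} [TopologicalSpace S] [TopologicalSpace Y]
    [NoetherianSpace S] [QuasiSober S] [QuasiSober Y]
    (g : S → Y) (hg : Continuous g) (hd : DenseRange g) (C : Set Y)
    (hC : C ∈ irreducibleComponents Y) : ∃ s : S, closure {g s} = C := by
  have hfin : (irreducibleComponents S).Finite := NoetherianSpace.finite_irreducibleComponents
  have hcov : (Set.univ : Set Y) = ⋃ A ∈ irreducibleComponents S, closure (g '' A) := by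
    rw [← hd.closure_range, ← Set.image_univ, ← sUnion_irreducibleComponents, Set.image_sUnion,
      Set.sUnion_image, hfin.closure_biUnion]
  obtain ⟨ζ, hζ⟩ := QuasiSober.sober hC.1 (isClosed_of_mem_irreducibleComponents C hC)
  have hζmem : ζ ∈ ⋃ A ∈ irreducibleComponents S, closure (g '' A) := by
    rw [← hcov]; trivial
  simp only [Set.mem_iUnion] at hζmem
  obtain ⟨A, hA, hζA⟩ := hζmem
  have hAirr : IsIrreducible (closure (g '' A)) := (hA.1.image g hg.continuousOn).closure
  have hsub : C ⊆ closure (g '' A) := by
    rw [← hζ.def]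
    exact closure_minimal (Set.singleton_subset_iff.2 hζA) isClosed_closure
  have heq : closure (g '' A) = C := (hC.2 hAirr hsub).antisymm hsub
  obtain ⟨ξ, hξ⟩ := QuasiSober.sober hA.1 (isClosed_of_mem_irreducibleComponents A hA)
  refine ⟨ξ, ?_⟩
  have h1 := hξ.image hg
  rw [← heq]
  exact h1.def

/-- the local ring at a point without proper generizations has dimension at most zero -/
theorem ringKrullDim_stalk_le_zero_of_maximal {W : Scheme.{u}} (t : W)
    (ht : ∀ t' : W, t' ⤳ t → t' = t) : ringKrullDim (W.presheaf.stalk t) ≤ 0 := by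
  rw [← Groth.Agent.Lib.Helper18.JacDim.topologicalKrullDim_generizations_eq_ringKrullDim t]
  haveI : Subsingleton ↥{t' : W | t' ⤳ t} :=
    ⟨fun a b => Subtype.ext ((ht a.1 a.2).trans (ht b.1 b.2).symm)⟩
  haveI : Subsingleton (IrreducibleCloseds ↥{t' : W | t' ⤳ t}) := by
    refine ⟨fun A B => ?_⟩
    apply IrreducibleCloseds.ext
    ext z
    constructor
    · intro _
      obtain ⟨w, hw⟩ := B.isIrreducible.nonempty
      exact (Subsingleton.elim w z) ▸ hw
    · intro _
      obtain ⟨w, hw⟩ := A.isIrreducible.nonempty
      exact (Subsingleton.elim w z) ▸ hw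
  unfold topologicalKrullDim
  exact Order.krullDim_nonpos_of_subsingleton

end Groth.Agent.Lib.Helper14.MovDim
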