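import Mathlib
import Groth.Agent.Lib.Helper14.MovDim1
import Groth.Agent.Lib.Helper18.JacDim8
import Groth.Agent.Lib.Helper10.OrbitDim2
import Groth.Agent.Lib.Helper12.ConstrTop

/-!
# The image of a dominant morphism of finite type to a scheme of finite type over a field has
full dimension
-/

set_option autoImplicit false
set_option linter.style.haveILetI false
set_option linter.unusedSectionVars false
universe u

open AlgebraicGeometry CategoryTheory Limits TopologicalSpace Topology

namespace Groth.Agent.Lib.Helper14.MovDim

open Groth.Agent.Lib.Helper18.JacDim Groth.Agent.Lib.Helper10.OrbitDim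

theorem dim_le_dim_range (k : Type u) [Field k] {S Y : Scheme.{u}}
    (q : Y ⟶ Spec (CommRingCat.of k)) [LocallyOfFiniteType q] [QuasiCompact q]
    (g : S ⟶ Y) [LocallyOfFiniteType g] [QuasiCompact g] [IsDominant g] [IsNoetherian S] :
    topologicalKrullDim Y ≤ topologicalKrullDim ↥(Set.range g) := by
  haveI : IsLocallyNoetherian Y := LocallyOfFiniteType.isLocallyNoetherian q
  haveI : JacobsonSpace Y := LocallyOfFiniteType.jacobsonSpace q
  haveI : CompactSpace Y := QuasiCompact.compactSpace_of_compactSpace q
  haveI : IsNoetherian Y := {}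
  haveI : LocallyOfFinitePresentation g :=
    LocallyOfFinitePresentation.iff_locallyOfFiniteType.mpr inferInstance
  haveI : IsLocallyNoetherian (Spec (CommRingCat.of k)) := inferInstance
  haveI : JacobsonSpace ↥(Spec (CommRingCat.of k)) := inferInstance
  have h2 : ∀ y : Y, CAlg.IsUniversallyCatenary (Y.presheaf.stalk y) := fun y =>
    isUniversallyCatenary_stalk_of_locallyOfFiniteType (field_h2 k) q y
  have h3 := equicodim_of_locallyOfFiniteType (field_h2 k) (field_h3 k) q
  have hE : IsConstructible (Set.range g) := by
    rw [← Set.image_univ]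
    exact g.isConstructible_image IsConstructible.univ
  refine topologicalKrullDim_le_of_components _ fun C hC => ?_
  obtain ⟨s, hs⟩ := exists_closure_eq_of_component g g.continuous g.denseRange C hC
  have hirr : IsIrreducible C := hC.1
  have hgsC : g s ∈ C := by rw [← hs]; exact subset_closure rfl
  have hd : C ⊆ closure (Set.range g ∩ C) := by
    conv_lhs => rw [← hs]
    apply closure_mono
    rw [Set.singleton_subset_iff]
    exact ⟨⟨s, rfl⟩, hgsC⟩
  obtain ⟨U, hU, hne, hUE⟩ := Groth.Agent.Lib.Helper12.exists_open_subset_of_dense hE hirr hd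
  have h5 := topologicalKrullDim_open_inter_closure h2 h3 (g s) U hU (by rw [hs]; exact hne)
  rw [hs] at h5
  rw [← h5]
  exact topologicalKrullDim_mono hUE

end Groth.Agent.Lib.Helper14.MovDim
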