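import Mathlib
import Groth.Agent.Lib.Helper14.MovDim2
import Groth.Agent.Lib.Helper18.FibStalk
import Groth.Agent.Lib.Helper10.OrbitDim3
import Groth.Agent.Lib.Helper29.RegDim1

/-!
# A dimension count: the preimage of a closed subset all of whose points have large codimension
is empty
-/

set_option autoImplicit false
set_option linter.style.haveILetI false
set_option linter.unusedSectionVars false
universe u

open AlgebraicGeometry CategoryTheory Limits TopologicalSpace Topology

namespace Groth.Agent.Lib.Helper14.MovDim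

open Groth.Agent.Lib.Helper18.JacDim Groth.Agent.Lib.Helper10.OrbitDim

theorem main (k : Type u) [Field k] (S X : Scheme.{u})
    (pS : S ⟶ Spec (CommRingCat.of k)) (pX : X ⟶ Spec (CommRingCat.of k))
    [LocallyOfFiniteType pS] [QuasiCompact pS]
    [IsSeparated pX] [LocallyOfFiniteType pX] [QuasiCompact pX]
    (f : S ⟶ X) (hf : f ≫ pX = pS) (Z : Set X) (hZ : IsClosed Z)
    (h : ∀ s : S, f.base s ∈ Z →
      topologicalKrullDim (Set.range f.base) + 1 ≤ ringKrullDim (S.presheaf.stalk s)) :
    f.base ⁻¹' Z = ∅ := by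
  by_contra hne
  obtain ⟨s₀, hs₀⟩ := Set.nonempty_iff_ne_empty.mpr hne
  haveI : LocallyOfFiniteType f := by
    haveI : LocallyOfFiniteType (f ≫ pX) := by rw [hf]; infer_instance
    exact locallyOfFiniteType_of_comp f pX
  haveI : QuasiCompact f := by
    haveI : QuasiCompact (f ≫ pX) := by rw [hf]; infer_instance
    exact QuasiCompact.of_comp f pX
  haveI : IsLocallyNoetherian S := LocallyOfFiniteType.isLocallyNoetherian pS
  haveI : CompactSpace S := QuasiCompact.compactSpace_of_compactSpace pS
  haveI : IsNoetherian S := {}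
  obtain ⟨s, hsT, hmax⟩ := exists_maximal_point (f.base ⁻¹' Z) (hZ.preimage f.continuous) s₀ hs₀
  obtain ⟨g, hg0⟩ : ∃ g, g = f.toImage := ⟨_, rfl⟩
  have hgι : g ≫ f.imageι = f := by rw [hg0]; exact f.toImage_imageι
  haveI : LocallyOfFiniteType g := by
    haveI : LocallyOfFiniteType (g ≫ f.imageι) := by rw [hgι]; infer_instance
    exact locallyOfFiniteType_of_comp g f.imageι
  haveI : QuasiCompact g := by rw [hg0]; infer_instance
  haveI : IsDominant g := by rw [hg0]; infer_instance
  haveI : IsLocallyNoetherian f.image :=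
    LocallyOfFiniteType.isLocallyNoetherian (f.imageι ≫ pX)
  have e1 : ∀ z : S, f z = f.imageι (g z) := fun z =>
    congrArg (fun φ : S ⟶ X => (φ z : X)) hgι.symm
  -- the fibre inequality
  obtain ⟨t, ht⟩ : ∃ t : g.fiber (g s), g.fiberι (g s) t = s :=
    ⟨g.asFiber s, g.fiberι_asFiber s⟩
  have hC := Groth.Agent.Lib.Helper18.FibStalk.ringKrullDim_stalk_le_add_fiber g (g s) t
  rw [ht] at hC
  have hB : ringKrullDim ((g.fiber (g s)).presheaf.stalk t) ≤ 0 := by
    refine ringKrullDim_stalk_le_zero_of_maximal t (fun t' ht' => ?_)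
    have h1 : g.fiberι (g s) t' ⤳ g.fiberι (g s) t := ht'.map (g.fiberι (g s)).continuous
    rw [ht] at h1
    have h2 : g (g.fiberι (g s) t') = g s := by
      have := (g.fiberHomeo (g s) t').2
      rw [Scheme.Hom.fiberHomeo_apply] at this
      exact this
    have h3 : f.base (g.fiberι (g s) t') ∈ Z := by
      have h4 : f (g.fiberι (g s) t') = f s := by
        rw [e1, e1, h2]
      rw [h4]
      exact hsT
    have h5 := hmax _ h3 h1
    apply (g.fiberHomeo (g s)).injective
    apply Subtype.ext
    rw [Scheme.Hom.fiberHomeo_apply, Scheme.Hom.fiberHomeo_apply, h5, ht]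
  have hD := Groth.Agent.Lib.Helper29.QCoh.ringKrullDim_stalk_le_topologicalKrullDim f.image (g s)
  have hE := dim_le_dim_range k (f.imageι ≫ pX) g
  have hF : topologicalKrullDim ↥(Set.range g) = topologicalKrullDim ↥(Set.range f.base) := by
    have hrange : Set.range f.base = f.imageι '' Set.range g := by
      rw [← Set.range_comp]
      congr 1
      funext z
      exact e1 z
    rw [hrange]
    exact (topologicalKrullDim_image_eq f.imageι.isEmbedding (Set.range g)).symm
  have hfin : topologicalKrullDim ↥(Set.range f.base) < ⊤ :=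
    lt_of_le_of_lt (topologicalKrullDim_subspace_le X _) (dim_lt_top pX)
  have hh := h s hsT
  -- combine
  have hb0 : (0 : WithBot ℕ∞) ≤ ringKrullDim (S.presheaf.stalk s) :=
    ringKrullDim_nonneg_of_nontrivial
  have hle : ringKrullDim (S.presheaf.stalk s) ≤ topologicalKrullDim ↥(Set.range f.base) := by
    calc ringKrullDim (S.presheaf.stalk s)
        ≤ ringKrullDim (f.image.presheaf.stalk (g s)) +
            ringKrullDim ((g.fiber (g s)).presheaf.stalk t) := hC
      _ ≤ ringKrullDim (f.image.presheaf.stalk (g s)) + 0 := by gcongr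
      _ = ringKrullDim (f.image.presheaf.stalk (g s)) := add_zero _
      _ ≤ topologicalKrullDim f.image := hD
      _ ≤ topologicalKrullDim ↥(Set.range g) := hE
      _ = topologicalKrullDim ↥(Set.range f.base) := hF
  have h6 : topologicalKrullDim ↥(Set.range f.base) + 1 ≤ topologicalKrullDim ↥(Set.range f.base) :=
    hh.trans hle
  exact lt_irrefl _ (lt_of_add_one_le h6 hfin (hb0.trans hle))

end Groth.Agent.Lib.Helper14.MovDim
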