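import Groth.Agent.Lib.Helper14.ShExactLoc2
import Groth.Agent.Lib27.AltDescend

/-!
# Powers of an object: projections, tuples, and alternating multilinear maps modulo a subgroup
(helper14)
-/

set_option autoImplicit false
universe v' u' u w
open CategoryTheory CategoryTheory.Limits Opposite AlgebraicGeometry MonObj MonoidalCategory
  CartesianMonoidalCategory

namespace Groth.Agent.Lib.Helper14.MultPow

section cat

variable {C : Type u'} [Category.{v'} C] [CartesianMonoidalCategory C] [BraidedCategory C]

/-- the `i`-th projection of a power -/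
def proj (M : C) : {n : ℕ} → Fin n → (MultSch.pow M n ⟶ M)
  | 0, i => i.elim0
  | _ + 1, i => Fin.cases (fst _ _) (fun i' => snd _ _ ≫ proj M i') i

theorem proj_zero (M : C) (n : ℕ) : proj M (0 : Fin (n + 1)) = fst M (MultSch.pow M n) := rfl

theorem proj_succ (M : C) {n : ℕ} (i : Fin n) :
    proj M i.succ = snd M (MultSch.pow M n) ≫ proj M i := by
  cases i
  rfl

theorem tuple_proj {M T : C} : ∀ {n : ℕ} (x : Fin n → (T ⟶ M)) (i : Fin n),
    MultSch.tuple x ≫ proj M i = x i
  | 0, _, i => i.elim0
  | n + 1, x, i => by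
    refine Fin.cases ?_ ?_ i
    · change lift (x 0) _ ≫ fst _ _ = x 0
      rw [lift_fst]
    · intro i'
      rw [proj_succ]
      change lift (x 0) (MultSch.tuple fun i => x i.succ) ≫ (snd _ _ ≫ proj M i') = x i'.succ
      rw [lift_snd_assoc, tuple_proj]

theorem tuple_coord {M T : C} : ∀ {n : ℕ} (a : T ⟶ MultSch.pow M n),
    MultSch.tuple (fun i => a ≫ proj M i) = a
  | 0, a => toUnit_unique _ _
  | n + 1, a => by
    change lift (a ≫ proj M 0) (MultSch.tuple fun i => a ≫ proj M i.succ) = a
    have key : ∀ a' : T ⟶ M ⊗ MultSch.pow M n,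
        lift (a' ≫ fst _ _) (MultSch.tuple fun i => (a' ≫ snd _ _) ≫ proj M i) = a' := by
      intro a'
      apply CartesianMonoidalCategory.hom_ext
      · rw [lift_fst]
      · rw [lift_snd, tuple_coord]
    have e : (fun i : Fin n => a ≫ proj M i.succ) =
        fun i => ((show T ⟶ M ⊗ MultSch.pow M n from a) ≫ snd _ _) ≫ proj M i := by
      funext i
      rw [proj_succ]
      exact (Category.assoc _ _ _).symm
    rw [e]
    exact key a

theorem tuple_injective {M T : C} {n : ℕ} {x x' : Fin n → (T ⟶ M)}
    (h : MultSch.tuple x = MultSch.tuple x') : x = x' := by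
  funext i
  rw [← tuple_proj x i, h, tuple_proj]

/-- the `n`-th power of a morphism -/
def powMap {M M' : C} (π : M ⟶ M') (n : ℕ) : MultSch.pow M n ⟶ MultSch.pow M' n :=
  MultSch.tuple (fun i => proj M i ≫ π)

theorem tuple_powMap {M M' T : C} (π : M ⟶ M') {n : ℕ} (x : Fin n → (T ⟶ M)) :
    MultSch.tuple x ≫ powMap π n = MultSch.tuple (fun l => x l ≫ π) := by
  unfold powMap
  rw [Groth.Agent.Lib27.AltDescend.comp_tuple]
  congr 1
  funext l
  rw [← Category.assoc, tuple_proj]

theorem comp_update {M T T' : C} (g : T' ⟶ T) {n : ℕ} (x : Fin n → (T ⟶ M)) (i : Fin n)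
    (v : T ⟶ M) :
    (fun l => g ≫ Function.update x i v l) = Function.update (fun l => g ≫ x l) i (g ≫ v) :=
  funext fun l => Function.apply_update (fun _ t => g ≫ t) x i v l

theorem update_comp {M M' T : C} (π : M ⟶ M') {n : ℕ} (x : Fin n → (T ⟶ M)) (i : Fin n)
    (v : T ⟶ M) :
    (fun l => Function.update x i v l ≫ π) = Function.update (fun l => x l ≫ π) i (v ≫ π) :=
  funext fun l => Function.apply_update (fun _ t => t ≫ π) x i v l

end cat

section alg

variable {C : Type u'} [Category.{v'} C] [CartesianMonoidalCategory C] [BraidedCategory C]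
variable {M₁ M₂ N : C} [GrpObj M₂] [GrpObj N]

/-- an alternating multilinear map that vanishes when the first coordinate lies in the image of `j`
vanishes when any coordinate does -/
theorem van_of_coord {n : ℕ} (hn : 1 ≤ n) (j : M₁ ⟶ M₂) (φ : MultSch.pow M₂ n ⟶ N)
    (hmult : MultSch.IsMultilinear φ) (halt : MultSch.IsAlternating φ)
    (hvan : ∀ (T : C) (y : T ⟶ M₁) (x : Fin n → (T ⟶ M₂)), x ⟨0, hn⟩ = y ≫ j →
      MultSch.tuple x ≫ φ = 1)
    {T : C} (x : Fin n → (T ⟶ M₂)) (i : Fin n) (y : T ⟶ M₁) (hxi : x i = y ≫ j) :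
    MultSch.tuple x ≫ φ = 1 := by
  classical
  by_cases hi : i = ⟨0, hn⟩
  · subst hi
    exact hvan T y x hxi
  · obtain ⟨o, ho⟩ : ∃ o : Fin n, o = ⟨0, hn⟩ := ⟨_, rfl⟩
    have hoi : o ≠ i := fun h => hi (h.symm.trans ho)
    have hvan' : ∀ (x : Fin n → (T ⟶ M₂)), x o = y ≫ j → MultSch.tuple x ≫ φ = 1 := by
      intro x hx
      exact hvan T y x (ho ▸ hx)
    obtain ⟨a, ha⟩ : ∃ a, a = x o := ⟨_, rfl⟩
    obtain ⟨b, hb⟩ : ∃ b, b = x i := ⟨_, rfl⟩
    have hbj : b = y ≫ j := hb.trans hxi
    have hA : MultSch.tuple (Function.update x o (a * b)) ≫ φ = MultSch.tuple x ≫ φ := by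
      rw [hmult T x o a b, ha, Function.update_eq_self,
        hvan' (Function.update x o b) (by rw [Function.update_self]; exact hbj), _root_.mul_one]
    obtain ⟨x', hx'⟩ : ∃ x', x' = Function.update x o (a * b) := ⟨_, rfl⟩
    have hx'i : x' i = b := by
      rw [hx', Function.update_of_ne hoi.symm, hb]
    have hx'o : x' o = a * b := by
      rw [hx', Function.update_self]
    have h1 : MultSch.tuple (Function.update x' i (a * b)) ≫ φ = 1 :=
      halt T _ o i hoi (by rw [Function.update_of_ne hoi, Function.update_self, hx'o])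
    have h2 : MultSch.tuple (Function.update x' i b) ≫ φ = MultSch.tuple x' ≫ φ := by
      rw [← hx'i, Function.update_eq_self]
    have h3 : MultSch.tuple (Function.update x' i a) ≫ φ = 1 := by
      have e : Function.update x' i a = Function.update (Function.update x i a) o (a * b) := by
        rw [hx']
        exact Function.update_comm hoi (a * b) a x
      rw [e, hmult T (Function.update x i a) o a b,
        halt T (Function.update (Function.update x i a) o a) o i hoi
          (by rw [Function.update_self, Function.update_of_ne hoi.symm, Function.update_self]),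
        hvan' (Function.update (Function.update x i a) o b)
          (by rw [Function.update_self]; exact hbj), _root_.mul_one]
    rw [hmult T x' i a b, h3, h2, _root_.one_mul] at h1
    rw [← hA, ← hx']
    exact h1

theorem tuple_update_mul_j {n : ℕ} (hn : 1 ≤ n) (j : M₁ ⟶ M₂) (φ : MultSch.pow M₂ n ⟶ N)
    (hmult : MultSch.IsMultilinear φ) (halt : MultSch.IsAlternating φ)
    (hvan : ∀ (T : C) (y : T ⟶ M₁) (x : Fin n → (T ⟶ M₂)), x ⟨0, hn⟩ = y ≫ j →
      MultSch.tuple x ≫ φ = 1)
    {T : C} (x : Fin n → (T ⟶ M₂)) (i : Fin n) (y : T ⟶ M₁) :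
    MultSch.tuple (Function.update x i ((y ≫ j) * x i)) ≫ φ = MultSch.tuple x ≫ φ := by
  classical
  rw [hmult T x i (y ≫ j) (x i), Function.update_eq_self,
    van_of_coord hn j φ hmult halt hvan (Function.update x i (y ≫ j)) i y
      (Function.update_self _ _ _), _root_.one_mul]

theorem tuple_congr_mod_j {n : ℕ} (hn : 1 ≤ n) (j : M₁ ⟶ M₂) (φ : MultSch.pow M₂ n ⟶ N)
    (hmult : MultSch.IsMultilinear φ) (halt : MultSch.IsAlternating φ)
    (hvan : ∀ (T : C) (y : T ⟶ M₁) (x : Fin n → (T ⟶ M₂)), x ⟨0, hn⟩ = y ≫ j →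
      MultSch.tuple x ≫ φ = 1)
    {T : C} (x x' : Fin n → (T ⟶ M₂)) (y : Fin n → (T ⟶ M₁))
    (h : ∀ l, x l = (y l ≫ j) * x' l) :
    MultSch.tuple x ≫ φ = MultSch.tuple x' ≫ φ := by
  classical
  have key : ∀ (s : Finset (Fin n)) (x : Fin n → (T ⟶ M₂)),
      (∀ l ∈ s, x l = (y l ≫ j) * x' l) → (∀ l, l ∉ s → x l = x' l) →
      MultSch.tuple x ≫ φ = MultSch.tuple x' ≫ φ := by
    intro s
    induction s using Finset.induction_on with
    | empty =>
      intro x _ h2
      rw [show x = x' from funext fun l => h2 l (Finset.notMem_empty l)]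
    | insert i s' hi ih =>
      intro x h1 h2
      have hxi := h1 i (Finset.mem_insert_self i s')
      have e : Function.update (Function.update x i (x' i)) i
          ((y i ≫ j) * (Function.update x i (x' i)) i) = x := by
        rw [Function.update_self, Function.update_idem, ← hxi, Function.update_eq_self]
      have h3 := tuple_update_mul_j hn j φ hmult halt hvan (Function.update x i (x' i)) i (y i)
      rw [e] at h3
      rw [h3]
      apply ih
      · intro l hl
        have hli : l ≠ i := fun h => hi (h ▸ hl)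
        rw [Function.update_of_ne hli]
        exact h1 l (Finset.mem_insert_of_mem hl)
      · intro l hl
        by_cases hli : l = i
        · subst hli
          rw [Function.update_self]
        · rw [Function.update_of_ne hli]
          exact h2 l (fun hmem => (Finset.mem_insert.mp hmem).elim hli hl)
  exact key Finset.univ x (fun l _ => h l) (fun l hl => absurd (Finset.mem_univ l) hl)

end alg

end Groth.Agent.Lib.Helper14.MultPow
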