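import Groth.Agent.Lib.Helper14.MultPow1

/-!
# Alternating multilinear maps of module schemes factor through a quotient (helper14)
-/

set_option autoImplicit false
universe u w
open CategoryTheory CategoryTheory.Limits Opposite AlgebraicGeometry MonObj MonoidalCategory
  CartesianMonoidalCategory

namespace Groth.Agent.Lib.Helper14.MultPow

open Groth.Agent.Lib.Helper14.ShExactLoc

variable {S : Scheme.{u}} (K : Precoverage Scheme.{u}) [(QuotSh.J K S).Subcanonical]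
variable {M₂ M₃ : Over S} [GrpObj M₂] [IsCommMonObj M₂] [GrpObj M₃] [IsCommMonObj M₃]

/-- simultaneous local lifts of finitely many points -/
theorem exists_cover_lift_tuple (π : M₂ ⟶ M₃) [IsMonHom π] (hepi : Epi (CGrpSh.ptsMap K π))
    {T : Over S} {n : ℕ} (y : Fin n → (T ⟶ M₃)) :
    ∃ R ∈ (QuotSh.J K S) T, ∀ {T' : Over S} (h : T' ⟶ T), R h →
      ∃ x : Fin n → (T' ⟶ M₂), ∀ l, x l ≫ π = h ≫ y l := by
  choose R hR hl using fun l => exists_cover_lift_epi K π hepi (y l)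
  obtain ⟨Q, hQ, hQR⟩ := Groth.Agent.Lib27.AltDescend.exists_covering_inter (QuotSh.J K S) T n R hR
  refine ⟨Q, hQ, ?_⟩
  intro T' h hh
  have := fun l => hl l h (hQR h hh l)
  choose x hx using this
  exact ⟨x, hx⟩

variable {M₁ N : Over S} [GrpObj M₁] [IsCommMonObj M₁] [GrpObj N] [IsCommMonObj N]

open Groth.Agent.Lib27.AltDescend in
theorem alt_factor {R : Type w} [CommRing R]
    (ρ₂ : MultSch.RMod R M₂) (ρ₃ : MultSch.RMod R M₃) (ρN : MultSch.RMod R N)
    (j : M₁ ⟶ M₂) (π : M₂ ⟶ M₃) [IsMonHom j] [IsMonHom π]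
    (hπ : ∀ a : R, π ≫ ρ₃.act a = ρ₂.act a ≫ π)
    (w : j ≫ π = 1) (hex : (CGrpSh.seq Scheme.fppfPrecoverage j π w).Exact)
    (hepi : Epi (CGrpSh.ptsMap Scheme.fppfPrecoverage π))
    {n : ℕ} (hn : 1 ≤ n) (φ : MultSch.pow M₂ n ⟶ N)
    (hmult : MultSch.IsMultilinear φ) (hlin : MultSch.IsRLinear ρ₂ ρN φ)
    (halt : MultSch.IsAlternating φ)
    (hvan : ∀ (T : Over S) (y : T ⟶ M₁) (x : Fin n → (T ⟶ M₂)), x ⟨0, hn⟩ = y ≫ j →
      MultSch.tuple x ≫ φ = 1) :
    ∃ φ' : MultSch.pow M₃ n ⟶ N,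
      (∀ (T : Over S) (x : Fin n → (T ⟶ M₂)),
        MultSch.tuple x ≫ φ = MultSch.tuple (fun l => x l ≫ π) ≫ φ') ∧
      MultSch.IsMultilinear φ' ∧ MultSch.IsRLinear ρ₃ ρN φ' ∧ MultSch.IsAlternating φ' ∧
      ∀ φ'' : MultSch.pow M₃ n ⟶ N,
        (∀ (T : Over S) (x : Fin n → (T ⟶ M₂)),
          MultSch.tuple x ≫ φ = MultSch.tuple (fun l => x l ≫ π) ≫ φ'') → φ'' = φ' := by
  classical
  have hq : ∀ l, powMap π n ≫ proj M₃ l = proj M₂ l ≫ π := fun l => tuple_proj _ l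
  -- fibre-constancy
  have hfib : ∀ {T : Over S} (a₁ a₂ : T ⟶ MultSch.pow M₂ n),
      a₁ ≫ powMap π n = a₂ ≫ powMap π n → a₁ ≫ φ = a₂ ≫ φ := by
    intro T a₁ a₂ h12
    have hc : ∀ l, (a₁ ≫ proj M₂ l) ≫ π = (a₂ ≫ proj M₂ l) ≫ π := by
      intro l
      have := congrArg (fun t => t ≫ proj M₃ l) h12
      simpa only [Category.assoc, hq] using this
    choose R₁ hR₁ hl₁ using fun l => exists_cover_diff Scheme.fppfPrecoverage j π w hex
      (a₁ ≫ proj M₂ l) (a₂ ≫ proj M₂ l) (hc l)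
    obtain ⟨Q, hQ, hQR⟩ := exists_covering_inter (QuotSh.J Scheme.fppfPrecoverage S) T n R₁ hR₁
    refine ext_of_cover Scheme.fppfPrecoverage hQ _ _ ?_
    intro T' g hg
    have := fun l => hl₁ l g (hQR g hg l)
    choose y hy using this
    have e1 : g ≫ a₁ = MultSch.tuple (fun l => g ≫ a₁ ≫ proj M₂ l) := by
      rw [← comp_tuple, tuple_coord]
    have e2 : g ≫ a₂ = MultSch.tuple (fun l => g ≫ a₂ ≫ proj M₂ l) := by
      rw [← comp_tuple, tuple_coord]
    rw [← Category.assoc, ← Category.assoc, e1, e2]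
    exact tuple_congr_mod_j hn j φ hmult halt hvan _ _ y hy
  obtain ⟨R₀, hR₀, hl₀⟩ := exists_cover_lift_tuple Scheme.fppfPrecoverage π hepi
    (fun l => proj M₃ l)
  obtain ⟨φ', hφ', huniq⟩ := descend (QuotSh.J Scheme.fppfPrecoverage S)
    (isSheaf_yoneda Scheme.fppfPrecoverage N) (powMap π n) φ R₀ hR₀
    (by
      intro T h hh
      obtain ⟨x, hx⟩ := hl₀ h hh
      refine ⟨MultSch.tuple x, ?_⟩
      rw [tuple_powMap, show (fun l => x l ≫ π) = fun l => h ≫ proj M₃ l from funext hx,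
        tuple_coord])
    hfib
  have hφ'2 : ∀ {T : Over S} (x : Fin n → (T ⟶ M₂)),
      MultSch.tuple (fun l => x l ≫ π) ≫ φ' = MultSch.tuple x ≫ φ := by
    intro T x
    rw [← tuple_powMap, Category.assoc, hφ']
  refine ⟨φ', fun T x => (hφ'2 x).symm, ?_, ?_, ?_, ?_⟩
  · intro T x i u v
    obtain ⟨R₁, hR₁, hl₁⟩ := exists_cover_lift_tuple Scheme.fppfPrecoverage π hepi x
    obtain ⟨R₂, hR₂, hl₂⟩ := exists_cover_lift_epi Scheme.fppfPrecoverage π hepi u
    obtain ⟨R₃, hR₃, hl₃⟩ := exists_cover_lift_epi Scheme.fppfPrecoverage π hepi v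
    refine ext_of_cover Scheme.fppfPrecoverage
      ((QuotSh.J Scheme.fppfPrecoverage S).intersection_covering hR₁
        ((QuotSh.J Scheme.fppfPrecoverage S).intersection_covering hR₂ hR₃)) _ _ ?_
    intro T' g hg
    obtain ⟨x₀, hx₀⟩ := hl₁ g hg.1
    obtain ⟨u₀, hu₀⟩ := hl₂ g hg.2.1
    obtain ⟨v₀, hv₀⟩ := hl₃ g hg.2.2
    rw [MonObj.comp_mul, ← Category.assoc, ← Category.assoc, ← Category.assoc, comp_tuple,
      comp_tuple, comp_tuple, comp_update, comp_update, comp_update, MonObj.comp_mul, ← hu₀,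
      ← hv₀, ← MonObj.mul_comp, ← funext hx₀, ← update_comp, ← update_comp, ← update_comp,
      hφ'2, hφ'2, hφ'2]
    exact hmult T' x₀ i u₀ v₀
  · intro T x i a
    obtain ⟨R₁, hR₁, hl₁⟩ := exists_cover_lift_tuple Scheme.fppfPrecoverage π hepi x
    refine ext_of_cover Scheme.fppfPrecoverage hR₁ _ _ ?_
    intro T' g hg
    obtain ⟨x₀, hx₀⟩ := hl₁ g hg
    rw [← Category.assoc, ← Category.assoc g, ← Category.assoc g, comp_tuple, comp_tuple,
      comp_update, ← Category.assoc g, ← funext hx₀, ← hx₀ i, Category.assoc (x₀ i), hπ a,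
      ← Category.assoc (x₀ i), ← update_comp, hφ'2, hφ'2]
    exact hlin T' x₀ i a
  · exact Groth.Agent.Lib27.AltDescend.main π hepi φ' (by
      intro T x i j hij hxij
      rw [hφ'2]
      exact halt T x i j hij hxij)
  · intro φ'' hφ''
    apply huniq
    have h1 := hφ'' (MultSch.pow M₂ n) (fun l => proj M₂ l)
    have e : MultSch.tuple (fun l => proj M₂ l) = 𝟙 (MultSch.pow M₂ n) := by
      have := tuple_coord (𝟙 (MultSch.pow M₂ n))
      simpa only [Category.id_comp] using this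
    rw [e, Category.id_comp] at h1
    exact h1.symm

end Groth.Agent.Lib.Helper14.MultPow
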