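import Mathlib

/-!
# Néron local-global: translating `Over.pullback` bijectivity (helper14)
-/

set_option autoImplicit false
universe u
open CategoryTheory CategoryTheory.Limits AlgebraicGeometry

namespace Groth.Agent.Lib.Helper14.NeronLG

variable {S T : Scheme.{u}} (j : T ⟶ S) (Y G : Over S)

theorem pullback_map_left_fst (g : Y ⟶ G) :
    ((Over.pullback j).map g).left ≫ pullback.fst G.hom j = pullback.fst Y.hom j ≫ g.left :=
  pullback.lift_fst _ _ _

theorem pullback_map_left_snd (g : Y ⟶ G) :
    ((Over.pullback j).map g).left ≫ pullback.snd G.hom j = pullback.snd Y.hom j :=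
  pullback.lift_snd _ _ _

/-- The extension property. -/
def ExtProp {Y G S T : Scheme.{u}} (q : Y ⟶ S) (γ : G ⟶ S) (j : T ⟶ S) : Prop :=
  ∀ u : pullback q j ⟶ G, u ≫ γ = pullback.fst q j ≫ q →
    ∃! v : Y ⟶ G, v ≫ γ = q ∧ pullback.fst q j ≫ v = u

theorem extProp_of_bijective
    (h : Function.Bijective (fun g : Y ⟶ G => (Over.pullback j).map g)) :
    ExtProp Y.hom G.hom j := by
  intro u hu
  let h0 : (Over.pullback j).obj Y ⟶ (Over.pullback j).obj G :=
    Over.homMk (pullback.lift u (pullback.snd Y.hom j) (by rw [hu, pullback.condition]))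
      (pullback.lift_snd _ _ _)
  obtain ⟨g, hg⟩ := h.2 h0
  have hg' : (Over.pullback j).map g = h0 := hg
  refine ⟨g.left, ⟨Over.w g, ?_⟩, ?_⟩
  · rw [← pullback_map_left_fst, hg']
    exact pullback.lift_fst _ _ _
  · rintro v' ⟨hv1, hv2⟩
    let g' : Y ⟶ G := Over.homMk v' hv1
    have e : (Over.pullback j).map g' = h0 := by
      ext
      apply pullback.hom_ext
      · rw [pullback_map_left_fst]
        exact hv2.trans (pullback.lift_fst _ _ _).symm
      · rw [pullback_map_left_snd]
        exact (pullback.lift_snd _ _ _).symm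
    have : g' = g := h.1 (e.trans hg'.symm)
    rw [← this]
    rfl

theorem bijective_of_extProp (h : ExtProp Y.hom G.hom j) :
    Function.Bijective (fun g : Y ⟶ G => (Over.pullback j).map g) := by
  constructor
  · intro g1 g2 hg
    have hg' : (Over.pullback j).map g1 = (Over.pullback j).map g2 := hg
    have e : pullback.fst Y.hom j ≫ g1.left = pullback.fst Y.hom j ≫ g2.left := by
      rw [← pullback_map_left_fst, ← pullback_map_left_fst, hg']
    obtain ⟨v, -, hv⟩ := h (pullback.fst Y.hom j ≫ g1.left) (by rw [Category.assoc, Over.w g1])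
    have e1 := hv g1.left ⟨Over.w g1, rfl⟩
    have e2 := hv g2.left ⟨Over.w g2, e.symm⟩
    ext
    rw [e1, e2]
  · intro h0
    have hw : h0.left ≫ pullback.snd G.hom j = pullback.snd Y.hom j := Over.w h0
    obtain ⟨v, ⟨hv1, hv2⟩, -⟩ := h (h0.left ≫ pullback.fst G.hom j) (by
      rw [Category.assoc, pullback.condition, ← Category.assoc, hw, pullback.condition])
    refine ⟨Over.homMk v hv1, ?_⟩
    change (Over.pullback j).map (Over.homMk v hv1) = h0
    ext
    apply pullback.hom_ext
    · rw [pullback_map_left_fst]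
      simpa using hv2
    · rw [pullback_map_left_snd, hw]

/-- The extension property for a base change of `G`, expressed on `G`. -/
theorem exists_ext_of_extProp_pullback {S S' T Y' G : Scheme.{u}} (γ : G ⟶ S) (jp : S' ⟶ S)
    (sp : T ⟶ S') (q : Y' ⟶ S') (h : ExtProp q (pullback.snd γ jp) sp)
    (u : pullback q sp ⟶ G) (hu : u ≫ γ = pullback.fst q sp ≫ q ≫ jp) :
    ∃ v : Y' ⟶ G, v ≫ γ = q ≫ jp ∧ pullback.fst q sp ≫ v = u := by
  obtain ⟨v', ⟨hv1, hv2⟩, -⟩ := h (pullback.lift u (pullback.fst q sp ≫ q)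
    (by rw [hu, Category.assoc])) (pullback.lift_snd _ _ _)
  refine ⟨v' ≫ pullback.fst γ jp, ?_, ?_⟩
  · rw [Category.assoc, pullback.condition, ← Category.assoc, hv1]
  · rw [← Category.assoc, hv2, pullback.lift_fst]

end Groth.Agent.Lib.Helper14.NeronLG
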