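import Groth.Agent.Lib.Helper14.NeronLG1
import Groth.Agent.Lib.Helper14.ReducedEtale

/-!
# Néron local-global: uniqueness (helper14)
-/

set_option autoImplicit false
universe u
open CategoryTheory CategoryTheory.Limits AlgebraicGeometry

namespace Groth.Agent.Lib.Helper14.NeronLG

theorem isDominant_snd {P Y S T : Scheme.{u}} [IsIntegral S] (q : Y ⟶ S) (jη : T ⟶ S)
    (hη : genericPoint S ∈ Set.range jη) (jP : P ⟶ Y) [UniversallyOpen (jP ≫ q)] :
    IsDominant (pullback.snd (pullback.fst q jη) jP) := by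
  rw [isDominant_iff, DenseRange, Scheme.Pullback.range_snd, Scheme.Pullback.range_fst]
  have hd : Dense ({genericPoint S} : Set S) := by
    rw [dense_iff_closure_eq]
    exact (genericPoint_spec S).def
  have h1 : Dense ((jP ≫ q) ⁻¹' {genericPoint S}) := hd.preimage (jP ≫ q).isOpenMap
  refine h1.mono ?_
  intro x hx
  have hx' : (jP ≫ q) x = genericPoint S := hx
  change q (jP x) ∈ Set.range jη
  rw [← Scheme.Hom.comp_apply, hx']
  exact hη

theorem uniq {P Y S T G : Scheme.{u}} [IsIntegral S] (q : Y ⟶ S) (γ : G ⟶ S) [IsSeparated γ]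
    (jη : T ⟶ S) (hη : genericPoint S ∈ Set.range jη) (u : pullback q jη ⟶ G) (jP : P ⟶ Y)
    [Smooth (jP ≫ q)] (v1 v2 : P ⟶ G) (h1 : v1 ≫ γ = jP ≫ q) (h2 : v2 ≫ γ = jP ≫ q)
    (c1 : pullback.fst (pullback.fst q jη) jP ≫ u = pullback.snd (pullback.fst q jη) jP ≫ v1)
    (c2 : pullback.fst (pullback.fst q jη) jP ≫ u = pullback.snd (pullback.fst q jη) jP ≫ v2) :
    v1 = v2 := by
  have : IsReduced P := Groth.Agent.Lib.Helper14.isReduced_of_smooth_scheme (jP ≫ q)
  have := isDominant_snd q jη hη jP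
  exact ext_of_isDominant_of_isSeparated γ (h1.trans h2.symm)
    (pullback.snd (pullback.fst q jη) jP) (c1.symm.trans c2)

end Groth.Agent.Lib.Helper14.NeronLG
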