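import Groth.Agent.Lib.Helper14.NeronLG2
import Groth.Agent.Lib.Helper10.FibreProductStalk

/-!
# Néron local-global: local existence (helper14)
-/

set_option autoImplicit false
universe u
open CategoryTheory CategoryTheory.Limits AlgebraicGeometry

namespace Groth.Agent.Lib.Helper14.NeronLG

/-- Compatibility of a local extension with `u`. -/
def Compat {P Y S T G : Scheme.{u}} (q : Y ⟶ S) (jη : T ⟶ S) (u : pullback q jη ⟶ G)
    (jP : P ⟶ Y) (v : P ⟶ G) : Prop :=
  pullback.fst (pullback.fst q jη) jP ≫ u = pullback.snd (pullback.fst q jη) jP ≫ v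

/-- the map from the spectrum of the local ring into an affine open with injective germ map is
scheme theoretically dominant. -/
theorem dominant_fromSpecStalkOfMem {Y : Scheme.{u}} (V : Y.Opens) (hV : IsAffineOpen V) (y : Y)
    (hyV : y ∈ V) (hinj : Function.Injective (Y.presheaf.germ V y hyV)) :
    IsSchemeTheoreticallyDominant (V.fromSpecStalkOfMem y hyV) := by
  have : IsAffine V := hV
  have e : V.fromSpecStalkOfMem y hyV ≫ V.toSpecΓ = Spec.map (Y.presheaf.germ V y hyV) :=
    Scheme.Opens.fromSpecStalkOfMem_toSpecΓ V y hyV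
  have h1 : IsSchemeTheoreticallyDominant (Spec.map (Y.presheaf.germ V y hyV)) := by
    constructor
    apply Scheme.IdealSheafData.ext_of_isAffine
    rw [Scheme.Hom.ker_apply]
    simp only [Scheme.IdealSheafData.ideal_bot, Pi.bot_apply]
    rw [← RingHom.injective_iff_ker_eq_bot]
    have hn := Scheme.ΓSpecIso_naturality (Y.presheaf.germ V y hyV)
    have h2 : (Spec.map (Y.presheaf.germ V y hyV)).appTop =
        (Scheme.ΓSpecIso _).hom ≫ Y.presheaf.germ V y hyV ≫ (Scheme.ΓSpecIso _).inv := by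
      rw [← Category.assoc, ← hn, Category.assoc, Iso.hom_inv_id, Category.comp_id]
    change Function.Injective (Spec.map (Y.presheaf.germ V y hyV)).appTop.hom
    rw [h2]
    simp only [CommRingCat.hom_comp, RingHom.coe_comp]
    exact ((ConcreteCategory.bijective_of_isIso (Scheme.ΓSpecIso _).inv).1.comp hinj).comp
      (ConcreteCategory.bijective_of_isIso (Scheme.ΓSpecIso _).hom).1
  have hiso : IsIso V.toSpecΓ := by
    rw [← hV.isoSpec_hom]
    infer_instance
  have h3 : V.fromSpecStalkOfMem y hyV =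
      Spec.map (Y.presheaf.germ V y hyV) ≫ inv V.toSpecΓ := by
    rw [← e, Category.assoc, IsIso.hom_inv_id, Category.comp_id]
  rw [h3]
  infer_instance

set_option backward.isDefEq.respectTransparency.types false in
theorem local_exists_aux {S Y G T Sp : Scheme.{u}} (q : Y ⟶ S)
    [Smooth q] (γ : G ⟶ S) [LocallyOfFiniteType γ] [IsSeparated γ]
    (jη : T ⟶ S) [Flat jη] [IsReduced T] (jp : Sp ⟶ S) [Mono jp] (sp : T ⟶ Sp)
    (hsp : sp ≫ jp = jη)
    (u : pullback q jη ⟶ G)
    (hu : u ≫ γ = pullback.fst q jη ≫ q)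
    (Hp : ∀ (Y' : Scheme.{u}) (q' : Y' ⟶ Sp), Smooth q' →
      ∀ u' : pullback q' sp ⟶ G,
        u' ≫ γ = pullback.fst q' sp ≫ q' ≫ jp →
        ∃ v : Y' ⟶ G, v ≫ γ = q' ≫ jp ∧ pullback.fst q' sp ≫ v = u')
    (y : Y) [Y.IsGermInjectiveAt y] (ζ : Spec (Y.presheaf.stalk y) ⟶ Sp)
    (hθ : Y.fromSpecStalk y ≫ q = ζ ≫ jp) :
    ∃ (V : Y.Opens) (v : V.toScheme ⟶ G), y ∈ V ∧ v ≫ γ = V.ι ≫ q ∧
      Compat q jη u V.ι v := by
  set π := pullback.fst q jη with hπ
  -- the base change to the local ring at `p`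
  let qp := pullback.snd q jp
  have hqp : Smooth qp := inferInstance
  have hκ : (pullback.fst qp sp ≫ pullback.fst q jp) ≫ q = pullback.snd qp sp ≫ jη := by
    rw [Category.assoc, pullback.condition, ← Category.assoc, pullback.condition, Category.assoc,
      hsp]
  let κ : pullback qp sp ⟶ pullback q jη :=
    pullback.lift (pullback.fst qp sp ≫ pullback.fst q jp) (pullback.snd qp sp) hκ
  have hκ1 : κ ≫ π = pullback.fst qp sp ≫ pullback.fst q jp := pullback.lift_fst _ _ _
  have hκ2 : κ ≫ pullback.snd q jη = pullback.snd qp sp := pullback.lift_snd _ _ _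
  obtain ⟨vp, hvp1, hvp2⟩ := Hp _ qp hqp (κ ≫ u) (by
    rw [Category.assoc, hu, ← Category.assoc, hκ1, Category.assoc, pullback.condition])
  -- the local ring of `y`
  let θ : Spec (Y.presheaf.stalk y) ⟶ pullback q jp :=
    pullback.lift (Y.fromSpecStalk y) ζ hθ
  have hθ1 : θ ≫ pullback.fst q jp = Y.fromSpecStalk y := pullback.lift_fst _ _ _
  have hθ2 : θ ≫ qp = ζ := pullback.lift_snd _ _ _
  have hlam : (θ ≫ vp) ≫ γ = Y.fromSpecStalk y ≫ q := by
    rw [Category.assoc, hvp1, ← Category.assoc, hθ2, ← hθ]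
  obtain ⟨U, hyU, f, hf1, hf2⟩ := spread_out_of_isGermInjective' q γ (θ ≫ vp) hlam
  obtain ⟨V, hyV, hV, hVU, hinj⟩ := Y.exists_le_and_germ_injective y U hyU
  let v : V.toScheme ⟶ G := Y.homOfLE hVU ≫ f
  have hv1 : v ≫ γ = V.ι ≫ q := by
    rw [Category.assoc, hf2, ← Category.assoc, Scheme.homOfLE_ι]
  refine ⟨V, v, hyV, hv1, ?_⟩
  -- compatibility
  let σ := V.fromSpecStalkOfMem y hyV
  have hσ : σ ≫ V.ι = Y.fromSpecStalk y := Scheme.Opens.fromSpecStalkOfMem_ι V y hyV
  have hσv : σ ≫ v = θ ≫ vp := by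
    rw [hf1]
    rw [← Category.assoc]
    congr 1
    rw [← cancel_mono U.ι, Category.assoc, Scheme.homOfLE_ι, hσ,
      Scheme.Opens.fromSpecStalkOfMem_ι]
  let pV := pullback.snd π V.ι
  have hπfl : Flat π := inferInstance
  have hpVfl : Flat pV := inferInstance
  have hσdom : IsSchemeTheoreticallyDominant σ := dominant_fromSpecStalkOfMem V hV y hyV hinj
  have : IsAffine V := hV
  have hσqc : QuasiCompact σ := inferInstance
  have hdom : IsSchemeTheoreticallyDominant (pullback.snd σ pV) := inferInstance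
  have hqc : QuasiCompact (pullback.snd σ pV) := inferInstance
  have hdom' : IsDominant (pullback.snd σ pV) := inferInstance
  -- reducedness of the source
  have hredYη : IsReduced (pullback q jη) :=
    Groth.Agent.Lib.Helper14.isReduced_of_smooth_scheme (pullback.snd q jη)
  have hredVη : IsReduced (pullback π V.ι) := isReduced_of_isOpenImmersion (pullback.fst π V.ι)
  -- the two maps agree over `S`
  have hab : (pullback.fst π V.ι ≫ u) ≫ γ = (pullback.snd π V.ι ≫ v) ≫ γ := by
    rw [Category.assoc, hu, Category.assoc, hv1, ← Category.assoc, ← Category.assoc,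
      pullback.condition]
  -- the map `τ`
  have hτc : (pullback.fst σ pV ≫ θ) ≫ qp =
      (pullback.snd σ pV ≫ pullback.fst π V.ι ≫ pullback.snd q jη) ≫ sp := by
    rw [← cancel_mono jp]
    have e1 : ((pullback.fst σ pV ≫ θ) ≫ qp) ≫ jp = pullback.fst σ pV ≫ Y.fromSpecStalk y ≫ q := by
      rw [Category.assoc, Category.assoc, ← pullback.condition (f := q) (g := jp),
        ← Category.assoc θ, hθ1]
    have e2 : ((pullback.snd σ pV ≫ pullback.fst π V.ι ≫ pullback.snd q jη) ≫ sp) ≫ jp =
        pullback.fst σ pV ≫ Y.fromSpecStalk y ≫ q := by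
      rw [Category.assoc, Category.assoc, Category.assoc, hsp,
        ← pullback.condition (f := q) (g := jη), ← Category.assoc (pullback.fst π V.ι),
        pullback.condition (f := π) (g := V.ι), Category.assoc, ← Category.assoc,
        ← pullback.condition (f := σ) (g := pV), Category.assoc, ← Category.assoc σ, hσ]
    rw [e1, e2]
  let τ : pullback σ pV ⟶ pullback qp sp :=
    pullback.lift (pullback.fst σ pV ≫ θ)
      (pullback.snd σ pV ≫ pullback.fst π V.ι ≫ pullback.snd q jη) hτc
  have hτ1 : τ ≫ pullback.fst qp sp = pullback.fst σ pV ≫ θ := pullback.lift_fst _ _ _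
  have hτ2 : τ ≫ pullback.snd qp sp =
      pullback.snd σ pV ≫ pullback.fst π V.ι ≫ pullback.snd q jη := pullback.lift_snd _ _ _
  have hτκ : τ ≫ κ = pullback.snd σ pV ≫ pullback.fst π V.ι := by
    apply pullback.hom_ext
    · rw [Category.assoc, hκ1, ← Category.assoc, hτ1, Category.assoc, hθ1, Category.assoc,
        pullback.condition (f := π) (g := V.ι), ← Category.assoc,
        ← pullback.condition (f := σ) (g := pV), Category.assoc, hσ]
    · rw [Category.assoc, hκ2, hτ2, Category.assoc]
  have hagree : pullback.snd σ pV ≫ (pullback.fst π V.ι ≫ u) =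
      pullback.snd σ pV ≫ (pullback.snd π V.ι ≫ v) := by
    have e1 : pullback.snd σ pV ≫ (pullback.snd π V.ι ≫ v) = pullback.fst σ pV ≫ θ ≫ vp := by
      rw [← Category.assoc, ← pullback.condition (f := σ) (g := pV), Category.assoc, hσv]
    have e2 : pullback.snd σ pV ≫ (pullback.fst π V.ι ≫ u) = pullback.fst σ pV ≫ θ ≫ vp := by
      rw [← Category.assoc, ← hτκ, Category.assoc, ← hvp2, ← Category.assoc τ, hτ1, Category.assoc]
    rw [e1, e2]
  exact ext_of_isDominant_of_isSeparated γ hab (pullback.snd σ pV) hagree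

end Groth.Agent.Lib.Helper14.NeronLG
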