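import Groth.Agent.Lib.Helper14.NeronLG3

/-!
# Néron local-global: gluing and the main theorem (helper14)
-/

set_option autoImplicit false
universe u
open CategoryTheory CategoryTheory.Limits AlgebraicGeometry

namespace Groth.Agent.Lib.Helper14.NeronLG

theorem Compat.comp {P P' Y S T G : Scheme.{u}} {q : Y ⟶ S} {jη : T ⟶ S} {u : pullback q jη ⟶ G}
    {jP : P ⟶ Y} {v : P ⟶ G} (h : Compat q jη u jP v) (j' : P' ⟶ P) :
    Compat q jη u (j' ≫ jP) (j' ≫ v) := by
  unfold Compat at h ⊢
  let m : pullback (pullback.fst q jη) (j' ≫ jP) ⟶ pullback (pullback.fst q jη) jP :=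
    pullback.lift (pullback.fst _ _) (pullback.snd _ _ ≫ j') (by
      rw [Category.assoc, pullback.condition])
  have h1 : m ≫ pullback.fst _ _ = pullback.fst _ _ := pullback.lift_fst _ _ _
  have h2 : m ≫ pullback.snd _ _ = pullback.snd _ _ ≫ j' := pullback.lift_snd _ _ _
  rw [← h1, Category.assoc, h, ← Category.assoc, h2, Category.assoc]

set_option backward.isDefEq.respectTransparency.types false in
theorem local_exists {S Y G : Scheme.{u}} [IsIntegral S] [IsLocallyNoetherian S] (q : Y ⟶ S)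
    [Smooth q] (γ : G ⟶ S) [LocallyOfFiniteType γ] [IsSeparated γ]
    (u : pullback q (S.fromSpecStalk (genericPoint S)) ⟶ G)
    (hu : u ≫ γ = pullback.fst q (S.fromSpecStalk (genericPoint S)) ≫ q) (p : S)
    (Hp : ∀ (Y' : Scheme.{u}) (q' : Y' ⟶ Spec (S.presheaf.stalk p)), Smooth q' →
      ∀ u' : pullback q' (Spec.map (S.presheaf.stalkSpecializes (genericPoint_specializes p))) ⟶ G,
        u' ≫ γ = pullback.fst q' _ ≫ q' ≫ S.fromSpecStalk p →
        ∃ v : Y' ⟶ G, v ≫ γ = q' ≫ S.fromSpecStalk p ∧ pullback.fst q' _ ≫ v = u')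
    (y : Y) (hyp : q y ⤳ p) :
    ∃ (V : Y.Opens) (v : V.toScheme ⟶ G), y ∈ V ∧ v ≫ γ = V.ι ≫ q ∧
      Compat q (S.fromSpecStalk (genericPoint S)) u V.ι v := by
  have : Flat (S.fromSpecStalk (genericPoint S)) :=
    Groth.Agent.Lib.Helper10.FibreProductStalk.flat_fromSpecStalk S _
  have : IsReduced (Spec (S.presheaf.stalk (genericPoint S))) := by
    have : IsDomain (S.presheaf.stalk (genericPoint S)) := inferInstance
    infer_instance
  have : IsLocallyNoetherian Y := LocallyOfFiniteType.isLocallyNoetherian q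
  have hθ : Y.fromSpecStalk y ≫ q =
      (Spec.map (q.stalkMap y) ≫ Spec.map (S.presheaf.stalkSpecializes hyp)) ≫
        S.fromSpecStalk p := by
    rw [Category.assoc, Scheme.SpecMap_stalkSpecializes_fromSpecStalk,
      Scheme.SpecMap_stalkMap_fromSpecStalk]
  exact local_exists_aux q γ (S.fromSpecStalk (genericPoint S)) (S.fromSpecStalk p)
    (Spec.map (S.presheaf.stalkSpecializes (genericPoint_specializes p)))
    (Scheme.SpecMap_stalkSpecializes_fromSpecStalk _) u hu Hp y _ hθ

set_option backward.isDefEq.respectTransparency.types false in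
theorem extProp_of_local {S Y G : Scheme.{u}} [IsIntegral S] [IsLocallyNoetherian S]
    [CompactSpace S] (q : Y ⟶ S) [Smooth q] (γ : G ⟶ S) [LocallyOfFiniteType γ] [IsSeparated γ]
    (Hp : ∀ p : S, IsClosed ({p} : Set S) →
      ∀ (Y' : Scheme.{u}) (q' : Y' ⟶ Spec (S.presheaf.stalk p)), Smooth q' →
      ∀ u' : pullback q' (Spec.map (S.presheaf.stalkSpecializes (genericPoint_specializes p))) ⟶ G,
        u' ≫ γ = pullback.fst q' _ ≫ q' ≫ S.fromSpecStalk p →
        ∃ v : Y' ⟶ G, v ≫ γ = q' ≫ S.fromSpecStalk p ∧ pullback.fst q' _ ≫ v = u') :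
    ExtProp q γ (S.fromSpecStalk (genericPoint S)) := by
  intro u hu
  have hη : genericPoint S ∈ Set.range (S.fromSpecStalk (genericPoint S)) :=
    ⟨IsLocalRing.closedPoint _, Scheme.fromSpecStalk_closedPoint⟩
  have hloc : ∀ y : Y, ∃ (V : Y.Opens) (v : V.toScheme ⟶ G), y ∈ V ∧ v ≫ γ = V.ι ≫ q ∧
      Compat q (S.fromSpecStalk (genericPoint S)) u V.ι v := by
    intro y
    obtain ⟨p, hp1, hp2⟩ := IsClosed.exists_closed_singleton (isClosed_closure (s := {q y}))
      ⟨q y, subset_closure rfl⟩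
    exact local_exists q γ u hu p (Hp p hp2) y (specializes_iff_mem_closure.2 hp1)
  choose V v hyV hv1 hv2 using hloc
  have hcov : TopologicalSpace.IsOpenCover V := by
    rw [TopologicalSpace.IsOpenCover, eq_top_iff]
    intro y _
    exact TopologicalSpace.Opens.mem_iSup.2 ⟨y, hyV y⟩
  let 𝒰 := Y.openCoverOfIsOpenCover V hcov
  have hglue : ∀ y y' : Y, pullback.fst (𝒰.f y) (𝒰.f y') ≫ v y =
      pullback.snd (𝒰.f y) (𝒰.f y') ≫ v y' := by
    intro y y'
    have e : pullback.fst (V y).ι (V y').ι ≫ (V y).ι = pullback.snd (V y).ι (V y').ι ≫ (V y').ι :=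
      pullback.condition
    have hsm : Smooth ((pullback.fst (V y).ι (V y').ι ≫ (V y).ι) ≫ q) := inferInstance
    have c2 := (hv2 y').comp (pullback.snd (V y).ι (V y').ι)
    rw [← e] at c2
    have h1 : (pullback.fst (V y).ι (V y').ι ≫ v y) ≫ γ =
        (pullback.fst (V y).ι (V y').ι ≫ (V y).ι) ≫ q := by
      rw [Category.assoc, hv1, Category.assoc]
    have h2 : (pullback.snd (V y).ι (V y').ι ≫ v y') ≫ γ =
        (pullback.fst (V y).ι (V y').ι ≫ (V y).ι) ≫ q := by
      rw [Category.assoc, hv1, ← Category.assoc, ← e]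
    exact uniq q γ (S.fromSpecStalk (genericPoint S)) hη u
      (pullback.fst (V y).ι (V y').ι ≫ (V y).ι) _ _ h1 h2
      ((hv2 y).comp (pullback.fst (V y).ι (V y').ι)) c2
  let w : Y ⟶ G := 𝒰.glueMorphisms v hglue
  have hw : ∀ y, (V y).ι ≫ w = v y := fun y => 𝒰.ι_glueMorphisms v hglue y
  have hw1 : w ≫ γ = q := by
    refine 𝒰.hom_ext _ _ fun y => ?_
    change (V y).ι ≫ w ≫ γ = (V y).ι ≫ q
    rw [← Category.assoc, hw, hv1]
  have hw2 : pullback.fst q (S.fromSpecStalk (genericPoint S)) ≫ w = u := by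
    refine Scheme.Cover.hom_ext (𝒰.pullback₁ (pullback.fst q (S.fromSpecStalk (genericPoint S))))
      _ _ fun y => ?_
    change pullback.fst (pullback.fst q (S.fromSpecStalk (genericPoint S))) (V y).ι ≫ _ =
      pullback.fst (pullback.fst q (S.fromSpecStalk (genericPoint S))) (V y).ι ≫ u
    rw [← Category.assoc, pullback.condition, Category.assoc, hw]
    exact (hv2 y).symm
  refine ⟨w, ⟨hw1, hw2⟩, ?_⟩
  rintro w' ⟨hw1', hw2'⟩
  have hsm : Smooth (𝟙 Y ≫ q) := by rw [Category.id_comp]; infer_instance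
  refine uniq q γ (S.fromSpecStalk (genericPoint S)) hη u (𝟙 Y) w' w
    (by rw [Category.id_comp, hw1']) (by rw [Category.id_comp, hw1]) ?_ ?_
  · rw [← hw2', ← Category.assoc, pullback.condition, Category.assoc, Category.id_comp]
  · rw [← hw2, ← Category.assoc, pullback.condition, Category.assoc, Category.id_comp]

end Groth.Agent.Lib.Helper14.NeronLG
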