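import Groth.Agent.Lib.Helper14.NeronLG4

/-!
# Néron local-global: the statement (helper14)
-/

set_option autoImplicit false
universe u
open CategoryTheory CategoryTheory.Limits AlgebraicGeometry

namespace Groth.Agent.Lib.Helper14.NeronLG

theorem main {S : Scheme.{u}} [IsIntegral S] [IsNoetherian S]
    (G : Over S) [Smooth G.hom] [IsSeparated G.hom]
    (hloc : ∀ p : S, IsClosed ({p} : Set S) →
      ∀ Y : Over (Spec (S.presheaf.stalk p)), Smooth Y.hom →
        Function.Bijective (fun g : Y ⟶ (Over.pullback (S.fromSpecStalk p)).obj G =>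
          (Over.pullback (Spec.map (S.presheaf.stalkSpecializes
            (genericPoint_specializes p)))).map g)) :
    ∀ Y : Over S, Smooth Y.hom →
      Function.Bijective (fun g : Y ⟶ G =>
        (Over.pullback (S.fromSpecStalk (genericPoint S))).map g) := by
  intro Y hY
  apply bijective_of_extProp
  have := hY
  refine extProp_of_local Y.hom G.hom (fun p hp Y' q' hq' u' hu' => ?_)
  exact exists_ext_of_extProp_pullback G.hom (S.fromSpecStalk p) _ q'
    (extProp_of_bijective _ (Over.mk q') ((Over.pullback (S.fromSpecStalk p)).obj G)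
      (hloc p hp (Over.mk q') hq')) u' hu'

end Groth.Agent.Lib.Helper14.NeronLG
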