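import Groth.Agent.Lib.Helper14.AlgSpFieldQuot
import Groth.Agent.Lib.Helper14.FlatClosure2
import Groth.Agent.Lib.Helper14.Norm6b

/-!
# The Néron mapping property extends to smooth algebraic spaces (helper14)
-/

universe u
open CategoryTheory CategoryTheory.Limits AlgebraicGeometry Opposite Topology

namespace Groth.Agent.Lib.Helper14.AS

open AlgSp

variable {S : Scheme.{u}} (U : S.Opens)

/-- `Y ×_S U` as a scheme over `S`. -/
noncomputable abbrev resU (Y : Over S) : Over S := (Over.map U.ι).obj ((Over.pullback U.ι).obj Y)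

/-- The projection `Y ×_S U ⟶ Y`. -/
noncomputable abbrev resε (Y : Over S) : resU U Y ⟶ Y := (Over.mapPullbackAdj U.ι).counit.app Y

/-- The projection `Y ×_S U ⟶ U`. -/
noncomputable def resu (Y : Over S) : resU U Y ⟶ Over.mk U.ι :=
  Over.homMk ((Over.pullback U.ι).obj Y).hom rfl

noncomputable abbrev resMap {R V : Over S} (r : R ⟶ V) : resU U R ⟶ resU U V :=
  (Over.map U.ι).map ((Over.pullback U.ι).map r)

theorem resMap_ε {R V : Over S} (r : R ⟶ V) : resMap U r ≫ resε U V = resε U R ≫ r :=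
  (Over.mapPullbackAdj U.ι).counit.naturality r

theorem resMap_u {R V : Over S} (r : R ⟶ V) : resMap U r ≫ resu U V = resu U R := by
  ext1
  exact Over.w ((Over.pullback U.ι).map r)

/-- The chart `h_{Y ×_S U} ⟶ F × h_U`. -/
noncomputable def resq {F : Sp S} {Y : Over S} (a : (yon S).obj Y ⟶ F) :
    (yon S).obj (resU U Y) ⟶ F ⨯ (yon S).obj (Over.mk U.ι) :=
  prod.lift ((yon S).map (resε U Y) ≫ a) ((yon S).map (resu U Y))

theorem resq_fst {F : Sp S} {Y : Over S} (a : (yon S).obj Y ⟶ F) :
    resq U a ≫ prod.fst = (yon S).map (resε U Y) ≫ a := prod.lift_fst _ _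

theorem resq_snd {F : Sp S} {Y : Over S} (a : (yon S).obj Y ⟶ F) :
    resq U a ≫ prod.snd = (yon S).map (resu U Y) := prod.lift_snd _ _

/-- Points of `F × h_U` whose first component lifts to the chart `Y` lift to `Y ×_S U`. -/
theorem exists_lift_resq {F : Sp S} {Y : Over S} (a : (yon S).obj Y ⟶ F) {T : Over S}
    (x : (yon S).obj T ⟶ F ⨯ (yon S).obj (Over.mk U.ι)) (v : T ⟶ Y)
    (hv : (yon S).map v ≫ a = x ≫ prod.fst) :
    ∃ w : T ⟶ resU U Y, (yon S).map w ≫ resq U a = x := by
  obtain ⟨x₂, hx₂⟩ := (yon S).map_surjective (x ≫ prod.snd)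
  have hcond : v.left ≫ Y.hom = x₂.left ≫ U.ι := by
    rw [Over.w v]
    exact (Over.w x₂).symm
  let w : T ⟶ resU U Y := Over.homMk (pullback.lift v.left x₂.left hcond) (by
    change pullback.lift v.left x₂.left hcond ≫ pullback.snd Y.hom U.ι ≫ U.ι = T.hom
    rw [← Category.assoc, pullback.lift_snd]
    exact Over.w x₂)
  have h1 : w ≫ resε U Y = v := by
    ext1
    change pullback.lift v.left x₂.left hcond ≫ ((Over.mapPullbackAdj U.ι).counit.app Y).left = _
    rw [Over.mapPullbackAdj_counit_app]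
    exact pullback.lift_fst _ _ _
  have h2 : w ≫ resu U Y = x₂ := by
    ext1
    exact pullback.lift_snd _ _ _
  refine ⟨w, ?_⟩
  apply Limits.prod.hom_ext
  · rw [Category.assoc, resq_fst, ← Category.assoc, ← Functor.map_comp, h1, hv]
  · rw [Category.assoc, resq_snd, ← Functor.map_comp, h2, hx₂]

set_option backward.isDefEq.respectTransparency.types false in
/-- The Néron mapping property with respect to smooth schemes implies the one with respect to
smooth algebraic spaces. -/
theorem neron_mapping_algSpace (N : Over S)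
    (hN : ∀ Y : Over S, Smooth Y.hom →
      Function.Bijective (fun g : Y ⟶ N => (Over.mapPullbackAdj U.ι).counit.app Y ≫ g))
    (F : Sp S) (hF : IsAlgSpace F)
    (sF : F ⟶ (yon S).obj (Over.mk (𝟙 S))) (hsm : LocP @Smooth sF) :
    Function.Bijective (fun φ : F ⟶ (yon S).obj N =>
      (Limits.prod.fst : F ⨯ (yon S).obj (Over.mk U.ι) ⟶ F) ≫ φ) := by
  obtain ⟨V, p, hpe, hps⟩ := hF.atlas
  have hV : Smooth V.hom :=
    hsm p (𝟙 _) (Over.homMk V.hom : V ⟶ Over.mk (𝟙 S)) hpe (repWith_id _ _)
      (hom_ext_terminal _ _)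
  have hls : Sheaf.IsLocallySurjective p := isLocallySurjective_of_etale_surjective p hpe hps
  have hepi : Epi p := (Sheaf.isLocallySurjective_iff_epi _).1 hls
  constructor
  · intro φ₁ φ₂ h
    have h : (prod.fst : F ⨯ (yon S).obj (Over.mk U.ι) ⟶ F) ≫ φ₁ = prod.fst ≫ φ₂ := h
    rw [← cancel_epi p]
    obtain ⟨g₁, hg₁⟩ := (yon S).map_surjective (p ≫ φ₁)
    obtain ⟨g₂, hg₂⟩ := (yon S).map_surjective (p ≫ φ₂)
    rw [← hg₁, ← hg₂]
    congr 1
    apply (hN V hV).1
    change resε U V ≫ g₁ = resε U V ≫ g₂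
    apply (yon S).map_injective
    rw [Functor.map_comp, Functor.map_comp, hg₁, hg₂, ← Category.assoc, ← Category.assoc,
      ← resq_fst U p, Category.assoc, Category.assoc, h]
  · intro ψ
    obtain ⟨gU, hgU⟩ := (yon S).map_surjective (resq U p ≫ ψ)
    obtain ⟨g, hg⟩ := (hN V hV).2 gU
    have hg : resε U V ≫ g = gU := hg
    have sqR := hpe.rep.isPullback' p
    have hr₂ : Etale (hpe.rep.snd p).left := hpe.property_snd p
    have hR : Smooth (hpe.rep.pullback p).hom := by
      rw [← Over.w (hpe.rep.snd p)]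
      infer_instance
    have hcoeq : hpe.rep.fst' p ≫ g = hpe.rep.snd p ≫ g := by
      apply (hN _ hR).1
      change resε U _ ≫ hpe.rep.fst' p ≫ g = resε U _ ≫ hpe.rep.snd p ≫ g
      rw [← Category.assoc, ← Category.assoc, ← resMap_ε, ← resMap_ε, Category.assoc,
        Category.assoc, hg]
      apply (yon S).map_injective
      rw [Functor.map_comp, Functor.map_comp, hgU, ← Category.assoc, ← Category.assoc]
      congr 1
      apply Limits.prod.hom_ext
      · rw [Category.assoc, Category.assoc, resq_fst, ← Category.assoc, ← Category.assoc,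
          ← Functor.map_comp, ← Functor.map_comp, resMap_ε, resMap_ε, Functor.map_comp,
          Functor.map_comp, Category.assoc, Category.assoc, sqR.w]
      · rw [Category.assoc, Category.assoc, resq_snd, ← Functor.map_comp, ← Functor.map_comp,
          resMap_u, resMap_u]
    obtain ⟨φ, hφ⟩ := exists_desc_of_epi_kernel_pair sqR ((yon S).map g) (by
      rw [← Functor.map_comp, ← Functor.map_comp, hcoeq])
    refine ⟨φ, ?_⟩
    change (prod.fst : F ⨯ (yon S).obj (Over.mk U.ι) ⟶ F) ≫ φ = ψ
    have hq : resq U p ≫ prod.fst ≫ φ = resq U p ≫ ψ := by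
      rw [← Category.assoc, resq_fst, Category.assoc, hφ, ← Functor.map_comp, hg, hgU]
    refine sp_hom_ext_of_local _ _ fun T x => ?_
    obtain ⟨Rc, hRc, hl⟩ := exists_cover_lift p (x ≫ prod.fst)
    refine ⟨Sieve.generate Rc, (mem_J_iff _).2 ⟨Rc, hRc, Sieve.le_generate Rc⟩, ?_⟩
    rintro W w ⟨W', a, r, hr, rfl⟩
    obtain ⟨l, hl'⟩ := hl r hr
    obtain ⟨v, rfl⟩ := (yon S).map_surjective l
    obtain ⟨w', hw'⟩ := exists_lift_resq U p ((yon S).map r ≫ x) v (by rw [hl', Category.assoc])
    rw [Functor.map_comp, Category.assoc, Category.assoc]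
    congr 1
    rw [← Category.assoc, ← Category.assoc ((yon S).map r), ← hw', Category.assoc, Category.assoc,
      hq]

end Groth.Agent.Lib.Helper14.AS
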