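import Mathlib
import Groth.Prelude.Def_FlatMod2
import Groth.Agent.Lib.Helper2.LocGen.Tilde
import Groth.Agent.Lib.Helper29.Sky
import Groth.Agent.Lib.Helper29.QCohLocFree
import Groth.Agent.Lib.Helper29.QCohPullback

set_option autoImplicit false
universe u
open CategoryTheory CategoryTheory.Limits AlgebraicGeometry Opposite TopologicalSpace

namespace Groth.Agent.Lib.Helper14.NisGen

open Groth.Agent.Lib.Helper29.QCoh Groth.Agent.Lib.Helper2.LocGen

/-- Epimorphism from a free module of rank `N` onto `M~` on `Spec A` gives `N` generators of `M`. -/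
theorem exists_generators_of_epi_tilde {A : CommRingCat.{u}} (M : ModuleCat.{u} A) (N : ℕ)
    (p : FlatMod.freeMod (Spec A) N ⟶ tilde M) [Epi p] :
    ∃ t : Fin N → M, Submodule.span A (Set.range t) = ⊤ := by
  classical
  let p' : freeM (Spec A) (ULift.{u} (Fin N)) ⟶ tilde M := (freeModIso (Spec A) N).inv ≫ p
  haveI : Epi p' := epi_comp _ _
  have h1 := fun x : Spec A => span_germ_eq_top_of_epi p' x
  obtain ⟨t, ht⟩ := exists_generators_of_sections (R := A) M (ι := Fin 1) (J := ULift.{u} (Fin N))
    (fun _ => ⊤) (by simp) (fun _ j => sval (ιFreeM (Spec A) j ≫ p') ⊤)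
    (fun _ x hx => h1 x)
  let e : Fin N ≃ Fin 1 × ULift.{u} (Fin N) :=
    (Equiv.ulift.symm.trans (Equiv.uniqueProd _ (Fin 1)).symm)
  refine ⟨t ∘ e, ?_⟩
  rw [e.surjective.range_comp]
  exact ht

end Groth.Agent.Lib.Helper14.NisGen

namespace Groth.Agent.Lib.Helper14.NisGen
open Groth.Agent.Lib.Helper29.QCoh Groth.Agent.Lib.Helper2.LocGen

/-- Pulling an epimorphism `O^N → f^* M~` back along a section over an affine scheme gives
`N` generators of the base-changed module. -/
theorem exists_generators_of_section {R A : CommRingCat.{u}} (M : ModuleCat.{u} R)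
    {U : Scheme.{u}} (f : U ⟶ Spec R) (N : ℕ)
    (φ : FlatMod.freeMod U N ⟶ (Scheme.Modules.pullback f).obj (tilde M)) [Epi φ]
    (π : R ⟶ A) (σ : Spec A ⟶ U) (hσ : σ ≫ f = Spec.map π) :
    ∃ t : Fin N → ((ModuleCat.extendScalars π.hom).obj M : ModuleCat.{u} A),
      Submodule.span A (Set.range t) = ⊤ := by
  haveI : (Scheme.Modules.pullback σ).PreservesEpimorphisms :=
    Functor.preservesEpimorphisms_of_adjunction (Scheme.Modules.pullbackPushforwardAdjunction σ)
  let p : FlatMod.freeMod (Spec A) N ⟶ tilde ((ModuleCat.extendScalars π.hom).obj M) :=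
    (pullbackFreeModIso σ N).inv ≫ (Scheme.Modules.pullback σ).map φ ≫
      ((Scheme.Modules.pullbackComp σ f).app (tilde M)).hom ≫
      ((Scheme.Modules.pullbackCongr hσ).app (tilde M)).hom ≫
      ((tildePullbackIso π).app M).hom
  haveI : Epi p := by
    dsimp only [p]
    infer_instance
  exact exists_generators_of_epi_tilde _ N p

end Groth.Agent.Lib.Helper14.NisGen
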