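import Mathlib

set_option autoImplicit false
universe u
open CategoryTheory

namespace Groth.Agent.Lib.Helper14.NisGen

open ChangeOfRings

set_option backward.isDefEq.respectTransparency false in
theorem exists_eq_one_tmul {R S : Type u} [CommRing R] [CommRing S] (f : R →+* S)
    (hf : Function.Surjective f) (M : ModuleCat.{u} R)
    (z : ((ModuleCat.extendScalars f).obj M : ModuleCat.{u} S)) :
    ∃ m : M, z = (1 : S) ⊗ₜ[R,f] m := by
  letI m1 : Module R S := Module.compHom S f
  induction z using TensorProduct.induction_on with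
  | zero => exact ⟨0, (TensorProduct.tmul_zero _ _).symm⟩
  | tmul a m =>
    obtain ⟨r, rfl⟩ := hf a
    refine ⟨r • m, ?_⟩
    rw [← TensorProduct.smul_tmul]
    congr 1
    change f r = f r * 1
    rw [mul_one]
  | add x y hx hy =>
    obtain ⟨m, rfl⟩ := hx
    obtain ⟨m', rfl⟩ := hy
    exact ⟨m + m', (TensorProduct.tmul_add _ _ _).symm⟩

set_option backward.isDefEq.respectTransparency false in
theorem exists_generators_mod_aux {R S : Type u} [CommRing R] [CommRing S] (f : R →+* S)
    (hf : Function.Surjective f) (M : ModuleCat.{u} R) (N : ℕ)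
    (t' : Fin N → ((ModuleCat.extendScalars f).obj M : ModuleCat.{u} S))
    (ht' : Submodule.span S (Set.range t') = ⊤)
    (Q : ModuleCat.{u} S) (g : M ⟶ (ModuleCat.restrictScalars f).obj Q) :
    ∃ t : Fin N → M, ∀ m : M, ∃ c : Fin N → R, g (m - ∑ j, c j • t j) = 0 := by
  classical
  choose t ht using fun j => exists_eq_one_tmul f hf M (t' j)
  refine ⟨t, fun m => ?_⟩
  have hm : ((1 : S) ⊗ₜ[R,f] m : ((ModuleCat.extendScalars f).obj M : ModuleCat.{u} S)) ∈
      Submodule.span S (Set.range t') := by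
    rw [ht']; trivial
  obtain ⟨c', hc'⟩ := (Submodule.mem_span_range_iff_exists_fun S).mp hm
  choose c hc using fun j => hf (c' j)
  refine ⟨c, ?_⟩
  let ρ := ((ModuleCat.extendRestrictScalarsAdj f).homEquiv M Q).symm g
  have hρ : ∀ x : M, ρ ((1 : S) ⊗ₜ[R,f] x) = g x := by
    intro x
    have := ModuleCat.extendRestrictScalarsAdj_homEquiv_apply (f := f) ρ x
    rw [← this]
    simp [ρ]
  rw [← hρ]
  have h1 : ((1 : S) ⊗ₜ[R,f] (m - ∑ j, c j • t j) :
      ((ModuleCat.extendScalars f).obj M : ModuleCat.{u} S)) = 0 := by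
    letI m1 : Module R S := Module.compHom S f
    rw [TensorProduct.tmul_sub, TensorProduct.tmul_sum, ← hc', sub_eq_zero]
    refine Finset.sum_congr rfl fun j _ => ?_
    rw [ht j, ModuleCat.ExtendScalars.smul_tmul, ← hc j, TensorProduct.tmul_smul,
      TensorProduct.smul_tmul']
    congr 1
  rw [h1, map_zero]

set_option backward.isDefEq.respectTransparency false in
/-- Generators of `(R ⧸ J) ⊗ M` lift to elements of `M` generating `M` modulo `J • M`. -/
theorem exists_generators_mod {R : CommRingCat.{u}} (M : ModuleCat.{u} R) (J : Ideal R) (N : ℕ)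
    (t' : Fin N → ((ModuleCat.extendScalars (CommRingCat.ofHom (Ideal.Quotient.mk J)).hom).obj M :
      ModuleCat.{u} (CommRingCat.of (R ⧸ J))))
    (ht' : Submodule.span (R ⧸ J) (Set.range t') = ⊤) :
    ∃ t : Fin N → M, Submodule.span R (Set.range t) ⊔ (J • ⊤ : Submodule R M) = ⊤ := by
  classical
  let Q : ModuleCat.{u} (R ⧸ J) := ModuleCat.of (R ⧸ J) (M ⧸ (J • ⊤ : Submodule R M))
  let g : M ⟶ (ModuleCat.restrictScalars (Ideal.Quotient.mk J)).obj Q :=
    ModuleCat.ofHom
      { toFun := fun m => Submodule.Quotient.mk (p := (J • ⊤ : Submodule R M)) m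
        map_add' := fun _ _ => rfl
        map_smul' := fun _ _ => rfl }
  obtain ⟨t, ht⟩ := exists_generators_mod_aux (Ideal.Quotient.mk J) Ideal.Quotient.mk_surjective
    M N t' ht' Q g
  refine ⟨t, ?_⟩
  rw [eq_top_iff]
  intro m _
  obtain ⟨c, hc⟩ := ht m
  have h1 : m - ∑ j, c j • t j ∈ (J • ⊤ : Submodule R M) :=
    (Submodule.Quotient.mk_eq_zero _).mp hc
  have h2 : ∑ j, c j • t j ∈ Submodule.span R (Set.range t) :=
    Submodule.sum_mem _ fun j _ => Submodule.smul_mem _ _ (Submodule.subset_span ⟨j, rfl⟩)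
  have h3 : m = ∑ j, c j • t j + (m - ∑ j, c j • t j) := by abel
  rw [h3]
  exact Submodule.add_mem_sup h2 h1

end Groth.Agent.Lib.Helper14.NisGen
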