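import Mathlib
import Groth.Prelude.Def_W4c5algebraiztannakaNis

set_option autoImplicit false
universe u
open CategoryTheory CategoryTheory.Limits AlgebraicGeometry

namespace Groth.Agent.Lib.Helper14.NisGen

/-- A closed subset of `Spec R` contained in a subset over which `f` has a section lifts to `U`
(with its reduced structure). -/
theorem exists_lift_of_closed {R : CommRingCat.{u}} {U : Scheme.{u}} (f : U ⟶ Spec R)
    (W : Set (Spec R)) (hW : W4c5algebraiztannaka.HasSectOver f W)
    (C : Set (PrimeSpectrum R)) (hC : IsClosed C) (hCW : C ⊆ W) :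
    ∃ σ : Spec (CommRingCat.of (R ⧸ PrimeSpectrum.vanishingIdeal C)) ⟶ U,
      σ ≫ f = Spec.map (CommRingCat.ofHom (Ideal.Quotient.mk (PrimeSpectrum.vanishingIdeal C))) := by
  obtain ⟨T, g, s, hg, hrange, hsf⟩ := hW
  obtain ⟨ι, hι⟩ : ∃ ι : Spec (CommRingCat.of (R ⧸ PrimeSpectrum.vanishingIdeal C)) ⟶ Spec R,
    ι = Spec.map (CommRingCat.ofHom (Ideal.Quotient.mk (PrimeSpectrum.vanishingIdeal C))) :=
    ⟨_, rfl⟩
  rw [← hι]
  have hrι : ∀ x, ι x ∈ C := by
    intro x
    have h1 : Set.range (PrimeSpectrum.comap (Ideal.Quotient.mk (PrimeSpectrum.vanishingIdeal C))) =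
        PrimeSpectrum.zeroLocus (RingHom.ker (Ideal.Quotient.mk (PrimeSpectrum.vanishingIdeal C))) :=
      _root_.range_comap_of_surjective _ _ Ideal.Quotient.mk_surjective
    rw [Ideal.mk_ker, PrimeSpectrum.zeroLocus_vanishingIdeal_eq_closure, hC.closure_eq] at h1
    have h2 : (ι x : PrimeSpectrum R) ∈ Set.range
        (PrimeSpectrum.comap (Ideal.Quotient.mk (PrimeSpectrum.vanishingIdeal C))) := by
      rw [hι]
      exact ⟨x, rfl⟩
    rw [h1] at h2
    exact h2
  haveI : IsReduced (Spec (CommRingCat.of (R ⧸ PrimeSpectrum.vanishingIdeal C))) := by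
    haveI : IsReduced (R ⧸ PrimeSpectrum.vanishingIdeal C) :=
      (Ideal.isRadical_iff_quotient_reduced _).mp (PrimeSpectrum.isRadical_vanishingIdeal C)
    infer_instance
  haveI : Surjective (pullback.snd g ι) := by
    refine ⟨fun x => ?_⟩
    have h1 : x ∈ Set.range (pullback.snd g ι) := by
      rw [Scheme.Pullback.range_snd]
      change ι x ∈ Set.range g
      rw [hrange]
      exact hCW (hrι x)
    exact h1
  haveI : IsClosedImmersion (pullback.snd g ι) := by
    refine .of_isPreimmersion _ ?_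
    rw [(pullback.snd g ι).surjective.range_eq]
    exact isClosed_univ
  haveI : IsIso (pullback.snd g ι) := isIso_of_isClosedImmersion_of_surjective _
  refine ⟨inv (pullback.snd g ι) ≫ pullback.fst g ι ≫ s, ?_⟩
  rw [Category.assoc, Category.assoc, hsf, pullback.condition, IsIso.inv_hom_id_assoc]

end Groth.Agent.Lib.Helper14.NisGen
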