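import Mathlib
import Groth.Agent.Lib.Helper14.NisGen1
import Groth.Agent.Lib.Helper14.NisGen2
import Groth.Agent.Lib.Helper14.NisGen3

set_option autoImplicit false
universe u
open CategoryTheory CategoryTheory.Limits AlgebraicGeometry

namespace Groth.Agent.Lib.Helper14.NisGen

/-- Stage lemma: over a closed subset `C` contained in a subset over which `f` has a section,
`M` is generated modulo the vanishing ideal of `C` by `N` elements. -/
theorem exists_generators_of_closed {R : CommRingCat.{u}} (M : ModuleCat.{u} R)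
    {U : Scheme.{u}} (f : U ⟶ Spec R) (N : ℕ)
    (φ : FlatMod.freeMod U N ⟶ (Scheme.Modules.pullback f).obj (tilde M)) [Epi φ]
    (W : Set (Spec R)) (hW : W4c5algebraiztannaka.HasSectOver f W)
    (C : Set (PrimeSpectrum R)) (hC : IsClosed C) (hCW : C ⊆ W) :
    ∃ t : Fin N → M, Submodule.span R (Set.range t) ⊔
      (PrimeSpectrum.vanishingIdeal C • ⊤ : Submodule R M) = ⊤ := by
  obtain ⟨σ, hσ⟩ := exists_lift_of_closed f W hW C hC hCW
  obtain ⟨t', ht'⟩ := exists_generators_of_section M f N φ _ σ hσ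
  exact exists_generators_mod M _ N t' ht'

/-- Nakayama step: if `P ⊔ J • ⊤ = ⊤` in a finite module, some `r ≡ 1 mod J` maps `M` into `P`. -/
theorem exists_mem_colon {R : Type u} [CommRing R] {M : Type u} [AddCommGroup M] [Module R M]
    [Module.Finite R M] (P : Submodule R M) (J : Ideal R)
    (h : P ⊔ (J • ⊤ : Submodule R M) = ⊤) :
    ∃ r : R, r - 1 ∈ J ∧ ∀ x : M, r • x ∈ P := by
  have h1 : (⊤ : Submodule R (M ⧸ P)) ≤ J • (⊤ : Submodule R (M ⧸ P)) := by
    intro y _
    obtain ⟨x, rfl⟩ := P.mkQ_surjective y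
    have hx : x ∈ P ⊔ (J • ⊤ : Submodule R M) := by rw [h]; exact Submodule.mem_top
    obtain ⟨a, ha, b, hb, rfl⟩ := Submodule.mem_sup.mp hx
    have ha0 : P.mkQ a = 0 := (Submodule.Quotient.mk_eq_zero P).mpr ha
    rw [map_add, ha0, zero_add]
    have : (J • ⊤ : Submodule R M).map P.mkQ ≤ J • (⊤ : Submodule R (M ⧸ P)) := by
      rw [Submodule.map_smul'']
      exact Submodule.smul_mono le_rfl le_top
    exact this ⟨b, hb, rfl⟩
  obtain ⟨r, hr1, hr2⟩ := Submodule.exists_sub_one_mem_and_smul_eq_zero_of_fg_of_le_smul J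
    (⊤ : Submodule R (M ⧸ P)) (Module.Finite.fg_top) h1
  refine ⟨r, hr1, fun x => ?_⟩
  have := hr2 (P.mkQ x) Submodule.mem_top
  rw [← map_smul] at this
  exact (Submodule.Quotient.mk_eq_zero P).mp this

theorem range_append {α : Type*} {a b : ℕ} (s : Fin a → α) (t : Fin b → α) :
    Set.range (Fin.append s t) = Set.range s ∪ Set.range t := by
  ext x
  constructor
  · rintro ⟨i, rfl⟩
    induction i using Fin.addCases with
    | left i => rw [Fin.append_left]; exact Or.inl ⟨i, rfl⟩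
    | right i => rw [Fin.append_right]; exact Or.inr ⟨i, rfl⟩
  · rintro (⟨i, rfl⟩ | ⟨i, rfl⟩)
    · exact ⟨Fin.castAdd b i, Fin.append_left _ _ _⟩
    · exact ⟨Fin.natAdd a i, Fin.append_right _ _ _⟩

theorem exists_generators_aux {R : CommRingCat.{u}} (M : ModuleCat.{u} R) [Module.Finite R M]
    {U : Scheme.{u}} (f : U ⟶ Spec R) (N m : ℕ)
    (φ : FlatMod.freeMod U N ⟶ (Scheme.Modules.pullback f).obj (tilde M)) [Epi φ]
    (Z : Fin (m + 1) → Set (Spec R)) (hZ0 : Z 0 = ∅) (hZcl : ∀ k, IsClosed (Z k))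
    (hsec : ∀ k : Fin m, W4c5algebraiztannaka.HasSectOver f (Z k.succ \ Z k.castSucc)) :
    ∀ (k : ℕ) (hk : k < m + 1), ∃ s : Fin (N * k) → M,
      ∀ p : PrimeSpectrum R, p ∈ Z ⟨k, hk⟩ →
        ∃ r : R, r ∉ p.asIdeal ∧ ∀ x : M, r • x ∈ Submodule.span R (Set.range s) := by
  classical
  intro k
  induction k with
  | zero =>
    intro hk
    refine ⟨fun i => (Fin.cast (Nat.mul_zero N) i).elim0, fun p hp => ?_⟩
    have : (⟨0, hk⟩ : Fin (m + 1)) = 0 := rfl
    rw [this, hZ0] at hp
    exact hp.elim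
  | succ k ih =>
    intro hk
    have hk' : k < m + 1 := by omega
    obtain ⟨s, hs⟩ := ih hk'
    obtain ⟨P, hP⟩ : ∃ P : Submodule R M, P = Submodule.span R (Set.range s) := ⟨_, rfl⟩
    rw [← hP] at hs
    let k' : Fin m := ⟨k, by omega⟩
    have hk1 : k'.succ = ⟨k + 1, hk⟩ := rfl
    have hk2 : k'.castSucc = ⟨k, hk'⟩ := rfl
    obtain ⟨C, hCdef⟩ : ∃ C : Set (PrimeSpectrum R), C = Z ⟨k + 1, hk⟩ ∩
        PrimeSpectrum.zeroLocus ((P.colon ⊤ : Ideal R) : Set R) := ⟨_, rfl⟩
    have hCcl : IsClosed C := by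
      rw [hCdef]
      exact (hZcl _).inter (PrimeSpectrum.isClosed_zeroLocus _)
    have hCW : C ⊆ Z k'.succ \ Z k'.castSucc := by
      intro p hp
      rw [hCdef] at hp
      rw [hk1, hk2]
      refine ⟨hp.1, fun hpk => ?_⟩
      obtain ⟨r, hr1, hr2⟩ := hs p hpk
      have hr3 : r ∈ (P.colon ⊤ : Ideal R) := by
        rw [Submodule.mem_colon]
        intro x _
        exact hr2 x
      exact hr1 ((PrimeSpectrum.mem_zeroLocus _ _).mp hp.2 hr3)
    obtain ⟨t, ht⟩ := exists_generators_of_closed M f N φ _ (hsec k') C hCcl hCW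
    have hN : N * (k + 1) = N * k + N := by ring
    refine ⟨Fin.append s t ∘ Fin.cast hN, fun p hp => ?_⟩
    have hspan : Submodule.span R (Set.range (Fin.append s t ∘ Fin.cast hN)) =
        P ⊔ Submodule.span R (Set.range t) := by
      have hsurj : Function.Surjective (Fin.cast hN) := fun y => ⟨Fin.cast hN.symm y, by simp⟩
      rw [hsurj.range_comp, range_append, Submodule.span_union, hP]
    rw [hspan]
    by_cases hpz : p ∈ PrimeSpectrum.zeroLocus ((P.colon ⊤ : Ideal R) : Set R)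
    · have hpC : p ∈ C := by
        rw [hCdef]
        exact ⟨hp, hpz⟩
      have hJ : PrimeSpectrum.vanishingIdeal C ≤ p.asIdeal := fun a ha =>
        (PrimeSpectrum.mem_vanishingIdeal _ _).mp ha p hpC
      have htop : (P ⊔ Submodule.span R (Set.range t)) ⊔
          (PrimeSpectrum.vanishingIdeal C • ⊤ : Submodule R M) = ⊤ := by
        refine eq_top_iff.mpr ?_
        calc (⊤ : Submodule R M) = _ := ht.symm
          _ ≤ _ := sup_le_sup_right le_sup_right _
      obtain ⟨r, hr1, hr2⟩ := exists_mem_colon _ _ htop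
      refine ⟨r, fun hr => ?_, hr2⟩
      have h1 : (1 : R) ∈ p.asIdeal := by
        have := p.asIdeal.sub_mem hr (hJ hr1)
        rwa [sub_sub_cancel] at this
      exact p.isPrime.one_notMem h1
    · rw [PrimeSpectrum.mem_zeroLocus, Set.not_subset] at hpz
      obtain ⟨r, hr1, hr2⟩ := hpz
      refine ⟨r, hr2, fun x => ?_⟩
      have hr3 : r ∈ (P.colon ⊤ : Ideal R) := hr1
      have h4 : r • x ∈ P := (Submodule.mem_colon.mp hr3) x (Submodule.mem_top (R := R))
      exact le_sup_left (a := P) h4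

end Groth.Agent.Lib.Helper14.NisGen
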