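import Mathlib

/-!
# Ring-level relative normalization with an equalizer condition (helper14)

For `φ : A ⟶ B` and `δ₀ δ₁ : B ⟶ B'` in `CommRingCat`, `normSub φ δ₀ δ₁` is the subring of `B` of
elements integral over `A` on which `δ₀` and `δ₁` agree.
-/

universe u
open CategoryTheory

namespace Groth.Agent.Lib.Helper14.AS

variable {A B B' : CommRingCat.{u}} (φ : A ⟶ B) (δ₀ δ₁ : B ⟶ B')

/-- Elements of `B` integral over `A` and equalized by `δ₀, δ₁`. -/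
def normSub : Subring B where
  carrier := {b | φ.hom.IsIntegralElem b ∧ δ₀.hom b = δ₁.hom b}
  mul_mem' := fun ha hb => ⟨RingHom.IsIntegralElem.mul _ ha.1 hb.1, by
    simp only [map_mul, ha.2, hb.2]⟩
  one_mem' := ⟨φ.hom.isIntegralElem_one, by simp⟩
  add_mem' := fun ha hb => ⟨RingHom.IsIntegralElem.add _ ha.1 hb.1, by
    simp only [map_add, ha.2, hb.2]⟩
  zero_mem' := ⟨φ.hom.isIntegralElem_zero, by simp⟩
  neg_mem' := fun ha => ⟨ha.1.neg, by simp only [map_neg, ha.2]⟩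

theorem mem_normSub {b : B} :
    b ∈ normSub φ δ₀ δ₁ ↔ φ.hom.IsIntegralElem b ∧ δ₀.hom b = δ₁.hom b := Iff.rfl

/-- The normalization ring. -/
abbrev normRing : CommRingCat.{u} := CommRingCat.of (normSub φ δ₀ δ₁)

/-- Inclusion `A' ⟶ B`. -/
def normι : normRing φ δ₀ δ₁ ⟶ B := CommRingCat.ofHom (normSub φ δ₀ δ₁).subtype

theorem normι_injective : Function.Injective (normι φ δ₀ δ₁).hom := Subtype.val_injective

theorem normι_mem (x : normRing φ δ₀ δ₁) : (normι φ δ₀ δ₁).hom x ∈ normSub φ δ₀ δ₁ := x.2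

instance : Mono (normι φ δ₀ δ₁) :=
  ConcreteCategory.mono_of_injective _ (normι_injective φ δ₀ δ₁)

theorem normι_eq : normι φ δ₀ δ₁ ≫ δ₀ = normι φ δ₀ δ₁ ≫ δ₁ := by
  ext x
  exact x.2.2

/-- A map into `B` landing in `normSub` factors through `normRing`. -/
def normLift {C : CommRingCat.{u}} (γ : C ⟶ B) (h : ∀ c, γ.hom c ∈ normSub φ δ₀ δ₁) :
    C ⟶ normRing φ δ₀ δ₁ :=
  CommRingCat.ofHom (γ.hom.codRestrict (normSub φ δ₀ δ₁) h)

@[simp]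
theorem normLift_ι {C : CommRingCat.{u}} (γ : C ⟶ B) (h : ∀ c, γ.hom c ∈ normSub φ δ₀ δ₁) :
    normLift φ δ₀ δ₁ γ h ≫ normι φ δ₀ δ₁ = γ := by
  ext x; rfl

variable (h0 : φ ≫ δ₀ = φ ≫ δ₁)

/-- The structure map `A ⟶ A'`. -/
def normα : A ⟶ normRing φ δ₀ δ₁ :=
  normLift φ δ₀ δ₁ φ (fun a => ⟨φ.hom.isIntegralElem_map, by
    have := congrArg (fun k => k.hom a) h0
    exact this⟩)

@[simp]
theorem normα_ι : normα φ δ₀ δ₁ h0 ≫ normι φ δ₀ δ₁ = φ := normLift_ι _ _ _ _ _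

theorem normα_isIntegral : (normα φ δ₀ δ₁ h0).hom.IsIntegral := by
  intro x
  obtain ⟨p, hp, hpx⟩ := x.2.1
  refine ⟨p, hp, ?_⟩
  apply normι_injective φ δ₀ δ₁
  rw [map_zero, Polynomial.hom_eval₂]
  have : (normι φ δ₀ δ₁).hom.comp (normα φ δ₀ δ₁ h0).hom = φ.hom := by
    rw [← CommRingCat.hom_comp, normα_ι]
  rw [this]
  exact hpx

/-- Universal property: an integral `A`-algebra `C` with a map to `B` equalized by `δ₀, δ₁` maps
uniquely to `A'`. -/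
theorem norm_desc {C : CommRingCat.{u}} (κ : A ⟶ C) (hκ : κ.hom.IsIntegral) (γ : C ⟶ B)
    (hγ : κ ≫ γ = φ) (hγδ : γ ≫ δ₀ = γ ≫ δ₁) :
    ∃! γ' : C ⟶ normRing φ δ₀ δ₁, γ' ≫ normι φ δ₀ δ₁ = γ := by
  refine ⟨normLift φ δ₀ δ₁ γ (fun c => ⟨?_, ?_⟩), normLift_ι _ _ _ _ _, ?_⟩
  · have h1 : (κ.hom).IsIntegralElem c := hκ c
    have := h1.map γ.hom
    rwa [← CommRingCat.hom_comp, hγ] at this
  · exact congrArg (fun k => k.hom c) hγδ
  · intro γ' hγ'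
    rw [← cancel_mono (normι φ δ₀ δ₁), hγ']
    exact (normLift_ι _ _ _ _ _).symm

theorem norm_desc_α {C : CommRingCat.{u}} (κ : A ⟶ C) (γ : C ⟶ B)
    (hγ : κ ≫ γ = φ) (γ' : C ⟶ normRing φ δ₀ δ₁) (h : γ' ≫ normι φ δ₀ δ₁ = γ) :
    κ ≫ γ' = normα φ δ₀ δ₁ h0 := by
  rw [← cancel_mono (normι φ δ₀ δ₁), Category.assoc, h, hγ, normα_ι]

end Groth.Agent.Lib.Helper14.AS
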