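import Groth.Agent.Lib.Helper14.Norm9

/-!
# Etale base change and integral extension over quasi-compact opens (helper14)
-/

universe u
open CategoryTheory CategoryTheory.Limits AlgebraicGeometry Opposite
open AlgSp

namespace Groth.Agent.Lib.Helper14.AS

variable {S : Scheme.{u}}

/-- Etale base change of the relative normalization (sheaf-level form). -/
theorem isRelNormalization_etale_baseChange_sp {Y X X' W YW X'W : Sp S} (hY : IsAlgSpace Y)
    (hX : IsAlgSpace X) (hX' : IsAlgSpace X') (hW : IsAlgSpace W) (hYW : IsAlgSpace YW)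
    (hX'W : IsAlgSpace X'W) (f : Y ⟶ X)
    (hqc : IsQuasiCompactMor f) (hqs : IsQuasiSeparatedMor f) (ν : X' ⟶ X) (f' : Y ⟶ X')
    (hn : IsRelNormalization f ν f') (w : W ⟶ X) (hw : IsEtaleMor w)
    (a : YW ⟶ Y) (fW : YW ⟶ W) (sq1 : IsPullback a fW f w)
    (b : X'W ⟶ X') (νW : X'W ⟶ W) (sq2 : IsPullback b νW ν w)
    (f'W : YW ⟶ X'W) (c1 : f'W ≫ νW = fW) (c2 : f'W ≫ b = a ≫ f') :
    IsRelNormalization fW νW f'W := by
  have H : NormHyp f := ⟨hY, hX, hqc, hqs⟩
  have HW : NormHyp fW := ⟨hYW, hW, isQuasiCompactMor_of_isPullback sq1 hqc,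
    isQuasiSeparatedMor_of_isPullback sq1 hqs⟩
  refine HW.isRelNormalization_of_charts hX'W c1 (isIntegralMor_of_isPullback' sq2 hn.2.1)
    (fun _ => True) ?_ ?_
  · intro T x
    obtain ⟨Sv, hSv, hl⟩ := exists_cover_affEt hW x
    refine ⟨Sv, hSv, fun W' w' hw' => ?_⟩
    obtain ⟨E, v, hv⟩ := hl w' hw'
    exact ⟨E, trivial, v, hv⟩
  · intro E _
    let E' : AffEt X := ⟨E.V, E.v ≫ w, hw E.v E.etale, E.affine⟩
    have hc : (HW.pE E ≫ f'W) ≫ νW = HW.fE E ≫ E.v := by
      rw [Category.assoc, c1]; exact (HW.sqE E).w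
    refine ⟨pullback νW E.v, pullback.fst _ _, pullback.snd _ _,
      pullback.lift (HW.pE E ≫ f'W) (HW.fE E) hc, IsPullback.of_hasPullback _ _,
      pullback.lift_snd _ _ _, pullback.lift_fst _ _ _, ?_⟩
    refine H.isRelNormalization_chart hX' hn E' (pY := HW.pE E ≫ a)
      (pP := pullback.fst νW E.v ≫ b) ((HW.sqE E).paste_horiz sq1)
      ((IsPullback.of_hasPullback νW E.v).paste_horiz sq2) _ (pullback.lift_snd _ _ _) ?_
    rw [← Category.assoc, pullback.lift_fst, Category.assoc, c2, Category.assoc]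

/-- An integral morphism is its own relative normalization. -/
theorem isRelNormalization_self {F G : Sp S} (π : F ⟶ G) (hπ : IsIntegralMor π) :
    IsRelNormalization π π (𝟙 F) :=
  ⟨Category.id_comp _, hπ, fun _ _ _ g _ hg => ⟨g, ⟨Category.id_comp _, hg⟩, fun h' h => by
    rw [← h.1, Category.id_comp]⟩⟩

set_option backward.isDefEq.respectTransparency.types false in
/-- Extension of an integral morphism over a quasi-compact open to an integral morphism over the
whole space. -/
theorem exists_integral_extension_sp {V Y Z : Sp S} (hV : IsAlgSpace V) (hY : IsAlgSpace Y)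
    (hZ : IsAlgSpace Z) (j : V ⟶ Y) (hj : RepWith @IsOpenImmersion j) (hjq : IsQuasiCompactMor j)
    (π : Z ⟶ V) (hπ : IsIntegralMor π) :
    ∃ (Y' : Sp S) (ν : Y' ⟶ Y) (j' : Z ⟶ Y'), IsAlgSpace Y' ∧ IsIntegralMor ν ∧
      IsPullback j' π ν j := by
  have hjm : Mono j := mono_of_openImmersion hj
  have hπaff : RepWith @IsAffineHom π :=
    repWith_isAffineHom_of_isAffineMor' π (CartFun.isAffineMor_of_isIntegralMor hπ)
  have hπqc : IsQuasiCompactMor π :=
    isQuasiCompactMor_of_repWith (repWith_mono (P := @IsAffineHom) (Q := @QuasiCompact)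
      (fun _ _ k hk => by have : IsAffineHom k := hk; infer_instance) hπaff)
  have hπqs : IsQuasiSeparatedMor π :=
    isQuasiSeparatedMor_of_isSeparatedMor
      (isSeparatedMor_of_isAffineMor hZ.diag π (CartFun.isAffineMor_of_isIntegralMor hπ))
  have hjqs : IsQuasiSeparatedMor j := isQuasiSeparatedMor_of_isSeparatedMor (isSeparatedMor_of_mono j)
  have hqc : IsQuasiCompactMor (π ≫ j) :=
    isQuasiCompactMor_comp hV (repDiag_of_isAlgSpace hY) hπqc hjq
  have hqs : IsQuasiSeparatedMor (π ≫ j) := repWith_diagonal_comp @QuasiCompact π j hπqs hjqs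
  obtain ⟨Y', ν, f', hY', hn⟩ := exists_isRelNormalization_sp (π ≫ j) hZ hY hqc hqs
  have sqP := IsPullback.of_hasPullback ν j
  have hP : IsAlgSpace (pullback ν j) := isAlgSpace_of_isPullback (repDiag_of_isAlgSpace hY) hY' hV sqP
  have sq1 : IsPullback (𝟙 Z) π (π ≫ j) j := by
    have h1 : IsPullback (𝟙 Z) π π (𝟙 V) := IsPullback.of_horiz_isIso ⟨by simp⟩
    have h2 : IsPullback (𝟙 V) (𝟙 V) j j := IsKernelPair.id_of_mono j
    have := h1.paste_vert h2
    rwa [Category.comp_id] at this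
  have hjet : IsEtaleMor j :=
    isEtaleMor_of_repWith_etale (repWith_mono isOpenImmersion_le_etale hj)
  have hnV : IsRelNormalization π (pullback.snd ν j) (pullback.lift f' π hn.1) :=
    isRelNormalization_etale_baseChange_sp hZ hY hY' hV hZ hP (π ≫ j) hqc hqs ν f' hn j hjet
      (𝟙 Z) π sq1 (pullback.fst ν j) (pullback.snd ν j) sqP _ (pullback.lift_snd _ _ _)
      (by rw [pullback.lift_fst, Category.id_comp])
  obtain ⟨e, he1, he2⟩ := isRelNormalization_iso hZ hP (isRelNormalization_self π hπ) hnV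
  refine ⟨Y', ν, f', hY', hn.2.1, ?_⟩
  refine IsPullback.of_iso sqP e.symm (Iso.refl _) (Iso.refl _) (Iso.refl _) ?_ ?_ ?_ ?_
  · rw [Category.id_comp] at he1
    simp only [Iso.symm_hom, Iso.refl_hom, Category.comp_id]
    rw [Iso.eq_inv_comp, he1, pullback.lift_fst]
  · simp only [Iso.symm_hom, Iso.refl_hom, Category.comp_id]
    rw [Iso.eq_inv_comp, he2]
  · simp
  · simp

end Groth.Agent.Lib.Helper14.AS
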