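import Mathlib

universe u
open CategoryTheory TensorProduct

namespace Groth.Agent.Lib.Helper14.AS

section Core

variable {R S B B' B'₁ C : Type u} [CommRing R] [CommRing S] [Algebra R S]
  [CommRing B] [Algebra R B] [CommRing B'] [Algebra R B'] [CommRing B'₁] [Algebra S B'₁]
  [CommRing C] [Algebra R C]

theorem tmap_eq_lTensor (f : B →ₐ[R] C) (y : S ⊗[R] B) :
    Algebra.TensorProduct.map (AlgHom.id S S) f y = LinearMap.lTensor S f.toLinearMap y := by
  induction y with
  | zero => simp
  | tmul s b => simp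
  | add a b ha hb => simp only [map_add, ha, hb]

/-- The normalization subalgebra. -/
def nrm (δ₀ δ₁ : B →ₐ[R] B') : Subalgebra R B := integralClosure R B ⊓ AlgHom.equalizer δ₀ δ₁

theorem tmap_injective_of_flat [Module.Flat R S] (E : Subalgebra R B) :
    Function.Injective (Algebra.TensorProduct.map (AlgHom.id S S) E.val) := by
  have := Module.Flat.lTensor_preserves_injective_linearMap (M := S)
    E.val.toLinearMap Subtype.val_injective
  intro a b hab
  apply this
  rw [← tmap_eq_lTensor, ← tmap_eq_lTensor]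
  exact hab

theorem mem_range_of_isIntegral_of_eq [Algebra.Smooth R S]
    (δ₀ δ₁ : B →ₐ[R] B') (c : S ⊗[R] B' →ₐ[S] B'₁) (hc : Function.Injective c)
    (x : S ⊗[R] B) (hx : IsIntegral S x)
    (hx' : c (Algebra.TensorProduct.map (AlgHom.id S S) δ₀ x) =
      c (Algebra.TensorProduct.map (AlgHom.id S S) δ₁ x)) :
    x ∈ (Algebra.TensorProduct.map (AlgHom.id S S) (nrm δ₀ δ₁).val).range := by
  have hflat : Module.Flat R S := inferInstance
  let E : Subalgebra R B := AlgHom.equalizer δ₀ δ₁
  let d : B →ₗ[R] B' := δ₀.toLinearMap - δ₁.toLinearMap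
  have hex : Function.Exact E.val.toLinearMap d := by
    intro b
    constructor
    · intro hb
      have : δ₀ b = δ₁ b := by
        have : δ₀ b - δ₁ b = 0 := hb
        exact sub_eq_zero.mp this
      exact ⟨⟨b, this⟩, rfl⟩
    · rintro ⟨e, rfl⟩
      show δ₀ e.1 - δ₁ e.1 = 0
      exact sub_eq_zero.mpr e.2
  have hex' := Module.Flat.lTensor_exact S hex
  have hx0 : LinearMap.lTensor S d x = 0 := by
    have h1 := hc hx'
    rw [tmap_eq_lTensor, tmap_eq_lTensor] at h1
    simp only [d, LinearMap.lTensor_sub, LinearMap.sub_apply, h1, sub_self]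
  obtain ⟨y, hy⟩ := (hex' x).1 hx0
  have hy' : Algebra.TensorProduct.map (AlgHom.id S S) E.val y = x := by
    rw [tmap_eq_lTensor]; exact hy
  have hyint : IsIntegral S y := by
    rw [← hy'] at hx
    exact (isIntegral_algHom_iff _ (tmap_injective_of_flat E)).1 hx
  obtain ⟨z, hz⟩ := (TensorProduct.toIntegralClosure_bijective_of_smooth
    (R := R) (S := S) (B := E)).2 ⟨y, hyint⟩
  have hz' : Algebra.TensorProduct.map (AlgHom.id S S) (integralClosure R E).val z = y := by
    have := congrArg Subtype.val hz
    simpa [TensorProduct.toIntegralClosure] using this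
  let j : integralClosure R E →ₐ[R] nrm δ₀ δ₁ :=
    (E.val.comp (integralClosure R E).val).codRestrict (nrm δ₀ δ₁) (fun w =>
      ⟨IsIntegral.map E.val w.2, w.1.2⟩)
  have hj : (nrm δ₀ δ₁).val.comp j = E.val.comp (integralClosure R E).val :=
    AlgHom.val_comp_codRestrict _ _ _
  refine ⟨Algebra.TensorProduct.map (AlgHom.id S S) j z, ?_⟩
  have h2 : (Algebra.TensorProduct.map (AlgHom.id S S) (nrm δ₀ δ₁).val).comp
      (Algebra.TensorProduct.map (AlgHom.id S S) j) =
      (Algebra.TensorProduct.map (AlgHom.id S S) E.val).comp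
        (Algebra.TensorProduct.map (AlgHom.id S S) (integralClosure R E).val) := by
    rw [← Algebra.TensorProduct.map_comp, ← Algebra.TensorProduct.map_comp, hj]
  have := congrArg (fun k => k z) h2
  simp only [AlgHom.comp_apply] at this
  rw [AlgHom.toRingHom_eq_coe, RingHom.coe_coe, this, hz', hy']

end Core

end Groth.Agent.Lib.Helper14.AS
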