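import Mathlib
import Groth.Agent.Lib.Helper14.Norm1
import Groth.Agent.Lib.Helper14.Norm1b

universe u
open CategoryTheory CategoryTheory.Limits TensorProduct

namespace Groth.Agent.Lib.Helper14.AS

variable {A B B' A₁ B₁ B'₁ P : CommRingCat.{u}} (φ : A ⟶ B) (δ₀ δ₁ : B ⟶ B')
  (τ : A ⟶ A₁) (β : B ⟶ B₁) (φ₁ : A₁ ⟶ B₁) (δ₀₁ δ₁₁ : B₁ ⟶ B'₁) (β' : B' ⟶ B'₁)

/-- The map `A' ⟶ A'₁` induced by `β`. -/
def normβ (hφ : φ ≫ β = τ ≫ φ₁) (c0 : β ≫ δ₀₁ = δ₀ ≫ β') (c1 : β ≫ δ₁₁ = δ₁ ≫ β') :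
    normRing φ δ₀ δ₁ ⟶ normRing φ₁ δ₀₁ δ₁₁ :=
  normLift φ₁ δ₀₁ δ₁₁ (normι φ δ₀ δ₁ ≫ β) (fun x => by
    refine ⟨?_, ?_⟩
    · have h1 : φ.hom.IsIntegralElem ((normι φ δ₀ δ₁).hom x) := x.2.1
      have h2 := h1.map β.hom
      rw [← CommRingCat.hom_comp, hφ] at h2
      exact RingHom.IsIntegralElem.of_comp h2
    · have e0 := congrArg (fun k => k.hom ((normι φ δ₀ δ₁).hom x)) c0
      have e1 := congrArg (fun k => k.hom ((normι φ δ₀ δ₁).hom x)) c1
      simp only [CommRingCat.hom_comp, RingHom.coe_comp, Function.comp_apply] at e0 e1 ⊢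
      rw [e0, e1]
      exact congrArg β'.hom x.2.2)

theorem normβ_ι (hφ : φ ≫ β = τ ≫ φ₁) (c0 : β ≫ δ₀₁ = δ₀ ≫ β') (c1 : β ≫ δ₁₁ = δ₁ ≫ β') :
    normβ φ δ₀ δ₁ τ β φ₁ δ₀₁ δ₁₁ β' hφ c0 c1 ≫ normι φ₁ δ₀₁ δ₁₁ = normι φ δ₀ δ₁ ≫ β :=
  normLift_ι _ _ _ _ _

end Groth.Agent.Lib.Helper14.AS

namespace Groth.Agent.Lib.Helper14.AS

variable {A B B' A₁ B₁ B'₁ P : CommRingCat.{u}} (φ : A ⟶ B) (δ₀ δ₁ : B ⟶ B')
  (τ : A ⟶ A₁) (β : B ⟶ B₁) (φ₁ : A₁ ⟶ B₁) (δ₀₁ δ₁₁ : B₁ ⟶ B'₁) (β' : B' ⟶ B'₁)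

set_option maxHeartbeats 1600000 in
theorem isPushout_norm (hτ : τ.hom.Smooth) (sqB : IsPushout φ τ β φ₁)
    (h0 : φ ≫ δ₀ = φ ≫ δ₁) (h01 : φ₁ ≫ δ₀₁ = φ₁ ≫ δ₁₁)
    (c0 : β ≫ δ₀₁ = δ₀ ≫ β') (c1 : β ≫ δ₁₁ = δ₁ ≫ β')
    {i₁ : B' ⟶ P} {i₂ : A₁ ⟶ P} (sqP : IsPushout (φ ≫ δ₀) τ i₁ i₂) (m : P ⟶ B'₁)
    (hm : Function.Injective m.hom) (hm₁ : i₁ ≫ m = β') (hm₂ : i₂ ≫ m = φ₁ ≫ δ₀₁) :
    IsPushout (normα φ δ₀ δ₁ h0) τ (normβ φ δ₀ δ₁ τ β φ₁ δ₀₁ δ₁₁ β' sqB.w c0 c1)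
      (normα φ₁ δ₀₁ δ₁₁ h01) := by
  let _ : Algebra A A₁ := τ.hom.toAlgebra
  let _ : Algebra A B := φ.hom.toAlgebra
  let _ : Algebra A B' := (φ ≫ δ₀).hom.toAlgebra
  let _ : Algebra A (normSub φ δ₀ δ₁) := RingHom.toAlgebra (R := A) (S := normSub φ δ₀ δ₁) (normα φ δ₀ δ₁ h0).hom
  have hsm : Algebra.Smooth A A₁ := hτ
  have hflat : Module.Flat A A₁ := inferInstance
  let d₀ : B →ₐ[A] B' := { δ₀.hom with commutes' := fun a => rfl }
  let d₁ : B →ₐ[A] B' :=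
    { δ₁.hom with commutes' := fun a => (congrArg (fun k => k.hom a) h0).symm }
  let ιalg : normRing φ δ₀ δ₁ →ₐ[A] B :=
    { (normι φ δ₀ δ₁).hom with commutes' := fun a => rfl }
  have HB : IsPushout τ φ
      (CommRingCat.ofHom (S := A₁ ⊗[A] B) Algebra.TensorProduct.includeLeftRingHom)
      (CommRingCat.ofHom (S := A₁ ⊗[A] B) Algebra.TensorProduct.includeRight.toRingHom) :=
    CommRingCat.isPushout_tensorProduct A A₁ B
  have HB' : IsPushout τ (φ ≫ δ₀)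
      (CommRingCat.ofHom (S := A₁ ⊗[A] B') Algebra.TensorProduct.includeLeftRingHom)
      (CommRingCat.ofHom (S := A₁ ⊗[A] B') Algebra.TensorProduct.includeRight.toRingHom) :=
    CommRingCat.isPushout_tensorProduct A A₁ B'
  have HA' : IsPushout τ (normα φ δ₀ δ₁ h0)
      (CommRingCat.ofHom (S := A₁ ⊗[A] normRing φ δ₀ δ₁)
        Algebra.TensorProduct.includeLeftRingHom)
      (CommRingCat.ofHom (S := A₁ ⊗[A] normRing φ δ₀ δ₁)
        Algebra.TensorProduct.includeRight.toRingHom) :=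
    CommRingCat.isPushout_tensorProduct A A₁ (normRing φ δ₀ δ₁)
  -- comparison for B
  let eB := HB.isoIsPushout _ _ sqB.flip
  have eB_inl : CommRingCat.ofHom (S := A₁ ⊗[A] B) Algebra.TensorProduct.includeLeftRingHom ≫
      eB.hom = φ₁ := HB.inl_isoIsPushout_hom _ _ sqB.flip
  have eB_inr : CommRingCat.ofHom (S := A₁ ⊗[A] B) Algebra.TensorProduct.includeRight.toRingHom ≫
      eB.hom = β := HB.inr_isoIsPushout_hom _ _ sqB.flip
  -- comparison for B'
  have comm' : τ ≫ φ₁ ≫ δ₀₁ = (φ ≫ δ₀) ≫ β' := by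
    rw [← Category.assoc, ← sqB.w, Category.assoc, c0, Category.assoc]
  let cP : CommRingCat.of (A₁ ⊗[A] B') ⟶ B'₁ := HB'.desc (φ₁ ≫ δ₀₁) β' comm'
  have cP_inl : CommRingCat.ofHom (S := A₁ ⊗[A] B') Algebra.TensorProduct.includeLeftRingHom ≫
      cP = φ₁ ≫ δ₀₁ := HB'.inl_desc _ _ _
  have cP_inr : CommRingCat.ofHom (S := A₁ ⊗[A] B') Algebra.TensorProduct.includeRight.toRingHom ≫
      cP = β' := HB'.inr_desc _ _ _
  have cP_eq : cP = (HB'.isoIsPushout _ _ sqP.flip).hom ≫ m := by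
    apply HB'.hom_ext
    · rw [cP_inl, ← Category.assoc, HB'.inl_isoIsPushout_hom, hm₂]
    · rw [cP_inr, ← Category.assoc, HB'.inr_isoIsPushout_hom, hm₁]
  have cP_inj : Function.Injective cP.hom := by
    rw [cP_eq, CommRingCat.hom_comp, RingHom.coe_comp]
    exact hm.comp ((ConcreteCategory.isIso_iff_bijective _).1 inferInstance).1
  -- the comparison map D
  have commD : τ ≫ normα φ₁ δ₀₁ δ₁₁ h01 =
      normα φ δ₀ δ₁ h0 ≫ normβ φ δ₀ δ₁ τ β φ₁ δ₀₁ δ₁₁ β' sqB.w c0 c1 := by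
    rw [← cancel_mono (normι φ₁ δ₀₁ δ₁₁), Category.assoc, Category.assoc, normα_ι, normβ_ι,
      ← Category.assoc, normα_ι, sqB.w]
  let D : CommRingCat.of (A₁ ⊗[A] normRing φ δ₀ δ₁) ⟶ normRing φ₁ δ₀₁ δ₁₁ :=
    HA'.desc (normα φ₁ δ₀₁ δ₁₁ h01) (normβ φ δ₀ δ₁ τ β φ₁ δ₀₁ δ₁₁ β' sqB.w c0 c1) commD
  have D_inl : CommRingCat.ofHom (S := A₁ ⊗[A] normRing φ δ₀ δ₁)
      Algebra.TensorProduct.includeLeftRingHom ≫ D = normα φ₁ δ₀₁ δ₁₁ h01 := HA'.inl_desc _ _ _
  have D_inr : CommRingCat.ofHom (S := A₁ ⊗[A] normRing φ δ₀ δ₁)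
      Algebra.TensorProduct.includeRight.toRingHom ≫ D =
        normβ φ δ₀ δ₁ τ β φ₁ δ₀₁ δ₁₁ β' sqB.w c0 c1 := HA'.inr_desc _ _ _
  -- key identity
  have key : D ≫ normι φ₁ δ₀₁ δ₁₁ =
      CommRingCat.ofHom (Algebra.TensorProduct.map (AlgHom.id A₁ A₁) ιalg).toRingHom ≫ eB.hom := by
    apply HA'.hom_ext
    · rw [← Category.assoc, D_inl, normα_ι, ← Category.assoc]
      have : CommRingCat.ofHom (S := A₁ ⊗[A] normRing φ δ₀ δ₁)
          Algebra.TensorProduct.includeLeftRingHom ≫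
          CommRingCat.ofHom (Algebra.TensorProduct.map (AlgHom.id A₁ A₁) ιalg).toRingHom =
          CommRingCat.ofHom (S := A₁ ⊗[A] B) Algebra.TensorProduct.includeLeftRingHom := by
        ext s; simp
      rw [this, eB_inl]
    · rw [← Category.assoc, D_inr, normβ_ι, ← Category.assoc]
      have : CommRingCat.ofHom (S := A₁ ⊗[A] normRing φ δ₀ δ₁)
          Algebra.TensorProduct.includeRight.toRingHom ≫
          CommRingCat.ofHom (Algebra.TensorProduct.map (AlgHom.id A₁ A₁) ιalg).toRingHom =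
          normι φ δ₀ δ₁ ≫
            CommRingCat.ofHom (S := A₁ ⊗[A] B) Algebra.TensorProduct.includeRight.toRingHom := by
        ext s
        first | (simp [ιalg]; done) | (simp [ιalg]; rfl)
      rw [this, Category.assoc, eB_inr]
  have eB_bij : Function.Bijective eB.hom.hom :=
    (ConcreteCategory.isIso_iff_bijective _).1 inferInstance
  have key_app : ∀ w, (normι φ₁ δ₀₁ δ₁₁).hom (D.hom w) =
      eB.hom.hom (Algebra.TensorProduct.map (AlgHom.id A₁ A₁) ιalg w) := fun w =>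
    congrArg (fun k => k.hom w) key
  have Dbij : Function.Bijective D.hom := by
    constructor
    · intro a b hab
      have h1 := congrArg (normι φ₁ δ₀₁ δ₁₁).hom hab
      rw [key_app, key_app] at h1
      have h2 := eB_bij.1 h1
      rw [tmap_eq_lTensor, tmap_eq_lTensor] at h2
      exact Module.Flat.lTensor_preserves_injective_linearMap (M := A₁)
        ιalg.toLinearMap (normι_injective φ δ₀ δ₁) h2
    · intro x₁
      let y : B₁ := (normι φ₁ δ₀₁ δ₁₁).hom x₁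
      let x : A₁ ⊗[A] B := eB.inv.hom y
      have hxy : eB.hom.hom x = y := by
        show (eB.inv ≫ eB.hom).hom y = y
        rw [Iso.inv_hom_id]; rfl
      have hxint : IsIntegral A₁ x := by
        have h1 : φ₁.hom.IsIntegralElem y := x₁.2.1
        have h2 := h1.map eB.inv.hom
        have h3 : eB.inv.hom.comp φ₁.hom = algebraMap A₁ (A₁ ⊗[A] B) := by
          rw [← CommRingCat.hom_comp, ← eB_inl, Category.assoc, Iso.hom_inv_id, Category.comp_id]
          rfl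
        rw [h3] at h2
        exact h2
      have hmapd : ∀ (d : B →ₐ[A] B') (δ : B ⟶ B') (δ' : B₁ ⟶ B'₁) (hd : ∀ b, d b = δ.hom b)
          (hc : β ≫ δ' = δ ≫ β') (hδ' : φ₁ ≫ δ' = φ₁ ≫ δ₀₁),
          CommRingCat.ofHom (Algebra.TensorProduct.map (AlgHom.id A₁ A₁) d).toRingHom ≫ cP =
            eB.hom ≫ δ' := by
        intro d δ δ' hd hc hδ'
        apply HB.hom_ext
        · rw [← Category.assoc, ← Category.assoc, eB_inl, hδ']
          have : CommRingCat.ofHom (S := A₁ ⊗[A] B) Algebra.TensorProduct.includeLeftRingHom ≫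
              CommRingCat.ofHom (Algebra.TensorProduct.map (AlgHom.id A₁ A₁) d).toRingHom =
              CommRingCat.ofHom (S := A₁ ⊗[A] B') Algebra.TensorProduct.includeLeftRingHom := by
            ext s; simp
          rw [this, cP_inl]
        · rw [← Category.assoc, ← Category.assoc, eB_inr, hc]
          have : CommRingCat.ofHom (S := A₁ ⊗[A] B) Algebra.TensorProduct.includeRight.toRingHom ≫
              CommRingCat.ofHom (Algebra.TensorProduct.map (AlgHom.id A₁ A₁) d).toRingHom =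
              δ ≫ CommRingCat.ofHom (S := A₁ ⊗[A] B')
                Algebra.TensorProduct.includeRight.toRingHom := by
            ext s; simp [hd]
          rw [this, Category.assoc, cP_inr]
      have e0 := congrArg (fun k => k.hom x) (hmapd d₀ δ₀ δ₀₁ (fun _ => rfl) c0 rfl)
      have e1 := congrArg (fun k => k.hom x) (hmapd d₁ δ₁ δ₁₁ (fun _ => rfl) c1 h01.symm)
      simp only [CommRingCat.hom_comp, RingHom.coe_comp, Function.comp_apply,
        CommRingCat.hom_ofHom] at e0 e1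
      have hδy : δ₀₁.hom y = δ₁₁.hom y := x₁.2.2
      rw [hxy] at e0 e1
      have hcore := mem_range_of_isIntegral_of_eq d₀ d₁
        (B'₁ := A₁ ⊗[A] B') (AlgHom.id A₁ _) Function.injective_id x hxint ?_
      swap
      · apply cP_inj
        show cP.hom ((Algebra.TensorProduct.map (AlgHom.id A₁ A₁) d₀) x) =
          cP.hom ((Algebra.TensorProduct.map (AlgHom.id A₁ A₁) d₁) x)
        have e0' : cP.hom ((Algebra.TensorProduct.map (AlgHom.id A₁ A₁) d₀) x) = δ₀₁.hom y := e0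
        have e1' : cP.hom ((Algebra.TensorProduct.map (AlgHom.id A₁ A₁) d₁) x) = δ₁₁.hom y := e1
        rw [e0', e1', hδy]
      obtain ⟨z, hz⟩ := hcore
      let θ : nrm d₀ d₁ →ₐ[A] normRing φ δ₀ δ₁ :=
        { toFun := fun b => ⟨b.1, ⟨b.2.1, b.2.2⟩⟩
          map_one' := rfl
          map_mul' := fun _ _ => rfl
          map_zero' := rfl
          map_add' := fun _ _ => rfl
          commutes' := fun _ => rfl }
      have hθ : ιalg.comp θ = (nrm d₀ d₁).val := by ext b; rfl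
      refine ⟨Algebra.TensorProduct.map (AlgHom.id A₁ A₁) θ z, ?_⟩
      apply normι_injective φ₁ δ₀₁ δ₁₁
      rw [key_app]
      have h2 : (Algebra.TensorProduct.map (AlgHom.id A₁ A₁) ιalg)
          ((Algebra.TensorProduct.map (AlgHom.id A₁ A₁) θ) z) = x := by
        have h3 : (Algebra.TensorProduct.map (AlgHom.id A₁ A₁) ιalg).comp
            (Algebra.TensorProduct.map (AlgHom.id A₁ A₁) θ) =
            Algebra.TensorProduct.map (AlgHom.id A₁ A₁) (nrm d₀ d₁).val := by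
          rw [← Algebra.TensorProduct.map_comp, hθ]; rfl
        have := congrArg (fun k => k z) h3
        simp only [AlgHom.comp_apply] at this
        rw [this]
        exact hz
      rw [h2, hxy]
  have : IsIso D := (ConcreteCategory.isIso_iff_bijective _).2 Dbij
  refine IsPushout.flip ?_
  refine IsPushout.of_iso HA' (Iso.refl _) (Iso.refl _) (Iso.refl _) (asIso D) ?_ ?_ ?_ ?_
  · simp
  · simp
  · simp only [Iso.refl_hom, Category.id_comp, asIso_hom]; exact D_inl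
  · simp only [Iso.refl_hom, Category.id_comp, asIso_hom]; exact D_inr

end Groth.Agent.Lib.Helper14.AS
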