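import Mathlib
import Groth.Prelude.Def_AlgSpMor5
import Groth.Agent.S9872
import Groth.Agent.Lib.Helper14.Norm1c
import Groth.Agent.Lib.Helper14.IntFinRep
import Groth.Agent.Lib.Helper14.FpqcBase4

/-!
# Relative normalization over an affine base from an etale chart (helper14)
-/

universe u
open CategoryTheory CategoryTheory.Limits AlgebraicGeometry Opposite
open AlgSp

namespace Groth.Agent.Lib.Helper14.AS

variable {S : Scheme.{u}}

/-- A chart presentation of `f : Y ⟶ h_T`: an affine etale surjective chart `W` of `Y` with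
kernel pair `R`. -/
structure NChart {T : Over S} {Y : Sp S} (f : Y ⟶ (yon S).obj T) where
  W : Over S
  R : Over S
  w : (yon S).obj W ⟶ Y
  d₀ : R ⟶ W
  d₁ : R ⟶ W
  φ₀ : W ⟶ T
  hW : IsAffine W.left
  hw_et : RepWith @Etale w
  hw_surj : RepWith @Surjective w
  sq : IsPullback ((yon S).map d₀) ((yon S).map d₁) w w
  hφ : (yon S).map φ₀ = w ≫ f

namespace NChart

variable {T : Over S} {Y : Sp S} {f : Y ⟶ (yon S).obj T} (c : NChart f)

theorem d₀_φ₀ : c.d₀ ≫ c.φ₀ = c.d₁ ≫ c.φ₀ := by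
  apply (yon S).map_injective
  rw [Functor.map_comp, Functor.map_comp, c.hφ, ← Category.assoc, ← Category.assoc, c.sq.w]

/-- `Γ(T) ⟶ Γ(W)`. -/
noncomputable def φ : Γ(T.left, ⊤) ⟶ Γ(c.W.left, ⊤) := c.φ₀.left.appTop
/-- `Γ(W) ⟶ Γ(R)`. -/
noncomputable def δ₀ : Γ(c.W.left, ⊤) ⟶ Γ(c.R.left, ⊤) := c.d₀.left.appTop
/-- `Γ(W) ⟶ Γ(R)`. -/
noncomputable def δ₁ : Γ(c.W.left, ⊤) ⟶ Γ(c.R.left, ⊤) := c.d₁.left.appTop

theorem h0 : c.φ ≫ c.δ₀ = c.φ ≫ c.δ₁ := by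
  unfold φ δ₀ δ₁
  rw [← Scheme.Hom.comp_appTop, ← Scheme.Hom.comp_appTop, ← Over.comp_left, ← Over.comp_left,
    c.d₀_φ₀]

/-- The normalization ring of the chart. -/
noncomputable abbrev A' : CommRingCat.{u} := normRing c.φ c.δ₀ c.δ₁

variable [IsAffine T.left]

theorem toSpecΓ_isoSpec_inv (X : Scheme.{u}) [IsAffine X] : X.toSpecΓ ≫ X.isoSpec.inv = 𝟙 X := by
  rw [← Scheme.isoSpec_hom, Iso.hom_inv_id]

/-- For a morphism to an affine scheme. -/
theorem eq_toSpecΓ_comp {X Z : Scheme.{u}} [IsAffine Z] (g : X ⟶ Z) :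
    g = X.toSpecΓ ≫ Spec.map g.appTop ≫ Z.isoSpec.inv := by
  rw [← Category.assoc, ← Scheme.toSpecΓ_naturality, Category.assoc, toSpecΓ_isoSpec_inv,
    Category.comp_id]

/-- `Spec A' ⟶ T` on schemes. -/
noncomputable def ρL : Spec c.A' ⟶ T.left :=
  Spec.map (normα c.φ c.δ₀ c.δ₁ c.h0) ≫ T.left.isoSpec.inv

/-- `W ⟶ Spec A'` on schemes. -/
noncomputable def qL : c.W.left ⟶ Spec c.A' :=
  c.W.left.toSpecΓ ≫ Spec.map (normι c.φ c.δ₀ c.δ₁)

theorem qL_ρL : c.qL ≫ c.ρL = c.φ₀.left := by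
  unfold qL ρL
  rw [Category.assoc, ← Category.assoc (Spec.map _), ← Spec.map_comp, normα_ι]
  exact (eq_toSpecΓ_comp c.φ₀.left).symm

theorem d₀_qL : c.d₀.left ≫ c.qL = c.d₁.left ≫ c.qL := by
  unfold qL
  rw [← Category.assoc, ← Category.assoc,
    Scheme.toSpecΓ_naturality, Scheme.toSpecΓ_naturality, Category.assoc, Category.assoc,
    ← Spec.map_comp, ← Spec.map_comp]
  congr 2
  exact normι_eq c.φ c.δ₀ c.δ₁

theorem isIntegralHom_ρL : IsIntegralHom c.ρL := by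
  unfold ρL
  have : IsIntegralHom (Spec.map (normα c.φ c.δ₀ c.δ₁ c.h0)) :=
    IsIntegralHom.SpecMap_iff.2 (normα_isIntegral _ _ _ _)
  infer_instance

/-- The normalization scheme (over `S`). -/
noncomputable def N : Over S := Over.mk (c.ρL ≫ T.hom)

/-- `N ⟶ T`. -/
noncomputable def ρ : c.N ⟶ T := Over.homMk c.ρL rfl

theorem ρ_left : c.ρ.left = c.ρL := rfl

instance : IsAffine c.N.left := inferInstanceAs (IsAffine (Spec _))

theorem isIntegralHom_ρ : IsIntegralHom c.ρ.left := c.isIntegralHom_ρL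

/-- `W ⟶ N`. -/
noncomputable def q : c.W ⟶ c.N :=
  Over.homMk c.qL (by
    show c.qL ≫ (c.ρL ≫ T.hom) = c.W.hom
    rw [← Category.assoc, qL_ρL, Over.w])

theorem q_left : c.q.left = c.qL := rfl

theorem q_ρ : c.q ≫ c.ρ = c.φ₀ := by
  apply Over.OverMorphism.ext
  exact c.qL_ρL

theorem d₀_q : c.d₀ ≫ c.q = c.d₁ ≫ c.q := by
  apply Over.OverMorphism.ext
  exact c.d₀_qL

theorem qL_appTop : c.qL.appTop = (Scheme.ΓSpecIso c.A').hom ≫ normι c.φ c.δ₀ c.δ₁ := by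
  unfold qL
  rw [Scheme.Hom.comp_appTop, Scheme.toSpecΓ_appTop, Scheme.ΓSpecIso_naturality]

instance : Mono c.qL.appTop := by
  rw [qL_appTop]; infer_instance

/-- `qL` is an epimorphism with respect to affine targets. -/
theorem qL_cancel {Z : Scheme.{u}} [IsAffine Z] {a b : Spec c.A' ⟶ Z} (h : c.qL ≫ a = c.qL ≫ b) :
    a = b := by
  apply ext_of_isAffine
  have := congrArg Scheme.Hom.appTop h
  rw [Scheme.Hom.comp_appTop, Scheme.Hom.comp_appTop] at this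
  exact (cancel_mono _).1 this

section Desc

variable (hY : IsAlgSpace Y)
include hY

theorem isColimit : Nonempty (IsColimit (Cofork.ofπ c.w c.sq.w)) :=
  (Groth.Agent.S9872.result S Y hY c.w c.hw_et c.hw_surj c.d₁ c.d₀ c.sq).2

theorem epi_w : Epi c.w := epi_of_etale_surjective c.w c.hw_et c.hw_surj

/-- Descend a morphism from the chart to `Y`. -/
theorem exists_desc {Z : Sp S} (k : (yon S).obj c.W ⟶ Z)
    (hk : (yon S).map c.d₀ ≫ k = (yon S).map c.d₁ ≫ k) : ∃ l : Y ⟶ Z, c.w ≫ l = k := by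
  obtain ⟨hc⟩ := c.isColimit hY
  exact ⟨hc.desc (Cofork.ofπ k hk), Cofork.IsColimit.π_desc hc⟩

/-- `Y ⟶ h_N`. -/
noncomputable def η : Y ⟶ (yon S).obj c.N :=
  (c.exists_desc hY ((yon S).map c.q) (by
    rw [← Functor.map_comp, ← Functor.map_comp, c.d₀_q])).choose

theorem w_η : c.w ≫ c.η hY = (yon S).map c.q :=
  (c.exists_desc hY ((yon S).map c.q) (by
    rw [← Functor.map_comp, ← Functor.map_comp, c.d₀_q])).choose_spec

theorem η_ρ : c.η hY ≫ (yon S).map c.ρ = f := by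
  have := c.epi_w hY
  rw [← cancel_epi c.w, ← Category.assoc, w_η, ← Functor.map_comp, q_ρ, c.hφ]

set_option backward.isDefEq.respectTransparency.types false in
theorem existsUnique_desc {Z₀ : Over S} (π₀ : Z₀ ⟶ T) (g : Y ⟶ (yon S).obj Z₀)
    (hπ₀ : IsIntegralHom π₀.left) (hg : g ≫ (yon S).map π₀ = f) :
    ∃! h : c.N ⟶ Z₀, c.η hY ≫ (yon S).map h = g ∧ h ≫ π₀ = c.ρ := by
  have hepi := c.epi_w hY
  have hZ₀ : IsAffine Z₀.left := isAffine_of_isAffineHom π₀.left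
  obtain ⟨g₀, hg₀⟩ := (yon S).map_surjective (c.w ≫ g)
  have hg₀π : g₀ ≫ π₀ = c.φ₀ := by
    apply (yon S).map_injective
    rw [Functor.map_comp, hg₀, Category.assoc, hg, c.hφ]
  have hg₀d : c.d₀ ≫ g₀ = c.d₁ ≫ g₀ := by
    apply (yon S).map_injective
    rw [Functor.map_comp, Functor.map_comp, hg₀, ← Category.assoc, ← Category.assoc, c.sq.w]
  let γ : Γ(Z₀.left, ⊤) ⟶ Γ(c.W.left, ⊤) := g₀.left.appTop
  let κ : Γ(T.left, ⊤) ⟶ Γ(Z₀.left, ⊤) := π₀.left.appTop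
  have hκ : κ.hom.IsIntegral := by
    have := (HasAffineProperty.iff_of_isAffine (P := @IsIntegralHom) (f := π₀.left)).1 hπ₀
    exact this.2
  have hκγ : κ ≫ γ = c.φ := by
    show π₀.left.appTop ≫ g₀.left.appTop = c.φ₀.left.appTop
    rw [← Scheme.Hom.comp_appTop, ← Over.comp_left, hg₀π]
  have hγδ : γ ≫ c.δ₀ = γ ≫ c.δ₁ := by
    show g₀.left.appTop ≫ c.d₀.left.appTop = g₀.left.appTop ≫ c.d₁.left.appTop
    rw [← Scheme.Hom.comp_appTop, ← Scheme.Hom.comp_appTop, ← Over.comp_left, ← Over.comp_left,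
      hg₀d]
  obtain ⟨γ', hγ', -⟩ := norm_desc c.φ c.δ₀ c.δ₁ κ hκ γ hκγ hγδ
  have hκγ' : κ ≫ γ' = normα c.φ c.δ₀ c.δ₁ c.h0 := norm_desc_α _ _ _ c.h0 κ γ hκγ γ' hγ'
  let hL : Spec c.A' ⟶ Z₀.left := Spec.map γ' ≫ Z₀.left.isoSpec.inv
  have hL1 : c.qL ≫ hL = g₀.left := by
    show (c.W.left.toSpecΓ ≫ Spec.map (normι c.φ c.δ₀ c.δ₁)) ≫ Spec.map γ' ≫ Z₀.left.isoSpec.inv = _
    rw [Category.assoc, ← Category.assoc (Spec.map _), ← Spec.map_comp, hγ']
    exact (eq_toSpecΓ_comp g₀.left).symm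
  have hL2 : hL ≫ π₀.left = c.ρL := by
    show (Spec.map γ' ≫ Z₀.left.isoSpec.inv) ≫ π₀.left = _
    rw [Category.assoc, ← Scheme.isoSpec_inv_naturality, ← Category.assoc, ← Spec.map_comp]
    show Spec.map (κ ≫ γ') ≫ _ = _
    rw [hκγ']; rfl
  let h : c.N ⟶ Z₀ := Over.homMk hL (by
    show hL ≫ Z₀.hom = c.ρL ≫ T.hom
    rw [← Over.w π₀, ← Category.assoc, hL2])
  have hqh : c.q ≫ h = g₀ := by
    apply Over.OverMorphism.ext
    exact hL1
  refine ⟨h, ⟨?_, ?_⟩, ?_⟩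
  · rw [← cancel_epi c.w, ← Category.assoc, w_η, ← Functor.map_comp, hqh, hg₀]
  · apply Over.OverMorphism.ext
    exact hL2
  · rintro h' ⟨h'1, h'2⟩
    have hqh' : c.q ≫ h' = g₀ := by
      apply (yon S).map_injective
      rw [Functor.map_comp, ← w_η c hY, Category.assoc, h'1, hg₀]
    apply Over.OverMorphism.ext
    apply c.qL_cancel
    have e1 : c.qL ≫ h'.left = g₀.left := congrArg (fun m => m.left) hqh'
    rw [e1]
    exact hL1.symm

end Desc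

end NChart

end Groth.Agent.Lib.Helper14.AS
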