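import Mathlib
import Groth.Agent.Lib.Helper14.Norm2
import Groth.Agent.Lib.Helper14.LimH
import Groth.Agent.Lib.Helper14.AlgSpQCMor
import Groth.Agent.Lib.Helper14.AlgSpDecent2

universe u
open CategoryTheory CategoryTheory.Limits AlgebraicGeometry Opposite
open AlgSp

namespace Groth.Agent.Lib.Helper14.AS

variable {S : Scheme.{u}}

/-- Over a scheme base `h_T`, the universal property of the relative normalization may be tested on
schemes integral over `T`. -/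
theorem isRelNormalization_yon_of_scheme {T N : Over S} {Y : Sp S} (f : Y ⟶ (yon S).obj T)
    (ρ : N ⟶ T) (η : Y ⟶ (yon S).obj N) (hfac : η ≫ (yon S).map ρ = f)
    (hint : IsIntegralHom ρ.left)
    (huniv : ∀ ⦃Z₀ : Over S⦄ (π₀ : Z₀ ⟶ T) (g : Y ⟶ (yon S).obj Z₀), IsIntegralHom π₀.left →
      g ≫ (yon S).map π₀ = f → ∃! h : N ⟶ Z₀, η ≫ (yon S).map h = g ∧ h ≫ π₀ = ρ) :
    IsRelNormalization f ((yon S).map ρ) η := by
  refine ⟨hfac, ?_, ?_⟩
  · exact (integral_finite_iff_repWith ((AlgSp.ofScheme S).map ρ)).1.2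
      ((AlgSp.repWith_yon_map_iff _ ρ).2 hint)
  · intro Z hZ π k hπ hk
    have hr : AlgSp.RepWith @IsIntegralHom π :=
      (integral_finite_iff_repWith (X := ⟨Z, hZ⟩) (Y := (AlgSp.ofScheme S).obj T)
        (ObjectProperty.homMk π)).1.1 hπ
    let Z₀ : Over S := hr.rep.pullback (𝟙 ((AlgSp.yon S).obj T))
    let π₀ : Z₀ ⟶ T := hr.rep.snd (𝟙 _)
    let fst : (AlgSp.yon S).obj Z₀ ⟶ Z := hr.rep.fst (𝟙 _)
    have sq : IsPullback fst ((AlgSp.yon S).map π₀) π (𝟙 _) := hr.rep.isPullback (𝟙 _)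
    have hπ₀ : IsIntegralHom π₀.left := hr.property_snd (𝟙 _)
    have hfst : IsIso fst := sq.isIso_fst_of_isIso
    have hfstπ : fst ≫ π = (AlgSp.yon S).map π₀ := by rw [sq.w, Category.comp_id]
    obtain ⟨h₀, ⟨hh1, hh2⟩, huniq⟩ := huniv π₀ (k ≫ inv fst) hπ₀ (by
      rw [Category.assoc, ← hfstπ, IsIso.inv_hom_id_assoc, hk])
    refine ⟨(yon S).map h₀ ≫ fst, ⟨?_, ?_⟩, ?_⟩
    · rw [← Category.assoc, hh1, Category.assoc, IsIso.inv_hom_id, Category.comp_id]
    · rw [Category.assoc, hfstπ, ← Functor.map_comp, hh2]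
    · rintro h' ⟨h'1, h'2⟩
      obtain ⟨h'₀, hh'₀⟩ := (AlgSp.yon S).map_surjective (h' ≫ inv fst)
      have := huniq h'₀ ⟨by rw [hh'₀, ← Category.assoc, h'1], by
        apply (AlgSp.yon S).map_injective
        rw [Functor.map_comp, hh'₀, Category.assoc, ← hfstπ, IsIso.inv_hom_id_assoc, h'2]⟩
      rw [← this, hh'₀, Category.assoc, IsIso.inv_hom_id, Category.comp_id]

/-- Conversely the universal property restricted to schemes. -/
theorem existsUnique_of_isRelNormalization_yon {T N : Over S} {Y : Sp S} {f : Y ⟶ (yon S).obj T}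
    {ρ : N ⟶ T} {η : Y ⟶ (yon S).obj N} (hn : IsRelNormalization f ((yon S).map ρ) η)
    ⦃Z₀ : Over S⦄ (π₀ : Z₀ ⟶ T) (g : Y ⟶ (yon S).obj Z₀) (hπ₀ : IsIntegralHom π₀.left)
    (hg : g ≫ (yon S).map π₀ = f) :
    ∃! h : N ⟶ Z₀, η ≫ (yon S).map h = g ∧ h ≫ π₀ = ρ := by
  have hπ : IsIntegralMor ((yon S).map π₀) :=
    (integral_finite_iff_repWith ((AlgSp.ofScheme S).map π₀)).1.2
      ((AlgSp.repWith_yon_map_iff _ π₀).2 hπ₀)
  obtain ⟨h, ⟨h1, h2⟩, huniq⟩ := hn.2.2 (IsAlgSpace.yon_obj Z₀) ((yon S).map π₀) g hπ hg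
  obtain ⟨h₀, hh₀⟩ := (yon S).map_surjective h
  refine ⟨h₀, ⟨by rw [hh₀, h1], ?_⟩, ?_⟩
  · apply (yon S).map_injective
    rw [Functor.map_comp, hh₀, h2]
  · rintro h' ⟨h'1, h'2⟩
    apply (yon S).map_injective
    rw [hh₀]
    exact huniq _ ⟨h'1, by rw [← Functor.map_comp, h'2]⟩

theorem _root_.Groth.Agent.Lib.Helper14.AS.NChart.isRelNormalization {T : Over S} {Y : Sp S} {f : Y ⟶ (yon S).obj T}
    [IsAffine T.left] (c : NChart f) (hY : IsAlgSpace Y) :
    IsRelNormalization f ((yon S).map c.ρ) (c.η hY) :=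
  isRelNormalization_yon_of_scheme f c.ρ (c.η hY) (c.η_ρ hY) c.isIntegralHom_ρ
    (fun _ π₀ g hπ₀ hg => c.existsUnique_desc hY π₀ g hπ₀ hg)

set_option backward.isDefEq.respectTransparency.types false in
/-- Existence of a chart presentation. -/
theorem exists_nchart {T : Over S} [IsAffine T.left] {Y : Sp S} (hY : IsAlgSpace Y)
    (f : Y ⟶ (yon S).obj T) (hqc : IsQuasiCompactMor f) : Nonempty (NChart f) := by
  have hYqc : IsQuasiCompactSp Y :=
    hqc (IsAlgSpace.yon_obj T) ((isQuasiCompactSp_yon_iff T).2 inferInstance) (𝟙 _) (𝟙 Y) f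
      (IsPullback.of_horiz_isIso ⟨by simp⟩)
  obtain ⟨U, p, hpe, hps, hUc⟩ := hYqc
  obtain ⟨W, e, hW, hwe, hws⟩ := exists_affine_chart_refinement hY ⟨U, p, hpe, hps, hUc⟩ p hpe hps
  let w := (yon S).map e ≫ p
  let R : Over S := hwe.rep.pullback w
  let d₁ : R ⟶ W := hwe.rep.snd w
  obtain ⟨d₀, hd₀⟩ := (yon S).map_surjective (hwe.rep.fst w)
  obtain ⟨φ₀, hφ₀⟩ := (yon S).map_surjective (w ≫ f)
  have hsq : IsPullback ((yon S).map d₀) ((yon S).map d₁) w w := by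
    rw [hd₀]; exact hwe.rep.isPullback w
  exact ⟨{ W := W, R := R, w := w, d₀ := d₀, d₁ := d₁, φ₀ := φ₀, hW := hW, hw_et := hwe,
           hw_surj := hws, sq := hsq, hφ := hφ₀ }⟩

set_option backward.isDefEq.respectTransparency.types false in
theorem _root_.Groth.Agent.Lib.Helper14.AS.NChart.compactSpace_R {T : Over S} [IsAffine T.left] {Y : Sp S}
    {f : Y ⟶ (yon S).obj T} (c : NChart f) (hqs : IsQuasiSeparatedMor f) :
    CompactSpace c.R.left := by
  have hW : IsAffine c.W.left := c.hW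
  have hqcφ : QuasiCompact c.φ₀.left := inferInstance
  have h1 : RepWith @QuasiCompact c.w :=
    repWith_quasiCompact_of_isQuasiSeparatedMor f hqs c.w c.φ₀ c.hφ.symm hqcφ c.hw_et.rep
  have h2 : QuasiCompact c.d₁.left := h1.property _ _ _ c.sq
  exact (quasiCompact_iff_compactSpace c.d₁.left).1 h2 |> fun h => h

/-- Existence of the normalization over an affine base. -/
theorem exists_affNorm {T : Over S} [IsAffine T.left] {Y : Sp S} (hY : IsAlgSpace Y)
    (f : Y ⟶ (yon S).obj T) (hqc : IsQuasiCompactMor f) :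
    ∃ (N : Over S) (ρ : N ⟶ T) (η : Y ⟶ (yon S).obj N), IsAffine N.left ∧
      IsRelNormalization f ((yon S).map ρ) η := by
  obtain ⟨c⟩ := exists_nchart hY f hqc
  exact ⟨c.N, c.ρ, c.η hY, inferInstance, c.isRelNormalization hY⟩

end Groth.Agent.Lib.Helper14.AS
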