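import Mathlib
import Groth.Agent.Lib.Helper14.Norm3
import Groth.Agent.Lib.Helper14.AlgSpSect

universe u
open CategoryTheory CategoryTheory.Limits AlgebraicGeometry Opposite
open AlgSp

namespace Groth.Agent.Lib.Helper14.AS

variable {S : Scheme.{u}}

theorem appLE_top_top {X Y : Scheme.{u}} (f : X ⟶ Y) (e : (⊤ : X.Opens) ≤ f ⁻¹ᵁ ⊤) :
    f.appLE ⊤ ⊤ e = f.appTop := by
  have : (homOfLE e).op = 𝟙 _ := rfl
  simp only [Scheme.Hom.appLE, Scheme.Hom.appTop, this]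
  erw [X.presheaf.map_id, Category.comp_id]

set_option backward.isDefEq.respectTransparency.types false in
theorem exists_mono_pushoutSection {X Y S T : Scheme.{u}} {f : T ⟶ S} {g : Y ⟶ X} {iX : X ⟶ S}
    {iY : Y ⟶ T} (H : IsPullback g iY iX f) [Flat f] [IsAffine S] [IsAffine T] [CompactSpace X] :
    ∃ (P : CommRingCat.{u}) (i₁ : Γ(X, ⊤) ⟶ P) (i₂ : Γ(T, ⊤) ⟶ P) (m : P ⟶ Γ(Y, ⊤)),
      IsPushout iX.appTop f.appTop i₁ i₂ ∧ Function.Injective m.hom ∧ i₁ ≫ m = g.appTop ∧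
        i₂ ≫ m = iY.appTop := by
  have hUST : (⊤ : T.Opens) ≤ f ⁻¹ᵁ ⊤ := le_rfl
  have hUSX : (⊤ : X.Opens) ≤ iX ⁻¹ᵁ ⊤ := le_rfl
  have hUY : (⊤ : Y.Opens) = g ⁻¹ᵁ ⊤ ⊓ iY ⁻¹ᵁ ⊤ := by simp
  have hm := mono_pushoutSection_of_isCompact_of_flat_right H hUST hUSX hUY (isAffineOpen_top S)
    (isAffineOpen_top T) (by simpa using isCompact_univ)
  have hsq : IsPushout (iX.appLE ⊤ ⊤ hUSX) (f.appLE ⊤ ⊤ hUST) (pushout.inl _ _) (pushout.inr _ _) :=
    IsPushout.of_hasPushout _ _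
  refine ⟨pushout (iX.appLE ⊤ ⊤ hUSX) (f.appLE ⊤ ⊤ hUST), pushout.inl _ _, pushout.inr _ _,
    pushoutSection H hUST hUSX hUY, ?_, ?_, ?_, ?_⟩
  · have h1 := appLE_top_top iX hUSX
    have h2 := appLE_top_top f hUST
    rw [← h1, ← h2]
    exact hsq
  · exact ConcreteCategory.injective_of_mono_of_preservesPullback _
  · rw [pushout.inl_desc, appLE_top_top]
  · rw [pushout.inr_desc, appLE_top_top]

/-- Transport of a relative normalization along an isomorphism of the middle object. -/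
theorem isRelNormalization_of_iso {F G X' X'' : Sp S} {f : F ⟶ G} {ν' : X'' ⟶ G} {f'' : F ⟶ X''}
    (hn : IsRelNormalization f ν' f'') (e : X' ≅ X'') {ν : X' ⟶ G} {f' : F ⟶ X'}
    (h1 : f' ≫ e.hom = f'') (h2 : e.hom ≫ ν' = ν) : IsRelNormalization f ν f' := by
  obtain ⟨hfac, hint, huniv⟩ := hn
  refine ⟨by rw [← h2, ← Category.assoc, h1, hfac], ?_, ?_⟩
  · rw [← h2]
    intro Z hZ g
    obtain ⟨W, i, fst, sq, hW, hi⟩ := hint hZ g
    refine ⟨W, i, fst ≫ e.inv, ?_, hW, hi⟩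
    refine IsPullback.of_iso sq (Iso.refl _) e.symm (Iso.refl _) (Iso.refl _) ?_ ?_ ?_ ?_ <;> simp
  · intro Z hZ π g hπ hg
    obtain ⟨h, ⟨hh1, hh2⟩, huniq⟩ := huniv hZ π g hπ hg
    refine ⟨e.hom ≫ h, ⟨by rw [← Category.assoc, h1, hh1], by rw [Category.assoc, hh2, h2]⟩, ?_⟩
    rintro h' ⟨h'1, h'2⟩
    have := huniq (e.inv ≫ h') ⟨by rw [← h1, Category.assoc, Iso.hom_inv_id_assoc, h'1], by
      rw [Category.assoc, h'2, ← h2, Iso.inv_hom_id_assoc]⟩
    rw [← this, Iso.hom_inv_id_assoc]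

/-- Uniqueness of the relative normalization. -/
theorem isRelNormalization_iso {F G X' X'' : Sp S} {f : F ⟶ G} {ν : X' ⟶ G} {f' : F ⟶ X'}
    {ν' : X'' ⟶ G} {f'' : F ⟶ X''} (hX' : IsAlgSpace X') (hX'' : IsAlgSpace X'')
    (hn : IsRelNormalization f ν f') (hn' : IsRelNormalization f ν' f'') :
    ∃ e : X' ≅ X'', f' ≫ e.hom = f'' ∧ e.hom ≫ ν' = ν := by
  obtain ⟨a, ⟨ha1, ha2⟩, -⟩ := hn.2.2 hX'' ν' f'' hn'.2.1 hn'.1
  obtain ⟨b, ⟨hb1, hb2⟩, -⟩ := hn'.2.2 hX' ν f' hn.2.1 hn.1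
  obtain ⟨i, -, hi⟩ := hn.2.2 hX' ν f' hn.2.1 hn.1
  obtain ⟨j, -, hj⟩ := hn'.2.2 hX'' ν' f'' hn'.2.1 hn'.1
  have e1 : a ≫ b = 𝟙 _ := by
    rw [hi (a ≫ b) ⟨by rw [← Category.assoc, ha1, hb1], by rw [Category.assoc, hb2, ha2]⟩]
    exact (hi (𝟙 _) ⟨Category.comp_id _, Category.id_comp _⟩).symm
  have e2 : b ≫ a = 𝟙 _ := by
    rw [hj (b ≫ a) ⟨by rw [← Category.assoc, hb1, ha1], by rw [Category.assoc, ha2, hb2]⟩]
    exact (hj (𝟙 _) ⟨Category.comp_id _, Category.id_comp _⟩).symm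
  exact ⟨⟨a, b, e1, e2⟩, ha1, ha2⟩

section BaseChange

variable {T T₁ : Over S} (τ : T₁ ⟶ T) {Y Y₁ : Sp S} {f : Y ⟶ (yon S).obj T}
  {f₁ : Y₁ ⟶ (yon S).obj T₁} {fst : Y₁ ⟶ Y} (sqY : IsPullback fst f₁ f ((yon S).map τ))
  (c : NChart f)

namespace NChart

/-- base-changed chart scheme -/
noncomputable def bcW : Over S := pullback c.φ₀ τ
/-- projection -/
noncomputable def bcpW : bcW τ c ⟶ c.W := pullback.fst c.φ₀ τ
/-- structure map -/
noncomputable def bcφ₀ : bcW τ c ⟶ T₁ := pullback.snd c.φ₀ τ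

theorem bc_sqW : IsPullback (bcpW τ c) (bcφ₀ τ c) c.φ₀ τ := IsPullback.of_hasPullback _ _

/-- base-changed relation -/
noncomputable def bcR : Over S := pullback (c.d₀ ≫ c.φ₀) τ
/-- projection -/
noncomputable def bcpR : bcR τ c ⟶ c.R := pullback.fst (c.d₀ ≫ c.φ₀) τ
/-- structure map -/
noncomputable def bcψ : bcR τ c ⟶ T₁ := pullback.snd (c.d₀ ≫ c.φ₀) τ

theorem bc_sqR : IsPullback (bcpR τ c) (bcψ τ c) (c.d₀ ≫ c.φ₀) τ := IsPullback.of_hasPullback _ _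

/-- base-changed `d₀` -/
noncomputable def bcd₀ : bcR τ c ⟶ bcW τ c :=
  (bc_sqW τ c).lift (bcpR τ c ≫ c.d₀) (bcψ τ c) (by
    rw [Category.assoc]; exact (bc_sqR τ c).w)

/-- base-changed `d₁` -/
noncomputable def bcd₁ : bcR τ c ⟶ bcW τ c :=
  (bc_sqW τ c).lift (bcpR τ c ≫ c.d₁) (bcψ τ c) (by
    rw [Category.assoc, ← c.d₀_φ₀]; exact (bc_sqR τ c).w)

@[reassoc] theorem bcd₀_pW : bcd₀ τ c ≫ bcpW τ c = bcpR τ c ≫ c.d₀ := (bc_sqW τ c).lift_fst _ _ _
@[reassoc] theorem bcd₁_pW : bcd₁ τ c ≫ bcpW τ c = bcpR τ c ≫ c.d₁ := (bc_sqW τ c).lift_fst _ _ _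
@[reassoc] theorem bcd₀_φ₀ : bcd₀ τ c ≫ bcφ₀ τ c = bcψ τ c := (bc_sqW τ c).lift_snd _ _ _
@[reassoc] theorem bcd₁_φ₀ : bcd₁ τ c ≫ bcφ₀ τ c = bcψ τ c := (bc_sqW τ c).lift_snd _ _ _

include sqY in
theorem bc_comm : ((yon S).map (bcpW τ c) ≫ c.w) ≫ f = (yon S).map (bcφ₀ τ c) ≫ (yon S).map τ := by
  rw [Category.assoc, ← c.hφ, ← Functor.map_comp, ← Functor.map_comp, (bc_sqW τ c).w]

/-- base-changed chart map -/
noncomputable def bcw : (yon S).obj (bcW τ c) ⟶ Y₁ :=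
  sqY.lift ((yon S).map (bcpW τ c) ≫ c.w) ((yon S).map (bcφ₀ τ c)) (bc_comm τ sqY c)

@[reassoc] theorem bcw_fst : bcw τ sqY c ≫ fst = (yon S).map (bcpW τ c) ≫ c.w := sqY.lift_fst _ _ _
@[reassoc] theorem bcw_f₁ : bcw τ sqY c ≫ f₁ = (yon S).map (bcφ₀ τ c) := sqY.lift_snd _ _ _

theorem bc_sq_top : IsPullback ((yon S).map (bcpW τ c)) (bcw τ sqY c) c.w fst := by
  refine IsPullback.of_bot ?_ (bcw_fst τ sqY c).symm sqY
  rw [bcw_f₁, ← c.hφ]
  exact (bc_sqW τ c).map (yon S)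

theorem bc_sq : IsPullback ((yon S).map (bcd₀ τ c)) ((yon S).map (bcd₁ τ c))
    (bcw τ sqY c) (bcw τ sqY c) := by
  have hW := (bc_sqW τ c).map (yon S)
  have hR := (bc_sqR τ c).map (yon S)
  have key : ∀ (Z : Sp S) (x y : Z ⟶ (yon S).obj (bcW τ c)), x ≫ bcw τ sqY c = y ≫ bcw τ sqY c →
      (x ≫ (yon S).map (bcpW τ c)) ≫ c.w = (y ≫ (yon S).map (bcpW τ c)) ≫ c.w ∧
      x ≫ (yon S).map (bcφ₀ τ c) = y ≫ (yon S).map (bcφ₀ τ c) := by
    intro Z x y hxy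
    constructor
    · rw [Category.assoc, Category.assoc, ← bcw_fst τ sqY c, ← Category.assoc, ← Category.assoc, hxy]
    · rw [← bcw_f₁ τ sqY c, ← Category.assoc, ← Category.assoc, hxy]
  refine isPullback_of_exists_unique ?_ ?_ ?_
  · apply sqY.hom_ext
    · rw [Category.assoc, Category.assoc, bcw_fst, ← Category.assoc, ← Category.assoc,
        ← Functor.map_comp, ← Functor.map_comp, bcd₀_pW, bcd₁_pW, Functor.map_comp,
        Functor.map_comp, Category.assoc, Category.assoc, c.sq.w]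
    · rw [Category.assoc, Category.assoc, bcw_f₁, ← Functor.map_comp, ← Functor.map_comp,
        bcd₀_φ₀, bcd₁_φ₀]
  · intro Z x y hxy
    obtain ⟨h1, h2⟩ := key Z x y hxy
    let r : Z ⟶ (yon S).obj c.R := c.sq.lift _ _ h1
    have hr0 : r ≫ (yon S).map c.d₀ = x ≫ (yon S).map (bcpW τ c) := c.sq.lift_fst _ _ _
    have hr1 : r ≫ (yon S).map c.d₁ = y ≫ (yon S).map (bcpW τ c) := c.sq.lift_snd _ _ _
    let z : Z ⟶ (yon S).obj (bcR τ c) := hR.lift r (x ≫ (yon S).map (bcφ₀ τ c)) (by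
      rw [Functor.map_comp, ← Category.assoc, hr0, Category.assoc, Category.assoc, hW.w])
    have hz1 : z ≫ (yon S).map (bcpR τ c) = r := hR.lift_fst _ _ _
    have hz2 : z ≫ (yon S).map (bcψ τ c) = x ≫ (yon S).map (bcφ₀ τ c) := hR.lift_snd _ _ _
    refine ⟨z, ?_, ?_⟩
    · apply hW.hom_ext
      · rw [Category.assoc, ← Functor.map_comp, bcd₀_pW, Functor.map_comp, ← Category.assoc, hz1, hr0]
      · rw [Category.assoc, ← Functor.map_comp, bcd₀_φ₀, hz2]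
    · apply hW.hom_ext
      · rw [Category.assoc, ← Functor.map_comp, bcd₁_pW, Functor.map_comp, ← Category.assoc, hz1, hr1]
      · rw [Category.assoc, ← Functor.map_comp, bcd₁_φ₀, hz2, h2]
  · intro Z z z' h0 h1
    apply hR.hom_ext
    · apply c.sq.hom_ext
      · have := congrArg (· ≫ (yon S).map (bcpW τ c)) h0
        simp only [Category.assoc, ← Functor.map_comp, bcd₀_pW] at this
        simpa only [Functor.map_comp, Category.assoc] using this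
      · have := congrArg (· ≫ (yon S).map (bcpW τ c)) h1
        simp only [Category.assoc, ← Functor.map_comp, bcd₁_pW] at this
        simpa only [Functor.map_comp, Category.assoc] using this
    · have := congrArg (· ≫ (yon S).map (bcφ₀ τ c)) h0
      simpa only [Category.assoc, ← Functor.map_comp, bcd₀_φ₀] using this

set_option backward.isDefEq.respectTransparency.types false in
/-- The base-changed chart. -/
noncomputable def bc [IsAffine T.left] [IsAffine T₁.left] : NChart f₁ where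
  W := bcW τ c
  R := bcR τ c
  w := bcw τ sqY c
  d₀ := bcd₀ τ c
  d₁ := bcd₁ τ c
  φ₀ := bcφ₀ τ c
  hW := by
    have : IsAffine c.W.left := c.hW
    have h := (bc_sqW τ c).map (Over.forget S)
    exact IsAffine.of_isPullback (f := c.φ₀.left) (g := τ.left) h
  hw_et := MorphismProperty.of_isPullback (P := RepWith @Etale) (bc_sq_top τ sqY c) c.hw_et
  hw_surj := MorphismProperty.of_isPullback (P := RepWith @Surjective) (bc_sq_top τ sqY c)
    c.hw_surj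
  sq := bc_sq τ sqY c
  hφ := (bcw_f₁ τ sqY c).symm

end NChart

section Main

variable [IsAffine T.left] [IsAffine T₁.left]

set_option backward.isDefEq.respectTransparency.types false in
/-- ring-level pushout for the base-changed chart -/
theorem NChart.bc_isPushout (hsm : Smooth τ.left) (hRc : CompactSpace c.R.left) :
    ∃ nb : c.A' ⟶ (c.bc τ sqY).A',
      nb ≫ normι (c.bc τ sqY).φ (c.bc τ sqY).δ₀ (c.bc τ sqY).δ₁ =
        normι c.φ c.δ₀ c.δ₁ ≫ (NChart.bcpW τ c).left.appTop ∧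
      IsPushout (normα c.φ c.δ₀ c.δ₁ c.h0) τ.left.appTop nb
        (normα (c.bc τ sqY).φ (c.bc τ sqY).δ₀ (c.bc τ sqY).δ₁ (c.bc τ sqY).h0) := by
  have hW : IsAffine c.W.left := c.hW
  have hτ : τ.left.appTop.hom.Smooth := (HasRingHomProperty.iff_of_isAffine (P := @Smooth)).1 hsm
  have sqB : IsPushout c.φ τ.left.appTop (NChart.bcpW τ c).left.appTop (c.bc τ sqY).φ :=
    isPushout_appTop_of_isPullback ((NChart.bc_sqW τ c).map (Over.forget S))
  have c0 : (NChart.bcpW τ c).left.appTop ≫ (c.bc τ sqY).δ₀ =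
      c.δ₀ ≫ (NChart.bcpR τ c).left.appTop := by
    show (NChart.bcpW τ c).left.appTop ≫ (NChart.bcd₀ τ c).left.appTop =
      c.d₀.left.appTop ≫ (NChart.bcpR τ c).left.appTop
    rw [← Scheme.Hom.comp_appTop, ← Scheme.Hom.comp_appTop, ← Over.comp_left, ← Over.comp_left,
      NChart.bcd₀_pW]
  have c1 : (NChart.bcpW τ c).left.appTop ≫ (c.bc τ sqY).δ₁ =
      c.δ₁ ≫ (NChart.bcpR τ c).left.appTop := by
    show (NChart.bcpW τ c).left.appTop ≫ (NChart.bcd₁ τ c).left.appTop =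
      c.d₁.left.appTop ≫ (NChart.bcpR τ c).left.appTop
    rw [← Scheme.Hom.comp_appTop, ← Scheme.Hom.comp_appTop, ← Over.comp_left, ← Over.comp_left,
      NChart.bcd₁_pW]
  have hfl : Flat τ.left := inferInstance
  have hpbR : IsPullback (NChart.bcpR τ c).left (NChart.bcψ τ c).left (c.d₀ ≫ c.φ₀).left τ.left :=
    (NChart.bc_sqR τ c).map (Over.forget S)
  obtain ⟨P, i₁, i₂, m, sqP, hm, hm₁, hm₂⟩ := exists_mono_pushoutSection hpbR
  have e1 : (c.d₀ ≫ c.φ₀).left.appTop = c.φ ≫ c.δ₀ := by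
    show _ = c.φ₀.left.appTop ≫ c.d₀.left.appTop
    rw [← Scheme.Hom.comp_appTop, ← Over.comp_left]
  have e2 : (NChart.bcψ τ c).left.appTop = (c.bc τ sqY).φ ≫ (c.bc τ sqY).δ₀ := by
    show _ = (NChart.bcφ₀ τ c).left.appTop ≫ (NChart.bcd₀ τ c).left.appTop
    rw [← Scheme.Hom.comp_appTop, ← Over.comp_left, NChart.bcd₀_φ₀]
  have sqP' : IsPushout (c.φ ≫ c.δ₀) τ.left.appTop i₁ i₂ := by
    rw [← e1]; exact sqP
  refine ⟨normβ c.φ c.δ₀ c.δ₁ τ.left.appTop (NChart.bcpW τ c).left.appTop (c.bc τ sqY).φ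
    (c.bc τ sqY).δ₀ (c.bc τ sqY).δ₁ (NChart.bcpR τ c).left.appTop sqB.w c0 c1, normβ_ι _ _ _ _ _ _ _ _ _ _ _ _, ?_⟩
  exact isPushout_norm c.φ c.δ₀ c.δ₁ τ.left.appTop _ _ _ _ _ hτ sqB c.h0 (c.bc τ sqY).h0 c0 c1
    sqP' m hm hm₁ (hm₂.trans e2)

set_option backward.isDefEq.respectTransparency.types false in
/-- scheme-level pullback of normalizations -/
theorem NChart.bc_isPullback (hsm : Smooth τ.left) (hRc : CompactSpace c.R.left) :
    ∃ pN : (c.bc τ sqY).N ⟶ c.N, IsPullback pN (c.bc τ sqY).ρ c.ρ τ ∧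
      (c.bc τ sqY).q ≫ pN = NChart.bcpW τ c ≫ c.q := by
  obtain ⟨nb, hnb, hpush⟩ := NChart.bc_isPushout τ sqY c hsm hRc
  have hpb := isPullback_SpecMap_of_isPushout _ _ _ _ hpush
  have hnat : Spec.map τ.left.appTop ≫ T.left.isoSpec.inv = T₁.left.isoSpec.inv ≫ τ.left :=
    Scheme.isoSpec_inv_naturality τ.left
  have hpb' : IsPullback (Spec.map nb) (c.bc τ sqY).ρL c.ρL τ.left := by
    refine IsPullback.of_iso hpb (Iso.refl _) (Iso.refl _) T₁.left.isoSpec.symm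
      T.left.isoSpec.symm ?_ ?_ ?_ ?_
    · simp
    · simp only [Iso.refl_hom, Category.id_comp, Iso.symm_hom]; rfl
    · simp only [Iso.refl_hom, Category.id_comp, Iso.symm_hom]; rfl
    · simp only [Iso.symm_hom]; exact hnat
  let pN : (c.bc τ sqY).N ⟶ c.N := Over.homMk (Spec.map nb) (by
    show Spec.map nb ≫ (c.ρL ≫ T.hom) = (c.bc τ sqY).ρL ≫ T₁.hom
    rw [← Category.assoc, hpb'.w, Category.assoc, Over.w τ])
  refine ⟨pN, ?_, ?_⟩
  · refine IsPullback.of_map (Over.forget S) ?_ hpb'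
    apply Over.OverMorphism.ext
    exact hpb'.w
  · apply Over.OverMorphism.ext
    show (c.bc τ sqY).qL ≫ Spec.map nb = (NChart.bcpW τ c).left ≫ c.qL
    unfold NChart.qL
    rw [Category.assoc, ← Spec.map_comp, hnb]
    erw [Spec.map_comp]
    rw [← Category.assoc, ← Category.assoc]
    congr 1
    exact (Scheme.toSpecΓ_naturality (NChart.bcpW τ c).left).symm

set_option backward.isDefEq.respectTransparency.types false in
include sqY in
/-- **Smooth base change of the relative normalization over affine bases.** -/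
theorem isRelNormalization_baseChange_affine (hsm : Smooth τ.left) (hY : IsAlgSpace Y)
    (hY₁ : IsAlgSpace Y₁) (hqc : IsQuasiCompactMor f) (hqs : IsQuasiSeparatedMor f)
    {N N₁ : Over S} {ρ : N ⟶ T} {η : Y ⟶ (yon S).obj N}
    (hn : IsRelNormalization f ((yon S).map ρ) η)
    {pN : N₁ ⟶ N} {ρ₁ : N₁ ⟶ T₁} (sqN : IsPullback pN ρ₁ ρ τ)
    {η₁ : Y₁ ⟶ (yon S).obj N₁} (h1 : η₁ ≫ (yon S).map pN = fst ≫ η)
    (h2 : η₁ ≫ (yon S).map ρ₁ = f₁) :
    IsRelNormalization f₁ ((yon S).map ρ₁) η₁ := by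
  obtain ⟨c⟩ := exists_nchart hY f hqc
  have hRc := c.compactSpace_R hqs
  have hnc := c.isRelNormalization hY
  have hnc₁ := (c.bc τ sqY).isRelNormalization hY₁
  obtain ⟨pNc, sqNc, hq⟩ := NChart.bc_isPullback τ sqY c hsm hRc
  obtain ⟨e, he1, he2⟩ := isRelNormalization_iso (IsAlgSpace.yon_obj N) (IsAlgSpace.yon_obj c.N)
    hn hnc
  let e₀ : N ≅ c.N := (yon S).preimageIso e
  have he₀ : (yon S).map e₀.hom = e.hom := by simp [e₀]
  have he₀ρ : e₀.hom ≫ c.ρ = ρ := by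
    apply (yon S).map_injective
    rw [Functor.map_comp, he₀, he2]
  have sqN' : IsPullback (pN ≫ e₀.hom) ρ₁ c.ρ τ := by
    refine IsPullback.of_iso sqN (Iso.refl _) e₀ (Iso.refl _) (Iso.refl _) ?_ ?_ ?_ ?_
    · simp
    · simp
    · simp [he₀ρ]
    · simp
  let e₁ : N₁ ≅ (c.bc τ sqY).N := sqN'.isoIsPullback _ _ sqNc
  have he₁a : e₁.hom ≫ pNc = pN ≫ e₀.hom := sqN'.isoIsPullback_hom_fst _ _ sqNc
  have he₁b : e₁.hom ≫ (c.bc τ sqY).ρ = ρ₁ := sqN'.isoIsPullback_hom_snd _ _ sqNc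
  refine isRelNormalization_of_iso hnc₁ ((yon S).mapIso e₁) ?_ ?_
  · have hpbY := sqNc.map (yon S)
    apply hpbY.hom_ext
    · rw [Functor.mapIso_hom, Category.assoc, ← Functor.map_comp, he₁a, Functor.map_comp,
        ← Category.assoc, h1, Category.assoc, he₀, he1]
      have := (c.bc τ sqY).epi_w hY₁
      rw [← cancel_epi (c.bc τ sqY).w, ← Category.assoc, ← Category.assoc, NChart.w_η,
        ← Functor.map_comp, hq]
      show (NChart.bcw τ sqY c ≫ fst) ≫ _ = (yon S).map (NChart.bcpW τ c ≫ c.q)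
      rw [NChart.bcw_fst, Category.assoc, NChart.w_η, Functor.map_comp]
    · rw [Functor.mapIso_hom, Category.assoc, ← Functor.map_comp, he₁b, h2, NChart.η_ρ]
  · rw [Functor.mapIso_hom, ← Functor.map_comp, he₁b]

end Main

end BaseChange

end Groth.Agent.Lib.Helper14.AS
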