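import Mathlib
import Groth.Agent.Lib.Helper14.AlgSpBase
import Groth.Agent.Lib.Helper14.AlgSpBasic2
import Groth.Agent.Lib.Helper14.AlgSpLocP
import Groth.Agent.Lib.Helper14.AlgSpQC
import Groth.Agent.Lib.Helper14.AlgSpSect

/-!
# Affine etale charts of a sheaf and cartesian functors on them (helper14)
-/

universe u
open CategoryTheory CategoryTheory.Limits AlgebraicGeometry Opposite
open AlgSp

namespace Groth.Agent.Lib.Helper14.AS

variable {S : Scheme.{u}}

/-- Affine schemes etale over the sheaf `X`. -/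
structure AffEt (X : Sp S) where
  V : Over S
  v : (yon S).obj V ⟶ X
  etale : RepWith @Etale v
  affine : IsAffine V.left

namespace AffEt

variable {X : Sp S}

/-- Morphisms of affine etale charts. -/
@[ext]
structure Hom (E₁ E₂ : AffEt X) where
  a : E₁.V ⟶ E₂.V
  w : (yon S).map a ≫ E₂.v = E₁.v

instance : Category (AffEt X) where
  Hom := Hom
  id E := ⟨𝟙 _, by rw [CategoryTheory.Functor.map_id, Category.id_comp]⟩
  comp f g := ⟨f.a ≫ g.a, by rw [Functor.map_comp, Category.assoc, g.w, f.w]⟩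

@[simp] theorem id_a (E : AffEt X) : (𝟙 E : E ⟶ E).a = 𝟙 E.V := rfl
@[simp] theorem comp_a {E₁ E₂ E₃ : AffEt X} (f : E₁ ⟶ E₂) (g : E₂ ⟶ E₃) :
    (f ≫ g).a = f.a ≫ g.a := rfl

theorem hom_ext' {E₁ E₂ : AffEt X} {f g : E₁ ⟶ E₂} (h : f.a = g.a) : f = g := Hom.ext h

theorem etale_hom {E₁ E₂ : AffEt X} (f : E₁ ⟶ E₂) : Etale f.a.left := by
  have h : RepWith @Etale ((yon S).map f.a) :=
    repWith_etale_of_comp _ E₂.v E₂.etale (by rw [f.w]; exact E₁.etale)
  exact (repWith_yon_map_iff _ _).1 h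

/-- Restriction to an affine open. -/
noncomputable def res (E : AffEt X) (U : E.V.left.Opens) (hU : IsAffineOpen U) : AffEt X where
  V := openSub E.V U
  v := (yon S).map (openSubι E.V U) ≫ E.v
  etale := repWith_etale_restrict E.etale U
  affine := hU

/-- The inclusion of the restriction. -/
noncomputable def resι (E : AffEt X) (U : E.V.left.Opens) (hU : IsAffineOpen U) :
    E.res U hU ⟶ E := ⟨openSubι E.V U, rfl⟩

set_option backward.isDefEq.respectTransparency.types false in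
/-- A chart from an etale scheme morphism to a chart. -/
noncomputable def ofHom (E : AffEt X) {V' : Over S} (a : V' ⟶ E.V) (ha : Etale a.left)
    (hV' : IsAffine V'.left) : AffEt X where
  V := V'
  v := (yon S).map a ≫ E.v
  etale := repWith_comp @Etale ((repWith_yon_map_iff _ _).2 ha) E.etale
  affine := hV'

/-- its structure morphism -/
noncomputable def ofHomι (E : AffEt X) {V' : Over S} (a : V' ⟶ E.V) (ha : Etale a.left)
    (hV' : IsAffine V'.left) : E.ofHom a ha hV' ⟶ E := ⟨a, rfl⟩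

set_option backward.isDefEq.respectTransparency.types false in
/-- Fibre products of charts. -/
noncomputable def pb {E₁ E₂ E₀ : AffEt X} (a₁ : E₁ ⟶ E₀) (a₂ : E₂ ⟶ E₀) : AffEt X :=
  E₁.ofHom (pullback.fst a₁.a a₂.a) (by
    have := etale_hom a₂
    have h := (IsPullback.of_hasPullback a₁.a a₂.a).map (Over.forget S)
    exact MorphismProperty.of_isPullback (P := @Etale) h.flip this) (by
    have : IsAffine E₁.V.left := E₁.affine
    have : IsAffine E₂.V.left := E₂.affine
    have : IsAffine E₀.V.left := E₀.affine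
    have h := (IsPullback.of_hasPullback a₁.a a₂.a).map (Over.forget S)
    exact IsAffine.of_isPullback (f := a₁.a.left) (g := a₂.a.left) h)

/-- first projection -/
noncomputable def pbFst {E₁ E₂ E₀ : AffEt X} (a₁ : E₁ ⟶ E₀) (a₂ : E₂ ⟶ E₀) : pb a₁ a₂ ⟶ E₁ :=
  ⟨pullback.fst a₁.a a₂.a, rfl⟩

/-- second projection -/
noncomputable def pbSnd {E₁ E₂ E₀ : AffEt X} (a₁ : E₁ ⟶ E₀) (a₂ : E₂ ⟶ E₀) : pb a₁ a₂ ⟶ E₂ :=
  ⟨pullback.snd a₁.a a₂.a, by
    have h : (yon S).map (pullback.snd a₁.a a₂.a) ≫ (yon S).map a₂.a =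
        (yon S).map (pullback.fst a₁.a a₂.a) ≫ (yon S).map a₁.a := by
      rw [← Functor.map_comp, ← Functor.map_comp, pullback.condition]
    show _ = (yon S).map (pullback.fst a₁.a a₂.a) ≫ E₁.v
    rw [← a₂.w, ← a₁.w, ← Category.assoc, ← Category.assoc]
    exact congrArg (· ≫ E₀.v) h⟩

theorem pb_condition {E₁ E₂ E₀ : AffEt X} (a₁ : E₁ ⟶ E₀) (a₂ : E₂ ⟶ E₀) :
    pbFst a₁ a₂ ≫ a₁ = pbSnd a₁ a₂ ≫ a₂ := hom_ext' pullback.condition

theorem pb_isPullback {E₁ E₂ E₀ : AffEt X} (a₁ : E₁ ⟶ E₀) (a₂ : E₂ ⟶ E₀) :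
    IsPullback (pbFst a₁ a₂).a (pbSnd a₁ a₂).a a₁.a a₂.a := IsPullback.of_hasPullback _ _

end AffEt

/-- A functor on affine etale charts with a cartesian transformation to the forgetful functor. -/
structure CartFun (X : Sp S) where
  F : AffEt X ⥤ Over S
  ρ : ∀ E, F.obj E ⟶ E.V
  cart : ∀ {E₁ E₂ : AffEt X} (a : E₁ ⟶ E₂), IsPullback (F.map a) (ρ E₁) (ρ E₂) a.a

end Groth.Agent.Lib.Helper14.AS
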