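import Groth.Agent.Lib.Helper14.Norm5a
import Groth.Agent.Lib.Helper14.SheafQuot2

/-!
# Gluing a cartesian functor on affine etale charts (helper14)
-/

universe u
open CategoryTheory CategoryTheory.Limits AlgebraicGeometry Opposite
open AlgSp

namespace Groth.Agent.Lib.Helper14.AS

variable {S : Scheme.{u}} {X : Sp S}

theorem yEquiv_map_comp'' {T T' : Over S} {F : Sp S} (m : T' ⟶ T) (x : (yon S).obj T ⟶ F) :
    yEquiv ((yon S).map m ≫ x) = F.obj.map m.op (yEquiv x) :=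
  ((AlgSp.J S).uliftYonedaEquiv_naturality x m).symm

namespace CartFun

variable (C : CartFun X)

theorem ρ_nat {E₁ E₂ : AffEt X} (a : E₁ ⟶ E₂) : C.F.map a ≫ C.ρ E₂ = C.ρ E₁ ≫ a.a := (C.cart a).w

/-- Pre-sections of the glued space. -/
structure PreSec (T : Over S) where
  E : AffEt X
  n : T ⟶ C.F.obj E

variable {C}

/-- pull back a pre-section -/
def PreSec.pull {T T' : Over S} (p : C.PreSec T) (g : T' ⟶ T) : C.PreSec T' := ⟨p.E, g ≫ p.n⟩

/-- the point of `X` under a pre-section -/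
noncomputable def PreSec.pt {T : Over S} (p : C.PreSec T) : (yon S).obj T ⟶ X :=
  (yon S).map (p.n ≫ C.ρ p.E) ≫ p.E.v

theorem PreSec.pull_pt {T T' : Over S} (p : C.PreSec T) (g : T' ⟶ T) :
    (p.pull g).pt = (yon S).map g ≫ p.pt := by
  unfold PreSec.pt PreSec.pull
  simp only [Category.assoc, Functor.map_comp]

/-- the span relation -/
def Rel {T : Over S} (p q : C.PreSec T) : Prop :=
  ∃ (E₃ : AffEt X) (n₃ : T ⟶ C.F.obj E₃) (a₁ : E₃ ⟶ p.E) (a₂ : E₃ ⟶ q.E),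
    n₃ ≫ C.F.map a₁ = p.n ∧ n₃ ≫ C.F.map a₂ = q.n

theorem Rel.refl {T : Over S} (p : C.PreSec T) : Rel p p :=
  ⟨p.E, p.n, 𝟙 _, 𝟙 _, by rw [C.F.map_id, Category.comp_id], by rw [C.F.map_id, Category.comp_id]⟩

theorem Rel.symm {T : Over S} {p q : C.PreSec T} (h : Rel p q) : Rel q p := by
  obtain ⟨E₃, n₃, a₁, a₂, h1, h2⟩ := h
  exact ⟨E₃, n₃, a₂, a₁, h2, h1⟩

theorem Rel.trans {T : Over S} {p q r : C.PreSec T} (h₁ : Rel p q) (h₂ : Rel q r) : Rel p r := by
  obtain ⟨E₁₂, n₁₂, a₁, a₂, ha₁, ha₂⟩ := h₁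
  obtain ⟨E₂₃, n₂₃, b₂, b₃, hb₂, hb₃⟩ := h₂
  have ht : (n₁₂ ≫ C.ρ E₁₂) ≫ a₂.a = (n₂₃ ≫ C.ρ E₂₃) ≫ b₂.a := by
    rw [Category.assoc, ← C.ρ_nat, ← Category.assoc, ha₂, Category.assoc, ← C.ρ_nat,
      ← Category.assoc, hb₂]
  obtain ⟨t, ht1, ht2⟩ : ∃ t : T ⟶ (AffEt.pb a₂ b₂).V,
      t ≫ (AffEt.pbFst a₂ b₂).a = n₁₂ ≫ C.ρ E₁₂ ∧ t ≫ (AffEt.pbSnd a₂ b₂).a = n₂₃ ≫ C.ρ E₂₃ :=
    ⟨(AffEt.pb_isPullback a₂ b₂).lift _ _ ht, (AffEt.pb_isPullback a₂ b₂).lift_fst _ _ ht,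
      (AffEt.pb_isPullback a₂ b₂).lift_snd _ _ ht⟩
  obtain ⟨n', hn1, hn2⟩ : ∃ n' : T ⟶ C.F.obj (AffEt.pb a₂ b₂),
      n' ≫ C.F.map (AffEt.pbFst a₂ b₂) = n₁₂ ∧ n' ≫ C.ρ _ = t :=
    ⟨(C.cart (AffEt.pbFst a₂ b₂)).lift n₁₂ t ht1.symm,
      (C.cart (AffEt.pbFst a₂ b₂)).lift_fst _ _ _, (C.cart (AffEt.pbFst a₂ b₂)).lift_snd _ _ _⟩
  have hn3 : n' ≫ C.F.map (AffEt.pbSnd a₂ b₂) = n₂₃ := by
    apply (C.cart b₂).hom_ext
    · rw [Category.assoc, ← Functor.map_comp, ← AffEt.pb_condition, Functor.map_comp,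
        ← Category.assoc, hn1, ha₂, hb₂]
    · rw [Category.assoc, C.ρ_nat, ← Category.assoc, hn2, ht2]
  exact ⟨_, n', AffEt.pbFst a₂ b₂ ≫ a₁, AffEt.pbSnd a₂ b₂ ≫ b₃,
    by rw [Functor.map_comp, ← Category.assoc, hn1, ha₁],
    by rw [Functor.map_comp, ← Category.assoc, hn3, hb₃]⟩

theorem rel_equivalence (T : Over S) : _root_.Equivalence (Rel (C := C) (T := T)) :=
  ⟨Rel.refl, Rel.symm, Rel.trans⟩

theorem Rel.pull {T T' : Over S} {p q : C.PreSec T} (h : Rel p q) (g : T' ⟶ T) :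
    Rel (p.pull g) (q.pull g) := by
  obtain ⟨E₃, n₃, a₁, a₂, h1, h2⟩ := h
  refine ⟨E₃, g ≫ n₃, a₁, a₂, ?_, ?_⟩
  · show (g ≫ n₃) ≫ C.F.map a₁ = g ≫ p.n
    rw [Category.assoc, h1]
  · show (g ≫ n₃) ≫ C.F.map a₂ = g ≫ q.n
    rw [Category.assoc, h2]

theorem Rel.pt_eq {T : Over S} {p q : C.PreSec T} (h : Rel p q) : p.pt = q.pt := by
  obtain ⟨E₃, n₃, a₁, a₂, h1, h2⟩ := h
  have e1 : p.pt = (yon S).map (n₃ ≫ C.ρ E₃) ≫ E₃.v := by
    unfold PreSec.pt
    rw [← h1, Category.assoc, C.ρ_nat, ← Category.assoc, CategoryTheory.Functor.map_comp,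
      Category.assoc, a₁.w]
  have e2 : q.pt = (yon S).map (n₃ ≫ C.ρ E₃) ≫ E₃.v := by
    unfold PreSec.pt
    rw [← h2, Category.assoc, C.ρ_nat, ← Category.assoc, CategoryTheory.Functor.map_comp,
      Category.assoc, a₂.w]
  rw [e1, e2]

variable (C)

/-- The quotient presheaf. -/
def preQ : (Over S)ᵒᵖ ⥤ Type (u + 1) where
  obj T := Quot (Rel (C := C) (T := T.unop))
  map f := ↾(Quot.map (fun p => p.pull f.unop) (fun _ _ h => h.pull f.unop))
  map_id T := by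
    ext x
    induction x using Quot.ind with | _ p => ?_
    have e : p.pull (𝟙 _) = p := by
      cases p
      simp [PreSec.pull]
    exact congrArg (Quot.mk _) e
  map_comp f g := by
    ext x
    induction x using Quot.ind with | _ p => ?_
    have e : p.pull (g.unop ≫ f.unop) = (p.pull f.unop).pull g.unop := by
      cases p
      simp [PreSec.pull]
    exact congrArg (Quot.mk _) e

/-- The glued sheaf. -/
noncomputable def glue : Sp S := (presheafToSheaf (J S) (Type (u + 1))).obj C.preQ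

variable {C}

/-- The section of the glued sheaf given by a pre-section. -/
noncomputable def sec {T : Over S} (p : C.PreSec T) : C.glue.obj.obj (op T) :=
  (toSheafify (J S) C.preQ).app (op T) (Quot.mk _ p)

theorem sec_pull {T T' : Over S} (p : C.PreSec T) (g : T' ⟶ T) :
    C.glue.obj.map g.op (sec p) = sec (p.pull g) :=
  (NatTrans.naturality_apply (toSheafify (J S) C.preQ) g.op (Quot.mk _ p)).symm

theorem sec_eq_of_rel {T : Over S} {p q : C.PreSec T} (h : Rel p q) : sec p = sec q := by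
  unfold sec
  rw [Quot.sound h]

/-- The point of the glued sheaf given by a pre-section. -/
noncomputable def PreSec.κ {T : Over S} (p : C.PreSec T) : (yon S).obj T ⟶ C.glue :=
  yEquiv.symm (sec p)

theorem PreSec.pull_κ {T T' : Over S} (p : C.PreSec T) (g : T' ⟶ T) :
    (p.pull g).κ = (yon S).map g ≫ p.κ := by
  apply yEquiv.injective
  rw [yEquiv_map_comp'']
  unfold PreSec.κ
  rw [Equiv.apply_symm_apply, Equiv.apply_symm_apply, sec_pull]

theorem Rel.κ_eq {T : Over S} {p q : C.PreSec T} (h : Rel p q) : p.κ = q.κ := by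
  unfold PreSec.κ
  rw [sec_eq_of_rel h]

variable (C)

/-- The canonical morphisms into the glued sheaf. -/
noncomputable def κ (E : AffEt X) : (yon S).obj (C.F.obj E) ⟶ C.glue :=
  PreSec.κ (C := C) ⟨E, 𝟙 _⟩

variable {C}

theorem PreSec.κ_eq {T : Over S} (p : C.PreSec T) : p.κ = (yon S).map p.n ≫ C.κ p.E := by
  unfold CartFun.κ
  rw [← PreSec.pull_κ]
  unfold PreSec.pull
  simp only [Category.comp_id]

theorem κ_map {E₁ E₂ : AffEt X} (a : E₁ ⟶ E₂) : (yon S).map (C.F.map a) ≫ C.κ E₂ = C.κ E₁ := by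
  have h : Rel (C := C) (T := C.F.obj E₁) ⟨E₂, C.F.map a⟩ ⟨E₁, 𝟙 _⟩ :=
    ⟨E₁, 𝟙 _, a, 𝟙 _, Category.id_comp _, by rw [C.F.map_id, Category.comp_id]⟩
  have := h.κ_eq
  rw [PreSec.κ_eq, PreSec.κ_eq] at this
  simpa using this

/-- Every point of the glued sheaf is locally given by a pre-section. -/
theorem exists_cover_preSec {T : Over S} (x : (yon S).obj T ⟶ C.glue) :
    ∃ Sv ∈ J S T, ∀ ⦃W : Over S⦄ (w : W ⟶ T), Sv w →
      ∃ p : C.PreSec W, p.κ = (yon S).map w ≫ x := by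
  have hmem := Presheaf.imageSieve_mem (J S) (toSheafify (J S) C.preQ) (U := op T) (yEquiv x)
  refine ⟨_, hmem, fun W w hw => ?_⟩
  obtain ⟨t, ht⟩ := hw
  obtain ⟨p, rfl⟩ := Quot.exists_rep t
  refine ⟨p, ?_⟩
  apply yEquiv.injective
  rw [yEquiv_map_comp'']
  unfold PreSec.κ
  rw [Equiv.apply_symm_apply]
  exact ht

/-- Two pre-sections giving the same point are locally related. -/
theorem exists_cover_rel_of_κ_eq {T : Over S} {p q : C.PreSec T} (h : p.κ = q.κ) :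
    ∃ Sv ∈ J S T, ∀ ⦃W : Over S⦄ (w : W ⟶ T), Sv w → Rel (p.pull w) (q.pull w) := by
  have h' : sec p = sec q := yEquiv.symm.injective h
  have hmem := Presheaf.equalizerSieve_mem (J S) (toSheafify (J S) C.preQ)
    (Quot.mk _ p : C.preQ.obj (op T)) (Quot.mk _ q) h'
  refine ⟨_, hmem, fun W w hw => ?_⟩
  have h1 : Quot.mk (Rel (C := C) (T := W)) (p.pull w) = Quot.mk _ (q.pull w) := hw
  exact (rel_equivalence W).eqvGen_iff.1 (Quot.eqvGen_exact h1)

variable (C)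

/-- The structure map at presheaf level. -/
noncomputable def νpre : C.preQ ⟶ X.obj where
  app T := ↾(Quot.lift (fun p => yEquiv p.pt) (fun _ _ h => by rw [h.pt_eq]))
  naturality T T' g := by
    ext x
    induction x using Quot.ind with | _ p => ?_
    show yEquiv (p.pull g.unop).pt = X.obj.map g (yEquiv p.pt)
    rw [PreSec.pull_pt, yEquiv_map_comp'']
    rfl

/-- The structure morphism of the glued sheaf. -/
noncomputable def ν : C.glue ⟶ X := ⟨sheafifyLift (J S) C.νpre X.property⟩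

variable {C}

theorem PreSec.κ_ν {T : Over S} (p : C.PreSec T) : p.κ ≫ C.ν = p.pt := by
  apply yEquiv.injective
  rw [yEquiv_comp]
  unfold PreSec.κ
  rw [Equiv.apply_symm_apply]
  have := congrArg (fun g => g.app (op T) (Quot.mk _ p)) (toSheafify_sheafifyLift (J S) C.νpre X.property)
  exact this

theorem κ_ν (E : AffEt X) : C.κ E ≫ C.ν = (yon S).map (C.ρ E) ≫ E.v := by
  have := PreSec.κ_ν (C := C) ⟨E, 𝟙 _⟩
  unfold PreSec.pt at this
  unfold CartFun.κ
  simpa using this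

/-- Morphisms out of the glued sheaf are determined by their restrictions to the charts. -/
theorem glue_hom_ext {Z : Sp S} {g g' : C.glue ⟶ Z} (h : ∀ E, C.κ E ≫ g = C.κ E ≫ g') : g = g' := by
  apply Sheaf.hom_ext
  apply sheafify_hom_ext _ _ _ Z.property
  ext T x
  induction x using Quot.ind with | _ p => ?_
  obtain ⟨T⟩ := T
  have h1 : p.κ ≫ g = p.κ ≫ g' := by rw [PreSec.κ_eq, Category.assoc, Category.assoc, h]
  have h2 := congrArg yEquiv h1
  rw [yEquiv_comp, yEquiv_comp] at h2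
  unfold PreSec.κ at h2
  rw [Equiv.apply_symm_apply] at h2
  exact h2

variable (C)

/-- descent at presheaf level -/
noncomputable def descPre {Z : Sp S} (h : ∀ E, (yon S).obj (C.F.obj E) ⟶ Z)
    (hh : ∀ {E₁ E₂ : AffEt X} (a : E₁ ⟶ E₂), (yon S).map (C.F.map a) ≫ h E₂ = h E₁) :
    C.preQ ⟶ Z.obj where
  app T := ↾(Quot.lift (fun p => yEquiv ((yon S).map p.n ≫ h p.E)) (fun p q hr => by
    obtain ⟨E₃, n₃, a₁, a₂, h1, h2⟩ := hr
    show yEquiv ((yon S).map p.n ≫ h p.E) = yEquiv ((yon S).map q.n ≫ h q.E)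
    rw [← h1, ← h2, CategoryTheory.Functor.map_comp, CategoryTheory.Functor.map_comp, Category.assoc, Category.assoc, hh, hh]))
  naturality T T' g := by
    ext x
    induction x using Quot.ind with | _ p => ?_
    show yEquiv ((yon S).map (g.unop ≫ p.n) ≫ h p.E) = Z.obj.map g (yEquiv ((yon S).map p.n ≫ h p.E))
    rw [CategoryTheory.Functor.map_comp, Category.assoc, yEquiv_map_comp'']
    rfl

/-- The universal property of the glued sheaf. -/
theorem exists_desc {Z : Sp S} (h : ∀ E, (yon S).obj (C.F.obj E) ⟶ Z)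
    (hh : ∀ {E₁ E₂ : AffEt X} (a : E₁ ⟶ E₂), (yon S).map (C.F.map a) ≫ h E₂ = h E₁) :
    ∃ g : C.glue ⟶ Z, ∀ E, C.κ E ≫ g = h E := by
  refine ⟨⟨sheafifyLift (J S) (C.descPre h hh) Z.property⟩, fun E => ?_⟩
  apply yEquiv.injective
  rw [yEquiv_comp]
  unfold CartFun.κ PreSec.κ
  rw [Equiv.apply_symm_apply]
  have := congrArg (fun g => g.app (op (C.F.obj E)) (Quot.mk _ ⟨E, 𝟙 _⟩))
    (toSheafify_sheafifyLift (J S) (C.descPre h hh) Z.property)
  refine this.trans ?_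
  show yEquiv ((yon S).map (𝟙 _) ≫ h E) = yEquiv (h E)
  rw [CategoryTheory.Functor.map_id, Category.id_comp]

end CartFun

end Groth.Agent.Lib.Helper14.AS
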