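import Groth.Agent.Lib.Helper14.Norm4
import Groth.Agent.Lib.Helper14.Norm5c
import Groth.Agent.Lib.Helper14.AlgSpFibre
import Groth.Agent.Lib.Helper14.AlgSpSep

/-!
# The cartesian functor of local normalizations (helper14)
-/

universe u
open CategoryTheory CategoryTheory.Limits AlgebraicGeometry Opposite
open AlgSp

namespace Groth.Agent.Lib.Helper14.AS

variable {S : Scheme.{u}}

/-- The structure morphism of a relative normalization over a scheme is integral. -/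
theorem isIntegralHom_of_isRelNormalization_yon {T N : Over S} {Y : Sp S} {f : Y ⟶ (yon S).obj T}
    {ρ : N ⟶ T} {η : Y ⟶ (yon S).obj N} (hn : IsRelNormalization f ((yon S).map ρ) η) :
    IsIntegralHom ρ.left :=
  (AlgSp.repWith_yon_map_iff _ ρ).1
    ((integral_finite_iff_repWith ((AlgSp.ofScheme S).map ρ)).1.1 hn.2.1)

theorem isQuasiSeparatedMor_of_isPullback {F G G' F' : Sp S} {f : F ⟶ G} {g : G' ⟶ G}
    {fst : F' ⟶ F} {snd : F' ⟶ G'} (sq : IsPullback fst snd f g) (hf : IsQuasiSeparatedMor f) :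
    IsQuasiSeparatedMor snd :=
  repWith_of_isPullback _ (isPullback_diagonal_of_isPullback sq) hf

section NormMap

variable {T₁ T₂ : Over S} [IsAffine T₁.left] [IsAffine T₂.left] (τ : T₁ ⟶ T₂)
  {Y₁ Y₂ : Sp S} {f₁ : Y₁ ⟶ (yon S).obj T₁} {f₂ : Y₂ ⟶ (yon S).obj T₂} {q : Y₁ ⟶ Y₂}
  (sqY : IsPullback q f₁ f₂ ((yon S).map τ))
  {N₁ N₂ : Over S} {ρ₁ : N₁ ⟶ T₁} {η₁ : Y₁ ⟶ (yon S).obj N₁} {ρ₂ : N₂ ⟶ T₂}
  {η₂ : Y₂ ⟶ (yon S).obj N₂}

omit [IsAffine T₁.left] [IsAffine T₂.left] in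
include sqY in
/-- Uniqueness of morphisms between relative normalizations over a morphism of the bases. -/
theorem normMap_unique (hn₁ : IsRelNormalization f₁ ((yon S).map ρ₁) η₁)
    (hint₂ : IsIntegralHom ρ₂.left) (hfac₂ : η₂ ≫ (yon S).map ρ₂ = f₂) (g g' : N₁ ⟶ N₂)
    (h1 : η₁ ≫ (yon S).map g = q ≫ η₂) (h2 : g ≫ ρ₂ = ρ₁ ≫ τ)
    (h1' : η₁ ≫ (yon S).map g' = q ≫ η₂) (h2' : g' ≫ ρ₂ = ρ₁ ≫ τ) : g = g' := by
  have sqZ := IsPullback.of_hasPullback ρ₂ τ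
  have hsnd : IsIntegralHom (pullback.snd ρ₂ τ).left :=
    MorphismProperty.of_isPullback (P := @IsIntegralHom) (sqZ.map (Over.forget S)) hint₂
  have sqZy := sqZ.map (yon S)
  have hc : (q ≫ η₂) ≫ (yon S).map ρ₂ = f₁ ≫ (yon S).map τ := by
    rw [Category.assoc, hfac₂, sqY.w]
  have key : ∀ k : N₁ ⟶ N₂, η₁ ≫ (yon S).map k = q ≫ η₂ → ∀ hk : k ≫ ρ₂ = ρ₁ ≫ τ,
      η₁ ≫ (yon S).map (sqZ.lift k ρ₁ hk) = sqZy.lift (q ≫ η₂) f₁ hc ∧
        sqZ.lift k ρ₁ hk ≫ pullback.snd ρ₂ τ = ρ₁ := by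
    intro k hk1 hk2
    refine ⟨?_, sqZ.lift_snd _ _ _⟩
    apply sqZy.hom_ext
    · rw [Category.assoc, ← Functor.map_comp, sqZ.lift_fst, hk1, sqZy.lift_fst]
    · rw [Category.assoc, ← Functor.map_comp, sqZ.lift_snd, hn₁.1, sqZy.lift_snd]
  obtain ⟨h, -, huniq⟩ := existsUnique_of_isRelNormalization_yon hn₁ (pullback.snd ρ₂ τ)
    (sqZy.lift (q ≫ η₂) f₁ hc) hsnd (sqZy.lift_snd _ _ _)
  have e1 := huniq _ (key g h1 h2)
  have e2 := huniq _ (key g' h1' h2')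
  rw [← sqZ.lift_fst g ρ₁ h2, ← sqZ.lift_fst g' ρ₁ h2', e1, e2]

include sqY in
/-- Existence of a cartesian morphism between relative normalizations over a smooth morphism of
affine bases. -/
theorem exists_normMap (hsm : Smooth τ.left) (hY₂ : IsAlgSpace Y₂) (hY₁ : IsAlgSpace Y₁)
    (hqc : IsQuasiCompactMor f₂) (hqs : IsQuasiSeparatedMor f₂)
    (hn₁ : IsRelNormalization f₁ ((yon S).map ρ₁) η₁)
    (hn₂ : IsRelNormalization f₂ ((yon S).map ρ₂) η₂) :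
    ∃ g : N₁ ⟶ N₂, η₁ ≫ (yon S).map g = q ≫ η₂ ∧ IsPullback g ρ₁ ρ₂ τ := by
  have sqZ := IsPullback.of_hasPullback ρ₂ τ
  have sqZy := sqZ.map (yon S)
  have hc : (q ≫ η₂) ≫ (yon S).map ρ₂ = f₁ ≫ (yon S).map τ := by
    rw [Category.assoc, hn₂.1, sqY.w]
  have hnZ : IsRelNormalization f₁ ((yon S).map (pullback.snd ρ₂ τ)) (sqZy.lift (q ≫ η₂) f₁ hc) :=
    isRelNormalization_baseChange_affine τ sqY hsm hY₂ hY₁ hqc hqs hn₂ sqZ (sqZy.lift_fst _ _ _)
      (sqZy.lift_snd _ _ _)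
  obtain ⟨e, he1, he2⟩ := isRelNormalization_iso (IsAlgSpace.yon_obj N₁) (IsAlgSpace.yon_obj _)
    hn₁ hnZ
  let e₀ : N₁ ≅ pullback ρ₂ τ := (yon S).preimageIso e
  have he₀ : (yon S).map e₀.hom = e.hom := by simp [e₀]
  have he₀ρ : e₀.hom ≫ pullback.snd ρ₂ τ = ρ₁ := by
    apply (yon S).map_injective
    rw [Functor.map_comp, he₀, he2]
  refine ⟨e₀.hom ≫ pullback.fst ρ₂ τ, ?_, ?_⟩
  · rw [Functor.map_comp, he₀, ← Category.assoc, he1, sqZy.lift_fst]
  · refine IsPullback.of_iso sqZ e₀.symm (Iso.refl _) (Iso.refl _) (Iso.refl _) ?_ ?_ ?_ ?_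
    · simp
    · simp [← he₀ρ]
    · simp
    · simp

end NormMap

/-- Standing hypotheses for the construction of the relative normalization. -/
structure NormHyp {X Y : Sp S} (f : Y ⟶ X) : Prop where
  hY : IsAlgSpace Y
  hX : IsAlgSpace X
  hqc : IsQuasiCompactMor f
  hqs : IsQuasiSeparatedMor f

namespace NormHyp

variable {X Y : Sp S} {f : Y ⟶ X} (H : NormHyp f)

/-- The base change of `Y` to a chart. -/
noncomputable def YE (_ : NormHyp f) (E : AffEt X) : Sp S := pullback f E.v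

/-- its projection to `Y` -/
noncomputable def pE (E : AffEt X) : H.YE E ⟶ Y := pullback.fst f E.v

/-- its structure morphism -/
noncomputable def fE (E : AffEt X) : H.YE E ⟶ (yon S).obj E.V := pullback.snd f E.v

theorem sqE (E : AffEt X) : IsPullback (H.pE E) (H.fE E) f E.v := IsPullback.of_hasPullback _ _

/-- transition maps -/
noncomputable def Ymap {E₁ E₂ : AffEt X} (a : E₁ ⟶ E₂) : H.YE E₁ ⟶ H.YE E₂ :=
  (H.sqE E₂).lift (H.pE E₁) (H.fE E₁ ≫ (yon S).map a.a) (by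
    rw [Category.assoc, a.w]; exact (H.sqE E₁).w)

theorem Ymap_p {E₁ E₂ : AffEt X} (a : E₁ ⟶ E₂) : H.Ymap a ≫ H.pE E₂ = H.pE E₁ :=
  (H.sqE E₂).lift_fst _ _ _

theorem Ymap_f {E₁ E₂ : AffEt X} (a : E₁ ⟶ E₂) :
    H.Ymap a ≫ H.fE E₂ = H.fE E₁ ≫ (yon S).map a.a :=
  (H.sqE E₂).lift_snd _ _ _

theorem Ymap_sq {E₁ E₂ : AffEt X} (a : E₁ ⟶ E₂) :
    IsPullback (H.Ymap a) (H.fE E₁) (H.fE E₂) ((yon S).map a.a) := by
  refine IsPullback.of_right ?_ (H.Ymap_f a) (H.sqE E₂)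
  rw [H.Ymap_p, a.w]
  exact H.sqE E₁

theorem Ymap_id (E : AffEt X) : H.Ymap (𝟙 E) = 𝟙 _ := by
  apply (H.sqE E).hom_ext
  · rw [H.Ymap_p, Category.id_comp]
  · rw [H.Ymap_f, Category.id_comp, AffEt.id_a, CategoryTheory.Functor.map_id, Category.comp_id]

theorem Ymap_comp {E₁ E₂ E₃ : AffEt X} (a : E₁ ⟶ E₂) (b : E₂ ⟶ E₃) :
    H.Ymap (a ≫ b) = H.Ymap a ≫ H.Ymap b := by
  apply (H.sqE E₃).hom_ext
  · rw [H.Ymap_p, Category.assoc, H.Ymap_p, H.Ymap_p]
  · rw [H.Ymap_f, Category.assoc, H.Ymap_f, ← Category.assoc, H.Ymap_f, Category.assoc,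
      AffEt.comp_a, CategoryTheory.Functor.map_comp]

include H in
theorem isAlgSpace_YE (E : AffEt X) : IsAlgSpace (H.YE E) :=
  isAlgSpace_of_isPullback (repDiag_of_isAlgSpace H.hX) H.hY (IsAlgSpace.yon_obj _) (H.sqE E)

include H in
theorem qc_fE (E : AffEt X) : IsQuasiCompactMor (H.fE E) :=
  isQuasiCompactMor_of_isPullback (H.sqE E) H.hqc

include H in
theorem qs_fE (E : AffEt X) : IsQuasiSeparatedMor (H.fE E) :=
  isQuasiSeparatedMor_of_isPullback (H.sqE E) H.hqs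

theorem exists_normE (E : AffEt X) :
    ∃ (N : Over S) (ρ : N ⟶ E.V) (η : H.YE E ⟶ (yon S).obj N), IsAffine N.left ∧
      IsRelNormalization (H.fE E) ((yon S).map ρ) η := by
  have := E.affine
  exact exists_affNorm (H.isAlgSpace_YE E) (H.fE E) (H.qc_fE E)

/-- the local normalization -/
noncomputable def NE (E : AffEt X) : Over S := (H.exists_normE E).choose

/-- its structure morphism -/
noncomputable def ρE (E : AffEt X) : H.NE E ⟶ E.V := (H.exists_normE E).choose_spec.choose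

/-- the canonical map -/
noncomputable def ηE (E : AffEt X) : H.YE E ⟶ (yon S).obj (H.NE E) :=
  (H.exists_normE E).choose_spec.choose_spec.choose

theorem isAffine_NE (E : AffEt X) : IsAffine (H.NE E).left :=
  (H.exists_normE E).choose_spec.choose_spec.choose_spec.1

theorem isRelNorm_E (E : AffEt X) : IsRelNormalization (H.fE E) ((yon S).map (H.ρE E)) (H.ηE E) :=
  (H.exists_normE E).choose_spec.choose_spec.choose_spec.2

theorem exists_Nmap {E₁ E₂ : AffEt X} (a : E₁ ⟶ E₂) :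
    ∃ g : H.NE E₁ ⟶ H.NE E₂, H.ηE E₁ ≫ (yon S).map g = H.Ymap a ≫ H.ηE E₂ ∧
      IsPullback g (H.ρE E₁) (H.ρE E₂) a.a := by
  have := E₁.affine
  have := E₂.affine
  have hsm : Smooth a.a.left := by
    have := AffEt.etale_hom a
    infer_instance
  exact exists_normMap a.a (H.Ymap_sq a) hsm (H.isAlgSpace_YE E₂) (H.isAlgSpace_YE E₁)
    (H.qc_fE E₂) (H.qs_fE E₂) (H.isRelNorm_E E₁) (H.isRelNorm_E E₂)

/-- transition maps of the local normalizations -/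
noncomputable def Nmap {E₁ E₂ : AffEt X} (a : E₁ ⟶ E₂) : H.NE E₁ ⟶ H.NE E₂ :=
  (H.exists_Nmap a).choose

theorem η_Nmap {E₁ E₂ : AffEt X} (a : E₁ ⟶ E₂) :
    H.ηE E₁ ≫ (yon S).map (H.Nmap a) = H.Ymap a ≫ H.ηE E₂ := (H.exists_Nmap a).choose_spec.1

theorem Nmap_sq {E₁ E₂ : AffEt X} (a : E₁ ⟶ E₂) :
    IsPullback (H.Nmap a) (H.ρE E₁) (H.ρE E₂) a.a := (H.exists_Nmap a).choose_spec.2

theorem Nmap_unique {E₁ E₂ : AffEt X} (a : E₁ ⟶ E₂) (g : H.NE E₁ ⟶ H.NE E₂)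
    (h1 : H.ηE E₁ ≫ (yon S).map g = H.Ymap a ≫ H.ηE E₂) (h2 : g ≫ H.ρE E₂ = H.ρE E₁ ≫ a.a) :
    g = H.Nmap a := by
  have := E₁.affine
  have := E₂.affine
  exact normMap_unique a.a (H.Ymap_sq a) (H.isRelNorm_E E₁)
    (isIntegralHom_of_isRelNormalization_yon (H.isRelNorm_E E₂)) (H.isRelNorm_E E₂).1 g _ h1 h2
    (H.η_Nmap a) (H.Nmap_sq a).w

/-- The cartesian functor of local normalizations. -/
noncomputable def cartFun : CartFun X where
  F :=
    { obj := H.NE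
      map := fun a => H.Nmap a
      map_id := fun E => by
        symm
        apply H.Nmap_unique
        · rw [CategoryTheory.Functor.map_id, Category.comp_id, H.Ymap_id, Category.id_comp]
        · rw [Category.id_comp, AffEt.id_a, Category.comp_id]
      map_comp := fun {E₁ E₂ E₃} a b => by
        symm
        apply H.Nmap_unique
        · rw [CategoryTheory.Functor.map_comp, ← Category.assoc, H.η_Nmap, Category.assoc,
            H.η_Nmap, H.Ymap_comp, Category.assoc]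
        · rw [Category.assoc, (H.Nmap_sq b).w, ← Category.assoc, (H.Nmap_sq a).w, Category.assoc,
            AffEt.comp_a] }
  ρ := H.ρE
  cart := fun a => H.Nmap_sq a

end NormHyp

end Groth.Agent.Lib.Helper14.AS
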