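import Groth.Agent.Lib.Helper14.Norm6b
import Groth.Agent.Lib.Helper24.ZarGlue
import Groth.Agent.Lib.Helper24.DescAffMor
import Groth.Agent.Lib.Helper24.IntegralDescent
import Groth.Agent.Lib.Helper14.LimB
import Groth.Agent.Lib.Helper14.AlgSpRepTo

/-!
# Integrality and algebraicity of the glued sheaf (helper14)
-/

universe u
open CategoryTheory CategoryTheory.Limits AlgebraicGeometry Opposite
open AlgSp

namespace Groth.Agent.Lib.Helper14.AS

open Groth.Agent.Lib.Helper24.ZarGlue Groth.Agent.Lib.Helper24.DescBridge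
  Groth.Agent.Lib.Helper24.DescAffMor Groth.Agent.Lib.Helper24.IntegralDescent

variable {S : Scheme.{u}}

set_option backward.isDefEq.respectTransparency.types false in
theorem isIntegralHom_iff_appTop' {X Z : Scheme.{u}} [IsAffine X] [IsAffine Z] (f : X ⟶ Z) :
    IsIntegralHom f ↔ f.appTop.hom.IsIntegral := by
  rw [HasAffineProperty.iff_of_isAffine (P := @IsIntegralHom)]
  exact and_iff_right inferInstance

/-- Integrality descends along an etale surjective chart (sheaf-level form). -/
theorem isIntegralMor_of_chart {F G : Sp S} (f : F ⟶ G) {V : Over S}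
    (p : (yon S).obj V ⟶ G) (hp : RepWith @Etale p) (hps : RepWith @Surjective p)
    {P : Sp S} (fst : P ⟶ F) (snd : P ⟶ (yon S).obj V) (sq : IsPullback fst snd f p)
    (h : IsIntegralMor snd) : IsIntegralMor f := by
  intro Z hZ g
  obtain ⟨U₀, fstW, hW, hU₀, Z'l, W'l, c, r, a, hZ', hW', hcf, hcs, sqr, hr⟩ :=
    exists_affine_descent @IsIntegralHom f p hp hps fst snd sq h hZ g
  refine ⟨descObj U₀, descProj U₀, fstW, hW, hU₀, ?_⟩
  change IsIntegralHom U₀.hom
  have : IsAffine Z.left := hZ
  rw [isIntegralHom_iff_appTop'] at hr ⊢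
  exact descends_affine isIntegral_codescendsAlong_faithfullyFlat sqr hr

/-- A sheaf morphism to a scheme represented by an integral morphism of schemes is integral. -/
theorem isIntegralMor_of_rep {P : Sp S} {U N : Over S} (π : P ⟶ (yon S).obj U) (ρ : N ⟶ U)
    (e : (yon S).obj N ≅ P) (he : e.hom ≫ π = (yon S).map ρ) (hρ : IsIntegralHom ρ.left) :
    IsIntegralMor π := by
  intro Z hZ g
  obtain ⟨γ, rfl⟩ := (yon S).map_surjective g
  have sq := IsPullback.of_hasPullback ρ γ
  have sqs := sq.map (Over.forget S)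
  have hsnd : IsIntegralHom (pullback.snd ρ γ).left :=
    MorphismProperty.of_isPullback (P := @IsIntegralHom) sqs hρ
  refine ⟨pullback ρ γ, pullback.snd ρ γ, (yon S).map (pullback.fst ρ γ) ≫ e.hom, ?_, ?_, hsnd⟩
  · refine IsPullback.of_iso (sq.map (yon S)) (Iso.refl _) e (Iso.refl _) (Iso.refl _) ?_ ?_ ?_ ?_
    · simp
    · simp
    · simp [he]
    · simp
  · have : IsAffine Z.left := hZ
    exact isAffine_of_isAffineHom (pullback.snd ρ γ).left

namespace CartFun

variable {X : Sp S} (C : CartFun X)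

set_option backward.isDefEq.respectTransparency.types false in
/-- The glued sheaf of a cartesian functor with integral structure maps is integral over `X`. -/
theorem isIntegralMor_ν (hX : IsAlgSpace X) (hint : ∀ E, IsIntegralHom (C.ρ E).left) :
    IsIntegralMor C.ν := by
  obtain ⟨U, p, hpe, hps⟩ := hX.atlas
  have sqP := IsPullback.of_hasPullback C.ν p
  obtain ⟨N, ρ, e, he, hloc⟩ := exists_rep_of_locally (pullback.snd C.ν p)
    (fun O X r => IsIntegralHom r.left) (by
    intro u
    obtain ⟨O, hO, huO, -⟩ := exists_isAffineOpen_mem_and_subset (x := u) (U := ⊤) trivial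
    let E : AffEt X :=
      ⟨openSub U O, (yon S).map (openSubι U O) ≫ p, repWith_etale_restrict hpe O, hO⟩
    have sqE : IsPullback (C.κ E) ((yon S).map (C.ρ E)) C.ν ((yon S).map (openSubι U O) ≫ p) :=
      C.isPullback_κ E
    refine ⟨O, huO, C.F.obj E, C.ρ E,
      sqP.lift (C.κ E) ((yon S).map (C.ρ E) ≫ (yon S).map (openSubι U O))
        (by rw [Category.assoc]; exact sqE.w), ?_, hint E⟩
    refine IsPullback.of_right ?_ (sqP.lift_snd _ _ _) sqP
    rw [sqP.lift_fst]
    exact sqE)
  have hρ : IsIntegralHom ρ.left := by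
    refine IsZariskiLocalAtTarget.of_forall_exists_morphismRestrict (P := @IsIntegralHom) fun u => ?_
    obtain ⟨O, huO, X', r, fst, j, -, sq', hr⟩ := hloc u
    refine ⟨O, huO, ?_⟩
    have sq'' := (isPullback_morphismRestrict ρ.left O).flip
    have e1 : (sq''.isoIsPullback _ _ sq').hom ≫ r.left = ρ.left ∣_ O :=
      sq''.isoIsPullback_hom_snd _ _ sq'
    rw [← e1]
    exact (MorphismProperty.cancel_left_of_respectsIso (P := @IsIntegralHom) _ _).2 hr
  exact isIntegralMor_of_chart C.ν p hpe hps _ _ sqP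
    (isIntegralMor_of_rep (pullback.snd C.ν p) ρ e he hρ)

theorem isAffineMor_of_isIntegralMor {F G : Sp S} {f : F ⟶ G} (h : IsIntegralMor f) :
    IsAffineMor f := by
  intro Z hZ g
  obtain ⟨W, i, fst, sq, hW, -⟩ := h hZ g
  exact ⟨W, i, fst, sq, hW⟩

/-- The glued sheaf is an algebraic space. -/
theorem isAlgSpace_glue (hX : IsAlgSpace X) (hint : ∀ E, IsIntegralHom (C.ρ E).left) :
    IsAlgSpace C.glue :=
  isAlgSpace_of_representable_to hX C.ν
    (repWith_isAffineHom_of_isAffineMor' C.ν
      (isAffineMor_of_isIntegralMor (C.isIntegralMor_ν hX hint))).rep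

end CartFun

end Groth.Agent.Lib.Helper14.AS
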