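import Groth.Agent.Lib.Helper14.Norm6a
import Groth.Agent.Lib.Helper14.Norm6c

/-!
# The relative normalization of an algebraic space (helper14)
-/

universe u
open CategoryTheory CategoryTheory.Limits AlgebraicGeometry Opposite
open AlgSp

namespace Groth.Agent.Lib.Helper14.AS

variable {S : Scheme.{u}}

/-- Points of a sheaf agreeing on open neighbourhoods of all points are equal. -/
theorem yon_hom_ext_of_open_nhds {F : Sp S} {T : Over S} (x y : (yon S).obj T ⟶ F)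
    (h : ∀ τ : ↥T.left, ∃ U : T.left.Opens, τ ∈ U ∧
      (yon S).map (openSubι T U) ≫ x = (yon S).map (openSubι T U) ≫ y) : x = y := by
  let Sv : Sieve T :=
    { arrows := fun W g => (yon S).map g ≫ x = (yon S).map g ≫ y
      downward_closed := fun {W W'} g hg g' => by
        show (yon S).map (g' ≫ g) ≫ x = (yon S).map (g' ≫ g) ≫ y
        rw [Functor.map_comp, Category.assoc, hg, Category.assoc] }
  exact yon_hom_ext_of_cover x y Sv (mem_J_of_open_nhds Sv h) (fun W w hw => hw)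

/-- The universal property of a relative normalization over an affine chart, with respect to
integral morphisms to a base through which the chart maps. -/
theorem existsUnique_desc_of_isRelNormalization {X Z : Sp S} {T N : Over S} (hT : IsAffine T.left)
    {Y₀ : Sp S} {f₀ : Y₀ ⟶ (yon S).obj T} {ρ : N ⟶ T} {η : Y₀ ⟶ (yon S).obj N}
    (hn : IsRelNormalization f₀ ((yon S).map ρ) η) (π : Z ⟶ X) (hπ : IsIntegralMor π)
    (t : (yon S).obj T ⟶ X) (g₀ : Y₀ ⟶ Z) (hg₀ : g₀ ≫ π = f₀ ≫ t) :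
    ∃! k : (yon S).obj N ⟶ Z, η ≫ k = g₀ ∧ k ≫ π = (yon S).map ρ ≫ t := by
  obtain ⟨W, i, fst, sq, hW, hi⟩ := hπ hT t
  obtain ⟨h, ⟨hh1, hh2⟩, huniq⟩ := existsUnique_of_isRelNormalization_yon hn i
    (sq.lift g₀ f₀ hg₀) hi (sq.lift_snd _ _ _)
  refine ⟨(yon S).map h ≫ fst, ⟨?_, ?_⟩, ?_⟩
  · rw [← Category.assoc, hh1, sq.lift_fst]
  · rw [Category.assoc, sq.w, ← Category.assoc, ← Functor.map_comp, hh2]
  · rintro k' ⟨hk1, hk2⟩
    obtain ⟨h', hh'⟩ := (yon S).map_surjective (sq.lift k' ((yon S).map ρ) hk2)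
    have e := huniq h' ⟨by
      rw [hh']
      apply sq.hom_ext
      · rw [Category.assoc, sq.lift_fst, sq.lift_fst, hk1]
      · rw [Category.assoc, sq.lift_snd, sq.lift_snd, hn.1], by
      apply (yon S).map_injective
      rw [Functor.map_comp, hh', sq.lift_snd]⟩
    rw [← e, hh', sq.lift_fst]

namespace NormHyp

variable {X Y : Sp S} {f : Y ⟶ X} (H : NormHyp f)

/-- the normalization -/
noncomputable def N : Sp S := H.cartFun.glue

/-- its structure morphism -/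
noncomputable def ν : H.N ⟶ X := H.cartFun.ν

/-- chart maps of the normalization -/
noncomputable def κE (E : AffEt X) : (yon S).obj (H.NE E) ⟶ H.N := H.cartFun.κ E

theorem κE_map {E₁ E₂ : AffEt X} (a : E₁ ⟶ E₂) :
    (yon S).map (H.Nmap a) ≫ H.κE E₂ = H.κE E₁ := H.cartFun.κ_map a

theorem κE_ν (E : AffEt X) : H.κE E ≫ H.ν = (yon S).map (H.ρE E) ≫ E.v := H.cartFun.κ_ν E

theorem glue_hom_ext' {Z : Sp S} {g g' : H.N ⟶ Z} (h : ∀ E, H.κE E ≫ g = H.κE E ≫ g') :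
    g = g' := CartFun.glue_hom_ext h

theorem exists_desc' {Z : Sp S} (k : ∀ E, (yon S).obj (H.NE E) ⟶ Z)
    (hk : ∀ {E₁ E₂ : AffEt X} (a : E₁ ⟶ E₂), (yon S).map (H.Nmap a) ≫ k E₂ = k E₁) :
    ∃ g : H.N ⟶ Z, ∀ E, H.κE E ≫ g = k E := H.cartFun.exists_desc k hk

theorem isPullback_κE (E : AffEt X) :
    IsPullback (H.κE E) ((yon S).map (H.ρE E)) H.ν E.v := H.cartFun.isPullback_κ E

/-- point of the base change of `Y` to a chart -/
noncomputable def ptE {T : Over S} (y : (yon S).obj T ⟶ Y) (E : AffEt X) (v : T ⟶ E.V)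
    (h : (yon S).map v ≫ E.v = y ≫ f) : (yon S).obj T ⟶ H.YE E :=
  (H.sqE E).lift y ((yon S).map v) h.symm

theorem ptE_p {T : Over S} (y : (yon S).obj T ⟶ Y) (E : AffEt X) (v : T ⟶ E.V)
    (h : (yon S).map v ≫ E.v = y ≫ f) : H.ptE y E v h ≫ H.pE E = y := (H.sqE E).lift_fst _ _ _

theorem ptE_f {T : Over S} (y : (yon S).obj T ⟶ Y) (E : AffEt X) (v : T ⟶ E.V)
    (h : (yon S).map v ≫ E.v = y ≫ f) : H.ptE y E v h ≫ H.fE E = (yon S).map v :=
  (H.sqE E).lift_snd _ _ _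

theorem ptE_pull {T T' : Over S} (g : T' ⟶ T) (y : (yon S).obj T ⟶ Y) (E : AffEt X) (v : T ⟶ E.V)
    (h : (yon S).map v ≫ E.v = y ≫ f)
    (h' : (yon S).map (g ≫ v) ≫ E.v = ((yon S).map g ≫ y) ≫ f) :
    H.ptE ((yon S).map g ≫ y) E (g ≫ v) h' = (yon S).map g ≫ H.ptE y E v h := by
  apply (H.sqE E).hom_ext
  · rw [H.ptE_p, Category.assoc, H.ptE_p]
  · rw [H.ptE_f, Category.assoc, H.ptE_f, Functor.map_comp]

theorem ptE_map {T : Over S} (y : (yon S).obj T ⟶ Y) {E₁ E₂ : AffEt X} (a : E₁ ⟶ E₂)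
    (v : T ⟶ E₁.V) (h : (yon S).map v ≫ E₁.v = y ≫ f)
    (h' : (yon S).map (v ≫ a.a) ≫ E₂.v = y ≫ f) :
    H.ptE y E₁ v h ≫ H.Ymap a = H.ptE y E₂ (v ≫ a.a) h' := by
  apply (H.sqE E₂).hom_ext
  · rw [Category.assoc, H.Ymap_p, H.ptE_p, H.ptE_p]
  · rw [Category.assoc, H.Ymap_f, ← Category.assoc, H.ptE_f, H.ptE_f, Functor.map_comp]

theorem ptE_of {T : Over S} (E : AffEt X) (t : (yon S).obj T ⟶ H.YE E) (v : T ⟶ E.V)
    (hv : (yon S).map v = t ≫ H.fE E) (h : (yon S).map v ≫ E.v = (t ≫ H.pE E) ≫ f) :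
    H.ptE (t ≫ H.pE E) E v h = t := by
  apply (H.sqE E).hom_ext
  · rw [H.ptE_p]
  · rw [H.ptE_f, hv]

/-- local value of the canonical morphism -/
noncomputable def loc {T : Over S} (y : (yon S).obj T ⟶ Y) (E : AffEt X) (v : T ⟶ E.V)
    (h : (yon S).map v ≫ E.v = y ≫ f) : (yon S).obj T ⟶ H.N :=
  H.ptE y E v h ≫ H.ηE E ≫ H.κE E

theorem loc_pull {T T' : Over S} (g : T' ⟶ T) (y : (yon S).obj T ⟶ Y) (E : AffEt X) (v : T ⟶ E.V)
    (h : (yon S).map v ≫ E.v = y ≫ f)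
    (h' : (yon S).map (g ≫ v) ≫ E.v = ((yon S).map g ≫ y) ≫ f) :
    H.loc ((yon S).map g ≫ y) E (g ≫ v) h' = (yon S).map g ≫ H.loc y E v h := by
  unfold loc
  rw [H.ptE_pull g y E v h h', Category.assoc]

theorem loc_map {T : Over S} (y : (yon S).obj T ⟶ Y) {E₁ E₂ : AffEt X} (a : E₁ ⟶ E₂)
    (v : T ⟶ E₁.V) (h : (yon S).map v ≫ E₁.v = y ≫ f)
    (h' : (yon S).map (v ≫ a.a) ≫ E₂.v = y ≫ f) :
    H.loc y E₂ (v ≫ a.a) h' = H.loc y E₁ v h := by
  unfold loc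
  rw [← H.ptE_map y a v h h', Category.assoc, ← Category.assoc (H.Ymap a), ← H.η_Nmap a,
    Category.assoc]
  rw [H.κE_map a]

theorem loc_indep {T : Over S} (y : (yon S).obj T ⟶ Y) (E E' : AffEt X) (v : T ⟶ E.V)
    (v' : T ⟶ E'.V) (h : (yon S).map v ≫ E.v = y ≫ f) (h' : (yon S).map v' ≫ E'.v = y ≫ f) :
    H.loc y E v h = H.loc y E' v' h' := by
  refine yon_hom_ext_of_open_nhds _ _ fun τ => ?_
  obtain ⟨U, hτ, E'', a, a', v'', e1, e2⟩ := AffEt.exists_refine v v' (h.trans h'.symm) τ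
  refine ⟨U, hτ, ?_⟩
  have k1 : (yon S).map (openSubι T U ≫ v) ≫ E.v = ((yon S).map (openSubι T U) ≫ y) ≫ f := by
    rw [Functor.map_comp, Category.assoc, h, Category.assoc]
  have k2 : (yon S).map (openSubι T U ≫ v') ≫ E'.v = ((yon S).map (openSubι T U) ≫ y) ≫ f := by
    rw [Functor.map_comp, Category.assoc, h', Category.assoc]
  have k3 : (yon S).map v'' ≫ E''.v = ((yon S).map (openSubι T U) ≫ y) ≫ f := by
    rw [← a.w, ← Category.assoc, ← Functor.map_comp, e1]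
    exact k1
  rw [← H.loc_pull (openSubι T U) y E v h k1, ← H.loc_pull (openSubι T U) y E' v' h' k2]
  have k1' : (yon S).map (v'' ≫ a.a) ≫ E.v = ((yon S).map (openSubι T U) ≫ y) ≫ f := by
    rw [e1]; exact k1
  have k2' : (yon S).map (v'' ≫ a'.a) ≫ E'.v = ((yon S).map (openSubι T U) ≫ y) ≫ f := by
    rw [e2]; exact k2
  have l1 := H.loc_map ((yon S).map (openSubι T U) ≫ y) a v'' k3 k1'
  have l2 := H.loc_map ((yon S).map (openSubι T U) ≫ y) a' v'' k3 k2'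
  have m1 : H.loc ((yon S).map (openSubι T U) ≫ y) E (openSubι T U ≫ v) k1 =
      H.loc ((yon S).map (openSubι T U) ≫ y) E (v'' ≫ a.a) k1' := by
    congr 1
    exact e1.symm
  have m2 : H.loc ((yon S).map (openSubι T U) ≫ y) E' (openSubι T U ≫ v') k2 =
      H.loc ((yon S).map (openSubι T U) ≫ y) E' (v'' ≫ a'.a) k2' := by
    congr 1
    exact e2.symm
  rw [m1, m2, l1, l2]

include H in
/-- Morphisms out of `Y` are determined on the base changes to the charts. -/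
theorem hom_ext_Y {Z : Sp S} {φ φ' : Y ⟶ Z} (h : ∀ E, H.pE E ≫ φ = H.pE E ≫ φ') : φ = φ' := by
  refine sp_hom_ext_of_local φ φ' fun T y => ?_
  obtain ⟨Sv, hSv, hl⟩ := exists_cover_affEt H.hX (y ≫ f)
  refine ⟨Sv, hSv, fun W w hw => ?_⟩
  obtain ⟨E, v, hv⟩ := hl w hw
  have hv' : (yon S).map v ≫ E.v = ((yon S).map w ≫ y) ≫ f := by rw [hv, Category.assoc]
  rw [← Category.assoc, ← Category.assoc, ← H.ptE_p ((yon S).map w ≫ y) E v hv', Category.assoc,
    Category.assoc, h]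

theorem exists_f' : ∃ f' : Y ⟶ H.N, ∀ ⦃T : Over S⦄ (y : (yon S).obj T ⟶ Y)
    (E : AffEt X) (v : T ⟶ E.V) (h : (yon S).map v ≫ E.v = y ≫ f), y ≫ f' = H.loc y E v h := by
  obtain ⟨f', hf'⟩ := exists_hom_of_local (F := Y) (G := H.N)
    (fun T y z => ∃ (E : AffEt X) (v : T ⟶ E.V) (h : (yon S).map v ≫ E.v = y ≫ f),
      z = H.loc y E v h)
    (by
      rintro T T' g y z ⟨E, v, h, rfl⟩
      have h' : (yon S).map (g ≫ v) ≫ E.v = ((yon S).map g ≫ y) ≫ f := by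
        rw [Functor.map_comp, Category.assoc, h, Category.assoc]
      exact ⟨E, g ≫ v, h', (H.loc_pull g y E v h h').symm⟩)
    (by
      rintro T y z z' ⟨E, v, h, rfl⟩ ⟨E', v', h', rfl⟩
      exact H.loc_indep y E E' v v' h h')
    (by
      intro T y
      obtain ⟨Sv, hSv, hl⟩ := exists_cover_affEt H.hX (y ≫ f)
      refine ⟨Sv, hSv, fun W w hw => ?_⟩
      obtain ⟨E, v, hv⟩ := hl w hw
      have hv' : (yon S).map v ≫ E.v = ((yon S).map w ≫ y) ≫ f := by rw [hv, Category.assoc]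
      exact ⟨_, E, v, hv', rfl⟩)
  exact ⟨f', fun T y E v h => hf' y _ ⟨E, v, h, rfl⟩⟩

/-- The canonical morphism to the normalization. -/
noncomputable def f' : Y ⟶ H.N := H.exists_f'.choose

theorem f'_spec {T : Over S} (y : (yon S).obj T ⟶ Y) (E : AffEt X) (v : T ⟶ E.V)
    (h : (yon S).map v ≫ E.v = y ≫ f) : y ≫ H.f' = H.loc y E v h :=
  H.exists_f'.choose_spec y E v h

theorem pE_f' (E : AffEt X) : H.pE E ≫ H.f' = H.ηE E ≫ H.κE E := by
  apply GrothendieckTopology.hom_ext_uliftYoneda.{u + 1} (AlgSp.J S)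
  intro T t
  obtain ⟨v, hv⟩ := (yon S).map_surjective (t ≫ H.fE E)
  have h : (yon S).map v ≫ E.v = (t ≫ H.pE E) ≫ f := by
    rw [hv, Category.assoc, Category.assoc, (H.sqE E).w]
  rw [← Category.assoc, H.f'_spec (t ≫ H.pE E) E v h]
  unfold loc
  rw [H.ptE_of E t v hv h]

theorem f'_ν : H.f' ≫ H.ν = f := by
  apply H.hom_ext_Y
  intro E
  rw [← Category.assoc, H.pE_f', Category.assoc, H.κE_ν, ← Category.assoc]
  have := (H.isRelNorm_E E).1
  change H.ηE E ≫ (yon S).map (H.ρE E) = H.fE E at this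
  rw [this]
  exact (H.sqE E).w.symm

theorem isIntegralHom_ρE (E : AffEt X) : IsIntegralHom (H.ρE E).left :=
  isIntegralHom_of_isRelNormalization_yon (H.isRelNorm_E E)

/-- **Existence of the relative normalization.** -/
theorem isRelNormalization : IsRelNormalization f H.ν H.f' := by
  refine ⟨H.f'_ν, H.cartFun.isIntegralMor_ν H.hX H.isIntegralHom_ρE, ?_⟩
  intro Z _ π g hπ hg
  have hk : ∀ E : AffEt X, ∃! k : (yon S).obj (H.NE E) ⟶ Z, H.ηE E ≫ k = H.pE E ≫ g ∧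
      k ≫ π = (yon S).map (H.ρE E) ≫ E.v := fun E =>
    existsUnique_desc_of_isRelNormalization E.affine (H.isRelNorm_E E) π hπ E.v (H.pE E ≫ g) (by
      rw [Category.assoc, hg]; exact (H.sqE E).w)
  choose k hk1 hk2 using fun E => (hk E).exists
  have hku : ∀ E (k' : (yon S).obj (H.NE E) ⟶ Z), H.ηE E ≫ k' = H.pE E ≫ g →
      k' ≫ π = (yon S).map (H.ρE E) ≫ E.v → k' = k E := fun E k' h1 h2 =>
    (hk E).unique ⟨h1, h2⟩ ⟨hk1 E, hk2 E⟩
  have hcompat : ∀ {E₁ E₂ : AffEt X} (a : E₁ ⟶ E₂),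
      (yon S).map (H.Nmap a) ≫ k E₂ = k E₁ := by
    intro E₁ E₂ a
    apply hku
    · rw [← Category.assoc, H.η_Nmap, Category.assoc, hk1, ← Category.assoc, H.Ymap_p]
    · rw [Category.assoc, hk2, ← Category.assoc, ← Functor.map_comp, (H.Nmap_sq a).w,
        Functor.map_comp, Category.assoc, a.w]
  obtain ⟨h, hh⟩ := H.exists_desc' k hcompat
  refine ⟨h, ⟨?_, ?_⟩, ?_⟩
  · apply H.hom_ext_Y
    intro E
    rw [← Category.assoc, H.pE_f', Category.assoc, hh, hk1]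
  · apply H.glue_hom_ext'
    intro E
    rw [← Category.assoc, hh, hk2, H.κE_ν]
  · rintro h' ⟨h'1, h'2⟩
    apply H.glue_hom_ext'
    intro E
    rw [hh]
    apply hku
    · rw [← Category.assoc, ← H.pE_f', Category.assoc, h'1]
    · rw [Category.assoc, h'2, H.κE_ν]

include H in
theorem isAlgSpace_N : IsAlgSpace H.N :=
  H.cartFun.isAlgSpace_glue H.hX H.isIntegralHom_ρE

end NormHyp

/-- **Existence of the relative normalization of algebraic spaces** (sheaf-level form). -/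
theorem exists_isRelNormalization_sp {X Y : Sp S} (f : Y ⟶ X) (hY : IsAlgSpace Y)
    (hX : IsAlgSpace X) (hqc : IsQuasiCompactMor f) (hqs : IsQuasiSeparatedMor f) :
    ∃ (X' : Sp S) (ν : X' ⟶ X) (f' : Y ⟶ X'), IsAlgSpace X' ∧ IsRelNormalization f ν f' := by
  have H : NormHyp f := ⟨hY, hX, hqc, hqs⟩
  exact ⟨H.N, H.ν, H.f', H.isAlgSpace_N, H.isRelNormalization⟩

end Groth.Agent.Lib.Helper14.AS
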