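import Groth.Agent.Lib.Helper14.Norm6d

/-!
# Local characterization of the relative normalization (helper14)
-/

universe u
open CategoryTheory CategoryTheory.Limits AlgebraicGeometry Opposite
open AlgSp

namespace Groth.Agent.Lib.Helper14.AS

variable {S : Scheme.{u}}

theorem isIntegralMor_of_isPullback' {F G G' F' : Sp S} {f : F ⟶ G} {g : G' ⟶ G}
    {fst : F' ⟶ F} {snd : F' ⟶ G'} (sq : IsPullback fst snd f g) (hf : IsIntegralMor f) :
    IsIntegralMor snd := by
  intro Z hZ z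
  obtain ⟨W, i, a, sqW, hW⟩ := hf hZ (z ≫ g)
  refine ⟨W, i, sq.lift a ((yon S).map i ≫ z) (by rw [sqW.w, Category.assoc]), ?_, hW⟩
  refine IsPullback.of_right ?_ (sq.lift_snd _ _ _) sq
  rw [sq.lift_fst]
  exact sqW

/-- Transport of a relative normalization along an isomorphism of the source. -/
theorem isRelNormalization_of_iso_source {F F' G X' : Sp S} {f : F ⟶ G} {ν : X' ⟶ G}
    {f' : F ⟶ X'} (hn : IsRelNormalization f ν f') (i : F' ≅ F) :
    IsRelNormalization (i.hom ≫ f) ν (i.hom ≫ f') := by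
  refine ⟨by rw [Category.assoc, hn.1], hn.2.1, ?_⟩
  intro Z hZ π g hπ hg
  obtain ⟨h, ⟨hh1, hh2⟩, huniq⟩ := hn.2.2 hZ π (i.inv ≫ g) hπ (by
    rw [Category.assoc, hg, Iso.inv_hom_id_assoc])
  refine ⟨h, ⟨by rw [Category.assoc, hh1, Iso.hom_inv_id_assoc], hh2⟩, ?_⟩
  rintro h' ⟨h'1, h'2⟩
  exact huniq h' ⟨by rw [← h'1, Category.assoc, Iso.inv_hom_id_assoc], h'2⟩

namespace NormHyp

variable {X Y : Sp S} {f : Y ⟶ X} (H : NormHyp f)

include H in
/-- **Local structure of a relative normalization**: the base change of a relative normalization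
to an affine etale chart is the relative normalization over the chart. -/
theorem isRelNormalization_chart {X' : Sp S} (hX' : IsAlgSpace X') {ν : X' ⟶ X} {f' : Y ⟶ X'}
    (hn : IsRelNormalization f ν f') (E : AffEt X) {YE P : Sp S} {pY : YE ⟶ Y}
    {fE : YE ⟶ (yon S).obj E.V} (sqY : IsPullback pY fE f E.v) {pP : P ⟶ X'}
    {νE : P ⟶ (yon S).obj E.V} (sqP : IsPullback pP νE ν E.v) (f'E : YE ⟶ P)
    (h1 : f'E ≫ νE = fE) (h2 : f'E ≫ pP = pY ≫ f') : IsRelNormalization fE νE f'E := by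
  obtain ⟨e, he1, he2⟩ := isRelNormalization_iso hX' H.isAlgSpace_N hn H.isRelNormalization
  let iY : YE ≅ H.YE E := sqY.isoIsPullback _ _ (H.sqE E)
  have iY1 : iY.hom ≫ H.pE E = pY := sqY.isoIsPullback_hom_fst _ _ (H.sqE E)
  have iY2 : iY.hom ≫ H.fE E = fE := sqY.isoIsPullback_hom_snd _ _ (H.sqE E)
  have sqP' : IsPullback (pP ≫ e.hom) νE H.ν E.v := by
    refine IsPullback.of_iso sqP (Iso.refl _) e (Iso.refl _) (Iso.refl _) ?_ ?_ ?_ ?_
    · simp
    · simp
    · simp [he2]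
    · simp
  let iP : P ≅ (yon S).obj (H.NE E) := sqP'.isoIsPullback _ _ (H.isPullback_κE E)
  have iP1 : iP.hom ≫ H.κE E = pP ≫ e.hom := sqP'.isoIsPullback_hom_fst _ _ (H.isPullback_κE E)
  have iP2 : iP.hom ≫ (yon S).map (H.ρE E) = νE :=
    sqP'.isoIsPullback_hom_snd _ _ (H.isPullback_κE E)
  have hn0 := isRelNormalization_of_iso_source (H.isRelNorm_E E) iY
  rw [iY2] at hn0
  refine isRelNormalization_of_iso hn0 iP ?_ iP2
  apply (H.isPullback_κE E).hom_ext
  · rw [Category.assoc, iP1, ← Category.assoc, h2, Category.assoc, he1, Category.assoc,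
      ← H.pE_f', ← Category.assoc, iY1]
  · rw [Category.assoc, iP2, h1, Category.assoc, (H.isRelNorm_E E).1, iY2]

/-- **Local criterion for relative normalizations**: a factorization through an integral
morphism from an algebraic space which is the relative normalization over the members of a
covering family of affine etale charts is the relative normalization. -/
theorem isRelNormalization_of_charts {X' : Sp S} {ν : X' ⟶ X} {f' : Y ⟶ X'}
    (hX' : IsAlgSpace X') (hfac : f' ≫ ν = f) (hint : IsIntegralMor ν) (𝓔 : AffEt X → Prop)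
    (hcov : ∀ ⦃T : Over S⦄ (x : (yon S).obj T ⟶ X), ∃ Sv ∈ J S T, ∀ ⦃W : Over S⦄ (w : W ⟶ T),
      Sv w → ∃ E, 𝓔 E ∧ ∃ v : W ⟶ E.V, (yon S).map v ≫ E.v = (yon S).map w ≫ x)
    (hloc : ∀ E, 𝓔 E → ∃ (P : Sp S) (pP : P ⟶ X') (νE : P ⟶ (yon S).obj E.V) (f'E : H.YE E ⟶ P),
      IsPullback pP νE ν E.v ∧ f'E ≫ νE = H.fE E ∧ f'E ≫ pP = H.pE E ≫ f' ∧
        IsRelNormalization (H.fE E) νE f'E) :
    IsRelNormalization f ν f' := by
  obtain ⟨h, ⟨hh1, hh2⟩, -⟩ := H.isRelNormalization.2.2 hX' ν f' hint hfac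
  -- `h` is an isomorphism over the charts of the family
  have hE : ∀ E, 𝓔 E → ∀ ⦃T : Over S⦄ (b : (yon S).obj T ⟶ X') (v : T ⟶ E.V),
      b ≫ ν = (yon S).map v ≫ E.v → ∃! n : T ⟶ H.NE E, (yon S).map n ≫ H.κE E ≫ h = b ∧
        n ≫ H.ρE E = v := by
    intro E hEE T b v hbv
    obtain ⟨P, pP, νE, f'E, sqP, k1, k2, hnE⟩ := hloc E hEE
    -- the comparison map over the chart
    have hc : (H.κE E ≫ h) ≫ ν = (yon S).map (H.ρE E) ≫ E.v := by
      rw [Category.assoc, hh2, H.κE_ν]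
    have hPalg : IsAlgSpace P := by
      have hr : AlgSp.RepWith @IsAffineHom νE :=
        repWith_isAffineHom_of_isAffineMor' νE
          (CartFun.isAffineMor_of_isIntegralMor (isIntegralMor_of_isPullback' sqP hint))
      exact isAlgSpace_of_representable_to (IsAlgSpace.yon_obj E.V) νE hr.rep
    obtain ⟨e, he1, he2⟩ := isRelNormalization_iso (IsAlgSpace.yon_obj _) hPalg
      (H.isRelNorm_E E) hnE
    have hcomp : e.hom = sqP.lift (H.κE E ≫ h) ((yon S).map (H.ρE E)) hc := by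
      obtain ⟨k, -, hku⟩ := (H.isRelNorm_E E).2.2 hPalg νE f'E hnE.2.1 hnE.1
      rw [hku e.hom ⟨he1, he2⟩]
      symm
      apply hku
      refine ⟨?_, sqP.lift_snd _ _ _⟩
      apply sqP.hom_ext
      · rw [Category.assoc, sqP.lift_fst, k2, ← Category.assoc, ← H.pE_f', Category.assoc, hh1]
      · rw [Category.assoc, sqP.lift_snd, (H.isRelNorm_E E).1, k1]
    have he_fst : e.hom ≫ pP = H.κE E ≫ h := by rw [hcomp, sqP.lift_fst]
    have he_snd : e.hom ≫ νE = (yon S).map (H.ρE E) := by rw [hcomp, sqP.lift_snd]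
    obtain ⟨n, hn⟩ := (yon S).map_surjective (sqP.lift b ((yon S).map v) hbv ≫ e.inv)
    refine ⟨n, ⟨?_, ?_⟩, ?_⟩
    · rw [← he_fst, hn, Category.assoc, Iso.inv_hom_id_assoc, sqP.lift_fst]
    · apply (yon S).map_injective
      rw [Functor.map_comp, hn, Category.assoc, ← he_snd, Iso.inv_hom_id_assoc, sqP.lift_snd]
    · rintro n' ⟨hn'1, hn'2⟩
      apply (yon S).map_injective
      rw [hn, ← cancel_mono e.hom, Category.assoc, Iso.inv_hom_id, Category.comp_id]
      apply sqP.hom_ext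
      · rw [Category.assoc, he_fst, sqP.lift_fst, hn'1]
      · rw [Category.assoc, he_snd, sqP.lift_snd, ← Functor.map_comp, hn'2]
  have hmono : Mono h := by
    apply mono_of_yon_injective
    intro T a a' haa'
    obtain ⟨Sv, hSv, hl⟩ := hcov (a ≫ H.ν)
    refine yon_hom_ext_of_cover a a' Sv hSv fun W w hw => ?_
    obtain ⟨E, hEE, v, hv⟩ := hl w hw
    have hν_eq : a ≫ H.ν = a' ≫ H.ν := by
      rw [← hh2, ← Category.assoc, haa', Category.assoc]
    have hv' : ((yon S).map w ≫ a') ≫ H.ν = (yon S).map v ≫ E.v := by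
      rw [hv, Category.assoc, hν_eq]
    have hv'' : ((yon S).map w ≫ a) ≫ H.ν = (yon S).map v ≫ E.v := by
      rw [hv, Category.assoc]
    obtain ⟨n, hn1, hn2⟩ : ∃ n : (yon S).obj W ⟶ (yon S).obj (H.NE E),
        n ≫ H.κE E = (yon S).map w ≫ a ∧ n ≫ (yon S).map (H.ρE E) = (yon S).map v :=
      ⟨(H.isPullback_κE E).lift _ _ hv'', (H.isPullback_κE E).lift_fst _ _ _,
        (H.isPullback_κE E).lift_snd _ _ _⟩
    obtain ⟨n', hn'1, hn'2⟩ : ∃ n' : (yon S).obj W ⟶ (yon S).obj (H.NE E),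
        n' ≫ H.κE E = (yon S).map w ≫ a' ∧ n' ≫ (yon S).map (H.ρE E) = (yon S).map v :=
      ⟨(H.isPullback_κE E).lift _ _ hv', (H.isPullback_κE E).lift_fst _ _ _,
        (H.isPullback_κE E).lift_snd _ _ _⟩
    obtain ⟨m, rfl⟩ := (yon S).map_surjective n
    obtain ⟨m', rfl⟩ := (yon S).map_surjective n'
    have hb : ((yon S).map w ≫ a ≫ h) ≫ ν = (yon S).map v ≫ E.v := by
      rw [Category.assoc, Category.assoc, hh2, ← Category.assoc, hv'']
    obtain ⟨n₀, -, hn₀u⟩ := hE E hEE ((yon S).map w ≫ a ≫ h) v hb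
    have e1 := hn₀u m ⟨by rw [← Category.assoc, hn1, Category.assoc], by
      apply (yon S).map_injective; rw [Functor.map_comp, hn2]⟩
    have e2 := hn₀u m' ⟨by rw [← Category.assoc, hn'1, Category.assoc, haa'], by
      apply (yon S).map_injective; rw [Functor.map_comp, hn'2]⟩
    rw [← hn1, ← hn'1, e1, e2]
  have hepi : Epi h := by
    have hls : Sheaf.IsLocallySurjective h := by
      apply isLocallySurjective_of_cover_lifts
      intro T b
      obtain ⟨Sv, hSv, hl⟩ := hcov (b ≫ ν)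
      refine ⟨Sv, hSv, fun W w hw => ?_⟩
      obtain ⟨E, hEE, v, hv⟩ := hl w hw
      obtain ⟨n, ⟨hn1, -⟩, -⟩ := hE E hEE ((yon S).map w ≫ b) v (by rw [Category.assoc, hv])
      exact ⟨(yon S).map n ≫ H.κE E, by rw [Category.assoc, hn1]⟩
    exact (Sheaf.isLocallySurjective_iff_epi _).1 hls
  have hiso : IsIso h := isIso_of_mono_of_epi h
  refine isRelNormalization_of_iso H.isRelNormalization (asIso h).symm ?_ ?_
  · rw [Iso.symm_hom, asIso_inv, ← hh1, Category.assoc, IsIso.hom_inv_id, Category.comp_id]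
  · rw [Iso.symm_hom, asIso_inv, IsIso.inv_comp_eq, hh2]

end NormHyp

end Groth.Agent.Lib.Helper14.AS
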