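import Groth.Agent.Lib.Helper14.Norm7

/-!
# Smooth base change for the relative normalization of algebraic spaces (helper14)
-/

universe u
open CategoryTheory CategoryTheory.Limits AlgebraicGeometry Opposite
open AlgSp

namespace Groth.Agent.Lib.Helper14.AS

variable {S : Scheme.{u}}

/-- A family of charts refining every chart locally is covering. -/
theorem cover_of_refine {X : Sp S} (hX : IsAlgSpace X) (𝓔 : AffEt X → Prop)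
    (href : ∀ (E₀ : AffEt X) ⦃T : Over S⦄ (v₀ : T ⟶ E₀.V), ∃ Sv ∈ J S T,
      ∀ ⦃W : Over S⦄ (w : W ⟶ T), Sv w → ∃ E, 𝓔 E ∧ ∃ v : W ⟶ E.V,
        (yon S).map v ≫ E.v = (yon S).map (w ≫ v₀) ≫ E₀.v)
    ⦃T : Over S⦄ (x : (yon S).obj T ⟶ X) :
    ∃ Sv ∈ J S T, ∀ ⦃W : Over S⦄ (w : W ⟶ T), Sv w →
      ∃ E, 𝓔 E ∧ ∃ v : W ⟶ E.V, (yon S).map v ≫ E.v = (yon S).map w ≫ x := by
  let Sv : Sieve T :=
    { arrows := fun W w => ∃ E, 𝓔 E ∧ ∃ v : W ⟶ E.V, (yon S).map v ≫ E.v = (yon S).map w ≫ x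
      downward_closed := fun {W W'} w hw g => by
        obtain ⟨E, hE, v, hv⟩ := hw
        exact ⟨E, hE, g ≫ v, by rw [Functor.map_comp, Category.assoc, hv, Functor.map_comp,
          Category.assoc]⟩ }
  refine ⟨Sv, ?_, fun W w hw => hw⟩
  obtain ⟨Sv₀, hSv₀, hl₀⟩ := exists_cover_affEt hX x
  refine (J S).transitive hSv₀ Sv fun W w hw => ?_
  obtain ⟨E₀, v₀, hv₀⟩ := hl₀ w hw
  obtain ⟨Sv₁, hSv₁, hl₁⟩ := href E₀ v₀
  refine (J S).superset_covering ?_ hSv₁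
  intro W' w' hw'
  obtain ⟨E, hE, v, hv⟩ := hl₁ w' hw'
  exact ⟨E, hE, v, by rw [hv, Functor.map_comp, Category.assoc, hv₀, Functor.map_comp,
    Category.assoc]⟩

set_option backward.isDefEq.respectTransparency.types false in
/-- The charts of `X₂` lying over charts of `X₁` form a covering family. -/
theorem cover_over_charts {X₁ X₂ : Sp S} (hX₁ : IsAlgSpace X₁) (hX₂ : IsAlgSpace X₂) (φ : X₂ ⟶ X₁)
    ⦃T : Over S⦄ (x : (yon S).obj T ⟶ X₂) :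
    ∃ Sv ∈ J S T, ∀ ⦃W : Over S⦄ (w : W ⟶ T), Sv w →
      ∃ E : AffEt X₂, (∃ (E₁ : AffEt X₁) (τ : E.V ⟶ E₁.V), E.v ≫ φ = (yon S).map τ ≫ E₁.v) ∧
        ∃ v : W ⟶ E.V, (yon S).map v ≫ E.v = (yon S).map w ≫ x := by
  refine cover_of_refine hX₂ _ (fun E₀ T v₀ => ?_) x
  obtain ⟨Sv₁, hSv₁, hl₁⟩ := exists_cover_affEt hX₁ ((yon S).map v₀ ≫ E₀.v ≫ φ)
  let Sv : Sieve T :=
    { arrows := fun W w => ∃ E : AffEt X₂,
        (∃ (E₁ : AffEt X₁) (τ : E.V ⟶ E₁.V), E.v ≫ φ = (yon S).map τ ≫ E₁.v) ∧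
        ∃ v : W ⟶ E.V, (yon S).map v ≫ E.v = (yon S).map (w ≫ v₀) ≫ E₀.v
      downward_closed := fun {W W'} w hw g => by
        obtain ⟨E, hE, v, hv⟩ := hw
        refine ⟨E, hE, g ≫ v, ?_⟩
        rw [Functor.map_comp, Category.assoc, hv]
        simp only [Functor.map_comp, Category.assoc] }
  refine ⟨Sv, ?_, fun W w hw => hw⟩
  refine (J S).transitive hSv₁ Sv fun W w hw => ?_
  obtain ⟨E₁, v₁, hv₁⟩ := hl₁ w hw
  have hr := E₁.etale.rep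
  have sqR := hr.isPullback' (E₀.v ≫ φ)
  have hsnd : Etale (hr.snd (E₀.v ≫ φ)).left := E₁.etale.property_snd (E₀.v ≫ φ)
  obtain ⟨r, hr1, hr2⟩ : ∃ r : W ⟶ hr.pullback (E₀.v ≫ φ), r ≫ hr.fst' (E₀.v ≫ φ) = v₁ ∧
      r ≫ hr.snd (E₀.v ≫ φ) = w ≫ v₀ :=
    ⟨hr.lift' v₁ (w ≫ v₀) (by rw [hv₁, Functor.map_comp, Category.assoc]), hr.lift'_fst _ _ _,
      hr.lift'_snd _ _ _⟩
  refine mem_J_of_open_nhds _ fun τ' => ?_
  obtain ⟨O, hO, hτO, -⟩ := exists_isAffineOpen_mem_and_subset (x := r.left τ') (U := ⊤) trivial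
  have hae : Etale (openSubι (hr.pullback (E₀.v ≫ φ)) O ≫ hr.snd (E₀.v ≫ φ)).left := by
    rw [Over.comp_left]
    infer_instance
  refine ⟨r.left ⁻¹ᵁ O, hτO, ?_⟩
  refine ⟨E₀.ofHom (openSubι (hr.pullback (E₀.v ≫ φ)) O ≫ hr.snd (E₀.v ≫ φ)) hae hO,
    ⟨E₁, openSubι (hr.pullback (E₀.v ≫ φ)) O ≫ hr.fst' (E₀.v ≫ φ), ?_⟩, openSubRes r O, ?_⟩
  · show ((yon S).map (openSubι (hr.pullback (E₀.v ≫ φ)) O ≫ hr.snd (E₀.v ≫ φ)) ≫ E₀.v) ≫ φ = _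
    rw [Functor.map_comp, Functor.map_comp, Category.assoc, Category.assoc, Category.assoc,
      ← sqR.w]
    rfl
  · show (yon S).map (openSubRes r O) ≫
      (yon S).map (openSubι (hr.pullback (E₀.v ≫ φ)) O ≫ hr.snd (E₀.v ≫ φ)) ≫ E₀.v = _
    rw [← Category.assoc, ← Functor.map_comp, ← Category.assoc, openSubRes_ι, Category.assoc, hr2,
      Category.assoc]

set_option backward.isDefEq.respectTransparency.types false in
/-- **Smooth base change for the relative normalization of algebraic spaces.** -/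
theorem isRelNormalization_smooth_baseChange {X₁ X₂ Y₁ Y₂ X₁' P : Sp S}
    (hX₁ : IsAlgSpace X₁) (hX₂ : IsAlgSpace X₂) (hY₁ : IsAlgSpace Y₁) (hY₂ : IsAlgSpace Y₂)
    (hX₁' : IsAlgSpace X₁') (hPalg : IsAlgSpace P)
    (f₁ : Y₁ ⟶ X₁) (φ : X₂ ⟶ X₁) (f₂ : Y₂ ⟶ X₂) (ψ : Y₂ ⟶ Y₁) (hsq : IsPullback ψ f₂ f₁ φ)
    (hqc : IsQuasiCompactMor f₁) (hqs : IsQuasiSeparatedMor f₁) (hφ : LocP @Smooth φ)
    (ν₁ : X₁' ⟶ X₁) (f₁' : Y₁ ⟶ X₁') (hn : IsRelNormalization f₁ ν₁ f₁')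
    (ν₂ : P ⟶ X₂) (ρ : P ⟶ X₁') (hP : IsPullback ρ ν₂ ν₁ φ)
    (f₂' : Y₂ ⟶ P) (w₁ : f₂' ≫ ν₂ = f₂) (w₂ : f₂' ≫ ρ = ψ ≫ f₁') :
    IsRelNormalization f₂ ν₂ f₂' := by
  have H₁ : NormHyp f₁ := ⟨hY₁, hX₁, hqc, hqs⟩
  have H₂ : NormHyp f₂ := ⟨hY₂, hX₂, isQuasiCompactMor_of_isPullback hsq hqc,
    isQuasiSeparatedMor_of_isPullback hsq hqs⟩
  refine H₂.isRelNormalization_of_charts hPalg w₁ (isIntegralMor_of_isPullback' hP hn.2.1)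
    (fun E => ∃ (E₁ : AffEt X₁) (τ : E.V ⟶ E₁.V), E.v ≫ φ = (yon S).map τ ≫ E₁.v)
    (cover_over_charts hX₁ hX₂ φ) ?_
  rintro E ⟨E₁, τ, hτ⟩
  have hsm : Smooth τ.left := hφ E.v E₁.v τ E.etale E₁.etale hτ
  have := E.affine
  have := E₁.affine
  obtain ⟨N, i, fstN, sqN, hN, hi⟩ := hn.2.1 E₁.affine E₁.v
  have hcη : (H₁.pE E₁ ≫ f₁') ≫ ν₁ = H₁.fE E₁ ≫ E₁.v := by
    rw [Category.assoc, hn.1]; exact (H₁.sqE E₁).w
  have hnN : IsRelNormalization (H₁.fE E₁) ((yon S).map i) (sqN.lift _ _ hcη) :=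
    H₁.isRelNormalization_chart hX₁' hn E₁ (H₁.sqE E₁) sqN _ (sqN.lift_snd _ _ _)
      (sqN.lift_fst _ _ _)
  -- the map between the base changes of `Y`
  have hcq : (H₂.pE E ≫ ψ) ≫ f₁ = (H₂.fE E ≫ (yon S).map τ) ≫ E₁.v := by
    rw [Category.assoc, hsq.w, ← Category.assoc, (H₂.sqE E).w, Category.assoc, hτ, Category.assoc]
  have sqY : IsPullback ((H₁.sqE E₁).lift _ _ hcq) (H₂.fE E) (H₁.fE E₁) ((yon S).map τ) := by
    refine IsPullback.of_right ?_ ((H₁.sqE E₁).lift_snd _ _ _) (H₁.sqE E₁)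
    rw [(H₁.sqE E₁).lift_fst, ← hτ]
    exact (H₂.sqE E).paste_horiz hsq
  have sqN₂ := IsPullback.of_hasPullback i τ
  have sqN₂y := sqN₂.map (yon S)
  have hcη₂ : ((H₁.sqE E₁).lift _ _ hcq ≫ sqN.lift _ _ hcη) ≫ (yon S).map i =
      H₂.fE E ≫ (yon S).map τ := by
    rw [Category.assoc, sqN.lift_snd, (H₁.sqE E₁).lift_snd]
  have hn₂ : IsRelNormalization (H₂.fE E) ((yon S).map (pullback.snd i τ))
      (sqN₂y.lift _ _ hcη₂) :=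
    isRelNormalization_baseChange_affine τ sqY hsm (H₁.isAlgSpace_YE E₁) (H₂.isAlgSpace_YE E)
      (H₁.qc_fE E₁) (H₁.qs_fE E₁) hnN sqN₂ (sqN₂y.lift_fst _ _ _) (sqN₂y.lift_snd _ _ _)
  have hcP : ((yon S).map (pullback.fst i τ) ≫ fstN) ≫ ν₁ =
      ((yon S).map (pullback.snd i τ) ≫ E.v) ≫ φ := by
    rw [Category.assoc, sqN.w, ← Category.assoc, sqN₂y.w, Category.assoc, Category.assoc, hτ]
  have sqPE : IsPullback (hP.lift _ _ hcP) ((yon S).map (pullback.snd i τ)) ν₂ E.v := by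
    refine IsPullback.of_right ?_ (hP.lift_snd _ _ _) hP
    rw [hP.lift_fst, hτ]
    exact sqN₂y.paste_horiz sqN
  refine ⟨_, hP.lift _ _ hcP, (yon S).map (pullback.snd i τ), sqN₂y.lift _ _ hcη₂, sqPE,
    sqN₂y.lift_snd _ _ _, ?_, hn₂⟩
  apply hP.hom_ext
  · rw [Category.assoc, hP.lift_fst, ← Category.assoc, sqN₂y.lift_fst, Category.assoc,
      sqN.lift_fst, ← Category.assoc, (H₁.sqE E₁).lift_fst, Category.assoc, Category.assoc, w₂]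
  · rw [Category.assoc, hP.lift_snd, ← Category.assoc, sqN₂y.lift_snd, Category.assoc, w₁]
    exact (H₂.sqE E).w.symm

end Groth.Agent.Lib.Helper14.AS
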