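import Groth.Agent.Lib.Helper14.Birat9
import Groth.Agent.Lib.Helper14.Birat10
import Groth.Agent.Lib.Helper24.EtaleNormal

/-!
# Normal integral affine etale charts (helper14)
-/

universe u
open CategoryTheory CategoryTheory.Limits AlgebraicGeometry Opposite Topology TopologicalSpace

namespace Groth.Agent.Lib.Helper14.AS
open AlgSp Groth.Agent.Lib.Helper21.Birat Groth.Agent.Lib.Helper6.NormIso

variable {S : Scheme.{u}}

/-- In a normal scheme with finitely many irreducible components every point has an affine open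
neighbourhood which is integral with integrally closed ring of sections. -/
theorem exists_normal_integral_affine_nhd {V : Scheme.{u}} (hV : Pi1.IsNormalScheme V)
    (hVf : (irreducibleComponents V).Finite) (v : V) :
    ∃ O : V.Opens, IsAffineOpen O ∧ v ∈ O ∧ IsIntegral (O : Scheme.{u}) ∧
      IsIntegrallyClosed Γ((O : Scheme.{u}), ⊤) := by
  have : ∀ x, _root_.IsReduced (V.presheaf.stalk x) := fun x => by
    have := (hV x).1; infer_instance
  have : IsReduced V := isReduced_of_isReduced_stalk V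
  obtain ⟨η, hη, hηv⟩ := exists_gen_specializes v
  have := (hV v).1
  have hvN : v ∈ nbhd η := mem_nbhd_of_isDomain_stalk v hη hηv
  obtain ⟨O, hO, hvO, hON⟩ : ∃ O : V.Opens, IsAffineOpen O ∧ v ∈ O ∧ (O : Set V) ⊆ nbhd η := by
    obtain ⟨_, ⟨O, hO, rfl⟩, hvO, hON⟩ := V.isBasis_affineOpens.exists_subset_of_mem_open hvN
      (isOpen_nbhd hVf η)
    exact ⟨O, hO, hvO, hON⟩
  have hηO : η ∈ O := hηv.mem_open O.isOpen hvO
  have : IrreducibleSpace (O : Scheme.{u}) :=
    irreducibleSpace_of_specializes (O : Set V) η hηO fun x hx => specializes_of_mem_nbhd (hON hx)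
  have : IsReduced (O : Scheme.{u}) := isReduced_of_isOpenImmersion O.ι
  have hint : IsIntegral (O : Scheme.{u}) := isIntegral_of_irreducibleSpace_of_isReduced _
  refine ⟨O, hO, hvO, hint, ?_⟩
  have hOn : Pi1.IsNormalScheme (O : Scheme.{u}) := isNormalScheme_opens hV O
  have haff : IsAffine (O : Scheme.{u}) := hO
  have : Nonempty ((⊤ : (O : Scheme.{u}).Opens) : Scheme.{u}) := ⟨⟨⟨v, hvO⟩, trivial⟩⟩
  exact Groth.Agent.Lib.Helper24.ENorm.isIntegrallyClosed_of_isAffineOpen
    (fun x => (hOn x).2) (isAffineOpen_top _)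

set_option backward.isDefEq.respectTransparency.types false in
theorem exists_normal_integral_affine_etale_chart (X : Space S) (hXi : IsIntegralSp X.obj)
    (hXn : EtaleLocally (fun U => ∀ u : ↥U, IsDomain ↥(U.presheaf.stalk u) ∧
      IsIntegrallyClosed ↥(U.presheaf.stalk u)) X.obj) (x : Points X.obj) :
    ∃ (U : Over S) (a : (yon S).obj U ⟶ X.obj), RepWith @Etale a ∧ IsAffine U.left ∧
      IsIntegral U.left ∧ IsIntegrallyClosed ↥Γ(U.left, ⊤) ∧ x ∈ Set.range (Points.ofPt a) := by
  obtain ⟨U₀, p, hpe, hps, hN⟩ := hXn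
  obtain ⟨hred, hdec, hirr⟩ := hXi
  have hXf : (irreducibleComponents (Points X.obj)).Finite := by
    rw [irreducibleComponents_eq_singleton]
    exact Set.finite_singleton _
  obtain ⟨u₀, hu₀⟩ := ofPt_surjective_of_repWith hps x
  obtain ⟨O, hO, hu₀O⟩ : ∃ O : U₀.left.Opens, IsAffineOpen O ∧ u₀ ∈ O := by
    obtain ⟨_, ⟨O, hO, rfl⟩, hu₀O, -⟩ :=
      U₀.left.isBasis_affineOpens.exists_subset_of_mem_open (Set.mem_univ u₀) isOpen_univ
    exact ⟨O, hO, hu₀O⟩
  have hOaff : IsAffine (openSub U₀ O).left := hO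
  have hOe : RepWith @Etale ((yon S).map (openSubι U₀ O) ≫ p) := repWith_etale_restrict hpe O
  have hOf : (irreducibleComponents ↥(openSub U₀ O).left).Finite :=
    finite_irreducibleComponents_affine_chart X hdec hXf _ hOe
  have hOn : Pi1.IsNormalScheme (openSub U₀ O).left := isNormalScheme_opens hN O
  obtain ⟨O', hO', hvO', hint, hic⟩ :=
    exists_normal_integral_affine_nhd hOn hOf (⟨u₀, hu₀O⟩ : ↥(openSub U₀ O).left)
  refine ⟨openSub (openSub U₀ O) O', (yon S).map (openSubι _ O') ≫ (yon S).map (openSubι U₀ O) ≫ p,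
    repWith_etale_restrict hOe O', hO', hint, hic, ⟨⟨⟨u₀, hu₀O⟩, hvO'⟩, ?_⟩⟩
  rw [ofPt_yon_map_comp, ofPt_yon_map_comp]
  exact hu₀

end Groth.Agent.Lib.Helper14.AS
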