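import Groth.Agent.Lib.Helper14.Norm10
import Groth.Agent.Lib.Helper14.AlgSpDim
import Groth.Agent.Lib.Helper1.ModEtUnit

universe u
open CategoryTheory CategoryTheory.Limits AlgebraicGeometry Opposite
open AlgSp

namespace Groth.Agent.Lib.Helper14.AS

variable {S : Scheme.{u}}

set_option backward.isDefEq.respectTransparency.types false in
theorem ringKrullDim_stalk_Spec_eq_zero_iff (R : CommRingCat.{u}) (p : ↥(Spec R)) :
    ringKrullDim ((Spec R).presheaf.stalk p) = 0 ↔ p.asIdeal ∈ minimalPrimes R := by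
  have h := IsLocalization.AtPrime.ringKrullDim_eq_height p.asIdeal
    ((Spec.structureSheaf R).presheaf.stalk p)
  change ringKrullDim ((Spec.structureSheaf R).presheaf.stalk p) = 0 ↔ _
  rw [h, ← Ideal.height_eq_zero_iff]
  exact WithBot.coe_eq_zero

theorem exists_codimZero_lift (W : Scheme.{u}) [IsAffine W] {A : CommRingCat.{u}}
    (φ : A ⟶ Γ(W, ⊤)) (hφ : Function.Injective φ.hom) (n : ↥(Spec A))
    (hn : n.asIdeal ∈ minimalPrimes A) :
    ∃ w : ↥W, ringKrullDim (W.presheaf.stalk w) = 0 ∧ (W.toSpecΓ ≫ Spec.map φ) w = n := by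
  have hker : (⊥ : Ideal ↑Γ(W, ⊤)).comap φ.hom = ⊥ := by
    rw [← RingHom.ker_eq_comap_bot]
    exact (RingHom.injective_iff_ker_eq_bot _).1 hφ
  obtain ⟨𝔮, h𝔮, h𝔮c⟩ := Ideal.exists_minimalPrimes_comap_eq (I := ⊥) φ.hom n.asIdeal
    (by rw [hker]; exact hn)
  have h𝔮p : 𝔮.IsPrime := h𝔮.1.1
  obtain ⟨w, hw⟩ := Groth.Agent.Lib.Helper1.ModEtBasic.exists_primeAtPt_eq W 𝔮
  refine ⟨w, ?_, ?_⟩
  · rw [Groth.Agent.Lib.Helper1.ModEtBasic.ringKrullDim_stalk_eq_zero_iff, hw]
    exact h𝔮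
  · rw [Scheme.Hom.comp_apply]
    apply PrimeSpectrum.ext
    change Ideal.comap φ.hom (primeAtPt W w) = n.asIdeal
    rw [hw, h𝔮c]

end Groth.Agent.Lib.Helper14.AS

namespace Groth.Agent.Lib.Helper14.AS

variable {S : Scheme.{u}}

set_option backward.isDefEq.respectTransparency.types false in
/-- A codimension-0 point of the normalization of `X` in `Y` is the image of a codimension-0
point of `Y`. -/
theorem codimZero_of_normalization_lifts {Y X X' : Space S} (f : Y ⟶ X)
    (hqc : IsQuasiCompactMor f.hom) (hqs : IsQuasiSeparatedMor f.hom) (ν : X' ⟶ X) (f' : Y ⟶ X')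
    (hn : IsRelNormalization f.hom ν.hom f'.hom) (x' : Points X'.obj)
    (hx' : HasAt (fun U u => ringKrullDim ↥(U.presheaf.stalk u) = 0) X'.obj x') :
    ∃ y : Points Y.obj, HasAt (fun U u => ringKrullDim ↥(U.presheaf.stalk u) = 0) Y.obj y ∧
      Points.map f'.hom y = x' := by
  obtain ⟨U', a', u', ha', hu', hdim⟩ := hx'
  -- an affine chart of `X` through `ν x'`
  obtain ⟨V₀, b₀, hb₀e, hb₀s⟩ := X.property.atlas
  obtain ⟨v₀, hv₀⟩ := ofPt_surjective_of_repWith hb₀s (Points.map ν.hom x')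
  obtain ⟨T₀, hT₀, hvT₀, -⟩ := exists_isAffineOpen_mem_and_subset (x := v₀) (U := ⊤) trivial
  let T : Over S := openSub V₀ T₀
  have hTaff : IsAffine T.left := hT₀
  let g : (yon S).obj T ⟶ X.obj := (yon S).map (openSubι V₀ T₀) ≫ b₀
  have hg : RepWith @Etale g := repWith_comp _ (repWith_etale_openSubι V₀ T₀) hb₀e
  have hgE : IsEtaleMor g := fun T' φ hφ => repWith_comp _ hφ hg
  let t : ↥T.left := ⟨v₀, hvT₀⟩
  have ht : Points.ofPt g t = Points.map ν.hom x' := by
    change Points.ofPt ((yon S).map (openSubι V₀ T₀) ≫ b₀) t = _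
    rw [ofPt_yon_map_comp]
    exact hv₀
  -- the normalization over `T`
  obtain ⟨N', n, prN, sqN, -, -⟩ := hn.2.1 hTaff g
  obtain ⟨z, hz1, hz2⟩ := points_exists_of_isPullback sqN x' (Points.ofPt (𝟙 _) t) (by
    rw [Points.map_ofPt, Category.id_comp, ht])
  obtain ⟨n₀, rfl⟩ := (Points.schemeHomeo N').surjective z
  have hn₀ : Points.ofPt prN n₀ = x' := by
    rw [Points.ofPt_eq_map_ofScheme]; exact hz1
  have hprNe : RepWith @Etale prN := repWith_of_isPullback _ sqN.flip hg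
  have hdim₀ : ringKrullDim (N'.left.presheaf.stalk n₀) = 0 := by
    rw [ringKrullDim_stalk_chart_indep prN hprNe a' ha' n₀ u' (hn₀.trans hu'.symm)]
    exact hdim
  -- base change of the normalization
  have sq := IsPullback.of_hasPullback f.hom g
  have hYT : IsAlgSpace (pullback f.hom g) :=
    isAlgSpace_of_isPullback (repDiag_of_isAlgSpace X.2) Y.2 (IsAlgSpace.yon_obj T) sq
  let fT : pullback f.hom g ⟶ (yon S).obj T := pullback.snd f.hom g
  let f'T : pullback f.hom g ⟶ (yon S).obj N' := sqN.lift (pullback.fst f.hom g ≫ f'.hom) fT (by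
    rw [Category.assoc, hn.1]; exact sq.w)
  have c1 : f'T ≫ (yon S).map n = fT := sqN.lift_snd _ _ _
  have c2 : f'T ≫ prN = pullback.fst f.hom g ≫ f'.hom := sqN.lift_fst _ _ _
  have hnT : IsRelNormalization fT ((yon S).map n) f'T :=
    isRelNormalization_etale_baseChange_sp Y.2 X.2 X'.2 (IsAlgSpace.yon_obj T) hYT
      (IsAlgSpace.yon_obj N') f.hom hqc hqs ν.hom f'.hom hn g hgE (pullback.fst f.hom g) fT sq
      prN ((yon S).map n) sqN f'T c1 c2
  have hqcT : IsQuasiCompactMor fT := isQuasiCompactMor_of_isPullback sq hqc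
  obtain ⟨c⟩ := exists_nchart hYT fT hqcT
  have hW : IsAffine c.W.left := c.hW
  obtain ⟨e, he1, -⟩ := isRelNormalization_iso (IsAlgSpace.yon_obj N') (IsAlgSpace.yon_obj c.N) hnT
    (c.isRelNormalization hYT)
  obtain ⟨ε, hε⟩ := (yon S).map_surjective e.hom
  obtain ⟨ε', hε'⟩ := (yon S).map_surjective e.inv
  have hεε' : ε ≫ ε' = 𝟙 _ := (yon S).map_injective (by
    rw [Functor.map_comp, hε, hε', Iso.hom_inv_id, CategoryTheory.Functor.map_id])
  -- the point of `Spec A'`
  let n₁ : ↥(Spec c.A') := ε.left n₀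
  have hε'n₁ : ε'.left n₁ = n₀ := by
    have := congrArg (fun k => k.left n₀) hεε'
    exact this
  have hdim₁ : ringKrullDim ((Spec c.A').presheaf.stalk n₁) = 0 := by
    have h := ringKrullDim_stalk_chart_indep (U := c.N) (U' := N') ((yon S).map ε' ≫ prN)
      (repWith_comp _ ((repWith_yon_map_iff _ _).2 (by
        have : IsIso ε' := ⟨ε, (yon S).map_injective (by
          rw [Functor.map_comp, hε, hε', Iso.inv_hom_id, CategoryTheory.Functor.map_id]), hεε'⟩
        have : IsIso ε'.left := inferInstanceAs (IsIso ((Over.forget S).map ε'))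
        infer_instance)) hprNe) prN hprNe n₁ n₀ (by rw [ofPt_yon_map_comp, hε'n₁])
    exact h.trans hdim₀
  rw [ringKrullDim_stalk_Spec_eq_zero_iff] at hdim₁
  -- lift the minimal prime to `Γ(W)`
  obtain ⟨w, hdimw, hqw⟩ := exists_codimZero_lift c.W.left (normι c.φ c.δ₀ c.δ₁)
    (normι_injective _ _ _) n₁ hdim₁
  change c.qL w = n₁ at hqw
  -- the point of `Y`
  have hfstE : RepWith @Etale (pullback.fst f.hom g) := repWith_of_isPullback _ sq.flip hg
  refine ⟨Points.ofPt (c.w ≫ pullback.fst f.hom g) w,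
    ⟨c.W, c.w ≫ pullback.fst f.hom g, w, repWith_comp _ c.hw_et hfstE, rfl, hdimw⟩, ?_⟩
  have hf'T : f'T = c.η hYT ≫ e.inv := by rw [← he1, Category.assoc, Iso.hom_inv_id, Category.comp_id]
  rw [Points.map_ofPt, Category.assoc, ← c2, hf'T, Category.assoc, ← Category.assoc, c.w_η hYT,
    ← hε', ← Category.assoc, ← Functor.map_comp, ofPt_yon_map_comp]
  change Points.ofPt prN (ε'.left (c.qL w)) = x'
  rw [hqw, hε'n₁, hn₀]

end Groth.Agent.Lib.Helper14.AS
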