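import Groth.Agent.Lib.Helper14.Norm10
import Groth.Agent.Lib.Helper14.AlgSpLocP3
import Groth.Agent.Lib.Helper14.AlgSpOnePt
import Groth.Agent.S0573
import Groth.Agent.Lib.Helper18.NagFT12
import Groth.Agent.Lib.Helper14.FppfLocalInst

/-!
# Finiteness of the relative normalization over a Nagata base (helper14)
-/

universe u
open CategoryTheory CategoryTheory.Limits AlgebraicGeometry Opposite
open AlgSp

namespace Groth.Agent.Lib.Helper14.AS

variable {S : Scheme.{u}}

/-- Over a Nagata ring, the normalization ring of a reduced algebra of finite type is finite. -/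
theorem finite_normα_of_isNagata {A B B' : CommRingCat.{u}} (φ : A ⟶ B) (δ₀ δ₁ : B ⟶ B')
    (h0 : φ ≫ δ₀ = φ ≫ δ₁) (hA : CAlg.IsNagata A) [IsReduced B] (hft : φ.hom.FiniteType) :
    (normα φ δ₀ δ₁ h0).hom.Finite := by
  algebraize [φ.hom]
  have hfin : Module.Finite A (integralClosure A B) := Groth.Agent.S0573.result A hA B
  have : IsNoetherianRing A := hA.1
  have : IsNoetherian A (integralClosure A B) := isNoetherian_of_isNoetherianRing_of_finite A _
  let _ := (normα φ δ₀ δ₁ h0).hom.toAlgebra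
  show Module.Finite A (normRing φ δ₀ δ₁)
  let g : (normRing φ δ₀ δ₁) →ₗ[A] (integralClosure A B) :=
    { toFun := fun x => ⟨x.1, x.2.1⟩
      map_add' := fun x y => rfl
      map_smul' := fun a x => rfl }
  refine Module.Finite.of_injective g (fun x y h => Subtype.ext ?_)
  have := congrArg (fun z : integralClosure A B => (z : B)) h
  exact this

end Groth.Agent.Lib.Helper14.AS

namespace Groth.Agent.Lib.Helper14.AS

variable {S : Scheme.{u}}

set_option backward.isDefEq.respectTransparency.types false in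
/-- The normalization over an affine Nagata chart is finite. -/
theorem isFinite_of_isRelNormalization_of_isNagata {X Y Y' : Space S} (f : X ⟶ Y) (ν : Y' ⟶ Y)
    (f' : X ⟶ Y') (hqs : IsQuasiSeparatedMor f.hom) (hft : IsFiniteTypeMor f.hom)
    (hX : EtaleLocally (fun U => IsReduced U) X.obj)
    (hn : IsRelNormalization f.hom ν.hom f'.hom)
    {T N' : Over S} [IsAffine T.left] (hT : CAlg.IsNagata Γ(T.left, ⊤))
    (g : (yon S).obj T ⟶ Y.obj) (hg : RepWith @Etale g)
    (prN : (yon S).obj N' ⟶ Y'.obj) (n : N' ⟶ T) (sqN : IsPullback prN ((yon S).map n) ν.hom g) :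
    IsFinite n.left := by
  obtain ⟨hlft, hqc⟩ := hft
  have hgE : IsEtaleMor g := fun T' φ hφ => repWith_comp _ hφ hg
  have sq := IsPullback.of_hasPullback f.hom g
  have hXT : IsAlgSpace (pullback f.hom g) :=
    isAlgSpace_of_isPullback (repDiag_of_isAlgSpace Y.2) X.2 (IsAlgSpace.yon_obj T) sq
  let fT : pullback f.hom g ⟶ (yon S).obj T := pullback.snd f.hom g
  let f'T : pullback f.hom g ⟶ (yon S).obj N' := sqN.lift (pullback.fst f.hom g ≫ f'.hom) fT (by
    rw [Category.assoc, hn.1]; exact sq.w)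
  have c1 : f'T ≫ (yon S).map n = fT := sqN.lift_snd _ _ _
  have c2 : f'T ≫ prN = pullback.fst f.hom g ≫ f'.hom := sqN.lift_fst _ _ _
  have hnT : IsRelNormalization fT ((yon S).map n) f'T :=
    isRelNormalization_etale_baseChange_sp X.2 Y.2 Y'.2 (IsAlgSpace.yon_obj T) hXT
      (IsAlgSpace.yon_obj N') f.hom hqc hqs ν.hom f'.hom hn g hgE (pullback.fst f.hom g) fT sq
      prN ((yon S).map n) sqN f'T c1 c2
  have hqcT : IsQuasiCompactMor fT := isQuasiCompactMor_of_isPullback sq hqc
  have hlftT : LocP @LocallyOfFiniteType fT :=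
    locP_baseChange etLocal_lft X.2 Y.2 (IsAlgSpace.yon_obj T) f.hom g _ _ sq hlft
  obtain ⟨c⟩ := exists_nchart hXT fT hqcT
  have hW : IsAffine c.W.left := c.hW
  -- `W` is reduced
  have hfstE : RepWith @Etale (pullback.fst f.hom g) := repWith_of_isPullback _ sq.flip hg
  have hWred : IsReduced c.W.left :=
    isReduced_of_etale_chart hX (c.w ≫ pullback.fst f.hom g) (repWith_comp _ c.hw_et hfstE)
  -- `W ⟶ T` is of finite type
  have hφlft : LocallyOfFiniteType c.φ₀.left :=
    hlftT c.w (𝟙 _) c.φ₀ c.hw_et (repWith_id _ T) (by rw [c.hφ, Category.comp_id])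
  have hφft : c.φ.hom.FiniteType :=
    (HasRingHomProperty.iff_of_isAffine (P := @LocallyOfFiniteType)).1 hφlft
  have : _root_.IsReduced ↑Γ(c.W.left, ⊤) := inferInstance
  have hfin : (normα c.φ c.δ₀ c.δ₁ c.h0).hom.Finite :=
    finite_normα_of_isNagata c.φ c.δ₀ c.δ₁ c.h0 hT hφft
  have hρfin : IsFinite c.ρ.left := by
    change IsFinite (Spec.map (normα c.φ c.δ₀ c.δ₁ c.h0) ≫ T.left.isoSpec.inv)
    have : IsFinite (Spec.map (normα c.φ c.δ₀ c.δ₁ c.h0)) := (IsFinite.SpecMap_iff _).2 hfin
    infer_instance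
  -- uniqueness of the normalization
  obtain ⟨e, -, he⟩ := isRelNormalization_iso (IsAlgSpace.yon_obj N') (IsAlgSpace.yon_obj c.N) hnT
    (c.isRelNormalization hXT)
  obtain ⟨ε, hε⟩ := (yon S).map_surjective e.hom
  have hεn : ε ≫ c.ρ = n := (yon S).map_injective (by rw [Functor.map_comp, hε, he])
  have hεiso : IsIso ε := by
    have : IsIso ((yon S).map ε) := by rw [hε]; infer_instance
    exact isIso_of_fully_faithful (yon S) ε
  have : IsIso ε.left := inferInstanceAs (IsIso ((Over.forget S).map ε))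
  rw [← hεn]
  change IsFinite (ε.left ≫ c.ρ.left)
  infer_instance

end Groth.Agent.Lib.Helper14.AS

namespace Groth.Agent.Lib.Helper14.AS

variable {S : Scheme.{u}}

set_option backward.isDefEq.respectTransparency.types false in
/-- Over a Nagata atlas, the normalization is locally of finite type. -/
theorem locallyOfFiniteType_of_isRelNormalization_of_isNagata {X Y Y' : Space S} (f : X ⟶ Y)
    (ν : Y' ⟶ Y) (f' : X ⟶ Y') (hqs : IsQuasiSeparatedMor f.hom) (hft : IsFiniteTypeMor f.hom)
    (hX : EtaleLocally (fun U => IsReduced U) X.obj)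
    (hn : IsRelNormalization f.hom ν.hom f'.hom)
    {U N₀ : Over S} (hU : ∀ V : U.left.Opens, IsAffineOpen V → CAlg.IsNagata ↑Γ(U.left, V))
    (p : (yon S).obj U ⟶ Y.obj) (hp : RepWith @Etale p)
    (prN : (yon S).obj N₀ ⟶ Y'.obj) (n : N₀ ⟶ U) (sqU : IsPullback prN ((yon S).map n) ν.hom p) :
    LocallyOfFiniteType n.left := by
  refine IsZariskiLocalAtTarget.of_forall_exists_morphismRestrict (P := @LocallyOfFiniteType)
    fun x => ?_
  obtain ⟨V, hV, hxV, -⟩ := exists_isAffineOpen_mem_and_subset (x := x) (U := ⊤) trivial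
  refine ⟨V, hxV, ?_⟩
  have hVaff : IsAffine (openSub U V).left := hV
  let NV : Over S := Over.mk ((n.left ⁻¹ᵁ V).ι ≫ N₀.hom)
  let nV : NV ⟶ openSub U V := Over.homMk (n.left ∣_ V) (by
    change (n.left ∣_ V) ≫ V.ι ≫ U.hom = (n.left ⁻¹ᵁ V).ι ≫ N₀.hom
    rw [← Category.assoc, morphismRestrict_ι, Category.assoc, Over.w n])
  let ιN : NV ⟶ N₀ := Over.homMk (n.left ⁻¹ᵁ V).ι rfl
  have comm : ιN ≫ n = nV ≫ openSubι U V := by
    ext
    exact (morphismRestrict_ι n.left V).symm
  have sq1 : IsPullback ιN nV n (openSubι U V) :=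
    IsPullback.of_map (Over.forget S) comm (isPullback_morphismRestrict n.left V).flip
  have sq2 := (sq1.map (yon S)).paste_horiz sqU
  have hge : RepWith @Etale ((yon S).map (openSubι U V) ≫ p) :=
    repWith_comp _ (repWith_etale_openSubι U V) hp
  have hT : CAlg.IsNagata ↑Γ((openSub U V).left, ⊤) :=
    Groth.Agent.Lib.Helper18.Nag.isNagata_of_ringEquiv
      (V.topIso.symm.commRingCatIsoToRingEquiv) (hU V hV)
  have hfin : IsFinite nV.left :=
    isFinite_of_isRelNormalization_of_isNagata f ν f' hqs hft hX hn hT _ hge _ nV sq2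
  have : IsFinite (n.left ∣_ V) := hfin
  infer_instance

set_option backward.isDefEq.respectTransparency.types false in
/-- Over a Nagata algebraic space, the normalization in a reduced source of finite type is
finite. -/
theorem isFiniteMor_normalization_of_isNagata {X Y Y' : Space S} (f : X ⟶ Y)
    (hY : EtaleLocally (fun U => ∀ V : U.Opens, IsAffineOpen V → CAlg.IsNagata ↑Γ(U, V)) Y.obj)
    (hqs : IsQuasiSeparatedMor f.hom) (hft : IsFiniteTypeMor f.hom)
    (hX : EtaleLocally (fun U => IsReduced U) X.obj) (ν : Y' ⟶ Y) (f' : X ⟶ Y')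
    (hn : IsRelNormalization f.hom ν.hom f'.hom) : IsFiniteMor ν.hom := by
  obtain ⟨U, p, hpe, hps, hU⟩ := hY
  -- the normalization over the atlas
  have hνr : RepWith @IsIntegralHom ν.hom := (integral_finite_iff_repWith ν).1.1 hn.2.1
  have sqU := hνr.rep.isPullback p
  have hnlft : LocallyOfFiniteType (hνr.rep.snd p).left :=
    locallyOfFiniteType_of_isRelNormalization_of_isNagata f ν f' hqs hft hX hn hU p hpe _ _ sqU
  have hnr : RepWith @LocallyOfFiniteType ((yon S).map (hνr.rep.snd p)) :=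
    (repWith_yon_map_iff _ _).2 hnlft
  intro Z hZ g
  obtain ⟨W, i, fst, sq, hW, hi⟩ := hn.2.1 hZ g
  refine ⟨W, i, fst, sq, hW, ?_⟩
  have sqZ' := hpe.rep.isPullback' g
  have hsnde : Etale (hpe.rep.snd g).left := hpe.property_snd g
  have hsnds : Surjective (hpe.rep.snd g).left := hps.property _ _ _ sqZ'
  have sqW' := IsPullback.of_hasPullback i (hpe.rep.snd g)
  have big := (sqW'.map (yon S)).paste_horiz sq
  rw [← sqZ'.w] at big
  have hw' : ((yon S).map (pullback.fst i (hpe.rep.snd g)) ≫ fst) ≫ ν.hom =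
      ((yon S).map (pullback.snd i (hpe.rep.snd g)) ≫ (yon S).map (hpe.rep.fst' g)) ≫ p := by
    rw [big.w, Category.assoc]
  have key := IsPullback.of_right (h₁₁ := sqU.lift _ _ hw') (by simpa using big) (by simp) sqU
  have hlft' : LocallyOfFiniteType (pullback.snd i (hpe.rep.snd g)).left :=
    hnr.property _ _ _ key
  have sqS := sqW'.map (Over.forget S)
  have hi' : IsIntegralHom i.left := hi
  rw [IsFinite.iff_isIntegralHom_and_locallyOfFiniteType]
  refine ⟨hi', ?_⟩
  exact MorphismProperty.DescendsAlong.of_isPullback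
    (P := @LocallyOfFiniteType) (Q := @Surjective ⊓ @Flat ⊓ @LocallyOfFinitePresentation)
    sqS.flip ⟨⟨hsnds, (inferInstance : Flat (hpe.rep.snd g).left)⟩,
      (inferInstance : LocallyOfFinitePresentation (hpe.rep.snd g).left)⟩ hlft'

end Groth.Agent.Lib.Helper14.AS
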