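import Groth.Agent.S0601
import Groth.Agent.Lib.Helper18.SerreNormal

/-!
# A normal Noetherian local domain satisfies (S₂) at its closed point (helper14)
-/

universe u

namespace Groth.Agent.Lib.Helper14.AS

theorem min_two_le_depth_of_normal (R : Type u) [CommRing R] [IsLocalRing R] [IsNoetherianRing R]
    [IsDomain R] [IsIntegrallyClosed R] :
    min ((2 : ℕ) : WithBot ℕ∞) (ringKrullDim R) ≤
      ((LocCoh.depth R R : ℕ∞) : WithBot ℕ∞) := by
  have h := (Groth.Agent.S0601.result R).1 (fun p _ =>
    ⟨inferInstance, isIntegrallyClosed_of_isLocalization (Localization.AtPrime p) p.primeCompl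
      p.primeCompl_le_nonZeroDivisors⟩)
  have h2 := (Groth.Agent.Lib.Helper18.Serre.hasSk_self_iff 2).1 h.2
    (IsLocalRing.maximalIdeal R)
  rw [IsLocalRing.maximalIdeal_height_eq_ringKrullDim] at h2
  have hM : (IsLocalRing.maximalIdeal R).primeCompl ≤ IsUnit.submonoid R := by
    intro x hx
    have : x ∉ IsLocalRing.maximalIdeal R := hx
    rw [IsLocalRing.mem_maximalIdeal, mem_nonunits_iff, not_not] at this
    exact this
  let e : R ≃+* Localization.AtPrime (IsLocalRing.maximalIdeal R) :=
    (IsLocalization.atUnits R (IsLocalRing.maximalIdeal R).primeCompl hM).toRingEquiv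
  rw [← Groth.Agent.Lib.Helper18.Serre.depth_self_eq_of_ringEquiv e] at h2
  exact h2

end Groth.Agent.Lib.Helper14.AS
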