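import Mathlib
import Groth.Agent.Lib.Helper24.EtaleNormal

/-!
# Normality of local rings: a divisibility criterion, flat descent, etale ascent (helper14)
-/

set_option autoImplicit false
universe u
open Polynomial

namespace Groth.Agent.Lib.Helper14.Normal

/-- The divisibility form of integral closedness. -/
def DvdClosed (A : Type u) [CommRing A] : Prop :=
  ∀ (a b : A) (p : A[X]), b ≠ 0 → p.Monic → (p.scaleRoots b).eval a = 0 → b ∣ a

theorem dvdClosed_of_isIntegrallyClosed (A : Type u) [CommRing A] [IsDomain A]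
    [IsIntegrallyClosed A] : DvdClosed A := by
  intro a b p hb hp h0
  set K := FractionRing A
  set f := algebraMap A K
  have hinj : Function.Injective f := IsFractionRing.injective A K
  have hfb : f b ≠ 0 := fun h => hb (hinj (h.trans (map_zero f).symm))
  have h1 : eval₂ f (f b * (f a / f b)) (p.scaleRoots b) = f b ^ p.natDegree * eval₂ f (f a / f b) p :=
    scaleRoots_eval₂_mul f (f a / f b) b
  have h2 : f b * (f a / f b) = f a := mul_div_cancel₀ _ hfb
  rw [h2, eval₂_at_apply, h0, map_zero] at h1
  have h3 : eval₂ f (f a / f b) p = 0 := by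
    rcases mul_eq_zero.1 h1.symm with h | h
    · exact absurd (eq_zero_of_pow_eq_zero h) hfb
    · exact h
  have h4 : IsIntegral A (f a / f b) := ⟨p, hp, h3⟩
  obtain ⟨t, ht⟩ := (IsIntegrallyClosed.isIntegral_iff (R := A) (K := K)).mp h4
  refine ⟨t, hinj ?_⟩
  rw [map_mul]
  change f a = f b * f t
  change f t = f a / f b at ht
  rw [ht, h2]

theorem isIntegrallyClosed_of_dvdClosed (A : Type u) [CommRing A] [IsDomain A]
    (h : DvdClosed A) : IsIntegrallyClosed A := by
  set K := FractionRing A
  set f := algebraMap A K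
  have hinj : Function.Injective f := IsFractionRing.injective A K
  rw [isIntegrallyClosed_iff K]
  intro x hx
  obtain ⟨a, b, hb, hab⟩ := IsFractionRing.div_surjective (A := A) x
  obtain ⟨p, hp, hpx⟩ := hx
  have hb0 : b ≠ 0 := nonZeroDivisors.ne_zero hb
  have hfb : f b ≠ 0 := fun h => hb0 (hinj (h.trans (map_zero f).symm))
  have h1 : eval₂ f (f b * (f a / f b)) (p.scaleRoots b) = f b ^ p.natDegree * eval₂ f (f a / f b) p :=
    scaleRoots_eval₂_mul f (f a / f b) b
  have h2 : f b * (f a / f b) = f a := mul_div_cancel₀ _ hfb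
  change f a / f b = x at hab
  rw [h2, eval₂_at_apply, hab, hpx, mul_zero] at h1
  have h3 : eval a (p.scaleRoots b) = 0 := hinj (h1.trans (map_zero f).symm)
  obtain ⟨t, ht⟩ := h a b p hb0 hp h3
  refine ⟨t, ?_⟩
  change f t = x
  rw [← hab, ht, map_mul, mul_div_cancel_left₀ _ hfb]

/-- Flat descent of normality along a local homomorphism of local rings. -/
theorem normal_of_flat_local {A B : Type u} [CommRing A] [CommRing B] [IsDomain B]
    [IsIntegrallyClosed B] [IsLocalRing A] [IsLocalRing B] (φ : A →+* B) [IsLocalHom φ]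
    (hflat : φ.Flat) : IsDomain A ∧ IsIntegrallyClosed A := by
  algebraize [φ]
  have hloc : IsLocalHom (algebraMap A B) := ‹IsLocalHom φ›
  have hff : Module.FaithfullyFlat A B := Module.FaithfullyFlat.of_flat_of_isLocalHom
  have hinj : Function.Injective φ := FaithfulSMul.algebraMap_injective A B
  have hdom : IsDomain A := hinj.isDomain φ
  refine ⟨hdom, isIntegrallyClosed_of_dvdClosed A ?_⟩
  intro a b p hb hp h0
  have hB := dvdClosed_of_isIntegrallyClosed B
  have hφb : φ b ≠ 0 := fun h => hb (hinj (h.trans (map_zero φ).symm))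
  have h1 : ((p.map φ).scaleRoots (φ b)).eval (φ a) = 0 := by
    rw [← map_scaleRoots p b φ (by rw [hp.leadingCoeff, map_one]; exact one_ne_zero),
      eval_map, eval₂_at_apply, h0, map_zero]
  obtain ⟨t, ht⟩ := hB (φ a) (φ b) (p.map φ) hφb (hp.map φ) h1
  have h2 : algebraMap A B a ∈ (Ideal.span {b}).map (algebraMap A B) := by
    rw [Ideal.map_span, Set.image_singleton, Ideal.mem_span_singleton']
    exact ⟨t, by rw [mul_comm]; exact ht.symm⟩
  have h3 : a ∈ ((Ideal.span {b}).map (algebraMap A B)).comap (algebraMap A B) := h2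
  rw [Ideal.comap_map_eq_self_of_faithfullyFlat] at h3
  obtain ⟨a', ha'⟩ := Ideal.mem_span_singleton'.1 h3
  exact ⟨a', by rw [← ha', mul_comm]⟩

end Groth.Agent.Lib.Helper14.Normal
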