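import Mathlib
import Groth.Agent.Lib.Helper24.EtaleNormal

set_option autoImplicit false
universe u
open Polynomial TensorProduct

namespace Groth.Agent.Lib.Helper14.Normal
open Groth.Agent.Lib.Helper24

/-- Etale ascent of normality of local rings. -/
theorem normal_localization_of_etale (A B : Type u) [CommRing A] [CommRing B] [Algebra A B]
    [Algebra.Etale A B] (q : Ideal B) [q.IsPrime] (Ap : Type u) [CommRing Ap] [Algebra A Ap]
    [IsLocalization.AtPrime Ap (q.comap (algebraMap A B))] [IsDomain Ap] [IsIntegrallyClosed Ap]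
    (T : Type u) [CommRing T] [Algebra B T] [IsLocalization.AtPrime T q] :
    IsDomain T ∧ IsIntegrallyClosed T := by
  set p := q.comap (algebraMap A B) with hp
  let _ : Algebra B (Ap ⊗[A] B) := Algebra.TensorProduct.rightAlgebra
  have hloc : IsLocalization (Algebra.algebraMapSubmonoid B p.primeCompl) (Ap ⊗[A] B) :=
    IsLocalization.tensorRight Ap p.primeCompl
  set M := Algebra.algebraMapSubmonoid B p.primeCompl with hM
  have hd : Disjoint (M : Set B) q := by
    rw [Set.disjoint_left]
    rintro _ ⟨a, ha, rfl⟩ hq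
    exact ha hq
  have hP : (q.map (algebraMap B (Ap ⊗[A] B))).IsPrime :=
    IsLocalization.isPrime_of_isPrime_disjoint M (Ap ⊗[A] B) q inferInstance hd
  have hPq : (q.map (algebraMap B (Ap ⊗[A] B))).under B = q :=
    IsLocalization.under_map_of_isPrime_disjoint M (Ap ⊗[A] B) inferInstance hd
  set P := q.map (algebraMap B (Ap ⊗[A] B)) with hPdef
  obtain ⟨h1, h2⟩ := ENorm.isDomain_and_isIntegrallyClosed_localization_of_etale Ap (Ap ⊗[A] B) P
  have h3 : IsLocalization.AtPrime (Localization.AtPrime P) (P.comap (algebraMap B (Ap ⊗[A] B))) :=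
    IsLocalization.isLocalization_isLocalization_atPrime_isLocalization M
      (Localization.AtPrime P) P
  have h4 : P.comap (algebraMap B (Ap ⊗[A] B)) = q := hPq
  have h6 : (P.comap (algebraMap B (Ap ⊗[A] B))).primeCompl = q.primeCompl := by
    ext x
    change x ∉ _ ↔ x ∉ _
    rw [h4]
  have h5 : IsLocalization q.primeCompl (Localization.AtPrime P) := by
    have h7 : IsLocalization (P.comap (algebraMap B (Ap ⊗[A] B))).primeCompl
        (Localization.AtPrime P) := h3
    rw [h6] at h7
    exact h7
  let eq : Localization.AtPrime P ≃ₐ[B] T := IsLocalization.algEquiv q.primeCompl _ _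
  exact ⟨eq.toRingEquiv.toMulEquiv.isDomain_iff.mp h1, .of_equiv eq.toRingEquiv⟩

end Groth.Agent.Lib.Helper14.Normal
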