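import Groth.Agent.Lib.Helper14.Normal1
import Groth.Agent.Lib.Helper14.Normal2

set_option autoImplicit false
universe u
open CategoryTheory AlgebraicGeometry

namespace Groth.Agent.Lib.Helper14.Normal

/-- Etale ascent of normality of stalks. -/
theorem stalk_normal_of_etale {X Y : Scheme.{u}} (f : Y ⟶ X) [Etale f] (y : Y)
    (h : IsDomain (X.presheaf.stalk (f y)) ∧ IsIntegrallyClosed (X.presheaf.stalk (f y))) :
    IsDomain (Y.presheaf.stalk y) ∧ IsIntegrallyClosed (Y.presheaf.stalk y) := by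
  obtain ⟨_, ⟨U, hU : IsAffineOpen U, rfl⟩, hfy, -⟩ :=
    X.isBasis_affineOpens.exists_subset_of_mem_open (Set.mem_univ (f y)) isOpen_univ
  obtain ⟨_, ⟨V, hV : IsAffineOpen V, rfl⟩, hyV, hVU⟩ :=
    Y.isBasis_affineOpens.exists_subset_of_mem_open (show y ∈ (f ⁻¹ᵁ U : Set Y) from hfy)
      (f ⁻¹ᵁ U).isOpen
  have e : V ≤ f ⁻¹ᵁ U := hVU
  let _ : Algebra Γ(X, U) Γ(Y, V) := (f.appLE U V e).hom.toAlgebra
  have : Algebra.Etale Γ(X, U) Γ(Y, V) := Etale.etale_appLE f hU hV e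
  set q := (hV.primeIdealOf ⟨y, hyV⟩).asIdeal with hq
  let _ : Algebra Γ(Y, V) (Y.presheaf.stalk y) :=
    TopCat.Presheaf.algebra_section_stalk Y.presheaf ⟨y, hyV⟩
  have hloc : IsLocalization.AtPrime (Y.presheaf.stalk y) q := hV.isLocalization_stalk ⟨y, hyV⟩
  let _ : Algebra Γ(X, U) (X.presheaf.stalk (f y)) :=
    TopCat.Presheaf.algebra_section_stalk X.presheaf ⟨f y, hfy⟩
  have hloc' : IsLocalization.AtPrime (X.presheaf.stalk (f y))
      (hU.primeIdealOf ⟨f y, hfy⟩).asIdeal := hU.isLocalization_stalk ⟨f y, hfy⟩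
  have hcomap : q.comap (algebraMap Γ(X, U) Γ(Y, V)) = (hU.primeIdealOf ⟨f y, hfy⟩).asIdeal :=
    congr($(IsAffineOpen.comap_primeIdealOf_appLE U hU V hV e hyV).1)
  have hloc'' : IsLocalization.AtPrime (X.presheaf.stalk (f y))
      (q.comap (algebraMap Γ(X, U) Γ(Y, V))) := by
    have h6 : (q.comap (algebraMap Γ(X, U) Γ(Y, V))).primeCompl =
        (hU.primeIdealOf ⟨f y, hfy⟩).asIdeal.primeCompl := by
      ext x
      change x ∉ _ ↔ x ∉ _
      rw [hcomap]
    have h7 : IsLocalization (hU.primeIdealOf ⟨f y, hfy⟩).asIdeal.primeCompl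
        (X.presheaf.stalk (f y)) := hloc'
    rw [← h6] at h7
    exact h7
  have := h.1
  have := h.2
  exact normal_localization_of_etale Γ(X, U) Γ(Y, V) q (X.presheaf.stalk (f y))
    (Y.presheaf.stalk y)

/-- Flat descent of normality of stalks. -/
theorem stalk_normal_of_flat {X Y : Scheme.{u}} (f : Y ⟶ X) [Flat f] (y : Y)
    (h : IsDomain (Y.presheaf.stalk y) ∧ IsIntegrallyClosed (Y.presheaf.stalk y)) :
    IsDomain (X.presheaf.stalk (f y)) ∧ IsIntegrallyClosed (X.presheaf.stalk (f y)) := by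
  have := h.1
  have := h.2
  have hflat := Flat.stalkMap f y
  exact normal_of_flat_local (f.stalkMap y).hom hflat

end Groth.Agent.Lib.Helper14.Normal
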