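import Groth.Agent.Lib.Helper14.Normal3
import Groth.Agent.Lib.Helper14.GSect1

set_option autoImplicit false
universe u
open CategoryTheory CategoryTheory.Limits AlgebraicGeometry Opposite

namespace Groth.Agent.Lib.Helper14.AS
open AlgSp Groth.Agent.Lib.Helper14.Normal

variable {S : Scheme.{u}}

/-- Normality of stalks of etale charts does not depend on the chart. -/
theorem stalks_normal_of_etale_chart {Z : Sp S}
    (hn : EtaleLocally (fun U => ∀ u : ↥U, IsDomain ↥(U.presheaf.stalk u) ∧
      IsIntegrallyClosed ↥(U.presheaf.stalk u)) Z)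
    {V : Over S} (b : (yon S).obj V ⟶ Z) (hb : RepWith @Etale b) (v : ↥V.left) :
    IsDomain (V.left.presheaf.stalk v) ∧ IsIntegrallyClosed (V.left.presheaf.stalk v) := by
  obtain ⟨V₁, b₁, hb₁e, hb₁s, hV₁⟩ := hn
  have sq := hb₁e.rep.isPullback' b
  have hsnd : Etale (hb₁e.rep.snd b).left := hb₁e.property_snd b
  have hsnds : Surjective (hb₁e.rep.snd b).left := hb₁s.property _ _ _ sq
  have hfst : Etale (hb₁e.rep.fst' b).left := by
    have : RepWith @Etale ((yon S).map (hb₁e.rep.fst' b)) :=
      repWith_of_isPullback _ sq.flip hb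
    exact (repWith_yon_map_iff _ _).1 this
  obtain ⟨w, rfl⟩ := hsnds.surj v
  have h1 := stalk_normal_of_etale (hb₁e.rep.fst' b).left w (hV₁ _)
  exact stalk_normal_of_flat (hb₁e.rep.snd b).left w h1

end Groth.Agent.Lib.Helper14.AS
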