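import Groth.Agent.Lib.Helper14.Normal1

set_option autoImplicit false
universe u
open CategoryTheory AlgebraicGeometry Opposite TopologicalSpace Polynomial

namespace Groth.Agent.Lib.Helper14.Normal

/-- restriction from the whole scheme -/
noncomputable abbrev resTop (Y : Scheme.{u}) (U : Y.Opens) : Γ(Y, ⊤) →+* Γ(Y, U) :=
  (Y.presheaf.map (homOfLE (le_top : U ≤ ⊤)).op).hom

theorem germ_resTop (Y : Scheme.{u}) (U : Y.Opens) (x : Y) (hx : x ∈ U) (s : Γ(Y, ⊤)) :
    (Y.presheaf.germ U x hx).hom (resTop Y U s) = (Y.presheaf.germ ⊤ x trivial).hom s :=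
  TopCat.Presheaf.germ_res_apply Y.presheaf (homOfLE (le_top : U ≤ ⊤)) x hx s

theorem section_mul_left_cancel {Y : Scheme.{u}} (hY : ∀ y : Y, IsDomain (Y.presheaf.stalk y))
    (β : Γ(Y, ⊤)) (hβ : ∀ y : Y, (Y.presheaf.germ ⊤ y trivial).hom β ≠ 0) (U : Y.Opens)
    (t t' : Γ(Y, U)) (h : resTop Y U β * t = resTop Y U β * t') : t = t' := by
  refine TopCat.Presheaf.section_ext Y.sheaf U t t' (fun x hx => ?_)
  have := hY x
  have h1 := congrArg (Y.presheaf.germ U x hx).hom h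
  rw [map_mul, map_mul, germ_resTop] at h1
  change (Y.presheaf.germ U x hx).hom t = (Y.presheaf.germ U x hx).hom t'
  exact mul_left_cancel₀ (hβ x) h1

theorem exists_local_dvd {Y : Scheme.{u}}
    (hY : ∀ y : Y, IsDomain (Y.presheaf.stalk y) ∧ IsIntegrallyClosed (Y.presheaf.stalk y))
    (α β : Γ(Y, ⊤)) (hβ : ∀ y : Y, (Y.presheaf.germ ⊤ y trivial).hom β ≠ 0)
    (p : Polynomial Γ(Y, ⊤)) (hp : p.Monic) (h0 : (p.scaleRoots β).eval α = 0) (y : Y) :
    ∃ (W : Y.Opens) (_ : y ∈ W) (s : Γ(Y, W)), resTop Y W β * s = resTop Y W α := by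
  have := (hY y).1
  have := (hY y).2
  set g := (Y.presheaf.germ ⊤ y trivial).hom with hg
  have h1 : ((p.map g).scaleRoots (g β)).eval (g α) = 0 := by
    rw [← map_scaleRoots p β g (by rw [hp.leadingCoeff, map_one]; exact one_ne_zero),
      Polynomial.eval_map, Polynomial.eval₂_at_apply, h0, map_zero]
  obtain ⟨t, ht⟩ := dvdClosed_of_isIntegrallyClosed (Y.presheaf.stalk y) (g α) (g β) (p.map g)
    (hβ y) (hp.map g) h1
  obtain ⟨W, hyW, s, hs⟩ := Y.presheaf.exists_germ_eq t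
  have h2 : (Y.presheaf.germ W y hyW) (resTop Y W β * s) =
      (Y.presheaf.germ W y hyW) (resTop Y W α) := by
    change (Y.presheaf.germ W y hyW).hom (resTop Y W β * s) =
      (Y.presheaf.germ W y hyW).hom (resTop Y W α)
    rw [map_mul, germ_resTop, germ_resTop]
    change g β * (Y.presheaf.germ W y hyW) s = g α
    rw [hs, ht]
  obtain ⟨W', hyW', i1, i2, h3⟩ := Y.presheaf.germ_eq y hyW hyW _ _ h2
  refine ⟨W', hyW', (Y.presheaf.map i1.op).hom s, ?_⟩
  have h4 : (Y.presheaf.map i1.op).hom (resTop Y W β * s) =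
      (Y.presheaf.map i2.op).hom (resTop Y W α) := h3
  rw [map_mul] at h4
  have h5 : ∀ (i : W' ⟶ W) (r : Γ(Y, ⊤)),
      (Y.presheaf.map i.op).hom (resTop Y W r) = resTop Y W' r := by
    intro i r
    change (Y.presheaf.map (homOfLE (le_top : W ≤ ⊤)).op ≫ Y.presheaf.map i.op).hom r = _
    rw [← Functor.map_comp]
    rfl
  rw [h5, h5] at h4
  exact h4

theorem map_resTop (Y : Scheme.{u}) {W W' : Y.Opens} (i : W' ⟶ W) (r : Γ(Y, ⊤)) :
    (Y.presheaf.map i.op).hom (resTop Y W r) = resTop Y W' r := by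
  change (Y.presheaf.map (homOfLE (le_top : W ≤ ⊤)).op ≫ Y.presheaf.map i.op).hom r = _
  rw [← Functor.map_comp]
  rfl

/-- On a scheme with normal local rings, integral "fractions" with everywhere nonzero denominator
are global functions. -/
theorem exists_dvd_section {Y : Scheme.{u}}
    (hY : ∀ y : Y, IsDomain (Y.presheaf.stalk y) ∧ IsIntegrallyClosed (Y.presheaf.stalk y))
    (α β : Γ(Y, ⊤)) (hβ : ∀ y : Y, (Y.presheaf.germ ⊤ y trivial).hom β ≠ 0)
    (p : Polynomial Γ(Y, ⊤)) (hp : p.Monic) (h0 : (p.scaleRoots β).eval α = 0) :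
    ∃ t : Γ(Y, ⊤), β * t = α := by
  choose W hyW s hs using exists_local_dvd hY α β hβ p hp h0
  have hcompat : TopCat.Presheaf.IsCompatible Y.presheaf W s := by
    intro i j
    apply section_mul_left_cancel (fun y => (hY y).1) β hβ (W i ⊓ W j)
    have e1 := congrArg (Y.presheaf.map (Opens.infLELeft (W i) (W j)).op).hom (hs i)
    have e2 := congrArg (Y.presheaf.map (Opens.infLERight (W i) (W j)).op).hom (hs j)
    rw [map_mul, map_resTop, map_resTop] at e1 e2
    exact e1.trans e2.symm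
  obtain ⟨t', ht', -⟩ := Y.sheaf.existsUnique_gluing' W ⊤ (fun i => homOfLE le_top)
    (fun y _ => Opens.mem_iSup.2 ⟨y, hyW y⟩) s hcompat
  obtain ⟨t, ht⟩ : ∃ t : Γ(Y, ⊤), ∀ i, resTop Y (W i) t = s i := ⟨t', ht'⟩
  refine ⟨t, ?_⟩
  refine TopCat.Presheaf.section_ext Y.sheaf ⊤ (β * t) α (fun x hx => ?_)
  change (Y.presheaf.germ ⊤ x hx).hom (β * t) = (Y.presheaf.germ ⊤ x hx).hom α
  rw [map_mul, ← germ_resTop Y (W x) x (hyW x) t, ← germ_resTop Y (W x) x (hyW x) β,
    ← germ_resTop Y (W x) x (hyW x) α, ← map_mul]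
  congr 1
  have : resTop Y (W x) t = s x := ht x
  rw [this, hs x]

end Groth.Agent.Lib.Helper14.Normal
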