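import Groth.Agent.Lib.Helper14.Normal4
import Groth.Agent.Lib.Helper14.Normal5
import Groth.Agent.Lib.Helper14.GSectHom

set_option autoImplicit false
universe u
open CategoryTheory CategoryTheory.Limits AlgebraicGeometry Opposite

namespace Groth.Agent.Lib.Helper14.AS
open AlgSp Groth.Agent.Lib.Helper14.Normal

variable {S : Scheme.{u}} {X : Sp S}

theorem ofPt_mem_gD_iff (b : ↥(gsectEt (OEt X))) (E : EtOver X) (v : ↥E.obj.left.left) :
    Points.ofPt E.obj.hom v ∈ gD b ↔ v ∈ E.obj.left.left.basicOpen (gres b E) := by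
  constructor
  · rintro ⟨E', e', h1, h2⟩
    have sq := E'.property.1.isPullback' E.obj.hom
    obtain ⟨w, hw2, hw1⟩ := exists_point_of_isPullback_yon sq e' v h1
    have e1 := (mem_basicOpen_gres_iff b (EtOver.prodFst E E') w)
    have e2 := (mem_basicOpen_gres_iff b (EtOver.prodSnd E E') w)
    have e3 : (EtOver.prodFst E E').hom.left.left w = v := hw1
    have e4 : (EtOver.prodSnd E E').hom.left.left w = e' := hw2
    rw [e3] at e1
    rw [e4] at e2
    exact e1.1 (e2.2 h2)
  · intro h
    exact ⟨E, v, rfl, h⟩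

theorem germ_gres_ne_zero (hred : EtaleLocally (fun U => IsReduced U) X)
    (hirr : IrreducibleSpace (Points X)) (b : ↥(gsectEt (OEt X))) (hb : b ≠ 0) (E : EtOver X)
    (e : ↥E.obj.left.left) :
    (E.obj.left.left.presheaf.germ ⊤ e trivial).hom (gres b E) ≠ 0 := by
  intro h0
  have h1 : (E.obj.left.left.presheaf.germ ⊤ e trivial) (gres b E) =
      (E.obj.left.left.presheaf.germ ⊤ e trivial) 0 := by
    rw [map_zero]
    exact h0
  obtain ⟨W, heW, i1, i2, h2⟩ := E.obj.left.left.presheaf.germ_eq (U := ⊤) (V := ⊤) e trivial trivial _ _ h1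
  rw [map_zero] at h2
  have h3 : W ⊓ E.obj.left.left.basicOpen (gres b E) = ⊥ := by
    rw [← Scheme.basicOpen_res _ _ i1.op, h2, Scheme.basicOpen_zero]
  have hne : (gD b).Nonempty := by
    rw [Set.nonempty_iff_ne_empty]
    exact fun h => hb (eq_zero_of_gD_eq_empty hred b h)
  have hop : IsOpen (Points.ofPt E.obj.hom '' (W : Set ↥E.obj.left.left)) :=
    isOpenMap_ofPt E.obj.hom E.property _ W.2
  have hne2 : (Points.ofPt E.obj.hom '' (W : Set ↥E.obj.left.left)).Nonempty :=
    ⟨_, e, heW, rfl⟩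
  obtain ⟨x, ⟨v, hvW, rfl⟩, hx⟩ := nonempty_preirreducible_inter hop (isOpen_gD b) hne2 hne
  have h4 : v ∈ W ⊓ E.obj.left.left.basicOpen (gres b E) :=
    ⟨hvW, (ofPt_mem_gD_iff b E v).1 hx⟩
  rw [h3] at h4
  exact h4

end Groth.Agent.Lib.Helper14.AS

namespace Groth.Agent.Lib.Helper14.AS
open AlgSp Groth.Agent.Lib.Helper14.Normal

variable {S : Scheme.{u}} {X : Sp S}

theorem section_mul_left_cancel_top {Y : Scheme.{u}}
    (hY : ∀ y : Y, IsDomain (Y.presheaf.stalk y))
    (β : Γ(Y, ⊤)) (hβ : ∀ y : Y, (Y.presheaf.germ ⊤ y trivial).hom β ≠ 0)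
    (t t' : Γ(Y, ⊤)) (h : β * t = β * t') : t = t' := by
  refine TopCat.Presheaf.section_ext Y.sheaf ⊤ t t' (fun x hx => ?_)
  have := hY x
  have h1 := congrArg (Y.presheaf.germ ⊤ x hx).hom h
  rw [map_mul, map_mul] at h1
  change (Y.presheaf.germ ⊤ x hx).hom t = (Y.presheaf.germ ⊤ x hx).hom t'
  exact mul_left_cancel₀ (hβ x) h1

set_option maxHeartbeats 800000 in
/-- Global functions of a normal integral algebraic space form an integrally closed ring. -/
theorem isIntegrallyClosed_gsect (hX : IsAlgSpace X)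
    (hred : EtaleLocally (fun U => IsReduced U) X) (hirr : IrreducibleSpace (Points X))
    (hn : EtaleLocally (fun U => ∀ u : ↥U, IsDomain ↥(U.presheaf.stalk u) ∧
      IsIntegrallyClosed ↥(U.presheaf.stalk u)) X) :
    IsIntegrallyClosed ↥(gsectEt (OEt X)) := by
  have hdom : IsDomain ↥(gsectEt (OEt X)) := isDomain_gsect hX hred hirr
  apply isIntegrallyClosed_of_dvdClosed
  intro a b p hb hp h0
  have hY : ∀ (E : EtOver X) (y : ↥E.obj.left.left),
      IsDomain (E.obj.left.left.presheaf.stalk y) ∧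
        IsIntegrallyClosed (E.obj.left.left.presheaf.stalk y) :=
    fun E y => stalks_normal_of_etale_chart hn E.obj.hom E.property y
  have key : ∀ E : EtOver X, ∃ t : Γ(E.obj.left.left, ⊤), gres b E * t = gres a E := by
    intro E
    have h1 : ((p.map (gresHom E)).scaleRoots (gresHom E b)).eval (gresHom E a) = 0 := by
      rcases subsingleton_or_nontrivial Γ(E.obj.left.left, ⊤) with hs | hnt
      · exact Subsingleton.elim _ _
      · rw [← Polynomial.map_scaleRoots p b (gresHom E)
          (by rw [hp.leadingCoeff, map_one]; exact one_ne_zero),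
          Polynomial.eval_map, Polynomial.eval₂_at_apply, h0, map_zero]
    exact exists_dvd_section (hY E) (gres a E) (gres b E) (germ_gres_ne_zero hred hirr b hb E)
      (p.map (gresHom E)) (hp.map _) h1
  choose t ht using key
  have hcompat : ∀ {E E' : EtOver X} (φ : E ⟶ E'), φ.hom.left.left.appTop.hom (t E') = t E := by
    intro E E' φ
    apply section_mul_left_cancel_top (fun y => (hY E y).1) (gres b E)
      (germ_gres_ne_zero hred hirr b hb E)
    rw [ht E, ← gres_map b φ, ← map_mul, ht E', gres_map]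
  have hl := isLimitOfPreserves (forget CommRingCat.{u + 1}) (limit.isLimit (OEt X).obj)
  let sec : ((OEt X).obj ⋙ forget CommRingCat.{u + 1}).sections :=
    ⟨fun j => (ULift.up (t j.unop) : ULift.{u + 1} Γ(j.unop.obj.left.left, ⊤)), by
      intro j j' f
      have := hcompat f.unop
      exact ULift.ext _ _ this⟩
  let τ : ↥(gsectEt (OEt X)) := (Types.isLimitEquivSections hl).symm sec
  have hτ : ∀ E, gres τ E = t E := fun E =>
    congrArg ULift.down (Types.isLimitEquivSections_symm_apply hl sec (op E))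
  refine ⟨τ, ?_⟩
  apply gsect_ext'
  intro E
  rw [gres_mul, hτ, ht]

end Groth.Agent.Lib.Helper14.AS
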