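import Groth.Agent.Lib.Helper14.Normal5

/-!
# Normality descends along `f` with `f_* O = O` from a locally Noetherian normal scheme (helper14)
-/

set_option autoImplicit false
universe u
open CategoryTheory AlgebraicGeometry Opposite TopologicalSpace Polynomial

namespace Groth.Agent.Lib.Helper14.Normal

/-- In a Noetherian ring the kernel of a localization map is killed by one element of the
submonoid. -/
theorem exists_mem_forall_mul_eq_zero {C : Type*} [CommRing C] [IsNoetherianRing C]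
    (M : Submonoid C) (L : Type*) [CommRing L] [Algebra C L] [IsLocalization M L] :
    ∃ g ∈ M, ∀ x : C, algebraMap C L x = 0 → g * x = 0 := by
  classical
  obtain ⟨s, hs⟩ := (isNoetherianRing_iff_ideal_fg C).mp ‹_› (RingHom.ker (algebraMap C L))
  have h1 : ∀ x ∈ s, ∃ m : M, (m : C) * x = 0 := by
    intro x hx
    have : x ∈ RingHom.ker (algebraMap C L) := hs ▸ Ideal.subset_span hx
    exact (IsLocalization.map_eq_zero_iff M L x).mp this
  choose! m hm using h1
  refine ⟨∏ x ∈ s, (m x : C), Submonoid.prod_mem _ (fun x _ => (m x).2), ?_⟩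
  intro x hx
  have hx' : x ∈ Ideal.span (s : Set C) := by
    rw [hs]
    exact hx
  refine Submodule.span_induction (p := fun x _ => (∏ x ∈ s, (m x : C)) * x = 0) ?_ ?_ ?_ ?_ hx'
  · intro y hy
    rw [← Finset.prod_erase_mul s _ hy, mul_assoc, hm y hy, mul_zero]
  · exact mul_zero _
  · intro a b _ _ ha hb
    rw [mul_add, ha, hb, add_zero]
  · intro c a _ ha
    rw [smul_eq_mul, mul_left_comm, ha, mul_zero]

variable {Y : Scheme.{u}}

/-- restriction of sections -/
noncomputable abbrev res {W D : Y.Opens} (h : D ≤ W) : Γ(Y, W) →+* Γ(Y, D) :=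
  (Y.presheaf.map (homOfLE h).op).hom

theorem germ_res {W D : Y.Opens} (h : D ≤ W) (x : Y) (hx : x ∈ D) (s : Γ(Y, W)) :
    (Y.presheaf.germ D x hx).hom (res h s) = (Y.presheaf.germ W x (h hx)).hom s :=
  TopCat.Presheaf.germ_res_apply Y.presheaf (homOfLE h) x hx s

theorem res_res {W D D' : Y.Opens} (h : D ≤ W) (h' : D' ≤ D) (s : Γ(Y, W)) :
    res h' (res h s) = res (h'.trans h) s := by
  change (Y.presheaf.map (homOfLE h).op ≫ Y.presheaf.map (homOfLE h').op).hom s = _
  rw [← Functor.map_comp]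
  rfl

theorem germ_injective_of_isDomain {D : Y.Opens} (hD : IsAffineOpen D) [IsDomain Γ(Y, D)]
    (y : Y) (hy : y ∈ D) : Function.Injective (Y.presheaf.germ D y hy).hom := by
  let _ := TopCat.Presheaf.algebra_section_stalk Y.presheaf (⟨y, hy⟩ : D)
  have h1 := hD.isLocalization_stalk ⟨y, hy⟩
  exact IsLocalization.injective (M := (hD.primeIdealOf ⟨y, hy⟩).asIdeal.primeCompl)
    (Y.presheaf.stalk y) (Ideal.primeCompl_le_nonZeroDivisors _)

/-- a point of a locally Noetherian scheme whose local ring is a domain has a basis of affine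
neighbourhoods whose rings of sections are domains -/
theorem exists_affine_domain_nhd [IsLocallyNoetherian Y] (y : Y)
    (hdom : IsDomain (Y.presheaf.stalk y)) (W : Y.Opens) (hy : y ∈ W) :
    ∃ D : Y.Opens, IsAffineOpen D ∧ y ∈ D ∧ D ≤ W ∧ IsDomain Γ(Y, D) := by
  obtain ⟨D₀, hD₀, hy₀, hD₀W⟩ := Opens.isBasis_iff_nbhd.mp Y.isBasis_affineOpens hy
  have hD₀ : IsAffineOpen D₀ := hD₀
  let _ := TopCat.Presheaf.algebra_section_stalk Y.presheaf (⟨y, hy₀⟩ : D₀)
  have hN : IsNoetherianRing Γ(Y, D₀) := IsLocallyNoetherian.component_noetherian ⟨D₀, hD₀⟩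
  have hloc := hD₀.isLocalization_stalk ⟨y, hy₀⟩
  obtain ⟨g, hg, hker⟩ := exists_mem_forall_mul_eq_zero
    (hD₀.primeIdealOf ⟨y, hy₀⟩).asIdeal.primeCompl (Y.presheaf.stalk y)
  have hgu : IsUnit ((Y.presheaf.germ D₀ y hy₀).hom g) :=
    IsLocalization.map_units (M := (hD₀.primeIdealOf ⟨y, hy₀⟩).asIdeal.primeCompl)
      (Y.presheaf.stalk y) ⟨g, hg⟩
  have hyD : y ∈ Y.basicOpen g := (Y.mem_basicOpen g y hy₀).mpr hgu
  refine ⟨Y.basicOpen g, hD₀.basicOpen g, hyD, (Y.basicOpen_le g).trans hD₀W, ?_⟩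
  have haw := hD₀.isLocalization_basicOpen g
  have hinj : Function.Injective (Y.presheaf.germ (Y.basicOpen g) y hyD).hom := by
    rw [injective_iff_map_eq_zero]
    intro s hs
    obtain ⟨n, x, hx⟩ := IsLocalization.Away.surj g s
    have hx' : s * (res (Y.basicOpen_le g) g) ^ n = res (Y.basicOpen_le g) x := hx
    have h2 : (Y.presheaf.germ D₀ y hy₀).hom x = 0 := by
      rw [← germ_res (Y.basicOpen_le g) y hyD x, ← hx', map_mul, hs, zero_mul]
    have h3 : g * x = 0 := hker x h2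
    have h4 : res (Y.basicOpen_le g) g * (s * (res (Y.basicOpen_le g) g) ^ n) = 0 := by
      rw [hx', ← map_mul, h3, map_zero]
    have hu : IsUnit (res (Y.basicOpen_le g) g) := RingedSpace.isUnit_res_basicOpen _ g
    rw [← mul_assoc, mul_comm _ s, mul_assoc, ← pow_succ'] at h4
    exact (hu.pow (n + 1)).mul_left_eq_zero.mp h4
  exact hinj.isDomain _

theorem map_scaleRoots_eval {A B : Type*} [CommRing A] [CommRing B] [Nontrivial B] (g : A →+* B)
    (p : A[X]) (hp : p.Monic) (a b : A) (h0 : (p.scaleRoots b).eval a = 0) :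
    ((p.map g).scaleRoots (g b)).eval (g a) = 0 := by
  rw [← map_scaleRoots p b g (by rw [hp.leadingCoeff, map_one]; exact one_ne_zero),
    Polynomial.eval_map, Polynomial.eval₂_at_apply, h0, map_zero]

/-- local divisibility, in a form that glues -/
theorem exists_local_dvd' [IsLocallyNoetherian Y]
    (hY : ∀ y : Y, IsDomain (Y.presheaf.stalk y) ∧ IsIntegrallyClosed (Y.presheaf.stalk y))
    {W : Y.Opens} (α β : Γ(Y, W)) (p : Polynomial Γ(Y, W)) (hp : p.Monic)
    (h0 : (p.scaleRoots β).eval α = 0) (y : Y) (hy : y ∈ W) :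
    ∃ (D : Y.Opens) (_ : IsAffineOpen D) (hDW : D ≤ W) (_ : y ∈ D) (_ : IsDomain Γ(Y, D))
      (s : Γ(Y, D)), res hDW β * s = res hDW α ∧ (res hDW β = 0 → s = 0) := by
  have hdom := (hY y).1
  have hic := (hY y).2
  by_cases hβ : (Y.presheaf.germ W y hy).hom β = 0
  · obtain ⟨D, hD, hyD, hDW, hDdom⟩ := exists_affine_domain_nhd y hdom W hy
    have hβD : res hDW β = 0 := by
      apply germ_injective_of_isDomain hD y hyD
      rw [germ_res, hβ, map_zero]
    have h1 := map_scaleRoots_eval (res hDW) p hp α β h0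
    rw [hβD, Polynomial.scaleRoots_zero, (hp.map (res hDW)).leadingCoeff, one_smul,
      Polynomial.eval_pow, Polynomial.eval_X] at h1
    have hαD : res hDW α = 0 := IsNilpotent.eq_zero ⟨_, h1⟩
    exact ⟨D, hD, hDW, hyD, hDdom, 0, by rw [hαD, mul_zero], fun _ => rfl⟩
  · set g := (Y.presheaf.germ W y hy).hom with hg
    have h1 := map_scaleRoots_eval g p hp α β h0
    obtain ⟨τ, hτ⟩ := dvdClosed_of_isIntegrallyClosed (Y.presheaf.stalk y) (g α) (g β) (p.map g)
      hβ (hp.map g) h1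
    obtain ⟨W₁, hy₁, s₁, hs₁⟩ := Y.presheaf.exists_germ_eq τ
    have hy₂ : y ∈ W₁ ⊓ W := ⟨hy₁, hy⟩
    have h2 : (Y.presheaf.germ (W₁ ⊓ W) y hy₂)
        (res (inf_le_right : W₁ ⊓ W ≤ W) β * res (inf_le_left : W₁ ⊓ W ≤ W₁) s₁) =
        (Y.presheaf.germ (W₁ ⊓ W) y hy₂) (res (inf_le_right : W₁ ⊓ W ≤ W) α) := by
      change (Y.presheaf.germ (W₁ ⊓ W) y hy₂).hom
        (res (inf_le_right : W₁ ⊓ W ≤ W) β * res (inf_le_left : W₁ ⊓ W ≤ W₁) s₁) =
        (Y.presheaf.germ (W₁ ⊓ W) y hy₂).hom (res (inf_le_right : W₁ ⊓ W ≤ W) α)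
      rw [map_mul, germ_res, germ_res, germ_res]
      change g β * (Y.presheaf.germ W₁ y hy₁) s₁ = g α
      rw [hs₁, hτ]
    obtain ⟨W₃, hy₃, i1, i2, h3⟩ := Y.presheaf.germ_eq y hy₂ hy₂ _ _ h2
    have h4 : res i1.le (res (inf_le_right : W₁ ⊓ W ≤ W) β *
        res (inf_le_left : W₁ ⊓ W ≤ W₁) s₁) = res i1.le (res (inf_le_right : W₁ ⊓ W ≤ W) α) := h3
    obtain ⟨D, hD, hyD, hDW₃, hDdom⟩ := exists_affine_domain_nhd y hdom W₃ hy₃
    have hDW : D ≤ W := hDW₃.trans (i1.le.trans inf_le_right)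
    refine ⟨D, hD, hDW, hyD, hDdom,
      res hDW₃ (res i1.le (res (inf_le_left : W₁ ⊓ W ≤ W₁) s₁)), ?_, ?_⟩
    · have h5 := congrArg (res hDW₃) h4
      simp only [map_mul, res_res] at h5
      simp only [res_res]
      exact h5
    · intro hβD
      exfalso
      apply hβ
      rw [hg, ← germ_res hDW y hyD, hβD, map_zero]

/-- On a locally Noetherian scheme with normal local rings, a section integral over another
"as a fraction" is a multiple of it. -/
theorem exists_dvd_section' [IsLocallyNoetherian Y]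
    (hY : ∀ y : Y, IsDomain (Y.presheaf.stalk y) ∧ IsIntegrallyClosed (Y.presheaf.stalk y))
    {W : Y.Opens} (α β : Γ(Y, W)) (p : Polynomial Γ(Y, W)) (hp : p.Monic)
    (h0 : (p.scaleRoots β).eval α = 0) : ∃ t : Γ(Y, W), β * t = α := by
  choose D hD hDW hyD hdom s hs hs0 using exists_local_dvd' hY α β p hp h0
  let U : W → Y.Opens := fun i => D i.1 i.2
  let sf : ∀ i : W, Γ(Y, U i) := fun i => s i.1 i.2
  have hcompat : TopCat.Presheaf.IsCompatible Y.presheaf U sf := by
    intro i j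
    refine TopCat.Presheaf.section_ext Y.sheaf (U i ⊓ U j) _ _ (fun z hz => ?_)
    have hdz := (hY z).1
    have e1 : (Y.presheaf.germ (U i ⊓ U j) z hz)
        ((Y.presheaf.map (Opens.infLELeft (U i) (U j)).op) (sf i)) =
        (Y.presheaf.germ (U i) z hz.1).hom (sf i) :=
      TopCat.Presheaf.germ_res_apply Y.presheaf (Opens.infLELeft (U i) (U j)) z hz (sf i)
    have e2 : (Y.presheaf.germ (U i ⊓ U j) z hz)
        ((Y.presheaf.map (Opens.infLERight (U i) (U j)).op) (sf j)) =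
        (Y.presheaf.germ (U j) z hz.2).hom (sf j) :=
      TopCat.Presheaf.germ_res_apply Y.presheaf (Opens.infLERight (U i) (U j)) z hz (sf j)
    refine e1.trans (Eq.trans ?_ e2.symm)
    have hi := congrArg (Y.presheaf.germ (U i) z hz.1).hom (hs i.1 i.2)
    have hj := congrArg (Y.presheaf.germ (U j) z hz.2).hom (hs j.1 j.2)
    rw [map_mul, germ_res, germ_res] at hi hj
    by_cases hβz : (Y.presheaf.germ W z (hDW i.1 i.2 hz.1)).hom β = 0
    · have hdi := hdom i.1 i.2
      have hdj := hdom j.1 j.2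
      have hi0 : res (hDW i.1 i.2) β = 0 := by
        apply germ_injective_of_isDomain (hD i.1 i.2) z hz.1
        rw [germ_res, hβz, map_zero]
      have hj0 : res (hDW j.1 j.2) β = 0 := by
        apply germ_injective_of_isDomain (hD j.1 j.2) z hz.2
        rw [germ_res, hβz, map_zero]
      change (Y.presheaf.germ (U i) z hz.1).hom (s i.1 i.2) =
        (Y.presheaf.germ (U j) z hz.2).hom (s j.1 j.2)
      rw [hs0 i.1 i.2 hi0, hs0 j.1 j.2 hj0, map_zero, map_zero]
    · exact mul_left_cancel₀ hβz (hi.trans hj.symm)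
  obtain ⟨t', ht', -⟩ := Y.sheaf.existsUnique_gluing' U W (fun i => homOfLE (hDW i.1 i.2))
    (fun y hy => Opens.mem_iSup.2 ⟨⟨y, hy⟩, hyD y hy⟩) sf hcompat
  obtain ⟨t, ht⟩ : ∃ t : Γ(Y, W), ∀ i : W, res (hDW i.1 i.2) t = sf i := ⟨t', ht'⟩
  refine ⟨t, ?_⟩
  refine TopCat.Presheaf.section_ext Y.sheaf W (β * t) α (fun x hx => ?_)
  change (Y.presheaf.germ W x hx).hom (β * t) = (Y.presheaf.germ W x hx).hom α
  rw [← germ_res (hDW x hx) x (hyD x hx) (β * t), ← germ_res (hDW x hx) x (hyD x hx) α, map_mul,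
    ht ⟨x, hx⟩]
  exact congrArg _ (hs x hx)

/-- If `f_* O = O` for `f : Xt ⟶ X` with `Xt` locally Noetherian and normal and `X` integral, then
`X` is normal. -/
theorem normal_of_isIso_app {X Xt : Scheme.{u}} [IsIntegral X] [IsLocallyNoetherian Xt]
    (f : Xt ⟶ X) (hfib : ∀ V : X.Opens, IsIso (f.app V))
    (hXt : ∀ y : Xt, IsDomain (Xt.presheaf.stalk y) ∧ IsIntegrallyClosed (Xt.presheaf.stalk y))
    (x : X) : IsDomain (X.presheaf.stalk x) ∧ IsIntegrallyClosed (X.presheaf.stalk x) := by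
  refine ⟨inferInstance, ?_⟩
  obtain ⟨V, hV, hxV, -⟩ := Opens.isBasis_iff_nbhd.mp X.isBasis_affineOpens
    (show x ∈ (⊤ : X.Opens) from trivial)
  have hV : IsAffineOpen V := hV
  have hne : Nonempty V := ⟨⟨x, hxV⟩⟩
  have hdomV : IsDomain Γ(X, V) := inferInstance
  have hicV : IsIntegrallyClosed Γ(X, V) := by
    apply isIntegrallyClosed_of_dvdClosed
    intro a b p hb hp h0
    have hiso := hfib V
    have hbij : Function.Bijective (f.app V).hom :=
      ConcreteCategory.bijective_of_isIso (f.app V)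
    have hnt : Nontrivial Γ(Xt, f ⁻¹ᵁ V) := by
      refine ⟨⟨(f.app V).hom 0, (f.app V).hom 1, fun h => ?_⟩⟩
      exact zero_ne_one (hbij.1 h)
    have h1 := map_scaleRoots_eval (f.app V).hom p hp a b h0
    obtain ⟨t, ht⟩ := exists_dvd_section' hXt ((f.app V).hom a) ((f.app V).hom b)
      (p.map (f.app V).hom) (hp.map _) h1
    obtain ⟨t₀, rfl⟩ := hbij.2 t
    refine ⟨t₀, hbij.1 ?_⟩
    rw [map_mul]
    exact ht.symm
  let _ := TopCat.Presheaf.algebra_section_stalk X.presheaf (⟨x, hxV⟩ : V)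
  have hloc := hV.isLocalization_stalk ⟨x, hxV⟩
  exact isIntegrallyClosed_of_isLocalization (X.presheaf.stalk x)
    (hV.primeIdealOf ⟨x, hxV⟩).asIdeal.primeCompl (Ideal.primeCompl_le_nonZeroDivisors _)

end Groth.Agent.Lib.Helper14.Normal
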