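import Groth.Agent.Lib.Helper14.GrpNear

universe u
set_option linter.style.haveILetI false
set_option linter.unusedSectionVars false
open CategoryTheory CategoryTheory.Limits AlgebraicGeometry Opposite Topology MonoidalCategory
  CartesianMonoidalCategory MonObj

namespace Groth.Agent.Lib.Helper14.AS
open AlgSp

variable {S : Scheme.{u}}

set_option backward.isDefEq.respectTransparency.types false in
theorem pseudoTorsor_locP {P : MorphismProperty Scheme.{u}} [IsZariskiLocalAtSource P]
    [P.IsStableUnderBaseChange] (hP : EtLocal P) (hbc : NearBC P)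
    {B : Sp S} (hB : IsAlgSpace B) (G X : Over B) [GrpObj G] (hG : IsAlgSpace G.left)
    (hX : IsAlgSpace X.left) (a : GAction G X) (ha : a.IsPseudoTorsor)
    (hXt : LocP @LocallyOfFiniteType X.hom) (hGP : LocP P G.hom) : LocP P X.hom := by
  have sqG := isPullback_fst_snd_left G X
  have sqX := isPullback_fst_snd_left X X
  have hGX : IsAlgSpace (G ⊗ X).left :=
    isAlgSpace_of_isPullback (repDiag_of_isAlgSpace hB) hG hX sqG
  have hXX : IsAlgSpace (X ⊗ X).left :=
    isAlgSpace_of_isPullback (repDiag_of_isAlgSpace hB) hX hX sqX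
  have h1 : LocP P (snd G X).left := locP_baseChange hP hG hB hX G.hom X.hom _ _ sqG hGP
  haveI : IsIso (lift a.act (snd G X)) := ha
  haveI : IsIso (inv (lift a.act (snd G X))).left :=
    inferInstanceAs (IsIso ((Over.forget B).map (inv (lift a.act (snd G X)))))
  have h2 : (snd X X).left = (inv (lift a.act (snd G X))).left ≫ (snd G X).left := by
    rw [← Over.comp_left]
    congr 1
    rw [IsIso.eq_inv_comp, lift_snd]
  have h3 : LocP P (snd X X).left := by
    rw [h2]
    exact locP_comp_isEtaleMor _ (isEtaleMor_of_isIso _) _ h1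
  refine locP_of_forall_hasAtMor_near hP X.hom fun x => ?_
  have h4 := hasAtMor_near_of_locP hP hXX hX (snd X X).left h3
    (Points.map (lift (𝟙 X) (𝟙 X)).left x)
  rw [hasAtMor_near_baseChange_iff hP hbc hX hB hX X.hom X.hom _ _ sqX hXt,
    ← Points.map_comp, ← Over.comp_left, lift_fst] at h4
  simpa using h4

end Groth.Agent.Lib.Helper14.AS
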