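import Mathlib
import Groth.Prelude.Def_HTop
import Groth.Agent.Lib.Helper14.HBlow5

/-!
# Blow-up type squares for sheaves on `Over S` for a general topology in which jointly surjective
pairs of finitely presented proper morphisms are coverings
-/

set_option autoImplicit false
universe w u
open CategoryTheory CategoryTheory.Limits AlgebraicGeometry Opposite

namespace Groth.Agent.Lib.Helper14.HBlow

variable {S : Scheme.{u}}

/-- Jointly surjective pairs of proper finitely presented morphisms generate covering sieves. -/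
def PairCov (J : GrothendieckTopology Scheme.{u}) : Prop :=
  ∀ {A B P : Scheme.{u}} (a : A ⟶ P) (b : B ⟶ P) [IsProper a] [IsProper b]
    [LocallyOfFinitePresentation a] [LocallyOfFinitePresentation b],
    (∀ p : P, p ∈ Set.range a ∨ p ∈ Set.range b) →
    Sieve.generate ((PreZeroHypercover.singleton.{0} a).sum
      (PreZeroHypercover.singleton.{0} b)).presieve₀ ∈ J P

/-- separatedness with respect to a covering family of `P.left` -/
theorem ext_of_mem {J : GrothendieckTopology Scheme.{u}} (F : Sheaf (J.over S) (Type w))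
    {P : Over S} (E : PreZeroHypercover.{0} P.left)
    (hR : Sieve.generate E.presieve₀ ∈ J P.left) (x y : F.obj.obj (op P))
    (h : ∀ j, F.obj.map (Over.homMk (E.f j) rfl : Over.mk (E.f j ≫ P.hom) ⟶ P).op x =
      F.obj.map (Over.homMk (E.f j) rfl : Over.mk (E.f j ≫ P.hom) ⟶ P).op y) : x = y := by
  have hR' : (Sieve.overEquiv P).symm (Sieve.generate E.presieve₀) ∈ (J.over S) P :=
    GrothendieckTopology.overEquiv_symm_mem_over _ P _ hR
  have h1 : Presieve.IsSheaf (J.over S) F.obj := (isSheaf_iff_isSheaf_of_type _ _).1 F.property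
  refine (h1 _ hR').isSeparatedFor.ext ?_
  intro Z g hg
  rw [Sieve.overEquiv_symm_iff] at hg
  obtain ⟨W, a, b, ⟨j⟩, hab⟩ := hg
  have hw : a ≫ (E.f j ≫ P.hom) = Z.hom := by
    rw [← Category.assoc, hab, Over.w]
  have hg' : g = (Over.homMk a hw : Z ⟶ Over.mk (E.f j ≫ P.hom)) ≫ Over.homMk (E.f j) rfl := by
    ext
    simpa using hab.symm
  rw [hg', op_comp, Functor.map_comp_apply, Functor.map_comp_apply, h j]

/-- Descent of sections along a two-member covering. -/
theorem existsUnique_of_pair_mem {J : GrothendieckTopology Scheme.{u}}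
    (F : Sheaf (J.over S) (Type w)) {A B T : Over S} (a : A ⟶ T) (b : B ⟶ T)
    (hR : Sieve.generate ((PreZeroHypercover.singleton.{0} a.left).sum
      (PreZeroHypercover.singleton.{0} b.left)).presieve₀ ∈ J T.left)
    (x : F.obj.obj (op A)) (y : F.obj.obj (op B))
    (hxx : ∀ (W : Over S) (p₁ p₂ : W ⟶ A), p₁ ≫ a = p₂ ≫ a →
      F.obj.map p₁.op x = F.obj.map p₂.op x)
    (hyy : ∀ (W : Over S) (p₁ p₂ : W ⟶ B), p₁ ≫ b = p₂ ≫ b →
      F.obj.map p₁.op y = F.obj.map p₂.op y)
    (hxy : ∀ (W : Over S) (p : W ⟶ A) (q : W ⟶ B), p ≫ a = q ≫ b →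
      F.obj.map p.op x = F.obj.map q.op y) :
    ∃! s : F.obj.obj (op T), F.obj.map a.op s = x ∧ F.obj.map b.op s = y := by
  have hS : Sieve.generate (Presieve.ofArrows (pairObj A B) (pairHom a b)) ∈ (J.over S) T := by
    rw [GrothendieckTopology.mem_over_iff]
    refine J.superset_covering ?_ hR
    rintro Z k ⟨W, c, d, ⟨j⟩, rfl⟩
    rw [Sieve.overEquiv_iff]
    rcases j with j | j
    · let c' : Z ⟶ A.left := c
      have hc' : c' ≫ A.hom = (c' ≫ a.left) ≫ T.hom := by rw [Category.assoc, Over.w a]
      refine ⟨A, Over.homMk c' hc', a, Presieve.ofArrows.mk (ι := Bool) true, ?_⟩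
      ext
      rfl
    · let c' : Z ⟶ B.left := c
      have hc' : c' ≫ B.hom = (c' ≫ b.left) ≫ T.hom := by rw [Category.assoc, Over.w b]
      refine ⟨B, Over.homMk c' hc', b, Presieve.ofArrows.mk (ι := Bool) false, ?_⟩
      ext
      rfl
  have h1 : Presieve.IsSheaf (J.over S) F.obj := (isSheaf_iff_isSheaf_of_type _ _).1 F.property
  have h2 := h1 _ hS
  rw [← Presieve.isSheafFor_iff_generate, Presieve.isSheafFor_arrows_iff] at h2
  let fam : ∀ k : Bool, F.obj.obj (op (pairObj A B k))
    | true => x
    | false => y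
  have hcompat : Presieve.Arrows.Compatible F.obj (pairHom a b) fam := by
    rintro (_ | _) (_ | _) W p q hpq
    · exact hyy W p q hpq
    · exact (hxy W q p hpq.symm).symm
    · exact hxy W p q hpq
    · exact hxx W p q hpq
  obtain ⟨s, hs, hsu⟩ := h2 fam hcompat
  refine ⟨s, ⟨hs true, hs false⟩, fun s₂ h₂ => hsu s₂ ?_⟩
  rintro (_ | _)
  · exact h₂.2
  · exact h₂.1

theorem main_gen (S : Scheme.{u}) (J : GrothendieckTopology Scheme.{u}) (hJ : PairCov J)
    (F : Sheaf (J.over S) (Type w))
    {E Z X Y : Over S} (e : E ⟶ X) (π : E ⟶ Z) (f : X ⟶ Y) (i : Z ⟶ Y)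
    [IsProper f.left] [LocallyOfFinitePresentation f.left]
    [IsClosedImmersion i.left] [LocallyOfFinitePresentation i.left]
    (hsq : IsPullback e.left π.left f.left i.left)
    (U : Y.left.Opens) (hU : (U : Set Y.left) = (Set.range i.left.base)ᶜ)
    (hiso : IsIso (f.left ∣_ U))
    (t : F.obj.obj (op Z)) (s' : F.obj.obj (op X)) (hts : F.obj.map π.op t = F.obj.map e.op s') :
    ∃! s : F.obj.obj (op Y), F.obj.map i.op s = t ∧ F.obj.map f.op s = s' := by
  let P : Over S := Over.mk (pullback.fst f.left f.left ≫ X.hom)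
  let pr1 : P ⟶ X := Over.homMk (pullback.fst f.left f.left) rfl
  have hw2 : pullback.snd f.left f.left ≫ X.hom = pullback.fst f.left f.left ≫ X.hom := by
    rw [← Over.w f, ← Category.assoc, ← pullback.condition, Category.assoc]
  let pr2 : P ⟶ X := Over.homMk (pullback.snd f.left f.left) hw2
  have hef : e ≫ f = π ≫ i := by
    ext
    exact hsq.w
  -- key: the two pullbacks of s' agree
  have hab : F.obj.map pr1.op s' = F.obj.map pr2.op s' := by
    let Δ : X.left ⟶ P.left := pullback.diagonal f.left
    let jZ : pullback (pullback.fst f.left f.left ≫ f.left) i.left ⟶ P.left := pullback.fst _ _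
    have c1 : IsClosedImmersion Δ := inferInstanceAs (IsClosedImmersion (pullback.diagonal f.left))
    have c2 : IsClosedImmersion jZ :=
      inferInstanceAs (IsClosedImmersion (pullback.fst (pullback.fst f.left f.left ≫ f.left) i.left))
    have c3 : LocallyOfFinitePresentation jZ :=
      inferInstanceAs (LocallyOfFinitePresentation
        (pullback.fst (pullback.fst f.left f.left ≫ f.left) i.left))
    have c4 : LocallyOfFinitePresentation Δ :=
      Groth.Agent.Lib.Helper14.AS.locallyOfFinitePresentation_of_comp Δ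
        (pullback.fst f.left f.left) (by
          change LocallyOfFinitePresentation (pullback.diagonal f.left ≫ pullback.fst f.left f.left)
          rw [pullback.diagonal_fst]
          infer_instance) inferInstance
    have hsurj : ∀ p : P.left, p ∈ Set.range Δ ∨ p ∈ Set.range jZ := by
      intro p
      by_cases hp : (pullback.fst f.left f.left ≫ f.left) p ∈ Set.range i.left
      · right
        obtain ⟨z, hz⟩ := hp
        obtain ⟨w, hw1, -⟩ := Scheme.Pullback.exists_preimage_pullback
          (f := pullback.fst f.left f.left ≫ f.left) (g := i.left) p z hz.symm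
        exact ⟨w, hw1⟩
      · left
        have hpU : (pullback.fst f.left f.left ≫ f.left) p ∈ U := by
          change _ ∈ (U : Set Y.left)
          rw [hU]
          exact hp
        exact mem_range_diagonal f.left U p hpU
    have hcov := hJ Δ jZ hsurj
    refine ext_of_mem F _ hcov _ _ ?_
    rintro (_ | _)
    · -- the diagonal
      let D : Over.mk (Δ ≫ P.hom) ⟶ P := Over.homMk Δ rfl
      change F.obj.map D.op (F.obj.map pr1.op s') = F.obj.map D.op (F.obj.map pr2.op s')
      have h12 : D ≫ pr1 = D ≫ pr2 := by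
        ext
        change Δ ≫ pullback.fst f.left f.left = Δ ≫ pullback.snd f.left f.left
        rw [pullback.diagonal_fst, pullback.diagonal_snd]
      rw [← Functor.map_comp_apply, ← Functor.map_comp_apply, ← op_comp, ← op_comp, h12]
    · -- the part over Z
      let J : Over.mk (jZ ≫ P.hom) ⟶ P := Over.homMk jZ rfl
      change F.obj.map J.op (F.obj.map pr1.op s') = F.obj.map J.op (F.obj.map pr2.op s')
      have hq1 : (jZ ≫ pullback.fst f.left f.left) ≫ f.left =
          pullback.snd (pullback.fst f.left f.left ≫ f.left) i.left ≫ i.left := by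
        rw [Category.assoc]
        exact pullback.condition
      have hq2 : (jZ ≫ pullback.snd f.left f.left) ≫ f.left =
          pullback.snd (pullback.fst f.left f.left ≫ f.left) i.left ≫ i.left := by
        rw [Category.assoc, ← pullback.condition (f := f.left) (g := f.left)]
        exact pullback.condition
      let q₁ := hsq.lift _ _ hq1
      let q₂ := hsq.lift _ _ hq2
      have hQ1 : q₁ ≫ E.hom = jZ ≫ P.hom := by
        rw [← Over.w e, ← Category.assoc, hsq.lift_fst, Category.assoc]
        rfl
      have hQ2 : q₂ ≫ E.hom = jZ ≫ P.hom := by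
        rw [← Over.w e, ← Category.assoc, hsq.lift_fst, Category.assoc, hw2]
        rfl
      let Q₁ : Over.mk (jZ ≫ P.hom) ⟶ E := Over.homMk q₁ hQ1
      let Q₂ : Over.mk (jZ ≫ P.hom) ⟶ E := Over.homMk q₂ hQ2
      have h1 : J ≫ pr1 = Q₁ ≫ e := by
        ext
        exact (hsq.lift_fst _ _ hq1).symm
      have h2 : J ≫ pr2 = Q₂ ≫ e := by
        ext
        exact (hsq.lift_fst _ _ hq2).symm
      have h3 : Q₁ ≫ π = Q₂ ≫ π := by
        ext
        change q₁ ≫ π.left = q₂ ≫ π.left
        rw [hsq.lift_snd, hsq.lift_snd]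
      rw [← Functor.map_comp_apply, ← Functor.map_comp_apply, ← op_comp, ← op_comp, h1, h2,
        op_comp, op_comp, Functor.map_comp_apply, Functor.map_comp_apply, ← hts,
        ← Functor.map_comp_apply, ← Functor.map_comp_apply, ← op_comp, ← op_comp, h3]
  have hsurj : ∀ y : Y.left, y ∈ Set.range i.left ∨ y ∈ Set.range f.left := by
    intro y
    by_cases hy : y ∈ Set.range i.left
    · exact Or.inl hy
    · right
      have hyU : y ∈ U := by
        change y ∈ (U : Set Y.left)
        rw [hU]
        exact hy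
      have hsur : Function.Surjective (f.left ∣_ U) :=
        (ConcreteCategory.bijective_of_isIso (f.left ∣_ U).base).2
      obtain ⟨x', hx'⟩ := hsur ⟨y, hyU⟩
      refine ⟨(f.left ⁻¹ᵁ U).ι x', ?_⟩
      have h1 : ((f.left ⁻¹ᵁ U).ι ≫ f.left) x' = ((f.left ∣_ U) ≫ U.ι) x' := by
        rw [morphismRestrict_ι]
      change ((f.left ⁻¹ᵁ U).ι ≫ f.left) x' = y
      rw [h1]
      change U.ι ((f.left ∣_ U) x') = y
      rw [hx']
      rfl
  have hcov := hJ i.left f.left hsurj
  refine existsUnique_of_pair_mem F i f hcov t s' ?_ ?_ ?_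
  · intro W p₁ p₂ hp
    have hp' : p₁.left ≫ i.left = p₂.left ≫ i.left := congrArg (fun k => k.left) hp
    have : p₁ = p₂ := by
      ext
      exact (cancel_mono i.left).mp hp'
    rw [this]
  · intro T p₁ p₂ hp
    have hp' : p₁.left ≫ f.left = p₂.left ≫ f.left := congrArg (fun k => k.left) hp
    have hL : pullback.lift p₁.left p₂.left hp' ≫ P.hom = T.hom := by
      change pullback.lift p₁.left p₂.left hp' ≫ pullback.fst f.left f.left ≫ X.hom = T.hom
      rw [← Category.assoc, pullback.lift_fst, Over.w]
    let L : T ⟶ P := Over.homMk (pullback.lift p₁.left p₂.left hp') hL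
    have e1 : L ≫ pr1 = p₁ := by
      ext
      exact pullback.lift_fst _ _ _
    have e2 : L ≫ pr2 = p₂ := by
      ext
      exact pullback.lift_snd _ _ _
    rw [← e1, ← e2, op_comp, op_comp, Functor.map_comp_apply, Functor.map_comp_apply, hab]
  · intro W p q hpq
    have hpq' : q.left ≫ f.left = p.left ≫ i.left := (congrArg (fun k => k.left) hpq).symm
    let l := hsq.lift q.left p.left hpq'
    have hl : l ≫ E.hom = W.hom := by
      rw [← Over.w e, ← Category.assoc, hsq.lift_fst, Over.w]
    let L : W ⟶ E := Over.homMk l hl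
    have e1 : L ≫ e = q := by
      ext
      exact hsq.lift_fst _ _ _
    have e2 : L ≫ π = p := by
      ext
      exact hsq.lift_snd _ _ _
    rw [← e1, ← e2, op_comp, op_comp, Functor.map_comp_apply, Functor.map_comp_apply, hts]

end Groth.Agent.Lib.Helper14.HBlow
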