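import Mathlib
import Groth.Prelude.Def_HTop
import Groth.Agent.Lib.Helper21.CurveCompl3

/-!
# Finite jointly surjective families of proper morphisms are ph coverings
-/

set_option autoImplicit false
universe w u
open CategoryTheory CategoryTheory.Limits AlgebraicGeometry Opposite

namespace Groth.Agent.Lib.Helper14.PhBlow

open Groth.Agent.Lib.Helper21.CurveCompl

/-- A finite disjoint union of quasi-separated spaces is quasi-separated. -/
theorem quasiSeparatedSpace_sigma {ι : Type*} [Finite ι] (X : ι → Type*)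
    [∀ i, TopologicalSpace (X i)] [∀ i, QuasiSeparatedSpace (X i)] :
    QuasiSeparatedSpace (Σ i, X i) := by
  constructor
  intro U V hUo hUc hVo hVc
  have key : U ∩ V = ⋃ i, Sigma.mk i '' ((Sigma.mk i) ⁻¹' U ∩ (Sigma.mk i) ⁻¹' V) := by
    ext ⟨i, x⟩
    simp only [Set.mem_inter_iff, Set.mem_iUnion, Set.mem_image, Set.mem_preimage]
    constructor
    · rintro ⟨h1, h2⟩
      exact ⟨i, x, ⟨h1, h2⟩, rfl⟩
    · rintro ⟨j, y, ⟨h1, h2⟩, h3⟩
      rw [← h3]
      exact ⟨h1, h2⟩
  rw [key]
  refine isCompact_iUnion fun i => ?_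
  refine IsCompact.image ?_ continuous_sigmaMk
  exact QuasiSeparatedSpace.inter_isCompact _ _
    (hUo.preimage continuous_sigmaMk)
    (Topology.IsClosedEmbedding.sigmaMk.isCompact_preimage hUc)
    (hVo.preimage continuous_sigmaMk)
    (Topology.IsClosedEmbedding.sigmaMk.isCompact_preimage hVc)

/-- A finite coproduct of schemes proper over an affine scheme is proper. -/
theorem isProper_sigmaDesc_of_isAffine {ι : Type u} [Finite ι] (C : ι → Scheme.{u})
    {S : Scheme.{u}} [IsAffine S] (f : ∀ i, C i ⟶ S) [∀ i, IsProper (f i)] :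
    IsProper (Sigma.desc f) := by
  have h1 : LocallyOfFiniteType (Sigma.desc f) :=
    IsZariskiLocalAtSource.sigmaDesc (fun i => inferInstance)
  have h2 : ∀ i, CompactSpace (C i) := fun i => QuasiCompact.compactSpace_of_compactSpace (f i)
  have h3 : CompactSpace (∐ C : Scheme.{u}) := (sigmaMk C).compactSpace
  have h4 : ∀ i, QuasiSeparatedSpace (C i) := fun i => quasiSeparatedSpace_of_quasiSeparated (f i)
  have h5 : QuasiSeparatedSpace (Σ i, C i) := quasiSeparatedSpace_sigma (fun i => C i)
  have h6 : QuasiSeparatedSpace (∐ C : Scheme.{u}) :=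
    (sigmaMk C).symm.isOpenEmbedding.quasiSeparatedSpace
  exact IsProper.of_valuativeCriterion _
    (valuativeCriterion_sigmaDesc C f fun i => valuativeCriterion_of_isProper (f i))

end Groth.Agent.Lib.Helper14.PhBlow
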