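import Mathlib
import Groth.Prelude.Def_HTop
import Groth.Agent.Lib.Helper14.PhBlow2

/-!
# Finite jointly surjective families of proper morphisms are ph coverings (continued)
-/

set_option autoImplicit false
universe w u
open CategoryTheory CategoryTheory.Limits AlgebraicGeometry Opposite

namespace Groth.Agent.Lib.Helper14.PhBlow

open Groth.Agent.Lib.Helper21.CurveCompl

theorem isPhCover_of_finite_of_isProper {T : Scheme.{u}} (E : PreZeroHypercover.{0} T)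
    [Finite E.I₀] (hp : ∀ j, IsProper (E.f j)) (hsurj : ∀ t : T, ∃ j, t ∈ Set.range (E.f j)) :
    HTop.IsPhCover E := by
  refine ⟨fun j => inferInstance, ?_⟩
  rintro ⟨U, hU⟩
  have hUa : IsAffineOpen U := hU
  have hUaff : IsAffine (U : Scheme.{u}) := hUa
  have hc : ∀ j, IsCompact ((E.f j) ⁻¹ᵁ U : Set (E.X j)) := fun j =>
    QuasiCompact.isCompact_preimage (f := E.f j) _ U.isOpen hUa.isCompact
  choose s hs hsU using fun j =>
    (isCompact_iff_finite_and_eq_biUnion_affineOpens (U := (E.f j) ⁻¹ᵁ U)).mp (hc j)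
  have hfin : ∀ j, Finite (s j) := fun j => (hs j)
  have : Finite (Σ j : E.I₀, s j) := inferInstance
  obtain ⟨n, ⟨e⟩⟩ := Finite.exists_equiv_fin (Σ j : E.I₀, s j)
  have hle' : ∀ q : (Σ j : E.I₀, s j), (q.2.1.1 : (E.X q.1).Opens) ≤ (E.f q.1) ⁻¹ᵁ U := by
    intro q
    rw [hsU]
    exact le_iSup₂ (f := fun (i : (E.X q.1).affineOpens) (_ : i ∈ s q.1) =>
      (i.1 : (E.X q.1).Opens)) q.2.1 q.2.2
  let F : PreZeroHypercover.{0} (U : Scheme.{u}) :=
    { I₀ := Fin n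
      X := fun k => (((e.symm k).2.1.1 : (E.X (e.symm k).1).Opens) : Scheme.{u})
      f := fun k => (E.f (e.symm k).1).resLE U _ (hle' (e.symm k)) }
  let C : ULift.{u} E.I₀ → Scheme.{u} := fun j => (((E.f j.down) ⁻¹ᵁ U : (E.X j.down).Opens) : Scheme.{u})
  let fC : ∀ j, C j ⟶ (U : Scheme.{u}) := fun j => (E.f j.down) ∣_ U
  have hprop : ∀ j, IsProper (fC j) := fun j => IsZariskiLocalAtTarget.restrict (hp j.down) U
  have hP : IsProper (Sigma.desc fC) := isProper_sigmaDesc_of_isAffine C fC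
  have hS : Surjective (Sigma.desc fC) := by
    apply Surjective.sigmaDesc_of_union_range_eq_univ
    rw [Set.eq_univ_iff_forall]
    intro t
    obtain ⟨j, x, hx⟩ := hsurj t.1
    have hxU : x ∈ (E.f j) ⁻¹ᵁ U := by
      change E.f j x ∈ U
      rw [hx]
      exact t.2
    refine Set.mem_iUnion.mpr ⟨⟨j⟩, ⟨x, hxU⟩, ?_⟩
    apply Subtype.ext
    change (((E.f j) ∣_ U) ⟨x, hxU⟩).1 = t.1
    rw [morphismRestrict_base_coe]
    exact hx
  let ι : ∀ k, F.X k ⟶ (∐ C : Scheme.{u}) := fun k =>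
    (E.X (e.symm k).1).homOfLE (hle' (e.symm k)) ≫ Sigma.ι C ⟨(e.symm k).1⟩
  refine ⟨F, ⟨hUa, inferInstanceAs (Finite (Fin n)), fun k => (e.symm k).2.1.2,
    ∐ C, Sigma.desc fC, ι, hP, hS, fun k => ?_, fun k => ?_, fun x => ?_⟩,
    fun k => ⟨(e.symm k).1, ((e.symm k).2.1.1 : (E.X (e.symm k).1).Opens).ι,
      (Scheme.Hom.resLE_comp_ι _ _).symm⟩⟩
  · change IsOpenImmersion ((E.X (e.symm k).1).homOfLE (hle' (e.symm k)) ≫
      Sigma.ι C ⟨(e.symm k).1⟩)
    infer_instance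
  · change ((E.X (e.symm k).1).homOfLE (hle' (e.symm k)) ≫ Sigma.ι C ⟨(e.symm k).1⟩) ≫
      Sigma.desc fC = (E.f (e.symm k).1).resLE U _ (hle' (e.symm k))
    rw [Category.assoc, Sigma.ι_desc]
    rfl
  · obtain ⟨j, y, rfl⟩ := exists_sigmaι_eq C x
    obtain ⟨y1, hy1, rfl⟩ : ∃ (y1 : E.X j.down) (h : y1 ∈ (E.f j.down) ⁻¹ᵁ U),
        (⟨y1, h⟩ : C j) = y := ⟨y.1, y.2, rfl⟩
    have hy := hy1
    rw [hsU] at hy
    simp only [TopologicalSpace.Opens.mem_iSup] at hy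
    obtain ⟨i, his, hi⟩ := hy
    obtain ⟨k, hk⟩ : ∃ k, e.symm k = ⟨j.down, ⟨i, his⟩⟩ :=
      ⟨e ⟨j.down, ⟨i, his⟩⟩, e.symm_apply_apply _⟩
    have key : ∀ (q : Σ j : E.I₀, s j) (_ : q = ⟨j.down, ⟨i, his⟩⟩),
        Sigma.ι C j ⟨y1, hy1⟩ ∈ Set.range
          ((E.X q.1).homOfLE (hle' q) ≫ Sigma.ι C ⟨q.1⟩) := by
      rintro q rfl
      refine ⟨⟨y1, hi⟩, ?_⟩
      change Sigma.ι C j ((E.X j.down).homOfLE _ ⟨y1, hi⟩) = Sigma.ι C j ⟨y1, hy1⟩
      congr 1
      exact Scheme.homOfLE_apply' _ _ _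
    exact ⟨k, key (e.symm k) hk⟩

/-- The ph topology contains jointly surjective pairs of proper morphisms. -/
theorem generate_mem_phTopology_of_pair {A B P : Scheme.{u}} (a : A ⟶ P) (b : B ⟶ P)
    [IsProper a] [IsProper b] (hsurj : ∀ p : P, p ∈ Set.range a ∨ p ∈ Set.range b) :
    Sieve.generate ((PreZeroHypercover.singleton.{0} a).sum
      (PreZeroHypercover.singleton.{0} b)).presieve₀ ∈ HTop.phTopology P := by
  have hfin : Finite ((PreZeroHypercover.singleton.{0} a).sum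
      (PreZeroHypercover.singleton.{0} b)).I₀ := inferInstanceAs (Finite (PUnit ⊕ PUnit))
  refine Precoverage.generate_mem_toGrothendieck
    ((HTop.presieve₀_mem_phPrecoverage_iff _).mpr (isPhCover_of_finite_of_isProper _ ?_ ?_))
  · rintro (_ | _)
    · exact ‹IsProper a›
    · exact ‹IsProper b›
  · intro p
    rcases hsurj p with h | h
    · exact ⟨Sum.inl PUnit.unit, h⟩
    · exact ⟨Sum.inr PUnit.unit, h⟩

end Groth.Agent.Lib.Helper14.PhBlow
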