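import Mathlib
import Groth.Prelude.Def_HTop
import Groth.Prelude.Def_BlowUp2
import Groth.Agent.Lib.Helper14.PhBlow4
import Groth.Agent.Lib.Helper14.HBlow6
import Groth.Agent.Lib.Helper25.ReesBlowUp
import Groth.Agent.S4418

/-!
# The blowing up in a finitely presented closed subscheme is proper
-/

set_option autoImplicit false
universe w u
open CategoryTheory CategoryTheory.Limits AlgebraicGeometry Opposite

namespace Groth.Agent.Lib.Helper14.PhBlow

theorem isFiniteTypeIdeal_ker {Z X : Scheme.{u}} (i : Z ⟶ X) [IsClosedImmersion i]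
    [LocallyOfFinitePresentation i] : BlowUp.IsFiniteTypeIdeal i.ker := by
  intro U
  rw [Scheme.Hom.ker_apply]
  have hU : IsAffineOpen U.1 := U.2
  have hV : IsAffineOpen (i ⁻¹ᵁ U.1) := hU.preimage i
  have hfp : (i.app U.1).hom.FinitePresentation := by
    have := HasRingHomProperty.appLE @LocallyOfFinitePresentation i inferInstance U ⟨_, hV⟩ le_rfl
    rwa [← Scheme.Hom.app_eq_appLE] at this
  have hsurj : Function.Surjective (i.app U.1).hom := i.app_surjective U.1 hU
  algebraize [(i.app U.1).hom]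
  have hfp' : Algebra.FinitePresentation Γ(X, U.1) Γ(Z, i ⁻¹ᵁ U.1) := hfp
  exact Algebra.FinitePresentation.ker_fG_of_surjective
    (Algebra.ofId Γ(X, U.1) Γ(Z, i ⁻¹ᵁ U.1)) hsurj

theorem isProper_of_isBlowUp_ker {Z X X' : Scheme.{u}} (i : Z ⟶ X) [IsClosedImmersion i]
    [LocallyOfFinitePresentation i] (b : X' ⟶ X) (hb : BlowUp.IsBlowUp b i.ker) : IsProper b :=
  (Groth.Agent.S4418.result b
    (Groth.Agent.Lib.Helper25.ReesQC.isProjective_of_isBlowUp i.ker (isFiniteTypeIdeal_ker i) b hb)).2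

end Groth.Agent.Lib.Helper14.PhBlow
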