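import Mathlib
import Groth.Prelude.Def_HTop
import Groth.Agent.Lib.Helper1.ChowLim2

/-!
# Composition of standard ph coverings: extension of a proper cover over an open (helper14)
-/

set_option autoImplicit false
universe w u
open CategoryTheory CategoryTheory.Limits AlgebraicGeometry Opposite

namespace Groth.Agent.Lib.Helper14.PhComp

/-- A point `y` of `Y` (over `U` via `p`) is good for the family `B` over `U` when some open
neighbourhood of `y` maps to a member of `B` compatibly with the maps to `U`. -/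
def Good {U Y : Scheme.{u}} (B : PreZeroHypercover.{w} U) (p : Y ⟶ U) (y : Y) : Prop :=
  ∃ (N : Scheme.{u}) (a : N ⟶ Y) (_ : IsOpenImmersion a) (k : B.I₀) (b : N ⟶ B.X k),
    y ∈ Set.range a ∧ b ≫ B.f k = a ≫ p

theorem Good.comp {U Y Y' : Scheme.{u}} {B : PreZeroHypercover.{w} U} {p : Y ⟶ U} (p' : Y' ⟶ Y)
    {y' : Y'} (h : Good B p (p' y')) : Good B (p' ≫ p) y' := by
  obtain ⟨N, a, ha, k, b, ⟨n, hn⟩, hb⟩ := h
  obtain ⟨z, hz1, hz2⟩ := Scheme.Pullback.exists_preimage_pullback (f := a) (g := p') n y' hn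
  refine ⟨pullback a p', pullback.snd a p', inferInstance, k, pullback.fst a p' ≫ b, ⟨z, hz2⟩, ?_⟩
  rw [Category.assoc, hb, ← Category.assoc, pullback.condition, Category.assoc]

theorem Good.of_isOpenImmersion {U Y Y' : Scheme.{u}} {B : PreZeroHypercover.{w} U} {p : Y ⟶ U}
    (t : Y' ⟶ Y) [IsOpenImmersion t] {y' : Y'} (h : Good B (t ≫ p) y') : Good B p (t y') := by
  obtain ⟨N, a, ha, k, b, ⟨n, hn⟩, hb⟩ := h
  refine ⟨N, a ≫ t, inferInstance, k, b, ⟨n, ?_⟩, ?_⟩
  · rw [Scheme.Hom.comp_apply, hn]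
  · rw [hb, Category.assoc]

theorem Good.of_eq {U Y : Scheme.{u}} {B : PreZeroHypercover.{w} U} {p p' : Y ⟶ U} (hp : p = p')
    {y : Y} (h : Good B p y) : Good B p' y := hp ▸ h

open Groth.Agent.Lib.Helper29.QCoh in
/-- Extension of a proper surjective cover of an affine open of a qcqs scheme to a proper morphism
to the whole scheme, up to a Chow cover. -/
theorem exists_proper_extension {U X V : Scheme.{u}} [CompactSpace U] [QuasiSeparatedSpace U]
    (ι : X ⟶ U) [IsOpenImmersion ι] [IsAffine X] (g : V ⟶ X) [IsProper g] [Surjective g]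
    (B : PreZeroHypercover.{w} U) (hB : ∀ v : V, Good B (g ≫ ι) v) :
    ∃ (Y : Scheme.{u}) (p : Y ⟶ U), IsProper p ∧ Set.range ι ⊆ Set.range p ∧
      ∀ y : Y, p y ∈ Set.range ι → Good B p y := by
  have hVc : CompactSpace V := QuasiCompact.compactSpace_of_compactSpace g
  obtain ⟨n, V', π, j, hj, hjw, hπ, hπs⟩ := Groth.Agent.Lib.Helper1.Chow.chow_qcqs (g ≫ ι)
  have hV'c : CompactSpace V' := QuasiCompact.compactSpace_of_compactSpace π
  have hPqs : QuasiSeparatedSpace (CohB1.ProjSpaceOver n U) :=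
    quasiSeparatedSpace_of_quasiSeparated (CohB1.ProjSpaceOver.toBase n U)
  have hjqc : QuasiCompact j := inferInstance
  let q := CohB1.ProjSpaceOver.toBase n U
  let Y := j.image
  let p : Y ⟶ U := j.imageι ≫ q
  have hp : IsProper p := inferInstance
  have htp : j.toImage ≫ p = π ≫ g ≫ ι := by
    rw [← hjw, ← Category.assoc, j.toImage_imageι]
  -- the open part of `Y` over `X`
  let O : U.Opens := ι.opensRange
  let YO : Y.Opens := p ⁻¹ᵁ O
  have hrange : Set.range j.toImage ⊆ (YO.ι).opensRange := by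
    rintro _ ⟨v, rfl⟩
    rw [Scheme.Opens.opensRange_ι]
    change p (j.toImage v) ∈ O
    rw [← Scheme.Hom.comp_apply, htp]
    exact ⟨(π ≫ g) v, by rw [← Scheme.Hom.comp_apply, Category.assoc]⟩
  let t : V' ⟶ YO := IsOpenImmersion.lift YO.ι j.toImage hrange
  have ht : t ≫ YO.ι = j.toImage := IsOpenImmersion.lift_fac _ _ _
  have hsep : IsSeparated (p ∣_ O) := by
    have : IsProper (p ∣_ O) := IsZariskiLocalAtTarget.restrict hp O
    infer_instance
  have hcomp : t ≫ (p ∣_ O) = (π ≫ g) ≫ ι.isoOpensRange.hom := by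
    rw [← cancel_mono O.ι, Category.assoc, morphismRestrict_ι, ← Category.assoc, ht, htp,
      Category.assoc, Category.assoc, Scheme.Hom.isoOpensRange_hom_ι]
  have htprop : IsProper t := by
    have : IsProper (t ≫ (p ∣_ O)) := by rw [hcomp]; infer_instance
    exact IsProper.of_comp t (p ∣_ O)
  have hclosed : IsClosed (Set.range t) := t.isClosedMap.isClosed_range
  have hkey : ∀ y : Y, p y ∈ Set.range ι → y ∈ Set.range j.toImage := by
    intro y hy
    by_contra hne
    have hyO : y ∈ YO := hy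
    let W : Set Y := YO.ι '' (Set.range t)ᶜ
    have hWopen : IsOpen W := YO.ι.isOpenEmbedding.isOpenMap _ hclosed.isOpen_compl
    have hyW : y ∈ W := by
      refine ⟨⟨y, hyO⟩, ?_, rfl⟩
      rintro ⟨v, hv⟩
      apply hne
      refine ⟨v, ?_⟩
      rw [← ht, Scheme.Hom.comp_apply, hv]
      rfl
    obtain ⟨_, hw, ⟨v, rfl⟩⟩ := (j.toImage.denseRange).inter_open_nonempty W hWopen ⟨y, hyW⟩
    obtain ⟨z, hz, hzv⟩ := hw
    apply hz
    refine ⟨v, ?_⟩
    apply YO.ι.isOpenEmbedding.injective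
    rw [hzv, ← Scheme.Hom.comp_apply, ht]
  refine ⟨Y, p, hp, ?_, ?_⟩
  · rintro _ ⟨x, rfl⟩
    obtain ⟨v, rfl⟩ := (inferInstance : Surjective g).surj x
    obtain ⟨v', rfl⟩ := hπs.surj v
    refine ⟨j.toImage v', ?_⟩
    rw [← Scheme.Hom.comp_apply, htp]
    simp only [Scheme.Hom.comp_apply]
  · intro y hy
    obtain ⟨v', rfl⟩ := hkey y hy
    apply Good.of_isOpenImmersion j.toImage
    rw [htp]
    exact Good.comp π (hB (π v'))

end Groth.Agent.Lib.Helper14.PhComp
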