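import Mathlib
import Groth.Prelude.Def_HTop
import Groth.Agent.Lib.Helper14.PhComp1
import Groth.Agent.Lib.Helper14.PhBlow3

/-!
# Composition of standard ph coverings: the inductive construction (helper14)
-/

set_option autoImplicit false
universe w w' u
open CategoryTheory CategoryTheory.Limits AlgebraicGeometry Opposite

namespace Groth.Agent.Lib.Helper14.PhComp

/-- The family of pairwise fibre products. -/
noncomputable def prodFam {U : Scheme.{u}} (G H : PreZeroHypercover.{0} U) :
    PreZeroHypercover.{0} U where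
  I₀ := G.I₀ × H.I₀
  X i := pullback (G.f i.1) (H.f i.2)
  f i := pullback.fst (G.f i.1) (H.f i.2) ≫ G.f i.1

/-- The family consisting of two morphisms. -/
def pairFam {U A A' : Scheme.{u}} (a : A ⟶ U) (a' : A' ⟶ U) : PreZeroHypercover.{0} U where
  I₀ := Bool
  X i := Bool.rec A' A i
  f i := Bool.rec (motive := fun i => (Bool.rec A' A i : Scheme.{u}) ⟶ U) a' a i

/-- A finite family of proper morphisms which is jointly surjective. -/
structure IsPropFam {U : Scheme.{u}} (G : PreZeroHypercover.{0} U) : Prop where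
  finite : Finite G.I₀
  proper : ∀ a, IsProper (G.f a)
  surj : ∀ u : U, ∃ a, u ∈ Set.range (G.f a)

theorem isPropFam_singleton_id (U : Scheme.{u}) :
    IsPropFam (PreZeroHypercover.singleton.{0} (𝟙 U)) where
  finite := inferInstanceAs (Finite PUnit)
  proper := fun _ => (inferInstance : IsProper (𝟙 U))
  surj := fun u => ⟨PUnit.unit, u, rfl⟩

theorem isPropFam_prodFam {U : Scheme.{u}} {G H : PreZeroHypercover.{0} U} (hG : IsPropFam G)
    (hH : IsPropFam H) : IsPropFam (prodFam G H) where
  finite := by
    have := hG.finite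
    have := hH.finite
    exact inferInstanceAs (Finite (G.I₀ × H.I₀))
  proper := fun i => by
    have := hG.proper i.1
    have := hH.proper i.2
    exact (inferInstance : IsProper (pullback.fst (G.f i.1) (H.f i.2) ≫ G.f i.1))
  surj := fun u => by
    obtain ⟨a, x, hx⟩ := hG.surj u
    obtain ⟨b, y, hy⟩ := hH.surj u
    obtain ⟨z, hz1, hz2⟩ := Scheme.Pullback.exists_preimage_pullback (f := G.f a) (g := H.f b) x y
      (hx.trans hy.symm)
    refine ⟨(a, b), z, ?_⟩
    change (pullback.fst (G.f a) (H.f b) ≫ G.f a) z = u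
    rw [Scheme.Hom.comp_apply, hz1, hx]

theorem isPropFam_pairFam {U A A' : Scheme.{u}} (a : A ⟶ U) (a' : A' ⟶ U) [IsProper a]
    [IsProper a'] (h : ∀ u : U, u ∈ Set.range a ∨ u ∈ Set.range a') :
    IsPropFam (pairFam a a') where
  finite := inferInstanceAs (Finite Bool)
  proper := fun i => by
    cases i
    · exact ‹IsProper a'›
    · exact ‹IsProper a›
  surj := fun u => by
    rcases h u with h | h
    · exact ⟨true, h⟩
    · exact ⟨false, h⟩

theorem good_prodFam_left {U : Scheme.{u}} {B : PreZeroHypercover.{w} U}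
    {G H : PreZeroHypercover.{0} U} (i : (prodFam G H).I₀) (y : (prodFam G H).X i)
    (h : Good B (G.f i.1) (pullback.fst (G.f i.1) (H.f i.2) y)) :
    Good B ((prodFam G H).f i) y :=
  Good.comp (pullback.fst (G.f i.1) (H.f i.2)) h

theorem good_prodFam_right {U : Scheme.{u}} {B : PreZeroHypercover.{w} U}
    {G H : PreZeroHypercover.{0} U} (i : (prodFam G H).I₀) (y : (prodFam G H).X i)
    (h : Good B (H.f i.2) (pullback.snd (G.f i.1) (H.f i.2) y)) :
    Good B ((prodFam G H).f i) y := by
  have := Good.comp (pullback.snd (G.f i.1) (H.f i.2)) h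
  rw [← pullback.condition] at this
  exact this

/-- The closed complement of an open immersion, as a proper morphism. -/
theorem exists_closed_compl {U X : Scheme.{u}} (ι : X ⟶ U) [IsOpenImmersion ι] :
    ∃ (Z : Scheme.{u}) (z : Z ⟶ U), IsProper z ∧ Set.range z = (Set.range ι)ᶜ := by
  let C : TopologicalSpace.Closeds U := ⟨(Set.range ι)ᶜ, ι.isOpenEmbedding.isOpen_range.isClosed_compl⟩
  refine ⟨(Scheme.IdealSheafData.vanishingIdeal C).subscheme,
    (Scheme.IdealSheafData.vanishingIdeal C).subschemeι, inferInstance, ?_⟩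
  rw [Scheme.IdealSheafData.range_subschemeι, Scheme.IdealSheafData.coe_support_vanishingIdeal]
  rfl

theorem exists_family {U : Scheme.{u}} [CompactSpace U] [QuasiSeparatedSpace U]
    {J : Type w'} (X : J → Scheme.{u}) [∀ j, IsAffine (X j)] (ι : ∀ j, X j ⟶ U)
    [∀ j, IsOpenImmersion (ι j)] (V : J → Scheme.{u}) (g : ∀ j, V j ⟶ X j) [∀ j, IsProper (g j)]
    [∀ j, Surjective (g j)] (B : PreZeroHypercover.{w} U)
    (hB : ∀ j (v : V j), Good B (g j ≫ ι j) v) (S : Finset J) :
    ∃ G : PreZeroHypercover.{0} U, IsPropFam G ∧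
      ∀ a (y : G.X a), (∃ j ∈ S, G.f a y ∈ Set.range (ι j)) → Good B (G.f a) y := by
  classical
  induction S using Finset.induction_on with
  | empty =>
    exact ⟨_, isPropFam_singleton_id U, fun a y ⟨j, hj, _⟩ => absurd hj (Finset.notMem_empty j)⟩
  | insert j S hjS ih =>
    obtain ⟨G, hG, hGood⟩ := ih
    obtain ⟨Y, p, hp, hsub, hpg⟩ := exists_proper_extension (ι j) (g j) B (hB j)
    obtain ⟨Z, z, hz, hzr⟩ := exists_closed_compl (ι j)
    have hH : IsPropFam (pairFam p z) := by
      apply isPropFam_pairFam
      intro u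
      by_cases hu : u ∈ Set.range (ι j)
      · exact Or.inl (hsub hu)
      · right
        rw [hzr]
        exact hu
    refine ⟨prodFam G (pairFam p z), isPropFam_prodFam hG hH, ?_⟩
    rintro ⟨a, b⟩ y ⟨k, hk, hyk⟩
    have e1 : (prodFam G (pairFam p z)).f (a, b) y =
        G.f a (pullback.fst (G.f a) ((pairFam p z).f b) y) := by
      change (pullback.fst (G.f a) ((pairFam p z).f b) ≫ G.f a) y = _
      rw [Scheme.Hom.comp_apply]
    have e2 : (prodFam G (pairFam p z)).f (a, b) y =
        (pairFam p z).f b (pullback.snd (G.f a) ((pairFam p z).f b) y) := by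
      change (pullback.fst (G.f a) ((pairFam p z).f b) ≫ G.f a) y = _
      rw [pullback.condition, Scheme.Hom.comp_apply]
    rcases Finset.mem_insert.mp hk with rfl | hkS
    · -- the point lies over `X k`
      apply good_prodFam_right (a, b) y
      cases b
      · exfalso
        rw [e2] at hyk
        have : (pairFam p z).f false (pullback.snd (G.f a) ((pairFam p z).f false) y) ∈
            Set.range z := ⟨_, rfl⟩
        rw [hzr] at this
        exact this hyk
      · rw [e2] at hyk
        exact hpg _ hyk
    · apply good_prodFam_left (a, b) y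
      apply hGood a _ ⟨k, hkS, ?_⟩
      rw [← e1]
      exact hyk

end Groth.Agent.Lib.Helper14.PhComp
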