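import Mathlib
import Groth.Prelude.Def_HTop
import Groth.Agent.Lib.Helper14.PhComp2

/-!
# Composition of standard ph coverings: assembling the refining standard ph covering (helper14)
-/

set_option autoImplicit false
universe w w' u
open CategoryTheory CategoryTheory.Limits AlgebraicGeometry Opposite

namespace Groth.Agent.Lib.Helper14.PhComp

open Groth.Agent.Lib.Helper21.CurveCompl Groth.Agent.Lib.Helper14.PhBlow

/-- A finite jointly surjective family of proper morphisms to `U`, proper surjective over an affine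
`T`, all of whose points are good for `B`, yields a standard ph covering of `T` refining `B`. -/
theorem exists_standardPh_of_good {T U : Scheme.{u}} [IsAffine T] (f : U ⟶ T) [IsProper f]
    [Surjective f] (B : PreZeroHypercover.{w} U) (G : PreZeroHypercover.{0} U) (hG : IsPropFam G)
    (hgood : ∀ a (y : G.X a), Good B (G.f a) y) :
    ∃ F' : PreZeroHypercover.{0} T, HTop.IsStandardPh F' ∧
      ∃ (s : F'.I₀ → B.I₀) (h : ∀ k, F'.X k ⟶ B.X (s k)), ∀ k, h k ≫ B.f (s k) ≫ f = F'.f k := by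
  have hfinG := hG.finite
  have hprop : ∀ a, IsProper (G.f a ≫ f) := fun a => by
    have := hG.proper a
    infer_instance
  have hcpt : ∀ a, CompactSpace (G.X a) := fun a =>
    QuasiCompact.compactSpace_of_compactSpace (G.f a ≫ f)
  -- choose good neighbourhoods and affine opens inside
  choose N α hα κ b hyα hb using hgood
  have hA : ∀ a (y : G.X a), ∃ A : (G.X a).Opens, IsAffineOpen A ∧ y ∈ A ∧
      A ≤ (α a y).opensRange := by
    intro a y
    obtain ⟨A, hA, hyA, hAle⟩ := TopologicalSpace.Opens.isBasis_iff_nbhd.mp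
      (Scheme.isBasis_affineOpens (G.X a)) (U := (α a y).opensRange) (hyα a y)
    exact ⟨A, hA, hyA, hAle⟩
  choose A hAaff hyA hAle using hA
  have hfin : ∀ a, ∃ t : Finset (G.X a), ⋃ y ∈ t, ((A a y : (G.X a).Opens) : Set (G.X a)) = ⊤ :=
    fun a => CompactSpace.elim_nhds_subcover (fun y => ((A a y : (G.X a).Opens) : Set (G.X a)))
      (fun y => (A a y).isOpen.mem_nhds (hyA a y))
  choose t ht using hfin
  have : Finite (Σ a : G.I₀, t a) := inferInstance
  obtain ⟨n, ⟨e⟩⟩ := Finite.exists_equiv_fin (Σ a : G.I₀, t a)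
  let F' : PreZeroHypercover.{0} T :=
    { I₀ := Fin n
      X := fun k => ((A (e.symm k).1 (e.symm k).2.1 : (G.X (e.symm k).1).Opens) : Scheme.{u})
      f := fun k => (A (e.symm k).1 (e.symm k).2.1).ι ≫ G.f (e.symm k).1 ≫ f }
  let C : ULift.{u} G.I₀ → Scheme.{u} := fun a => G.X a.down
  let fC : ∀ a, C a ⟶ T := fun a => G.f a.down ≫ f
  have hpropC : ∀ a, IsProper (fC a) := fun a => hprop a.down
  have hP : IsProper (Sigma.desc fC) := isProper_sigmaDesc_of_isAffine C fC
  have hS : Surjective (Sigma.desc fC) := by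
    apply Surjective.sigmaDesc_of_union_range_eq_univ
    rw [Set.eq_univ_iff_forall]
    intro x
    obtain ⟨u, rfl⟩ := (inferInstance : Surjective f).surj x
    obtain ⟨a, y, rfl⟩ := hG.surj u
    exact Set.mem_iUnion.mpr ⟨⟨a⟩, y, by
      change (G.f a ≫ f) y = _
      rw [Scheme.Hom.comp_apply]⟩
  let ι : ∀ k, F'.X k ⟶ (∐ C : Scheme.{u}) := fun k =>
    (A (e.symm k).1 (e.symm k).2.1).ι ≫ Sigma.ι C ⟨(e.symm k).1⟩
  refine ⟨F', ⟨inferInstance, inferInstanceAs (Finite (Fin n)),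
    fun k => hAaff (e.symm k).1 (e.symm k).2.1,
    ∐ C, Sigma.desc fC, ι, hP, hS, fun k => ?_, fun k => ?_, fun x => ?_⟩,
    fun k => κ (e.symm k).1 (e.symm k).2.1,
    fun k => IsOpenImmersion.lift (α (e.symm k).1 (e.symm k).2.1)
      (A (e.symm k).1 (e.symm k).2.1).ι (by
        rw [Scheme.Opens.range_ι]
        exact hAle (e.symm k).1 (e.symm k).2.1) ≫ b (e.symm k).1 (e.symm k).2.1,
    fun k => ?_⟩
  · change IsOpenImmersion ((A (e.symm k).1 (e.symm k).2.1).ι ≫ Sigma.ι C ⟨(e.symm k).1⟩)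
    infer_instance
  · change ((A (e.symm k).1 (e.symm k).2.1).ι ≫ Sigma.ι C ⟨(e.symm k).1⟩) ≫ Sigma.desc fC =
      (A (e.symm k).1 (e.symm k).2.1).ι ≫ G.f (e.symm k).1 ≫ f
    rw [Category.assoc, Sigma.ι_desc]
  · obtain ⟨a, y, rfl⟩ := exists_sigmaι_eq C x
    have hy : y ∈ ⋃ y' ∈ t a.down, ((A a.down y' : (G.X a.down).Opens) : Set (G.X a.down)) := by
      rw [ht a.down]
      trivial
    simp only [Set.mem_iUnion] at hy
    obtain ⟨y', hy't, hyy'⟩ := hy
    obtain ⟨k, hk⟩ : ∃ k, e.symm k = ⟨a.down, ⟨y', hy't⟩⟩ :=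
      ⟨e ⟨a.down, ⟨y', hy't⟩⟩, e.symm_apply_apply _⟩
    have key : ∀ (q : Σ a : G.I₀, t a) (_ : q = ⟨a.down, ⟨y', hy't⟩⟩),
        Sigma.ι C a y ∈ Set.range ((A q.1 q.2.1).ι ≫ Sigma.ι C ⟨q.1⟩) := by
      rintro q rfl
      refine ⟨⟨y, hyy'⟩, ?_⟩
      rw [Scheme.Hom.comp_apply]
      rfl
    exact ⟨k, key (e.symm k) hk⟩
  · change (IsOpenImmersion.lift (α (e.symm k).1 (e.symm k).2.1)
      (A (e.symm k).1 (e.symm k).2.1).ι _ ≫ b (e.symm k).1 (e.symm k).2.1) ≫
      B.f (κ (e.symm k).1 (e.symm k).2.1) ≫ f =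
      (A (e.symm k).1 (e.symm k).2.1).ι ≫ G.f (e.symm k).1 ≫ f
    rw [Category.assoc, ← Category.assoc (b _ _), hb, Category.assoc, ← Category.assoc,
      IsOpenImmersion.lift_fac]

/-- The abstract form of the composition lemma for standard ph coverings. -/
theorem exists_standardPh_refinement {T U : Scheme.{u}} [IsAffine T] (f : U ⟶ T) [IsProper f]
    [Surjective f] {J : Type w'} [Finite J] (X : J → Scheme.{u}) [∀ j, IsAffine (X j)]
    (ι : ∀ j, X j ⟶ U) [∀ j, IsOpenImmersion (ι j)]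
    (hcov : ∀ u : U, ∃ j, u ∈ Set.range (ι j))
    (V : J → Scheme.{u}) (g : ∀ j, V j ⟶ X j) [∀ j, IsProper (g j)]
    [∀ j, Surjective (g j)] (B : PreZeroHypercover.{w} U)
    (hB : ∀ j (v : V j), Good B (g j ≫ ι j) v) :
    ∃ F' : PreZeroHypercover.{0} T, HTop.IsStandardPh F' ∧
      ∃ (s : F'.I₀ → B.I₀) (h : ∀ k, F'.X k ⟶ B.X (s k)), ∀ k, h k ≫ B.f (s k) ≫ f = F'.f k := by
  classical
  have hUc : CompactSpace U := QuasiCompact.compactSpace_of_compactSpace f
  have hUqs : QuasiSeparatedSpace U := quasiSeparatedSpace_of_quasiSeparated f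
  have := Fintype.ofFinite J
  obtain ⟨G, hG, hgood⟩ := exists_family X ι V g B hB Finset.univ
  refine exists_standardPh_of_good f B G hG (fun a y => hgood a y ?_)
  obtain ⟨j, hj⟩ := hcov (G.f a y)
  exact ⟨j, Finset.mem_univ j, hj⟩

end Groth.Agent.Lib.Helper14.PhComp
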