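import Mathlib
import Groth.Prelude.Def_HTop
import Groth.Agent.Lib.Helper14.PhComp3
import Groth.Agent.S7478

/-!
# ph coverings: lifting to affine test schemes (helper14)
-/

set_option autoImplicit false
universe w w' u
open CategoryTheory CategoryTheory.Limits AlgebraicGeometry Opposite

namespace Groth.Agent.Lib.Helper14.PhComp

/-- A composite of standard ph coverings is refined by a standard ph covering (any index
universes). -/
theorem exists_standardPh_bind {T : Scheme.{u}} (E : PreZeroHypercover.{w} T)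
    (hE : HTop.IsStandardPh E) (F : ∀ j, PreZeroHypercover.{w'} (E.X j))
    (hF : ∀ j, HTop.IsStandardPh (F j)) :
    ∃ F' : PreZeroHypercover.{0} T, HTop.IsStandardPh F' ∧ Nonempty (F'.Hom (E.bind F)) := by
  classical
  have hT : IsAffine T := hE.isAffine
  obtain ⟨U, f, ι, hf, hfs, hι, hιf, hcov⟩ := hE.exists_proper
  have hfin := hE.finite_index
  have haff := hE.isAffine_obj
  choose V g κ hg hgs hκ hκg hκcov using fun j => (hF j).exists_proper
  let B : PreZeroHypercover.{max w w'} U :=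
    { I₀ := Σ j : E.I₀, (F j).I₀
      X := fun q => (F q.1).X q.2
      f := fun q => (F q.1).f q.2 ≫ ι q.1 }
  have hB : ∀ j (v : V j), Good B (g j ≫ ι j) v := by
    intro j v
    obtain ⟨i, hi⟩ := hκcov j v
    refine ⟨(F j).X i, κ j i, hκ j i, ⟨j, i⟩, 𝟙 _, hi, ?_⟩
    change 𝟙 _ ≫ (F j).f i ≫ ι j = κ j i ≫ g j ≫ ι j
    rw [Category.id_comp, ← Category.assoc, hκg]
  obtain ⟨F', hF', s, h, hw⟩ := exists_standardPh_refinement f E.X ι hcov V g B hB
  refine ⟨F', hF', ⟨⟨s, h, fun k => ?_⟩⟩⟩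
  rw [← hw k]
  change h k ≫ (F (s k).1).f (s k).2 ≫ E.f (s k).1 = h k ≫ ((F (s k).1).f (s k).2 ≫ ι (s k).1) ≫ f
  rw [Category.assoc, hιf]

/-- A ph covering of `T` can be refined by a standard ph covering over any affine scheme mapping
to `T`. -/
theorem exists_standardPh_refinesOver {Z T : Scheme.{u}} [IsAffine Z] (γ : Z ⟶ T)
    (E : PreZeroHypercover.{w} T) (hE : HTop.IsPhCover E) :
    ∃ F : PreZeroHypercover.{0} Z, HTop.IsStandardPh F ∧ HTop.RefinesOver γ F E := by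
  classical
  have hW : ∀ z : Z, ∃ W : T.Opens, IsAffineOpen W ∧ γ z ∈ W := fun z => by
    obtain ⟨W, hW, hz, _⟩ := exists_isAffineOpen_mem_and_subset (x := γ z) (U := ⊤) trivial
    exact ⟨W, hW, hz⟩
  choose W hWaff hzW using hW
  have hD : ∀ z : Z, ∃ D : Z.Opens, IsAffineOpen D ∧ z ∈ D ∧ D ≤ γ ⁻¹ᵁ (W z) := fun z => by
    obtain ⟨D, hD, hz, hle⟩ := exists_isAffineOpen_mem_and_subset (x := z) (U := γ ⁻¹ᵁ (W z))
      (hzW z)
    exact ⟨D, hD, hz, hle⟩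
  choose D hDaff hzD hDle using hD
  obtain ⟨t, ht⟩ := CompactSpace.elim_nhds_subcover (fun z => ((D z : Z.Opens) : Set Z))
    (fun z => (D z).isOpen.mem_nhds (hzD z))
  let E₀ : PreZeroHypercover.{u} Z :=
    { I₀ := {z // z ∈ t}
      X := fun z => ((D z.1 : Z.Opens) : Scheme.{u})
      f := fun z => (D z.1).ι }
  have hE₀ : HTop.IsStandardPh E₀ := by
    refine ⟨inferInstance, inferInstanceAs (Finite {z // z ∈ t}), fun z => hDaff z.1,
      Z, 𝟙 Z, fun z => (D z.1).ι, inferInstance, inferInstance, fun z => inferInstance,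
      fun z => Category.comp_id _, fun x => ?_⟩
    have hx : x ∈ ⋃ z ∈ t, ((D z : Z.Opens) : Set Z) := by
      rw [ht]
      trivial
    simp only [Set.mem_iUnion] at hx
    obtain ⟨z, hzt, hxz⟩ := hx
    refine ⟨⟨z, hzt⟩, ?_⟩
    change x ∈ Set.range (D z).ι
    rw [Scheme.Opens.range_ι]
    exact hxz
  choose FW hFW hR using fun z : Z => hE.2 ⟨W z, hWaff z⟩
  let γz : ∀ z : Z, ((D z : Z.Opens) : Scheme.{u}) ⟶ ((W z : T.Opens) : Scheme.{u}) := fun z =>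
    γ.resLE (W z) (D z) (hDle z)
  have hγz : ∀ z, γz z ≫ (W z).ι = (D z).ι ≫ γ := fun z => Scheme.Hom.resLE_comp_ι _ _
  let F : ∀ z : E₀.I₀, PreZeroHypercover.{0} (E₀.X z) := fun z => (FW z.1).pullback₁ (γz z.1)
  have hF : ∀ z, HTop.IsStandardPh (F z) := fun z => by
    have : IsAffine ((D z.1 : Z.Opens) : Scheme.{u}) := hDaff z.1
    exact Groth.Agent.S7478.result (γz z.1) (FW z.1) (hFW z.1)
  obtain ⟨F', hF', ⟨φ⟩⟩ := exists_standardPh_bind E₀ hE₀ F hF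
  refine ⟨F', hF', fun k => ?_⟩
  obtain ⟨i, h, hh⟩ := hR (φ.s₀ k).1.1 (φ.s₀ k).2
  have hw := φ.w₀ k
  change φ.h₀ k ≫ pullback.fst (γz (φ.s₀ k).1.1) ((FW (φ.s₀ k).1.1).f (φ.s₀ k).2) ≫
    (D (φ.s₀ k).1.1).ι = F'.f k at hw
  refine ⟨i, (φ.h₀ k ≫ pullback.snd (γz (φ.s₀ k).1.1) ((FW (φ.s₀ k).1.1).f (φ.s₀ k).2)) ≫ h, ?_⟩
  have key : pullback.snd (γz (φ.s₀ k).1.1) ((FW (φ.s₀ k).1.1).f (φ.s₀ k).2) ≫
      (FW (φ.s₀ k).1.1).f (φ.s₀ k).2 ≫ (W (φ.s₀ k).1.1).ι =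
      (pullback.fst (γz (φ.s₀ k).1.1) ((FW (φ.s₀ k).1.1).f (φ.s₀ k).2) ≫ (D (φ.s₀ k).1.1).ι) ≫
        γ := by
    rw [Category.assoc, ← hγz, ← Category.assoc, ← Category.assoc, pullback.condition]
  rw [Category.assoc, hh, ← hw, Category.assoc]
  exact congrArg (φ.h₀ k ≫ ·) key

end Groth.Agent.Lib.Helper14.PhComp
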