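import Mathlib

set_option autoImplicit false
universe u
open TensorProduct

namespace Groth.Agent.Lib.Helper14.PiFP

section One

variable {B : Type u} [CommRing B] (Γ : Type u) [CommRing Γ] [Algebra B Γ]

/-- `Γ ⊗ B^n ≃ Γ^n`. -/
noncomputable def bcPi (n : ℕ) : Γ ⊗[B] (Fin n → B) ≃ₗ[Γ] (Fin n → Γ) :=
  TensorProduct.piScalarRight B Γ Γ (Fin n)

variable {M : Type u} [AddCommGroup M] [Module B M]

/-- Base change of a map out of a finite free module. -/
noncomputable def bcMap {n : ℕ} (p : (Fin n → B) →ₗ[B] M) : (Fin n → Γ) →ₗ[Γ] Γ ⊗[B] M :=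
  (p.baseChange Γ) ∘ₗ (bcPi Γ n).symm.toLinearMap

theorem bcMap_surjective {n : ℕ} (p : (Fin n → B) →ₗ[B] M) (hp : Function.Surjective p) :
    Function.Surjective (bcMap Γ p) := by
  intro z
  obtain ⟨w, hw⟩ := LinearMap.lTensor_surjective Γ hp z
  refine ⟨bcPi Γ n w, ?_⟩
  simp only [bcMap, LinearMap.coe_comp, LinearEquiv.coe_coe, Function.comp_apply,
    LinearEquiv.symm_apply_apply]
  exact hw

/-- Base change of a matrix. -/
noncomputable def bcMat {a b : ℕ} (v : (Fin a → B) →ₗ[B] (Fin b → B)) :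
    (Fin a → Γ) →ₗ[Γ] (Fin b → Γ) :=
  (bcPi Γ b).toLinearMap ∘ₗ (v.baseChange Γ) ∘ₗ (bcPi Γ a).symm.toLinearMap

theorem bc_exact {a b : ℕ} (v : (Fin a → B) →ₗ[B] (Fin b → B)) (p : (Fin b → B) →ₗ[B] M)
    (h : Function.Exact v p) (hp : Function.Surjective p) :
    Function.Exact (bcMat Γ v) (bcMap Γ p) := by
  have hex := lTensor_exact Γ h hp
  intro y
  constructor
  · intro hy
    have h1 : (LinearMap.lTensor Γ p) ((bcPi Γ b).symm y) = 0 := hy
    obtain ⟨x, hx⟩ := (hex _).mp h1
    refine ⟨bcPi Γ a x, ?_⟩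
    simp only [bcMat, LinearMap.coe_comp, LinearEquiv.coe_coe, Function.comp_apply,
      LinearEquiv.symm_apply_apply]
    have h2 : (LinearMap.baseChange Γ v) x = (bcPi Γ b).symm y := hx
    rw [h2, LinearEquiv.apply_symm_apply]
  · rintro ⟨x, rfl⟩
    simp only [bcMat, bcMap, LinearMap.coe_comp, LinearEquiv.coe_coe, Function.comp_apply,
      LinearEquiv.symm_apply_apply]
    exact (hex _).mpr ⟨_, rfl⟩

end One

section Prod

variable {ι : Type u} (Γ : ι → Type u) [∀ i, CommRing (Γ i)]

/-- Product of a family of linear maps out of finite free modules, as a linear map over the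
product ring. -/
noncomputable def piMap {n : ℕ} {N : ι → Type u} [∀ i, AddCommGroup (N i)]
    [∀ i, Module (Γ i) (N i)] (P : ∀ i, (Fin n → Γ i) →ₗ[Γ i] N i) :
    (Fin n → ∀ i, Γ i) →ₗ[∀ i, Γ i] (∀ i, N i) where
  toFun c i := P i (fun j => c j i)
  map_add' c c' := by
    funext i
    exact (P i).map_add (fun j => c j i) (fun j => c' j i)
  map_smul' d c := by
    funext i
    exact (P i).map_smul (d i) (fun j => c j i)

theorem piMap_surjective {n : ℕ} {N : ι → Type u} [∀ i, AddCommGroup (N i)]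
    [∀ i, Module (Γ i) (N i)] (P : ∀ i, (Fin n → Γ i) →ₗ[Γ i] N i)
    (hP : ∀ i, Function.Surjective (P i)) : Function.Surjective (piMap Γ P) := by
  intro y
  choose c hc using fun i => hP i (y i)
  exact ⟨fun j i => c i j, funext fun i => hc i⟩

/-- Product of a family of matrices, as a linear map over the product ring. -/
noncomputable def piMat {a b : ℕ} (V : ∀ i, (Fin a → Γ i) →ₗ[Γ i] (Fin b → Γ i)) :
    (Fin a → ∀ i, Γ i) →ₗ[∀ i, Γ i] (Fin b → ∀ i, Γ i) where
  toFun d j i := V i (fun l => d l i) j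
  map_add' d d' := by
    funext j i
    exact congrFun ((V i).map_add (fun l => d l i) (fun l => d' l i)) j
  map_smul' e d := by
    funext j i
    exact congrFun ((V i).map_smul (e i) (fun l => d l i)) j

theorem piMap_exact {a b : ℕ} {N : ι → Type u} [∀ i, AddCommGroup (N i)]
    [∀ i, Module (Γ i) (N i)] (V : ∀ i, (Fin a → Γ i) →ₗ[Γ i] (Fin b → Γ i))
    (P : ∀ i, (Fin b → Γ i) →ₗ[Γ i] N i) (h : ∀ i, Function.Exact (V i) (P i)) :
    Function.Exact (piMat Γ V) (piMap Γ P) := by
  intro c
  constructor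
  · intro hc
    have h1 : ∀ i, ∃ d : Fin a → Γ i, V i d = fun j => c j i := by
      intro i
      exact (h i _).mp (congrFun hc i)
    choose d hd using h1
    refine ⟨fun l i => d i l, ?_⟩
    funext j i
    exact congrFun (hd i) j
  · rintro ⟨d, rfl⟩
    funext i
    exact (h i _).mpr ⟨fun l => d l i, rfl⟩

variable {B : Type u} [CommRing B] [∀ i, Algebra B (Γ i)]
  {M : Type u} [AddCommGroup M] [Module B M]

/-- For a finitely presented `B`-module `M` and any family of `B`-algebras `Γ i`, the product of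
the base changes `Γ i ⊗ M` is finitely presented over the product ring. -/
theorem finitePresentation_pi_tensor [Module.FinitePresentation B M] :
    Module.FinitePresentation (∀ i, Γ i) (∀ i, Γ i ⊗[B] M) := by
  obtain ⟨b, a, p, v, hp, hex⟩ := Module.FinitePresentation.exists_fin' B M
  have hq : Function.Surjective (piMap Γ (fun i => bcMap (Γ i) p)) :=
    piMap_surjective Γ _ fun i => bcMap_surjective (Γ i) p hp
  have hqr : Function.Exact (piMat Γ (fun i => bcMat (Γ i) v))
      (piMap Γ (fun i => bcMap (Γ i) p)) :=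
    piMap_exact Γ _ _ fun i => bc_exact (Γ i) v p hex hp
  refine Module.finitePresentation_of_surjective _ hq ?_
  rw [LinearMap.exact_iff.mp hqr, LinearMap.range_eq_map]
  exact (Module.Finite.fg_top).map _

end Prod

end Groth.Agent.Lib.Helper14.PiFP
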