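import Groth.Agent.Lib.Helper14.ProdPt4

/-!
# Morphisms out of the spectrum of a product of rings: surjectivity (helper14)
-/

set_option autoImplicit false

universe u

namespace Groth.Agent.Lib.Helper14.ProdPt

open CategoryTheory CategoryTheory.Limits AlgebraicGeometry TopologicalSpace Opposite

variable {ι : Type u} (B : ι → Type u) [∀ i, CommRing (B i)]

section Loc

variable (a b : ∀ i, B i)

/-- The localization map of the product, as a morphism of schemes. -/
noncomputable abbrev loc :
    Spec (CommRingCat.of (PAway B a)) ⟶ Spec (CommRingCat.of (∀ i, B i)) :=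
  Spec.map (CommRingCat.ofHom (algebraMap (∀ i, B i) (PAway B a)))

/-- The localization map of one factor, as a morphism of schemes. -/
noncomputable abbrev loc1 (i : ι) :
    Spec (CommRingCat.of (Localization.Away (a i))) ⟶ Spec (CommRingCat.of (B i)) :=
  Spec.map (CommRingCat.ofHom (algebraMap (B i) (Localization.Away (a i))))

instance flat_loc : Flat (loc B a) := by
  rw [HasRingHomProperty.Spec_iff (P := @Flat), CommRingCat.hom_ofHom, RingHom.flat_algebraMap_iff]
  exact IsLocalization.flat _ (powSub a)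

theorem range_loc :
    Set.range (loc B a) =
      {𝔭 | Disjoint (powSub a : Set (∀ i, B i)) (𝔭.asIdeal : Set (∀ i, B i))} :=
  PrimeSpectrum.localization_comap_range (PAway B a) (powSub a)

theorem range_loc1 (i : ι) :
    Set.range (loc1 B a i) = (PrimeSpectrum.basicOpen (a i) : Set (PrimeSpectrum (B i))) :=
  PrimeSpectrum.localization_away_comap_range _ _

theorem prj_comp_loc (i : ι) :
    prj (fun i => Localization.Away (a i)) i ≫ loc B a = loc1 B a i ≫ prj B i := by
  rw [← Spec.map_comp, ← Spec.map_comp]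
  rfl

theorem eval_comp_toMulLeft (i : ι) :
    (Pi.evalRingHom (fun i => Localization.Away ((a * b) i)) i).comp (toMulLeft B a b) =
      (IsLocalization.Away.awayToAwayRight (S := Localization.Away (a i))
        (P := Localization.Away ((a * b) i)) (a i) (b i)).comp
        (Pi.evalRingHom (fun i => Localization.Away (a i)) i) := by
  apply IsLocalization.ringHom_ext (powSub a)
  rw [RingHom.comp_assoc, toMulLeft_comp, RingHom.comp_assoc]
  ext x
  exact (IsLocalization.Away.awayToAwayRight_eq (S := Localization.Away (a i))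
    (P := Localization.Away ((a * b) i)) (a i) (b i) (x i)).symm

theorem eval_comp_toMulRight (i : ι) :
    (Pi.evalRingHom (fun i => Localization.Away ((a * b) i)) i).comp (toMulRight B a b) =
      (IsLocalization.Away.awayToAwayLeft (S := Localization.Away (b i))
        (P := Localization.Away ((a * b) i)) (b i) (a i)).comp
        (Pi.evalRingHom (fun i => Localization.Away (b i)) i) := by
  apply IsLocalization.ringHom_ext (powSub b)
  rw [RingHom.comp_assoc, toMulRight_comp, RingHom.comp_assoc]
  ext x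
  exact (IsLocalization.Away.awayToAwayLeft_eq (S := Localization.Away (b i))
    (P := Localization.Away ((a * b) i)) (b i) (a i) (x i)).symm

end Loc

section Compat

variable (a b : ∀ i, B i) {X : Scheme.{u}} (f : ∀ i, Spec (CommRingCat.of (B i)) ⟶ X)

theorem SpecMap_toMulLeft_comp (Ga : Spec (CommRingCat.of (PAway B a)) ⟶ X)
    (hGa : ∀ i, prj (fun i => Localization.Away (a i)) i ≫ Ga = loc1 B a i ≫ f i) (i : ι) :
    prj (fun i => Localization.Away ((a * b) i)) i ≫
      Spec.map (CommRingCat.ofHom (toMulLeft B a b)) ≫ Ga = loc1 B (a * b) i ≫ f i := by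
  have e1 : prj (fun i => Localization.Away ((a * b) i)) i ≫
      Spec.map (CommRingCat.ofHom (toMulLeft B a b)) =
      Spec.map (CommRingCat.ofHom (IsLocalization.Away.awayToAwayRight
        (S := Localization.Away (a i)) (P := Localization.Away ((a * b) i)) (a i) (b i))) ≫
        prj (fun i => Localization.Away (a i)) i := by
    rw [← Spec.map_comp, ← Spec.map_comp, ← CommRingCat.ofHom_comp, ← CommRingCat.ofHom_comp,
      eval_comp_toMulLeft]
  have e2 : Spec.map (CommRingCat.ofHom (IsLocalization.Away.awayToAwayRight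
        (S := Localization.Away (a i)) (P := Localization.Away ((a * b) i)) (a i) (b i))) ≫
        loc1 B a i = loc1 B (a * b) i := by
    rw [← Spec.map_comp, ← CommRingCat.ofHom_comp]
    congr 2
    ext x
    exact IsLocalization.Away.awayToAwayRight_eq (S := Localization.Away (a i))
      (P := Localization.Away ((a * b) i)) (a i) (b i) x
  rw [← Category.assoc, e1, Category.assoc, hGa, ← Category.assoc, e2]

theorem SpecMap_toMulRight_comp (Gb : Spec (CommRingCat.of (PAway B b)) ⟶ X)
    (hGb : ∀ i, prj (fun i => Localization.Away (b i)) i ≫ Gb = loc1 B b i ≫ f i) (i : ι) :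
    prj (fun i => Localization.Away ((a * b) i)) i ≫
      Spec.map (CommRingCat.ofHom (toMulRight B a b)) ≫ Gb = loc1 B (a * b) i ≫ f i := by
  have e1 : prj (fun i => Localization.Away ((a * b) i)) i ≫
      Spec.map (CommRingCat.ofHom (toMulRight B a b)) =
      Spec.map (CommRingCat.ofHom (IsLocalization.Away.awayToAwayLeft
        (S := Localization.Away (b i)) (P := Localization.Away ((a * b) i)) (b i) (a i))) ≫
        prj (fun i => Localization.Away (b i)) i := by
    rw [← Spec.map_comp, ← Spec.map_comp, ← CommRingCat.ofHom_comp, ← CommRingCat.ofHom_comp,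
      eval_comp_toMulRight]
  have e2 : Spec.map (CommRingCat.ofHom (IsLocalization.Away.awayToAwayLeft
        (S := Localization.Away (b i)) (P := Localization.Away ((a * b) i)) (b i) (a i))) ≫
        loc1 B b i = loc1 B (a * b) i := by
    rw [← Spec.map_comp, ← CommRingCat.ofHom_comp]
    congr 2
    ext x
    exact IsLocalization.Away.awayToAwayLeft_eq (S := Localization.Away (b i))
      (P := Localization.Away ((a * b) i)) (b i) (a i) x
  rw [← Category.assoc, e1, Category.assoc, hGb, ← Category.assoc, e2]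

/-- The gluing condition on overlaps. -/
theorem SpecMap_toMul_eq [QuasiSeparatedSpace X] (Ga : Spec (CommRingCat.of (PAway B a)) ⟶ X)
    (hGa : ∀ i, prj (fun i => Localization.Away (a i)) i ≫ Ga = loc1 B a i ≫ f i)
    (Gb : Spec (CommRingCat.of (PAway B b)) ⟶ X)
    (hGb : ∀ i, prj (fun i => Localization.Away (b i)) i ≫ Gb = loc1 B b i ≫ f i) :
    Spec.map (CommRingCat.ofHom (toMulLeft B a b)) ≫ Ga =
      Spec.map (CommRingCat.ofHom (toMulRight B a b)) ≫ Gb := by
  apply hom_ext_prod (fun i => Localization.Away ((a * b) i))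
  intro i
  rw [SpecMap_toMulLeft_comp B a b f Ga hGa i, SpecMap_toMulRight_comp B a b f Gb hGb i]

end Compat

section Main

variable {X : Scheme.{u}}

theorem exists_hom_prod_aux [QuasiSeparatedSpace X] {κ : Type u} [Fintype κ]
    (Y : κ → Scheme.{u}) [∀ k, IsAffine (Y k)] (j : ∀ k, Y k ⟶ X) [∀ k, IsOpenImmersion (j k)]
    (hcov : ⋃ k, Set.range (j k) = Set.univ)
    (f : ∀ i, Spec (CommRingCat.of (B i)) ⟶ X) :
    ∃ g : Spec (CommRingCat.of (∀ i, B i)) ⟶ X, ∀ i, prj B i ≫ g = f i := by
  classical
  -- partitions of unity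
  have h1 : ∀ i, ∃ a : κ → B i, ∑ k, a k = 1 ∧ ∀ k,
      (PrimeSpectrum.basicOpen (a k) : Set (PrimeSpectrum (B i))) ⊆
        (f i) ⁻¹' (Set.range (j k)) := by
    intro i
    refine exists_partition_of_unity (fun k => (f i) ⁻¹' (Set.range (j k)))
      (fun k => (j k).isOpenEmbedding.isOpen_range.preimage (f i).continuous) ?_
    rw [← Set.preimage_iUnion, hcov, Set.preimage_univ]
  choose a ha1 ha2 using h1
  set α : κ → ∀ i, B i := fun k i => a i k with hα
  -- the local lifts
  have hr : ∀ k i, Set.range (loc1 B (α k) i ≫ f i) ⊆ Set.range (j k) := by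
    intro k i
    rintro _ ⟨y, rfl⟩
    rw [Scheme.Hom.comp_apply]
    apply ha2 i k
    have h2 : loc1 B (α k) i y ∈ Set.range (loc1 B (α k) i) := ⟨y, rfl⟩
    rw [range_loc1] at h2
    exact h2
  have hh : ∀ k i, IsOpenImmersion.lift (j k) (loc1 B (α k) i ≫ f i) (hr k i) ≫ j k =
      loc1 B (α k) i ≫ f i := fun k i => IsOpenImmersion.lift_fac _ _ _
  have h2 : ∀ k, ∃ g : Spec (CommRingCat.of (PAway B (α k))) ⟶ Y k,
      ∀ i, prj (fun i => Localization.Away (α k i)) i ≫ g =
        IsOpenImmersion.lift (j k) (loc1 B (α k) i ≫ f i) (hr k i) := fun k =>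
    exists_hom_of_isAffine (fun i => Localization.Away (α k i)) _
  choose g0 hg0 using h2
  set G : ∀ k, Spec (CommRingCat.of (PAway B (α k))) ⟶ X := fun k => g0 k ≫ j k with hGdef
  have hG : ∀ k i, prj (fun i => Localization.Away (α k i)) i ≫ G k =
      loc1 B (α k) i ≫ f i := by
    intro k i
    rw [hGdef, ← Category.assoc, hg0, hh]
  -- the covering
  set T : κ → Scheme.{u} := fun k => Spec (CommRingCat.of (PAway B (α k))) with hT
  set π : ∐ T ⟶ Spec (CommRingCat.of (∀ i, B i)) := Sigma.desc (fun k => loc B (α k)) with hπ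
  have hflat : Flat π := IsZariskiLocalAtSource.sigmaDesc (fun k => inferInstance)
  have hsurj : Surjective π := by
    rw [surjective_iff]
    intro x
    obtain ⟨k, hk⟩ := exists_disjoint_powSub α (fun i => ha1 i) x.asIdeal
    have hx : x ∈ Set.range (loc B (α k)) := by rw [range_loc]; exact hk
    obtain ⟨y, rfl⟩ := hx
    refine ⟨Sigma.ι T k y, ?_⟩
    rw [← Scheme.Hom.comp_apply, hπ, Sigma.ι_desc]
  have hqc : QuasiCompact π := inferInstance
  -- the descent condition
  have hdesc : ∀ {Z : Scheme.{u}} (g₁ g₂ : Z ⟶ ∐ T), g₁ ≫ π = g₂ ≫ π →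
      g₁ ≫ Sigma.desc G = g₂ ≫ Sigma.desc G := by
    intro Z g₁ g₂ hg
    refine sigmaDesc_comp_eq T (fun k => loc B (α k)) G ?_ g₁ g₂ hg
    intro Z k l v₁ v₂ hv
    refine comp_eq_comp_of_factor
      (CommRingCat.ofHom (algebraMap (∀ i, B i) (PAway B (α k))))
      (CommRingCat.ofHom (algebraMap (∀ i, B i) (PAway B (α l))))
      (CommRingCat.ofHom (toMulLeft B (α k) (α l)))
      (CommRingCat.ofHom (toMulRight B (α k) (α l))) ?_ (G k) (G l) ?_ v₁ v₂ hv
    · intro D φ₁ φ₂ hφ
      have hφ' : φ₁.hom.comp (algebraMap (∀ i, B i) (PAway B (α k))) =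
          φ₂.hom.comp (algebraMap (∀ i, B i) (PAway B (α l))) := by
        have := congrArg CommRingCat.Hom.hom hφ
        simpa using this
      obtain ⟨ψ, hψ1, hψ2⟩ := exists_factor_mul B (α k) (α l) φ₁.hom φ₂.hom hφ'
      refine ⟨CommRingCat.ofHom ψ, ?_, ?_⟩
      · ext x
        exact congrArg (fun χ : PAway B (α k) →+* D => χ x) hψ1
      · ext x
        exact congrArg (fun χ : PAway B (α l) →+* D => χ x) hψ2
    · exact SpecMap_toMul_eq B (α k) (α l) f (G k) (hG k) (G l) (hG l)
  refine ⟨EffectiveEpi.desc π (Sigma.desc G) hdesc, ?_⟩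
  have hfac : π ≫ EffectiveEpi.desc π (Sigma.desc G) hdesc = Sigma.desc G :=
    EffectiveEpi.fac π (Sigma.desc G) hdesc
  intro i
  have hs : Ideal.span (Set.range fun k => a i k) = ⊤ := by
    rw [Ideal.eq_top_iff_one, ← ha1 i]
    exact Ideal.sum_mem _ fun k _ => Ideal.subset_span ⟨k, rfl⟩
  refine Scheme.Cover.hom_ext (Scheme.affineOpenCoverOfSpanRangeEqTop
    (R := CommRingCat.of (B i)) (fun k => a i k) hs).openCover _ _ ?_
  intro k
  change loc1 B (α k) i ≫ prj B i ≫ _ = loc1 B (α k) i ≫ f i
  rw [← Category.assoc, ← prj_comp_loc, Category.assoc]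
  have e1 : loc B (α k) = Sigma.ι T k ≫ π := by rw [hπ, Sigma.ι_desc]
  rw [e1, Category.assoc, hfac, Sigma.ι_desc, hG]

theorem exists_hom_prod [CompactSpace X] [QuasiSeparatedSpace X]
    (f : ∀ i, Spec (CommRingCat.of (B i)) ⟶ X) :
    ∃ g : Spec (CommRingCat.of (∀ i, B i)) ⟶ X, ∀ i, prj B i ≫ g = f i := by
  set 𝒰 := X.affineCover.finiteSubcover with h𝒰
  have : ∀ k, IsAffine (𝒰.X k) := fun k => inferInstance
  refine exists_hom_prod_aux B 𝒰.X 𝒰.f ?_ f
  exact 𝒰.iUnion_range

end Main

end Groth.Agent.Lib.Helper14.ProdPt
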