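import Mathlib
import Groth.Prelude.Def_CohB1
import Groth.Agent.Lib.Helper14.PiFP1
import Groth.Agent.Lib.Helper14.ProdPt5
import Groth.Agent.Lib.Helper29.QCohPullback
import Groth.Agent.Lib.Helper29.QCohFP2

set_option autoImplicit false
universe u
open CategoryTheory CategoryTheory.Limits AlgebraicGeometry TensorProduct

namespace Groth.Agent.Lib.Helper14.PiFP

open Groth.Agent.Lib.Helper29.QCoh

/-- Sections of isomorphic modules. -/
noncomputable def sectionsEquivOfIso {X : Scheme.{u}} {M N : X.Modules} (θ : M ≅ N) (U : X.Opens) :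
    Γ(M, U) ≃ₗ[Γ(X, U)] Γ(N, U) where
  toFun := θ.hom.app U
  invFun := θ.inv.app U
  map_add' := map_add _
  map_smul' r x := Scheme.Modules.Hom.app_smul θ.hom r x
  left_inv x := by
    have h : (θ.hom ≫ θ.inv).app U = (𝟙 M : M ⟶ M).app U := by rw [θ.hom_inv_id]
    rw [Scheme.Modules.Hom.comp_app, Scheme.Modules.Hom.id_app] at h
    exact congrArg (fun φ => φ x) h
  right_inv x := by
    have h : (θ.inv ≫ θ.hom).app U = (𝟙 N : N ⟶ N).app U := by rw [θ.inv_hom_id]
    rw [Scheme.Modules.Hom.comp_app, Scheme.Modules.Hom.id_app] at h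
    exact congrArg (fun φ => φ x) h

/-- Product of linear equivalences over varying rings. -/
noncomputable def piLinearEquiv {ι : Type u} (R : ι → Type u) [∀ i, CommRing (R i)]
    (M N : ι → Type u) [∀ i, AddCommGroup (M i)] [∀ i, AddCommGroup (N i)]
    [∀ i, Module (R i) (M i)] [∀ i, Module (R i) (N i)] (E : ∀ i, M i ≃ₗ[R i] N i) :
    (∀ i, M i) ≃ₗ[∀ i, R i] (∀ i, N i) where
  toFun := fun x i => E i (x i)
  invFun := fun y i => (E i).symm (y i)
  map_add' := fun x y => funext fun i => (E i).map_add (x i) (y i)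
  map_smul' := fun c x => funext fun i => (E i).map_smul (c i) (x i)
  left_inv := fun x => funext fun i => (E i).symm_apply_apply (x i)
  right_inv := fun y => funext fun i => (E i).apply_symm_apply (y i)

open Groth.Agent.Lib.Helper14.ProdPt in
theorem finitePresentation_pi_sections (X : Scheme.{u}) [CompactSpace X] [QuasiSeparatedSpace X]
    {ι : Type u} (A : ι → CommRingCat.{u}) (f : ∀ i, Spec (A i) ⟶ X) (F : X.Modules)
    (hF : CohB1.IsFP F) :
    Module.FinitePresentation (∀ i, Γ(Spec (A i), ⊤))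
      (∀ i, Γ((Scheme.Modules.pullback (f i)).obj F, ⊤)) := by
  haveI : F.IsFinitePresentation := hF
  obtain ⟨g, hg⟩ := exists_hom_prod (fun i => (A i : Type u)) f
  obtain ⟨G, hG⟩ : ∃ G, G = (Scheme.Modules.pullback g).obj F := ⟨_, rfl⟩
  haveI : G.IsFinitePresentation := by rw [hG]; infer_instance
  haveI hM : Module.FinitePresentation Γ(Spec (CommRingCat.of (∀ i, A i)), ⊤) Γ(G, ⊤) :=
    module_finitePresentation_of_isFinitePresentation G (isAffineOpen_top _)
  have he : ∀ i, (⊤ : (Spec (A i)).Opens) ≤ (prj (fun i => (A i : Type u)) i) ⁻¹ᵁ ⊤ :=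
    fun i _ _ => trivial
  letI alg : ∀ i, Algebra Γ(Spec (CommRingCat.of (∀ i, A i)), ⊤) Γ(Spec (A i), ⊤) :=
    fun i => ((prj (fun i => (A i : Type u)) i).appLE ⊤ ⊤ (he i)).hom.toAlgebra
  have key : Module.FinitePresentation (∀ i, Γ(Spec (A i), ⊤))
      (∀ i, Γ(Spec (A i), ⊤) ⊗[Γ(Spec (CommRingCat.of (∀ i, A i)), ⊤)] Γ(G, ⊤)) :=
    finitePresentation_pi_tensor (fun i => Γ(Spec (A i), ⊤))
  let θ : ∀ i, (Scheme.Modules.pullback (f i)).obj F ≅
      (Scheme.Modules.pullback (prj (fun i => (A i : Type u)) i)).obj G := fun i =>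
    (Scheme.Modules.pullbackCongr (hg i).symm).app F ≪≫
      ((Scheme.Modules.pullbackComp (prj (fun i => (A i : Type u)) i) g).app F).symm ≪≫
      eqToIso (by rw [hG]; rfl)
  let E : ∀ i, Γ((Scheme.Modules.pullback (f i)).obj F, ⊤) ≃ₗ[Γ(Spec (A i), ⊤)]
      Γ(Spec (A i), ⊤) ⊗[Γ(Spec (CommRingCat.of (∀ i, A i)), ⊤)] Γ(G, ⊤) := fun i =>
    (sectionsEquivOfIso (θ i) ⊤) ≪≫ₗ
      (pullbackSectionsEquiv (prj (fun i => (A i : Type u)) i) G (isAffineOpen_top _)
        (isAffineOpen_top _) (he i))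
  exact Module.FinitePresentation.of_equiv
    (piLinearEquiv (fun i => Γ(Spec (A i), ⊤)) _ _ E).symm

end Groth.Agent.Lib.Helper14.PiFP
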