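import Mathlib

/-!
# Points of the spectrum of a product ring (helper14)
-/

universe u
open CategoryTheory CategoryTheory.Limits AlgebraicGeometry Opposite Topology

namespace Groth.Agent.Lib.Helper14.AS

/-- If finitely many elements generate the unit ideal in every factor, they do so in the product. -/
theorem span_eq_top_pi {ι : Type*} {A : ι → Type*} [∀ i, CommRing (A i)] {C : Type*}
    (t : Finset C) (v : C → ∀ i, A i)
    (h : ∀ i, Ideal.span ((fun f => v f i) '' (t : Set C)) = ⊤) :
    Ideal.span (v '' (t : Set C)) = ⊤ := by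
  classical
  have h1 : ∀ i, ∃ c : C → A i, ∑ f ∈ t, c f • v f i = 1 := by
    intro i
    have : (1 : A i) ∈ Ideal.span ((fun f => v f i) '' (t : Set C)) := by rw [h i]; trivial
    exact (Submodule.mem_span_image_finset_iff_exists_fun' (A i)).1 this
  choose c hc using h1
  rw [Ideal.eq_top_iff_one]
  refine (Submodule.mem_span_image_finset_iff_exists_fun' (∀ i, A i)).2 ⟨fun f i => c i f, ?_⟩
  funext i
  rw [Finset.sum_apply]
  exact hc i

/-- A family of ring maps into the factors whose spectra land in a quasi-compact open: the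
spectrum of the product map lands there too. -/
theorem comap_pi_mem_of_forall {ι : Type*} {A : ι → Type*} [∀ i, CommRing (A i)] {C : Type*}
    [CommRing C] (c : ∀ i, C →+* A i) (O : Set (PrimeSpectrum C)) (hO : IsCompact O ∧ IsOpen O)
    (h : ∀ i (p : PrimeSpectrum (A i)), PrimeSpectrum.comap (c i) p ∈ O)
    (x : PrimeSpectrum (∀ i, A i)) : PrimeSpectrum.comap (Pi.ringHom c) x ∈ O := by
  obtain ⟨t, rfl⟩ := PrimeSpectrum.isCompact_isOpen_iff.1 hO
  by_contra hx
  rw [Set.mem_compl_iff, not_not, PrimeSpectrum.mem_zeroLocus] at hx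
  have hspan : Ideal.span ((fun f => Pi.ringHom c f) '' (t : Set C)) = ⊤ := by
    refine span_eq_top_pi t (fun f => Pi.ringHom c f) fun i => ?_
    by_contra hne
    obtain ⟨m, hm, hle⟩ := Ideal.exists_le_maximal _ hne
    have := h i ⟨m, hm.isPrime⟩
    rw [Set.mem_compl_iff, PrimeSpectrum.mem_zeroLocus] at this
    apply this
    intro f hf
    change c i f ∈ m
    exact hle (Ideal.subset_span ⟨f, hf, rfl⟩)
  have hle : Ideal.span ((fun f => Pi.ringHom c f) '' (t : Set C)) ≤ x.asIdeal := by
    rw [Ideal.span_le]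
    rintro _ ⟨f, hf, rfl⟩
    exact hx hf
  rw [hspan] at hle
  exact x.2.ne_top (top_le_iff.1 hle)

/-- A quasi-compact, separated, locally quasi-finite morphism locally of finite type to the
spectrum of a product ring through which all the factor spectra factor has a section. -/
theorem exists_section_of_pi {ι : Type u} (A : ι → CommRingCat.{u}) {E : Scheme.{u}}
    (e : E ⟶ Spec (CommRingCat.of (∀ i, A i))) [QuasiCompact e] [LocallyOfFiniteType e]
    [IsSeparated e] [LocallyQuasiFinite e]
    (s : ∀ i, Spec (A i) ⟶ E)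
    (hs : ∀ i, s i ≫ e =
      Spec.map (CommRingCat.ofHom (Pi.evalRingHom (fun j => (A j : Type u)) i))) :
    ∃ σ : Spec (CommRingCat.of (∀ i, A i)) ⟶ E, σ ≫ e = 𝟙 _ := by
  have hNaff : IsAffine e.normalization := isAffine_of_isAffineHom e.fromNormalization
  have hoi : IsOpenImmersion e.toNormalization := inferInstance
  let j : E ⟶ Spec Γ(e.normalization, ⊤) := e.toNormalization ≫ e.normalization.isoSpec.hom
  let ν : Spec Γ(e.normalization, ⊤) ⟶ Spec (CommRingCat.of (∀ i, A i)) :=
    e.normalization.isoSpec.inv ≫ e.fromNormalization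
  have hjν : j ≫ ν = e := by
    simp only [j, ν, Category.assoc, Iso.hom_inv_id_assoc]
    exact e.toNormalization_fromNormalization
  have hEc : CompactSpace E := QuasiCompact.compactSpace_of_compactSpace e
  have hO : IsCompact (Set.range j) ∧ IsOpen (Set.range j) :=
    ⟨isCompact_range j.continuous, j.isOpenEmbedding.isOpen_range⟩
  let c : ∀ i, Γ(e.normalization, ⊤) ⟶ A i := fun i => Spec.preimage (s i ≫ j)
  let cc : Γ(e.normalization, ⊤) ⟶ CommRingCat.of (∀ i, A i) :=
    CommRingCat.ofHom (Pi.ringHom fun i => (c i).hom)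
  have hrange : Set.range (Spec.map cc) ⊆ Set.range j := by
    rintro _ ⟨x, rfl⟩
    refine comap_pi_mem_of_forall (fun i => (c i).hom) (Set.range j) hO (fun i p => ?_) x
    change Spec.map (c i) p ∈ Set.range j
    rw [Spec.map_preimage]
    exact ⟨s i p, rfl⟩
  let σ := IsOpenImmersion.lift j (Spec.map cc) hrange
  have hσ : σ ≫ j = Spec.map cc := IsOpenImmersion.lift_fac _ _ _
  refine ⟨σ, ?_⟩
  rw [← hjν, ← Category.assoc, hσ, ← Spec.map_preimage ν, ← Spec.map_comp, ← Spec.map_id]
  congr 1
  have key : ∀ i, Spec.preimage ν ≫ c i =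
      CommRingCat.ofHom (Pi.evalRingHom (fun j => (A j : Type u)) i) := by
    intro i
    apply Spec.map_injective
    rw [Spec.map_comp, Spec.map_preimage, Spec.map_preimage, Category.assoc, hjν, hs i]
  ext b i
  exact congrArg (fun k => k.hom b) (key i)

end Groth.Agent.Lib.Helper14.AS
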