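import Groth.Agent.Lib.Helper14.PiPts
import Groth.Agent.Lib.Helper14.AlgSpDiag2

/-!
# Points of the spectrum of a product ring in a quasi-separated algebraic space (helper14)
-/

universe u
open CategoryTheory CategoryTheory.Limits AlgebraicGeometry Opposite Topology

namespace Groth.Agent.Lib.Helper14.AS

open AlgSp

variable {S : Scheme.{u}}

set_option backward.isDefEq.respectTransparency.types false in
/-- Two points of a quasi-separated algebraic space over the spectrum of a product ring that agree
on all the factor spectra are equal. -/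
theorem pi_points_injective {X : Sp S} (hX : IsAlgSpace X) (hqs : IsQuasiSeparatedSp X)
    {ι : Type u} (A : ι → CommRingCat.{u}) (h : Spec (CommRingCat.of (∀ i, A i)) ⟶ S)
    (a b : (yon S).obj (Over.mk h) ⟶ X)
    (hab : ∀ i, (yon S).map (Over.homMk
        (Spec.map (CommRingCat.ofHom (Pi.evalRingHom (fun j => (A j : Type u)) i))) rfl :
        Over.mk (Spec.map (CommRingCat.ofHom (Pi.evalRingHom (fun j => (A j : Type u)) i)) ≫ h) ⟶
          Over.mk h) ≫ a =
      (yon S).map (Over.homMk
        (Spec.map (CommRingCat.ofHom (Pi.evalRingHom (fun j => (A j : Type u)) i))) rfl :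
        Over.mk (Spec.map (CommRingCat.ofHom (Pi.evalRingHom (fun j => (A j : Type u)) i)) ≫ h) ⟶
          Over.mk h) ≫ b) : a = b := by
  obtain ⟨hlft, hmono, hsep, hlqf⟩ := repWith_diag_properties hX
  have sq := hqs.rep.isPullback (prod.lift a b)
  have h1 : QuasiCompact (hqs.rep.snd (prod.lift a b)).left := hqs.property_snd _
  have h2 : LocallyOfFiniteType (hqs.rep.snd (prod.lift a b)).left := hlft.property _ _ _ sq
  have h3 : IsSeparated (hqs.rep.snd (prod.lift a b)).left := hsep.property _ _ _ sq
  have h4 : LocallyQuasiFinite (hqs.rep.snd (prod.lift a b)).left := hlqf.property _ _ _ sq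
  have hs : ∀ i, ∃ s : Spec (A i) ⟶ (hqs.rep.pullback (prod.lift a b)).left,
      s ≫ (hqs.rep.snd (prod.lift a b)).left =
        Spec.map (CommRingCat.ofHom (Pi.evalRingHom (fun j => (A j : Type u)) i)) := by
    intro i
    have hw : ((yon S).map (Over.homMk
        (Spec.map (CommRingCat.ofHom (Pi.evalRingHom (fun j => (A j : Type u)) i))) rfl :
        Over.mk (Spec.map (CommRingCat.ofHom (Pi.evalRingHom (fun j => (A j : Type u)) i)) ≫ h) ⟶
          Over.mk h) ≫ a) ≫ Limits.diag X = (yon S).map (Over.homMk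
        (Spec.map (CommRingCat.ofHom (Pi.evalRingHom (fun j => (A j : Type u)) i))) rfl :
        Over.mk (Spec.map (CommRingCat.ofHom (Pi.evalRingHom (fun j => (A j : Type u)) i)) ≫ h) ⟶
          Over.mk h) ≫ prod.lift a b := by
      apply Limits.prod.hom_ext <;> simp [hab i]
    obtain ⟨l, hl⟩ := (yon S).map_surjective (sq.lift _ _ hw)
    refine ⟨l.left, ?_⟩
    have h5 : (yon S).map (l ≫ hqs.rep.snd (prod.lift a b)) = (yon S).map (Over.homMk
        (Spec.map (CommRingCat.ofHom (Pi.evalRingHom (fun j => (A j : Type u)) i))) rfl :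
        Over.mk (Spec.map (CommRingCat.ofHom (Pi.evalRingHom (fun j => (A j : Type u)) i)) ≫ h) ⟶
          Over.mk h) := by
      rw [Functor.map_comp, hl, sq.lift_snd]
    exact congrArg CommaMorphism.left ((yon S).map_injective h5)
  choose s hs using hs
  obtain ⟨σ, hσ⟩ := exists_section_of_pi A (hqs.rep.snd (prod.lift a b)).left s hs
  let σ' : Over.mk h ⟶ hqs.rep.pullback (prod.lift a b) := Over.homMk σ (by
    rw [← Over.w (hqs.rep.snd (prod.lift a b)), ← Category.assoc, hσ]
    exact Category.id_comp _)
  have hσ' : σ' ≫ hqs.rep.snd (prod.lift a b) = 𝟙 _ := by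
    ext1
    exact hσ
  have e1 : (yon S).map (hqs.rep.snd (prod.lift a b)) ≫ a =
      (yon S).map (hqs.rep.snd (prod.lift a b)) ≫ b := by
    have ha := congrArg (fun k => k ≫ (prod.fst : X ⨯ X ⟶ X)) sq.w
    have hb := congrArg (fun k => k ≫ (prod.snd : X ⨯ X ⟶ X)) sq.w
    simp only [Category.assoc, prod.lift_fst, prod.lift_snd, Limits.diag, Category.comp_id]
      at ha hb
    rw [← ha, ← hb]
  calc a = (yon S).map (σ' ≫ hqs.rep.snd (prod.lift a b)) ≫ a := by
        rw [hσ', CategoryTheory.Functor.map_id, Category.id_comp]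
    _ = (yon S).map (σ' ≫ hqs.rep.snd (prod.lift a b)) ≫ b := by
        rw [Functor.map_comp, Category.assoc, e1, Category.assoc]
    _ = b := by rw [hσ', CategoryTheory.Functor.map_id, Category.id_comp]

end Groth.Agent.Lib.Helper14.AS
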