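import Mathlib

/-!
# Products of rings: unit ideals, partitions of unity and product localizations (helper14)
-/

set_option autoImplicit false

universe u

namespace Groth.Agent.Lib.Helper14.ProdPt

section Span

variable {ι : Type u} {B : ι → Type u} [∀ i, CommRing (B i)]

/-- A finite family in a product ring generates the unit ideal as soon as it does so in every
factor. -/
theorem span_range_eq_top_of_forall {κ : Type*} [Fintype κ] (v : κ → ∀ i, B i)
    (h : ∀ i, Ideal.span (Set.range fun k => v k i) = ⊤) : Ideal.span (Set.range v) = ⊤ := by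
  classical
  have h1 : ∀ i, ∃ c : κ → B i, ∑ k, c k • v k i = 1 := by
    intro i
    have : (1 : B i) ∈ Ideal.span (Set.range fun k => v k i) := by rw [h i]; trivial
    exact (Submodule.mem_span_range_iff_exists_fun (B i)).mp this
  choose c hc using h1
  rw [Ideal.eq_top_iff_one]
  refine (Submodule.mem_span_range_iff_exists_fun _).mpr ⟨fun k i => c i k, ?_⟩
  funext i
  rw [Finset.sum_apply]
  simpa using hc i

end Span

section Partition

variable {R : Type u} [CommRing R]

/-- Partition of unity subordinate to a finite open cover of a prime spectrum. -/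
theorem exists_partition_of_unity {κ : Type*} [Fintype κ] (W : κ → Set (PrimeSpectrum R))
    (hW : ∀ k, IsOpen (W k)) (hcov : ⋃ k, W k = Set.univ) :
    ∃ a : κ → R, ∑ k, a k = 1 ∧ ∀ k, (PrimeSpectrum.basicOpen (a k) : Set (PrimeSpectrum R)) ⊆ W k := by
  classical
  set I : κ → Ideal R := fun k => PrimeSpectrum.vanishingIdeal (W k)ᶜ with hI
  have htop : ⨆ k, I k = ⊤ := by
    rw [← PrimeSpectrum.zeroLocus_empty_iff_eq_top, Set.eq_empty_iff_forall_notMem]
    intro 𝔭 h𝔭
    have h𝔭' : ∀ k, I k ≤ 𝔭.asIdeal := fun k => (le_iSup I k).trans h𝔭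
    obtain ⟨k₀, hk₀⟩ : ∃ k, 𝔭 ∈ W k := by
      have : 𝔭 ∈ ⋃ k, W k := by rw [hcov]; trivial
      simpa using this
    have hcl : IsClosed (W k₀)ᶜ := (hW k₀).isClosed_compl
    have h2 : 𝔭 ∈ PrimeSpectrum.zeroLocus (I k₀ : Set R) := h𝔭' k₀
    rw [hI, PrimeSpectrum.zeroLocus_vanishingIdeal_eq_closure, hcl.closure_eq] at h2
    exact h2 hk₀
  have h1 : (1 : R) ∈ ⨆ k ∈ (Finset.univ : Finset κ), I k := by
    simp only [Finset.mem_univ, iSup_pos, htop]; trivial
  obtain ⟨μ, hμ⟩ := (Submodule.mem_iSup_finset_iff_exists_sum I 1).mp h1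
  refine ⟨fun k => (μ k : R), hμ, ?_⟩
  intro k 𝔭 h𝔭
  by_contra hne
  have h3 : (μ k : R) ∈ 𝔭.asIdeal := by
    have h4 : (μ k : R) ∈ PrimeSpectrum.vanishingIdeal (W k)ᶜ := (μ k).2
    exact (PrimeSpectrum.mem_vanishingIdeal _ _).mp h4 𝔭 hne
  exact h𝔭 h3

end Partition

section Cover

variable {ι : Type u} {B : ι → Type u} [∀ i, CommRing (B i)]

/-- The product submonoid of powers. -/
def powSub (a : ∀ i, B i) : Submonoid (∀ i, B i) :=
  Submonoid.pi Set.univ fun i => Submonoid.powers (a i)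

theorem exists_disjoint_powSub {κ : Type*} [Fintype κ] (a : κ → ∀ i, B i)
    (ha : ∀ i, ∑ k, a k i = 1) (𝔭 : Ideal (∀ i, B i)) [𝔭.IsPrime] :
    ∃ k, Disjoint (powSub (a k) : Set (∀ i, B i)) (𝔭 : Set (∀ i, B i)) := by
  classical
  by_contra hcon
  have hcon : ∀ k, ¬ Disjoint (powSub (a k) : Set (∀ i, B i)) (𝔭 : Set (∀ i, B i)) :=
    fun k hk => hcon ⟨k, hk⟩
  have h1 : ∀ k, ∃ s, s ∈ powSub (a k) ∧ s ∈ 𝔭 := by
    intro k
    obtain ⟨s, hs1, hs2⟩ := Set.not_disjoint_iff.mp (hcon k)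
    exact ⟨s, hs1, hs2⟩
  choose s hs1 hs2 using h1
  have hexp : ∀ k i, ∃ m : ℕ, a k i ^ m = s k i := by
    intro k i
    have := hs1 k i (Set.mem_univ i)
    exact (Submonoid.mem_powers_iff _ _).mp this
  choose m hm using hexp
  have hspan : Ideal.span (Set.range s) = ⊤ := by
    apply span_range_eq_top_of_forall
    intro i
    -- the `a k i` generate the unit ideal
    have h0 : Ideal.span (Set.range fun k => a k i) = ⊤ := by
      rw [Ideal.eq_top_iff_one, ← ha i]
      exact Ideal.sum_mem _ fun k _ => Ideal.subset_span ⟨k, rfl⟩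
    set N : ℕ := Finset.univ.sup fun k => m k i with hN
    have h2 := Ideal.span_pow_eq_top _ h0 N
    rw [eq_top_iff, ← h2, Ideal.span_le]
    rintro _ ⟨_, ⟨k, rfl⟩, rfl⟩
    have hle : m k i ≤ N := Finset.le_sup (f := fun k => m k i) (Finset.mem_univ k)
    have h3 : a k i ^ N = a k i ^ (N - m k i) * s k i := by
      rw [← hm k i, ← pow_add, Nat.sub_add_cancel hle]
    change a k i ^ N ∈ _
    rw [h3]
    exact Ideal.mul_mem_left _ _ (Ideal.subset_span ⟨k, rfl⟩)
  have hle : Ideal.span (Set.range s) ≤ 𝔭 := by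
    rw [Ideal.span_le]
    rintro _ ⟨k, rfl⟩
    exact hs2 k
  rw [hspan, top_le_iff] at hle
  exact ‹𝔭.IsPrime›.ne_top hle

end Cover

end Groth.Agent.Lib.Helper14.ProdPt
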