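import Groth.Agent.Lib.Helper14.ProdPt1

/-!
# Morphisms out of the spectrum of a product of rings: injectivity (helper14)
-/

set_option autoImplicit false

universe u

namespace Groth.Agent.Lib.Helper14.ProdPt

open CategoryTheory CategoryTheory.Limits AlgebraicGeometry TopologicalSpace Opposite

variable {ι : Type u} (B : ι → Type u) [∀ i, CommRing (B i)]

/-- The inclusion of the spectrum of a factor. -/
noncomputable abbrev prj (i : ι) :
    Spec (CommRingCat.of (B i)) ⟶ Spec (CommRingCat.of (∀ i, B i)) :=
  Spec.map (CommRingCat.ofHom (Pi.evalRingHom B i))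

/-- A quasi-compact open of the spectrum of a product containing the spectra of all factors is
everything. -/
theorem eq_univ_of_forall_range_subset (W : Set (PrimeSpectrum (∀ i, B i))) (hW1 : IsOpen W)
    (hW2 : IsCompact W)
    (h : ∀ i, Set.range (PrimeSpectrum.comap (Pi.evalRingHom B i)) ⊆ W) : W = Set.univ := by
  obtain ⟨t, rfl⟩ := PrimeSpectrum.isCompact_isOpen_iff.mp ⟨hW2, hW1⟩
  have hspan : Ideal.span (Set.range (Subtype.val : {x // x ∈ t} → ∀ i, B i)) = ⊤ := by
    apply span_range_eq_top_of_forall
    intro i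
    by_contra hne
    obtain ⟨M, hM, hle⟩ := Ideal.exists_le_maximal _ hne
    have hmem := h i ⟨⟨M, hM.isPrime⟩, rfl⟩
    apply hmem
    intro a ha
    exact hle (Ideal.subset_span ⟨⟨a, ha⟩, rfl⟩)
  rw [Subtype.range_coe_subtype, Finset.setOfPred_mem] at hspan
  rw [← PrimeSpectrum.zeroLocus_span, hspan]
  simp

theorem hom_ext_prod {X : Scheme.{u}} [QuasiSeparatedSpace X]
    (f g : Spec (CommRingCat.of (∀ i, B i)) ⟶ X) (h : ∀ i, prj B i ≫ f = prj B i ≫ g) :
    f = g := by
  set j := equalizer.ι f g with hj
  have hl : ∀ i, equalizer.lift (prj B i) (h i) ≫ j = prj B i := fun i => equalizer.lift_ι _ _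
  -- the kernel of `j` vanishes
  have hker : j.ker = ⊥ := by
    refine Scheme.IdealSheafData.ext_of_isAffine ?_
    rw [Scheme.Hom.ker_apply, Scheme.IdealSheafData.ideal_bot, Pi.bot_apply, eq_bot_iff]
    intro x hx
    rw [RingHom.mem_ker] at hx
    rw [Ideal.mem_bot]
    have h1 : ∀ i, ((prj B i).appTop).hom x = 0 := by
      intro i
      have h2 : (prj B i).appTop = j.appTop ≫ (equalizer.lift (prj B i) (h i)).appTop := by
        rw [← Scheme.Hom.comp_appTop, hl i]
      rw [h2, CommRingCat.comp_apply]
      have h3 : (j.appTop).hom x = 0 := hx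
      rw [h3, map_zero]
    have h4 : (Scheme.ΓSpecIso (CommRingCat.of (∀ i, B i))).hom.hom x = 0 := by
      funext i
      have h5 := Scheme.ΓSpecIso_naturality (CommRingCat.ofHom (Pi.evalRingHom B i))
      have h6 : ((prj B i).appTop ≫ (Scheme.ΓSpecIso (CommRingCat.of (B i))).hom).hom x =
          ((Scheme.ΓSpecIso (CommRingCat.of (∀ i, B i))).hom ≫
            CommRingCat.ofHom (Pi.evalRingHom B i)).hom x := by rw [h5]
      rw [CommRingCat.hom_comp, CommRingCat.hom_comp, RingHom.comp_apply, RingHom.comp_apply,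
        h1 i, map_zero] at h6
      exact h6.symm
    have hinj := (ConcreteCategory.bijective_of_isIso
      (Scheme.ΓSpecIso (CommRingCat.of (∀ i, B i))).hom).1
    exact hinj (by rw [h4, map_zero])
  have hiso : IsIso j.imageι := by
    rw [AlgebraicGeometry.Scheme.isIso_subschemeι_iff_eq_bot]; exact hker
  have hopen : IsOpenImmersion j := by
    rw [← j.toImage_imageι]; infer_instance
  have hsurj : Surjective j := by
    rw [surjective_iff]
    rw [← Set.range_eq_univ]
    refine eq_univ_of_forall_range_subset B _ j.isOpenEmbedding.isOpen_range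
      (isCompact_range j.continuous) ?_
    intro i
    rintro _ ⟨y, rfl⟩
    refine ⟨equalizer.lift (prj B i) (h i) y, ?_⟩
    rw [← Scheme.Hom.comp_apply, hl i]
    rfl
  have : IsIso j := (isIso_iff_isOpenImmersion_and_surjective j).mpr ⟨hopen, hsurj⟩
  rw [← cancel_epi j]
  exact equalizer.condition f g

end Groth.Agent.Lib.Helper14.ProdPt
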