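import Groth.Agent.Lib.Helper14.ProdPt2

/-!
# Morphisms out of the spectrum of a product of rings: affine targets and product localizations
(helper14)
-/

set_option autoImplicit false

universe u

namespace Groth.Agent.Lib.Helper14.ProdPt

open CategoryTheory CategoryTheory.Limits AlgebraicGeometry TopologicalSpace Opposite

variable {ι : Type u} (B : ι → Type u) [∀ i, CommRing (B i)]

/-- Affine targets: a family of morphisms from the factors comes from the product. -/
theorem exists_hom_of_isAffine {Y : Scheme.{u}} [IsAffine Y]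
    (h : ∀ i, Spec (CommRingCat.of (B i)) ⟶ Y) :
    ∃ g : Spec (CommRingCat.of (∀ i, B i)) ⟶ Y, ∀ i, prj B i ≫ g = h i := by
  have h1 : ∀ i, ∃ φ : Γ(Y, ⊤) ⟶ CommRingCat.of (B i), Spec.map φ = h i ≫ Y.isoSpec.hom :=
    fun i => Spec.map_surjective _
  choose φ hφ using h1
  refine ⟨Spec.map (CommRingCat.ofHom (RingHom.pi fun i => (φ i).hom)) ≫ Y.isoSpec.inv, ?_⟩
  intro i
  rw [← Category.assoc, ← Spec.map_comp]
  have : CommRingCat.ofHom (RingHom.pi fun i => (φ i).hom) ≫
      CommRingCat.ofHom (Pi.evalRingHom B i) = φ i := by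
    ext x
    rfl
  rw [this, hφ, Category.assoc, Iso.hom_inv_id, Category.comp_id]

section Loc

variable (a b : ∀ i, B i)

/-- The product of the localizations at one element per factor. -/
abbrev PAway : Type u := ∀ i, Localization.Away (a i)

instance : IsLocalization (powSub a) (PAway B a) :=
  inferInstanceAs (IsLocalization (Submonoid.pi Set.univ fun i => Submonoid.powers (a i))
    (∀ i, Localization.Away (a i)))

theorem isUnit_algebraMap_mul_left (s : powSub a) :
    IsUnit (algebraMap (∀ i, B i) (PAway B (a * b)) s) := by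
  rw [Pi.isUnit_iff]
  intro i
  obtain ⟨n, hn⟩ := (Submonoid.mem_powers_iff _ _).mp (s.2 i (Set.mem_univ i))
  have h1 : IsUnit (algebraMap (B i) (Localization.Away ((a * b) i)) ((a * b) i)) :=
    IsLocalization.Away.algebraMap_isUnit _
  have h2 : IsUnit (algebraMap (B i) (Localization.Away ((a * b) i)) (a i)) := by
    rw [Pi.mul_apply, map_mul] at h1
    exact isUnit_of_mul_isUnit_left h1
  change IsUnit (algebraMap (B i) (Localization.Away ((a * b) i)) ((s : ∀ i, B i) i))
  rw [← hn, map_pow]
  exact h2.pow n

theorem isUnit_algebraMap_mul_right (s : powSub b) :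
    IsUnit (algebraMap (∀ i, B i) (PAway B (a * b)) s) := by
  rw [Pi.isUnit_iff]
  intro i
  obtain ⟨n, hn⟩ := (Submonoid.mem_powers_iff _ _).mp (s.2 i (Set.mem_univ i))
  have h1 : IsUnit (algebraMap (B i) (Localization.Away ((a * b) i)) ((a * b) i)) :=
    IsLocalization.Away.algebraMap_isUnit _
  have h2 : IsUnit (algebraMap (B i) (Localization.Away ((a * b) i)) (b i)) := by
    rw [Pi.mul_apply, map_mul] at h1
    exact isUnit_of_mul_isUnit_right h1
  change IsUnit (algebraMap (B i) (Localization.Away ((a * b) i)) ((s : ∀ i, B i) i))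
  rw [← hn, map_pow]
  exact h2.pow n

/-- The canonical maps to the localization at the product. -/
noncomputable def toMulLeft : PAway B a →+* PAway B (a * b) :=
  IsLocalization.lift (M := powSub a) (isUnit_algebraMap_mul_left B a b)

noncomputable def toMulRight : PAway B b →+* PAway B (a * b) :=
  IsLocalization.lift (M := powSub b) (isUnit_algebraMap_mul_right B a b)

theorem toMulLeft_comp :
    (toMulLeft B a b).comp (algebraMap (∀ i, B i) (PAway B a)) =
      algebraMap (∀ i, B i) (PAway B (a * b)) :=
  IsLocalization.lift_comp _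

theorem toMulRight_comp :
    (toMulRight B a b).comp (algebraMap (∀ i, B i) (PAway B b)) =
      algebraMap (∀ i, B i) (PAway B (a * b)) :=
  IsLocalization.lift_comp _

/-- Two maps from the two localizations agreeing on the product ring factor through the
localization at the product. -/
theorem exists_factor_mul {D : Type u} [CommRing D] (ψa : PAway B a →+* D) (ψb : PAway B b →+* D)
    (h : ψa.comp (algebraMap (∀ i, B i) (PAway B a)) =
      ψb.comp (algebraMap (∀ i, B i) (PAway B b))) :
    ∃ ψ : PAway B (a * b) →+* D, ψ.comp (toMulLeft B a b) = ψa ∧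
      ψ.comp (toMulRight B a b) = ψb := by
  set θ : (∀ i, B i) →+* D := ψa.comp (algebraMap (∀ i, B i) (PAway B a)) with hθ
  have hunit : ∀ s : powSub (a * b), IsUnit (θ s) := by
    intro s
    -- write `s` as a product
    have hs : ∀ i, ∃ n : ℕ, (a i * b i) ^ n = (s : ∀ i, B i) i := fun i =>
      (Submonoid.mem_powers_iff _ _).mp (s.2 i (Set.mem_univ i))
    choose n hn using hs
    have hsa : (fun i => a i ^ n i) ∈ powSub a := fun i _ => ⟨n i, rfl⟩
    have hsb : (fun i => b i ^ n i) ∈ powSub b := fun i _ => ⟨n i, rfl⟩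
    have hprod : (s : ∀ i, B i) = (fun i => a i ^ n i) * (fun i => b i ^ n i) := by
      funext i
      rw [Pi.mul_apply, ← hn i, mul_pow]
    rw [hprod, map_mul]
    refine IsUnit.mul ?_ ?_
    · change IsUnit (ψa (algebraMap _ _ _))
      exact (IsLocalization.map_units (PAway B a) ⟨_, hsa⟩).map ψa
    · have hθb : θ = ψb.comp (algebraMap (∀ i, B i) (PAway B b)) := h
      rw [hθb]
      change IsUnit (ψb (algebraMap _ _ _))
      exact (IsLocalization.map_units (PAway B b) ⟨_, hsb⟩).map ψb
  refine ⟨IsLocalization.lift (M := powSub (a * b)) hunit, ?_, ?_⟩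
  · apply IsLocalization.ringHom_ext (powSub a)
    rw [RingHom.comp_assoc, toMulLeft_comp, IsLocalization.lift_comp]
  · apply IsLocalization.ringHom_ext (powSub b)
    rw [RingHom.comp_assoc, toMulRight_comp, IsLocalization.lift_comp]
    exact h

end Loc

end Groth.Agent.Lib.Helper14.ProdPt
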