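import Groth.Agent.Lib.Helper14.ProdPt3
import Groth.Agent.Lib.Helper25.BlowUpLocal

/-!
# Descent lemmas for maps out of finite coproducts of affine schemes (helper14)
-/

set_option autoImplicit false

universe u

namespace Groth.Agent.Lib.Helper14.ProdPt

open CategoryTheory CategoryTheory.Limits AlgebraicGeometry TopologicalSpace Opposite

/-- Every morphism to an affine scheme `Spec R` factors through `toSpecΓ`. -/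
theorem eq_toSpecΓ_comp {Z : Scheme.{u}} {R : CommRingCat.{u}} (v : Z ⟶ Spec R) :
    v = Z.toSpecΓ ≫ Spec.map ((Scheme.ΓSpecIso R).inv ≫ v.appTop) := by
  calc v = v ≫ (Spec R).toSpecΓ ≫ Spec.map (Scheme.ΓSpecIso R).inv := by
        rw [toSpecΓ_SpecMap_ΓSpecIso_inv, Category.comp_id]
    _ = Z.toSpecΓ ≫ Spec.map v.appTop ≫ Spec.map (Scheme.ΓSpecIso R).inv := by
        rw [← Category.assoc, Scheme.toSpecΓ_naturality, Category.assoc]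
    _ = _ := by rw [← Spec.map_comp]

theorem toSpecΓ_comp_SpecMap_injective {Z : Scheme.{u}} {R : CommRingCat.{u}}
    (φ φ' : R ⟶ Γ(Z, ⊤)) (h : Z.toSpecΓ ≫ Spec.map φ = Z.toSpecΓ ≫ Spec.map φ') : φ = φ' := by
  have h1 : ∀ χ : R ⟶ Γ(Z, ⊤),
      (Z.toSpecΓ ≫ Spec.map χ).appTop = (Scheme.ΓSpecIso R).hom ≫ χ := by
    intro χ
    rw [Scheme.Hom.comp_appTop, Scheme.toSpecΓ_appTop, Scheme.ΓSpecIso_naturality]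
  have h2 := congrArg Scheme.Hom.appTop h
  rw [h1, h1] at h2
  exact (cancel_epi _).mp h2

/-- Abstract descent for two affine charts with an affine "intersection". -/
theorem comp_eq_comp_of_factor {Z X : Scheme.{u}} {R R₁ R₂ R₁₂ : CommRingCat.{u}}
    (α₁ : R ⟶ R₁) (α₂ : R ⟶ R₂) (β₁ : R₁ ⟶ R₁₂) (β₂ : R₂ ⟶ R₁₂)
    (hpush : ∀ (D : CommRingCat.{u}) (φ₁ : R₁ ⟶ D) (φ₂ : R₂ ⟶ D), α₁ ≫ φ₁ = α₂ ≫ φ₂ →
      ∃ ψ : R₁₂ ⟶ D, β₁ ≫ ψ = φ₁ ∧ β₂ ≫ ψ = φ₂)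
    (G₁ : Spec R₁ ⟶ X) (G₂ : Spec R₂ ⟶ X) (hG : Spec.map β₁ ≫ G₁ = Spec.map β₂ ≫ G₂)
    (v₁ : Z ⟶ Spec R₁) (v₂ : Z ⟶ Spec R₂) (h : v₁ ≫ Spec.map α₁ = v₂ ≫ Spec.map α₂) :
    v₁ ≫ G₁ = v₂ ≫ G₂ := by
  set φ₁ := (Scheme.ΓSpecIso R₁).inv ≫ v₁.appTop with hφ₁
  set φ₂ := (Scheme.ΓSpecIso R₂).inv ≫ v₂.appTop with hφ₂
  have e₁ : v₁ = Z.toSpecΓ ≫ Spec.map φ₁ := eq_toSpecΓ_comp v₁
  have e₂ : v₂ = Z.toSpecΓ ≫ Spec.map φ₂ := eq_toSpecΓ_comp v₂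
  have h3 : α₁ ≫ φ₁ = α₂ ≫ φ₂ := by
    apply toSpecΓ_comp_SpecMap_injective
    have c₁ : Z.toSpecΓ ≫ Spec.map (α₁ ≫ φ₁) = v₁ ≫ Spec.map α₁ := by
      rw [Spec.map_comp (α₁) φ₁, ← Category.assoc, ← e₁]
    have c₂ : Z.toSpecΓ ≫ Spec.map (α₂ ≫ φ₂) = v₂ ≫ Spec.map α₂ := by
      rw [Spec.map_comp (α₂) φ₂, ← Category.assoc, ← e₂]
    rw [c₁, c₂]
    exact h
  obtain ⟨ψ, hψ₁, hψ₂⟩ := hpush _ φ₁ φ₂ h3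
  have d₁ : v₁ ≫ G₁ = Z.toSpecΓ ≫ Spec.map ψ ≫ Spec.map β₁ ≫ G₁ := by
    rw [e₁, ← hψ₁, Spec.map_comp β₁ ψ]
    simp only [Category.assoc]
  have d₂ : v₂ ≫ G₂ = Z.toSpecΓ ≫ Spec.map ψ ≫ Spec.map β₂ ≫ G₂ := by
    rw [e₂, ← hψ₂, Spec.map_comp β₂ ψ]
    simp only [Category.assoc]
  rw [d₁, d₂, hG]

/-- Descent condition for `Sigma.desc`: it suffices to check it componentwise. -/
theorem sigmaDesc_comp_eq {κ : Type u} (T : κ → Scheme.{u}) {S X : Scheme.{u}}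
    (π : ∀ k, T k ⟶ S) (G : ∀ k, T k ⟶ X)
    (h : ∀ (Z : Scheme.{u}) (k l : κ) (v₁ : Z ⟶ T k) (v₂ : Z ⟶ T l),
      v₁ ≫ π k = v₂ ≫ π l → v₁ ≫ G k = v₂ ≫ G l)
    {Z : Scheme.{u}} (g₁ g₂ : Z ⟶ ∐ T) (hg : g₁ ≫ Sigma.desc π = g₂ ≫ Sigma.desc π) :
    g₁ ≫ Sigma.desc G = g₂ ≫ Sigma.desc G := by
  apply Groth.Agent.Lib.Helper25.BlowUpUP.hom_ext_of_forall_opens
  intro z
  obtain ⟨k, y₁, hy₁⟩ := (sigmaOpenCover T).exists_eq (g₁ z)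
  obtain ⟨l, y₂, hy₂⟩ := (sigmaOpenCover T).exists_eq (g₂ z)
  rw [sigmaOpenCover_f] at hy₁ hy₂
  set V : Z.Opens := g₁ ⁻¹ᵁ (Sigma.ι T k).opensRange ⊓ g₂ ⁻¹ᵁ (Sigma.ι T l).opensRange with hV
  have hz : z ∈ V := ⟨⟨y₁, hy₁⟩, ⟨y₂, hy₂⟩⟩
  refine ⟨V, hz, ?_⟩
  have hr₁ : Set.range (V.ι ≫ g₁) ⊆ Set.range (Sigma.ι T k) := by
    rintro _ ⟨w, rfl⟩
    exact w.2.1
  have hr₂ : Set.range (V.ι ≫ g₂) ⊆ Set.range (Sigma.ι T l) := by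
    rintro _ ⟨w, rfl⟩
    exact w.2.2
  set v₁ := IsOpenImmersion.lift (Sigma.ι T k) (V.ι ≫ g₁) hr₁ with hv₁
  set v₂ := IsOpenImmersion.lift (Sigma.ι T l) (V.ι ≫ g₂) hr₂ with hv₂
  have e₁ : v₁ ≫ Sigma.ι T k = V.ι ≫ g₁ := IsOpenImmersion.lift_fac _ _ _
  have e₂ : v₂ ≫ Sigma.ι T l = V.ι ≫ g₂ := IsOpenImmersion.lift_fac _ _ _
  have h1 : v₁ ≫ π k = v₂ ≫ π l := by
    have a1 : v₁ ≫ π k = V.ι ≫ g₁ ≫ Sigma.desc π := by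
      rw [← Category.assoc, ← e₁, Category.assoc, Sigma.ι_desc]
    have a2 : v₂ ≫ π l = V.ι ≫ g₂ ≫ Sigma.desc π := by
      rw [← Category.assoc, ← e₂, Category.assoc, Sigma.ι_desc]
    rw [a1, a2, hg]
  have h2 := h _ k l v₁ v₂ h1
  have b1 : V.ι ≫ g₁ ≫ Sigma.desc G = v₁ ≫ G k := by
    rw [← Category.assoc, ← e₁, Category.assoc, Sigma.ι_desc]
  have b2 : V.ι ≫ g₂ ≫ Sigma.desc G = v₂ ≫ G l := by
    rw [← Category.assoc, ← e₂, Category.assoc, Sigma.ι_desc]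
  rw [b1, b2, h2]

end Groth.Agent.Lib.Helper14.ProdPt
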