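import Mathlib
import Groth.Agent.Lib.Helper14.PushEt2

/-!
# Algebraicity and etaleness of a base change can be checked fppf locally on the base (helper14)
-/

set_option autoImplicit false
universe u
open CategoryTheory CategoryTheory.Limits AlgebraicGeometry Opposite Topology

namespace Groth.Agent.Lib.Helper14.AS

open AlgSp Groth.Agent.Lib.Helper14.AS

variable {S : Scheme.{u}}

theorem points_yon_map_surjective_of_mem_range {T T' : Over S} (t : T' ⟶ T) (τ : T.left)
    (hτ : τ ∈ Set.range t.left) :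
    Points.ofScheme T τ ∈ Set.range (Points.map ((yon S).map t)) := by
  obtain ⟨τ', rfl⟩ := hτ
  exact ⟨Points.ofScheme T' τ', Points.map_yon_map_apply t τ'⟩

set_option backward.isDefEq.respectTransparency.types false in
/-- **Local-to-global**: if, fppf locally on `T`, the base change of `p` along `ξ : h_T ⟶ F` is an
algebraic space etale over the base, then the same holds over `T`. -/
theorem isAlgSpace_isEtaleMor_of_locally {X F F' : Sp S} {p : X ⟶ F} {T : Over S}
    {ξ : (yon S).obj T ⟶ F} {fst : F' ⟶ X} {snd : F' ⟶ (yon S).obj T}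
    (sq : IsPullback fst snd p ξ)
    (H : ∀ τ : T.left, ∃ (T' : Over S) (t : T' ⟶ T) (Q : Sp S) (q₁ : Q ⟶ X)
      (q₂ : Q ⟶ (yon S).obj T'), Flat t.left ∧ LocallyOfFinitePresentation t.left ∧
      τ ∈ Set.range t.left ∧ IsPullback q₁ q₂ p ((yon S).map t ≫ ξ) ∧ IsAlgSpace Q ∧
      IsEtaleMor q₂) :
    IsAlgSpace F' ∧ IsEtaleMor snd := by
  choose T' t Q q₁ q₂ hF hL hτ hsq hQ het using H
  let pτ : ∀ τ, Q τ ⟶ F' := fun τ =>
    sq.lift (q₁ τ) (q₂ τ ≫ (yon S).map (t τ)) (by rw [(hsq τ).w, Category.assoc])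
  have hp1 : ∀ τ, pτ τ ≫ fst = q₁ τ := fun τ => sq.lift_fst _ _ _
  have hp2 : ∀ τ, pτ τ ≫ snd = q₂ τ ≫ (yon S).map (t τ) := fun τ => sq.lift_snd _ _ _
  have sqτ : ∀ τ, IsPullback (pτ τ) (q₂ τ) snd ((yon S).map (t τ)) := fun τ => by
    refine IsPullback.of_right ?_ (hp2 τ) sq
    rw [hp1]
    exact hsq τ
  have hyT := IsAlgSpace.yon_obj (S := S) T
  have hflat : ∀ τ, RepWith @Flat (pτ τ) := fun τ =>
    repWith_of_isPullback _ (sqτ τ).flip ((repWith_yon_map_iff _ _).2 (hF τ))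
  have hlfp : ∀ τ, RepWith @LocallyOfFinitePresentation (pτ τ) := fun τ =>
    repWith_of_isPullback _ (sqτ τ).flip ((repWith_yon_map_iff _ _).2 (hL τ))
  have hsurjT : ∀ x : Points ((yon S).obj T), ∃ τ, x ∈ Set.range (Points.map ((yon S).map (t τ))) := by
    intro x
    obtain ⟨τ, rfl⟩ := (Points.schemeHomeo T).surjective x
    exact ⟨τ, points_yon_map_surjective_of_mem_range (t τ) τ (hτ τ)⟩
  have hsurjF : ∀ y : Points F', ∃ τ, y ∈ Set.range (Points.map (pτ τ)) := by
    intro y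
    obtain ⟨τ, ⟨θ, hθ⟩⟩ := hsurjT (Points.map snd y)
    obtain ⟨z, hz, -⟩ := points_exists_of_isPullback (sqτ τ) y θ hθ.symm
    exact ⟨τ, z, hz⟩
  have hF' : IsAlgSpace F' := by
    refine Groth.Agent.Lib.Helper24.Boot9.isAlgSpace_of_fppf_family Q pτ hQ ?_ ?_
    · intro τ Z ζ F'' fst'' snd'' sq''
      have h1 : RepWith @Flat snd'' := repWith_of_isPullback _ sq'' (hflat τ)
      have h2 : RepWith @LocallyOfFinitePresentation snd'' :=
        repWith_of_isPullback _ sq'' (hlfp τ)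
      exact ⟨isAlgSpace_of_representable_to (IsAlgSpace.yon_obj Z) snd'' h1.rep,
        locP_of_repWith etale_le_flat h1, locP_of_repWith etale_le_lfp h2⟩
    · intro Z ζ z
      obtain ⟨τ, ⟨q, hq⟩⟩ := hsurjF (Points.map ζ z)
      obtain ⟨w, -, hw⟩ := points_exists_of_isPullback (IsPullback.of_hasPullback (pτ τ) ζ) q z hq
      exact ⟨τ, w, hw⟩
  refine ⟨hF', ?_⟩
  have hyT' : ∀ τ, IsAlgSpace ((yon S).obj (T' τ)) := fun τ => IsAlgSpace.yon_obj _
  have hcov : IsFpqcCover (fun τ => (yon S).obj (T' τ)) (fun τ => (yon S).map (t τ)) :=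
    isFpqcCover_of_isFppfCover hyT _ _ hyT'
      ⟨fun τ => ⟨locP_of_repWith etale_le_flat ((repWith_yon_map_iff _ _).2 (hF τ)),
        locP_of_repWith etale_le_lfp ((repWith_yon_map_iff _ _).2 (hL τ))⟩, hsurjT⟩
  exact (Groth.Agent.S10544.result S _ _ hyT hyT' hcov snd hF' Q q₂ pτ hQ sqτ).2 het

end Groth.Agent.Lib.Helper14.AS
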