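import Mathlib
import Groth.Agent.Lib.Helper14.PushEt2b
import Groth.Agent.Lib.Helper14.LqfLocus

/-!
# The kernel pair of `V ⟶ V ⊔_{V'} U` (helper14)
-/

set_option autoImplicit false
universe u
open CategoryTheory CategoryTheory.Limits AlgebraicGeometry Opposite Topology

namespace Groth.Agent.Lib.Helper14.AS

open AlgSp Groth.Agent.Lib.Helper14.AS

variable {S : Scheme.{u}}

set_option backward.isDefEq.respectTransparency.types false in
/-- Pair version of `locP_of_etCover`. -/
theorem locP_etale_of_etCover_pair {A B X Y : Sp S} (a : A ⟶ X) (b : B ⟶ X)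
    (hA : IsAlgSpace A) (hB : IsAlgSpace B) (ha : IsEtaleMor a) (hb : IsEtaleMor b)
    (hsurj : ∀ x : Points X, x ∈ Set.range (Points.map a) ∨ x ∈ Set.range (Points.map b))
    (f : X ⟶ Y) (Ha : LocP @Etale (a ≫ f)) (Hb : LocP @Etale (b ≫ f)) : LocP @Etale f := by
  let Pi : ULift.{u} Bool → Sp S := fun i => cond i.down A B
  let g : ∀ i, Pi i ⟶ X := fun i => match i with
    | ⟨true⟩ => a
    | ⟨false⟩ => b
  refine locP_of_etCover etLocal_etale Pi g ?_ ?_ ?_ f ?_
  · rintro ⟨_ | _⟩
    · exact hB
    · exact hA
  · rintro ⟨_ | _⟩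
    · exact hb
    · exact ha
  · intro x
    rcases hsurj x with h | h
    · exact ⟨⟨true⟩, h⟩
    · exact ⟨⟨false⟩, h⟩
  · rintro ⟨_ | _⟩
    · exact Hb
    · exact Ha

section K

variable {V' V U : Sp S} (jV : V' ⟶ V) (f' : V' ⟶ U)

/-- `n : V' ×_U V' ⟶ V ×_W V`. -/
noncomputable def nK : pullback f' f' ⟶ pullback (pushout.inl jV f') (pushout.inl jV f') :=
  pullback.lift (pullback.fst f' f' ≫ jV) (pullback.snd f' f' ≫ jV) (by
    rw [Category.assoc, Category.assoc, pushout.condition, ← Category.assoc, pullback.condition,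
      Category.assoc])

theorem nK_fst : nK jV f' ≫ pullback.fst _ _ = pullback.fst f' f' ≫ jV :=
  pullback.lift_fst _ _ _

theorem nK_snd : nK jV f' ≫ pullback.snd _ _ = pullback.snd f' f' ≫ jV :=
  pullback.lift_snd _ _ _

variable [Mono jV]

instance mono_nK : Mono (nK jV f') := by
  constructor
  intro Z z₁ z₂ h
  apply pullback.hom_ext
  · rw [← cancel_mono jV, Category.assoc, Category.assoc, ← nK_fst, ← Category.assoc, h,
      Category.assoc]
  · rw [← cancel_mono jV, Category.assoc, Category.assoc, ← nK_snd, ← Category.assoc, h,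
      Category.assoc]

theorem isPullback_diag_nK :
    IsPullback jV (pullback.diagonal f') (pullback.diagonal (pushout.inl jV f')) (nK jV f') := by
  rw [isPullback_iff_yon]
  refine ⟨?_, fun T x y hxy => ?_⟩
  · apply pullback.hom_ext
    · rw [Category.assoc, pullback.diagonal_fst, Category.comp_id, Category.assoc, nK_fst,
        ← Category.assoc, pullback.diagonal_fst, Category.id_comp]
    · rw [Category.assoc, pullback.diagonal_snd, Category.comp_id, Category.assoc, nK_snd,
        ← Category.assoc, pullback.diagonal_snd, Category.id_comp]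
  · have h1 : x = (y ≫ pullback.fst f' f') ≫ jV := by
      have := congrArg (· ≫ pullback.fst _ _) hxy
      simpa only [Category.assoc, pullback.diagonal_fst, Category.comp_id, nK_fst] using this
    have h2 : x = (y ≫ pullback.snd f' f') ≫ jV := by
      have := congrArg (· ≫ pullback.snd _ _) hxy
      simpa only [Category.assoc, pullback.diagonal_snd, Category.comp_id, nK_snd] using this
    have h3 : y ≫ pullback.fst f' f' = y ≫ pullback.snd f' f' := by
      rw [← cancel_mono jV, ← h1, ← h2]
    refine ⟨y ≫ pullback.fst f' f', ⟨h1.symm, ?_⟩, ?_⟩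
    · apply pullback.hom_ext
      · rw [Category.assoc, pullback.diagonal_fst, Category.comp_id]
      · rw [Category.assoc, pullback.diagonal_snd, Category.comp_id, h3]
    · rintro z ⟨hz1, -⟩
      rw [← cancel_mono jV, hz1, ← h1]

theorem jls_K : JLS (pullback.diagonal (pushout.inl jV f')) (nK jV f') := by
  intro T g₀
  obtain ⟨R, hR, h⟩ := kp_pushout jV f' (g₀ ≫ pullback.fst _ _) (g₀ ≫ pullback.snd _ _)
    (by rw [Category.assoc, Category.assoc, pullback.condition])
  refine ⟨R, hR, fun T' t ht => ?_⟩
  rcases h t ht with heq | ⟨c₁, c₂, h1, h2, h3⟩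
  · refine Or.inl ⟨(yon S).map t ≫ g₀ ≫ pullback.fst _ _, ?_⟩
    apply pullback.hom_ext
    · rw [Category.assoc, pullback.diagonal_fst, Category.comp_id, Category.assoc]
    · rw [Category.assoc, pullback.diagonal_snd, Category.comp_id, heq, Category.assoc]
  · refine Or.inr ⟨pullback.lift c₁ c₂ h3, ?_⟩
    apply pullback.hom_ext
    · rw [Category.assoc, nK_fst, ← Category.assoc, pullback.lift_fst, h1, Category.assoc]
    · rw [Category.assoc, nK_snd, ← Category.assoc, pullback.lift_snd, h2, Category.assoc]

variable (hV : IsAlgSpace V) (hV' : IsAlgSpace V') (hU : IsAlgSpace U)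
  (hjV : RepWith @IsOpenImmersion jV) (het : IsEtaleMor f')

include hV' hU het in
theorem repWith_diag_f' : RepWith @IsOpenImmersion (pullback.diagonal f') :=
  repWith_isOpenImmersion_diagonal_of_unramified hV' hU f'
    (locP_mono (fun _ _ _ h => ⟨etale_le_lft _ _ _ h, etale_le_formallyUnramified _ _ _ h⟩)
      (locP_etale_of_isEtaleMor het))

include hV' hU het in
theorem repWith_diag_K :
    RepWith @IsOpenImmersion (pullback.diagonal (pushout.inl jV f')) :=
  repWith_isOpenImmersion_of_JLS (jls_K jV f') (isPullback_diag_nK jV f')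
    (repWith_diag_f' f' hV' hU het)

include hjV in
theorem repWith_nK : RepWith @IsOpenImmersion (nK jV f') :=
  repWith_isOpenImmersion_of_JLS (jls_K jV f').symm (isPullback_diag_nK jV f').flip hjV

include hV hV' hU hjV het in
theorem isAlgSpace_K : IsAlgSpace (pullback (pushout.inl jV f') (pushout.inl jV f')) :=
  isAlgSpace_of_JLS_open (jls_K jV f') hV
    (isAlgSpace_of_isPullback (repDiag_of_isAlgSpace hU) hV' hV' (IsPullback.of_hasPullback f' f'))
    (repWith_diag_K jV f' hV' hU het) (repWith_nK jV f' hjV)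

include hV hV' hU hjV het in
theorem isEtaleMor_snd_K :
    IsEtaleMor (pullback.snd (pushout.inl jV f') (pushout.inl jV f')) := by
  have hN : IsAlgSpace (pullback f' f') :=
    isAlgSpace_of_isPullback (repDiag_of_isAlgSpace hU) hV' hV' (IsPullback.of_hasPullback f' f')
  refine isEtaleMor_of_locP_etale hV ?_
  refine locP_etale_of_etCover_pair (pullback.diagonal (pushout.inl jV f')) (nK jV f') hV hN
    (isEtaleMor_of_repWith_isOpenImmersion (repWith_diag_K jV f' hV' hU het))
    (isEtaleMor_of_repWith_isOpenImmersion (repWith_nK jV f' hjV))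
    (fun x => (jls_K jV f').points x) _ ?_ ?_
  · rw [pullback.diagonal_snd]
    exact locP_etale_of_isEtaleMor (fun _ φ hφ => by rwa [Category.comp_id])
  · rw [nK_snd]
    refine locP_etale_of_isEtaleMor (isEtaleMor_comp ?_
      (isEtaleMor_of_repWith_isOpenImmersion hjV))
    exact isEtaleMor_of_isPullback hV' hU hV' (IsPullback.of_hasPullback f' f') het

end K

end Groth.Agent.Lib.Helper14.AS
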