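import Mathlib
import Groth.Agent.Lib.Helper14.PushEt3
import Groth.Agent.Lib.Helper14.GActionPts
import Groth.Agent.Lib.Helper14.RedInd
import Groth.Agent.Lib.Helper14.Birat4
import Groth.Agent.Lib.Helper24.IndSq
import Groth.Agent.Lib.Helper24.CoprodSp

/-!
# The pushout `V ⊔_{V'} U` of algebraic spaces along an open immersion and an etale map (helper14)
-/

set_option autoImplicit false
universe u
open CategoryTheory CategoryTheory.Limits AlgebraicGeometry Opposite Topology

namespace Groth.Agent.Lib.Helper14.AS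

open AlgSp Groth.Agent.Lib.Helper14.AS

variable {S : Scheme.{u}}

/-- Pair version of `Boot9.isAlgSpace_of_fppf_family`. -/
theorem isAlgSpace_of_fppf_pair {A B F : Sp S} (a : A ⟶ F) (b : B ⟶ F) (hA : IsAlgSpace A)
    (hB : IsAlgSpace B)
    (ha : ∀ ⦃T : Over S⦄ (ξ : (yon S).obj T ⟶ F) ⦃F' : Sp S⦄ (fst : F' ⟶ A)
      (snd : F' ⟶ (yon S).obj T), IsPullback fst snd a ξ →
      IsAlgSpace F' ∧ LocP @Flat snd ∧ LocP @LocallyOfFinitePresentation snd)
    (hb : ∀ ⦃T : Over S⦄ (ξ : (yon S).obj T ⟶ F) ⦃F' : Sp S⦄ (fst : F' ⟶ B)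
      (snd : F' ⟶ (yon S).obj T), IsPullback fst snd b ξ →
      IsAlgSpace F' ∧ LocP @Flat snd ∧ LocP @LocallyOfFinitePresentation snd)
    (hsurj : ∀ ⦃T : Over S⦄ (ξ : (yon S).obj T ⟶ F) (x : Points ((yon S).obj T)),
      x ∈ Set.range (Points.map (pullback.snd a ξ)) ∨
        x ∈ Set.range (Points.map (pullback.snd b ξ))) : IsAlgSpace F := by
  let X : ULift.{u} Bool → Sp S := fun i => cond i.down A B
  let p : ∀ i, X i ⟶ F := fun i => match i with
    | ⟨true⟩ => a
    | ⟨false⟩ => b
  refine Groth.Agent.Lib.Helper24.Boot9.isAlgSpace_of_fppf_family X p ?_ ?_ ?_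
  · rintro ⟨_ | _⟩
    · exact hB
    · exact hA
  · rintro ⟨_ | _⟩
    · exact hb
    · exact ha
  · intro T ξ x
    rcases hsurj ξ x with h | h
    · exact ⟨⟨true⟩, h⟩
    · exact ⟨⟨false⟩, h⟩

/-- If the images of `i` and `j` on points are complementary, a scheme mapping compatibly to both
is empty. -/
theorem isEmpty_of_lift_both {W U T : Sp S} {j : U ⟶ W} {i : T ⟶ W}
    (hdisj : Set.range (Points.map i) = (Set.range (Points.map j))ᶜ) {T' : Over S}
    (c : (yon S).obj T' ⟶ U) (z : (yon S).obj T' ⟶ T) (h : c ≫ j = z ≫ i) : IsEmpty T'.left := by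
  constructor
  intro τ'
  let p := Points.ofScheme T' τ'
  have h1 : Points.map i (Points.map z p) ∈ Set.range (Points.map i) := ⟨_, rfl⟩
  rw [hdisj] at h1
  apply h1
  exact ⟨Points.map c p, by rw [← Points.map_comp, h, Points.map_comp]⟩

section W

variable {V' V U : Sp S} (jV : V' ⟶ V) (f' : V' ⟶ U) [Mono jV]
variable (hV : IsAlgSpace V) (hV' : IsAlgSpace V') (hU : IsAlgSpace U)
  (hjV : RepWith @IsOpenImmersion jV) (het : IsEtaleMor f')

include hjV in
theorem repWith_pushout_inr : RepWith @IsOpenImmersion (pushout.inr jV f') :=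
  repWith_isOpenImmersion_of_JLS (jls_pushout jV f') (isPullback_pushout jV f').flip hjV

include hV hV' hU hjV het in
set_option backward.isDefEq.respectTransparency.types false in
/-- Every base change of `V ⟶ W` to a scheme is an algebraic space, etale over the scheme. -/
theorem pushout_inl_baseChange {T : Over S} (ξ : (yon S).obj T ⟶ pushout jV f') {F' : Sp S}
    (fst : F' ⟶ V) (snd : F' ⟶ (yon S).obj T) (sq : IsPullback fst snd (pushout.inl jV f') ξ) :
    IsAlgSpace F' ∧ IsEtaleMor snd := by
  refine isAlgSpace_isEtaleMor_of_locally sq fun τ => ?_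
  obtain ⟨R, hR, hl⟩ := jls_pushout jV f' T ξ
  obtain ⟨W', w, hw, hF, hL, hτ⟩ := exists_flat_lfp_mem_of_mem_J R hR τ
  have hyW := IsAlgSpace.yon_obj (S := S) W'
  rcases hl w hw with ⟨α, hα⟩ | ⟨β, hβ⟩
  · refine ⟨W', w, pullback f' α, pullback.fst f' α ≫ jV, pullback.snd f' α, hF, hL, hτ, ?_,
      isAlgSpace_of_isPullback (repDiag_of_isAlgSpace hU) hV' hyW
        (IsPullback.of_hasPullback f' α),
      isEtaleMor_of_isPullback hV' hU hyW (IsPullback.of_hasPullback f' α) het⟩
    rw [← hα]
    exact (IsPullback.of_hasPullback f' α).paste_horiz (isPullback_pushout jV f')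
  · have hK := isAlgSpace_K jV f' hV hV' hU hjV het
    have hKe := isEtaleMor_snd_K jV f' hV hV' hU hjV het
    refine ⟨W', w, pullback (pullback.snd (pushout.inl jV f') (pushout.inl jV f')) β,
      pullback.fst _ β ≫ pullback.fst _ _, pullback.snd _ β, hF, hL, hτ, ?_,
      isAlgSpace_of_isPullback (repDiag_of_isAlgSpace hV) hK hyW
        (IsPullback.of_hasPullback _ β),
      isEtaleMor_of_isPullback hK hV hyW (IsPullback.of_hasPullback _ β) hKe⟩
    rw [← hβ]
    exact (IsPullback.of_hasPullback _ β).paste_horiz (IsPullback.of_hasPullback _ _)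

include hV hV' hU hjV het in
theorem isAlgSpace_pushout : IsAlgSpace (pushout jV f') := by
  have hj := repWith_pushout_inr jV f' hjV
  refine isAlgSpace_of_fppf_pair (pushout.inr jV f') (pushout.inl jV f') hU hV ?_ ?_ ?_
  · intro T ξ F' fst snd sq
    have h0 : RepWith @IsOpenImmersion snd := repWith_of_isPullback _ sq hj
    have h1 : RepWith @Flat snd := repWith_mono (fun _ _ _ h => by have := h; infer_instance) h0
    have h2 : RepWith @LocallyOfFinitePresentation snd :=
      repWith_mono (fun _ _ _ h => by have := h; infer_instance) h0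
    exact ⟨isAlgSpace_of_representable_to (IsAlgSpace.yon_obj T) snd h1.rep,
      locP_of_repWith etale_le_flat h1, locP_of_repWith etale_le_lfp h2⟩
  · intro T ξ F' fst snd sq
    obtain ⟨h1, h2⟩ := pushout_inl_baseChange jV f' hV hV' hU hjV het ξ fst snd sq
    exact ⟨h1, locP_mono etale_le_flat (locP_etale_of_isEtaleMor h2),
      locP_mono etale_le_lfp (locP_etale_of_isEtaleMor h2)⟩
  · intro T ξ x
    exact (jls_pushout jV f').points_pullback ξ x

include hV hV' hU hjV het in
theorem isEtaleMor_pushout_inl : IsEtaleMor (pushout.inl jV f') := by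
  have hW := isAlgSpace_pushout jV f' hV hV' hU hjV het
  refine isEtaleMor_of_locP_etale hW ?_
  intro X Y a b h ha hb comm
  have sq := IsPullback.of_hasPullback (pushout.inl jV f') b
  obtain ⟨-, hsnd⟩ := pushout_inl_baseChange jV f' hV hV' hU hjV het b _ _ sq
  let m : (yon S).obj X ⟶ pullback (pushout.inl jV f') b := pullback.lift a ((yon S).map h) comm
  have hm1 : m ≫ pullback.fst _ _ = a := pullback.lift_fst _ _ _
  have hm2 : m ≫ pullback.snd _ _ = (yon S).map h := pullback.lift_snd _ _ _
  have hfst : RepWith @Etale (pullback.fst (pushout.inl jV f') b) :=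
    repWith_of_isPullback _ sq.flip hb
  have hm : RepWith @Etale m := repWith_etale_of_comp m _ hfst (by rw [hm1]; exact ha)
  have := hsnd m hm
  rw [hm2] at this
  exact (repWith_yon_map_iff _ _).1 this

include hV hV' hU hjV het in
set_option backward.isDefEq.respectTransparency.types false in
/-- The square is an elementary distinguished square. -/
theorem isElemDistSq_pushout : IsElemDistSq (pushout.inr jV f') (pushout.inl jV f') := by
  have hW := isAlgSpace_pushout jV f' hV hV' hU hjV het
  have hj := repWith_pushout_inr jV f' hjV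
  have hf := isEtaleMor_pushout_inl jV f' hV hV' hU hjV het
  refine ⟨hj, hf, ?_⟩
  have hC : IsClosed (Set.range (Points.map (pushout.inr jV f')))ᶜ :=
    (Groth.Agent.Lib.Helper24.IndSq.isOpen_range_of_openImmersion hW _ hj).isClosed_compl
  obtain ⟨hT, hred⟩ := isRedInduced_redFam hW _ hC
  set i := (redFam _ hC).pred.ι with hi
  refine ⟨_, pullback i (pushout.inl jV f'), i, pullback.fst _ _, pullback.snd _ _, hred,
    IsPullback.of_hasPullback _ _, ?_⟩
  have hP : IsAlgSpace (pullback i (pushout.inl jV f')) :=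
    isAlgSpace_of_isPullback (repDiag_of_isAlgSpace hW) hT hV (IsPullback.of_hasPullback _ _)
  have hmono : Mono (pullback.fst i (pushout.inl jV f')) := by
    refine mono_of_yon_injective _ fun T₀ x y hxy => ?_
    apply pullback.hom_ext hxy
    have hv : (x ≫ pullback.snd _ _) ≫ pushout.inl jV f' =
        (y ≫ pullback.snd _ _) ≫ pushout.inl jV f' := by
      rw [Category.assoc, Category.assoc, ← pullback.condition, ← Category.assoc, hxy,
        Category.assoc]
    obtain ⟨R, hR, hl⟩ := kp_pushout jV f' _ _ hv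
    refine yon_hom_ext_of_cover _ _ R hR fun T' t ht => ?_
    rcases hl t ht with heq | ⟨c₁, c₂, h1, -, -⟩
    · exact heq
    · have hE : IsEmpty T'.left := isEmpty_of_lift_both hred.2.1 (c₁ ≫ f')
        ((yon S).map t ≫ x ≫ pullback.fst _ _) (by
          rw [Category.assoc, ← pushout.condition, ← Category.assoc, h1, Category.assoc,
            Category.assoc, Category.assoc, Category.assoc, pullback.condition])
      exact Subsingleton.elim _ _
  have hpe : IsEtaleMor (pullback.fst i (pushout.inl jV f')) :=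
    isEtaleMor_of_isPullback hV hW hT (IsPullback.of_hasPullback i (pushout.inl jV f')).flip hf
  have hopen := repWith_isOpenImmersion_of_mono_etale hP hT _ hpe
  refine isIso_of_openImmersion_of_surjective hopen fun t => ?_
  rcases (jls_pushout jV f').points (Points.map i t) with h | ⟨v, hv⟩
  · have h0 : Points.map i t ∈ Set.range (Points.map i) := ⟨t, rfl⟩
    rw [hred.2.1] at h0
    exact absurd h h0
  · obtain ⟨z, hz, -⟩ := points_exists_of_isPullback
      (IsPullback.of_hasPullback i (pushout.inl jV f')) t v hv.symm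
    exact ⟨z, hz⟩

end W

end Groth.Agent.Lib.Helper14.AS
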