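import Groth.Agent.Lib.Helper14.QfAt2

universe u
open CategoryTheory CategoryTheory.Limits AlgebraicGeometry Opposite TopologicalSpace

namespace Groth.Agent.Lib.Helper14.AS

open AlgSp

/-- In a Noetherian scheme a dense open subset contains every point without proper
generizations. -/
theorem mem_of_dense_isOpen_of_noetherianSpace (Z : Scheme.{u}) [NoetherianSpace ↥Z] (D : Set ↥Z)
    (hD : IsOpen D) (hd : Dense D) (η : ↥Z) (hη : ∀ ξ : ↥Z, ξ ⤳ η → ξ = η) : η ∈ D := by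
  have hfin : (irreducibleComponents ↥Z).Finite := NoetherianSpace.finite_irreducibleComponents
  let C : Set (Set ↥Z) := {Z' ∈ irreducibleComponents ↥Z | η ∉ Z'}
  have hCfin : C.Finite := hfin.subset (fun _ h => h.1)
  have hGo : IsOpen (⋃₀ C)ᶜ := by
    rw [isOpen_compl_iff, Set.sUnion_eq_biUnion]
    exact hCfin.isClosed_biUnion (fun Z' hZ' => isClosed_of_mem_irreducibleComponents Z' hZ'.1)
  have hηG : η ∈ (⋃₀ C)ᶜ := by
    rintro ⟨Z', hZ', hη'⟩
    exact hZ'.2 hη'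
  obtain ⟨q, hqG, hqD⟩ := hd.inter_open_nonempty _ hGo ⟨η, hηG⟩
  have hq : η ∈ irreducibleComponent q := by
    by_contra hnot
    exact hqG ⟨irreducibleComponent q, ⟨irreducibleComponent_mem_irreducibleComponents q, hnot⟩,
      mem_irreducibleComponent⟩
  obtain ⟨ζ, hζ⟩ := QuasiSober.sober (isIrreducible_irreducibleComponent (x := q))
    isClosed_irreducibleComponent
  have h1 : ζ ⤳ η := by rw [specializes_iff_mem_closure, hζ.def]; exact hq
  have h2 := hη ζ h1
  subst h2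
  have h3 : ζ ⤳ q := by rw [specializes_iff_mem_closure, hζ.def]; exact mem_irreducibleComponent
  exact h3.mem_open hD hqD

/-- In a locally Noetherian scheme a dense open subset contains every point whose local ring
has dimension zero. -/
theorem mem_of_dense_isOpen_of_stalkDim_zero {U : Scheme.{u}} [IsLocallyNoetherian U] {D : Set ↥U}
    (hD : IsOpen D) (hd : Dense D) {η : ↥U} (hη : ringKrullDim (U.presheaf.stalk η) = 0) :
    η ∈ D := by
  obtain ⟨N, hN, hηN, -⟩ := exists_isAffineOpen_mem_and_subset (x := η) (U := ⊤) trivial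
  have : IsNoetherianRing Γ(U, N) := IsLocallyNoetherian.component_noetherian ⟨N, hN⟩
  have : NoetherianSpace ↥(N : Scheme.{u}) := noetherianSpace_of_isAffineOpen N hN
  have hD' : IsOpen (N.ι ⁻¹' D) := hD.preimage N.ι.continuous
  have hd' : Dense (N.ι ⁻¹' D) := by
    rw [dense_iff_inter_open]
    intro O hO hOne
    obtain ⟨o, ho⟩ := hOne
    have hO' : IsOpen (N.ι '' O) := N.ι.isOpenEmbedding.isOpenMap _ hO
    obtain ⟨d, ⟨o', ho', rfl⟩, hdD⟩ := hd.inter_open_nonempty _ hO' ⟨_, o, ho, rfl⟩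
    exact ⟨o', ho', hdD⟩
  have := mem_of_dense_isOpen_of_noetherianSpace (N : Scheme.{u}) _ hD' hd' ⟨η, hηN⟩ (by
    intro ξ hξ
    have h1 : N.ι ξ ⤳ η := hξ.map N.ι.continuous
    have h2 := eq_of_specializes_of_stalkDim_zero hη h1
    exact Subtype.ext h2)
  exact this

variable {S : Scheme.{u}}

/-- The quasi-finite locus is open. -/
theorem isOpen_qfLocus (X Y : Space S) (f : X ⟶ Y) (hf : LocP @LocallyOfFiniteType f.hom) :
    IsOpen {x : Points X.obj | HasAtMor (fun U _ h u => ∃ W : U.Opens, u ∈ W ∧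
      LocallyQuasiFinite (W.ι ≫ h) ∧ LocallyOfFiniteType (W.ι ≫ h)) f.hom x} := by
  have hO := Groth.Agent.S10308.result f hf 0
  convert hO using 1
  ext x
  simp only [Set.mem_setOf_eq]
  rw [hasAtMor_qf_iff f.hom hf]
  constructor
  · rintro ⟨U, V, a, b, h, u, hae, hbe, comm, hu, hq⟩
    exact ⟨U, V, a, b, h, u, hae, hbe, comm, hu, le_of_eq hq⟩
  · rintro ⟨U, V, a, b, h, u, hae, hbe, comm, hu, hq⟩
    exact ⟨U, V, a, b, h, u, hae, hbe, comm, hu,
      le_antisymm (by exact_mod_cast hq) (fibreDimAt_nonneg _ _)⟩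

set_option backward.isDefEq.respectTransparency.types false in
theorem quasiFiniteAt_over_codim_le_one_of_dense_quasiFinite (X Y : Space S) (f : X ⟶ Y)
    (hf : LocP @LocallyOfFiniteType f.hom) (hYN : IsLocNoethSp Y.obj) (y : Points Y.obj)
    (hy : HasAt (fun U u => ringKrullDim ↥(U.presheaf.stalk u) ≤ 1) Y.obj y)
    (h : Dense {x : Points X.obj | HasAtMor (fun U _ h u => ∃ W : U.Opens, u ∈ W ∧
      LocallyQuasiFinite (W.ι ≫ h) ∧ LocallyOfFiniteType (W.ι ≫ h)) f.hom x})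
    (x : Points X.obj) (hx : Points.map f.hom x = y) :
    HasAtMor (fun U _ h u => ∃ W : U.Opens, u ∈ W ∧ LocallyQuasiFinite (W.ι ≫ h) ∧
      LocallyOfFiniteType (W.ι ≫ h)) f.hom x := by
  refine quasiFiniteAt_over_codim_le_one_of_trdeg_zero X.2 Y.2 f.hom hf hYN y hy ?_ x hx
  rintro ξ ⟨U₁, a₁, η, ha₁, rfl, hη⟩ -
  apply hasAtMor_resTrdeg_zero_of_qf f.hom hf
  have hXN : IsLocNoethSp X.obj := isLocNoethSp_of_locP_lft X.2 f.hom hf hYN
  have hU₁N : IsLocallyNoetherian U₁.left := isLocallyNoetherian_of_etale_over hXN a₁ ha₁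
  have hO := isOpen_qfLocus X Y f hf
  have hD : IsOpen (Points.ofPt a₁ ⁻¹' {x : Points X.obj | HasAtMor (fun U _ h u =>
      ∃ W : U.Opens, u ∈ W ∧ LocallyQuasiFinite (W.ι ≫ h) ∧ LocallyOfFiniteType (W.ι ≫ h))
      f.hom x}) := hO.preimage (Points.continuous_ofPt a₁)
  have hd : Dense (Points.ofPt a₁ ⁻¹' {x : Points X.obj | HasAtMor (fun U _ h u =>
      ∃ W : U.Opens, u ∈ W ∧ LocallyQuasiFinite (W.ι ≫ h) ∧ LocallyOfFiniteType (W.ι ≫ h))
      f.hom x}) := by
    rw [dense_iff_inter_open]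
    intro N hN hNne
    obtain ⟨n, hn⟩ := hNne
    have hN' := isOpenMap_ofPt a₁ ha₁ N hN
    obtain ⟨d, ⟨n', hn', rfl⟩, hdD⟩ := h.inter_open_nonempty _ hN' ⟨_, n, hn, rfl⟩
    exact ⟨n', hn', hdD⟩
  exact mem_of_dense_isOpen_of_stalkDim_zero hD hd hη

end Groth.Agent.Lib.Helper14.AS
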