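import Mathlib
import Groth.Prelude.Def_W4c2gaugesfzipsQuiet
import Groth.Agent.Lib.Helper18.GFl5
set_option autoImplicit false
universe u
open CategoryTheory CategoryTheory.Limits AlgebraicGeometry Polynomial

namespace Groth.Agent.Lib.Helper14.QuietBC

open TensorProduct

section AdjoinRootPushout

variable {A A' : Type u} [CommRing A] [CommRing A'] [Algebra A A'] (f : A[X])

/-- the canonical map `A[x]/(f) → A'[x]/(f')` -/
noncomputable def arMap : AdjoinRoot f →+* AdjoinRoot (f.map (algebraMap A A')) :=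
  AdjoinRoot.lift ((AdjoinRoot.of (f.map (algebraMap A A'))).comp (algebraMap A A'))
    (AdjoinRoot.root _) (by
      rw [← Polynomial.eval₂_map]
      exact AdjoinRoot.eval₂_root _)

@[simp] lemma arMap_of (a : A) : arMap (A' := A') f (AdjoinRoot.of f a) =
    AdjoinRoot.of _ (algebraMap A A' a) := by
  simp [arMap]

@[simp] lemma arMap_root : arMap (A' := A') f (AdjoinRoot.root f) = AdjoinRoot.root _ := by
  simp [arMap]

attribute [local instance] Algebra.TensorProduct.rightAlgebra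

noncomputable def arAlgHom : AdjoinRoot f →ₐ[A] AdjoinRoot (f.map (algebraMap A A')) :=
  { arMap f with
    commutes' := fun a => by
      change arMap f (AdjoinRoot.of f a) = _
      rw [arMap_of]
      rw [IsScalarTower.algebraMap_apply A A' (AdjoinRoot (f.map (algebraMap A A')))]
      rfl }

lemma arAlgHom_apply (x : AdjoinRoot f) : arAlgHom (A' := A') f x = arMap f x := rfl

lemma eval₂_tmul_root : Polynomial.eval₂ (algebraMap A' (A' ⊗[A] AdjoinRoot f))
    ((1 : A') ⊗ₜ[A] AdjoinRoot.root f) (f.map (algebraMap A A')) = 0 := by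
  rw [Polynomial.eval₂_map]
  have h1 : (algebraMap A' (A' ⊗[A] AdjoinRoot f)).comp (algebraMap A A') =
      (Algebra.TensorProduct.includeRight (R := A) (A := A') (B := AdjoinRoot f)).toRingHom.comp
        (AdjoinRoot.of f) := by
    ext a
    change (algebraMap A A' a) ⊗ₜ[A] (1 : AdjoinRoot f) = (1 : A') ⊗ₜ[A] (AdjoinRoot.of f a)
    rw [← AdjoinRoot.algebraMap_eq, Algebra.algebraMap_eq_smul_one (A := A') a,
      Algebra.algebraMap_eq_smul_one (A := AdjoinRoot f) a, TensorProduct.smul_tmul]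
  rw [h1]
  have h2 : ((1 : A') ⊗ₜ[A] AdjoinRoot.root f) =
      (Algebra.TensorProduct.includeRight (R := A) (A := A') (B := AdjoinRoot f)).toRingHom
        (AdjoinRoot.root f) := rfl
  rw [h2, ← Polynomial.hom_eval₂, AdjoinRoot.eval₂_root, map_zero]

noncomputable def arEquiv :
    A' ⊗[A] AdjoinRoot f ≃ₐ[A'] AdjoinRoot (f.map (algebraMap A A')) :=
  AlgEquiv.ofAlgHom
    (Algebra.TensorProduct.lift (Algebra.ofId A' _) (arAlgHom f) (fun _ _ => .all ..))
    (AdjoinRoot.liftAlgHom _ (Algebra.ofId A' _) ((1 : A') ⊗ₜ[A] AdjoinRoot.root f)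
      (eval₂_tmul_root f))
    (by
      ext
      simp only [AlgHom.coe_comp, Function.comp_apply, AlgHom.coe_id, id_eq]
      have h := AdjoinRoot.liftAlgHom_root (f.map (algebraMap A A'))
        (Algebra.ofId A' (A' ⊗[A] AdjoinRoot f)) ((1 : A') ⊗ₜ[A] AdjoinRoot.root f)
        (eval₂_tmul_root f)
      rw [h, Algebra.TensorProduct.lift_tmul, map_one, one_mul,
        arAlgHom_apply, arMap_root])
    (by
      ext
      simp only [AlgHom.coe_comp, Function.comp_apply, AlgHom.coe_id, id_eq,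
        AlgHom.coe_restrictScalars', Algebra.TensorProduct.includeRight_apply]
      have h := AdjoinRoot.liftAlgHom_root (f.map (algebraMap A A'))
        (Algebra.ofId A' (A' ⊗[A] AdjoinRoot f)) ((1 : A') ⊗ₜ[A] AdjoinRoot.root f)
        (eval₂_tmul_root f)
      rw [Algebra.TensorProduct.lift_tmul, map_one, one_mul, arAlgHom_apply, arMap_root, h])

lemma arEquiv_tmul (a : A') (x : AdjoinRoot f) :
    arEquiv f (a ⊗ₜ[A] x) = algebraMap A' _ a * arMap f x := by
  simp only [arEquiv, AlgEquiv.ofAlgHom_apply, Algebra.TensorProduct.lift_tmul, arAlgHom_apply]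
  rfl

lemma isPushout_adjoinRoot [Algebra (AdjoinRoot f) (AdjoinRoot (f.map (algebraMap A A')))]
    [IsScalarTower A (AdjoinRoot f) (AdjoinRoot (f.map (algebraMap A A')))]
    (h : algebraMap (AdjoinRoot f) (AdjoinRoot (f.map (algebraMap A A'))) = arMap f) :
    Algebra.IsPushout A A' (AdjoinRoot f) (AdjoinRoot (f.map (algebraMap A A'))) := by
  have h0 : Algebra.IsPushout A A' (AdjoinRoot f) (A' ⊗[A] AdjoinRoot f) := inferInstance
  have hx : ∀ x : AdjoinRoot f, (arEquiv f) ((1 : A') ⊗ₜ[A] x) = arMap f x := by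
    intro x
    rw [arEquiv_tmul, map_one, one_mul]
  have he : (arEquiv f).toRingHom.comp (algebraMap (AdjoinRoot f) (A' ⊗[A] AdjoinRoot f)) =
      algebraMap (AdjoinRoot f) (AdjoinRoot (f.map (algebraMap A A'))) := by
    rw [h]
    exact RingHom.ext fun x => hx x
  exact Algebra.IsPushout.of_equiv (h := h0) (arEquiv f) he

lemma isPushout_adjoinRoot' (f' : A'[X]) (hf : f.map (algebraMap A A') = f')
    [Algebra (AdjoinRoot f) (AdjoinRoot f')]
    [IsScalarTower A (AdjoinRoot f) (AdjoinRoot f')]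
    (h1 : ∀ a, algebraMap (AdjoinRoot f) (AdjoinRoot f') (AdjoinRoot.of f a) =
      AdjoinRoot.of f' (algebraMap A A' a))
    (h2 : algebraMap (AdjoinRoot f) (AdjoinRoot f') (AdjoinRoot.root f) = AdjoinRoot.root f') :
    Algebra.IsPushout A A' (AdjoinRoot f) (AdjoinRoot f') := by
  subst hf
  apply isPushout_adjoinRoot
  apply AdjoinRoot.ringHom_ext
  · ext a
    simp only [RingHom.comp_apply, h1, arMap_of]
  · rw [h2, arMap_root]

end AdjoinRootPushout

section Tower

lemma root_pow_eq {A : Type u} [CommRing A] (p : ℕ) (a : A) :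
    (AdjoinRoot.root (X ^ p - C a : A[X])) ^ p = AdjoinRoot.of _ a := by
  have h := AdjoinRoot.eval₂_root (X ^ p - C a : A[X])
  simp only [eval₂_sub, eval₂_pow, eval₂_X, eval₂_C] at h
  exact sub_eq_zero.mp h

theorem tower_of_isPushout (p : ℕ) (n : ℕ) :
    ∀ (A B A' B' : Type u) [CommRing A] [CommRing B] [CommRing A'] [CommRing B']
      [Algebra A B] [Algebra A A'] [Algebra A' B'] [Algebra B B'] [Algebra A B']
      [IsScalarTower A B B'] [IsScalarTower A A' B'] [Algebra.IsPushout A B A' B'],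
      Quiet.IsRootTower p n A B → Quiet.IsRootTower p n A' B' := by
  induction n with
  | zero =>
    intro A B A' B' _ _ _ _ _ _ _ _ _ _ _ _ h
    obtain ⟨e⟩ : Nonempty (B ≃ₐ[A] A) := h
    have : Algebra.IsPushout A A' B B' := Algebra.IsPushout.symm inferInstance
    let e1 : A' ⊗[A] B ≃ₐ[A'] B' := Algebra.IsPushout.equiv A A' B B'
    let e2 : A' ⊗[A] B ≃ₐ[A'] A' ⊗[A] A := Algebra.TensorProduct.congr AlgEquiv.refl e
    let e3 : A' ⊗[A] A ≃ₐ[A'] A' := Algebra.TensorProduct.rid A A' A'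
    exact ⟨e1.symm.trans (e2.trans e3)⟩
  | succ n ih =>
    intro A B A' B' _ _ _ _ _ _ _ _ _ _ _ _ h
    obtain ⟨a, inst, htow, hT⟩ :
      ∃ (a : A) (_ : Algebra (Quiet.RootRing p A a) B),
        IsScalarTower A (Quiet.RootRing p A a) B ∧
          Quiet.IsRootTower p n (Quiet.RootRing p A a) B := h
    set a' : A' := algebraMap A A' a with ha'
    have hf : (X ^ p - C a : A[X]).map (algebraMap A A') = (X ^ p - C a' : A'[X]) := by
      simp [ha']
    -- the image of the root in B'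
    set ρ : B' := algebraMap B B' (algebraMap (Quiet.RootRing p A a) B (AdjoinRoot.root _)) with hρ
    have hρp : ρ ^ p = algebraMap A' B' a' := by
      rw [hρ, ← map_pow, ← map_pow, root_pow_eq, ← AdjoinRoot.algebraMap_eq,
        ← IsScalarTower.algebraMap_apply A (Quiet.RootRing p A a) B,
        ← IsScalarTower.algebraMap_apply A B B', IsScalarTower.algebraMap_apply A A' B']
    -- algebra structures
    let φ : Quiet.RootRing p A a →+* Quiet.RootRing p A' a' :=
      AdjoinRoot.lift ((AdjoinRoot.of _).comp (algebraMap A A')) (AdjoinRoot.root _) (by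
        simp only [eval₂_sub, eval₂_pow, eval₂_X, eval₂_C, RingHom.comp_apply]
        rw [root_pow_eq, sub_self])
    let ψ : Quiet.RootRing p A' a' →+* B' :=
      AdjoinRoot.lift (algebraMap A' B') ρ (by
        simp only [eval₂_sub, eval₂_pow, eval₂_X, eval₂_C]
        rw [hρp, sub_self])
    let i1 : Algebra (Quiet.RootRing p A a) (Quiet.RootRing p A' a') := φ.toAlgebra
    let i2 : Algebra (Quiet.RootRing p A' a') B' := ψ.toAlgebra
    let i3 : Algebra (Quiet.RootRing p A a) B' :=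
      ((algebraMap B B').comp (algebraMap (Quiet.RootRing p A a) B)).toAlgebra
    have t1 : IsScalarTower (Quiet.RootRing p A a) B B' := .of_algebraMap_eq' rfl
    have t2 : IsScalarTower A' (Quiet.RootRing p A' a') B' := by
      refine .of_algebraMap_eq' ?_
      ext x
      change algebraMap A' B' x = ψ (algebraMap A' _ x)
      rw [AdjoinRoot.algebraMap_eq, AdjoinRoot.lift_of]
    have t3 : IsScalarTower A (Quiet.RootRing p A a) (Quiet.RootRing p A' a') := by
      refine .of_algebraMap_eq' ?_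
      ext x
      change algebraMap A _ x = φ (algebraMap A _ x)
      rw [AdjoinRoot.algebraMap_eq, AdjoinRoot.lift_of,
        IsScalarTower.algebraMap_apply A A' (Quiet.RootRing p A' a'), AdjoinRoot.algebraMap_eq]
      rfl
    have t4 : IsScalarTower (Quiet.RootRing p A a) (Quiet.RootRing p A' a') B' := by
      refine .of_algebraMap_eq' ?_
      apply AdjoinRoot.ringHom_ext
      · ext x
        change algebraMap B B' (algebraMap (Quiet.RootRing p A a) B (AdjoinRoot.of _ x)) =
          ψ (φ (AdjoinRoot.of _ x))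
        rw [AdjoinRoot.lift_of, RingHom.comp_apply, AdjoinRoot.lift_of, ← AdjoinRoot.algebraMap_eq,
          ← IsScalarTower.algebraMap_apply A (Quiet.RootRing p A a) B,
          ← IsScalarTower.algebraMap_apply A B B', IsScalarTower.algebraMap_apply A A' B']
      · change algebraMap B B' (algebraMap (Quiet.RootRing p A a) B (AdjoinRoot.root _)) =
          ψ (φ (AdjoinRoot.root _))
        rw [AdjoinRoot.lift_root, AdjoinRoot.lift_root]
    have t5 : IsScalarTower A (Quiet.RootRing p A' a') B' := by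
      refine .of_algebraMap_eq' ?_
      ext x
      rw [RingHom.comp_apply, IsScalarTower.algebraMap_apply A A' (Quiet.RootRing p A' a'),
        ← IsScalarTower.algebraMap_apply A' (Quiet.RootRing p A' a') B',
        ← IsScalarTower.algebraMap_apply A A' B']
    have hL : Algebra.IsPushout A A' (Quiet.RootRing p A a) (Quiet.RootRing p A' a') :=
      isPushout_adjoinRoot' (X ^ p - C a : A[X]) (X ^ p - C a' : A'[X]) hf
        (fun x => by
          change φ (AdjoinRoot.of _ x) = _
          rw [AdjoinRoot.lift_of]; rfl)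
        (by
          change φ (AdjoinRoot.root _) = _
          rw [AdjoinRoot.lift_root])
    have hL' : Algebra.IsPushout A (Quiet.RootRing p A a) A' (Quiet.RootRing p A' a') := hL.symm
    have hR : Algebra.IsPushout (Quiet.RootRing p A a) B (Quiet.RootRing p A' a') B' :=
      (Algebra.IsPushout.comp_iff A (Quiet.RootRing p A a) A' (Quiet.RootRing p A' a')).mp
        inferInstance
    exact ⟨a', i2, t2, ih (Quiet.RootRing p A a) B (Quiet.RootRing p A' a') B' hT⟩

end Tower

section Sch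

theorem tower_of_isPushout_cat (p n : ℕ) {A B A' B' : CommRingCat.{u}} (φ : A ⟶ B) (ψ : A ⟶ A')
    (ψ' : B ⟶ B') (φ' : A' ⟶ B') (H : IsPushout φ ψ ψ' φ')
    (hT : @Quiet.IsRootTower p n A B _ _ φ.hom.toAlgebra) :
    @Quiet.IsRootTower p n A' B' _ _ φ'.hom.toAlgebra := by
  let i1 : Algebra A B := φ.hom.toAlgebra
  let i2 : Algebra A A' := ψ.hom.toAlgebra
  let i3 : Algebra A' B' := φ'.hom.toAlgebra
  let i4 : Algebra B B' := ψ'.hom.toAlgebra
  let i5 : Algebra A B' := (φ ≫ ψ').hom.toAlgebra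
  have t1 : IsScalarTower A B B' := .of_algebraMap_eq' rfl
  have t2 : IsScalarTower A A' B' := .of_algebraMap_eq' (by
    change (φ ≫ ψ').hom = (ψ ≫ φ').hom
    rw [H.w])
  have hP : Algebra.IsPushout A B A' B' := by
    apply CommRingCat.isPushout_iff_isPushout.mp
    exact H
  exact tower_of_isPushout p n A B A' B' hT

variable {V Z V' Z' : Scheme.{u}} {r : V ⟶ Z} {h : Z' ⟶ Z} {r' : V' ⟶ Z'} {h' : V' ⟶ V}

theorem isPthRoot_of_isPullback (p : ℕ) (H : IsPullback h' r' r h) (hr : Quiet.IsPthRoot p r) :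
    Quiet.IsPthRoot p r' := by
  intro z'
  obtain ⟨U, hzU, hUaff, n, hT⟩ := hr (h z')
  obtain ⟨U', hU', hz'U', hle⟩ := TopologicalSpace.Opens.isBasis_iff_nbhd.mp Z'.isBasis_affineOpens
    (show z' ∈ h ⁻¹ᵁ U.1 from hzU)
  have hUY : r' ⁻¹ᵁ U' = h' ⁻¹ᵁ (r ⁻¹ᵁ U.1) ⊓ r' ⁻¹ᵁ U' := by
    refine (inf_eq_right.mpr ?_).symm
    rw [← Scheme.Hom.comp_preimage, H.w, Scheme.Hom.comp_preimage]
    exact r'.preimage_mono hle
  refine ⟨⟨U', hU'⟩, hz'U', ?_, n, ?_⟩
  · exact Groth.Agent.Lib.Helper18.GFl.isAffineOpen_of_isPullback H U.2 hU' hUaff hle le_rfl hUY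
  · have sq := Groth.Agent.Lib.Helper18.GFl.isPushout_appLE_of_isPullback H U.2 hU' hUaff hle
      le_rfl hUY
    have hT' : @Quiet.IsRootTower p n Γ(Z, U.1) Γ(V, r ⁻¹ᵁ U.1) _ _
        (r.appLE U.1 (r ⁻¹ᵁ U.1) le_rfl).hom.toAlgebra := by
      rw [← Scheme.Hom.app_eq_appLE]
      exact hT
    have := tower_of_isPushout_cat p n _ _ _ _ sq hT'
    rw [← Scheme.Hom.app_eq_appLE] at this
    exact this

theorem main (p : ℕ) {X Y X' Y' : Scheme.{u}}
    (f : Y ⟶ X) (g : X' ⟶ X) (f' : Y' ⟶ X') (g' : Y' ⟶ Y) (H : IsPullback g' f' f g)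
    (hf : Quiet.IsQuiet p f) : Quiet.IsQuiet p f' := by
  intro y'
  obtain ⟨V, Z, r, e, hyV, hr, he, hfac⟩ := hf (g' y')
  have hcond : ((g' ∣_ V) ≫ r) ≫ e = ((g' ⁻¹ᵁ V).ι ≫ f') ≫ g := by
    rw [Category.assoc, hfac, Category.assoc, ← H.w, ← Category.assoc, ← Category.assoc,
      morphismRestrict_ι]
  let r' : ((g' ⁻¹ᵁ V : Y'.Opens) : Scheme.{u}) ⟶ pullback e g :=
    pullback.lift ((g' ∣_ V) ≫ r) ((g' ⁻¹ᵁ V).ι ≫ f') hcond
  have hr'1 : r' ≫ pullback.fst e g = (g' ∣_ V) ≫ r := pullback.lift_fst _ _ _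
  have hr'2 : r' ≫ pullback.snd e g = (g' ⁻¹ᵁ V).ι ≫ f' := pullback.lift_snd _ _ _
  refine ⟨g' ⁻¹ᵁ V, pullback e g, r', pullback.snd e g, hyV, ?_, inferInstance, hr'2⟩
  have big : IsPullback (g' ∣_ V) ((g' ⁻¹ᵁ V).ι ≫ f') (V.ι ≫ f) g :=
    (isPullback_morphismRestrict g' V).paste_vert H
  rw [← hfac, ← hr'2] at big
  exact isPthRoot_of_isPullback p (IsPullback.of_bot big hr'1.symm (IsPullback.of_hasPullback e g)) hr

end Sch

end Groth.Agent.Lib.Helper14.QuietBC
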