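import Mathlib
import Groth.Prelude.Def_W4c2gaugesfzipsQuiet
import Groth.Agent.Lib.Helper14.QuietBC1
import Groth.Agent.Lib.Helper6.RelFrobEtale

set_option autoImplicit false
universe u
open CategoryTheory CategoryTheory.Limits AlgebraicGeometry Polynomial

namespace Groth.Agent.Lib.Helper14.QuietTow

open Groth.Agent.Lib.Helper14.QuietBC

/-- root tower for a hom in `CommRingCat` -/
abbrev Tow (p n : ℕ) {A B : CommRingCat.{u}} (φ : A ⟶ B) : Prop :=
  @Quiet.IsRootTower p n A B _ _ φ.hom.toAlgebra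

theorem tow_of_iso_sq (p n : ℕ) {A B A' B' : CommRingCat.{u}} (φ : A ⟶ B) (ψ : A ⟶ A')
    (ψ' : B ⟶ B') (φ' : A' ⟶ B') [IsIso ψ] [IsIso ψ'] (w : φ ≫ ψ' = ψ ≫ φ')
    (h : Tow p n φ) : Tow p n φ' :=
  tower_of_isPushout_cat p n φ ψ ψ' φ' (IsPushout.of_vert_isIso ⟨w⟩) h

theorem tow_ofHom_iff (p n : ℕ) {A B : Type u} [CommRing A] [CommRing B] [inst : Algebra A B] :
    Tow p n (CommRingCat.ofHom (algebraMap A B)) ↔ Quiet.IsRootTower p n A B := by
  have : (CommRingCat.ofHom (algebraMap A B)).hom.toAlgebra = inst :=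
    Algebra.algebra_ext _ _ (fun _ => rfl)
  unfold Tow
  rw [this]

theorem tow_congr (p n : ℕ) {A B : CommRingCat.{u}} {φ φ' : A ⟶ B} (h : φ = φ') :
    Tow p n φ ↔ Tow p n φ' := by rw [h]

theorem tower_trans (p : ℕ) (n m : ℕ) :
    ∀ (A B C : Type u) [CommRing A] [CommRing B] [CommRing C] [Algebra A B] [Algebra B C]
      [Algebra A C] [IsScalarTower A B C],
      Quiet.IsRootTower p n A B → Quiet.IsRootTower p m B C →
        Quiet.IsRootTower p (n + m) A C := by
  induction n with
  | zero =>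
    intro A B C _ _ _ _ _ _ _ h1 h2
    obtain ⟨e⟩ : Nonempty (B ≃ₐ[A] A) := h1
    rw [Nat.zero_add]
    rw [← tow_ofHom_iff] at h2 ⊢
    have hiso : IsIso (CommRingCat.ofHom (e : B →+* A)) :=
      (e.toRingEquiv.toCommRingCatIso).isIso_hom
    refine tow_of_iso_sq p m (CommRingCat.ofHom (algebraMap B C)) (CommRingCat.ofHom (e : B →+* A))
      (𝟙 _) (CommRingCat.ofHom (algebraMap A C)) ?_ h2
    ext x
    change algebraMap B C x = algebraMap A C (e x)
    have hx : x = algebraMap A B (e x) := by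
      have := e.symm.commutes (e x)
      simpa using this
    conv_lhs => rw [hx]
    rw [← IsScalarTower.algebraMap_apply]
  | succ n ih =>
    intro A B C _ _ _ _ _ _ _ h1 h2
    obtain ⟨a, inst, htow, hT⟩ :
      ∃ (a : A) (_ : Algebra (Quiet.RootRing p A a) B),
        IsScalarTower A (Quiet.RootRing p A a) B ∧
          Quiet.IsRootTower p n (Quiet.RootRing p A a) B := h1
    let i3 : Algebra (Quiet.RootRing p A a) C :=
      ((algebraMap B C).comp (algebraMap (Quiet.RootRing p A a) B)).toAlgebra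
    have t1 : IsScalarTower (Quiet.RootRing p A a) B C := .of_algebraMap_eq' rfl
    have t2 : IsScalarTower A (Quiet.RootRing p A a) C := by
      refine .of_algebraMap_eq' ?_
      ext x
      change algebraMap A C x = algebraMap B C (algebraMap (Quiet.RootRing p A a) B (algebraMap A _ x))
      rw [← IsScalarTower.algebraMap_apply A (Quiet.RootRing p A a) B,
        ← IsScalarTower.algebraMap_apply A B C]
    have h3 := ih (Quiet.RootRing p A a) B C hT h2
    rw [Nat.succ_add]
    exact ⟨a, i3, t2, h3⟩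

theorem tow_trans (p n m : ℕ) {A B C : CommRingCat.{u}} (φ : A ⟶ B) (ψ : B ⟶ C)
    (h1 : Tow p n φ) (h2 : Tow p m ψ) : Tow p (n + m) (φ ≫ ψ) := by
  let i1 : Algebra A B := φ.hom.toAlgebra
  let i2 : Algebra B C := ψ.hom.toAlgebra
  let i3 : Algebra A C := (φ ≫ ψ).hom.toAlgebra
  have t1 : IsScalarTower A B C := .of_algebraMap_eq' rfl
  exact tower_trans p n m A B C h1 h2

/-- one elementary extraction is a tower of length one -/
theorem tower_one (p : ℕ) (A : Type u) [CommRing A] (a : A) :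
    Quiet.IsRootTower p 1 A (Quiet.RootRing p A a) :=
  ⟨a, Algebra.id _, inferInstance, ⟨AlgEquiv.refl⟩⟩


section Descent

open TensorProduct

variable (p : ℕ) [Fact p.Prime]

theorem etale_of_isPushout {A A' B B' : CommRingCat.{u}} {f : A ⟶ A'} {g : A ⟶ B} {f' : B ⟶ B'}
    {g' : A' ⟶ B'} (sq : IsPushout g f f' g') (hf : f.hom.Etale) : f'.hom.Etale := by
  have h : (RingHom.toMorphismProperty @RingHom.Etale).IsStableUnderCobaseChange :=
    RingHom.isStableUnderCobaseChange_toMorphismProperty_iff.mpr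
      RingHom.Etale.isStableUnderBaseChange
  exact h.of_isPushout sq hf

/-- The Frobenius square of an étale algebra in characteristic `p` is a pushout. -/
theorem isPushout_frobenius (A C : Type u) [CommRing A] [CommRing C] [Algebra A C]
    [Algebra.Etale A C] [CharP A p] [CharP C p] :
    IsPushout (CommRingCat.ofHom (frobenius A p)) (CommRingCat.ofHom (algebraMap A C))
      (CommRingCat.ofHom (algebraMap A C)) (CommRingCat.ofHom (frobenius C p)) := by
  have h0 := (CommRingCat.isPushout_tensorProduct A C (FrobAlg.Twist p A)).flip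
  have hb := Groth.Agent.Lib.Helper6.RelFrob.bijective_relFrob_of_etale p A C
  let e4 : C ⊗[A] FrobAlg.Twist p A ≃+* C := RingEquiv.ofBijective (FrobAlg.relFrob p A C) hb
  refine h0.of_iso (Iso.refl _) (FrobAlg.toTwist p A).symm.toCommRingCatIso (Iso.refl _)
    e4.toCommRingCatIso ?_ ?_ ?_ ?_
  · ext a
    rfl
  · rfl
  · ext t
    exact Groth.Agent.Lib.Helper6.RelFrob.relFrob_algebraMap p A C t
  · ext b
    change FrobAlg.relFrob p A C (b ⊗ₜ[A] 1) = b ^ p
    rw [Groth.Agent.Lib.Helper6.RelFrob.relFrob_tmul, map_one, map_one, mul_one]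


/-- the ring map `A[x]/(x^p - a) → A`, `∑ cᵢ xⁱ ↦ ∑ cᵢ^p aⁱ` -/
noncomputable def phi (A : Type u) [CommRing A] [CharP A p] (a : A) : Quiet.RootRing p A a →+* A :=
  AdjoinRoot.lift (frobenius A p) a (by
    simp only [eval₂_sub, eval₂_pow, eval₂_X, eval₂_C, frobenius_def, sub_self])

theorem phi_of (A : Type u) [CommRing A] [CharP A p] (a c : A) :
    phi p A a (AdjoinRoot.of _ c) = c ^ p := by
  simp [phi, frobenius_def]

theorem phi_root (A : Type u) [CommRing A] [CharP A p] (a : A) :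
    phi p A a (AdjoinRoot.root _) = a := by
  simp [phi]

theorem of_comp_phi (A : Type u) [CommRing A] [CharP A p] (a : A)
    [CharP (Quiet.RootRing p A a) p] :
    (AdjoinRoot.of (X ^ p - C a : A[X])).comp (phi p A a) = frobenius (Quiet.RootRing p A a) p := by
  apply AdjoinRoot.ringHom_ext
  · ext c
    simp only [RingHom.comp_apply, phi_of, map_pow, frobenius_def]
  · simp only [RingHom.comp_apply, phi_root, frobenius_def, root_pow_eq]

theorem descent_one (A : Type u) [CommRing A] (hA : (p : A) = 0) (a : A) (D : CommRingCat.{u})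
    [Nontrivial D] (α : CommRingCat.of (Quiet.RootRing p A a) ⟶ D) (hα : α.hom.Etale) :
    ∃ (D₀ : CommRingCat.{u}) (j : CommRingCat.of A ⟶ D₀) (k : D₀ ⟶ D), j.hom.Etale ∧
      j ≫ k = CommRingCat.ofHom (AdjoinRoot.of _) ≫ α ∧ Tow p 1 k := by
  have hp : p.Prime := Fact.out
  have n1 : Nontrivial (Quiet.RootRing p A a) := α.hom.domain_nontrivial
  have n2 : Nontrivial A := (AdjoinRoot.of (X ^ p - C a : A[X])).domain_nontrivial
  have c1 : CharP A p := (CharP.charP_iff_prime_eq_zero hp).mpr hA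
  have c2 : CharP (Quiet.RootRing p A a) p := (CharP.charP_iff_prime_eq_zero hp).mpr (by
    rw [← map_natCast (AdjoinRoot.of (X ^ p - C a : A[X])), hA, map_zero])
  have c3 : CharP D p := (CharP.charP_iff_prime_eq_zero hp).mpr (by
    rw [← map_natCast α.hom, CharP.cast_eq_zero, map_zero])
  let φ : CommRingCat.of (Quiet.RootRing p A a) ⟶ CommRingCat.of A :=
    CommRingCat.ofHom (phi p A a)
  let ι : CommRingCat.of A ⟶ CommRingCat.of (Quiet.RootRing p A a) :=
    CommRingCat.ofHom (AdjoinRoot.of _)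
  have hφι : φ ≫ ι = CommRingCat.ofHom (frobenius (Quiet.RootRing p A a) p) := by
    apply CommRingCat.hom_ext
    exact of_comp_phi p A a
  let i0 : Algebra (Quiet.RootRing p A a) D := α.hom.toAlgebra
  have e0 : Algebra.Etale (Quiet.RootRing p A a) D := hα
  have hF := isPushout_frobenius p (Quiet.RootRing p A a) D
  have hα' : CommRingCat.ofHom (algebraMap (Quiet.RootRing p A a) D) = α := rfl
  rw [hα', ← hφι] at hF
  have t : IsPushout φ α (pushout.inl φ α) (pushout.inr φ α) := IsPushout.of_hasPushout φ α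
  have hcomm : φ ≫ ι ≫ α = α ≫ CommRingCat.ofHom (frobenius D p) := by
    rw [← Category.assoc, hF.w]
  have hR : IsPushout ι (pushout.inl φ α) α
      (t.desc (ι ≫ α) (CommRingCat.ofHom (frobenius D p)) hcomm) := IsPushout.of_left' hF t
  refine ⟨pushout φ α, pushout.inl φ α,
    t.desc (ι ≫ α) (CommRingCat.ofHom (frobenius D p)) hcomm, ?_, ?_, ?_⟩
  · exact etale_of_isPushout t hα
  · exact t.inl_desc _ _ _
  · refine tower_of_isPushout_cat p 1 ι (pushout.inl φ α) α _ hR ?_
    exact (tow_ofHom_iff p 1).mpr (tower_one p A a)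


theorem descent (n : ℕ) : ∀ (A B D : CommRingCat.{u}) (β : A ⟶ B) (α : B ⟶ D), (p : A) = 0 →
    Nontrivial D → α.hom.Etale → Tow p n β →
    ∃ (D₀ : CommRingCat.{u}) (j : A ⟶ D₀) (k : D₀ ⟶ D), j.hom.Etale ∧ j ≫ k = β ≫ α ∧
      Tow p n k := by
  induction n with
  | zero =>
    intro A B D β α hA hD hα hT
    let i0 : Algebra A B := β.hom.toAlgebra
    obtain ⟨e⟩ : Nonempty (B ≃ₐ[A] A) := hT
    refine ⟨D, β ≫ α, 𝟙 D, ?_, by simp, ⟨AlgEquiv.refl⟩⟩
    have hβ : Function.Bijective β.hom := by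
      have h1 : ⇑β.hom = ⇑e.symm := funext fun x => (e.symm.commutes x).symm
      rw [h1]
      exact e.symm.bijective
    exact RingHom.Etale.stableUnderComposition _ _ (RingHom.Etale.of_bijective hβ) hα
  | succ n ih =>
    intro A B D β α hA hD hα hT
    let i0 : Algebra A B := β.hom.toAlgebra
    obtain ⟨a, inst, htow, hT'⟩ :
      ∃ (a : A) (_ : Algebra (Quiet.RootRing p A a) B),
        IsScalarTower A (Quiet.RootRing p A a) B ∧
          Quiet.IsRootTower p n (Quiet.RootRing p A a) B := hT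
    let β₁ : CommRingCat.of (Quiet.RootRing p A a) ⟶ B :=
      CommRingCat.ofHom (algebraMap (Quiet.RootRing p A a) B)
    have hβ : β = CommRingCat.ofHom (AdjoinRoot.of _) ≫ β₁ := by
      ext x
      exact IsScalarTower.algebraMap_apply A (Quiet.RootRing p A a) B x
    have hT₁ : Tow p n β₁ := (tow_ofHom_iff p n).mpr hT'
    have hA₁ : ((p : ℕ) : CommRingCat.of (Quiet.RootRing p A a)) = 0 := by
      change ((p : ℕ) : Quiet.RootRing p A a) = 0
      rw [← map_natCast (AdjoinRoot.of (X ^ p - C a : (A : Type u)[X])), hA, map_zero]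
    obtain ⟨D₁, j', k', hj', hjk', hk'⟩ := ih _ B D β₁ α hA₁ hD hα hT₁
    have : Nontrivial D₁ := k'.hom.domain_nontrivial
    obtain ⟨D₀, j, k, hj, hjk, hk⟩ := descent_one p A hA a D₁ j' hj'
    refine ⟨D₀, j, k ≫ k', hj, ?_, ?_⟩
    · rw [← Category.assoc, hjk, Category.assoc, hjk', hβ, Category.assoc]
    · have := tow_trans p 1 n k k' hk hk'
      rwa [Nat.add_comm] at this

end Descent

end Groth.Agent.Lib.Helper14.QuietTow
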