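import Mathlib
import Groth.Prelude.Def_W4c2gaugesfzipsQuiet
import Groth.Agent.Lib.Helper14.QuietTow1
import Groth.Agent.Lib.Helper13.StdEtaleLift

set_option autoImplicit false
universe u
open CategoryTheory CategoryTheory.Limits AlgebraicGeometry Polynomial

namespace Groth.Agent.Lib.Helper14.QuietLift

open Groth.Agent.Lib.Helper14.QuietBC Groth.Agent.Lib.Helper14.QuietTow

variable (p : ℕ)

/-- the map `A[x]/(x^p - a) → A'[x]/(x^p - ψ a)` induced by `ψ : A → A'` -/
noncomputable def rootMap {A A' : Type u} [CommRing A] [CommRing A'] (ψ : A →+* A') (a : A) :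
    Quiet.RootRing p A a →+* Quiet.RootRing p A' (ψ a) :=
  AdjoinRoot.lift ((AdjoinRoot.of _).comp ψ) (AdjoinRoot.root _) (by
    simp only [eval₂_sub, eval₂_pow, eval₂_X, eval₂_C, RingHom.comp_apply]
    rw [root_pow_eq, sub_self])

theorem rootMap_of {A A' : Type u} [CommRing A] [CommRing A'] (ψ : A →+* A') (a c : A) :
    rootMap p ψ a (AdjoinRoot.of _ c) = AdjoinRoot.of _ (ψ c) := by
  simp [rootMap]

theorem rootMap_root {A A' : Type u} [CommRing A] [CommRing A'] (ψ : A →+* A') (a : A) :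
    rootMap p ψ a (AdjoinRoot.root _) = AdjoinRoot.root _ := by
  simp [rootMap]

theorem rootMap_surjective {A A' : Type u} [CommRing A] [CommRing A'] (ψ : A →+* A') (a : A)
    (hψ : Function.Surjective ψ) : Function.Surjective (rootMap p ψ a) := by
  intro y
  obtain ⟨q, rfl⟩ := AdjoinRoot.mk_surjective y
  obtain ⟨q', rfl⟩ := Polynomial.map_surjective ψ hψ q
  refine ⟨AdjoinRoot.mk _ q', ?_⟩
  induction q' using Polynomial.induction_on' with
  | add q1 q2 h1 h2 => simp only [map_add, Polynomial.map_add, h1, h2]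
  | monomial n c =>
    rw [Polynomial.map_monomial, ← Polynomial.C_mul_X_pow_eq_monomial,
      ← Polynomial.C_mul_X_pow_eq_monomial, map_mul, map_pow, map_mul, map_pow, map_mul, map_pow]
    rw [AdjoinRoot.mk_C, AdjoinRoot.mk_X, AdjoinRoot.mk_C, AdjoinRoot.mk_X, rootMap_of,
      rootMap_root]

theorem isPushout_rootRing {A A' : CommRingCat.{u}} (ψ : A ⟶ A') (a : A) :
    IsPushout (CommRingCat.ofHom (AdjoinRoot.of (X ^ p - C a : (A : Type u)[X])) :
        A ⟶ CommRingCat.of (Quiet.RootRing p A a)) ψ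
      (CommRingCat.ofHom (rootMap p ψ.hom a))
      (CommRingCat.ofHom (AdjoinRoot.of (X ^ p - C (ψ.hom a) : (A' : Type u)[X])) :
        A' ⟶ CommRingCat.of (Quiet.RootRing p A' (ψ.hom a))) := by
  let i0 : Algebra A A' := ψ.hom.toAlgebra
  let i1 : Algebra (Quiet.RootRing p A a) (Quiet.RootRing p A' (ψ.hom a)) :=
    (rootMap p ψ.hom a).toAlgebra
  have t1 : IsScalarTower A (Quiet.RootRing p A a) (Quiet.RootRing p A' (ψ.hom a)) := by
    refine .of_algebraMap_eq' ?_
    ext x
    change algebraMap A _ x = rootMap p ψ.hom a (algebraMap A _ x)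
    rw [AdjoinRoot.algebraMap_eq, rootMap_of,
      IsScalarTower.algebraMap_apply A A' (Quiet.RootRing p A' (ψ.hom a)),
      AdjoinRoot.algebraMap_eq]
    rfl
  have hf : (X ^ p - C a : (A : Type u)[X]).map (algebraMap A A') =
      (X ^ p - C (ψ.hom a) : (A' : Type u)[X]) := by
    simp only [Polynomial.map_sub, Polynomial.map_pow, Polynomial.map_X, Polynomial.map_C]
    rfl
  have hL : Algebra.IsPushout A A' (Quiet.RootRing p A a) (Quiet.RootRing p A' (ψ.hom a)) :=
    isPushout_adjoinRoot' (X ^ p - C a : (A : Type u)[X]) _ hf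
      (fun x => rootMap_of p ψ.hom a x) (rootMap_root p ψ.hom a)
  have hL' : Algebra.IsPushout A (Quiet.RootRing p A a) A' (Quiet.RootRing p A' (ψ.hom a)) :=
    hL.symm
  exact CommRingCat.isPushout_of_isPushout A (Quiet.RootRing p A a) A'
    (Quiet.RootRing p A' (ψ.hom a))

theorem lift_tower (n : ℕ) : ∀ (A k B' : CommRingCat.{u}) (π : A ⟶ k) (β : k ⟶ B'),
    Function.Surjective π.hom → Tow p n β →
    ∃ (B : CommRingCat.{u}) (β' : A ⟶ B) (π' : B ⟶ B'), Tow p n β' ∧ IsPushout β' π π' β := by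
  induction n with
  | zero =>
    intro A k B' π β hπ hT
    let i0 : Algebra k B' := β.hom.toAlgebra
    obtain ⟨e⟩ : Nonempty (B' ≃ₐ[k] k) := hT
    have hβ : Function.Bijective β.hom := by
      have h1 : ⇑β.hom = ⇑e.symm := funext fun x => (e.symm.commutes x).symm
      rw [h1]
      exact e.symm.bijective
    have : IsIso β := by
      have : IsIso ((forget CommRingCat).map β) := (isIso_iff_bijective _).mpr hβ
      exact isIso_of_reflects_iso β (forget CommRingCat)
    refine ⟨A, 𝟙 A, π ≫ β, ⟨AlgEquiv.refl⟩, IsPushout.of_horiz_isIso ⟨by simp⟩⟩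
  | succ n ih =>
    intro A k B' π β hπ hT
    let i0 : Algebra k B' := β.hom.toAlgebra
    obtain ⟨a', inst, htow, hT'⟩ :
      ∃ (a : k) (_ : Algebra (Quiet.RootRing p k a) B'),
        IsScalarTower k (Quiet.RootRing p k a) B' ∧
          Quiet.IsRootTower p n (Quiet.RootRing p k a) B' := hT
    obtain ⟨a, rfl⟩ := hπ a'
    let β₁ : CommRingCat.of (Quiet.RootRing p k (π.hom a)) ⟶ B' :=
      CommRingCat.ofHom (algebraMap (Quiet.RootRing p k (π.hom a)) B')
    have hβ : β = CommRingCat.ofHom (AdjoinRoot.of _) ≫ β₁ := by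
      ext x
      exact IsScalarTower.algebraMap_apply k (Quiet.RootRing p k (π.hom a)) B' x
    have hT₁ : Tow p n β₁ := (tow_ofHom_iff p n).mpr hT'
    obtain ⟨B, β₁', π', hT₂, hsq⟩ := ih (CommRingCat.of (Quiet.RootRing p A a))
      (CommRingCat.of (Quiet.RootRing p k (π.hom a))) B' (CommRingCat.ofHom (rootMap p π.hom a)) β₁
      (rootMap_surjective p π.hom a hπ) hT₁
    refine ⟨B, CommRingCat.ofHom (AdjoinRoot.of _) ≫ β₁', π', ?_, ?_⟩
    · have h1 : Tow p 1 (CommRingCat.ofHom (AdjoinRoot.of (X ^ p - C a : (A : Type u)[X])) :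
          A ⟶ CommRingCat.of (Quiet.RootRing p A a)) :=
        (tow_ofHom_iff p 1).mpr (tower_one p A a)
      have := tow_trans p 1 n _ β₁' h1 hT₂
      rwa [Nat.add_comm] at this
    · rw [hβ]
      exact (isPushout_rootRing p π a).paste_horiz hsq


open TensorProduct in
theorem lift_stdEtale_tower (n : ℕ) {R k D B' : CommRingCat.{u}} (π : R ⟶ k)
    (hπ : Function.Surjective π.hom) (ε : k ⟶ D)
    (hε : @Algebra.IsStandardEtale k D _ _ ε.hom.toAlgebra) (β : D ⟶ B') (hβ : Tow p n β) :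
    ∃ (A B : CommRingCat.{u}) (ρ : R ⟶ A) (β' : A ⟶ B) (π' : B ⟶ B'), ρ.hom.Etale ∧ Tow p n β' ∧
      IsPushout (ρ ≫ β') π π' (ε ≫ β) := by
  let i0 : Algebra R k := π.hom.toAlgebra
  let i1 : Algebra k D := ε.hom.toAlgebra
  obtain ⟨P, ⟨e⟩⟩ := Groth.Agent.Lib.Helper13.exists_standardEtalePair_lift (A := R) (k := k)
    (B := D) hπ
  let ρ : R ⟶ CommRingCat.of P.Ring := CommRingCat.ofHom (algebraMap R P.Ring)
  let πt : CommRingCat.of P.Ring ⟶ D :=
    CommRingCat.ofHom ((e : k ⊗[R] P.Ring →+* D).comp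
      (Algebra.TensorProduct.includeRight (R := R) (A := k) (B := P.Ring)).toRingHom)
  have sq1 : IsPushout ρ π πt ε := by
    have h1 := (CommRingCat.isPushout_tensorProduct R k P.Ring).flip
    refine h1.of_iso (Iso.refl _) (Iso.refl _) (Iso.refl _) e.toRingEquiv.toCommRingCatIso
      ?_ ?_ ?_ ?_
    · rfl
    · rfl
    · rfl
    · ext x
      exact e.commutes x
  have hπt : Function.Surjective πt.hom :=
    e.surjective.comp (Algebra.TensorProduct.includeRight_surjective (R := R) (S := k) P.Ring hπ)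
  obtain ⟨B, β', π', hT, sq2⟩ := lift_tower p n _ D B' πt β hπt hβ
  refine ⟨_, B, ρ, β', π', ?_, hT, sq1.paste_horiz sq2⟩
  exact RingHom.etale_algebraMap.mpr inferInstance

end Groth.Agent.Lib.Helper14.QuietLift
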