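import Mathlib
import Groth.Prelude.Def_W4c2gaugesfzipsQuiet
import Groth.Prelude.Def_Frob
import Groth.Agent.Lib.Helper14.QuietTow1

set_option autoImplicit false
universe u
open CategoryTheory CategoryTheory.Limits AlgebraicGeometry

namespace Groth.Agent.Lib.Helper14.QuietTow

open Groth.Agent.Lib.Helper14.QuietBC

section

variable (p : ℕ)

theorem exists_tower_nbhd {V Z : Scheme.{u}} {r : V ⟶ Z} (hr : Quiet.IsPthRoot p r) (z : Z)
    (E : Z.Opens) (hz : z ∈ E) :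
    ∃ U : Z.Opens, ∃ (_ : IsAffineOpen U), z ∈ U ∧ U ≤ E ∧ ∃ (_ : IsAffineOpen (r ⁻¹ᵁ U)),
      ∃ n, Tow p n (r.app U) := by
  obtain ⟨U₀, hzU, hUaff, n, hT⟩ := hr z
  obtain ⟨U, hU, hzU', hle⟩ := TopologicalSpace.Opens.isBasis_iff_nbhd.mp Z.isBasis_affineOpens
    (show z ∈ U₀.1 ⊓ E from ⟨hzU, hz⟩)
  have H : IsPullback (𝟙 V) r r (𝟙 Z) := IsPullback.of_id_fst
  have hle1 : U ≤ (𝟙 Z) ⁻¹ᵁ U₀.1 := hle.trans inf_le_left
  have hUY : r ⁻¹ᵁ U = (𝟙 V) ⁻¹ᵁ (r ⁻¹ᵁ U₀.1) ⊓ r ⁻¹ᵁ U := by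
    refine (inf_eq_right.mpr ?_).symm
    exact r.preimage_mono hle1
  have hV : IsAffineOpen (r ⁻¹ᵁ U) :=
    Groth.Agent.Lib.Helper18.GFl.isAffineOpen_of_isPullback H U₀.2 hU hUaff hle1 le_rfl hUY
  refine ⟨U, hU, hzU', hle.trans inf_le_right, hV, n, ?_⟩
  have sq := Groth.Agent.Lib.Helper18.GFl.isPushout_appLE_of_isPullback H U₀.2 hU hUaff hle1
    le_rfl hUY
  have hT' : Tow p n (r.appLE U₀.1 (r ⁻¹ᵁ U₀.1) le_rfl) := by
    rw [← Scheme.Hom.app_eq_appLE]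
    exact hT
  have := tower_of_isPushout_cat p n _ _ _ _ sq hT'
  rw [← Scheme.Hom.app_eq_appLE] at this
  exact this

theorem isPthRoot_SpecMap {A B : CommRingCat.{u}} (φ : A ⟶ B) (n : ℕ) (h : Tow p n φ) :
    Quiet.IsPthRoot p (Spec.map φ) := by
  intro x
  refine ⟨⟨⊤, isAffineOpen_top _⟩, trivial, isAffineOpen_top _, n, ?_⟩
  exact tow_of_iso_sq p n φ (Scheme.ΓSpecIso A).inv (Scheme.ΓSpecIso B).inv
    ((Spec.map φ).appTop) (Scheme.ΓSpecIso_inv_naturality φ) h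

theorem isPthRoot_iso_comp {N N' Y' : Scheme.{u}} (i : N' ⟶ N) [IsIso i] (r : N ⟶ Y')
    (hr : Quiet.IsPthRoot p r) : Quiet.IsPthRoot p (i ≫ r) :=
  isPthRoot_of_isPullback p
    (IsPullback.of_horiz_isIso ⟨by simp⟩ : IsPullback i (i ≫ r) r (𝟙 Y')) hr

theorem isQuiet_of_local {Y X : Scheme.{u}} (f : Y ⟶ X)
    (H : ∀ y : Y, ∃ (N Y' : Scheme.{u}) (j : N ⟶ Y) (_ : IsOpenImmersion j) (r : N ⟶ Y')
      (e : Y' ⟶ X), y ∈ Set.range j ∧ Quiet.IsPthRoot p r ∧ Etale e ∧ r ≫ e = j ≫ f) :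
    Quiet.IsQuiet p f := by
  intro y
  obtain ⟨N, Y', j, hj, r, e, hy, hr, he, hre⟩ := H y
  refine ⟨j.opensRange, Y', j.isoOpensRange.inv ≫ r, e, hy, isPthRoot_iso_comp p _ r hr, he, ?_⟩
  rw [Category.assoc, hre, ← Category.assoc, Scheme.Hom.isoOpensRange_inv_comp]

end

theorem main (p : ℕ) [Fact p.Prime] {X Y Z : Scheme.{u}} [FrobSch.IsCharP X p]
    (f : Y ⟶ X) (g : Z ⟶ Y) (hf : Quiet.IsQuiet p f) (hg : Quiet.IsQuiet p g) :
    Quiet.IsQuiet p (g ≫ f) := by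
  apply isQuiet_of_local
  intro z
  obtain ⟨V, Y', r, e, hyV, hr, he, hre⟩ := hf (g z)
  obtain ⟨W, Z', s, e', hzW, hs, he', hse'⟩ := hg z
  let y₀ : (V : Scheme.{u}) := ⟨g z, hyV⟩
  let z₀ : (W : Scheme.{u}) := ⟨z, hzW⟩
  obtain ⟨U', hU', hy'U', -, hT, n, hβ⟩ := exists_tower_nbhd p hr (r y₀) ⊤ trivial
  let E : Z'.Opens := e' ⁻¹ᵁ (V.ι ''ᵁ (r ⁻¹ᵁ U'))
  have hz'E : s z₀ ∈ E := by
    change e' (s z₀) ∈ V.ι ''ᵁ (r ⁻¹ᵁ U')
    have h1 : e' (s z₀) = g z := by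
      have h0 := Scheme.Hom.comp_apply s e' z₀
      rw [← h0, hse']
      rfl
    rw [h1]
    exact ⟨y₀, hy'U', rfl⟩
  obtain ⟨U'', hU'', hz'U'', hU''E, hM, m, hγ⟩ := exists_tower_nbhd p hs (s z₀) E hz'E
  have hrange : Set.range (hU''.fromSpec ≫ e') ⊆ Set.range (hT.fromSpec ≫ V.ι) := by
    rintro _ ⟨x, rfl⟩
    have hx : hU''.fromSpec x ∈ U'' := by
      have hx0 : hU''.fromSpec x ∈ hU''.fromSpec.opensRange := ⟨x, rfl⟩
      rwa [hU''.opensRange_fromSpec] at hx0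
    obtain ⟨v, hv, hv'⟩ := hU''E hx
    have hv2 : v ∈ hT.fromSpec.opensRange := by
      rw [hT.opensRange_fromSpec]
      exact hv
    obtain ⟨w, rfl⟩ := hv2
    exact ⟨w, hv'⟩
  let l : Spec Γ(Z', U'') ⟶ Spec Γ(V, r ⁻¹ᵁ U') :=
    IsOpenImmersion.lift (hT.fromSpec ≫ V.ι) (hU''.fromSpec ≫ e') hrange
  have hl : l ≫ hT.fromSpec ≫ V.ι = hU''.fromSpec ≫ e' := IsOpenImmersion.lift_fac _ _ _
  have hlet : Etale l := by
    have : Etale (l ≫ (hT.fromSpec ≫ V.ι)) := by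
      rw [hl]
      infer_instance
    exact MorphismProperty.of_postcomp (W := @Etale) (W' := @Etale) l (hT.fromSpec ≫ V.ι)
      inferInstance this
  let α : Γ(V, r ⁻¹ᵁ U') ⟶ Γ(Z', U'') := Spec.preimage l
  have hα : Spec.map α = l := Spec.map_preimage l
  have hαet : α.hom.Etale := by
    rw [← hα] at hlet
    exact (HasRingHomProperty.Spec_iff (P := @Etale)).mp hlet
  have hA : ((p : ℕ) : Γ(Y', U')) = 0 := by
    have : FrobSch.IsCharP Y' p := FrobSch.IsCharP.of_hom e p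
    exact FrobSch.natCast_eq_zero_app Y' p U'
  have hne : Nonempty U'' := ⟨⟨s z₀, hz'U''⟩⟩
  have hnt : Nontrivial Γ(Z', U'') := Scheme.component_nontrivial Z' U''
  obtain ⟨D₀, j, k, hj, hjk, hk⟩ := descent p n _ _ _ (r.app U') α hA hnt hαet hβ
  have hjet : Etale (Spec.map j) := (HasRingHomProperty.Spec_iff (P := @Etale)).mpr hj
  refine ⟨Spec Γ(W, s ⁻¹ᵁ U''), Spec D₀, hM.fromSpec ≫ W.ι, inferInstance,
    Spec.map (k ≫ s.app U''), Spec.map j ≫ hU'.fromSpec ≫ e, ?_, ?_, inferInstance, ?_⟩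
  · have h1 : z₀ ∈ hM.fromSpec.opensRange := by
      rw [hM.opensRange_fromSpec]
      exact hz'U''
    obtain ⟨w, hw⟩ := h1
    refine ⟨w, ?_⟩
    rw [Scheme.Hom.comp_apply, hw]
    rfl
  · exact isPthRoot_SpecMap p _ (n + m) (tow_trans p n m k _ hk hγ)
  · have e1 : hM.fromSpec ≫ s = Spec.map (s.app U'') ≫ hU''.fromSpec := by
      rw [Scheme.Hom.app_eq_appLE, IsAffineOpen.SpecMap_appLE_fromSpec]
    have e2 : hT.fromSpec ≫ r = Spec.map (r.app U') ≫ hU'.fromSpec := by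
      rw [Scheme.Hom.app_eq_appLE, IsAffineOpen.SpecMap_appLE_fromSpec]
    calc Spec.map (k ≫ s.app U'') ≫ Spec.map j ≫ hU'.fromSpec ≫ e
        = Spec.map (j ≫ k ≫ s.app U'') ≫ hU'.fromSpec ≫ e := by
          rw [Spec.map_comp (j) (k ≫ s.app U''), Category.assoc]
      _ = Spec.map (s.app U'') ≫ Spec.map α ≫ Spec.map (r.app U') ≫ hU'.fromSpec ≫ e := by
          rw [← Category.assoc j, hjk, Spec.map_comp, Spec.map_comp, Category.assoc, Category.assoc]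
      _ = Spec.map (s.app U'') ≫ l ≫ hT.fromSpec ≫ r ≫ e := by
          rw [hα, ← Category.assoc (Spec.map (r.app U')), ← e2, Category.assoc]
      _ = Spec.map (s.app U'') ≫ l ≫ hT.fromSpec ≫ V.ι ≫ f := by rw [hre]
      _ = Spec.map (s.app U'') ≫ hU''.fromSpec ≫ e' ≫ f := by
          rw [← Category.assoc hT.fromSpec, ← Category.assoc l, hl, Category.assoc]
      _ = hM.fromSpec ≫ s ≫ e' ≫ f := by
          rw [← Category.assoc (Spec.map (s.app U'')), ← e1, Category.assoc]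
      _ = (hM.fromSpec ≫ W.ι) ≫ g ≫ f := by
          rw [← Category.assoc s, hse', Category.assoc, Category.assoc]

end Groth.Agent.Lib.Helper14.QuietTow
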