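import Mathlib
import Groth.Prelude.Def_W4c2gaugesfzipsQuiet
import Groth.Agent.Lib.Helper14.QuietLift1
import Groth.Agent.Lib.Helper14.QuietTow2

set_option autoImplicit false
universe u
open CategoryTheory CategoryTheory.Limits AlgebraicGeometry

namespace Groth.Agent.Lib.Helper14.QuietLift

open Groth.Agent.Lib.Helper14.QuietBC Groth.Agent.Lib.Helper14.QuietTow

variable (p : ℕ)

/-- ring-level lifting statement, with the standard étale shrinking built in -/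
theorem lift_etale_tower {R k D₀ : CommRingCat.{u}} (π : R ⟶ k)
    (hπ : Function.Surjective π.hom) (ε₀ : k ⟶ D₀) (hε₀ : ε₀.hom.Etale)
    (q : Ideal D₀) [q.IsPrime] :
    ∃ c : D₀, c ∉ q ∧ ∀ (D : CommRingCat.{u}) (loc : D₀ ⟶ D)
      (_ : @IsLocalization.Away D₀ _ c D _ loc.hom.toAlgebra) (B' : CommRingCat.{u})
      (β : D ⟶ B') (n : ℕ), Tow p n β →
      ∃ (A B : CommRingCat.{u}) (ρ : R ⟶ A) (β' : A ⟶ B) (π' : B ⟶ B'), ρ.hom.Etale ∧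
        Tow p n β' ∧ IsPushout (ρ ≫ β') π π' (ε₀ ≫ loc ≫ β) := by
  let i1 : Algebra k D₀ := ε₀.hom.toAlgebra
  have e1 : Algebra.Etale k D₀ := hε₀
  obtain ⟨c, hc, hstd⟩ := Algebra.IsEtaleAt.exists_isStandardEtale (R := k) q
  refine ⟨c, hc, ?_⟩
  intro D loc hloc B' β n hβ
  let i2 : Algebra D₀ D := loc.hom.toAlgebra
  let i3 : Algebra k D := (ε₀ ≫ loc).hom.toAlgebra
  have t1 : IsScalarTower k D₀ D := .of_algebraMap_eq' rfl
  let E : Localization.Away c ≃ₐ[k] D :=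
    (IsLocalization.algEquiv (Submonoid.powers c) (Localization.Away c) D).restrictScalars k
  have hstd' : Algebra.IsStandardEtale k D := Algebra.IsStandardEtale.of_equiv E
  have := lift_stdEtale_tower p n π hπ (ε₀ ≫ loc) hstd' β hβ
  simpa only [Category.assoc] using this

theorem tower_of_le {V Z : Scheme.{u}} (r : V ⟶ Z) {U₀ U : Z.Opens} (hU₀ : IsAffineOpen U₀)
    (hV₀ : IsAffineOpen (r ⁻¹ᵁ U₀)) (n : ℕ) (hT : Tow p n (r.app U₀)) (hU : IsAffineOpen U)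
    (hle : U ≤ U₀) : ∃ (_ : IsAffineOpen (r ⁻¹ᵁ U)), Tow p n (r.app U) := by
  have H : IsPullback (𝟙 V) r r (𝟙 Z) := IsPullback.of_id_fst
  have hle1 : U ≤ (𝟙 Z) ⁻¹ᵁ U₀ := hle
  have hUY : r ⁻¹ᵁ U = (𝟙 V) ⁻¹ᵁ (r ⁻¹ᵁ U₀) ⊓ r ⁻¹ᵁ U := by
    refine (inf_eq_right.mpr ?_).symm
    exact r.preimage_mono hle1
  have hV : IsAffineOpen (r ⁻¹ᵁ U) :=
    Groth.Agent.Lib.Helper18.GFl.isAffineOpen_of_isPullback H hU₀ hU hV₀ hle1 le_rfl hUY
  refine ⟨hV, ?_⟩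
  have sq := Groth.Agent.Lib.Helper18.GFl.isPushout_appLE_of_isPullback H hU₀ hU hV₀ hle1
    le_rfl hUY
  have hT' : Tow p n (r.appLE U₀ (r ⁻¹ᵁ U₀) le_rfl) := by
    rw [← Scheme.Hom.app_eq_appLE]
    exact hT
  have := tower_of_isPushout_cat p n _ _ _ _ sq hT'
  rw [← Scheme.Hom.app_eq_appLE] at this
  exact this

theorem isPullback_fromSpec_preimage {X Y : Scheme.{u}} (f : X ⟶ Y) {U : Y.Opens}
    (hU : IsAffineOpen U) (hV : IsAffineOpen (f ⁻¹ᵁ U)) :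
    IsPullback (Spec.map (f.app U)) hV.fromSpec hU.fromSpec f := by
  apply IsOpenImmersion.isPullback
  · rw [Scheme.Hom.app_eq_appLE, IsAffineOpen.SpecMap_appLE_fromSpec]
  · rw [hU.opensRange_fromSpec, hV.opensRange_fromSpec]

theorem isPullback_iso_comp {C : Type*} [Category C] {P P' X Y Z : C} {fst : P ⟶ X} {snd : P ⟶ Y}
    {f : X ⟶ Z} {g : Y ⟶ Z} (h : IsPullback fst snd f g) (a : P' ⟶ P) [IsIso a] :
    IsPullback (a ≫ fst) (a ≫ snd) f g :=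
  IsPullback.of_iso h (asIso a).symm (Iso.refl _) (Iso.refl _) (Iso.refl _) (by simp) (by simp)
    (by simp) (by simp)

theorem main {T U U' : Scheme.{u}} (i : U ⟶ T) [IsClosedImmersion i] (f' : U' ⟶ U)
    (hf' : Quiet.IsQuiet p f') (u : U') :
    ∃ (V : U'.Opens) (T' : Scheme.{u}) (q : T' ⟶ T) (j : (V : Scheme.{u}) ⟶ T'),
      u ∈ V ∧ Quiet.IsQuiet p q ∧ IsPullback j (V.ι ≫ f') q i := by
  obtain ⟨V₀, Y', r, e, huV, hr, he, hre⟩ := hf' u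
  let u₀ : (V₀ : Scheme.{u}) := ⟨u, huV⟩
  obtain ⟨T₁, hT₁0, htT₁, -⟩ := TopologicalSpace.Opens.isBasis_iff_nbhd.mp T.isBasis_affineOpens
    (show i (e (r u₀)) ∈ (⊤ : T.Opens) from trivial)
  have hT₁ : IsAffineOpen T₁ := hT₁0
  have hU₁ : IsAffineOpen (i ⁻¹ᵁ T₁) := hT₁.preimage i
  have hπ : Function.Surjective (i.app T₁).hom := i.app_surjective T₁ hT₁
  obtain ⟨Y₃, hY₃, hyY₃, hY₃E, hV₃, n, hβ₃⟩ :=
    exists_tower_nbhd p hr (r u₀) (e ⁻¹ᵁ (i ⁻¹ᵁ T₁)) htT₁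
  have hε₀ : (e.appLE (i ⁻¹ᵁ T₁) Y₃ hY₃E).hom.Etale :=
    HasRingHomProperty.appLE (P := @Etale) e he ⟨_, hU₁⟩ ⟨_, hY₃⟩ hY₃E
  obtain ⟨c, hc, H⟩ := lift_etale_tower p (i.app T₁) hπ (e.appLE _ Y₃ hY₃E) hε₀
    (hY₃.primeIdealOf ⟨r u₀, hyY₃⟩).asIdeal
  have hD : IsAffineOpen (Y'.basicOpen c) := hY₃.basicOpen c
  have hDle : Y'.basicOpen c ≤ Y₃ := Y'.basicOpen_le c
  have hyD : r u₀ ∈ Y'.basicOpen c := by
    have h1 : hY₃.primeIdealOf ⟨r u₀, hyY₃⟩ ∈ hY₃.fromSpec ⁻¹ᵁ Y'.basicOpen c := by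
      rw [hY₃.fromSpec_preimage_basicOpen]
      exact hc
    have h2 : hY₃.fromSpec (hY₃.primeIdealOf ⟨r u₀, hyY₃⟩) ∈ Y'.basicOpen c := h1
    rwa [hY₃.fromSpec_primeIdealOf] at h2
  obtain ⟨hVD, hβ⟩ := tower_of_le p r hY₃ hV₃ n hβ₃ hD hDle
  have hloc : IsLocalization.Away c Γ(Y', Y'.basicOpen c) := hY₃.isLocalization_basicOpen c
  obtain ⟨A, B, ρ, β', π', hρ, hβ', hpo⟩ := H Γ(Y', Y'.basicOpen c)
    (Y'.presheaf.map (homOfLE hDle).op) hloc _ (r.app (Y'.basicOpen c)) n hβ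
  have hρet : Etale (Spec.map ρ) := (HasRingHomProperty.Spec_iff (P := @Etale)).mpr hρ
  -- the key compatibility
  have hκ : Spec.map (e.appLE (i ⁻¹ᵁ T₁) Y₃ hY₃E ≫ Y'.presheaf.map (homOfLE hDle).op ≫
      r.app (Y'.basicOpen c)) ≫ hU₁.fromSpec = (hVD.fromSpec ≫ V₀.ι) ≫ f' := by
    have e2 : hVD.fromSpec ≫ r = Spec.map (r.app (Y'.basicOpen c)) ≫ hD.fromSpec := by
      rw [Scheme.Hom.app_eq_appLE, IsAffineOpen.SpecMap_appLE_fromSpec]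
    rw [← Category.assoc, Scheme.Hom.appLE_map, Spec.map_comp, Category.assoc,
      IsAffineOpen.SpecMap_appLE_fromSpec e hU₁ hD, ← Category.assoc, ← e2, Category.assoc, hre,
      Category.assoc]
  let jN : Spec Γ(V₀, r ⁻¹ᵁ Y'.basicOpen c) ⟶ U' := hVD.fromSpec ≫ V₀.ι
  refine ⟨jN.opensRange, Spec B, Spec.map (ρ ≫ β') ≫ hT₁.fromSpec,
    jN.isoOpensRange.inv ≫ Spec.map π', ?_, ?_, ?_⟩
  · have h1 : u₀ ∈ hVD.fromSpec.opensRange := by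
      rw [hVD.opensRange_fromSpec]
      exact hyD
    obtain ⟨w, hw⟩ := h1
    refine ⟨w, ?_⟩
    change (hVD.fromSpec ≫ V₀.ι) w = u
    rw [Scheme.Hom.comp_apply, hw]
    rfl
  · apply isQuiet_of_local
    intro y
    have het : Etale (Spec.map ρ ≫ hT₁.fromSpec) := inferInstance
    refine ⟨Spec B, Spec A, 𝟙 _, inferInstance, Spec.map β', Spec.map ρ ≫ hT₁.fromSpec,
      ⟨y, rfl⟩, isPthRoot_SpecMap p β' n hβ', het, ?_⟩
    rw [Category.id_comp, Spec.map_comp, Category.assoc]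
  · have ha := isPullback_SpecMap_of_isPushout _ _ _ _ hpo
    have hb := isPullback_fromSpec_preimage i hT₁ hU₁
    have hc' := ha.paste_vert hb
    rw [hκ] at hc'
    have hd := isPullback_iso_comp hc' jN.isoOpensRange.inv
    rw [← Category.assoc, Scheme.Hom.isoOpensRange_inv_comp] at hd
    exact hd

end Groth.Agent.Lib.Helper14.QuietLift
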