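import Mathlib
import Groth.Prelude.Def_W4c2gaugesfzipsQuiet
import Groth.Prelude.Def_RegImm
import Groth.Agent.Lib.Helper16.SyntMor
import Groth.Agent.Helper19.LciMor
import Groth.Agent.S18934
set_option autoImplicit false
universe u
open CategoryTheory CategoryTheory.Limits AlgebraicGeometry Polynomial

namespace Groth.Agent.Lib.Helper14.QuietSynt

open Groth.Agent.Lib.Helper16.KzComp

section Alg

variable (A : Type u) [CommRing A] (g : A[X])

theorem isLCI_adjoinRoot (hg : g.Monic) : LCI.IsLCI A (AdjoinRoot g) := by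
  refine ⟨inferInstance, 1, MvPolynomial.aeval (R := A) (fun _ : Fin 1 => AdjoinRoot.root g),
    Groth.Agent.S18934.aeval_root_surjective A g, ?_⟩
  have hker := Groth.Agent.S18934.span_eq_ker A g
  have h1 : RingHom.ker (MvPolynomial.aeval (R := A)
      (fun _ : Fin 1 => AdjoinRoot.root g)).toRingHom =
      Ideal.ofList [(MvPolynomial.uniqueAlgEquiv A (Fin 1)).symm g] := by
    change RingHom.ker (MvPolynomial.aeval (R := A) (fun _ : Fin 1 => AdjoinRoot.root g)) = _
    rw [← hker, Set.range_const, Ideal.ofList]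
    congr 1
    ext x
    simp
  rw [h1]
  apply isKoszulRegularIdeal_ofList
  apply kreg_of_isWeaklyRegular
  rw [RingTheory.Sequence.isWeaklyRegular_singleton_iff]
  have hreg : IsRegular g := hg.isRegular
  intro x y hxy
  simp only [smul_eq_mul] at hxy
  have h2 := congrArg (MvPolynomial.uniqueAlgEquiv A (Fin 1)) hxy
  rw [map_mul, map_mul, AlgEquiv.apply_symm_apply] at h2
  exact (MvPolynomial.uniqueAlgEquiv A (Fin 1)).injective (hreg.left h2)

end Alg

section Tower

theorem flat_and_isLCI_of_tower (p : ℕ) (hp : p ≠ 0) (n : ℕ) :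
    ∀ (A B : Type u) [CommRing A] [CommRing B] [Algebra A B],
      Quiet.IsRootTower p n A B → Module.Flat A B ∧ LCI.IsLCI A B := by
  induction n with
  | zero =>
    intro A B _ _ _ h
    obtain ⟨e⟩ : Nonempty (B ≃ₐ[A] A) := h
    refine ⟨Module.Flat.of_linearEquiv e.toLinearEquiv, ?_⟩
    have hloc : IsLocalization.Away (1 : A) A :=
      IsLocalization.away_of_isUnit_of_bijective A isUnit_one Function.bijective_id
    have : LCI.IsLCI A A := isLCI_of_isLocalizationAway A A 1
    exact isLCI_of_algEquiv A e.symm this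
  | succ n ih =>
    intro A B _ _ _ h
    obtain ⟨a, inst, htow, hT⟩ :
      ∃ (a : A) (_ : Algebra (Quiet.RootRing p A a) B),
        IsScalarTower A (Quiet.RootRing p A a) B ∧
          Quiet.IsRootTower p n (Quiet.RootRing p A a) B := h
    obtain ⟨h1, h2⟩ := ih (Quiet.RootRing p A a) B hT
    have hm : (X ^ p - C a : A[X]).Monic := monic_X_pow_sub_C a hp
    have h3 : Module.Flat A (Quiet.RootRing p A a) := by
      have : Module.Free A (AdjoinRoot (X ^ p - C a : A[X])) :=
        Module.Free.of_basis (AdjoinRoot.powerBasis' hm).basis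
      exact inferInstanceAs (Module.Flat A (AdjoinRoot (X ^ p - C a : A[X])))
    have h4 : LCI.IsLCI A (Quiet.RootRing p A a) := isLCI_adjoinRoot A _ hm
    exact ⟨Module.Flat.trans A (Quiet.RootRing p A a) B, isLCI_trans A _ B h4 h2⟩

end Tower

section Sch

open Groth.Agent.Helper19.LciMor

theorem flat_lciMor_of_isPthRoot (p : ℕ) (hp : p ≠ 0) {V Z : Scheme.{u}} (r : V ⟶ Z)
    (hr : Quiet.IsPthRoot p r) : Flat r ∧ LCIMor r := by
  have key : ∀ v : V, ∃ (U : Z.affineOpens) (W : V.affineOpens) (_ : v ∈ W.1)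
      (e : W.1 ≤ r ⁻¹ᵁ U.1),
      (r.appLE U.1 W.1 e).hom.Flat ∧ IsLCIHom (r.appLE U.1 W.1 e).hom := by
    intro v
    obtain ⟨U, hvU, hUaff, n, hT⟩ := hr (r v)
    refine ⟨U, ⟨r ⁻¹ᵁ U.1, hUaff⟩, hvU, le_rfl, ?_⟩
    rw [← Scheme.Hom.app_eq_appLE]
    let _ := (r.app U.1).hom.toAlgebra
    obtain ⟨h1, h2⟩ := flat_and_isLCI_of_tower p hp n _ _ hT
    exact ⟨h1, h2⟩
  constructor
  · rw [HasRingHomProperty.iff_exists_appLE (P := @Flat)
      (RingHom.Flat.stableUnderComposition.stableUnderCompositionWithLocalizationAway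
        RingHom.Flat.holdsForLocalizationAway).1]
    intro v
    obtain ⟨U, W, hv, e, h1, h2⟩ := key v
    exact ⟨U, W, hv, e, h1⟩
  · rw [HasRingHomProperty.iff_exists_appLE (P := LCIMor) isLCIHom_stableSource]
    intro v
    obtain ⟨U, W, hv, e, h1, h2⟩ := key v
    exact ⟨U, W, hv, e, h2⟩

theorem main (p : ℕ) (hp : p ≠ 0) {X Y : Scheme.{u}} (f : Y ⟶ X) (hf : Quiet.IsQuiet p f) :
    Synt.IsSyntomicMor f := by
  have key : ∀ y : Y, ∃ V : Y.Opens, y ∈ V ∧ Flat (V.ι ≫ f) ∧ LCIMor (V.ι ≫ f) := by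
    intro y
    obtain ⟨V, Z, r, e, hyV, hr, he, hfac⟩ := hf y
    obtain ⟨h1, h2⟩ := flat_lciMor_of_isPthRoot p hp r hr
    have hsm : Smooth e := inferInstance
    have hfe : Flat e := inferInstance
    refine ⟨V, hyV, ?_, ?_⟩
    · rw [← hfac]
      infer_instance
    · rw [← hfac]
      exact MorphismProperty.comp_mem _ _ _ h2 (lciMor_of_smooth e)
  choose V hV hfl hlci using key
  have hcov : iSup V = ⊤ := by
    rw [eq_top_iff]
    intro y _
    exact TopologicalSpace.Opens.mem_iSup.mpr ⟨y, hV y⟩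
  have i1 : IsZariskiLocalAtSource @Flat.{u} :=
    HasRingHomProperty.instIsZariskiLocalAtSource (P := @Flat)
  have i2 : IsZariskiLocalAtSource LCIMor.{u} :=
    HasRingHomProperty.instIsZariskiLocalAtSource (P := LCIMor)
  have hF : Flat f := IsZariskiLocalAtSource.of_iSup_eq_top (P := @Flat.{u}) V hcov hfl
  have hL : LCIMor f := IsZariskiLocalAtSource.of_iSup_eq_top (P := LCIMor) V hcov hlci
  exact Groth.Agent.Lib.Helper16.SyntMor.isSyntomicMor_of_flat_of_koszul f hF
    ((forall_isKoszulAt_iff f).mpr hL)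

end Sch

end Groth.Agent.Lib.Helper14.QuietSynt
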