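import Groth.Prelude.Def_AlgSpRep

universe u
open CategoryTheory CategoryTheory.Limits AlgebraicGeometry Opposite

namespace Groth.Agent.Lib.Helper14.AS
open AlgSp

variable {S : Scheme.{u}}

/-- Elementwise form of relative limit preservation. -/
def RLPElem {F G : PSp S} (a : F ⟶ G) : Prop :=
  ∀ ⦃I : Type u⦄ [SmallCategory I] [IsCofiltered I] (D : I ⥤ Over S) (c : Cone D),
    IsLimit ((Over.forget S).mapCone c) → (∀ i, IsAffine (D.obj i).left) → IsAffine c.pt.left →
    (∀ (i : I) (y : G.obj (op (D.obj i))) (x : F.obj (op c.pt)),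
        a.app _ x = G.map (c.π.app i).op y →
        ∃ (j : I) (φ : j ⟶ i) (xj : F.obj (op (D.obj j))),
          F.map (c.π.app j).op xj = x ∧ a.app _ xj = G.map (D.map φ).op y) ∧
    (∀ (i : I) (x x' : F.obj (op (D.obj i))), a.app _ x = a.app _ x' →
        F.map (c.π.app i).op x = F.map (c.π.app i).op x' →
        ∃ (j : I) (φ : j ⟶ i), F.map (D.map φ).op x = F.map (D.map φ).op x')

theorem map_overHom_apply (G : PSp S) (T : Over S) {T' T'' : Over T.left} (g : T'' ⟶ T')
    (y : G.obj (op T)) :
    G.map ((Over.map T.hom).map g).op (G.map (overHom T T').op y) =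
      G.map (overHom T T'').op y := by
  rw [← Functor.map_comp_apply, ← op_comp, map_comp_overHom]

theorem isRelLimitPreserving_of_rlpElem {F G : PSp S} (a : F ⟶ G) (h : RLPElem a) :
    IsRelLimitPreserving a := by
  intro T y I _ _ D' c' hlim hD hc
  let D : I ⥤ Over S := D' ⋙ Over.map T.hom
  let c : Cone D := (Over.map T.hom).mapCone c'
  have hlim' : IsLimit ((Over.forget S).mapCone c) := hlim
  obtain ⟨E1, E2⟩ := h D c hlim' hD hc
  refine ⟨Types.FilteredColimit.isColimitOf' _ _ ?_ ?_⟩
  · intro x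
    obtain ⟨i⟩ := IsCofiltered.nonempty (C := I)
    have hx := x.2
    obtain ⟨j, φ, xj, h1, h2⟩ := E1 i (G.map (overHom T (D'.obj i)).op y) x.1
      (hx.trans (map_overHom_apply G T (c'.π.app i) y).symm)
    refine ⟨op j, ⟨xj, ?_⟩, ?_⟩
    · exact h2.trans (map_overHom_apply G T (D'.map φ) y)
    · apply Subtype.ext
      exact h1.symm
  · intro i x x' hxx'
    have h1 : F.map (c.π.app i.unop).op x.1 = F.map (c.π.app i.unop).op x'.1 :=
      congrArg Subtype.val hxx'
    obtain ⟨j, φ, hφ⟩ := E2 i.unop x.1 x'.1 (x.2.trans x'.2.symm) h1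
    refine ⟨op j, φ.op, ?_⟩
    apply Subtype.ext
    exact hφ

section A
variable {I : Type u} [SmallCategory I] (D : I ⥤ Over S) (c : Cone D) (i : I)

/-- The system over `D.obj i` of the objects `D.obj j` for `j ⟶ i`. -/
def sysD : Over i ⥤ Over (D.obj i).left := Over.post (X := i) (D ⋙ Over.forget S)

/-- The cone over `sysD`. -/
def sysC : Cone (sysD D i) := ((Over.forget S).mapCone c).overPost i

noncomputable def isLimit_sysC [IsCofiltered I] (hc : IsLimit ((Over.forget S).mapCone c)) :
    IsLimit ((Over.forget (D.obj i).left).mapCone (sysC D c i)) :=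
  (Functor.Initial.isLimitWhiskerEquiv (Over.forget i) ((Over.forget S).mapCone c)).symm hc

def eK (k : Over i) : (Over.map (D.obj i).hom).obj ((sysD D i).obj k) ≅ D.obj k.left :=
  Over.isoMk (Iso.refl _) (by
    change 𝟙 _ ≫ (D.obj k.left).hom = (D.map k.hom).left ≫ (D.obj i).hom
    rw [Category.id_comp, Over.w])

def eInf : (Over.map (D.obj i).hom).obj (sysC D c i).pt ≅ c.pt :=
  Over.isoMk (Iso.refl _) (by
    change 𝟙 _ ≫ c.pt.hom = (c.π.app i).left ≫ (D.obj i).hom
    rw [Category.id_comp]
    exact (Over.w (c.π.app i)).symm)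

theorem comp1 (k : Over i) :
    (Over.map (D.obj i).hom).map ((sysC D c i).π.app k) ≫ (eK D i k).hom =
      (eInf D c i).hom ≫ c.π.app k.left := by
  ext
  change (c.π.app k.left).left ≫ 𝟙 _ = 𝟙 _ ≫ (c.π.app k.left).left
  rw [Category.comp_id, Category.id_comp]

theorem comp2 (k : Over i) :
    overHom (D.obj i) ((sysD D i).obj k) = (eK D i k).hom ≫ D.map k.hom := by
  ext
  change (D.map k.hom).left = 𝟙 _ ≫ (D.map k.hom).left
  rw [Category.id_comp]

theorem comp3 : overHom (D.obj i) (sysC D c i).pt = (eInf D c i).hom ≫ c.π.app i := by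
  ext
  change (c.π.app i).left = 𝟙 _ ≫ (c.π.app i).left
  rw [Category.id_comp]

theorem comp4 {k k' : Over i} (f : k ⟶ k') :
    (Over.map (D.obj i).hom).map ((sysD D i).map f) ≫ (eK D i k').hom =
      (eK D i k).hom ≫ D.map f.left := by
  ext
  change (D.map f.left).left ≫ 𝟙 _ = 𝟙 _ ≫ (D.map f.left).left
  rw [Category.comp_id, Category.id_comp]

end A

theorem psp_map_comp_apply (F : PSp S) {A B C : Over S} (f : A ⟶ B) (g : B ⟶ C)
    (t : F.obj (op C)) : F.map (f ≫ g).op t = F.map f.op (F.map g.op t) := by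
  rw [op_comp, Functor.map_comp_apply]

theorem psp_map_hom_inv (F : PSp S) {A B : Over S} (e : A ≅ B) (t : F.obj (op A)) :
    F.map e.hom.op (F.map e.inv.op t) = t := by
  rw [← psp_map_comp_apply, e.hom_inv_id, op_id, Functor.map_id_apply]

theorem psp_map_inv_hom (F : PSp S) {A B : Over S} (e : A ≅ B) (t : F.obj (op B)) :
    F.map e.inv.op (F.map e.hom.op t) = t := by
  rw [← psp_map_comp_apply, e.inv_hom_id, op_id, Functor.map_id_apply]

theorem psp_map_iso_injective (F : PSp S) {A B : Over S} (e : A ≅ B) :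
    Function.Injective (F.map e.hom.op) := by
  intro u v huv
  have := congrArg (F.map e.inv.op) huv
  rwa [psp_map_inv_hom, psp_map_inv_hom] at this

theorem psp_nat_apply {F G : PSp S} (a : F ⟶ G) {A B : Over S} (f : A ⟶ B)
    (t : F.obj (op B)) : a.app (op A) (F.map f.op t) = G.map f.op (a.app (op B) t) :=
  NatTrans.naturality_apply a f.op t

theorem rlpElem_of_isRelLimitPreserving {F G : PSp S} (a : F ⟶ G) (h : IsRelLimitPreserving a) :
    RLPElem a := by
  intro I _ _ D c hc hD hcA
  have hsys : ∀ (i : I) (y : G.obj (op (D.obj i))),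
      Nonempty (IsColimit ((fiberFun a (D.obj i) y).mapCocone (sysC D c i).op)) := by
    intro i y
    exact h (D.obj i) y (sysD D i) (sysC D c i) (isLimit_sysC D c i hc) (fun k => hD k.left) hcA
  constructor
  · intro i y x hx
    obtain ⟨hcol⟩ := hsys i y
    have hxt : a.app _ (F.map (eInf D c i).hom.op x) =
        G.map (overHom (D.obj i) (sysC D c i).pt).op y := by
      rw [psp_nat_apply, comp3, psp_map_comp_apply]
      exact congrArg _ hx
    let xt : (fiberFun a (D.obj i) y).obj (op (sysC D c i).pt) :=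
      ⟨F.map (eInf D c i).hom.op x, hxt⟩
    obtain ⟨k, xk, hxk⟩ := Types.jointly_surjective_of_isColimit hcol xt
    obtain ⟨k⟩ := k
    obtain ⟨xk, hxk2⟩ := xk
    have hxk1 : F.map ((Over.map (D.obj i).hom).map ((sysC D c i).π.app k)).op xk =
        F.map (eInf D c i).hom.op x := congrArg Subtype.val hxk
    have hxk2' : a.app _ xk = G.map (overHom (D.obj i) ((sysD D i).obj k)).op y := hxk2
    refine ⟨k.left, k.hom, F.map (eK D i k).inv.op xk, ?_, ?_⟩
    · apply psp_map_iso_injective F (eInf D c i)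
      have e1 := psp_map_comp_apply F (eInf D c i).hom (c.π.app k.left)
        (F.map (eK D i k).inv.op xk)
      refine e1.symm.trans ?_
      rw [← comp1, psp_map_comp_apply, psp_map_hom_inv]
      exact hxk1
    · refine (psp_nat_apply a (eK D i k).inv xk).trans ((congrArg _ hxk2').trans ?_)
      rw [← psp_map_comp_apply, comp2, Iso.inv_hom_id_assoc]
  · intro i x x' hxx' hres
    obtain ⟨hcol⟩ := hsys i (a.app _ x)
    let k₀ : Over i := Over.mk (𝟙 i)
    have hk₀ : D.map k₀.hom = 𝟙 _ := D.map_id i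
    have hov : overHom (D.obj i) ((sysD D i).obj k₀) = (eK D i k₀).hom := by
      rw [comp2, hk₀, Category.comp_id]
    have hxt : a.app _ (F.map (eK D i k₀).hom.op x) =
        G.map (overHom (D.obj i) ((sysD D i).obj k₀)).op (a.app _ x) := by
      rw [psp_nat_apply, hov]
      rfl
    have hxt' : a.app _ (F.map (eK D i k₀).hom.op x') =
        G.map (overHom (D.obj i) ((sysD D i).obj k₀)).op (a.app _ x) := by
      rw [psp_nat_apply, hov]
      exact congrArg _ hxx'.symm
    let xt : (fiberFun a (D.obj i) (a.app _ x)).obj (op ((sysD D i).obj k₀)) :=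
      ⟨F.map (eK D i k₀).hom.op x, hxt⟩
    let xt' : (fiberFun a (D.obj i) (a.app _ x)).obj (op ((sysD D i).obj k₀)) :=
      ⟨F.map (eK D i k₀).hom.op x', hxt'⟩
    have himg : ((fiberFun a (D.obj i) (a.app _ x)).mapCocone (sysC D c i).op).ι.app (op k₀) xt =
        ((fiberFun a (D.obj i) (a.app _ x)).mapCocone (sysC D c i).op).ι.app (op k₀) xt' := by
      apply Subtype.ext
      change F.map ((Over.map (D.obj i).hom).map ((sysC D c i).π.app k₀)).op
          (F.map (eK D i k₀).hom.op x) =
        F.map ((Over.map (D.obj i).hom).map ((sysC D c i).π.app k₀)).op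
          (F.map (eK D i k₀).hom.op x')
      rw [← psp_map_comp_apply, ← psp_map_comp_apply, comp1, psp_map_comp_apply,
        psp_map_comp_apply]
      exact congrArg _ hres
    obtain ⟨k, f, hf⟩ := (Types.FilteredColimit.isColimit_eq_iff' hcol xt xt').1 himg
    obtain ⟨k⟩ := k
    let g : k ⟶ k₀ := f.unop
    have hf1 : F.map ((Over.map (D.obj i).hom).map ((sysD D i).map g)).op
          (F.map (eK D i k₀).hom.op x) =
        F.map ((Over.map (D.obj i).hom).map ((sysD D i).map g)).op
          (F.map (eK D i k₀).hom.op x') := congrArg Subtype.val hf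
    refine ⟨k.left, g.left, ?_⟩
    rw [← psp_map_comp_apply, ← psp_map_comp_apply, comp4, psp_map_comp_apply,
      psp_map_comp_apply] at hf1
    exact psp_map_iso_injective F (eK D i k) hf1

theorem isRelLimitPreserving_iff_rlpElem {F G : PSp S} (a : F ⟶ G) :
    IsRelLimitPreserving a ↔ RLPElem a :=
  ⟨rlpElem_of_isRelLimitPreserving a, isRelLimitPreserving_of_rlpElem a⟩

end Groth.Agent.Lib.Helper14.AS
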