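import Groth.Agent.Lib.Helper14.RedDvr1
import Groth.Agent.Lib.Helper25.RedDVR
import Groth.Agent.Lib.Helper14.AlgSpOnePt
import Groth.Agent.Lib.Helper14.AlgSpProper
import Groth.Agent.Lib.Helper14.AlgSpPoints2
import Groth.Agent.Lib.Helper14.AlgSpQC
import Groth.Agent.Lib.Helper14.GrpSep

/-!
# Reducedness of proper flat algebraic spaces over a DVR with reduced special fibre (helper14)
-/

universe u
open CategoryTheory CategoryTheory.Limits AlgebraicGeometry Opposite Topology TopologicalSpace
open IsLocalRing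

namespace Groth.Agent.Lib.Helper14.AS
open AlgSp

variable {S : Scheme.{u}}

/-- A reduced open of an atlas whose image contains all points gives etale local reducedness. -/
theorem etaleLocally_isReduced_of_open {X : Sp S} {U : Over S} (a : (yon S).obj U ⟶ X)
    (hae : RepWith @Etale a) (Z : U.left.Opens) (hZ : IsReduced (Z : Scheme.{u}))
    (hsurj : ∀ x : Points X, x ∈ Points.ofPt a '' (Z : Set U.left)) :
    EtaleLocally (fun T => IsReduced T) X := by
  refine ⟨openSub U Z, (yon S).map (openSubι U Z) ≫ a, repWith_etale_restrict hae Z, ?_, hZ⟩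
  refine repWith_surjective_of_isSurjectiveMor (repWith_etale_restrict hae Z).rep fun x => ?_
  have hx := hsurj x
  rw [← range_ofPt_restrict] at hx
  obtain ⟨z, rfl⟩ := hx
  exact ⟨Points.ofScheme _ z, (Points.ofPt_eq_map_ofScheme _ z).symm⟩

/-- The union of the reduced opens of a scheme. -/
noncomputable def reducedOpen (U : Scheme.{u}) : U.Opens :=
  ⨆ W : {W : U.Opens // IsReduced (W : Scheme.{u})}, W.1

theorem isReduced_reducedOpen (U : Scheme.{u}) : IsReduced (reducedOpen U : Scheme.{u}) := by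
  have : ∀ t : (reducedOpen U : Scheme.{u}),
      _root_.IsReduced ((reducedOpen U : Scheme.{u}).presheaf.stalk t) := by
    intro t
    obtain ⟨W, hW⟩ := Opens.mem_iSup.1 t.2
    have hWr : IsReduced (W.1 : Scheme.{u}) := W.2
    let e1 := ((reducedOpen U).stalkIso t).commRingCatIsoToRingEquiv
    let e2 := (W.1.stalkIso ⟨t.1, hW⟩).commRingCatIsoToRingEquiv
    have h2 : _root_.IsReduced ((W.1 : Scheme.{u}).presheaf.stalk ⟨t.1, hW⟩) :=
      @isReduced_stalk_of_isReduced _ hWr _
    have h3 : _root_.IsReduced (U.presheaf.stalk t.1) :=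
      isReduced_of_injective e2.symm.toRingHom e2.symm.injective
    exact isReduced_of_injective e1.toRingHom e1.injective
  exact isReduced_of_isReduced_stalk _

theorem mem_reducedOpen {U : Scheme.{u}} {W : U.Opens} (hW : IsReduced (W : Scheme.{u})) {t : U}
    (ht : t ∈ W) : t ∈ reducedOpen U :=
  Opens.mem_iSup.2 ⟨⟨W, hW⟩, ht⟩


section DVR

variable (R : Type u) [CommRing R]

set_option backward.isDefEq.respectTransparency.types false in
/-- The special fibre of an etale chart of `X` is an etale chart of the special fibre of `X`,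
hence reduced when the latter is. -/
theorem isReduced_fiber_closedPoint_of_chart [IsLocalRing R]
    {X : Sp (Spec (CommRingCat.of R))}
    (s : X ⟶ (yon (Spec (CommRingCat.of R))).obj (Over.mk (𝟙 _)))
    (h0 : ∀ (X0 : Sp (Spec (CommRingCat.of R))) (fst : X0 ⟶ X)
      (snd : X0 ⟶ (yon (Spec (CommRingCat.of R))).obj
        (Over.mk (Spec.map (CommRingCat.ofHom (IsLocalRing.residue R))))),
      IsPullback fst snd s ((yon (Spec (CommRingCat.of R))).map
        (Over.homMk (Spec.map (CommRingCat.ofHom (IsLocalRing.residue R))) (Category.comp_id _) :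
          Over.mk (Spec.map (CommRingCat.ofHom (IsLocalRing.residue R))) ⟶ Over.mk (𝟙 _))) →
      EtaleLocally (fun U => IsReduced U) X0)
    {U : Over (Spec (CommRingCat.of R))} (a : (yon _).obj U ⟶ X) (hae : RepWith @Etale a) :
    IsReduced (U.hom.fiber (closedPoint R)) := by
  obtain ⟨E, hE, hEeq⟩ := exists_iso_fromSpecResidueField_closedPoint R
  obtain ⟨ικ, hικ⟩ : ∃ ικ : Over.mk (Spec.map (CommRingCat.ofHom (IsLocalRing.residue R))) ⟶
      Over.mk (𝟙 (Spec (CommRingCat.of R))), ικ =
      Over.homMk (Spec.map (CommRingCat.ofHom (IsLocalRing.residue R))) (Category.comp_id _) :=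
    ⟨_, rfl⟩
  obtain ⟨hU, hhU⟩ : ∃ hU : U ⟶ Over.mk (𝟙 (Spec (CommRingCat.of R))),
      hU = Over.homMk U.hom (Category.comp_id _) := ⟨_, rfl⟩
  obtain ⟨p1, hp1⟩ : ∃ p1, p1 = pullback.fst U.hom
      ((Spec (CommRingCat.of R)).fromSpecResidueField (closedPoint R)) := ⟨_, rfl⟩
  obtain ⟨p2, hp2⟩ : ∃ p2, p2 = pullback.snd U.hom
      ((Spec (CommRingCat.of R)).fromSpecResidueField (closedPoint R)) := ⟨_, rfl⟩
  have hcond : p1 ≫ U.hom = p2 ≫ (Spec (CommRingCat.of R)).fromSpecResidueField (closedPoint R) := by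
    rw [hp1, hp2]; exact pullback.condition
  have hsnd : (p2 ≫ E) ≫ Spec.map (CommRingCat.ofHom (IsLocalRing.residue R)) = p1 ≫ U.hom := by
    rw [Category.assoc, ← hEeq, hcond]
  obtain ⟨fstO, hfstO⟩ : ∃ fstO : Over.mk (p1 ≫ U.hom) ⟶ U, fstO = Over.homMk p1 rfl := ⟨_, rfl⟩
  obtain ⟨sndO, hsndO⟩ : ∃ sndO : Over.mk (p1 ≫ U.hom) ⟶
      Over.mk (Spec.map (CommRingCat.ofHom (IsLocalRing.residue R))),
      sndO = Over.homMk (p2 ≫ E) hsnd := ⟨_, rfl⟩
  have schemeSq : IsPullback p1 (p2 ≫ E) U.hom
      (Spec.map (CommRingCat.ofHom (IsLocalRing.residue R))) := by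
    have base := IsPullback.of_hasPullback U.hom
      ((Spec (CommRingCat.of R)).fromSpecResidueField (closedPoint R))
    rw [← hp1, ← hp2] at base
    refine IsPullback.of_iso base (Iso.refl _) (Iso.refl _) (asIso E) (Iso.refl _) ?_ ?_ ?_ ?_
    · simp
    · simp
    · simp
    · simp [hEeq]
  have hcommO : fstO ≫ hU = sndO ≫ ικ := by
    ext
    rw [hfstO, hhU, hsndO, hικ]
    exact hsnd.symm
  have sqO : IsPullback fstO sndO hU ικ := by
    apply IsPullback.of_map (Over.forget _) hcommO
    rw [hfstO, hhU, hsndO, hικ]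
    exact schemeSq
  have sqY := sqO.map (yon (Spec (CommRingCat.of R)))
  have sq0 := IsPullback.of_hasPullback s ((yon (Spec (CommRingCat.of R))).map ικ)
  have hX0 : EtaleLocally (fun U => IsReduced U)
      (pullback s ((yon (Spec (CommRingCat.of R))).map ικ)) := by
    subst hικ
    exact h0 _ _ _ sq0
  have has : a ≫ s = (yon _).map hU := yon_terminal_subterminal _ _
  obtain ⟨b₀, hb₀⟩ : ∃ b₀, b₀ = sq0.lift ((yon _).map fstO ≫ a) ((yon _).map sndO)
      (yon_terminal_subterminal _ _) := ⟨_, rfl⟩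
  have hb1 : b₀ ≫ pullback.fst s ((yon _).map ικ) = (yon _).map fstO ≫ a := by
    rw [hb₀, sq0.lift_fst]
  have hb2 : b₀ ≫ pullback.snd s ((yon _).map ικ) = (yon _).map sndO := by
    rw [hb₀, sq0.lift_snd]
  have top : IsPullback ((yon _).map fstO) b₀ a (pullback.fst s ((yon _).map ικ)) := by
    refine IsPullback.of_bot ?_ hb1.symm sq0
    rw [hb2, has]
    exact sqY
  have hb₀e : RepWith @Etale b₀ := repWith_of_isPullback _ top hae
  have := isReduced_of_etale_chart hX0 b₀ hb₀e
  rw [hp1] at this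
  exact this

set_option backward.isDefEq.respectTransparency.types false in
theorem etaleLocally_isReduced_of_proper_flat_over_dvr [IsDomain R] [IsDiscreteValuationRing R]
    {X : Space (Spec (CommRingCat.of R))}
    (s : X.obj ⟶ (yon (Spec (CommRingCat.of R))).obj (Over.mk (𝟙 _)))
    (hs1 : IsProperMor s) (hs2 : LocP @Flat s)
    (h0 : ∀ (X0 : Sp (Spec (CommRingCat.of R))) (fst : X0 ⟶ X.obj)
      (snd : X0 ⟶ (yon (Spec (CommRingCat.of R))).obj
        (Over.mk (Spec.map (CommRingCat.ofHom (IsLocalRing.residue R))))),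
      IsPullback fst snd s ((yon (Spec (CommRingCat.of R))).map
        (Over.homMk (Spec.map (CommRingCat.ofHom (IsLocalRing.residue R))) (Category.comp_id _) :
          Over.mk (Spec.map (CommRingCat.ofHom (IsLocalRing.residue R))) ⟶ Over.mk (𝟙 _))) →
      EtaleLocally (fun U => IsReduced U) X0) :
    EtaleLocally (fun U => IsReduced U) X.obj := by
  obtain ⟨U, a, hae, has⟩ := X.property.atlas
  obtain ⟨hU, hhU⟩ : ∃ hU : U ⟶ Over.mk (𝟙 (Spec (CommRingCat.of R))),
      hU = Over.homMk U.hom (Category.comp_id _) := ⟨_, rfl⟩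
  have hcomm0 : a ≫ s = (yon _).map hU := yon_terminal_subterminal _ _
  have hcomm : a ≫ s = (yon _).map hU ≫ 𝟙 _ := yon_terminal_subterminal _ _
  have hid : RepWith @Etale (𝟙 ((yon (Spec (CommRingCat.of R))).obj (Over.mk (𝟙 _)))) :=
    repWith_id (@Etale) _
  have hleft : hU.left = U.hom := by rw [hhU]; rfl
  have hflat : Flat U.hom := by
    have := hs2 a (𝟙 _) hU hae hid hcomm
    rwa [hleft] at this
  have hlft : LocallyOfFiniteType U.hom := by
    have := hs1.2.1.1 a (𝟙 _) hU hae hid hcomm
    rwa [hleft] at this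
  have hnoeth : IsLocallyNoetherian U.left := LocallyOfFiniteType.isLocallyNoetherian U.hom
  have hred := isReduced_fiber_closedPoint_of_chart R s h0 a hae
  obtain ⟨π, hπ⟩ := IsDiscreteValuationRing.exists_irreducible R
  have hπ0 : π ∈ nonZeroDivisors R := mem_nonZeroDivisors_of_ne_zero hπ.ne_zero
  have hm : maximalIdeal R = Ideal.span {π} := hπ.maximalIdeal_eq
  refine etaleLocally_isReduced_of_open a hae (reducedOpen U.left) (isReduced_reducedOpen _)
    fun x => ?_
  have hcl : IsClosedMap (Points.map s) :=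
    isClosedMap_points_of_isUnivClosedMor (IsAlgSpace.yon_obj _) hs1.2.2
  obtain ⟨e, he⟩ : ∃ e, e = Points.schemeHomeo (Over.mk (𝟙 (Spec (CommRingCat.of R)))) :=
    ⟨_, rfl⟩
  have himg : IsClosed (Points.map s '' closure {x}) := hcl _ isClosed_closure
  have hmem : e (closedPoint R) ∈ Points.map s '' closure {x} := by
    obtain ⟨z, hz⟩ := e.surjective (Points.map s x)
    have hsp : (z : PrimeSpectrum R) ⤳ closedPoint R := IsLocalRing.specializes_closedPoint z
    have hsp' : e z ⤳ e (closedPoint R) := hsp.map e.continuous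
    exact hsp'.mem_closed himg ⟨x, subset_closure rfl, hz.symm⟩
  obtain ⟨x₀, hx₀, hsx₀⟩ := hmem
  obtain ⟨u₀, rfl⟩ := ofPt_surjective_of_repWith has x₀
  have hu₀ : U.hom u₀ = closedPoint R := by
    apply e.injective
    rw [← hsx₀, Points.map_ofPt, hcomm0, he, ← hleft]
    have := ofPt_yon_map_comp hU (𝟙 ((yon _).obj (Over.mk (𝟙 (Spec (CommRingCat.of R)))))) u₀
    rw [Category.comp_id] at this
    exact this.symm
  obtain ⟨_, ⟨O, hO0, rfl⟩, hzO, -⟩ :=
    U.left.isBasis_affineOpens.exists_subset_of_mem_open (Set.mem_univ u₀) isOpen_univ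
  obtain ⟨f, hf, hfred⟩ :=
    Groth.Agent.Lib.Helper25.RedDVR.exists_basicOpen_isReduced U.hom π hπ0 hm hred O hO0
  have hu₀r : u₀ ∈ reducedOpen U.left := mem_reducedOpen hfred (hf u₀ hzO hu₀)
  have hopen : IsOpen (Points.ofPt a '' (reducedOpen U.left : Set U.left)) :=
    isOpenMap_ofPt a hae _ (reducedOpen U.left).isOpen
  have hx₀' : Points.ofPt a u₀ ∈ Points.ofPt a '' (reducedOpen U.left : Set U.left) :=
    ⟨u₀, hu₀r, rfl⟩
  have hspec : x ⤳ Points.ofPt a u₀ := specializes_iff_mem_closure.2 hx₀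
  exact hspec.mem_open hopen hx₀'

end DVR

set_option backward.isDefEq.respectTransparency.types false in
/-- An open subspace of an etale locally reduced algebraic space is etale locally reduced. -/
theorem etaleLocally_isReduced_of_openImmersion {X Xη : Sp S}
    (hX : EtaleLocally (fun T => IsReduced T) X) (hXalg : IsAlgSpace X) (fst : Xη ⟶ X)
    (hfst : RepWith @IsOpenImmersion fst) : EtaleLocally (fun T => IsReduced T) Xη := by
  obtain ⟨U, a, hae, has⟩ := hXalg.atlas
  have hUr : IsReduced U.left := isReduced_of_etale_chart hX a hae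
  have sq := hfst.rep.isPullback a
  have hoi : IsOpenImmersion (hfst.rep.snd a).left := hfst.property_snd a
  refine ⟨hfst.rep.pullback a, hfst.rep.fst a, repWith_of_isPullback _ sq.flip hae,
    repWith_of_isPullback _ sq.flip has, isReduced_of_isOpenImmersion (hfst.rep.snd a).left⟩

set_option backward.isDefEq.respectTransparency.types false in
theorem etaleLocally_isReduced_generic_fibre_of_dvr (R : Type u) [CommRing R] [IsDomain R]
    [IsDiscreteValuationRing R] {X : Space (Spec (CommRingCat.of R))}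
    (s : X.obj ⟶ (yon (Spec (CommRingCat.of R))).obj (Over.mk (𝟙 _)))
    (hX : EtaleLocally (fun U => IsReduced U) X.obj)
    (Xη : Sp (Spec (CommRingCat.of R))) (fst : Xη ⟶ X.obj)
    (snd : Xη ⟶ (yon (Spec (CommRingCat.of R))).obj
      (Over.mk (Spec.map (CommRingCat.ofHom (algebraMap R (FractionRing R))))))
    (sq : IsPullback fst snd s ((yon (Spec (CommRingCat.of R))).map
      (Over.homMk (Spec.map (CommRingCat.ofHom (algebraMap R (FractionRing R))))
        (Category.comp_id _) :
        Over.mk (Spec.map (CommRingCat.ofHom (algebraMap R (FractionRing R)))) ⟶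
          Over.mk (𝟙 _)))) :
    EtaleLocally (fun U => IsReduced U) Xη := by
  have h1 : RepWith @IsOpenImmersion ((yon (Spec (CommRingCat.of R))).map
      (Over.homMk (Spec.map (CommRingCat.ofHom (algebraMap R (FractionRing R))))
        (Category.comp_id _) :
        Over.mk (Spec.map (CommRingCat.ofHom (algebraMap R (FractionRing R)))) ⟶
          Over.mk (𝟙 _))) :=
    (repWith_yon_map_iff _ _).2 (isOpenImmersion_Spec_map_fractionRing_of_dvr R)
  exact etaleLocally_isReduced_of_openImmersion hX X.property fst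
    (repWith_of_isPullback _ sq.flip h1)

end Groth.Agent.Lib.Helper14.AS
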