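import Groth.Agent.Lib.Helper14.GenDense2
import Groth.Agent.Lib.Helper14.DvrLiftG5
import Groth.Agent.Lib.Helper14.AlgSpVC2
import Groth.Agent.Lib.Helper14.AlgSpProper
import Groth.Agent.Lib.Helper14.AlgSpImm

/-!
# The refined valuative criterion for algebraic spaces (helper14)
-/

open CategoryTheory CategoryTheory.Limits AlgebraicGeometry Opposite AlgSp
open CategoryTheory.Functor Groth.Agent.Lib.Helper14.AS

universe u

noncomputable section

namespace Groth.Agent.Lib.Helper14.AS

variable {S : Scheme.{u}}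

/-- A lift after an extension for the square of `f` induced by a square of a base change of `f`
gives one for the latter. -/
theorem hasLiftExt_of_isPullback_sq {X Y Z X' : Sp S} {f : X ⟶ Y} {g : Z ⟶ Y} {fst : X' ⟶ X}
    {f' : X' ⟶ Z} (sq : IsPullback fst f' f g) (sq' : ValSq f')
    (h : (ValSq.ofIsPullback sq sq').HasLiftExt) : sq'.HasLiftExt := by
  obtain ⟨e, l, hl1, hl2⟩ := h
  let e' : sq'.DomExt :=
    { A' := e.A'
      K' := e.K'
      φ := e.φ
      ψ := e.ψ
      comm := e.comm
      isLocalHom := e.isLocalHom }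
  refine ⟨e', ?_⟩
  let φm : e'.ptA' ⟶ sq'.ptA := Over.homMk (Spec.map (CommRingCat.ofHom e'.φ)) rfl
  let km : e'.ptK' ⟶ e'.ptA' := Over.homMk (Spec.map (CommRingCat.ofHom (algebraMap e'.A' e'.K'))) rfl
  have hψw : Spec.map (CommRingCat.ofHom e'.ψ) ≫ sq'.ptK.hom = e'.ptK'.hom := by
    change Spec.map _ ≫ Spec.map _ ≫ _ = Spec.map _ ≫ Spec.map _ ≫ _
    rw [← Spec.map_comp_assoc, ← Spec.map_comp_assoc, ← CommRingCat.ofHom_comp,
      ← CommRingCat.ofHom_comp, e'.comm]
  let ψm : e'.ptK' ⟶ sq'.ptK := Over.homMk (Spec.map (CommRingCat.ofHom e'.ψ)) hψw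
  let l₁ : (yon S).obj e'.ptA' ⟶ X := l
  have hl1' : (yon S).map km ≫ l₁ = (yon S).map ψm ≫ sq'.top ≫ fst := hl1
  have hl2' : l₁ ≫ f = (yon S).map φm ≫ sq'.bot ≫ g := hl2
  have hkφ : km ≫ φm = ψm ≫ sq'.j := by
    apply Over.OverMorphism.ext
    change Spec.map _ ≫ Spec.map _ = Spec.map _ ≫ Spec.map _
    rw [← Spec.map_comp, ← Spec.map_comp, ← CommRingCat.ofHom_comp, ← CommRingCat.ofHom_comp,
      e'.comm]
  have hcond : l₁ ≫ f = ((yon S).map φm ≫ sq'.bot) ≫ g := by
    rw [hl2', Category.assoc]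
  refine ⟨sq.lift l₁ ((yon S).map φm ≫ sq'.bot) hcond, ?_, sq.lift_snd _ _ _⟩
  change (yon S).map km ≫ sq.lift l₁ ((yon S).map φm ≫ sq'.bot) hcond = (yon S).map ψm ≫ sq'.top
  apply sq.hom_ext
  · rw [Category.assoc, sq.lift_fst, Category.assoc]
    exact hl1'
  · rw [Category.assoc, sq.lift_snd, Category.assoc, sq'.comm, ← Category.assoc, ← Category.assoc,
      ← Functor.map_comp, ← Functor.map_comp, hkφ]

/-- Uniqueness of lifts for the square of `f` induced by a square of a base change of `f` gives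
uniqueness for the latter. -/
theorem hasUniq_of_isPullback_sq {X Y Z X' : Sp S} {f : X ⟶ Y} {g : Z ⟶ Y} {fst : X' ⟶ X}
    {f' : X' ⟶ Z} (sq : IsPullback fst f' f g) (sq' : ValSq f')
    (h : (ValSq.ofIsPullback sq sq').HasUniq) : sq'.HasUniq := by
  intro l l' h1 h2 h1' h2'
  apply sq.hom_ext
  · refine h (l ≫ fst) (l' ≫ fst) ?_ ?_ ?_ ?_
    · change (yon S).map sq'.j ≫ l ≫ fst = sq'.top ≫ fst
      rw [← Category.assoc, h1]
    · change (l ≫ fst) ≫ f = sq'.bot ≫ g
      rw [Category.assoc, sq.w, ← Category.assoc, h2]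
    · change (yon S).map sq'.j ≫ l' ≫ fst = sq'.top ≫ fst
      rw [← Category.assoc, h1']
    · change (l' ≫ fst) ≫ f = sq'.bot ≫ g
      rw [Category.assoc, sq.w, ← Category.assoc, h2']
  · rw [h2, h2']

/-- A lift gives a lift after the trivial extension. -/
theorem hasLiftExt_of_hasLift {X Y : Sp S} {f : X ⟶ Y} (sq : ValSq f) (h : sq.HasLift) :
    sq.HasLiftExt := by
  obtain ⟨l, hl1, hl2⟩ := h
  let e : sq.DomExt :=
    { A' := sq.A, K' := sq.K, φ := RingHom.id _, ψ := RingHom.id _, comm := rfl,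
      isLocalHom := ⟨fun _ h => h⟩ }
  let φm : e.ptA' ⟶ sq.ptA := Over.homMk (Spec.map (CommRingCat.ofHom e.φ)) rfl
  let km : e.ptK' ⟶ e.ptA' := Over.homMk (Spec.map (CommRingCat.ofHom (algebraMap e.A' e.K'))) rfl
  have hψw : Spec.map (CommRingCat.ofHom e.ψ) ≫ sq.ptK.hom = e.ptK'.hom := by
    change Spec.map _ ≫ Spec.map _ ≫ _ = Spec.map _ ≫ Spec.map _ ≫ _
    rw [← Spec.map_comp_assoc, ← Spec.map_comp_assoc, ← CommRingCat.ofHom_comp,
      ← CommRingCat.ofHom_comp, e.comm]
  let ψm : e.ptK' ⟶ sq.ptK := Over.homMk (Spec.map (CommRingCat.ofHom e.ψ)) hψw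
  have hkφ : km ≫ φm = ψm ≫ sq.j := by
    apply Over.OverMorphism.ext
    change Spec.map _ ≫ Spec.map _ = Spec.map _ ≫ Spec.map _
    rw [← Spec.map_comp, ← Spec.map_comp, ← CommRingCat.ofHom_comp, ← CommRingCat.ofHom_comp,
      e.comm]
  refine ⟨e, (yon S).map φm ≫ l, ?_, ?_⟩
  · change (yon S).map km ≫ (yon S).map φm ≫ l = (yon S).map ψm ≫ sq.top
    rw [← Category.assoc, ← Functor.map_comp, hkφ, Functor.map_comp, Category.assoc, hl1]
  · change ((yon S).map φm ≫ l) ≫ f = (yon S).map φm ≫ sq.bot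
    rw [Category.assoc, hl2]

set_option backward.isDefEq.respectTransparency.types false in
/-- **Refined valuative criterion.**  Let `f : X ⟶ Y` and `h : U ⟶ X` be quasi-compact with `|h|`
of dense image.  If the valuative squares of `f` whose top arrow factors through `h` have at most
one lift and a lift after an extension, `f` is universally closed. -/
theorem isUnivClosedMor_of_refined {X Y U : Sp S} (hX : IsAlgSpace X) (hY : IsAlgSpace Y)
    (hU : IsAlgSpace U) (f : X ⟶ Y) (h : U ⟶ X) (hf : IsQuasiCompactMor f)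
    (hh : IsQuasiCompactMor h) (hd : DenseRange (Points.map h))
    (hv : ∀ sq : ValSq f, (∃ t : (yon S).obj sq.ptK ⟶ U, t ≫ h = sq.top) →
      sq.HasUniq ∧ sq.HasLiftExt) : IsUnivClosedMor f := by
  obtain ⟨V, b, hbe, hbs⟩ := hY.atlas
  have sq := IsPullback.of_hasPullback f b
  have hP : IsAlgSpace (pullback f b) :=
    isAlgSpace_of_isPullback (repDiag_of_isAlgSpace hY) hX (IsAlgSpace.yon_obj V) sq
  have hqc' : IsQuasiCompactMor (pullback.snd f b) := isQuasiCompactMor_of_isPullback sq hf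
  have sqU := IsPullback.of_hasPullback h (pullback.fst f b)
  have hU' : IsAlgSpace (pullback h (pullback.fst f b)) :=
    isAlgSpace_of_isPullback (repDiag_of_isAlgSpace hX) hU hP sqU
  have hhqc' : IsQuasiCompactMor (pullback.snd h (pullback.fst f b)) :=
    isQuasiCompactMor_of_isPullback sqU hh
  have hpXet : RepWith @Etale (pullback.fst f b) := repWith_of_isPullback _ sq.flip hbe
  have hopen : IsOpenMap (Points.map (pullback.fst f b)) :=
    isOpenMap_points_of_isEtaleMor hP hX (isEtaleMor_of_repWith_etale hpXet)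
  have hd' : DenseRange (Points.map (pullback.snd h (pullback.fst f b))) :=
    denseRange_of_isPullback sqU hopen hd
  have hv' : ∀ sq' : ValSq (pullback.snd f b),
      (∃ t : (yon S).obj sq'.ptK ⟶ pullback h (pullback.fst f b),
        t ≫ pullback.snd h (pullback.fst f b) = sq'.top) → sq'.HasUniq ∧ sq'.HasLiftExt := by
    rintro sq' ⟨t', ht'⟩
    have hthrough : ∃ t : (yon S).obj (ValSq.ofIsPullback sq sq').ptK ⟶ U,
        t ≫ h = (ValSq.ofIsPullback sq sq').top := by
      refine ⟨t' ≫ pullback.fst h (pullback.fst f b), ?_⟩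
      change (t' ≫ pullback.fst h (pullback.fst f b)) ≫ h = sq'.top ≫ pullback.fst f b
      rw [Category.assoc, sqU.w, ← Category.assoc, ht']
    obtain ⟨hu, he⟩ := hv (ValSq.ofIsPullback sq sq') hthrough
    exact ⟨hasUniq_of_isPullback_sq sq sq' hu, hasLiftExt_of_isPullback_sq sq sq' he⟩
  have he : ExistVC (pullback.snd f b) := fun sq' =>
    hasLiftExt_of_through_dense_ext hP hU' (pullback.snd f b)
      (pullback.snd h (pullback.fst f b)) hhqc' hd' hv' sq'
  have huc : IsUnivClosedMor (pullback.snd f b) :=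
    isUnivClosedMor_of_qc_existVC (pullback.snd f b) hqc' he
  exact isUnivClosedMor_of_etale_cover hY (IsAlgSpace.yon_obj V) b hbe hbs sq huc

set_option backward.isDefEq.respectTransparency.types false in
/-- **Refined valuative criterion for separatedness.** -/
theorem isSeparatedMor_of_refined {X Y U : Sp S} (hX : IsAlgSpace X) (hY : IsAlgSpace Y)
    (hU : IsAlgSpace U) (f : X ⟶ Y) (h : U ⟶ X) (hqs : IsQuasiSeparatedMor f)
    (hh : IsQuasiCompactMor h) (hd : DenseRange (Points.map h))
    (hv : ∀ sq : ValSq f, (∃ t : (yon S).obj sq.ptK ⟶ U, t ≫ h = sq.top) → sq.HasUniq) :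
    IsSeparatedMor f := by
  apply isSeparatedMor_of_isUnivClosedMor_diagonal hX
  have sqP := IsPullback.of_hasPullback f f
  have hP : IsAlgSpace (pullback f f) :=
    isAlgSpace_of_isPullback (repDiag_of_isAlgSpace hY) hX hX sqP
  have hqcΔ : IsQuasiCompactMor (pullback.diagonal f) := isQuasiCompactMor_of_repWith hqs
  refine isUnivClosedMor_of_refined hX hP hU (pullback.diagonal f) h hqcΔ hh hd ?_
  rintro sq ⟨t, ht⟩
  constructor
  · intro l l' _ h2 _ h2'
    have : Mono (pullback.diagonal f) := inferInstance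
    rw [← cancel_mono (pullback.diagonal f), h2, h2']
  · apply hasLiftExt_of_hasLift
    let l : (yon S).obj sq.ptA ⟶ X := sq.bot ≫ pullback.fst f f
    let l' : (yon S).obj sq.ptA ⟶ X := sq.bot ≫ pullback.snd f f
    have hl : (yon S).map sq.j ≫ l = sq.top := by
      rw [← Category.assoc, ← sq.comm, Category.assoc, pullback.diagonal_fst, Category.comp_id]
    have hl' : (yon S).map sq.j ≫ l' = sq.top := by
      rw [← Category.assoc, ← sq.comm, Category.assoc, pullback.diagonal_snd, Category.comp_id]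
    have hll' : l' ≫ f = l ≫ f := by
      rw [Category.assoc, Category.assoc, pullback.condition]
    let sq' : ValSq f :=
      { A := sq.A, K := sq.K, str := sq.str, top := sq.top, bot := l ≫ f,
        comm := by rw [← Category.assoc, hl] }
    have heq : l = l' := hv sq' ⟨t, ht⟩ l l' hl rfl hl' hll'
    refine ⟨l, hl, ?_⟩
    apply pullback.hom_ext
    · rw [Category.assoc, pullback.diagonal_fst, Category.comp_id]
    · rw [Category.assoc, pullback.diagonal_snd, Category.comp_id, heq]

end Groth.Agent.Lib.Helper14.AS
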