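import Groth.Prelude.Def_AlgSpCov
import Groth.Agent.Lib.Helper14.GorSp2
import Groth.Agent.Lib.Helper14.NoethDescent
import Groth.Agent.Lib.Helper14.AlgSpNoethChart
import Groth.Agent.S0065
import Groth.Agent.Lib.Helper18.SerreReg2

universe u
set_option linter.style.haveILetI false
set_option linter.unusedSectionVars false
open CategoryTheory CategoryTheory.Limits AlgebraicGeometry Opposite Topology

namespace Groth.Agent.Lib.Helper14.AS
open AlgSp

variable {S : Scheme.{u}} {X Y : Sp S}

set_option backward.isDefEq.respectTransparency.types false in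
/-- A single chart diagram over a given etale chart of the target hitting all compatible points. -/
theorem exists_chart_diagram_over_all (hX : IsAlgSpace X) (hY : IsAlgSpace Y) (f : X ⟶ Y)
    {V : Over S} (b : (yon S).obj V ⟶ Y) (hb : RepWith @Etale b) :
    ∃ (U : Over S) (a : (yon S).obj U ⟶ X) (h : U ⟶ V),
      RepWith @Etale a ∧ a ≫ f = (yon S).map h ≫ b ∧
      ∀ (x : Points X) (v : ↥V.left), Points.ofPt b v = Points.map f x →
        ∃ u : ↥U.left, Points.ofPt a u = x ∧ h.left u = v := by
  have sqP := IsPullback.of_hasPullback f b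
  have hP : IsAlgSpace (pullback f b) :=
    isAlgSpace_of_isPullback (repDiag_of_isAlgSpace hY) hX (IsAlgSpace.yon_obj V) sqP
  obtain ⟨U, p, hpe, hps⟩ := hP.atlas
  obtain ⟨h, hh⟩ := (yon S).map_surjective (p ≫ pullback.snd f b)
  have hq1 : RepWith @Etale (pullback.fst f b) := repWith_of_isPullback _ sqP.flip hb
  refine ⟨U, p ≫ pullback.fst f b, h, repWith_comp @Etale hpe hq1, ?_, ?_⟩
  · rw [Category.assoc, pullback.condition, ← Category.assoc, hh]
  intro x v hv
  obtain ⟨z, hz1, hz2⟩ := points_exists_of_isPullback sqP x (Points.ofScheme V v)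
    (by rw [← hv, Points.ofPt_eq_map_ofScheme])
  obtain ⟨u, hu⟩ := ofPt_surjective_of_repWith hps z
  refine ⟨u, ?_, ?_⟩
  · rw [← Points.map_ofPt, hu, hz1]
  · apply (Points.schemeHomeo V).injective
    change Points.ofScheme V (h.left u) = Points.ofScheme V v
    rw [← hz2, ← hu, Points.map_ofPt, ← hh]
    have := ofPt_yon_map_comp h (𝟙 ((yon S).obj V)) u
    rw [Category.comp_id] at this
    rw [this]

/-- regularity of stalks descends along flat morphisms to locally Noetherian schemes -/
theorem isRegularLocalRing_stalk_of_flat {P U : Scheme.{u}} (p : P ⟶ U) [Flat p]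
    [IsLocallyNoetherian U] (w : ↥P) (h : IsRegularLocalRing (P.presheaf.stalk w)) :
    IsRegularLocalRing (U.presheaf.stalk (p w)) := by
  algebraize [(p.stalkMap w).hom]
  haveI hloc : IsLocalHom (algebraMap (U.presheaf.stalk (p w)) (P.presheaf.stalk w)) :=
    inferInstanceAs <| IsLocalHom (p.stalkMap w).hom
  haveI : Module.Flat (U.presheaf.stalk (p w)) (P.presheaf.stalk w) := Flat.stalkMap p w
  exact Groth.Agent.Lib.Helper18.SerreReg.isRegularLocalRing_of_flat_of_isLocalHom
    (U.presheaf.stalk (p w)) (P.presheaf.stalk w)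

set_option backward.isDefEq.respectTransparency.types false in
theorem isRegular_of_etale_over
    (hX : EtaleLocally (fun U => IsLocallyNoetherian U ∧
      ∀ u : ↥U, IsRegularLocalRing ↥(U.presheaf.stalk u)) X) {U : Over S}
    (a : (yon S).obj U ⟶ X) (ha : RepWith @Etale a) :
    IsLocallyNoetherian U.left ∧ ∀ u : ↥U.left, IsRegularLocalRing ↥(U.left.presheaf.stalk u) := by
  obtain ⟨U₀, p₀, hp0e, hp0s, hN, hG⟩ := hX
  have hUN : IsLocallyNoetherian U.left :=
    isLocallyNoetherian_of_etale_over ⟨U₀, p₀, hp0e, hp0s, hN⟩ a ha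
  refine ⟨hUN, fun u => ?_⟩
  have sq := hp0e.rep.isPullback' a
  have h_snd_et : Etale (hp0e.rep.snd a).left := hp0e.property_snd a
  have h_snd_surj : Surjective (hp0e.rep.snd a).left := hp0s.property _ _ _ sq
  have h_fst_et : Etale (hp0e.rep.fst' a).left := by
    have : RepWith @Etale ((yon S).map (hp0e.rep.fst' a)) :=
      repWith_of_isPullback _ sq.flip ha
    exact (repWith_yon_map_iff _ _).1 this
  obtain ⟨w, rfl⟩ := (hp0e.rep.snd a).left.surjective u
  rw [← Groth.Agent.S0065.result (hp0e.rep.snd a).left w,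
    Groth.Agent.S0065.result (hp0e.rep.fst' a).left w]
  exact hG _

/-- S10563 -/
theorem etaleLocally_regular_of_fppf_surjective (hX : IsAlgSpace X) (hY : IsAlgSpace Y)
    (f : X ⟶ Y)
    (hfp : LocP @LocallyOfFinitePresentation f) (hfl : LocP @Flat f)
    (hs : IsSurjectiveMor f)
    (hreg : EtaleLocally (fun U => IsLocallyNoetherian U ∧
      ∀ u : ↥U, IsRegularLocalRing ↥(U.presheaf.stalk u)) X) :
    EtaleLocally (fun U => IsLocallyNoetherian U ∧
      ∀ u : ↥U, IsRegularLocalRing ↥(U.presheaf.stalk u)) Y := by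
  obtain ⟨V, b, hbe, hbs⟩ := hY.atlas
  refine ⟨V, b, hbe, hbs, ?_⟩
  obtain ⟨U, a, h, hae, comm, hall⟩ := exists_chart_diagram_over_all hX hY f b hbe
  haveI : Flat h.left := hfl a b h hae hbe comm
  haveI : LocallyOfFinitePresentation h.left := hfp a b h hae hbe comm
  obtain ⟨hUN, hUR⟩ := isRegular_of_etale_over hreg a hae
  have hsurj : ∀ v : ↥V.left, ∃ u : ↥U.left, h.left u = v := by
    intro v
    obtain ⟨x, hx⟩ := hs (Points.ofPt b v)
    obtain ⟨u, -, hu⟩ := hall x v hx.symm
    exact ⟨u, hu⟩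
  haveI : Surjective h.left := ⟨hsurj⟩
  haveI hVN : IsLocallyNoetherian V.left := isLocallyNoetherian_of_flat_surjective h.left
  refine ⟨hVN, fun v => ?_⟩
  obtain ⟨u, rfl⟩ := hsurj v
  exact isRegularLocalRing_stalk_of_flat h.left u (hUR u)

end Groth.Agent.Lib.Helper14.AS
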