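import Groth.Prelude.Def_Frob

set_option autoImplicit false
open CategoryTheory CategoryTheory.Limits AlgebraicGeometry
universe u
open FrobSch

namespace Groth.Agent.Lib.Helper14.RelPerf

variable (p : ℕ) [Fact p.Prime]

/-- relative Frobenius iso iff Frobenius square cartesian -/
theorem isIso_relFrob_iff {X S : Scheme.{u}} [IsCharP S p] [IsCharP X p] (f : X ⟶ S) :
    IsIso (relFrob f p) ↔ IsPullback (frob X p) f f (frob S p) := by
  constructor
  · intro h
    refine IsPullback.of_iso_pullback ⟨frob_comp p f⟩ (asIso (relFrob f p)) ?_ ?_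
    · exact relFrob_fst f p
    · exact relFrob_snd f p
  · intro h
    have : relFrob f p = h.isoPullback.hom := by
      apply pullback.hom_ext
      · rw [relFrob_fst, IsPullback.isoPullback_hom_fst]
      · rw [relFrob_snd, IsPullback.isoPullback_hom_snd]
    rw [this]
    infer_instance

theorem isPullback_comp {X T S : Scheme.{u}} [IsCharP S p] [IsCharP T p] [IsCharP X p]
    (π : X ⟶ T) (f : T ⟶ S)
    (h1 : IsPullback (frob X p) π π (frob T p)) (h2 : IsPullback (frob T p) f f (frob S p)) :
    IsPullback (frob X p) (π ≫ f) (π ≫ f) (frob S p) :=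
  h1.paste_vert h2

theorem isPullback_baseChange {Y S T YT : Scheme.{u}} [IsCharP S p] [IsCharP T p] [IsCharP Y p]
    [IsCharP YT p] (r : Y ⟶ S) (f : T ⟶ S) (a : YT ⟶ Y) (q : YT ⟶ T) (hA : IsPullback a q r f)
    (hB : IsPullback (frob Y p) r r (frob S p)) :
    IsPullback (frob YT p) q q (frob T p) := by
  have hwhole : IsPullback (a ≫ frob Y p) q r (f ≫ frob S p) := hA.paste_horiz hB
  have hwhole' : IsPullback (frob YT p ≫ a) q r (frob T p ≫ f) := by
    rw [frob_comp p a, frob_comp p f]
    exact hwhole
  exact IsPullback.of_right hwhole' (frob_comp p q) hA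

end Groth.Agent.Lib.Helper14.RelPerf
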