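import Mathlib

/-!
# Residually integral local homomorphisms (helper14)
-/

universe u
open Polynomial

namespace Groth.Agent.Lib.Helper14.AS

/-- A ring homomorphism (thought of as a local homomorphism of local rings) whose residue field
extension is integral, phrased without residue fields. -/
def ResInt {R S : Type*} [CommRing R] [CommRing S] (ψ : R →+* S) : Prop :=
  ∀ z : S, ∃ P : R[X], P.Monic ∧ ¬ IsUnit (P.eval₂ ψ z)

theorem resInt_respectsIso :
    RingHom.RespectsIso (fun {R S : Type u} [CommRing R] [CommRing S] (ψ : R →+* S) => ResInt ψ) := by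
  constructor
  · intro R S T _ _ _ f e hf z
    obtain ⟨P, hPm, hPz⟩ := hf (e.symm z)
    refine ⟨P, hPm, fun hu => hPz ?_⟩
    have h1 : e (P.eval₂ f (e.symm z)) = P.eval₂ (e.toRingHom.comp f) z := by
      have := Polynomial.hom_eval₂ P f e.toRingHom (e.symm z)
      simpa using this
    rw [← h1] at hu
    exact (MulEquiv.isUnit_map e).1 hu
  · intro R S T _ _ _ f e hf z
    obtain ⟨P, hPm, hPz⟩ := hf z
    refine ⟨P.map e.symm.toRingHom, hPm.map _, ?_⟩
    rw [Polynomial.eval₂_map]
    have : (f.comp e.toRingHom).comp e.symm.toRingHom = f := by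
      ext x; simp
    rw [this]
    exact hPz

theorem resInt_of_surjective {R S : Type*} [CommRing R] [CommRing S] (ψ : R →+* S)
    [Nontrivial S] (h : Function.Surjective ψ) : ResInt ψ := by
  intro z
  obtain ⟨r, rfl⟩ := h z
  refine ⟨X - C r, monic_X_sub_C r, ?_⟩
  simp

/-- The key ring-theoretic lemma: if `C_q → A_{p₀}` is residually integral, then no prime
strictly containing `p₀` lies over `q`. -/
theorem eq_of_le_of_resInt {R₀ A : Type*} [CommRing R₀] [CommRing A] (φ : R₀ →+* A)
    (p0 p : Ideal A) [p0.IsPrime] [p.IsPrime] (hle : p0 ≤ p) (hq : p.comap φ = p0.comap φ)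
    (H : ResInt (Localization.localRingHom (p0.comap φ) p0 φ rfl)) : p = p0 := by
  by_contra hne
  have hnle : ¬ p ≤ p0 := fun h => hne (le_antisymm h hle)
  obtain ⟨a, hap, hap0⟩ := SetLike.not_le_iff_exists.1 hnle
  set ψ := Localization.localRingHom (p0.comap φ) p0 φ rfl with hψ
  have hau : IsUnit (algebraMap A (Localization.AtPrime p0) a) :=
    IsLocalization.map_units (M := p0.primeCompl) _ ⟨a, hap0⟩
  obtain ⟨ua, hua⟩ := hau
  obtain ⟨P, hPm, hPz⟩ := H (↑ua⁻¹ : Localization.AtPrime p0)
  letI : Invertible (↑ua⁻¹ : Localization.AtPrime p0) :=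
    ⟨(ua : Localization.AtPrime p0), by simp, by simp⟩
  have hrev := Polynomial.eval₂_reverse_mul_pow ψ (↑ua⁻¹ : Localization.AtPrime p0) P
  have hinv : (⅟(↑ua⁻¹ : Localization.AtPrime p0)) = algebraMap A (Localization.AtPrime p0) a :=
    hua
  rw [hinv] at hrev
  -- E is a nonunit
  have hE : ¬ IsUnit (eval₂ ψ (algebraMap A (Localization.AtPrime p0) a) P.reverse) := by
    intro hu
    apply hPz
    rw [← hrev]
    exact hu.mul ((ua⁻¹).isUnit.pow _)
  have hR : P.reverse = P.reverse.divX * X + C 1 := by
    conv_lhs => rw [← Polynomial.divX_mul_X_add P.reverse, Polynomial.coeff_zero_reverse,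
      hPm.leadingCoeff]
  obtain ⟨b, hb⟩ := IsLocalization.integerNormalization_map_to_map (p0.comap φ).primeCompl
    P.reverse.divX
  -- the element of `A`
  have hkey : algebraMap A (Localization.AtPrime p0)
      (eval₂ φ a (IsLocalization.integerNormalization (p0.comap φ).primeCompl P.reverse.divX) * a +
        φ b) =
      ψ (algebraMap R₀ (Localization.AtPrime (p0.comap φ)) b) *
        eval₂ ψ (algebraMap A (Localization.AtPrime p0) a) P.reverse := by
    have hcomp : (algebraMap A (Localization.AtPrime p0)).comp φ =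
        ψ.comp (algebraMap R₀ (Localization.AtPrime (p0.comap φ))) := by
      ext x
      simp [hψ, Localization.localRingHom_to_map]
    rw [← algebraMap_smul (Localization.AtPrime (p0.comap φ))] at hb
    rw [map_add, map_mul, Polynomial.hom_eval₂, hcomp, ← Polynomial.eval₂_map, hb,
      Polynomial.eval₂_smul]
    conv_rhs => rw [hR]
    rw [Polynomial.eval₂_add, Polynomial.eval₂_mul, Polynomial.eval₂_X, Polynomial.eval₂_C,
      map_one, mul_add, mul_one, mul_assoc]
    congr 1
    have := congrFun (congrArg DFunLike.coe hcomp) (b : R₀)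
    simpa using this
  have hnu : ¬ IsUnit (algebraMap A (Localization.AtPrime p0)
      (eval₂ φ a (IsLocalization.integerNormalization (p0.comap φ).primeCompl P.reverse.divX) * a +
        φ b)) := by
    rw [hkey]
    intro hu
    exact hE (isUnit_of_mul_isUnit_right hu)
  rw [IsLocalization.AtPrime.isUnit_to_map_iff (Localization.AtPrime p0) p0] at hnu
  have hmem : eval₂ φ a (IsLocalization.integerNormalization (p0.comap φ).primeCompl
      P.reverse.divX) * a + φ b ∈ p := hle (by simpa [Ideal.primeCompl] using hnu)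
  have hφb : φ b ∈ p := by
    have h1 : eval₂ φ a (IsLocalization.integerNormalization (p0.comap φ).primeCompl
      P.reverse.divX) * a ∈ p := Ideal.mul_mem_left _ _ hap
    exact (Ideal.add_mem_iff_right _ h1).1 hmem
  have hbq : (b : R₀) ∈ p.comap φ := hφb
  rw [hq] at hbq
  exact b.2 hbq

end Groth.Agent.Lib.Helper14.AS
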