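import Groth.Agent.Lib.Helper14.ResInt1
import Groth.Agent.Lib.Helper21.BiratPoint

/-!
# Residually integral morphisms at a point: no specializations in the fibre (helper14)
-/

universe u
set_option linter.style.haveILetI false
open CategoryTheory AlgebraicGeometry

namespace Groth.Agent.Lib.Helper14.AS

theorem resInt_iff_of_arrow_iso {R S R' S' : CommRingCat.{u}} {g : R ⟶ S} {h : R' ⟶ S'}
    (e : Arrow.mk g ≅ Arrow.mk h) : ResInt g.hom ↔ ResInt h.hom := by
  have := RingHom.toMorphismProperty_respectsIso_iff.mp resInt_respectsIso.{u}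
  exact (RingHom.toMorphismProperty (fun f => ResInt f)).arrow_mk_iso_iff e

theorem eq_of_le_of_resInt' {R₀ A : Type*} [CommRing R₀] [CommRing A] (φ : R₀ →+* A)
    (p0 p : Ideal A) [p0.IsPrime] [p.IsPrime] (q : Ideal R₀) [q.IsPrime] (hq0 : q = p0.comap φ)
    (hle : p0 ≤ p) (hq : p.comap φ = q)
    (H : ResInt (Localization.localRingHom q p0 φ hq0)) : p = p0 := by
  subst hq0
  exact eq_of_le_of_resInt φ p0 p hle hq H

/-- A point whose residue field is integral over that of its image has no proper specialization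
in its fibre. -/
theorem eq_of_specializes_of_resInt {T V : Scheme.{u}} (h : T ⟶ V) {t' t : T} (hsp : t' ⤳ t)
    (hh : h t = h t') (H : ResInt (h.stalkMap t').hom) : t = t' := by
  obtain ⟨V₀, U₀, hV₀, hU₀, htU, hUV⟩ := Groth.Agent.Lib.Helper7.exists_affine_nhds h t
  have ht'U : t' ∈ U₀ := hsp.mem_open U₀.2 htU
  have H' := (resInt_iff_of_arrow_iso
    (IsAffineOpen.arrowStalkMapIso h V₀ hV₀ U₀ hU₀ hUV ht'U)).mp H
  have hcomap : (hU₀.primeIdealOf ⟨t, htU⟩).asIdeal.comap (h.appLE V₀ U₀ hUV).hom =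
      (hV₀.primeIdealOf ⟨h t', hUV ht'U⟩).asIdeal := by
    have h1 := congr($(IsAffineOpen.comap_primeIdealOf_appLE V₀ hV₀ U₀ hU₀ hUV htU).1)
    have h2 : (⟨h t, hUV htU⟩ : V₀) = ⟨h t', hUV ht'U⟩ := Subtype.ext hh
    rw [h2] at h1
    exact h1
  have := eq_of_le_of_resInt' (h.appLE V₀ U₀ hUV).hom
    (hU₀.primeIdealOf ⟨t', ht'U⟩).asIdeal (hU₀.primeIdealOf ⟨t, htU⟩).asIdeal
    (hV₀.primeIdealOf ⟨h t', hUV ht'U⟩).asIdeal
    congr($(IsAffineOpen.comap_primeIdealOf_appLE V₀ hV₀ U₀ hU₀ hUV ht'U).1).symm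
    (Groth.Agent.Lib.Helper21.Birat.primeIdealOf_le_of_specializes hU₀ ht'U htU hsp) hcomap H'
  exact Groth.Agent.Lib.Helper21.Birat.primeIdealOf_injective hU₀ htU ht'U this

end Groth.Agent.Lib.Helper14.AS
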