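import Groth.Agent.Lib.Helper14.AlgSpResidual
import Groth.Agent.Lib.Helper14.AlgSpFtPt

open CategoryTheory CategoryTheory.Limits AlgebraicGeometry Opposite AlgSp
open CategoryTheory.Functor Groth.Agent.Lib.Helper14.AS

universe u

noncomputable section

namespace Groth.Agent.Lib.Helper14.AS

variable {S : Scheme.{u}}

set_option backward.isDefEq.respectTransparency.types false in
/-- The residual space at the point of an etale chart, with its etale surjective field cover. -/
theorem exists_residual_space_chart {X : Sp S} (hX : IsAlgSpace X) {U : Over S}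
    (a : (yon S).obj U ⟶ X) (hae : RepWith @Etale a) (u : ↥U.left) :
    ∃ (Z : Sp S) (_ : IsAlgSpace Z) (i : Z ⟶ X)
      (π : (yon S).obj (Over.mk (U.left.fromSpecResidueField u ≫ U.hom)) ⟶ Z),
      Mono i ∧ RepWith @Etale π ∧ RepWith @Surjective π ∧
      π ≫ i = (yon S).map (Over.homMk (U.left.fromSpecResidueField u) rfl :
        Over.mk (U.left.fromSpecResidueField u ≫ U.hom) ⟶ U) ≫ a := by
  let g₀ : Spec (U.left.residueField u) ⟶ U.left := U.left.fromSpecResidueField u
  let str : Spec (CommRingCat.of ↑(U.left.residueField u)) ⟶ S := g₀ ≫ U.hom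
  let g : Over.mk str ⟶ U := Over.homMk g₀ rfl
  have hgm : Mono g.left := (inferInstance : Mono g₀)
  let c : (yon S).obj (Over.mk str) ⟶ X := (yon S).map g ≫ a
  let Z : Sp S := Sheaf.image c
  let π : (yon S).obj (Over.mk str) ⟶ Z := Sheaf.toImage c
  let i : Z ⟶ X := Sheaf.imageι c
  have hπi : π ≫ i = c := Sheaf.toImage_ι c
  have hZd : RepDiag Z := RepDiag.of_mono i (repDiag_of_isAlgSpace hX)
  have hc : Representable c := repDiag_of_isAlgSpace hX c
  have sqR := hc.isPullback' c
  obtain ⟨het, hsurj⟩ :=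
    etale_kernel_pair_of_mono_field a hae str g (hc.fst' c) (hc.snd c) sqR
  have sqπ : IsPullback ((yon S).map (hc.fst' c)) ((yon S).map (hc.snd c)) π π :=
    isPullback_of_comp_mono i (by rw [hπi]; exact sqR)
  have hepi : Epi π := inferInstanceAs (Epi (Sheaf.toImage c))
  have hloc : Sheaf.IsLocallySurjective π := (Sheaf.isLocallySurjective_iff_epi _).2 hepi
  have hπe : RepWith @Etale π :=
    repWith_of_isLocallySurjective_base (hZd π) π sqπ @Etale ((repWith_yon_map_iff _ _).2 het)
  have hπs : RepWith @Surjective π :=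
    repWith_of_isLocallySurjective_base (hZd π) π sqπ @Surjective
      ((repWith_yon_map_iff _ _).2 hsurj)
  have hZ : IsAlgSpace Z := ⟨(repDiag_iff Z).2 hZd, ⟨_, π, hπe, hπs⟩⟩
  exact ⟨Z, hZ, i, π, inferInstanceAs (Mono (Sheaf.imageι c)), hπe, hπs, hπi⟩

end Groth.Agent.Lib.Helper14.AS
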