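import Groth.Agent.Lib.Helper14.AlgSpRedFactor2
import Groth.Agent.Lib.Helper14.AlgSpFibrePt3
import Groth.Agent.Lib.Helper14.AlgSpMonoField

universe u
open CategoryTheory CategoryTheory.Limits AlgebraicGeometry Opposite TopologicalSpace

namespace Groth.Agent.Lib.Helper14.AS

open AlgSp

/-- Ring level: if all primes of `B` contract into a set `T` of primes of the Noetherian ring `A`
without inclusions, then the fibres of `Spec B → Spec A` are open. -/
theorem isOpen_comap_fibre_of_no_specialization {A B : Type u} [CommRing A] [CommRing B]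
    [IsNoetherianRing A] (φ : A →+* B) (T : Set (PrimeSpectrum A))
    (hT : ∀ t ∈ T, ∀ t' ∈ T, t ≤ t' → t = t')
    (hB : ∀ q : PrimeSpectrum B, PrimeSpectrum.comap φ q ∈ T) (c₀ : PrimeSpectrum A) :
    IsOpen {q : PrimeSpectrum B | PrimeSpectrum.comap φ q = c₀} := by
  classical
  have hfin : (RingHom.ker φ).minimalPrimes.Finite :=
    Ideal.finite_minimalPrimes_of_isNoetherianRing A (RingHom.ker φ)
  -- every minimal prime over the kernel is a contraction
  have hM : ∀ P ∈ (RingHom.ker φ).minimalPrimes, ∃ hP : P.IsPrime, (⟨P, hP⟩ : PrimeSpectrum A) ∈ T := by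
    intro P hP
    obtain ⟨q, hq, -, hqP⟩ := Ideal.exists_comap_eq_of_mem_minimalPrimes (I := (⊥ : Ideal B)) φ P hP
    have := hB ⟨q, hq⟩
    refine ⟨hP.1.1, ?_⟩
    convert this using 1
    exact PrimeSpectrum.ext hqP.symm
  -- the range lies in the minimal primes
  have hrange : ∀ q : PrimeSpectrum B, (PrimeSpectrum.comap φ q).asIdeal ∈ (RingHom.ker φ).minimalPrimes := by
    intro q
    have hle : RingHom.ker φ ≤ (PrimeSpectrum.comap φ q).asIdeal := by
      intro a ha
      change φ a ∈ q.asIdeal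
      rw [RingHom.mem_ker.1 ha]
      exact q.asIdeal.zero_mem
    obtain ⟨P, hP, hPle⟩ := Ideal.exists_minimalPrimes_le hle
    obtain ⟨hPp, hPT⟩ := hM P hP
    have := hT _ hPT _ (hB q) hPle
    rw [← this]
    exact hP
  -- closedness of each fibre
  have hclosed : ∀ P ∈ (RingHom.ker φ).minimalPrimes,
      IsClosed {q : PrimeSpectrum B | (PrimeSpectrum.comap φ q).asIdeal = P} := by
    intro P hP
    obtain ⟨hPp, hPT⟩ := hM P hP
    have : {q : PrimeSpectrum B | (PrimeSpectrum.comap φ q).asIdeal = P} =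
        PrimeSpectrum.zeroLocus (φ '' (P : Set A)) := by
      ext q
      simp only [Set.mem_setOf_eq, PrimeSpectrum.mem_zeroLocus]
      constructor
      · rintro rfl
        rintro _ ⟨a, ha, rfl⟩
        exact ha
      · intro h
        have hle : (⟨P, hPp⟩ : PrimeSpectrum A) ≤ PrimeSpectrum.comap φ q := by
          intro a ha
          exact h ⟨a, ha, rfl⟩
        have := hT _ hPT _ (hB q) hle
        rw [← this]
    rw [this]
    exact PrimeSpectrum.isClosed_zeroLocus _
  have hcompl : {q : PrimeSpectrum B | PrimeSpectrum.comap φ q = c₀}ᶜ =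
      ⋃ P ∈ {P ∈ (RingHom.ker φ).minimalPrimes | P ≠ c₀.asIdeal},
        {q : PrimeSpectrum B | (PrimeSpectrum.comap φ q).asIdeal = P} := by
    ext q
    simp only [Set.mem_compl_iff, Set.mem_setOf_eq, Set.mem_iUnion, exists_prop]
    constructor
    · intro h
      exact ⟨_, ⟨hrange q, fun e => h (PrimeSpectrum.ext e)⟩, rfl⟩
    · rintro ⟨P, ⟨-, hne⟩, rfl⟩ h
      exact hne (by rw [h])
  rw [← isClosed_compl_iff, hcompl]
  exact Set.Finite.isClosed_biUnion (hfin.subset (fun P hP => hP.1)) (fun P hP => hclosed P hP.1)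


set_option backward.isDefEq.respectTransparency.types false in
/-- Scheme level: a morphism into a locally Noetherian scheme whose image lies in a set without
internal specializations is locally constant on points. -/
theorem exists_open_const_of_no_specialization {W U : Scheme.{u}} [IsLocallyNoetherian U]
    (h : W ⟶ U) (T : Set ↥U) (hT : ∀ t ∈ T, ∀ t' ∈ T, t ⤳ t' → t = t') (hW : ∀ w, h w ∈ T)
    (w : ↥W) : ∃ O : W.Opens, w ∈ O ∧ ∀ w' ∈ O, h w' = h w := by
  obtain ⟨A, hA, hwA, -⟩ := exists_isAffineOpen_mem_and_subset (x := h w) (U := ⊤) trivial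
  obtain ⟨B, hB, hwB, hBA⟩ := exists_isAffineOpen_mem_and_subset (x := w) (U := h ⁻¹ᵁ A) hwA
  have hN : IsNoetherianRing Γ(U, A) := IsLocallyNoetherian.component_noetherian ⟨A, hA⟩
  have hcomm : Spec.map (h.appLE A B hBA) ≫ hA.fromSpec = hB.fromSpec ≫ h :=
    hA.SpecMap_appLE_fromSpec h hB hBA
  have e : ∀ q : Spec Γ(W, B), h (hB.fromSpec q) =
      hA.fromSpec (PrimeSpectrum.comap (h.appLE A B hBA).hom q) := by
    intro q
    rw [← Scheme.Hom.comp_apply, ← hcomm, Scheme.Hom.comp_apply]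
    rfl
  let T' : Set (PrimeSpectrum Γ(U, A)) := hA.fromSpec ⁻¹' T
  have hT' : ∀ t ∈ T', ∀ t' ∈ T', t ≤ t' → t = t' := by
    intro t ht t' ht' hle
    have hs : t ⤳ t' := (PrimeSpectrum.le_iff_specializes t t').1 hle
    have := hT _ ht _ ht' (hs.map hA.fromSpec.continuous)
    exact hA.fromSpec.isOpenEmbedding.injective this
  have hB' : ∀ q, PrimeSpectrum.comap (h.appLE A B hBA).hom q ∈ T' := by
    intro q
    change hA.fromSpec _ ∈ T
    rw [← e]
    exact hW _
  let q₀ : Spec Γ(W, B) := hB.primeIdealOf ⟨w, hwB⟩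
  have hq₀ : hB.fromSpec q₀ = w := hB.fromSpec_primeIdealOf ⟨w, hwB⟩
  have hopen := isOpen_comap_fibre_of_no_specialization (h.appLE A B hBA).hom T' hT' hB'
    (PrimeSpectrum.comap (h.appLE A B hBA).hom q₀)
  refine ⟨⟨hB.fromSpec '' {q | PrimeSpectrum.comap (h.appLE A B hBA).hom q =
      PrimeSpectrum.comap (h.appLE A B hBA).hom q₀},
    hB.fromSpec.isOpenEmbedding.isOpenMap _ hopen⟩, ⟨q₀, rfl, hq₀⟩, ?_⟩
  rintro _ ⟨q, hq, rfl⟩
  rw [← hq₀, e, e, hq]


variable {S : Scheme.{u}}

set_option backward.isDefEq.respectTransparency.types false in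
/-- A field point whose class lies in the image of a monomorphism of algebraic spaces lifts. -/
theorem exists_lift_fieldPt_of_mono {X Z : Sp S} (hX : IsAlgSpace X) (hZ : IsAlgSpace Z)
    (i : Z ⟶ X) [Mono i] (q : FieldPt X) (hq : Points.mk q ∈ Set.range (Points.map i)) :
    ∃ l : (yon S).obj q.pt ⟶ Z, l ≫ i = q.toHom := by
  have sq := IsPullback.of_hasPullback i q.toHom
  have hQ : IsAlgSpace (pullback i q.toHom) :=
    isAlgSpace_of_isPullback (repDiag_of_isAlgSpace hX) hZ (IsAlgSpace.yon_obj q.pt) sq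
  obtain ⟨z, hz⟩ := hq
  have hne : Nonempty (Points (pullback i q.toHom)) := by
    obtain ⟨w, -, -⟩ := points_exists_of_isPullback sq z
      (Points.ofPt (𝟙 _) (IsLocalRing.closedPoint q.K)) (by
        rw [hz, Points.map_ofPt, Category.id_comp, Points.ofPt_toHom])
    exact ⟨w⟩
  have hiso : IsIso (pullback.snd i q.toHom) := isIso_of_mono_to_field_sp q.str hQ _ hne
  exact ⟨inv (pullback.snd i q.toHom) ≫ pullback.fst i q.toHom, by
    rw [Category.assoc, sq.w, IsIso.inv_hom_id_assoc]⟩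

set_option backward.isDefEq.respectTransparency.types false in
/-- (L2') A morphism from a reduced scheme to a locally Noetherian algebraic space whose image is a
single point `x` factors through any monomorphism `Z ⟶ X` of algebraic spaces hitting `x`. -/
theorem exists_lift_of_reduced_scheme_noeth {X Z : Sp S} (hX : IsAlgSpace X) (hN : IsLocNoethSp X)
    (hZ : IsAlgSpace Z) (i : Z ⟶ X) [Mono i] (x : Points X)
    (hx : x ∈ Set.range (Points.map i)) {V : Over S} [IsReduced V.left]
    (h : (yon S).obj V ⟶ X) (hh : ∀ v : ↥V.left, Points.ofPt h v = x) :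
    ∃ l : (yon S).obj V ⟶ Z, l ≫ i = h := by
  obtain ⟨U, φ, hφ, hφs, hUN⟩ := hN
  have sq := hφ.rep.isPullback' h
  have hsnd_et : Etale (hφ.rep.snd h).left := hφ.property_snd h
  have hsnd_s : Surjective (hφ.rep.snd h).left := hφs.property _ _ _ sq
  let T : Set ↥U.left := Points.ofPt φ ⁻¹' {x}
  have hT : ∀ t ∈ T, ∀ t' ∈ T, t ⤳ t' → t = t' := by
    intro t ht t' ht' hs
    exact (eq_of_specializes_of_isLocNoethSp ⟨U, φ, hφ, hφs, hUN⟩ φ hφ t' t
      (by rw [ht, ht']) hs).symm
  have hWT : ∀ w, (hφ.rep.fst' h).left w ∈ T := by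
    intro w
    change Points.ofPt φ _ = x
    rw [← ofPt_yon_map_comp, sq.w, ofPt_yon_map_comp, hh]
  have key : ∀ v : ↥V.left, ∃ (v' : ↥(hφ.rep.pullback h).left) (O : (hφ.rep.pullback h).left.Opens),
      (hφ.rep.snd h).left v' = v ∧ v' ∈ O ∧
        ∀ w' ∈ O, (hφ.rep.fst' h).left w' = (hφ.rep.fst' h).left v' := by
    intro v
    obtain ⟨v', hv'⟩ := (hφ.rep.snd h).left.surjective v
    obtain ⟨O, hO1, hO2⟩ := exists_open_const_of_no_specialization (hφ.rep.fst' h).left T hT hWT v'
    exact ⟨v', O, hv', hO1, hO2⟩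
  choose v' O hv'1 hv'O hO using key
  let W : ↥V.left → Over S := fun v => openSub (hφ.rep.pullback h) (O v)
  let w : ∀ v, W v ⟶ V := fun v => openSubι _ _ ≫ hφ.rep.snd h
  have hwet : ∀ v, Etale (w v).left := fun v => by
    change Etale ((O v).ι ≫ (hφ.rep.snd h).left)
    infer_instance
  refine exists_lift_of_cover i h (Presieve.ofArrows W w)
    (ofArrows_mem_KS W w (fun v => ⟨by have := hwet v; infer_instance,
      by have := hwet v; infer_instance⟩) (fun v => ⟨v, ⟨v' v, hv'O v⟩, hv'1 v⟩)) ?_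
  rintro _ _ ⟨v⟩
  have hred : IsReduced (W v).left := by
    have := hwet v
    exact Groth.Agent.Lib.Helper14.isReduced_of_etale_scheme (w v).left
  let k : W v ⟶ U := openSubι _ _ ≫ hφ.rep.fst' h
  let u₀ : ↥U.left := (hφ.rep.fst' h).left (v' v)
  have hkpt : ∀ t : ↥(W v).left, k.left t = u₀ := fun t => hO v _ t.2
  obtain ⟨h'', hh''⟩ := exists_factor_residueField_of_isReduced k.left u₀ hkpt
  let q : FieldPt X := FieldPt.ofPt φ u₀
  let h''o : W v ⟶ q.pt := Over.homMk h'' (by
    change h'' ≫ U.left.fromSpecResidueField u₀ ≫ U.hom = (W v).hom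
    rw [← Category.assoc, hh'']
    exact Over.w k)
  have hq1 : q.toHom = (yon S).map (Over.homMk (U.left.fromSpecResidueField u₀) rfl) ≫ φ :=
    FieldPt.toHom_ofPt φ u₀
  have hfac : h''o ≫ (Over.homMk (U.left.fromSpecResidueField u₀) rfl : q.pt ⟶ U) = k := by
    ext1
    exact hh''
  have hqx : Points.mk q = x := hWT (v' v)
  obtain ⟨j, hj⟩ := exists_lift_fieldPt_of_mono hX hZ i q (by rw [hqx]; exact hx)
  refine ⟨(yon S).map h''o ≫ j, ?_⟩
  rw [Category.assoc, hj, hq1, ← Category.assoc, ← Functor.map_comp, hfac,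
    Functor.map_comp, Category.assoc, sq.w, ← Category.assoc, ← Functor.map_comp]

set_option backward.isDefEq.respectTransparency.types false in
/-- (L3') the same for a reduced algebraic space as source. -/
theorem factors_through_mono_of_reduced_noeth {X Y Z : Sp S} (hX : IsAlgSpace X)
    (hN : IsLocNoethSp X) (hZ : IsAlgSpace Z) (i : Z ⟶ X) [Mono i] (x : Points X)
    (hx : x ∈ Set.range (Points.map i)) (f : Y ⟶ X)
    (hYr : EtaleLocally (fun U => IsReduced U) Y)
    (hf : ∀ y : Points Y, Points.map f y = x) :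
    ∃ g : Y ⟶ Z, g ≫ i = f := by
  obtain ⟨V, a, hae, has, hVr⟩ := hYr
  have : IsReduced V.left := hVr
  obtain ⟨lV, hlV⟩ := exists_lift_of_reduced_scheme_noeth hX hN hZ i x hx (a ≫ f) (fun v => by
    rw [← Points.map_ofPt, hf])
  have hls : Sheaf.IsLocallySurjective a :=
    isLocallySurjective_of_repWith a (repWith_mono etale_le_flat hae)
      (repWith_mono etale_le_lfp hae) has
  refine exists_lift_of_locally i f fun T x => ?_
  obtain ⟨R, hR, hl⟩ := exists_cover_lift a x
  refine ⟨Sieve.generate R, (mem_J_iff _).2 ⟨R, hR, Sieve.le_generate R⟩, ?_⟩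
  rintro W w ⟨W₁, v₁, w₁, hw₁, rfl⟩
  obtain ⟨l₁, hl₁⟩ := hl w₁ hw₁
  refine ⟨(yon S).map v₁ ≫ l₁ ≫ lV, ?_⟩
  rw [Category.assoc, Category.assoc, hlV, ← Category.assoc l₁, hl₁, Functor.map_comp,
    Category.assoc, Category.assoc]

end Groth.Agent.Lib.Helper14.AS
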