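import Mathlib
import Groth.Prelude.Def_Flat
import Groth.Agent.Lib.Helper18.FlM
import Groth.Agent.Lib.Helper21.FibDim2
import Groth.Agent.Lib.Helper21.BaseChg4
import Groth.Agent.Lib.Helper6.EtaleSq

universe u
set_option linter.style.haveILetI false
set_option linter.unusedSectionVars false
open CategoryTheory CategoryTheory.Limits AlgebraicGeometry Opposite Topology TensorProduct

namespace Groth.Agent.Lib.Helper14.AS

set_option maxHeartbeats 1000000 in
/-- the locus of fibre dimension `≤ n` is compact for a finitely presented map of rings -/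
theorem isCompact_setOf_fibreDimAt_le_Spec (A B : Type u) [CommRing A] [CommRing B] [Algebra A B]
    [Algebra.FinitePresentation A B] (n : ℕ) :
    IsCompact {x : ↥(Spec (CommRingCat.of B)) |
      FlatMor.fibreDimAt (Spec.map (CommRingCat.ofHom (algebraMap A B))) x ≤ n} := by
  obtain ⟨A₀, _, _, B₀, _, _, _, _, _, _, M₀, _, _, _, _, _, _, f, hA₀, hB₀, -, hpo, -⟩ :=
    Groth.Agent.Lib.Helper18.Fl.exists_finiteType_int_module_model A B B
  haveI : IsNoetherianRing A₀ := Algebra.FiniteType.isNoetherianRing ℤ A₀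
  haveI : IsNoetherianRing B₀ := Algebra.FiniteType.isNoetherianRing A₀ B₀
  have hpo' := CommRingCat.isPushout_iff_isPushout.2 hpo
  have hpb := isPullback_SpecMap_of_isPushout _ _ _ _ hpo'
  -- hpb : IsPullback (Spec.map (A → B)) (Spec.map (B₀ → B)) (Spec.map (A₀ → A)) (Spec.map (A₀ → B₀))
  haveI : LocallyOfFiniteType (Spec.map (CommRingCat.ofHom (algebraMap A₀ B₀))) := by
    rw [HasRingHomProperty.Spec_iff (P := @LocallyOfFiniteType)]
    exact RingHom.finiteType_algebraMap.2 hB₀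
  have hopen := Groth.Agent.Lib.Helper21.FibDim.isOpen_setOf_fibreDimAt_le
    (Spec.map (CommRingCat.ofHom (algebraMap A₀ B₀))) n
  have hcpt : IsCompact {x : ↥(Spec (CommRingCat.of B₀)) |
      FlatMor.fibreDimAt (Spec.map (CommRingCat.ofHom (algebraMap A₀ B₀))) x ≤ n} := by
    haveI : TopologicalSpace.NoetherianSpace ↥(Spec (CommRingCat.of B₀)) :=
      inferInstanceAs (TopologicalSpace.NoetherianSpace (PrimeSpectrum B₀))
    exact TopologicalSpace.NoetherianSpace.isCompact _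
  have heq : {x : ↥(Spec (CommRingCat.of B)) |
      FlatMor.fibreDimAt (Spec.map (CommRingCat.ofHom (algebraMap A B))) x ≤ n} =
      (Spec.map (CommRingCat.ofHom (algebraMap B₀ B))) ⁻¹'
        {x : ↥(Spec (CommRingCat.of B₀)) |
          FlatMor.fibreDimAt (Spec.map (CommRingCat.ofHom (algebraMap A₀ B₀))) x ≤ n} := by
    ext x
    simp only [Set.mem_setOf_eq, Set.mem_preimage]
    rw [Groth.Agent.Lib.Helper21.BaseChg.fibreDimAt_eq_of_isPullback hpb.flip x]
  rw [heq]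
  exact QuasiCompact.isCompact_preimage (f := Spec.map (CommRingCat.ofHom (algebraMap B₀ B)))
    _ hopen hcpt


set_option maxHeartbeats 1000000 in
/-- affine piece -/
theorem isCompact_setOf_fibreDimAt_le_inter_affine {X S : Scheme.{u}} (f : X ⟶ S)
    [LocallyOfFinitePresentation f] (n : ℕ) (W : X.Opens) (hW : IsAffineOpen W) (V : S.Opens)
    (hV : IsAffineOpen V) (e : W ≤ f ⁻¹ᵁ V) :
    IsCompact ({x : ↥X | FlatMor.fibreDimAt f x ≤ n} ∩ (W : Set ↥X)) := by
  have hfp : (f.appLE V W e).hom.FinitePresentation :=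
    HasRingHomProperty.appLE (P := @LocallyOfFinitePresentation) f inferInstance ⟨V, hV⟩ ⟨W, hW⟩ e
  algebraize [(f.appLE V W e).hom]
  have hc := isCompact_setOf_fibreDimAt_le_Spec Γ(S, V) Γ(X, W) n
  have hmap : Spec.map (CommRingCat.ofHom (algebraMap Γ(S, V) Γ(X, W))) =
      Spec.map (f.appLE V W e) := rfl
  rw [hmap] at hc
  have heq : ({x : ↥X | FlatMor.fibreDimAt f x ≤ n} ∩ (W : Set ↥X)) =
      hW.fromSpec '' {p | FlatMor.fibreDimAt (Spec.map (f.appLE V W e)) p ≤ n} := by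
    ext x
    constructor
    · rintro ⟨hx1, hx2⟩
      rw [← hW.range_fromSpec] at hx2
      obtain ⟨p, rfl⟩ := hx2
      refine ⟨p, ?_, rfl⟩
      simp only [Set.mem_setOf_eq] at hx1 ⊢
      rwa [← Groth.Agent.Lib.Helper6.EtaleSq.fibreDimAt_etale_square f
        (Spec.map (f.appLE V W e)) hW.fromSpec hV.fromSpec (hV.SpecMap_appLE_fromSpec f hW e) p]
    · rintro ⟨p, hp, rfl⟩
      refine ⟨?_, ?_⟩
      · simp only [Set.mem_setOf_eq] at hp ⊢
        rwa [Groth.Agent.Lib.Helper6.EtaleSq.fibreDimAt_etale_square f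
          (Spec.map (f.appLE V W e)) hW.fromSpec hV.fromSpec (hV.SpecMap_appLE_fromSpec f hW e) p]
      · rw [← hW.range_fromSpec]; exact ⟨p, rfl⟩
  rw [heq]
  exact hc.image hW.fromSpec.continuous

/-- S9355 -/
theorem isRetrocompact_setOf_fibreDimAt_le {X S : Scheme.{u}} (f : X ⟶ S)
    [LocallyOfFinitePresentation f] (n : ℕ) :
    IsRetrocompact {x : ↥X | FlatMor.fibreDimAt f x ≤ n} := by
  intro K hKc hKo
  have hex : ∀ x : K, ∃ W : X.Opens, IsAffineOpen W ∧ x.1 ∈ W ∧ (W : Set ↥X) ⊆ K ∧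
      ∃ V : S.Opens, IsAffineOpen V ∧ W ≤ f ⁻¹ᵁ V := by
    intro x
    obtain ⟨_, ⟨V, hV : IsAffineOpen V, rfl⟩, hxV, -⟩ :=
      S.isBasis_affineOpens.exists_subset_of_mem_open (Set.mem_univ (f x.1)) isOpen_univ
    obtain ⟨_, ⟨W, hW : IsAffineOpen W, rfl⟩, hxW, hWsub⟩ :=
      X.isBasis_affineOpens.exists_subset_of_mem_open
        (show x.1 ∈ ((f ⁻¹ᵁ V : X.Opens) : Set ↥X) ∩ K from ⟨hxV, x.2⟩)
        ((f ⁻¹ᵁ V).isOpen.inter hKo)
    exact ⟨W, hW, hxW, fun y hy => (hWsub hy).2, V, hV, fun y hy => (hWsub hy).1⟩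
  choose W hW1 hW2 hW3 V hV1 hV2 using hex
  obtain ⟨t, ht⟩ := hKc.elim_finite_subcover (fun x : K => (W x : Set ↥X))
    (fun x => (W x).isOpen) (fun y hy => Set.mem_iUnion.2 ⟨⟨y, hy⟩, hW2 ⟨y, hy⟩⟩)
  have heq : {x : ↥X | FlatMor.fibreDimAt f x ≤ n} ∩ K =
      ⋃ x ∈ t, ({x : ↥X | FlatMor.fibreDimAt f x ≤ n} ∩ (W x : Set ↥X)) := by
    ext y
    simp only [Set.mem_inter_iff, Set.mem_iUnion, exists_prop]
    constructor
    · rintro ⟨hy1, hy2⟩
      have := ht hy2
      simp only [Set.mem_iUnion, exists_prop] at this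
      obtain ⟨x, hxt, hyx⟩ := this
      exact ⟨x, hxt, hy1, hyx⟩
    · rintro ⟨x, -, hy1, hyx⟩
      exact ⟨hy1, hW3 x hyx⟩
  rw [heq]
  exact t.isCompact_biUnion fun x _ =>
    isCompact_setOf_fibreDimAt_le_inter_affine f n (W x) (hW1 x) (V x) (hV1 x) (hV2 x)

end Groth.Agent.Lib.Helper14.AS
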