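import Groth.Prelude.Def_AlgSp4
import Groth.Prelude.Def_AlgSpDec
import Groth.Prelude.Def_Flat
import Groth.Agent.Lib.Helper14.Retro
import Groth.Agent.Lib.Helper14.RegDesc
import Groth.Agent.Lib.Helper14.RelDim0

universe u
set_option linter.style.haveILetI false
set_option linter.unusedSectionVars false
open CategoryTheory CategoryTheory.Limits AlgebraicGeometry Opposite Topology

namespace Groth.Agent.Lib.Helper14.AS
open AlgSp

variable {S : Scheme.{u}} {X Y : Sp S}

set_option backward.isDefEq.respectTransparency.types false in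
/-- S10309 -/
theorem isRetrocompact_relDim_le (hX : IsAlgSpace X) (hY : IsAlgSpace Y) (f : X ⟶ Y)
    (hf : LocP @LocallyOfFinitePresentation f) (n : ℕ) (K : Set (Points X))
    (hK : IsOpen K) (hKc : IsCompact K) :
    IsCompact (K ∩ {x : Points X |
      HasAtMor (fun _ _ h u => FlatMor.fibreDimAt h u ≤ (n : WithBot ℕ∞)) f x}) := by
  obtain ⟨V, b, hbe, hbs⟩ := hY.atlas
  obtain ⟨U, a, h, hae, comm, hall⟩ := exists_chart_diagram_over_all hX hY f b hbe
  haveI : LocallyOfFinitePresentation h.left := hf a b h hae hbe comm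
  have hsurj : Function.Surjective (Points.ofPt a) := by
    intro x
    obtain ⟨v, hv⟩ := ofPt_surjective_of_repWith hbs (Points.map f x)
    obtain ⟨u, hu, -⟩ := hall x v hv
    exact ⟨u, hu⟩
  have hcont : Continuous (Points.ofPt a) := Points.continuous_ofPt a
  have hopen : IsOpenMap (Points.ofPt a) := isOpenMap_ofPt a hae
  have hiff : ∀ u : ↥U.left, HasAtMor (fun _ _ h u => FlatMor.fibreDimAt h u ≤ (n : WithBot ℕ∞)) f
      (Points.ofPt a u) ↔ FlatMor.fibreDimAt h.left u ≤ (n : WithBot ℕ∞) := fun u =>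
    hasAtMor_ofPt_iff (etSqInv_fibreDimAt (fun d => d ≤ (n : WithBot ℕ∞))) f a b h hae hbe comm u
  -- affine opens inside the preimage of `K`
  have hex : ∀ x : K, ∃ W : U.left.Opens, IsAffineOpen W ∧ x.1 ∈ Points.ofPt a '' (W : Set ↥U.left) ∧
      (W : Set ↥U.left) ⊆ Points.ofPt a ⁻¹' K := by
    intro x
    obtain ⟨u, hu⟩ := hsurj x.1
    obtain ⟨_, ⟨W, hW : IsAffineOpen W, rfl⟩, huW, hWsub⟩ :=
      U.left.isBasis_affineOpens.exists_subset_of_mem_open
        (show u ∈ Points.ofPt a ⁻¹' K by rw [Set.mem_preimage, hu]; exact x.2)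
        (hK.preimage hcont)
    exact ⟨W, hW, ⟨u, huW, hu⟩, hWsub⟩
  choose W hW1 hW2 hW3 using hex
  obtain ⟨t, ht⟩ := hKc.elim_finite_subcover (fun x : K => Points.ofPt a '' (W x : Set ↥U.left))
    (fun x => hopen _ (W x).isOpen) (fun y hy => Set.mem_iUnion.2 ⟨⟨y, hy⟩, hW2 ⟨y, hy⟩⟩)
  have heq : K ∩ {x : Points X |
      HasAtMor (fun _ _ h u => FlatMor.fibreDimAt h u ≤ (n : WithBot ℕ∞)) f x} =
      ⋃ x ∈ t, Points.ofPt a '' ({u : ↥U.left | FlatMor.fibreDimAt h.left u ≤ n} ∩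
        (W x : Set ↥U.left)) := by
    ext y
    simp only [Set.mem_inter_iff, Set.mem_iUnion, exists_prop, Set.mem_setOf_eq, Set.mem_image]
    constructor
    · rintro ⟨hy1, hy2⟩
      have := ht hy1
      simp only [Set.mem_iUnion, exists_prop] at this
      obtain ⟨x, hxt, u, huW, rfl⟩ := this
      exact ⟨x, hxt, u, ⟨(hiff u).1 hy2, huW⟩, rfl⟩
    · rintro ⟨x, -, u, ⟨hu1, hu2⟩, rfl⟩
      exact ⟨hW3 x hu2, (hiff u).2 hu1⟩
  rw [heq]
  refine t.isCompact_biUnion fun x _ => IsCompact.image ?_ hcont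
  exact isRetrocompact_setOf_fibreDimAt_le h.left n (hW1 x).isCompact (W x).isOpen

end Groth.Agent.Lib.Helper14.AS
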