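import Mathlib
import Groth.Agent.Lib.Helper1.IdealSheafComap

universe u

open CategoryTheory CategoryTheory.Limits AlgebraicGeometry

namespace Groth.Agent.Lib.Helper14.Ribbon

/-- Ring lemma: square-zero Nakayama. -/
theorem surjective_of_sqZero {A B D : Type*} [CommRing A] [CommRing B] [CommRing D]
    (φ : B →+* A) (π : A →+* D) (hπφ : Function.Surjective (π.comp φ))
    (hI : (RingHom.ker π) ^ 2 = ⊥)
    (hJ : RingHom.ker π = (RingHom.ker (π.comp φ)).map φ) :
    Function.Surjective φ := by
  have key : ∀ y ∈ RingHom.ker π, y ∈ φ.range := by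
    intro y hy
    rw [hJ, Ideal.map] at hy
    induction hy using Submodule.span_induction with
    | mem x hx =>
      obtain ⟨j, -, rfl⟩ := hx
      exact ⟨j, rfl⟩
    | zero => exact Subring.zero_mem _
    | add x y _ _ hx hy => exact Subring.add_mem _ hx hy
    | smul a x hx hx' =>
      obtain ⟨b, hb⟩ := hπφ (π a)
      have h1 : a - φ b ∈ RingHom.ker π := by
        rw [RingHom.mem_ker, map_sub, sub_eq_zero]; exact hb.symm
      have hxI : x ∈ RingHom.ker π := by
        rw [hJ, Ideal.map]; exact hx
      have h2 : (a - φ b) * x = 0 := by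
        have : (a - φ b) * x ∈ (RingHom.ker π) ^ 2 := by
          rw [pow_two]; exact Ideal.mul_mem_mul h1 hxI
        rw [hI] at this
        exact this
      have h3 : a • x = φ b * x := by
        rw [smul_eq_mul]
        linear_combination h2
      rw [h3]
      exact Subring.mul_mem _ ⟨b, rfl⟩ hx'
  intro a
  obtain ⟨b, hb⟩ := hπφ (π a)
  have h1 : a - φ b ∈ RingHom.ker π := by
    rw [RingHom.mem_ker, map_sub, sub_eq_zero]; exact hb.symm
  obtain ⟨c, hc⟩ := key _ h1
  exact ⟨c + b, by rw [map_add, hc]; ring⟩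

theorem surjective_of_ker_sq_eq_bot {D C : Scheme.{u}} (i : D ⟶ C) [IsClosedImmersion i]
    (h : i.ker ^ 2 = ⊥) : Function.Surjective i := by
  have h1 : Set.range i = (i.ker.support : Set C) := by
    rw [Scheme.Hom.support_ker, i.isClosedEmbedding.isClosed_range.closure_eq]
  have h2 : (i.ker ^ 2).support = i.ker.support := Scheme.IdealSheafData.support_pow _ _ (by norm_num)
  rw [h] at h2
  rw [← Set.range_eq_univ, h1, ← h2]
  simp

end Groth.Agent.Lib.Helper14.Ribbon
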