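import Mathlib
import Groth.Agent.Lib.Helper14.Ribbon1
import Groth.Agent.Lib.Helper1.AffThick

universe u

open CategoryTheory CategoryTheory.Limits AlgebraicGeometry

namespace Groth.Agent.Lib.Helper14.RibbonSplit

/-- Ring-level: a surjection with square-zero kernel onto a formally smooth algebra splits. -/
theorem exists_section_of_sqZero {k A B : Type u} [CommRing k] [CommRing A] [CommRing B]
    (a : k →+* A) (φ : A →+* B) (hsm : (φ.comp a).FormallySmooth)
    (hφ : Function.Surjective φ) (hker : RingHom.ker φ ^ 2 = ⊥) :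
    ∃ s : B →+* A, φ.comp s = RingHom.id B ∧ s.comp (φ.comp a) = a := by
  algebraize [a, φ.comp a]
  let φ' : A →ₐ[k] B := { φ with commutes' := fun r => rfl }
  have hφ' : Function.Surjective φ' := hφ
  let e : (A ⧸ RingHom.ker φ'.toRingHom) ≃ₐ[k] B := Ideal.quotientKerAlgEquivOfSurjective hφ'
  have hnil : IsNilpotent (RingHom.ker φ'.toRingHom) := ⟨2, hker⟩
  let s : B →ₐ[k] A := Algebra.FormallySmooth.lift (RingHom.ker φ'.toRingHom) hnil e.symm.toAlgHom
  have hs : (Ideal.Quotient.mkₐ k (RingHom.ker φ'.toRingHom)).comp s = e.symm.toAlgHom :=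
    Algebra.FormallySmooth.comp_lift _ hnil _
  refine ⟨s.toRingHom, ?_, ?_⟩
  · ext b
    have h1 : (Ideal.Quotient.mkₐ k (RingHom.ker φ'.toRingHom)) (s b) = e.symm b :=
      congrArg (fun f => f b) hs
    have h2 : e ((Ideal.Quotient.mkₐ k (RingHom.ker φ'.toRingHom)) (s b)) = b := by
      rw [h1]; exact e.apply_symm_apply b
    have h3 : e ((Ideal.Quotient.mkₐ k (RingHom.ker φ'.toRingHom)) (s b)) = φ (s b) := rfl
    exact h3.symm.trans h2
  · ext r
    exact s.commutes r

/-- A square-zero thickening of a smooth affine scheme over an affine base retracts. -/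
theorem exists_retraction {C S : Scheme.{u}} [IsAffine S] (st : C ⟶ S)
    (I : C.IdealSheafData) (hI : I ^ 2 = ⊥) [IsAffine I.subscheme]
    [Smooth (I.subschemeι ≫ st)] :
    ∃ r : C ⟶ I.subscheme, I.subschemeι ≫ r = 𝟙 I.subscheme ∧
      r ≫ I.subschemeι ≫ st = st := by
  have hsq : I.subschemeι.ker ^ 2 = ⊥ := by rw [I.ker_subschemeι]; exact hI
  have hsurj : Function.Surjective I.subschemeι :=
    Groth.Agent.Lib.Helper14.Ribbon.surjective_of_ker_sq_eq_bot I.subschemeι hsq
  have hC : IsAffine C := Groth.Agent.Lib.Helper1.AffThick.isAffine_of_thickening I.subschemeι hsurj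
  -- ring level data
  have hsm : RingHom.Smooth ((I.subschemeι ≫ st).appTop.hom) :=
    (HasRingHomProperty.iff_of_isAffine (P := @Smooth)).1 inferInstance
  have hφ : Function.Surjective (I.subschemeι.appTop.hom) := by
    have := I.subschemeι.app_surjective ⊤ (isAffineOpen_top C)
    exact this
  have hker : RingHom.ker (I.subschemeι.appTop.hom) ^ 2 = ⊥ := by
    have h1 := Scheme.Hom.ker_apply I.subschemeι ⟨⊤, isAffineOpen_top C⟩
    have h2 := congrArg (fun J => J.ideal ⟨⊤, isAffineOpen_top C⟩) hsq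
    simp only [Scheme.IdealSheafData.ideal_pow, Scheme.IdealSheafData.ideal_bot, Pi.bot_apply, Pi.pow_apply] at h2
    rw [h1] at h2
    exact h2
  have hcomp : (I.subschemeι.appTop.hom).comp st.appTop.hom = (I.subschemeι ≫ st).appTop.hom := rfl
  obtain ⟨s, hs1, hs2⟩ := exists_section_of_sqZero st.appTop.hom I.subschemeι.appTop.hom
    (by rw [hcomp]; exact hsm.formallySmooth) hφ hker
  refine ⟨C.isoSpec.hom ≫ Spec.map (CommRingCat.ofHom s) ≫ I.subscheme.isoSpec.inv, ?_, ?_⟩
  · have h0 : CommRingCat.ofHom s ≫ I.subschemeι.appTop = 𝟙 _ := by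
      ext x
      exact congrArg (fun f => f x) hs1
    have h0' : Spec.map I.subschemeι.appTop ≫ Spec.map (CommRingCat.ofHom s) = 𝟙 _ := by
      rw [← Spec.map_comp, ← Spec.map_id]
      exact congrArg Spec.map h0
    calc I.subschemeι ≫ C.isoSpec.hom ≫ Spec.map (CommRingCat.ofHom s) ≫ I.subscheme.isoSpec.inv
        = (I.subschemeι ≫ C.isoSpec.hom) ≫ Spec.map (CommRingCat.ofHom s) ≫
            I.subscheme.isoSpec.inv := by simp only [Category.assoc]
      _ = I.subscheme.isoSpec.hom ≫ (Spec.map I.subschemeι.appTop ≫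
            Spec.map (CommRingCat.ofHom s)) ≫ I.subscheme.isoSpec.inv := by
          rw [← Scheme.isoSpec_hom_naturality]; simp only [Category.assoc]
      _ = 𝟙 _ := by
          rw [h0', Category.id_comp, Iso.hom_inv_id]
  · have h1 : I.subscheme.isoSpec.inv ≫ (I.subschemeι ≫ st) =
        Spec.map ((I.subschemeι ≫ st).appTop) ≫ S.isoSpec.inv :=
      (Scheme.isoSpec_inv_naturality _).symm
    have h2 : (I.subschemeι ≫ st).appTop ≫ CommRingCat.ofHom s = st.appTop := by
      ext x
      exact congrArg (fun f => f x) hs2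
    calc (C.isoSpec.hom ≫ Spec.map (CommRingCat.ofHom s) ≫ I.subscheme.isoSpec.inv) ≫
          I.subschemeι ≫ st
        = C.isoSpec.hom ≫ Spec.map (CommRingCat.ofHom s) ≫
            (I.subscheme.isoSpec.inv ≫ (I.subschemeι ≫ st)) := by
          simp only [Category.assoc]
      _ = C.isoSpec.hom ≫ (Spec.map (CommRingCat.ofHom s) ≫
            Spec.map ((I.subschemeι ≫ st).appTop)) ≫ S.isoSpec.inv := by
          rw [h1]; simp only [Category.assoc]
      _ = (C.isoSpec.hom ≫ Spec.map st.appTop) ≫ S.isoSpec.inv := by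
          have h2' : Spec.map (CommRingCat.ofHom s) ≫ Spec.map ((I.subschemeι ≫ st).appTop) =
              Spec.map st.appTop := by
            rw [← Spec.map_comp]
            exact congrArg Spec.map h2
          rw [h2', Category.assoc]
      _ = st := by
          rw [Scheme.isoSpec_hom_naturality, Category.assoc, Iso.hom_inv_id, Category.comp_id]

end Groth.Agent.Lib.Helper14.RibbonSplit
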