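import Groth.Agent.Lib.Helper14.SchImg2

/-!
# The scheme theoretic image of a quasi-compact morphism, chart description (helper14)
-/

universe u
open CategoryTheory CategoryTheory.Limits AlgebraicGeometry Opposite Topology

namespace Groth.Agent.Lib.Helper14.AS

open AlgSp Groth.Agent.Lib.Helper14.AS

variable {S : Scheme.{u}}

set_option backward.isDefEq.respectTransparency.types false in
/-- A closed subspace through which `f` factors contains the scheme theoretic image on each
chart. -/
theorem factors_of_imgKer_le {X Y Z' : Sp S} (f : X ⟶ Y) (i' : Z' ⟶ Y)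
    (hi' : RepWith @IsClosedImmersion i') (hf : ∃ f'' : X ⟶ Z', f'' ≫ i' = f) {V T : Over S}
    (b : (yon S).obj V ⟶ Y) (t : T ⟶ V) (h : imgKer f b ≤ t.left.ker) :
    ∃ l : (yon S).obj T ⟶ Z', l ≫ i' = (yon S).map t ≫ b := by
  obtain ⟨f'', rfl⟩ := hf
  have sq := hi'.rep.isPullback b
  have hc : IsClosedImmersion (hi'.rep.snd b).left := hi'.property_snd b
  have hle : (hi'.rep.snd b).left.ker ≤ imgKer (f'' ≫ i') b := by
    apply le_imgKer
    intro T' t' x hx
    obtain ⟨l, hl⟩ := (yon S).map_surjective (sq.lift (x ≫ f'') ((yon S).map t')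
      (by rw [Category.assoc, hx]))
    have : l ≫ hi'.rep.snd b = t' := by
      apply (yon S).map_injective
      rw [Functor.map_comp, hl, sq.lift_snd]
    rw [← this, Over.comp_left]
    exact Scheme.Hom.le_ker_comp _ _
  let k₀ : T.left ⟶ (hi'.rep.pullback b).left :=
    IsClosedImmersion.lift (hi'.rep.snd b).left t.left (hle.trans h)
  have hk₀ : k₀ ≫ (hi'.rep.snd b).left = t.left := IsClosedImmersion.lift_fac _ _ _
  let k : T ⟶ hi'.rep.pullback b := Over.homMk k₀ (by
    rw [← Over.w (hi'.rep.snd b), ← Category.assoc, hk₀, Over.w])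
  have hk : k ≫ hi'.rep.snd b = t := by
    apply Over.OverMorphism.ext
    exact hk₀
  refine ⟨(yon S).map k ≫ hi'.rep.fst b, ?_⟩
  rw [Category.assoc, sq.w, ← Functor.map_comp_assoc, hk]

/-- The subsheaf cut out by `qcImgPred` is the scheme theoretic image. -/
theorem isSchImage_qcImgPred {X Y : Sp S} (hY : IsAlgSpace Y) {f : X ⟶ Y}
    (hq : IsQuasiCompactMor f) :
    IsAlgSpace (qcImgPred f).sheaf ∧ IsSchImage f (qcImgPred f).ι := by
  have hrep := qcImgPred_repWith hY hq
  refine ⟨isAlgSpace_of_representable_to hY _ hrep.rep, hrep, ?_, ?_⟩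
  · rw [(qcImgPred f).factors_iff]
    intro T x
    exact qcImgPred_of_factors f x
  · intro Z' i' _ hi' hf
    have : Mono i' := mono_of_repWith_isClosedImmersion hi'
    apply exists_lift_of_points i' (qcImgPred f).ι
    intro T x
    have hP : (qcImgPred f).P (x ≫ (qcImgPred f).ι) := ((qcImgPred f).P_iff _).2 ⟨x, rfl⟩
    refine exists_lift_of_pointwise i' _ fun y => ?_
    obtain ⟨W, V₀, hV₀, w, t₀, b₀, hb₀, hwe, hyw, hcomm⟩ :=
      exists_affine_chart_at hY (x ≫ (qcImgPred f).ι) y
    refine ⟨W, w, inferInstance, inferInstance, hyw, ?_⟩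
    rw [hcomm]
    apply factors_of_imgKer_le f i' hi' hf
    rw [← qcImgPred_iff hq b₀ hb₀, ← hcomm]
    exact (qcImgPred f).comp _ _ hP

/-- Chart description of the scheme theoretic image of a quasi-compact morphism: a point of an
affine etale chart lies in the image iff it lies in the scheme theoretic image of the chart. -/
theorem isSchImage_factors_iff {X Y Z : Sp S} (hY : IsAlgSpace Y) {f : X ⟶ Y}
    (hq : IsQuasiCompactMor f) (i : Z ⟶ Y) (hZ : IsSchImage f i) {V : Over S} [IsAffine V.left]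
    (b : (yon S).obj V ⟶ Y) (hb : RepWith @Etale b) {T : Over S} (t : T ⟶ V) :
    (∃ l : (yon S).obj T ⟶ Z, l ≫ i = (yon S).map t ≫ b) ↔ imgKer f b ≤ t.left.ker := by
  obtain ⟨hZ', hrep, hfac, -⟩ := isSchImage_qcImgPred hY hq
  constructor
  · rintro ⟨l, hl⟩
    obtain ⟨k, hk⟩ := hZ.2.2 (qcImgPred f).ι hZ' hrep hfac
    rw [← qcImgPred_iff hq b hb, ← hl, ← hk, ← Category.assoc]
    exact ((qcImgPred f).P_iff _).2 ⟨_, rfl⟩
  · intro h
    exact factors_of_imgKer_le f i hZ.1 hZ.2.1 b t h

end Groth.Agent.Lib.Helper14.AS
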