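import Groth.Agent.Lib.Helper14.SchImg3
import Groth.Agent.Lib.Helper14.AlgSpPoints
import Groth.Agent.Lib.Helper14.AlgSpImmTop

/-!
# Etale base change and density for scheme theoretic images (helper14)
-/

universe u
open CategoryTheory CategoryTheory.Limits AlgebraicGeometry Opposite Topology

namespace Groth.Agent.Lib.Helper14.AS

open AlgSp Groth.Agent.Lib.Helper14.AS

variable {S : Scheme.{u}}

/-- The scheme theoretic image on charts is compatible with base change of the morphism. -/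
theorem imgKer_baseChange_eq {X Y V XV : Sp S} {f : X ⟶ Y} {b : V ⟶ Y} {f₁ : XV ⟶ X}
    {fV : XV ⟶ V} (sq : IsPullback f₁ fV f b) {V₁ : Over S} (b₁ : (yon S).obj V₁ ⟶ V) :
    imgKer fV b₁ = imgKer f (b₁ ≫ b) := by
  apply le_antisymm
  · apply le_imgKer
    intro T t x hx
    refine imgKer_le fV b₁ t (sq.lift x ((yon S).map t ≫ b₁) (by rw [hx, Category.assoc])) ?_
    rw [sq.lift_snd]
  · apply le_imgKer
    intro T t x hx
    refine imgKer_le f (b₁ ≫ b) t (x ≫ f₁) ?_
    rw [Category.assoc, sq.w, ← Category.assoc, hx, Category.assoc]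

/-- Forming the scheme theoretic image of a quasi-compact morphism commutes with etale base
change. -/
theorem isSchImage_etale_baseChange {X Y Z V XV ZV : Sp S} (hY : IsAlgSpace Y)
    (hV : IsAlgSpace V) {f : X ⟶ Y} (hq : IsQuasiCompactMor f) {i : Z ⟶ Y}
    (hZ : IsSchImage f i) {b : V ⟶ Y} (hb : IsEtaleMor b) {f₁ : XV ⟶ X} {fV : XV ⟶ V}
    {i₁ : ZV ⟶ Z} {iV : ZV ⟶ V} (sqX : IsPullback f₁ fV f b) (sqZ : IsPullback i₁ iV i b) :
    IsSchImage fV iV := by
  obtain ⟨f', hf'⟩ := hZ.2.1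
  refine ⟨repWith_of_isPullback _ sqZ hZ.1, ⟨sqZ.lift (f₁ ≫ f') fV (by
    rw [Category.assoc, hf', sqX.w]), sqZ.lift_snd _ _ _⟩, ?_⟩
  intro Z'' i'' _ hi'' hf''
  have : Mono i'' := mono_of_repWith_isClosedImmersion hi''
  apply exists_lift_of_points i'' iV
  intro T z
  refine exists_lift_of_pointwise i'' _ fun y => ?_
  obtain ⟨W, V₁, hV₁, w, t₁, b₁, hb₁, hwe, hyw, hcomm⟩ := exists_affine_chart_at hV (z ≫ iV) y
  refine ⟨W, w, inferInstance, inferInstance, hyw, ?_⟩
  rw [hcomm]
  apply factors_of_imgKer_le fV i'' hi'' hf''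
  rw [imgKer_baseChange_eq sqX, ← isSchImage_factors_iff hY hq i hZ (b₁ ≫ b) (hb b₁ hb₁) t₁]
  refine ⟨(yon S).map w ≫ z ≫ i₁, ?_⟩
  rw [Category.assoc, Category.assoc, sqZ.w, ← Category.assoc z, ← Category.assoc, hcomm,
    Category.assoc]

set_option backward.isDefEq.respectTransparency.types false in
/-- Every point of the scheme theoretic image of a quasi-compact morphism lies, on a suitable
affine etale chart, in the closure of the image of a quasi-compact chart of the source. -/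
theorem exists_chart_mem_closure {X Y Z : Sp S} (hY : IsAlgSpace Y) {f : X ⟶ Y}
    (hq : IsQuasiCompactMor f) (i : Z ⟶ Y) (hZ : IsSchImage f i) (z : Points Z) :
    ∃ (V : Over S) (_ : IsAffine V.left) (b : (yon S).obj V ⟶ Y) (_ : RepWith @Etale b)
      (c : ImgChart f b) (_ : CompactSpace c.U.left) (v : V.left),
      Points.ofPt b v = Points.map i z ∧ v ∈ closure (Set.range c.u.left) := by
  obtain ⟨Y₀, p, hpe, hps⟩ := hY.atlas
  obtain ⟨y₀, hy₀⟩ := ofPt_surjective_of_repWith hps (Points.map i z)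
  obtain ⟨V₀', hV₀', hyV₀', -⟩ := exists_isAffineOpen_mem_and_subset (x := y₀)
    (U := (⊤ : Y₀.left.Opens)) trivial
  have hV₀aff : IsAffine (openSub Y₀ V₀').left := hV₀'
  let b := (yon S).map (openSubι Y₀ V₀') ≫ p
  have hb : RepWith @Etale b := repWith_etale_restrict hpe V₀'
  obtain ⟨c, hc⟩ := exists_imgChart_of_qc hq b
  let v : (openSub Y₀ V₀').left := ⟨y₀, hyV₀'⟩
  have hv : Points.ofPt b v = Points.map i z := by
    rw [← hy₀, ofPt_yon_map_comp]
    rfl
  refine ⟨openSub Y₀ V₀', hV₀aff, b, hb, c, hc, v, hv, ?_⟩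
  -- the pullback of `Z` to the chart
  have sq := hZ.1.rep.isPullback b
  have hcl : IsClosedImmersion (hZ.1.rep.snd b).left := hZ.1.property_snd b
  have e : Points.map i z = Points.map b (Points.schemeHomeo _ v) := by
    rw [← hv, Points.ofPt_eq_map_ofScheme]
    rfl
  obtain ⟨zV, -, hzV⟩ := points_exists_of_isPullback sq z _ e
  obtain ⟨zV', rfl⟩ := (Points.schemeHomeo _).surjective zV
  have hzV' : (hZ.1.rep.snd b).left zV' = v := by
    apply (Points.schemeHomeo _).injective
    rw [← hzV]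
    exact (Points.map_yon_map_apply _ _).symm
  have hle : imgKer f b ≤ (hZ.1.rep.snd b).left.ker :=
    (isSchImage_factors_iff hY hq i hZ b hb (hZ.1.rep.snd b)).1 ⟨hZ.1.rep.fst b, sq.w⟩
  have h1 : v ∈ ((hZ.1.rep.snd b).left.ker.support : Set _) :=
    (hZ.1.rep.snd b).left.range_subset_ker_support ⟨zV', hzV'⟩
  have h2 := Scheme.IdealSheafData.support_antitone hle h1
  rw [c.imgKer_eq] at h2
  have h3 := Scheme.Hom.support_ker c.u.left
  rw [← h3]
  exact h2

/-- The image of a quasi-compact morphism is dense in its scheme theoretic image. -/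
theorem range_subset_closure_of_isSchImage {X Y Z : Sp S} (hY : IsAlgSpace Y) {f : X ⟶ Y}
    (hq : IsQuasiCompactMor f) (i : Z ⟶ Y) (hZ : IsSchImage f i) :
    Set.range (Points.map i) ⊆ closure (Set.range (Points.map f)) := by
  rintro _ ⟨z, rfl⟩
  obtain ⟨V, hV, b, hb, c, hc, v, hv, hcl⟩ := exists_chart_mem_closure hY hq i hZ z
  rw [← hv]
  have h1 := image_closure_subset_closure_image (Points.continuous_ofPt b) ⟨v, hcl, rfl⟩
  refine closure_mono ?_ h1
  rintro _ ⟨_, ⟨x, rfl⟩, rfl⟩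
  refine ⟨Points.ofPt c.q x, ?_⟩
  rw [Points.map_ofPt, c.w, ofPt_yon_map_comp]

end Groth.Agent.Lib.Helper14.AS
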