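import Groth.Agent.Lib.Helper14.SchImg4
import Groth.Agent.Lib.Helper14.GenSpec2
import Groth.Agent.Helper19.SchDomEpi

/-!
# Valuation rings reaching points of the scheme theoretic image (helper14)
-/

universe u
open CategoryTheory CategoryTheory.Limits AlgebraicGeometry Opposite Topology IsLocalRing

namespace Groth.Agent.Lib.Helper14.AS

open AlgSp Groth.Agent.Lib.Helper14.AS

variable {S : Scheme.{u}}

set_option backward.isDefEq.respectTransparency.types false in
/-- A specialization `g u ⤳ v` is witnessed by a valuation ring. -/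
theorem exists_valuationRing_of_specializes {U W : Scheme.{u}} (g : U ⟶ W) (u : U) (v : W)
    (hsp : g u ⤳ v) :
    ∃ (A : Type u) (_ : CommRing A) (_ : IsDomain A) (_ : ValuationRing A)
      (m : Spec (CommRingCat.of A) ⟶ W) (n : Spec (CommRingCat.of (FractionRing A)) ⟶ U),
      m (IsLocalRing.closedPoint A) = v ∧
      Spec.map (CommRingCat.ofHom (algebraMap A (FractionRing A))) ≫ m = n ≫ g := by
  let stalk_v_to_K : W.presheaf.stalk v ⟶ U.residueField u :=
    W.presheaf.stalkSpecializes hsp ≫ g.stalkMap u ≫ U.residue u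
  obtain ⟨A, hA, hA_local⟩ := exists_factor_valuationRing stalk_v_to_K.hom
  let stalk_v_to_A : W.presheaf.stalk v ⟶ .of A :=
    CommRingCat.ofHom (stalk_v_to_K.hom.codRestrict _ hA)
  have w : U.fromSpecResidueField u ≫ g =
      Spec.map (CommRingCat.ofHom (algebraMap A (U.residueField u))) ≫
        Spec.map stalk_v_to_A ≫ W.fromSpecStalk v := by
    rw [Scheme.fromSpecResidueField, Category.assoc, ← Scheme.SpecMap_stalkMap_fromSpecStalk,
      ← Scheme.SpecMap_stalkSpecializes_fromSpecStalk hsp]
    simp_rw [← Spec.map_comp_assoc]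
    rfl
  let e : FractionRing A ≃ₐ[A] U.residueField u := FractionRing.algEquiv A (U.residueField u)
  refine ⟨A, inferInstance, inferInstance, inferInstance, Spec.map stalk_v_to_A ≫ W.fromSpecStalk v,
    Spec.map (CommRingCat.ofHom (e.symm : U.residueField u →+* FractionRing A)) ≫
      U.fromSpecResidueField u, ?_, ?_⟩
  · have : Spec.map stalk_v_to_A (closedPoint A) = closedPoint (W.presheaf.stalk v) :=
      comap_closedPoint (S := A) (stalk_v_to_K.hom.codRestrict A.toSubring hA)
    rw [Scheme.Hom.comp_apply, this, W.fromSpecStalk_closedPoint]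
  · have h : Spec.map (CommRingCat.ofHom (e.symm : U.residueField u →+* FractionRing A)) ≫
        Spec.map (CommRingCat.ofHom (algebraMap A (U.residueField u))) =
        Spec.map (CommRingCat.ofHom (algebraMap A (FractionRing A))) := by
      rw [← Spec.map_comp, ← CommRingCat.ofHom_comp]
      congr 2
      ext a
      exact e.symm.commutes a
    rw [Category.assoc, w, ← h]
    simp only [Category.assoc]

/-- For a quasi-compact source and an affine target, points in the closure of the image are
specializations of points of the image. -/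
theorem exists_specializes_of_mem_closure_range_qc {U V : Scheme.{u}} [CompactSpace U] [IsAffine V]
    (g : U ⟶ V) (v : V) (hv : v ∈ closure (Set.range g)) : ∃ u : U, g u ⤳ v := by
  let 𝒰 := U.affineCover.finiteSubcover
  have hr : Set.range g = ⋃ k : 𝒰.I₀, Set.range (𝒰.f k ≫ g) := by
    ext y
    simp only [Set.mem_range, Set.mem_iUnion]
    constructor
    · rintro ⟨x, rfl⟩
      obtain ⟨k, x', rfl⟩ := 𝒰.exists_eq x
      exact ⟨k, x', Scheme.Hom.comp_apply _ _ _⟩
    · rintro ⟨k, x', rfl⟩
      exact ⟨𝒰.f k x', (Scheme.Hom.comp_apply _ _ _).symm⟩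
  rw [hr, closure_iUnion_of_finite] at hv
  obtain ⟨k, hk⟩ := Set.mem_iUnion.1 hv
  have : IsAffine (𝒰.X k) := by dsimp [𝒰]; infer_instance
  obtain ⟨t, ht⟩ := exists_specializes_of_mem_closure_range (𝒰.f k ≫ g) v hk
  exact ⟨𝒰.f k t, by rwa [Scheme.Hom.comp_apply] at ht⟩

set_option backward.isDefEq.respectTransparency.types false in
/-- Every point of the scheme theoretic image of a quasi-compact morphism is reached by a
valuation ring whose generic point lifts to the source. -/
theorem exists_valuationRing_to_schImage {X Y Z : Sp S} (hY : IsAlgSpace Y) {f : X ⟶ Y}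
    (hq : IsQuasiCompactMor f) (i : Z ⟶ Y) (hZ : IsSchImage f i) (z : Points Z) :
    ∃ (A : Type u) (_ : CommRing A) (_ : IsDomain A) (_ : ValuationRing A)
      (str : Spec (CommRingCat.of A) ⟶ S) (a : (yon S).obj (Over.mk str) ⟶ Z)
      (x : (yon S).obj (Over.mk (Spec.map (CommRingCat.ofHom (algebraMap A (FractionRing A))) ≫
        str)) ⟶ X),
      Points.ofPt a (IsLocalRing.closedPoint A) = z ∧
      x ≫ f = (yon S).map (Over.homMk
        (Spec.map (CommRingCat.ofHom (algebraMap A (FractionRing A)))) rfl) ≫ a ≫ i := by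
  obtain ⟨V, hV, b, hb, c, hc, v, hv, hcl⟩ := exists_chart_mem_closure hY hq i hZ z
  obtain ⟨u₀, hu₀⟩ := exists_specializes_of_mem_closure_range_qc c.u.left v hcl
  obtain ⟨A, iA1, iA2, iA3, m, n, hm, hmn⟩ :=
    exists_valuationRing_of_specializes c.u.left u₀ v hu₀
  let str : Spec (CommRingCat.of A) ⟶ S := m ≫ V.hom
  let mO : Over.mk str ⟶ V := Over.homMk m rfl
  let ιO : Over.mk (Spec.map (CommRingCat.ofHom (algebraMap A (FractionRing A))) ≫ str) ⟶
    Over.mk str := Over.homMk (Spec.map (CommRingCat.ofHom (algebraMap A (FractionRing A)))) rfl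
  let nO : Over.mk (Spec.map (CommRingCat.ofHom (algebraMap A (FractionRing A))) ≫ str) ⟶ c.U :=
    Over.homMk n (by
      change n ≫ c.U.hom = Spec.map (CommRingCat.ofHom (algebraMap A (FractionRing A))) ≫ m ≫ V.hom
      rw [← Over.w c.u, ← Category.assoc, ← hmn, Category.assoc])
  have hcomm : nO ≫ c.u = ιO ≫ mO := by
    apply Over.OverMorphism.ext
    exact hmn.symm
  have hdom : IsSchemeTheoreticallyDominant ιO.left :=
    Groth.Agent.Helper19.SchDomEpi.isSchemeTheoreticallyDominant_specMap _
      (IsFractionRing.injective A (FractionRing A))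
  have hle : imgKer f b ≤ mO.left.ker := by
    have h1 : imgKer f b ≤ (nO ≫ c.u).left.ker := by
      rw [c.imgKer_eq, Over.comp_left]
      exact Scheme.Hom.le_ker_comp _ _
    rw [hcomm, Over.comp_left,
      Groth.Agent.Lib.Helper25.ClosedDescent.ker_comp_of_dominant] at h1
    exact h1
  obtain ⟨a, ha⟩ := (isSchImage_factors_iff hY hq i hZ b hb mO).2 hle
  refine ⟨A, iA1, iA2, iA3, str, a, (yon S).map nO ≫ c.q, ?_, ?_⟩
  · have : Mono i := mono_of_repWith_isClosedImmersion hZ.1
    apply (fieldInj_of_mono i).injective_points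
    rw [Points.map_ofPt, ha, ofPt_yon_map_comp, ← hv]
    congr 1
  · rw [Category.assoc, c.w, ← Functor.map_comp_assoc, hcomm, Functor.map_comp_assoc, ha]

end Groth.Agent.Lib.Helper14.AS
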