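import Groth.Prelude.Def_EGA43
import Mathlib.AlgebraicGeometry.PullbackCarrier

/-!
# Morphisms universally open at a point (helper14)
-/

universe u
open CategoryTheory CategoryTheory.Limits AlgebraicGeometry

namespace Groth.Agent.Lib.Helper14.UOA

open EGA43

section Top
variable {α β γ : Type*} [TopologicalSpace α] [TopologicalSpace β] [TopologicalSpace γ]

theorem isOpenAt_comp (f : α → β) (g : β → γ) (x : α) (hf : IsOpenAt f x)
    (hg : IsOpenAt g (f x)) : IsOpenAt (g ∘ f) x := fun U hU => by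
  rw [Set.image_comp]; exact hg _ (hf U hU)

theorem isOpenAt_of_comp (f : α → β) (g : β → γ) (x : α) (hf : ContinuousAt f x)
    (h : IsOpenAt (g ∘ f) x) : IsOpenAt g (f x) := fun U hU =>
  Filter.mem_of_superset (h (f ⁻¹' U) (hf hU)) (by
    rw [Set.image_comp]; exact Set.image_mono (Set.image_preimage_subset f U))

theorem isOpenAt_of_isOpenMap (f : α → β) (hf : IsOpenMap f) (x : α) : IsOpenAt f x :=
  fun _ hU => hf.image_mem_nhds hU

theorem isOpenAt_of_finite_closed_cover {α β ι : Type*} [TopologicalSpace α] [TopologicalSpace β]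
    [Finite ι] (ψ : α → β) (x : α) (C : ι → Set β) (hC : ∀ i, IsClosed (C i))
    (hcov : ⋃ i, C i = Set.univ)
    (h : ∀ i, ψ x ∈ C i → ∀ U ∈ nhds x, ∃ V ∈ nhds (ψ x), V ∩ C i ⊆ ψ '' U) :
    IsOpenAt ψ x := by
  classical
  intro U hU
  choose! V hV hVU using fun i (hi : ψ x ∈ C i) => h i hi U hU
  let W : ι → Set β := fun i => if ψ x ∈ C i then V i else (C i)ᶜ
  have hW : ∀ i, W i ∈ nhds (ψ x) := by
    intro i
    by_cases hi : ψ x ∈ C i
    · simp only [W, if_pos hi]; exact hV i hi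
    · simp only [W, if_neg hi]; exact (hC i).isOpen_compl.mem_nhds hi
  have hW' : (⋂ i, W i) ∈ nhds (ψ x) := (Filter.iInter_mem).2 hW
  refine Filter.mem_of_superset hW' ?_
  intro y hy
  have hy' : ∀ i, y ∈ W i := Set.mem_iInter.1 hy
  have : y ∈ ⋃ i, C i := hcov ▸ Set.mem_univ y
  obtain ⟨j, hj⟩ := Set.mem_iUnion.1 this
  have hyj := hy' j
  by_cases hxj : ψ x ∈ C j
  · simp only [W, if_pos hxj] at hyj
    exact hVU j hxj ⟨hyj, hj⟩
  · simp only [W, if_neg hxj] at hyj
    exact absurd hj hyj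

end Top

theorem isOpenAt_of_isIso {X Y : Scheme.{u}} (e : X ⟶ Y) [IsIso e] (x : X) : IsOpenAt e.base x :=
  isOpenAt_of_isOpenMap _ e.isOpenEmbedding.isOpenMap x

theorem comp_base_eq {X Y Z : Scheme.{u}} (f : X ⟶ Y) (g : Y ⟶ Z) :
    ((f ≫ g).base : X → Z) = g.base ∘ f.base := by
  ext x; simp

/-- Being universally open at a point can be tested on every pullback square. -/
theorem isOpenAt_snd_of_isUnivOpenAt {X Y : Scheme.{u}} {f : X ⟶ Y} {x : X}
    (h : IsUnivOpenAt f x) {P Y' : Scheme.{u}} {fst : P ⟶ X} {snd : P ⟶ Y'} {g : Y' ⟶ Y}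
    (sq : IsPullback fst snd f g) (x' : P) (hx' : fst.base x' = x) : IsOpenAt snd.base x' := by
  have e1 : sq.isoPullback.hom ≫ pullback.fst f g = fst := sq.isoPullback_hom_fst
  have e2 : sq.isoPullback.hom ≫ pullback.snd f g = snd := sq.isoPullback_hom_snd
  rw [← e2, comp_base_eq]
  refine isOpenAt_comp _ _ _ (isOpenAt_of_isIso _ _) (h Y' g _ ?_)
  rw [← hx']
  exact congrArg (fun k : P ⟶ X => k.base x') e1

/-- To check universal openness at `x` it suffices to produce, for every `g`, some pullback square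
on which the projection is open at the points over `x`. -/
theorem isUnivOpenAt_of_forall {X Y : Scheme.{u}} {f : X ⟶ Y} {x : X}
    (h : ∀ (Y' : Scheme.{u}) (g : Y' ⟶ Y), ∃ (P : Scheme.{u}) (fst : P ⟶ X) (snd : P ⟶ Y'),
      IsPullback fst snd f g ∧ ∀ x' : P, fst.base x' = x → IsOpenAt snd.base x') :
    IsUnivOpenAt f x := by
  intro Y' g x' hx'
  obtain ⟨P, fst, snd, sq, hP⟩ := h Y' g
  have sq0 := IsPullback.of_hasPullback f g
  have e1 : (sq0.isoIsPullback _ _ sq).hom ≫ fst = pullback.fst f g := sq0.isoIsPullback_hom_fst _ _ sq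
  have e2 : (sq0.isoIsPullback _ _ sq).hom ≫ snd = pullback.snd f g := sq0.isoIsPullback_hom_snd _ _ sq
  rw [← e2, comp_base_eq]
  refine isOpenAt_comp _ _ _ (isOpenAt_of_isIso _ _) (hP _ ?_)
  rw [← hx']
  exact congrArg (fun k : pullback f g ⟶ X => k.base x') e1

theorem exists_preimage_of_isPullback {P X Y Z : Scheme.{u}} {fst : P ⟶ X} {snd : P ⟶ Y}
    {f : X ⟶ Z} {g : Y ⟶ Z} (sq : IsPullback fst snd f g) (x : X) (y : Y)
    (h : f.base x = g.base y) : ∃ z : P, fst.base z = x ∧ snd.base z = y := by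
  obtain ⟨z, hz1, hz2⟩ := Scheme.Pullback.exists_preimage_pullback x y h
  refine ⟨sq.isoPullback.inv.base z, ?_, ?_⟩
  · rw [← hz1]
    exact congrArg (fun k => k.base z) sq.isoPullback_inv_fst
  · rw [← hz2]
    exact congrArg (fun k => k.base z) sq.isoPullback_inv_snd

theorem isOpenAt_of_closed_surjective {X Y X₁ Y₁ : Scheme.{u}} {p : X₁ ⟶ X} {f₁ : X₁ ⟶ Y₁}
    {f : X ⟶ Y} {v : Y₁ ⟶ Y} (sq : IsPullback p f₁ f v) (hv : IsClosedMap v.base)
    (hvs : Function.Surjective v.base) (x : X)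
    (h : ∀ x₁ : X₁, p.base x₁ = x → IsOpenAt f₁.base x₁) : IsOpenAt f.base x := by
  intro U hU
  have himg : f₁.base '' (p.base ⁻¹' U) = v.base ⁻¹' (f.base '' U) := by
    ext y₁
    constructor
    · rintro ⟨x₁, hx₁, rfl⟩
      exact ⟨p.base x₁, hx₁, congrArg (fun k => k.base x₁) sq.w⟩
    · rintro ⟨u, hu, huy⟩
      obtain ⟨z, hz1, hz2⟩ := exists_preimage_of_isPullback sq u y₁ huy
      exact ⟨z, by rw [Set.mem_preimage, hz1]; exact hu, hz2⟩
  have hfib : v.base ⁻¹' {f.base x} ⊆ interior (v.base ⁻¹' (f.base '' U)) := by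
    intro y₁ hy₁
    obtain ⟨x₁, hx₁, hx₁'⟩ := exists_preimage_of_isPullback sq x y₁ hy₁.symm
    have := h x₁ hx₁ (p.base ⁻¹' U) (p.continuous.continuousAt (by rw [hx₁]; exact hU))
    rw [himg, hx₁'] at this
    exact mem_interior_iff_mem_nhds.2 this
  have hcl : IsClosed (v.base '' (interior (v.base ⁻¹' (f.base '' U)))ᶜ) :=
    hv _ isOpen_interior.isClosed_compl
  refine Filter.mem_of_superset (hcl.isOpen_compl.mem_nhds ?_) ?_
  · rintro ⟨y₁, hy₁, hy₁x⟩
    exact hy₁ (hfib hy₁x)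
  · intro z hz
    obtain ⟨z₁, rfl⟩ := hvs z
    by_contra hcon
    refine hz ⟨z₁, fun hint => hcon ?_, rfl⟩
    have : z₁ ∈ v.base ⁻¹' (f.base '' U) := interior_subset hint
    exact this

end Groth.Agent.Lib.Helper14.UOA
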