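import Groth.Agent.Lib.Helper14.SchImg4
import Groth.Agent.Lib.Helper14.UnivOpenAt

/-!
# Flat base change for scheme theoretic images (helper14)
-/

universe u
open CategoryTheory CategoryTheory.Limits AlgebraicGeometry Opposite Topology

namespace Groth.Agent.Lib.Helper14.AS

open AlgSp Groth.Agent.Lib.Helper14.AS

variable {S : Scheme.{u}}

set_option backward.isDefEq.respectTransparency.types false in
/-- Around a point of a scheme mapping to `X`, an etale chart of `X` lying over an affine etale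
chart of `Y`. -/
theorem exists_double_chart_at {X Y : Sp S} (hX : IsAlgSpace X) (hY : IsAlgSpace Y) (f : X ⟶ Y)
    {T : Over S} (g₀ : (yon S).obj T ⟶ X) (y : T.left) :
    ∃ (W X₂ Y₁ : Over S) (_ : IsAffine Y₁.left) (w : W ⟶ T) (t : W ⟶ X₂)
      (a₂ : (yon S).obj X₂ ⟶ X) (s : X₂ ⟶ Y₁) (b₁ : (yon S).obj Y₁ ⟶ Y),
      RepWith @Etale a₂ ∧ RepWith @Etale b₁ ∧ Etale w.left ∧ y ∈ Set.range w.left ∧
        (yon S).map w ≫ g₀ = (yon S).map t ≫ a₂ ∧ a₂ ≫ f = (yon S).map s ≫ b₁ := by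
  obtain ⟨W₁, X₁, hX₁, w₁, t₁, a₁, ha₁, hw₁e, ⟨y₁, hy₁⟩, hc₁⟩ := exists_affine_chart_at hX g₀ y
  obtain ⟨W₂, Y₁, hY₁, w₂, s, b₁, hb₁, hw₂e, ⟨y₂, hy₂⟩, hc₂⟩ :=
    exists_affine_chart_at hY (a₁ ≫ f) (t₁.left y₁)
  have sq := (IsPullback.of_hasPullback t₁ w₂).map (Over.forget S)
  have he : Etale (pullback.fst t₁ w₂).left :=
    MorphismProperty.of_isPullback (P := @Etale) sq.flip hw₂e
  obtain ⟨y', hy'1, hy'2⟩ :=
    Groth.Agent.Lib.Helper14.UOA.exists_preimage_of_isPullback sq y₁ y₂ hy₂.symm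
  refine ⟨pullback t₁ w₂, W₂, Y₁, hY₁, pullback.fst t₁ w₂ ≫ w₁, pullback.snd t₁ w₂,
    (yon S).map w₂ ≫ a₁, s, b₁, repWith_comp _ ((repWith_yon_map_iff _ _).2 hw₂e) ha₁, hb₁,
    ?_, ⟨y', ?_⟩, ?_, ?_⟩
  · change Etale ((pullback.fst t₁ w₂).left ≫ w₁.left)
    infer_instance
  · rw [Over.comp_left, Scheme.Hom.comp_apply]
    change w₁.left ((pullback.fst t₁ w₂).left y') = y
    erw [hy'1]
    exact hy₁
  · rw [Functor.map_comp, Category.assoc, hc₁, ← Functor.map_comp_assoc, pullback.condition,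
      Functor.map_comp_assoc]
  · rw [Category.assoc, hc₂]

/-- Forming the scheme theoretic image of a quasi-compact morphism commutes with flat base
change. -/
theorem isSchImage_flat_baseChange {X Y V Z VX ZX : Sp S} (hX : IsAlgSpace X) (hY : IsAlgSpace Y)
    {f : X ⟶ Y} (hf : LocP @Flat f) {g : V ⟶ Y} (hg : IsQuasiCompactMor g) {i : Z ⟶ Y}
    (hZ : IsSchImage g i) {g₁ : VX ⟶ V} {gX : VX ⟶ X} (sqV : IsPullback g₁ gX g f)
    {i₁ : ZX ⟶ Z} {iX : ZX ⟶ X} (sqZ : IsPullback i₁ iX i f) : IsSchImage gX iX := by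
  obtain ⟨g', hg'⟩ := hZ.2.1
  refine ⟨repWith_of_isPullback _ sqZ hZ.1, ⟨sqZ.lift (g₁ ≫ g') gX (by
    rw [Category.assoc, hg', sqV.w]), sqZ.lift_snd _ _ _⟩, ?_⟩
  intro Z'' i'' _ hi'' hf''
  have : Mono i'' := mono_of_repWith_isClosedImmersion hi''
  apply exists_lift_of_points i'' iX
  intro T z
  refine exists_lift_of_pointwise i'' _ fun y => ?_
  obtain ⟨W, X₂, Y₁, hY₁, w, t, a₂, s, b₁, ha₂, hb₁, hwe, hyw, hc1, hc2⟩ :=
    exists_double_chart_at hX hY f (z ≫ iX) y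
  have hs : Flat s.left := hf a₂ b₁ s ha₂ hb₁ hc2
  refine ⟨W, w, inferInstance, inferInstance, hyw, ?_⟩
  rw [hc1]
  apply factors_of_imgKer_le gX i'' hi'' hf''
  obtain ⟨c, hc⟩ := exists_imgChart_of_qc hg b₁
  rw [imgKer_baseChange_eq sqV, hc2, c.imgKer_le_iff_of_flat s t,
    ← isSchImage_factors_iff hY hg i hZ b₁ hb₁ (t ≫ s)]
  refine ⟨(yon S).map w ≫ z ≫ i₁, ?_⟩
  rw [Category.assoc, Category.assoc, sqZ.w, ← Category.assoc z, ← Category.assoc, hc1,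
    Category.assoc, hc2, Functor.map_comp, Category.assoc]

end Groth.Agent.Lib.Helper14.AS
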