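import Groth.Agent.Lib.Helper14.SchImg8
import Groth.Agent.Lib.Helper14.FpqcBase4

/-!
# The scheme theoretic image of a section over a quasi-compact open (helper14)
-/

universe u
open CategoryTheory CategoryTheory.Limits AlgebraicGeometry Opposite Topology

namespace Groth.Agent.Lib.Helper14.AS

open AlgSp Groth.Agent.Lib.Helper14.AS

variable {S : Scheme.{u}}

set_option backward.isDefEq.respectTransparency.types false in
theorem isIso_snd_of_section {X Y V Y' P : Sp S} (hX : IsAlgSpace X) (hY : IsAlgSpace Y)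
    (hV : IsAlgSpace V) (f : X ⟶ Y) (s : V ⟶ X)
    (hj : RepWith @IsOpenImmersion (s ≫ f)) (hjq : IsQuasiCompactMor (s ≫ f))
    (hf : IsSeparatedMor f) (c : Y' ⟶ X) (hc : IsSchImage s c) (fst : P ⟶ Y') (snd : P ⟶ V)
    (sq : IsPullback fst snd (c ≫ f) (s ≫ f)) : IsIso snd := by
  have sqXV := IsPullback.of_hasPullback (s ≫ f) f
  have hXV : IsAlgSpace (pullback (s ≫ f) f) :=
    isAlgSpace_of_isPullback (repDiag_of_isAlgSpace hY) hV hX sqXV
  have hjX : RepWith @IsOpenImmersion (pullback.snd (s ≫ f) f) := repWith_of_isPullback _ sqXV hj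
  have hjXq : IsQuasiCompactMor (pullback.snd (s ≫ f) f) := isQuasiCompactMor_of_isPullback sqXV hjq
  have hsV : RepWith @IsClosedImmersion
      (pullback.lift (𝟙 V) s (by simp) : V ⟶ pullback (s ≫ f) f) :=
    MorphismProperty.of_isPullback (P := RepWith @IsClosedImmersion) (isPullback_graph s f).flip hf
  have e1 : (pullback.lift (𝟙 V) s (by simp) : V ⟶ pullback (s ≫ f) f) ≫
      pullback.snd (s ≫ f) f = s := pullback.lift_snd _ _ _
  have e2 : (pullback.lift (𝟙 V) s (by simp) : V ⟶ pullback (s ≫ f) f) ≫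
      pullback.fst (s ≫ f) f = 𝟙 V := pullback.lift_fst _ _ _
  have hsq : IsQuasiCompactMor s := by
    have := isQuasiCompactMor_comp hXV (repDiag_of_isAlgSpace hX)
      (isQuasiCompactMor_of_repWith_isClosedImmersion hsV) hjXq
    rwa [e1] at this
  have hmono : Mono (pullback.snd (s ≫ f) f) :=
    mono_of_repWith_mono (repWith_mono isOpenImmersion_le_mono hjX)
  have sqS : IsPullback (𝟙 V) (pullback.lift (𝟙 V) s (by simp) : V ⟶ pullback (s ≫ f) f) s
      (pullback.snd (s ≫ f) f) := isPullback_id_of_mono e1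
  have sqZ := IsPullback.of_hasPullback c (pullback.snd (s ≫ f) f)
  have hZV := isSchImage_etale_baseChange hX hXV hsq hc
    (isEtaleMor_of_repWith_etale (repWith_mono isOpenImmersion_le_etale hjX)) sqS sqZ
  obtain ⟨k, hk⟩ := hZV.2.2 _ hV hsV ⟨𝟙 V, Category.id_comp _⟩
  -- the comparison maps
  let ξ : P ⟶ pullback (s ≫ f) f := sqXV.lift snd (fst ≫ c) (by rw [Category.assoc, sq.w])
  have hξ1 : ξ ≫ pullback.fst (s ≫ f) f = snd := sqXV.lift_fst _ _ _
  have hξ2 : ξ ≫ pullback.snd (s ≫ f) f = fst ≫ c := sqXV.lift_snd _ _ _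
  let ρ : P ⟶ pullback c (pullback.snd (s ≫ f) f) := sqZ.lift fst ξ hξ2.symm
  have hρ : ρ ≫ pullback.snd c (pullback.snd (s ≫ f) f) = ξ := sqZ.lift_snd _ _ _
  have hξ : ξ = ρ ≫ k ≫ pullback.lift (𝟙 V) s (by simp) := by rw [hk, hρ]
  have h1 : ρ ≫ k = snd := by
    rw [← hξ1, hξ, Category.assoc, Category.assoc, e2, Category.comp_id]
  have h2 : snd ≫ s = fst ≫ c := by
    rw [← hξ2, hξ, Category.assoc, Category.assoc, e1, ← Category.assoc, h1]
  obtain ⟨s'', hs''⟩ := hc.2.1
  have : Mono c := mono_of_repWith_isClosedImmersion hc.1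
  refine ⟨sq.lift s'' (𝟙 V) (by rw [← Category.assoc, hs'', Category.id_comp]), ?_, ?_⟩
  · apply sq.hom_ext
    · rw [Category.assoc, sq.lift_fst, Category.id_comp, ← cancel_mono c, Category.assoc, hs'', h2]
    · rw [Category.assoc, sq.lift_snd, Category.id_comp, Category.comp_id]
  · exact sq.lift_snd _ _ _

end Groth.Agent.Lib.Helper14.AS
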