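import Mathlib

universe u

open CategoryTheory Limits AlgebraicGeometry Opposite

namespace Groth.Agent.Lib.Helper14.AS

/-- A morphism from an affine scheme to a fibre product of affine schemes is a closed immersion
as soon as the tensor product of the coordinate rings surjects onto its coordinate ring. -/
theorem isClosedImmersion_lift_of_surjective_productMap {P U V S : Scheme.{u}} [IsAffine P]
    [IsAffine U] [IsAffine V] (f : P ⟶ U) (g : P ⟶ V) (p : U ⟶ S) (q : V ⟶ S)
    (w : f ≫ p = g ≫ q)
    (hs : Function.Surjective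
      (Algebra.TensorProduct.productMap f.appTop.hom.toIntAlgHom g.appTop.hom.toIntAlgHom)) :
    IsClosedImmersion (pullback.lift f g w) := by
  let n : P ⟶ pullback (terminal.from U) (terminal.from V) :=
    pullback.lift f g (terminal.hom_ext _ _)
  have hn : IsClosedImmersion n := by
    apply IsClosedImmersion.of_surjective_of_isAffine
    intro c
    obtain ⟨z, rfl⟩ := hs c
    induction z using TensorProduct.induction_on with
    | zero => exact ⟨0, by simp⟩
    | tmul a b =>
      refine ⟨(pullback.fst (terminal.from U) (terminal.from V)).appTop.hom a *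
        (pullback.snd (terminal.from U) (terminal.from V)).appTop.hom b, ?_⟩
      have h1 : n ≫ pullback.fst _ _ = f := pullback.lift_fst _ _ _
      have h2 : n ≫ pullback.snd _ _ = g := pullback.lift_snd _ _ _
      have e1 : n.appTop.hom ((pullback.fst (terminal.from U) (terminal.from V)).appTop.hom a) =
          f.appTop.hom a := by
        have h := congrArg (fun k => (Scheme.Hom.appTop k).hom a) h1
        simp only [Scheme.Hom.comp_appTop] at h
        exact h
      have e2 : n.appTop.hom ((pullback.snd (terminal.from U) (terminal.from V)).appTop.hom b) =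
          g.appTop.hom b := by
        have h := congrArg (fun k => (Scheme.Hom.appTop k).hom b) h2
        simp only [Scheme.Hom.comp_appTop] at h
        exact h
      rw [map_mul, e1, e2]
      simp
    | add x y hx hy =>
      obtain ⟨x', hx'⟩ := hx
      obtain ⟨y', hy'⟩ := hy
      exact ⟨x' + y', by rw [map_add, map_add, hx', hy']⟩
  let j : pullback p q ⟶ pullback (terminal.from U) (terminal.from V) :=
    pullback.lift (pullback.fst p q) (pullback.snd p q) (terminal.hom_ext _ _)
  have hj : Mono j := by
    constructor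
    intro Z a b hab
    apply pullback.hom_ext
    · have := congrArg (fun k => k ≫ pullback.fst _ _) hab
      rw [Category.assoc, Category.assoc, pullback.lift_fst] at this
      exact this
    · have := congrArg (fun k => k ≫ pullback.snd _ _) hab
      rw [Category.assoc, Category.assoc, pullback.lift_snd] at this
      exact this
  have e : pullback.lift f g w ≫ j = n := by
    apply pullback.hom_ext
    · rw [Category.assoc, pullback.lift_fst, pullback.lift_fst, pullback.lift_fst]
    · rw [Category.assoc, pullback.lift_snd, pullback.lift_snd, pullback.lift_snd]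
  have : IsClosedImmersion (pullback.lift f g w ≫ j) := by rw [e]; exact hn
  exact IsClosedImmersion.of_comp (pullback.lift f g w) j

end Groth.Agent.Lib.Helper14.AS

section SepAffNew


open AlgebraicGeometry CategoryTheory Limits

namespace Groth.Agent.Lib.Helper14.SepAff

universe v

theorem closure_eq_top_of_isPushout {R S T P : CommRingCat.{u}} {f : R ⟶ S} {g : R ⟶ T}
    {inl : S ⟶ P} {inr : T ⟶ P} (h : IsPushout f g inl inr) :
    Subring.closure (Set.range inl.hom ∪ Set.range inr.hom) = ⊤ := by
  set C := Subring.closure (Set.range inl.hom ∪ Set.range inr.hom) with hC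
  let a : S ⟶ CommRingCat.of C := CommRingCat.ofHom
    (inl.hom.codRestrict C (fun x => Subring.subset_closure (Or.inl ⟨x, rfl⟩)))
  let b : T ⟶ CommRingCat.of C := CommRingCat.ofHom
    (inr.hom.codRestrict C (fun x => Subring.subset_closure (Or.inr ⟨x, rfl⟩)))
  have hab : f ≫ a = g ≫ b := by
    ext x
    exact congr($(h.w).hom x)
  let d := h.desc a b hab
  let s : CommRingCat.of C ⟶ P := CommRingCat.ofHom C.subtype
  have hd : d ≫ s = 𝟙 P := by
    apply h.hom_ext
    · rw [h.inl_desc_assoc]; ext x; rfl
    · rw [h.inr_desc_assoc]; ext x; rfl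
  rw [eq_top_iff]
  intro x _
  have := congr($(hd).hom x)
  simp only [CommRingCat.hom_comp, CommRingCat.hom_id, RingHom.comp_apply, RingHom.id_apply] at this
  rw [← this]
  exact (d.hom x).2

theorem presheaf_map_comm {X : Scheme.{u}} {A B C D : X.Opensᵒᵖ} (a : A ⟶ B) (b : B ⟶ D)
    (c : A ⟶ C) (d : C ⟶ D) :
    X.presheaf.map a ≫ X.presheaf.map b = X.presheaf.map c ≫ X.presheaf.map d := by
  rw [← Functor.map_comp, ← Functor.map_comp]
  congr 1

theorem range_eq_closure {A B P C : Type*} [CommRing A] [CommRing B] [CommRing P] [CommRing C]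
    (p1 : A →+* P) (p2 : B →+* P)
    (hgen : Subring.closure (Set.range p1 ∪ Set.range p2) = ⊤) (M : P →+* C) :
    M.range = Subring.closure (Set.range (M.comp p1) ∪ Set.range (M.comp p2)) := by
  rw [RingHom.range_eq_map, ← hgen, RingHom.map_closure, Set.image_union, ← Set.range_comp,
    ← Set.range_comp]
  rfl

theorem affineAnd_mapDesc_iff {X Y : Scheme.{u}} [IsAffine Y] (f : X ⟶ Y) (U V : X.Opens)
    (hU : IsAffineOpen U) (hV : IsAffineOpen V) :
    (IsAffine (pullback U.ι V.ι) ∧
      Function.Surjective (pullback.mapDesc U.ι V.ι f).appTop) ↔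
    IsAffineOpen (U ⊓ V) ∧ Subring.closure
      (Set.range (X.presheaf.map (homOfLE (inf_le_left : U ⊓ V ≤ U)).op).hom ∪
       Set.range (X.presheaf.map (homOfLE (inf_le_right : U ⊓ V ≤ V)).op).hom) = ⊤ := by
  have : IsAffine U.toScheme := hU
  have : IsAffine V.toScheme := hV
  have hpb := isPullback_opens_inf U V
  let e := hpb.isoPullback
  let m : (U ⊓ V).toScheme ⟶ pullback (U.ι ≫ f) (V.ι ≫ f) :=
    e.hom ≫ pullback.mapDesc U.ι V.ι f
  have hm1 : m ≫ pullback.fst _ _ = X.homOfLE inf_le_left := by
    simp only [m, e, pullback.mapDesc, pullback.map, Category.assoc, pullback.lift_fst,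
      Category.comp_id]
    exact hpb.isoPullback_hom_fst
  have hm2 : m ≫ pullback.snd _ _ = X.homOfLE inf_le_right := by
    simp only [m, e, pullback.mapDesc, pullback.map, Category.assoc, pullback.lift_snd,
      Category.comp_id]
    exact hpb.isoPullback_hom_snd
  have hPO := isPushout_appTop_of_isPullback (IsPullback.of_hasPullback (U.ι ≫ f) (V.ι ≫ f))
  have hgen := closure_eq_top_of_isPushout hPO
  have haff : IsAffine (pullback U.ι V.ι) ↔ IsAffineOpen (U ⊓ V) := by
    constructor
    · intro h; exact .of_isIso e.hom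
    · intro h
      have : IsAffine (U ⊓ V).toScheme := h
      exact .of_isIso e.inv
  let M : Γ(pullback (U.ι ≫ f) (V.ι ≫ f), ⊤) ⟶ Γ(X, U ⊓ V) := m.appTop ≫ (U ⊓ V).topIso.hom
  have hsurj : Function.Surjective (pullback.mapDesc U.ι V.ι f).appTop ↔
      Function.Surjective M.hom := by
    have hi : IsIso e.hom.appTop := by
      change IsIso (e.hom.app ⊤)
      infer_instance
    have hb : Function.Bijective (e.hom.appTop ≫ (U ⊓ V).topIso.hom) :=
      ConcreteCategory.bijective_of_isIso _
    have : M = (pullback.mapDesc U.ι V.ι f).appTop ≫ (e.hom.appTop ≫ (U ⊓ V).topIso.hom) := by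
      simp only [M, m, Scheme.Hom.comp_appTop, Category.assoc]
    rw [this]
    exact (Function.Surjective.of_comp_iff' hb _).symm
  have hM1 : (pullback.fst (U.ι ≫ f) (V.ι ≫ f)).appTop ≫ M =
      U.topIso.hom ≫ X.presheaf.map (homOfLE (inf_le_left : U ⊓ V ≤ U)).op := by
    simp only [M]
    rw [← Category.assoc, ← Scheme.Hom.comp_appTop, hm1, Scheme.homOfLE_appTop]
    simp only [Scheme.Opens.topIso_hom]
    exact presheaf_map_comm _ _ _ _
  have hM2 : (pullback.snd (U.ι ≫ f) (V.ι ≫ f)).appTop ≫ M =
      V.topIso.hom ≫ X.presheaf.map (homOfLE (inf_le_right : U ⊓ V ≤ V)).op := by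
    simp only [M]
    rw [← Category.assoc, ← Scheme.Hom.comp_appTop, hm2, Scheme.homOfLE_appTop]
    simp only [Scheme.Opens.topIso_hom]
    exact presheaf_map_comm _ _ _ _
  have hrange := range_eq_closure _ _ hgen M.hom
  rw [haff, hsurj, ← RingHom.range_eq_top, hrange]
  have h1 : Set.range (M.hom.comp (pullback.fst (U.ι ≫ f) (V.ι ≫ f)).appTop.hom) =
      Set.range (X.presheaf.map (homOfLE (inf_le_left : U ⊓ V ≤ U)).op).hom := by
    rw [← CommRingCat.hom_comp, hM1, CommRingCat.hom_comp, RingHom.coe_comp]
    exact Function.Surjective.range_comp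
      (ConcreteCategory.bijective_of_isIso U.topIso.hom).2 _
  have h2 : Set.range (M.hom.comp (pullback.snd (U.ι ≫ f) (V.ι ≫ f)).appTop.hom) =
      Set.range (X.presheaf.map (homOfLE (inf_le_right : U ⊓ V ≤ V)).op).hom := by
    rw [← CommRingCat.hom_comp, hM2, CommRingCat.hom_comp, RingHom.coe_comp]
    exact Function.Surjective.range_comp
      (ConcreteCategory.bijective_of_isIso V.topIso.hom).2 _
  rw [h1, h2]

theorem isSeparated_iff_of_affine_cover
    {X Y : Scheme.{u}} [IsAffine Y] (f : X ⟶ Y) {ι : Type v} (U : ι → X.Opens)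
    (hU : ∀ i, IsAffineOpen (U i)) (hcov : ⨆ i, U i = ⊤) :
    IsSeparated f ↔ ∀ i j, IsAffineOpen (U i ⊓ U j) ∧
      Subring.closure (Set.range (X.presheaf.map (homOfLE (inf_le_left : U i ⊓ U j ≤ U i)).op).hom ∪
        Set.range (X.presheaf.map (homOfLE (inf_le_right : U i ⊓ U j ≤ U j)).op).hom) = ⊤ := by
  let Q : AffineTargetMorphismProperty :=
    fun X _ f _ ↦ IsAffine X ∧ Function.Surjective (f.appTop)
  have hQ : HasAffineProperty @IsClosedImmersion Q := IsClosedImmersion.hasAffineProperty
  have hloc : Q.IsLocal := HasAffineProperty.isLocal_affineProperty @IsClosedImmersion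
  rw [isSeparated_iff]
  change MorphismProperty.diagonal @IsClosedImmersion f ↔ _
  rw [← HasAffineProperty.diagonal_iff @IsClosedImmersion (Q := Q)]
  constructor
  · intro h i j
    have : IsAffine (U i).toScheme := hU i
    have : IsAffine (U j).toScheme := hU j
    exact (affineAnd_mapDesc_iff f (U i) (U j) (hU i) (hU j)).mp (h (U i).ι (U j).ι)
  · intro h
    let 𝒰 := X.openCoverOfIsOpenCover U hcov
    have : ∀ i, IsAffine (𝒰.X i) := hU
    refine AffineTargetMorphismProperty.diagonal_of_openCover_source f 𝒰 ?_
    intro i j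
    exact (affineAnd_mapDesc_iff f (U i) (U j) (hU i) (hU j)).mpr (h i j)

end Groth.Agent.Lib.Helper14.SepAff

end SepAffNew
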