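import Groth.Agent.Lib.Helper14.SepAff1
import Groth.Agent.Lib.Helper14.SchImg2
import Groth.Agent.Lib.Helper14.FppfLocalInst2
import Groth.Agent.Lib.Helper24.RepLocal

universe u

open CategoryTheory Limits AlgebraicGeometry Opposite

namespace Groth.Agent.Lib.Helper14.AS

open AlgSp

variable {S : Scheme.{u}}

set_option backward.isDefEq.respectTransparency.types false in
theorem isSeparatedSp_of_affine_pullback {X : Sp S} (hX : IsAlgSpace X)
    (h : ∀ (U V P : Over S) (a : (yon S).obj U ⟶ X) (b : (yon S).obj V ⟶ X)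
      (fst : P ⟶ U) (snd : P ⟶ V),
      IsAffine U.left → IsAffine V.left →
      IsPullback ((yon S).map fst) ((yon S).map snd) a b →
        IsAffine P.left ∧ Function.Surjective
          (Algebra.TensorProduct.productMap fst.left.appTop.hom.toIntAlgHom
            snd.left.appTop.hom.toIntAlgHom)) :
    IsSeparatedSp X := by
  refine Groth.Agent.Lib.Helper24.RepLocal.repWith_of_locally @IsClosedImmersion
    (fun X Y f hf => ⟨inferInstance, inferInstance, inferInstance⟩) _ ?_
  intro T g₀ x
  obtain ⟨W₁, Va, hVa, w₁, ta, βa, hβa, hw₁e, ⟨x₁, hx₁⟩, hca⟩ :=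
    exists_affine_chart_at hX (g₀ ≫ prod.fst) x
  obtain ⟨W, Vb, hVb, w₂, tb, βb, hβb, hw₂e, ⟨x₂, hx₂⟩, hcb⟩ :=
    exists_affine_chart_at hX ((yon S).map w₁ ≫ g₀ ≫ prod.snd) x₁
  let w : W ⟶ T := w₂ ≫ w₁
  let sa : W ⟶ Va := w₂ ≫ ta
  have hwa : (yon S).map w ≫ g₀ ≫ prod.fst = (yon S).map sa ≫ βa := by
    rw [Functor.map_comp, Category.assoc, hca, ← Category.assoc, ← Functor.map_comp]
  have hwb : (yon S).map w ≫ g₀ ≫ prod.snd = (yon S).map tb ≫ βb := by
    rw [Functor.map_comp, Category.assoc, hcb]
  have hr : Representable βa := hX.representable_from_yon βa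
  let pa : hr.pullback βb ⟶ Va := hr.fst' βb
  let pb : hr.pullback βb ⟶ Vb := hr.snd βb
  have sqP : IsPullback ((yon S).map pa) ((yon S).map pb) βa βb := hr.isPullback' βb
  obtain ⟨hPaff, hsurj⟩ := h Va Vb _ βa βb pa pb hVa hVb sqP
  let m : (hr.pullback βb).left ⟶ pullback Va.hom Vb.hom :=
    pullback.lift pa.left pb.left (by rw [Over.w, Over.w])
  have hm : IsClosedImmersion m :=
    isClosedImmersion_lift_of_surjective_productMap pa.left pb.left Va.hom Vb.hom _ hsurj
  let τ : W.left ⟶ pullback Va.hom Vb.hom :=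
    pullback.lift sa.left tb.left (by rw [Over.w, Over.w])
  let r₀ : pullback τ m ⟶ W.left := pullback.fst τ m
  let ρ₀ : pullback τ m ⟶ (hr.pullback βb).left := pullback.snd τ m
  have hρa : ρ₀ ≫ pa.left = r₀ ≫ sa.left := by
    have := congrArg (fun k => k ≫ pullback.fst _ _) (pullback.condition (f := τ) (g := m))
    simp only [Category.assoc] at this
    rw [pullback.lift_fst, pullback.lift_fst] at this
    exact this.symm
  have hρb : ρ₀ ≫ pb.left = r₀ ≫ tb.left := by
    have := congrArg (fun k => k ≫ pullback.snd _ _) (pullback.condition (f := τ) (g := m))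
    simp only [Category.assoc] at this
    rw [pullback.lift_snd, pullback.lift_snd] at this
    exact this.symm
  let V : Over S := Over.mk (r₀ ≫ W.hom)
  let r : V ⟶ W := Over.homMk r₀ rfl
  let ρ : V ⟶ hr.pullback βb := Over.homMk ρ₀ (by
    change ρ₀ ≫ (hr.pullback βb).hom = r₀ ≫ W.hom
    rw [← Over.w pa, ← Category.assoc, hρa, Category.assoc, Over.w])
  have hρa' : ρ ≫ pa = r ≫ sa := by
    apply Over.OverMorphism.ext
    exact hρa
  have hρb' : ρ ≫ pb = r ≫ tb := by
    apply Over.OverMorphism.ext
    exact hρb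
  have hrc : IsClosedImmersion r.left := inferInstanceAs (IsClosedImmersion (pullback.fst τ m))
  have hrmono : Mono r := by
    constructor
    intro Z a b hab
    apply Over.OverMorphism.ext
    have h1 := congrArg (fun k => k.left) hab
    simp only [Over.comp_left] at h1
    exact (cancel_mono r.left).1 h1
  let fstV : (yon S).obj V ⟶ X := (yon S).map (ρ ≫ pa) ≫ βa
  have e1 : fstV = (yon S).map r ≫ (yon S).map w ≫ g₀ ≫ prod.fst := by
    change (yon S).map (ρ ≫ pa) ≫ βa = _
    rw [hwa, hρa', Functor.map_comp, Category.assoc]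
  have e2 : fstV = (yon S).map r ≫ (yon S).map w ≫ g₀ ≫ prod.snd := by
    change (yon S).map (ρ ≫ pa) ≫ βa = _
    rw [hwb, Functor.map_comp, Category.assoc, sqP.w, ← Category.assoc, ← Functor.map_comp, hρb',
      Functor.map_comp, Category.assoc]
  have sq : IsPullback fstV ((yon S).map r) (Limits.diag X) ((yon S).map w ≫ g₀) := by
    rw [isPullback_iff_yon]
    refine ⟨?_, ?_⟩
    · rw [prod.comp_diag]
      apply Limits.prod.hom_ext
      · rw [prod.lift_fst, Category.assoc, Category.assoc]
        exact e1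
      · rw [prod.lift_snd, Category.assoc, Category.assoc]
        exact e2
    · intro Z x' y' hxy
      obtain ⟨y, rfl⟩ := (yon S).map_surjective y'
      rw [prod.comp_diag] at hxy
      have hx1 : x' = (yon S).map (y ≫ sa) ≫ βa := by
        have := congrArg (fun k => k ≫ prod.fst) hxy
        simp only [prod.lift_fst, Category.assoc] at this
        rw [this, hwa]
        exact (Functor.map_comp_assoc (yon S) y sa βa).symm
      have hx2 : x' = (yon S).map (y ≫ tb) ≫ βb := by
        have := congrArg (fun k => k ≫ prod.snd) hxy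
        simp only [prod.lift_snd, Category.assoc] at this
        rw [this, hwb]
        exact (Functor.map_comp_assoc (yon S) y tb βb).symm
      let pz : Z ⟶ hr.pullback βb := hr.lift' (y ≫ sa) (y ≫ tb) (hx1.symm.trans hx2)
      have hpz1 : pz ≫ pa = y ≫ sa := Functor.relativelyRepresentable.lift'_fst _ _ _ _
      have hpz2 : pz ≫ pb = y ≫ tb := Functor.relativelyRepresentable.lift'_snd _ _ _ _
      let z₀ : Z.left ⟶ pullback τ m := pullback.lift y.left pz.left (by
        apply pullback.hom_ext
        · rw [Category.assoc, Category.assoc, pullback.lift_fst, pullback.lift_fst,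
            ← Over.comp_left, ← Over.comp_left, hpz1]
        · rw [Category.assoc, Category.assoc, pullback.lift_snd, pullback.lift_snd,
            ← Over.comp_left, ← Over.comp_left, hpz2])
      have hz₀r : z₀ ≫ r₀ = y.left := pullback.lift_fst _ _ _
      have hz₀ρ : z₀ ≫ ρ₀ = pz.left := pullback.lift_snd _ _ _
      let z : Z ⟶ V := Over.homMk z₀ (by
        change z₀ ≫ r₀ ≫ W.hom = Z.hom
        rw [← Category.assoc, hz₀r, Over.w])
      have hzr : z ≫ r = y := by
        apply Over.OverMorphism.ext
        exact hz₀r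
      have hzρ : z ≫ ρ = pz := by
        apply Over.OverMorphism.ext
        exact hz₀ρ
      refine ⟨(yon S).map z, ⟨?_, ?_⟩, ?_⟩
      · change (yon S).map z ≫ (yon S).map (ρ ≫ pa) ≫ βa = x'
        rw [← Category.assoc, ← Functor.map_comp, ← Category.assoc, hzρ, hpz1]
        exact hx1.symm
      · rw [← Functor.map_comp, hzr]
      · rintro z' ⟨-, hz'⟩
        obtain ⟨z'', rfl⟩ := (yon S).map_surjective z'
        rw [← Functor.map_comp] at hz'
        have h3 : z'' ≫ r = y := (yon S).map_injective hz'
        have h4 : z'' = z := (cancel_mono r).1 (h3.trans hzr.symm)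
        rw [h4]
  have hwet : Etale w.left := by
    change Etale (w₂.left ≫ w₁.left)
    infer_instance
  refine ⟨W, V, w, r, fstV, sq, inferInstance, inferInstance, ?_, hrc⟩
  refine ⟨x₂, ?_⟩
  change (w₂.left ≫ w₁.left) x₂ = x
  rw [Scheme.Hom.comp_apply, hx₂, hx₁]

end Groth.Agent.Lib.Helper14.AS
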