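import Groth.Agent.Lib.Helper14.SepVal1

open CategoryTheory CategoryTheory.Limits AlgebraicGeometry Opposite AlgSp
open CategoryTheory.Functor Groth.Agent.Lib.Helper14.AS

universe u

noncomputable section

namespace Groth.Agent.Lib.Helper14.AS

variable {S : Scheme.{u}}

set_option backward.isDefEq.respectTransparency.types false in
/-- The fibre over a point `ξ : h_{Z} ⟶ W` of an affine chart of the source of a separated morphism
to an affine scheme is affine, when `Z` is affine. -/
theorem isAffine_fibre_of_isSeparatedMor {W : Sp S} {ptA ptK : Over S} [IsAffine ptA.left]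
    [IsAffine ptK.left] (j : ptK ⟶ ptA)
    (g : W ⟶ (yon S).obj ptA) (hsep : IsSeparatedMor g) (ξ : (yon S).obj ptK ⟶ W)
    (hξ : ξ ≫ g = (yon S).map j) {U : Over S} [IsAffine U.left] (a : (yon S).obj U ⟶ W)
    (γ : U ⟶ ptA) (hγ : (yon S).map γ = a ≫ g) {P : Over S} (qP : P ⟶ U) (pK : P ⟶ ptK)
    (sqPP : IsPullback ((yon S).map qP) ((yon S).map pK) a ξ) : IsAffine P.left := by
  have hqPγ : qP ≫ γ = pK ≫ j := by
    apply (yon S).map_injective
    rw [Functor.map_comp, Functor.map_comp, hγ, ← Category.assoc, sqPP.w, Category.assoc, hξ]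
  have sqB0 := (IsPullback.of_hasPullback γ j).map (yon S)
  have sqB : IsPullback ((yon S).map (pullback.fst γ j)) ((yon S).map (pullback.snd γ j))
      (a ≫ g) (ξ ≫ g) := by
    rw [← hγ, hξ]; exact sqB0
  let c : P ⟶ pullback γ j := pullback.lift qP pK hqPγ
  have hc : IsClosedImmersion c.left :=
    isClosedImmersion_of_isSeparatedMor g hsep sqPP sqB c (pullback.lift_fst _ _ _)
      (pullback.lift_snd _ _ _)
  have sqL : IsPullback (pullback.fst γ j).left (pullback.snd γ j).left γ.left j.left :=
    (IsPullback.of_hasPullback γ j).map (Over.forget S)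
  have hB : IsAffine (pullback γ j).left := .of_isIso sqL.isoPullback.hom
  exact isAffine_of_isAffineHom c.left

end Groth.Agent.Lib.Helper14.AS

namespace Groth.Agent.Lib.Helper14.AS

variable {S : Scheme.{u}}

section Core

variable {W : Sp S} {ptA ptK : Over S} (j : ptK ⟶ ptA) (g : W ⟶ (yon S).obj ptA)
  (ξ : (yon S).obj ptK ⟶ W)

/-- A morphism `t : h_T ⟶ W` over `τ : T ⟶ ptA` whose restriction to the generic fibre
`T ×_{ptA} ptK` factors through `ξ`. -/
def Good {T : Over S} (τ : T ⟶ ptA) (t : (yon S).obj T ⟶ W) : Prop :=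
  t ≫ g = (yon S).map τ ∧
    (yon S).map (pullback.fst τ j) ≫ t = (yon S).map (pullback.snd τ j) ≫ ξ

variable {j g ξ}

theorem Good.restrict {T T' : Over S} {τ : T ⟶ ptA} {t : (yon S).obj T ⟶ W} (h : Good j g ξ τ t)
    (r : T' ⟶ T) : Good j g ξ (r ≫ τ) ((yon S).map r ≫ t) := by
  refine ⟨by rw [Category.assoc, h.1, Functor.map_comp], ?_⟩
  let ρ : pullback (r ≫ τ) j ⟶ pullback τ j :=
    pullback.lift (pullback.fst (r ≫ τ) j ≫ r) (pullback.snd (r ≫ τ) j)
      (by rw [Category.assoc, pullback.condition])
  have h1 : ρ ≫ pullback.fst τ j = pullback.fst (r ≫ τ) j ≫ r := pullback.lift_fst _ _ _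
  have h2 : ρ ≫ pullback.snd τ j = pullback.snd (r ≫ τ) j := pullback.lift_snd _ _ _
  rw [← Category.assoc, ← Functor.map_comp, ← h1, Functor.map_comp, Category.assoc, h.2,
    ← Category.assoc, ← Functor.map_comp, h2]

set_option backward.isDefEq.respectTransparency.types false in
theorem isSchemeTheoreticallyDominant_fst {T : Over S} (τ : T ⟶ ptA)
    [IsSchemeTheoreticallyDominant j.left] [QuasiCompact j.left] [Flat τ.left] :
    IsSchemeTheoreticallyDominant (pullback.fst τ j).left := by
  have sqL : IsPullback (pullback.fst τ j).left (pullback.snd τ j).left τ.left j.left :=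
    (IsPullback.of_hasPullback τ j).map (Over.forget S)
  exact IsSchemeTheoreticallyDominant.of_isPullback sqL.flip

set_option backward.isDefEq.respectTransparency.types false in
/-- Over a flat `T`, a good morphism is unique. -/
theorem Good.ext (hsep : IsSeparatedMor g) [IsSchemeTheoreticallyDominant j.left]
    [QuasiCompact j.left] {T : Over S} {τ : T ⟶ ptA} [Flat τ.left]
    {t t' : (yon S).obj T ⟶ W} (h : Good j g ξ τ t) (h' : Good j g ξ τ t') : t = t' := by
  have := isSchemeTheoreticallyDominant_fst (j := j) τ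
  exact hom_ext_of_isSeparatedMor g hsep (pullback.fst τ j) t t' (by rw [h.1, h'.1])
    (by rw [h.2, h'.2])

end Core

end Groth.Agent.Lib.Helper14.AS

namespace Groth.Agent.Lib.Helper14.AS

variable {S : Scheme.{u}}

section Core2

variable {W : Sp S} {ptA ptK : Over S} {j : ptK ⟶ ptA} {g : W ⟶ (yon S).obj ptA}
  {ξ : (yon S).obj ptK ⟶ W}

set_option backward.isDefEq.respectTransparency.types false in
/-- The closure `V` of the generic fibre `P` of a chart: the restriction of the chart to `V` is
good. -/
theorem good_of_dominant (hsep : IsSeparatedMor g) [IsSchemeTheoreticallyDominant j.left]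
    [QuasiCompact j.left] [Flat j.left] [Mono j] (hξ : ξ ≫ g = (yon S).map j) {U : Over S}
    (a : (yon S).obj U ⟶ W) (γ : U ⟶ ptA) (hγ : (yon S).map γ = a ≫ g) {P : Over S} (qP : P ⟶ U)
    (pK : P ⟶ ptK) (hPP : (yon S).map qP ≫ a = (yon S).map pK ≫ ξ)
    {V : Over S} (ιV : V ⟶ U) (θ : P ⟶ V) (hθ : θ ≫ ιV = qP)
    [IsSchemeTheoreticallyDominant θ.left] [QuasiCompact θ.left] :
    Good j g ξ (ιV ≫ γ) ((yon S).map ιV ≫ a) := by
  have hqPγ : qP ≫ γ = pK ≫ j := by
    apply (yon S).map_injective
    rw [Functor.map_comp, Functor.map_comp, hγ, ← Category.assoc, hPP, Category.assoc, hξ]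
  refine ⟨by rw [Category.assoc, ← hγ, ← Functor.map_comp], ?_⟩
  let γV := ιV ≫ γ
  let fstK := pullback.fst γV j
  let sndK := pullback.snd γV j
  have sqL : IsPullback fstK.left sndK.left γV.left j.left :=
    (IsPullback.of_hasPullback γV j).map (Over.forget S)
  have hfl : Flat fstK.left := MorphismProperty.of_isPullback (P := @Flat) sqL.flip inferInstance
  let i₀ := pullback.snd θ.left fstK.left
  let T₀ : Over S := Over.mk (i₀ ≫ (pullback γV j).hom)
  let i : T₀ ⟶ pullback γV j := Over.homMk i₀ rfl
  have hdom : IsSchemeTheoreticallyDominant i.left :=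
    inferInstanceAs (IsSchemeTheoreticallyDominant (pullback.snd θ.left fstK.left))
  have hpr : pullback.fst θ.left fstK.left ≫ P.hom = T₀.hom := by
    change _ = i₀ ≫ (pullback γV j).hom
    rw [← Over.w θ, ← Over.w fstK, ← Category.assoc, ← Category.assoc, pullback.condition]
  let pr₁ : T₀ ⟶ P := Over.homMk (pullback.fst θ.left fstK.left) hpr
  have hcomm : pr₁ ≫ θ = i ≫ fstK := by
    apply Over.OverMorphism.ext
    exact pullback.condition
  have hK : pr₁ ≫ pK = i ≫ sndK := by
    rw [← cancel_mono j, Category.assoc, ← hqPγ, ← hθ, Category.assoc, ← Category.assoc pr₁,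
      hcomm, Category.assoc, Category.assoc]
    exact congrArg (i ≫ ·) (pullback.condition (f := γV) (g := j))
  refine hom_ext_of_isSeparatedMor g hsep i _ _ ?_ ?_
  · rw [Category.assoc, Category.assoc, ← hγ, ← Functor.map_comp, ← Functor.map_comp,
      Category.assoc, hξ, ← Functor.map_comp]
    exact congrArg (yon S).map (pullback.condition (f := γV) (g := j))
  · rw [← Category.assoc, ← Category.assoc, ← Functor.map_comp, ← Functor.map_comp,
      ← Category.assoc, ← hcomm, Category.assoc, hθ, Functor.map_comp, Category.assoc, hPP,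
      ← Category.assoc, ← Functor.map_comp, hK, Functor.map_comp]

set_option backward.isDefEq.respectTransparency.types false in
/-- A lift to the chart of a good morphism from a flat scheme factors through the closure `V` of
the generic fibre. -/
theorem exists_factor_of_good [IsSchemeTheoreticallyDominant j.left] [QuasiCompact j.left]
    {U : Over S} (a : (yon S).obj U ⟶ W) (γ : U ⟶ ptA) {P : Over S} (qP : P ⟶ U)
    (pK : P ⟶ ptK) (sqPP : IsPullback ((yon S).map qP) ((yon S).map pK) a ξ)
    {V : Over S} (ιV : V ⟶ U) [IsClosedImmersion ιV.left] (hker : ιV.left.ker = qP.left.ker)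
    {T : Over S} (t' : T ⟶ U) [Flat (t' ≫ γ).left]
    (h : Good j g ξ (t' ≫ γ) ((yon S).map t' ≫ a)) : ∃ t'' : T ⟶ V, t'' ≫ ιV = t' := by
  let τ := t' ≫ γ
  let fst := pullback.fst τ j
  let snd := pullback.snd τ j
  have hdom : IsSchemeTheoreticallyDominant fst.left := isSchemeTheoreticallyDominant_fst (j := j) τ
  have hc : (yon S).map (fst ≫ t') ≫ a = (yon S).map snd ≫ ξ := by
    rw [Functor.map_comp, Category.assoc]; exact h.2
  obtain ⟨lam, hlam⟩ := (yon S).map_surjective (sqPP.lift _ _ hc)
  have hlam1 : lam ≫ qP = fst ≫ t' := by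
    apply (yon S).map_injective
    rw [Functor.map_comp, hlam, sqPP.lift_fst]
  have h1 : qP.left.ker ≤ (lam.left ≫ qP.left).ker := Scheme.Hom.le_ker_comp _ _
  have h2 : lam.left ≫ qP.left = fst.left ≫ t'.left := congrArg Over.Hom.left hlam1
  have h3 : (fst.left ≫ t'.left).ker = t'.left.ker := by
    rw [Scheme.Hom.ker_comp, IsSchemeTheoreticallyDominant.ker_eq_bot fst.left,
      Scheme.IdealSheafData.map_bot]
  have H : ιV.left.ker ≤ t'.left.ker := by
    rw [hker, ← h3, ← h2]; exact h1
  have hfac : IsClosedImmersion.lift ιV.left t'.left H ≫ ιV.left = t'.left :=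
    IsClosedImmersion.lift_fac _ _ _
  have hw : IsClosedImmersion.lift ιV.left t'.left H ≫ V.hom = T.hom := by
    rw [← Over.w ιV, ← Category.assoc, hfac, Over.w t']
  exact ⟨Over.homMk _ hw, by apply Over.OverMorphism.ext; exact hfac⟩

end Core2

end Groth.Agent.Lib.Helper14.AS
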