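import Groth.Agent.Lib.Helper14.SepVal2

open CategoryTheory CategoryTheory.Limits AlgebraicGeometry Opposite AlgSp
open CategoryTheory.Functor Groth.Agent.Lib.Helper14.AS

universe u

noncomputable section

namespace Groth.Agent.Lib.Helper14.AS

variable {S : Scheme.{u}}

variable {W : Sp S} {ptA ptK : Over S} {j : ptK ⟶ ptA} {g : W ⟶ (yon S).obj ptA}
  {ξ : (yon S).obj ptK ⟶ W}

set_option backward.isDefEq.respectTransparency.types false in
/-- Two morphisms to the closure `V` with the same image in `ptA` have the same image in `W`. -/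
theorem good_coequalizes (hsep : IsSeparatedMor g) [IsSchemeTheoreticallyDominant j.left]
    [QuasiCompact j.left] {V : Over S} (γV : V ⟶ ptA) [Flat γV.left]
    (tV : (yon S).obj V ⟶ W) (hgood : Good j g ξ γV tV) {T : Over S} (x y : T ⟶ V)
    (hxy : x ≫ γV = y ≫ γV) : (yon S).map x ≫ tV = (yon S).map y ≫ tV := by
  let p1 := pullback.fst γV γV
  let p2 := pullback.snd γV γV
  have sqL : IsPullback p1.left p2.left γV.left γV.left :=
    (IsPullback.of_hasPullback γV γV).map (Over.forget S)
  have hp1 : Flat p1.left := MorphismProperty.of_isPullback (P := @Flat) sqL.flip inferInstance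
  have hfl : Flat (p1 ≫ γV).left := by
    rw [Over.comp_left]; infer_instance
  have h1 : Good j g ξ (p1 ≫ γV) ((yon S).map p1 ≫ tV) := hgood.restrict p1
  have h2 : Good j g ξ (p1 ≫ γV) ((yon S).map p2 ≫ tV) := by
    have := hgood.restrict p2
    rwa [← (pullback.condition (f := γV) (g := γV))] at this
  have key : (yon S).map p1 ≫ tV = (yon S).map p2 ≫ tV := Good.ext hsep h1 h2
  have hx : pullback.lift x y hxy ≫ p1 = x := pullback.lift_fst _ _ _
  have hy : pullback.lift x y hxy ≫ p2 = y := pullback.lift_snd _ _ _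
  calc (yon S).map x ≫ tV = (yon S).map (pullback.lift x y hxy) ≫ (yon S).map p1 ≫ tV := by
        rw [← Category.assoc, ← Functor.map_comp, hx]
    _ = (yon S).map (pullback.lift x y hxy) ≫ (yon S).map p2 ≫ tV := by rw [key]
    _ = (yon S).map y ≫ tV := by rw [← Category.assoc, ← Functor.map_comp, hy]

set_option backward.isDefEq.respectTransparency.types false in
/-- The closure `V` of the generic fibre of a chart is etale over the base, once it is flat and
surjective over it. -/
theorem etale_of_good (hsep : IsSeparatedMor g) [IsSchemeTheoreticallyDominant j.left]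
    [QuasiCompact j.left] {U : Over S} (a : (yon S).obj U ⟶ W) (hae : RepWith @Etale a)
    (γ : U ⟶ ptA) (hγ : (yon S).map γ = a ≫ g) {P : Over S} (qP : P ⟶ U)
    (pK : P ⟶ ptK) (sqPP : IsPullback ((yon S).map qP) ((yon S).map pK) a ξ)
    {V : Over S} (ιV : V ⟶ U) [IsClosedImmersion ιV.left] (hker : ιV.left.ker = qP.left.ker)
    [Flat (ιV ≫ γ).left] [Surjective (ιV ≫ γ).left] [QuasiCompact (ιV ≫ γ).left]
    (hgood : Good j g ξ (ιV ≫ γ) ((yon S).map ιV ≫ a)) : Etale (ιV ≫ γ).left := by
  let γV := ιV ≫ γ
  let tV := (yon S).map ιV ≫ a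
  let Vt := hae.rep.pullback tV
  let pr : Vt ⟶ V := hae.rep.snd tV
  let qV : Vt ⟶ U := hae.rep.fst' tV
  have sqVt : IsPullback ((yon S).map qV) ((yon S).map pr) a tV := hae.rep.isPullback' tV
  have hpr : Etale pr.left := hae.property_snd tV
  have hqVγ : qV ≫ γ = pr ≫ γV := by
    apply (yon S).map_injective
    rw [Functor.map_comp, hγ, ← Category.assoc, sqVt.w, Functor.map_comp, Functor.map_comp, hγ]
    simp only [tV, Category.assoc]
  have hflat : Flat (qV ≫ γ).left := by
    rw [hqVγ, Over.comp_left]
    have : Flat pr.left := inferInstance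
    infer_instance
  have hgoodV : Good j g ξ (qV ≫ γ) ((yon S).map qV ≫ a) := by
    rw [hqVγ, sqVt.w]
    exact hgood.restrict pr
  obtain ⟨φ, hφ⟩ := exists_factor_of_good a γ qP pK sqPP ιV hker qV hgoodV
  have hmono : Mono ιV := by
    have : Mono ((Over.forget S).map ιV) := inferInstanceAs (Mono ιV.left)
    exact (Over.forget S).mono_of_mono_map this
  have sqO : IsPullback pr φ γV γV := by
    refine isPullback_of_exists_unique ?_ ?_ ?_
    · rw [← hqVγ, ← hφ, Category.assoc]
    · intro T x y hxy
      have hQ := good_coequalizes hsep γV tV hgood x y hxy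
      have cond : (yon S).map (y ≫ ιV) ≫ a = (yon S).map x ≫ tV := by
        rw [hQ, Functor.map_comp, Category.assoc]
      obtain ⟨l, hl⟩ := (yon S).map_surjective (sqVt.lift _ _ cond)
      have hl1 : l ≫ qV = y ≫ ιV := by
        apply (yon S).map_injective
        rw [Functor.map_comp, hl, sqVt.lift_fst]
      have hl2 : l ≫ pr = x := by
        apply (yon S).map_injective
        rw [Functor.map_comp, hl, sqVt.lift_snd]
      refine ⟨l, hl2, ?_⟩
      rw [← cancel_mono ιV, Category.assoc, hφ, hl1]
    · intro T z z' h1 h2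
      apply (yon S).map_injective
      apply sqVt.hom_ext
      · rw [← Functor.map_comp, ← Functor.map_comp, ← hφ, ← Category.assoc, ← Category.assoc, h2]
      · rw [← Functor.map_comp, ← Functor.map_comp, h1]
  have sqL : IsPullback pr.left φ.left γV.left γV.left := sqO.map (Over.forget S)
  exact MorphismProperty.of_isPullback_of_descendsAlong (P := @Etale)
    (Q := @Surjective ⊓ @Flat ⊓ @QuasiCompact) sqL ⟨⟨inferInstance, inferInstance⟩, inferInstance⟩
    hpr

end Groth.Agent.Lib.Helper14.AS
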