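import Groth.Agent.Lib.Helper14.SepVal4
import Groth.Agent.Lib.Helper14.SheafQuot
import Groth.Agent.Lib.Helper14.FpqcBase4

open CategoryTheory CategoryTheory.Limits AlgebraicGeometry Opposite AlgSp
open CategoryTheory.Functor Groth.Agent.Lib.Helper14.AS

universe u

noncomputable section

namespace Groth.Agent.Lib.Helper14.AS

variable {S : Scheme.{u}}

set_option backward.isDefEq.respectTransparency.types false in
set_option maxHeartbeats 1600000 in
/-- Core of the valuative criterion for separated morphisms: a section over the generic point of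
a local base extends to a section as soon as the closure of the generic fibre of some affine
etale chart meets the closed fibre. -/
theorem exists_section_core {W : Sp S} {ptA ptK : Over S} [IsAffine ptA.left] [IsAffine ptK.left]
    (j : ptK ⟶ ptA) [IsSchemeTheoreticallyDominant j.left] [QuasiCompact j.left] [Flat j.left]
    [Mono j] (g : W ⟶ (yon S).obj ptA) (hsep : IsSeparatedMor g) (ξ : (yon S).obj ptK ⟶ W)
    (hξ : ξ ≫ g = (yon S).map j)
    (hflatcrit : ∀ {Vs Ps : Scheme.{u}} [IsAffine Vs] (γVs : Vs ⟶ ptA.left) (θs : Ps ⟶ Vs)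
      (pKs : Ps ⟶ ptK.left), θs ≫ γVs = pKs ≫ j.left → IsSchemeTheoreticallyDominant θs →
      QuasiCompact θs → Flat γVs)
    (𝔪 : ↥ptA.left) (h𝔪 : ∀ x : ↥ptA.left, x ⤳ 𝔪)
    {U : Over S} [IsAffine U.left] (a : (yon S).obj U ⟶ W) (hae : RepWith @Etale a)
    (γ : U ⟶ ptA) (hγ : (yon S).map γ = a ≫ g) (u : ↥U.left) (hu : γ.left u = 𝔪)
    (w' : ↥(hae.rep.pullback ξ).left) (hw' : (hae.rep.fst' ξ).left w' ⤳ u) :
    ∃ s : (yon S).obj ptA ⟶ W, s ≫ g = 𝟙 _ ∧ (yon S).map j ≫ s = ξ := by
  let P := hae.rep.pullback ξ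
  let qP : P ⟶ U := hae.rep.fst' ξ
  let pK : P ⟶ ptK := hae.rep.snd ξ
  have sqPP : IsPullback ((yon S).map qP) ((yon S).map pK) a ξ := hae.rep.isPullback' ξ
  have hPaff : IsAffine P.left :=
    isAffine_fibre_of_isSeparatedMor j g hsep ξ hξ a γ hγ qP pK sqPP
  have hqc : QuasiCompact qP.left := inferInstance
  let Vs := qP.left.image
  let ιs : Vs ⟶ U.left := qP.left.imageι
  let θs : P.left ⟶ Vs := qP.left.toImage
  have hθι : θs ≫ ιs = qP.left := qP.left.toImage_imageι
  let V : Over S := Over.mk (ιs ≫ U.hom)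
  let ιV : V ⟶ U := Over.homMk ιs rfl
  have hθw : θs ≫ V.hom = P.hom := by
    change θs ≫ ιs ≫ U.hom = _
    rw [← Category.assoc, hθι, Over.w qP]
  let θ : P ⟶ V := Over.homMk θs hθw
  have hθ : θ ≫ ιV = qP := by
    apply Over.OverMorphism.ext
    exact hθι
  have hci : IsClosedImmersion ιV.left := inferInstanceAs (IsClosedImmersion qP.left.imageι)
  have hker : ιV.left.ker = qP.left.ker := Scheme.IdealSheafData.ker_subschemeι _
  have hVaff : IsAffine V.left := isAffine_of_isAffineHom ιV.left
  have hθqc : QuasiCompact θ.left := inferInstanceAs (QuasiCompact qP.left.toImage)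
  have hθdom : IsSchemeTheoreticallyDominant θ.left := by
    constructor
    apply Scheme.IdealSheafData.ext_of_isAffine
    rw [Scheme.IdealSheafData.ideal_bot, Pi.bot_apply, eq_bot_iff]
    refine (Scheme.Hom.ideal_ker_le θ.left _).trans ?_
    rw [le_bot_iff, ← RingHom.injective_iff_ker_eq_bot]
    exact qP.left.toImage_app_injective ⟨⊤, isAffineOpen_top _⟩
  let γV : V ⟶ ptA := ιV ≫ γ
  have hqPγ : qP ≫ γ = pK ≫ j := by
    apply (yon S).map_injective
    rw [Functor.map_comp, Functor.map_comp, hγ, ← Category.assoc, sqPP.w, Category.assoc, hξ]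
  have hflat : Flat γV.left := by
    refine hflatcrit γV.left θ.left pK.left ?_ hθdom hθqc
    rw [← Over.comp_left, ← Over.comp_left, ← hqPγ, ← hθ, Category.assoc]
  have hgood : Good j g ξ γV ((yon S).map ιV ≫ a) :=
    good_of_dominant hsep hξ a γ hγ qP pK sqPP.w ιV θ hθ
  -- surjectivity
  have hu_mem : u ∈ Set.range ιs := by
    rw [Scheme.IdealSheafData.range_subschemeι]
    exact hw'.mem_closed qP.left.ker.support.isClosed (qP.left.range_subset_ker_support ⟨w', rfl⟩)
  obtain ⟨v₀, hv₀⟩ := hu_mem
  have hγv₀ : γV.left v₀ = 𝔪 := by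
    change γ.left (ιs v₀) = 𝔪
    rw [hv₀, hu]
  have hsurj : Surjective γV.left := by
    constructor
    intro x
    have hgen : GeneralizingMap γV.left := Flat.generalizingMap γV.left
    have hx : x ⤳ γV.left v₀ := by rw [hγv₀]; exact h𝔪 x
    obtain ⟨v, -, hv⟩ := hgen hx
    exact ⟨v, hv⟩
  have hqcV : QuasiCompact γV.left := inferInstance
  have het : Etale γV.left := etale_of_good hsep a hae γ hγ qP pK sqPP ιV hker hgood
  -- the quotient
  let π : (yon S).obj V ⟶ (yon S).obj ptA := (yon S).map γV
  let tV : (yon S).obj V ⟶ W := (yon S).map ιV ≫ a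
  have hπe : RepWith @Etale π := (repWith_yon_map_iff _ _).2 het
  have hπs : RepWith @Surjective π := (repWith_yon_map_iff _ _).2 hsurj
  have hπepi : Epi π := epi_of_etale_surjective π hπe hπs
  let p1 := pullback.fst γV γV
  let p2 := pullback.snd γV γV
  have sqY : IsPullback ((yon S).map p1) ((yon S).map p2) π π :=
    (IsPullback.of_hasPullback γV γV).map (yon S)
  have w : (yon S).map p1 ≫ π = (yon S).map p2 ≫ π := sqY.w
  have hlift : (pullback.lift ((yon S).map p2) ((yon S).map p1) w.symm :
      (yon S).obj (pullback γV γV) ⟶ pullback π π) = sqY.flip.isoPullback.hom := by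
    apply pullback.hom_ext
    · rw [pullback.lift_fst, IsPullback.isoPullback_hom_fst]
    · rw [pullback.lift_snd, IsPullback.isoPullback_hom_snd]
  have hepi2 : Epi (pullback.lift ((yon S).map p2) ((yon S).map p1) w.symm :
      (yon S).obj (pullback γV γV) ⟶ pullback π π) := by
    rw [hlift]; infer_instance
  have hcolim := isColimitOfEpiKernelPair ((yon S).map p1) ((yon S).map p2) π w
  have hQ : (yon S).map p1 ≫ tV = (yon S).map p2 ≫ tV :=
    good_coequalizes hsep γV tV hgood p1 p2 pullback.condition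
  let s : (yon S).obj ptA ⟶ W := hcolim.desc (Cofork.ofπ tV hQ)
  have hs : π ≫ s = tV := hcolim.fac (Cofork.ofπ tV hQ) WalkingParallelPair.one
  refine ⟨s, ?_, ?_⟩
  · rw [← cancel_epi π, ← Category.assoc, hs, Category.comp_id]
    change ((yon S).map ιV ≫ a) ≫ g = (yon S).map (ιV ≫ γ)
    rw [Category.assoc, ← hγ, Functor.map_comp]
  · let fstK := pullback.fst γV j
    let sndK := pullback.snd γV j
    have sqL : IsPullback fstK.left sndK.left γV.left j.left :=
      (IsPullback.of_hasPullback γV j).map (Over.forget S)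
    have h1 : Etale sndK.left := MorphismProperty.of_isPullback (P := @Etale) sqL het
    have h2 : Surjective sndK.left := MorphismProperty.of_isPullback (P := @Surjective) sqL hsurj
    have hepiK : Epi ((yon S).map sndK) :=
      epi_of_etale_surjective _ ((repWith_yon_map_iff _ _).2 h1) ((repWith_yon_map_iff _ _).2 h2)
    rw [← cancel_epi ((yon S).map sndK), ← Category.assoc, ← Functor.map_comp]
    have hc : sndK ≫ j = fstK ≫ γV := (pullback.condition (f := γV) (g := j)).symm
    rw [hc, Functor.map_comp, Category.assoc]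
    change (yon S).map fstK ≫ π ≫ s = _
    rw [hs]
    exact hgood.2

end Groth.Agent.Lib.Helper14.AS
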