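import Groth.Prelude.Def_CGrpSh
import Mathlib.CategoryTheory.Sites.EpiMono
import Mathlib.CategoryTheory.Sites.LeftExact
import Mathlib.Algebra.Homology.ShortComplex.ExactFunctor
import Mathlib.Algebra.Homology.ShortComplex.Ab

/-!
# Exactness of a complex of abelian sheaves on the big site: local lifting (helper14)
-/

set_option autoImplicit false
universe u
open CategoryTheory CategoryTheory.Limits Opposite AlgebraicGeometry

namespace Groth.Agent.Lib.Helper14.ShExactLoc

variable {S : Scheme.{u}} (K : Precoverage Scheme.{u})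

/-- left exactness of sections -/
theorem sections_exact_of_left_exact {Sx : ShortComplex (BigSite.Ab K S)}
    (hS : Sx.Exact) (hf : Mono Sx.f) (W : Over S) (y : Sx.X₂.obj.obj (op W))
    (hy : Sx.g.hom.app (op W) y = 0) : ∃ x, Sx.f.hom.app (op W) x = y := by
  have h1 := ((Functor.preservesFiniteLimits_tfae
    (sheafToPresheaf (QuotSh.J K S) AddCommGrpCat.{u + 1})).out 1 3
    rfl rfl).mpr inferInstance Sx ⟨hS, hf⟩
  let F := (evaluation (Over S)ᵒᵖ AddCommGrpCat.{u + 1}).obj (op W)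
  exact (ShortComplex.ab_exact_iff
    ((Sx.map (sheafToPresheaf (QuotSh.J K S) AddCommGrpCat.{u + 1})).map F)).mp
    (((Functor.exact_tfae F).out 1 3 rfl rfl).mpr ⟨inferInstance, inferInstance⟩ _ h1.1) _ hy

/-- exactness gives local lifts -/
theorem exists_cover_lift_of_exact (Sx : ShortComplex (BigSite.Ab K S)) (hS : Sx.Exact)
    (W : Over S) (y : Sx.X₂.obj.obj (op W)) (hy : Sx.g.hom.app (op W) y = 0) :
    ∃ R ∈ (QuotSh.J K S) W, ∀ {W' : Over S} (h : W' ⟶ W), R h →
      ∃ x : Sx.X₁.obj.obj (op W'), Sx.f.hom.app (op W') x = Sx.X₂.obj.map h.op y := by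
  let l : Sx.X₁ ⟶ kernel Sx.g := kernel.lift Sx.g Sx.f Sx.zero
  have hl : Epi l := Sx.exact_iff_epi_kernel_lift.mp hS
  let S' : ShortComplex (BigSite.Ab K S) := ShortComplex.mk (kernel.ι Sx.g) Sx.g (kernel.condition _)
  have hS' : S'.Exact := ShortComplex.exact_of_f_is_kernel S' (kernelIsKernel Sx.g)
  have hmono : Mono S'.f := inferInstanceAs (Mono (kernel.ι Sx.g))
  obtain ⟨x, hx⟩ := sections_exact_of_left_exact K hS' hmono W y hy
  have hls : Sheaf.IsLocallySurjective l := (Sheaf.isLocallySurjective_iff_epi' (φ := l)).2 hl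
  refine ⟨Presheaf.imageSieve l.hom x, hls.imageSieve_mem x, ?_⟩
  intro W' h hh
  obtain ⟨x₁, hx₁⟩ := hh
  refine ⟨x₁, ?_⟩
  have hfac : l ≫ kernel.ι Sx.g = Sx.f := kernel.lift_ι _ _ _
  have h1 : Sx.f.hom.app (op W') x₁ = (kernel.ι Sx.g).hom.app (op W') (l.hom.app (op W') x₁) := by
    rw [← hfac]
    rfl
  rw [h1, hx₁, ← hx]
  exact NatTrans.naturality_apply (kernel.ι Sx.g).hom h.op x

end Groth.Agent.Lib.Helper14.ShExactLoc
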