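import Groth.Agent.Lib.Helper14.ShExactLoc1
import Groth.Prelude.Def_W4c1extbt15Mult

/-!
# Descent of morphisms along locally surjective maps, and local lifts for group schemes (helper14)
-/

set_option autoImplicit false
universe u
open CategoryTheory CategoryTheory.Limits Opposite AlgebraicGeometry MonObj MonoidalCategory
  CartesianMonoidalCategory

namespace Groth.Agent.Lib.Helper14.ShExactLoc

section general

variable {C : Type*} [Category C]

/-- descent of a morphism to a sheaf-representing object along a locally surjective morphism -/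
theorem descend (J : GrothendieckTopology C) {A B N : C}
    (hN : Presieve.IsSheaf J (yoneda.obj N)) (q : A ⟶ B) (φ : A ⟶ N)
    (R : Sieve B) (hR : R ∈ J B)
    (hlift : ∀ {T : C} (h : T ⟶ B), R h → ∃ a : T ⟶ A, a ≫ q = h)
    (hfib : ∀ {T : C} (a₁ a₂ : T ⟶ A), a₁ ≫ q = a₂ ≫ q → a₁ ≫ φ = a₂ ≫ φ) :
    ∃ φ' : B ⟶ N, q ≫ φ' = φ ∧ ∀ φ'' : B ⟶ N, q ≫ φ'' = φ → φ'' = φ' := by
  classical
  choose a ha using @hlift
  let x : Presieve.FamilyOfElements (yoneda.obj N) R.arrows := fun T h hh => a h hh ≫ φ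
  have hx : x.Compatible := by
    rw [Presieve.compatible_iff_sieveCompatible]
    intro T T' h g hh
    change a (g ≫ h) _ ≫ φ = g ≫ a h hh ≫ φ
    rw [← Category.assoc]
    apply hfib
    rw [ha, Category.assoc, ha]
  obtain ⟨φ', hφ', -⟩ := hN R hR x hx
  have hφ'2 : ∀ {T : C} (h : T ⟶ B) (hh : R h), h ≫ φ' = a h hh ≫ φ := fun h hh => hφ' h hh
  refine ⟨φ', ?_, ?_⟩
  · refine (hN (R.pullback q) (J.pullback_stable q hR)).isSeparatedFor.ext ?_
    intro T g hg
    have hg' : R (g ≫ q) := hg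
    change g ≫ q ≫ φ' = g ≫ φ
    rw [← Category.assoc, hφ'2 (g ≫ q) hg']
    apply hfib
    exact ha (g ≫ q) hg'
  · intro φ'' hφ''
    refine (hN R hR).isSeparatedFor.ext ?_
    intro T h hh
    change h ≫ φ'' = h ≫ φ'
    rw [hφ'2 h hh, ← hφ'', ← Category.assoc, ha]

end general

section pts

variable {S : Scheme.{u}} (K : Precoverage Scheme.{u}) [(QuotSh.J K S).Subcanonical]
variable {G H L : Over S} [GrpObj G] [IsCommMonObj G] [GrpObj H] [IsCommMonObj H]
  [GrpObj L] [IsCommMonObj L]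

theorem isSheaf_yoneda (N : Over S) : Presieve.IsSheaf (QuotSh.J K S) (yoneda.obj N) :=
  GrothendieckTopology.Subcanonical.isSheaf_of_isRepresentable (J := QuotSh.J K S) (yoneda.obj N)

/-- separatedness: two points agreeing on a covering sieve are equal -/
theorem ext_of_cover {T N : Over S} {R : Sieve T} (hR : R ∈ (QuotSh.J K S) T) (a b : T ⟶ N)
    (h : ∀ {T' : Over S} (g : T' ⟶ T), R g → g ≫ a = g ≫ b) : a = b :=
  ((isSheaf_yoneda K N) R hR).isSeparatedFor.ext (fun _ g hg => h g hg)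

theorem exists_cover_lift_epi (π : G ⟶ H) [IsMonHom π] (hepi : Epi (CGrpSh.ptsMap K π))
    {T : Over S} (y : T ⟶ H) :
    ∃ R ∈ (QuotSh.J K S) T, ∀ {T' : Over S} (h : T' ⟶ T), R h →
      ∃ x : T' ⟶ G, x ≫ π = h ≫ y := by
  have hls : Sheaf.IsLocallySurjective (CGrpSh.ptsMap K π) :=
    (Sheaf.isLocallySurjective_iff_epi' (φ := CGrpSh.ptsMap K π)).2 hepi
  let s : (CGrpSh.pts K H).obj.obj (op T) := ULift.up (Additive.ofMul y)
  refine ⟨Presheaf.imageSieve (CGrpSh.ptsMap K π).hom s, hls.imageSieve_mem s, ?_⟩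
  intro T' h hh
  obtain ⟨t, ht⟩ := hh
  exact ⟨t.down.toMul, congrArg (fun z => z.down.toMul) ht⟩

theorem exists_cover_lift_exact (j : G ⟶ H) (π : H ⟶ L) [IsMonHom j] [IsMonHom π]
    (w : j ≫ π = 1) (hex : (CGrpSh.seq K j π w).Exact) {T : Over S} (d : T ⟶ H)
    (hd : d ≫ π = 1) :
    ∃ R ∈ (QuotSh.J K S) T, ∀ {T' : Over S} (h : T' ⟶ T), R h →
      ∃ x : T' ⟶ G, x ≫ j = h ≫ d := by
  let s : (CGrpSh.pts K H).obj.obj (op T) := ULift.up (Additive.ofMul d)
  have hs : (CGrpSh.seq K j π w).g.hom.app (op T) s = 0 := by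
    apply ULift.ext
    change Additive.ofMul (d ≫ π) = 0
    rw [hd]
    rfl
  obtain ⟨R, hR, hlift⟩ := exists_cover_lift_of_exact K _ hex T s hs
  refine ⟨R, hR, ?_⟩
  intro T' h hh
  obtain ⟨x, hx⟩ := hlift h hh
  exact ⟨x.down.toMul, congrArg (fun z => z.down.toMul) hx⟩

/-- two points with the same image under `π` differ locally by the image of `j` -/
theorem exists_cover_diff (j : G ⟶ H) (π : H ⟶ L) [IsMonHom j] [IsMonHom π]
    (w : j ≫ π = 1) (hex : (CGrpSh.seq K j π w).Exact) {T : Over S} (y₁ y₂ : T ⟶ H)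
    (hy : y₁ ≫ π = y₂ ≫ π) :
    ∃ R ∈ (QuotSh.J K S) T, ∀ {T' : Over S} (h : T' ⟶ T), R h →
      ∃ x : T' ⟶ G, h ≫ y₁ = (x ≫ j) * (h ≫ y₂) := by
  have hd : (y₁ * y₂⁻¹) ≫ π = 1 := by
    rw [MonObj.mul_comp, GrpObj.inv_comp, hy, mul_inv_cancel]
  obtain ⟨R, hR, hlift⟩ := exists_cover_lift_exact K j π w hex (y₁ * y₂⁻¹) hd
  refine ⟨R, hR, ?_⟩
  intro T' h hh
  obtain ⟨x, hx⟩ := hlift h hh
  refine ⟨x, ?_⟩
  rw [hx, MonObj.comp_mul, GrpObj.comp_inv, inv_mul_cancel_right]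

end pts

end Groth.Agent.Lib.Helper14.ShExactLoc
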