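import Groth.Prelude.Def_AlgSp4
import Groth.Agent.Lib.Helper14.LPAt
universe u
open CategoryTheory CategoryTheory.Limits AlgebraicGeometry Opposite
namespace Groth.Agent.Lib.Helper14.AS
variable {S : Scheme.{u}}
open AlgSp

theorem exists_forall_of_finite {K : Type u} [SmallCategory K] [IsCofiltered K] {α : Type u}
    [Finite α] (P : α → K → Prop) (hP : ∀ a {k k' : K} (_ : k' ⟶ k), P a k → P a k')
    (hex : ∀ a, ∃ k, P a k) : ∃ k, ∀ a, P a k := by
  classical
  choose f hf using hex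
  have := Fintype.ofFinite α
  obtain ⟨k, hk⟩ := IsCofiltered.inf_objs_exists (Finset.univ.image f)
  refine ⟨k, fun a => ?_⟩
  obtain ⟨φ⟩ := hk (Finset.mem_image_of_mem f (Finset.mem_univ a))
  exact hP a φ (hf a)

set_option backward.isDefEq.respectTransparency.types false in
/-- an fppf covering of the base induces a standard covering of any affine scheme over it,
each member of which factors through a member of the covering -/
theorem exists_stdCov_localizing {ι : Type u} (U : ι → Over S)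
    (hfl : ∀ j, Flat (U j).hom) (hfp : ∀ j, LocallyOfFinitePresentation (U j).hom)
    (hsurj : ∀ s : ↥S, ∃ (j : ι) (x : ↥(U j).left), (U j).hom.base x = s)
    {T : Over S} (hT : IsAffine T.left) :
    ∃ 𝒲 : StdCov T, ∀ m, ∃ j, Nonempty (𝒲.W m ⟶ U j) := by
  let R : Sieve T :=
    { arrows := fun Y _ => ∃ j, Nonempty (Y ⟶ U j)
      downward_closed := fun {Y Z f} ⟨j, ⟨u⟩⟩ g => ⟨j, ⟨g ≫ u⟩⟩ }
  have hR : R ∈ AlgSp.J S T := by
    rw [mem_J_iff]
    let Y : ι → Over S := fun j => Over.mk (pullback.fst T.hom (U j).hom ≫ T.hom)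
    let g : ∀ j, Y j ⟶ T := fun j => Over.homMk (pullback.fst T.hom (U j).hom) rfl
    let v : ∀ j, Y j ⟶ U j := fun j => Over.homMk (pullback.snd T.hom (U j).hom)
      (pullback.condition).symm
    refine ⟨Presieve.ofArrows Y g, ?_, ?_⟩
    · rw [Precoverage.mem_comap_iff, Presieve.map_ofArrows]
      change Presieve.ofArrows _ _ ∈ Scheme.precoverage _ _
      rw [Scheme.ofArrows_mem_precoverage_iff]
      refine ⟨fun t => ?_, fun j => ⟨?_, ?_⟩⟩
      · obtain ⟨j, x, hx⟩ := hsurj (T.hom t)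
        obtain ⟨z, hz1, hz2⟩ := Scheme.Pullback.exists_preimage_pullback (f := T.hom)
          (g := (U j).hom) t x hx.symm
        exact ⟨j, z, hz1⟩
      · have := hfl j
        change Flat (pullback.fst T.hom (U j).hom)
        infer_instance
      · have := hfp j
        change LocallyOfFinitePresentation (pullback.fst T.hom (U j).hom)
        infer_instance
    · rintro _ _ ⟨j⟩
      exact ⟨j, ⟨v j⟩⟩
  obtain ⟨𝒲, h𝒲⟩ := exists_stdCov_of_mem_J hT R hR
  exact ⟨𝒲, h𝒲⟩

variable {I : Type u} [SmallCategory I] [IsCofiltered I]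

theorem AffChart.lpAt {D : I ⥤ Over S} {c : Cone D} {i : I} {W : Over S} {w : W ⟶ D.obj i}
    (ch : AffChart D c i w) (F : PSp S) (U : Over S) (u : W ⟶ U)
    (hloc : IsLimitPreserving (S := U.left) ((Over.map U.hom).op ⋙ F)) :
    LPAt F ch.G ch.cG := by
  have hconn : IsConnected (Over i) := IsCofiltered.isConnected _
  exact lpAt_of_over F U ch.G ch.cG (fun k => ch.ι k ≫ u)
    (fun φ => by rw [← Category.assoc, ch.map_ι]) (ch.b ≫ u)
    (fun k => by rw [← Category.assoc, ch.π_ι]) hloc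
    (isLimitOfPreserves (Over.forget S) ch.hcG) ch.aff ch.affc

/-- the covering of a later stage induced by a standard covering of the stage `i` -/
noncomputable def AffChart.stageCov {D : I ⥤ Over S} {c : Cone D} {i : I}
    (hD : ∀ i, IsAffine (D.obj i).left) (𝒲 : StdCov (D.obj i))
    (ch : ∀ m, AffChart D c i (𝒲.w m)) (k : Over i) : StdCov (D.obj k.left) :=
  𝒲.ofIsPullback (hD k.left) (D.map k.hom) (hD i) (fun m => (ch m).G.obj k)
    (fun m => (ch m).p k) (fun m => (ch m).ι k) (fun m => ((ch m).sq k).flip)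

/-- the covering of the limit induced by a standard covering of the stage `i` -/
noncomputable def AffChart.limCov {D : I ⥤ Over S} {c : Cone D} {i : I}
    (hD : ∀ i, IsAffine (D.obj i).left) (hca : IsAffine c.pt.left) (𝒲 : StdCov (D.obj i))
    (ch : ∀ m, AffChart D c i (𝒲.w m)) : StdCov c.pt :=
  𝒲.ofIsPullback hca (c.π.app i) (hD i) (fun m => (ch m).cG.pt)
    (fun m => (ch m).a) (fun m => (ch m).b) (fun m => (ch m).isPullback.flip)

set_option backward.isDefEq.respectTransparency.types false in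
theorem lpAt_inj_of_charts (F : PSp S) (hF : Presheaf.IsSheaf (AlgSp.J S) F)
    (D : I ⥤ Over S) (c : Cone D) (hD : ∀ i, IsAffine (D.obj i).left) (i : I)
    (𝒲 : StdCov (D.obj i)) (ch : ∀ m, AffChart D c i (𝒲.w m))
    (hlp : ∀ m, LPAt F (ch m).G (ch m).cG) (s s' : F.obj (op (D.obj i)))
    (hss' : F.map (c.π.app i).op s = F.map (c.π.app i).op s') :
    ∃ (k' : I) (φ : k' ⟶ i), F.map (D.map φ).op s = F.map (D.map φ).op s' := by
  have hfin := 𝒲.fin
  let o : Over i := Over.mk (𝟙 i)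
  let toO : ∀ k : Over i, k ⟶ o := fun k => Over.homMk k.hom (by simp [o])
  have hsub : ∀ (k : Over i) (φ φ' : k ⟶ o), φ = φ' := fun k φ φ' => by
    ext
    have h1 : φ.left = k.hom := (Category.comp_id _).symm.trans (Over.w φ)
    have h2 : φ'.left = k.hom := (Category.comp_id _).symm.trans (Over.w φ')
    rw [h1, h2]
  let x : ∀ m, F.obj (op ((ch m).G.obj o)) := fun m => F.map ((ch m).p o).op s
  let y : ∀ m, F.obj (op ((ch m).G.obj o)) := fun m => F.map ((ch m).p o).op s'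
  have hxy : ∀ m, F.map ((ch m).cG.π.app o).op (x m) = F.map ((ch m).cG.π.app o).op (y m) := by
    intro m
    change F.map ((ch m).cG.π.app o).op (F.map ((ch m).p o).op s) =
      F.map ((ch m).cG.π.app o).op (F.map ((ch m).p o).op s')
    rw [← psp_map_comp_apply, ← psp_map_comp_apply, ← (ch m).a_π o, psp_map_comp_apply,
      psp_map_comp_apply]
    exact congrArg _ hss'
  obtain ⟨k, hk⟩ := exists_forall_of_finite (K := Over i) (α := 𝒲.ι)
    (fun m k => F.map ((ch m).G.map (toO k)).op (x m) = F.map ((ch m).G.map (toO k)).op (y m))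
    (fun m k k' ψ h => by
      have e : toO k' = ψ ≫ toO k := hsub _ _ _
      rw [e, Functor.map_comp, psp_map_comp_apply, psp_map_comp_apply, h])
    (fun m => by
      obtain ⟨k', φ, hφ⟩ := (hlp m).2 o (x m) (y m) (hxy m)
      refine ⟨k', ?_⟩
      rw [hsub _ (toO k') φ]
      exact hφ)
  refine ⟨k.left, k.hom, ?_⟩
  apply (AffChart.stageCov hD 𝒲 ch k).ext_of_isSheaf hF
  intro m
  change F.map ((ch m).p k).op (F.map (D.map k.hom).op s) =
    F.map ((ch m).p k).op (F.map (D.map k.hom).op s')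
  have e : (ch m).p k ≫ D.map k.hom = (ch m).G.map (toO k) ≫ (ch m).p o :=
    ((ch m).map_p (toO k)).symm
  rw [← psp_map_comp_apply, ← psp_map_comp_apply, e, psp_map_comp_apply, psp_map_comp_apply]
  exact hk m

set_option backward.isDefEq.respectTransparency.types false in
theorem lpAt_surj_of_charts (F : PSp S) (hF : Presheaf.IsSheaf (AlgSp.J S) F)
    (D : I ⥤ Over S) (c : Cone D) (hc : IsLimit ((Over.forget S).mapCone c))
    (hD : ∀ i, IsAffine (D.obj i).left) (hca : IsAffine c.pt.left) (i : I)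
    (𝒲 : StdCov (D.obj i)) (ch : ∀ m, AffChart D c i (𝒲.w m))
    (hlp : ∀ m, LPAt F (ch m).G (ch m).cG)
    (W2 : 𝒲.ι → 𝒲.ι → Over S) (pr1 : ∀ m n, W2 m n ⟶ 𝒲.W m) (pr2 : ∀ m n, W2 m n ⟶ 𝒲.W n)
    (hW2 : ∀ m n, IsPullback (pr1 m n) (pr2 m n) (𝒲.w m) (𝒲.w n))
    (ch2 : ∀ m n, AffChart D c i (pr1 m n ≫ 𝒲.w m))
    (hlp2 : ∀ m n, LPAt F (ch2 m n).G (ch2 m n).cG)
    (s : F.obj (op c.pt)) :
    ∃ (k : I) (sk : F.obj (op (D.obj k))), F.map (c.π.app k).op sk = s := by
  have hfin := 𝒲.fin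
  have H1 := fun m n => exists_affChart_hom hc (ch m) (ch2 m n) (pr1 m n) rfl
  choose m1 mInf1 h1p h1ι h1nat h1a h1b h1π using H1
  have H2 := fun m n => exists_affChart_hom hc (ch n) (ch2 m n) (pr2 m n) (hW2 m n).w.symm
  choose m2 mInf2 h2p h2ι h2nat h2a h2b h2π using H2
  -- step 1: lift the restrictions of `s` to a common stage
  obtain ⟨k, hk⟩ := exists_forall_of_finite (K := Over i) (α := 𝒲.ι)
    (fun m k => ∃ σ : F.obj (op ((ch m).G.obj k)),
      F.map ((ch m).cG.π.app k).op σ = F.map (ch m).a.op s)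
    (fun m k k' ψ ⟨σ, hσ⟩ => ⟨F.map ((ch m).G.map ψ).op σ, by
      rw [← psp_map_comp_apply, (ch m).cG.w ψ, hσ]⟩)
    (fun m => (hlp m).1 _)
  choose σ hσ using hk
  -- step 2: make them agree on the overlaps
  let x : ∀ m n, F.obj (op ((ch2 m n).G.obj k)) := fun m n => F.map (m1 m n k).op (σ m)
  let y : ∀ m n, F.obj (op ((ch2 m n).G.obj k)) := fun m n => F.map (m2 m n k).op (σ n)
  have hxy : ∀ m n, F.map ((ch2 m n).cG.π.app k).op (x m n) =
      F.map ((ch2 m n).cG.π.app k).op (y m n) := by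
    intro m n
    change F.map ((ch2 m n).cG.π.app k).op (F.map (m1 m n k).op (σ m)) =
      F.map ((ch2 m n).cG.π.app k).op (F.map (m2 m n k).op (σ n))
    rw [← psp_map_comp_apply, ← psp_map_comp_apply, ← h1π, ← h2π, psp_map_comp_apply,
      psp_map_comp_apply, hσ, hσ, ← psp_map_comp_apply, ← psp_map_comp_apply, h1a, h2a]
  obtain ⟨κ, hκ⟩ := exists_forall_of_finite (K := Over k) (α := 𝒲.ι × 𝒲.ι)
    (fun mn κ => F.map ((ch2 mn.1 mn.2).G.map κ.hom).op (x mn.1 mn.2) =
      F.map ((ch2 mn.1 mn.2).G.map κ.hom).op (y mn.1 mn.2))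
    (fun mn κ κ' φ h => by
      rw [← Over.w φ, Functor.map_comp, psp_map_comp_apply, psp_map_comp_apply, h])
    (fun mn => by
      obtain ⟨k', φ, hφ⟩ := (hlp2 mn.1 mn.2).2 k _ _ (hxy mn.1 mn.2)
      exact ⟨Over.mk φ, hφ⟩)
  obtain ⟨k', ψ, hψ⟩ : ∃ (k' : Over i) (ψ : k' ⟶ k), ∀ m n,
      F.map ((ch2 m n).G.map ψ).op (x m n) = F.map ((ch2 m n).G.map ψ).op (y m n) :=
    ⟨κ.left, κ.hom, fun m n => hκ (m, n)⟩
  let τ : ∀ m, F.obj (op ((ch m).G.obj k')) := fun m => F.map ((ch m).G.map ψ).op (σ m)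
  have hτ : ∀ m n, F.map (m1 m n k').op (τ m) = F.map (m2 m n k').op (τ n) := by
    intro m n
    change F.map (m1 m n k').op (F.map ((ch m).G.map ψ).op (σ m)) =
      F.map (m2 m n k').op (F.map ((ch n).G.map ψ).op (σ n))
    rw [← psp_map_comp_apply, ← psp_map_comp_apply, ← h1nat, ← h2nat, psp_map_comp_apply,
      psp_map_comp_apply]
    exact hψ m n
  -- step 3: glue on the stage `k'`
  let 𝒲' := AffChart.stageCov hD 𝒲 ch k'
  let Z : 𝒲.ι → 𝒲.ι → Over S := fun m n => pullback ((ch m).p k') ((ch n).p k')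
  let fs : ∀ m n, Z m n ⟶ (ch m).G.obj k' := fun m n => pullback.fst _ _
  let sn : ∀ m n, Z m n ⟶ (ch n).G.obj k' := fun m n => pullback.snd _ _
  have hcond : ∀ m n, fs m n ≫ (ch m).p k' = sn m n ≫ (ch n).p k' := fun m n =>
    pullback.condition
  have hl1 : ∀ m n, (fs m n ≫ (ch m).ι k') ≫ 𝒲.w m = (sn m n ≫ (ch n).ι k') ≫ 𝒲.w n := by
    intro m n
    rw [Category.assoc, Category.assoc, ← ((ch m).sq k').w, ← ((ch n).sq k').w,
      ← Category.assoc, ← Category.assoc, hcond]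
  let l : ∀ m n, Z m n ⟶ W2 m n := fun m n => (hW2 m n).lift _ _ (hl1 m n)
  have hl_1 : ∀ m n, l m n ≫ pr1 m n = fs m n ≫ (ch m).ι k' := fun m n =>
    (hW2 m n).lift_fst _ _ _
  have hl_2 : ∀ m n, l m n ≫ pr2 m n = sn m n ≫ (ch n).ι k' := fun m n =>
    (hW2 m n).lift_snd _ _ _
  have hθ0 : ∀ m n, (fs m n ≫ (ch m).p k') ≫ D.map k'.hom = l m n ≫ pr1 m n ≫ 𝒲.w m := by
    intro m n
    rw [← Category.assoc (l m n), hl_1, Category.assoc, Category.assoc, ((ch m).sq k').w]
  let θ : ∀ m n, Z m n ⟶ (ch2 m n).G.obj k' := fun m n =>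
    ((ch2 m n).sq k').lift _ _ (hθ0 m n)
  have hθp : ∀ m n, θ m n ≫ (ch2 m n).p k' = fs m n ≫ (ch m).p k' := fun m n =>
    ((ch2 m n).sq k').lift_fst _ _ _
  have hθι : ∀ m n, θ m n ≫ (ch2 m n).ι k' = l m n := fun m n =>
    ((ch2 m n).sq k').lift_snd _ _ _
  have hθ1 : ∀ m n, θ m n ≫ m1 m n k' = fs m n := by
    intro m n
    apply ((ch m).sq k').hom_ext
    · rw [Category.assoc, h1p, hθp]
    · rw [Category.assoc, h1ι, ← Category.assoc, hθι, hl_1]
  have hθ2 : ∀ m n, θ m n ≫ m2 m n k' = sn m n := by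
    intro m n
    apply ((ch n).sq k').hom_ext
    · rw [Category.assoc, h2p, hθp, hcond]
    · rw [Category.assoc, h2ι, ← Category.assoc, hθι, hl_2]
  obtain ⟨sk, hsk⟩ := 𝒲'.exists_glue hF τ Z fs sn
    (fun m n => IsPullback.of_hasPullback _ _)
    (fun m n => by
      have e1 : F.map (fs m n).op (τ m) = F.map (θ m n).op (F.map (m1 m n k').op (τ m)) := by
        rw [← hθ1 m n]; exact psp_map_comp_apply F _ _ _
      have e2 : F.map (sn m n).op (τ n) = F.map (θ m n).op (F.map (m2 m n k').op (τ n)) := by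
        rw [← hθ2 m n]; exact psp_map_comp_apply F _ _ _
      exact e1.trans ((congrArg _ (hτ m n)).trans e2.symm))
  refine ⟨k'.left, sk, ?_⟩
  apply (AffChart.limCov hD hca 𝒲 ch).ext_of_isSheaf hF
  intro m
  change F.map (ch m).a.op (F.map (c.π.app k'.left).op sk) = F.map (ch m).a.op s
  have hskm : F.map ((ch m).p k').op sk = F.map ((ch m).G.map ψ).op (σ m) := hsk m
  rw [← psp_map_comp_apply, (ch m).a_π, psp_map_comp_apply, hskm, ← psp_map_comp_apply,
    (ch m).cG.w ψ, hσ]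

set_option backward.isDefEq.respectTransparency.types false in
theorem lpAt_of_sheaf_fppfLocally (F : PSp S) (hF : Presheaf.IsSheaf (AlgSp.J S) F)
    {ι : Type u} (U : ι → Over S)
    (hfl : ∀ j, Flat (U j).hom) (hfp : ∀ j, LocallyOfFinitePresentation (U j).hom)
    (hsurj : ∀ s : ↥S, ∃ (j : ι) (x : ↥(U j).left), (U j).hom.base x = s)
    (hloc : ∀ j, IsLimitPreserving (S := (U j).left) ((Over.map (U j).hom).op ⋙ F))
    (D : I ⥤ Over S) (c : Cone D) (hc : IsLimit ((Over.forget S).mapCone c))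
    (hD : ∀ i, IsAffine (D.obj i).left) (hca : IsAffine c.pt.left) : LPAt F D c := by
  have key : ∀ i : I, ∃ (𝒲 : StdCov (D.obj i)) (ch : ∀ m, AffChart D c i (𝒲.w m))
      (j : 𝒲.ι → ι) (_ : ∀ m, 𝒲.W m ⟶ U (j m)), ∀ m, LPAt F (ch m).G (ch m).cG := by
    intro i
    obtain ⟨𝒲, h𝒲⟩ := exists_stdCov_localizing U hfl hfp hsurj (hD i)
    choose j u using h𝒲
    exact ⟨𝒲, fun m => (exists_affChart D c hc hD i (𝒲.aff m) (𝒲.w m)).some, j,
      fun m => (u m).some, fun m => AffChart.lpAt _ F (U (j m)) (u m).some (hloc (j m))⟩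
  constructor
  · intro s
    obtain ⟨i⟩ : Nonempty I := IsCofiltered.nonempty
    obtain ⟨𝒲, ch, j, u, hlp⟩ := key i
    have haff2 : ∀ m n, IsAffine (pullback (𝒲.w m) (𝒲.w n)).left := by
      intro m n
      have sq' : IsPullback (pullback.fst (𝒲.w m) (𝒲.w n)).left
          (pullback.snd (𝒲.w m) (𝒲.w n)).left (𝒲.w m).left (𝒲.w n).left :=
        (IsPullback.of_hasPullback (𝒲.w m) (𝒲.w n)).map (Over.forget S)
      have := 𝒲.aff m
      have := 𝒲.aff n
      have := hD i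
      have h1 : IsAffine (pullback (𝒲.w m).left (𝒲.w n).left) := inferInstance
      exact .of_isIso sq'.isoPullback.hom
    exact lpAt_surj_of_charts F hF D c hc hD hca i 𝒲 ch hlp
      (fun m n => pullback (𝒲.w m) (𝒲.w n)) (fun m n => pullback.fst _ _)
      (fun m n => pullback.snd _ _) (fun m n => IsPullback.of_hasPullback _ _)
      (fun m n => (exists_affChart D c hc hD i (haff2 m n) _).some)
      (fun m n => AffChart.lpAt _ F (U (j m)) (pullback.fst _ _ ≫ u m) (hloc (j m))) s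
  · intro i s s' hss'
    obtain ⟨𝒲, ch, j, u, hlp⟩ := key i
    exact lpAt_inj_of_charts F hF D c hD i 𝒲 ch hlp s s' hss'

theorem isLimitPreserving_of_sheaf_fppfLocally (F : PSp S)
    (hF : Presheaf.IsSheaf (AlgSp.J S) F) {ι : Type u} (U : ι → Over S)
    (hfl : ∀ j, Flat (U j).hom) (hfp : ∀ j, LocallyOfFinitePresentation (U j).hom)
    (hsurj : ∀ s : ↥S, ∃ (j : ι) (x : ↥(U j).left), (U j).hom.base x = s)
    (hloc : ∀ j, IsLimitPreserving (S := (U j).left) ((Over.map (U j).hom).op ⋙ F)) :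
    IsLimitPreserving F := by
  intro I _ _ D c hc hD hca
  exact isColimit_of_lpAt F D c
    (lpAt_of_sheaf_fppfLocally F hF U hfl hfp hsurj hloc D c hc hD hca)

end Groth.Agent.Lib.Helper14.AS
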