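import Groth.Agent.Lib.Helper14.SheafQuot2
import Groth.Agent.Lib.Helper14.AlgSpGpd4
universe u
open CategoryTheory CategoryTheory.Limits AlgebraicGeometry Opposite
namespace Groth.Agent.Lib.Helper14.AS
variable {S : Scheme.{u}}
open AlgSp Groth.Agent.Lib.Helper14.AS

theorem gpd_quot_restrict {B : Sp S} (G G' : AlgSp.GroupoidSp B) (φ : AlgSp.GroupoidSp.Hom G' G)
    (hφ : φ.IsRestriction) (ψ : G'.quot ⟶ G.quot) (hψ : G'.quotπ ≫ ψ = φ.fU ≫ G.quotπ) :
    Mono ψ ∧ (Epi (pullback.snd φ.fU G.t ≫ G.s) → IsIso ψ) := by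
  have hm : Mono ψ := by
    refine mono_quot_map G.s G.t (gpd_isPreEqvRelSp G) φ.fU G'.s G'.t ?_ ψ hψ
    intro T a b r₀ h1 h2
    obtain ⟨z, -, hz2, hz3⟩ := restr_exists φ hφ _ r₀ a b h1.symm h2.symm
    exact ⟨z, hz2, hz3⟩
  refine ⟨hm, fun hg => ?_⟩
  have := epi_quotSpπ G.s G.t
  have e : (pullback.snd φ.fU G.t ≫ G.s) ≫ G.quotπ = (pullback.fst φ.fU G.t ≫ G'.quotπ) ≫ ψ := by
    rw [Category.assoc, Category.assoc, hψ, ← Category.assoc (pullback.fst _ _), pullback.condition,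
      Category.assoc]
    congr 1
    exact quotSp_condition G.s G.t
  have h1 : Epi ((pullback.fst φ.fU G.t ≫ G'.quotπ) ≫ ψ) := by
    rw [← e]
    have : Epi G.quotπ := epi_quotSpπ G.s G.t
    infer_instance
  have h2 : Epi ψ := epi_of_epi (pullback.fst φ.fU G.t ≫ G'.quotπ) ψ
  exact isIso_of_mono_of_epi ψ

end Groth.Agent.Lib.Helper14.AS
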