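import Groth.Prelude.Def_AlgSp4
import Groth.Agent.Lib.Helper14.ShLoc
import Groth.Agent.Lib.Helper14.DescCov2
universe u
open CategoryTheory CategoryTheory.Limits AlgebraicGeometry Opposite
namespace Groth.Agent.Lib.Helper14.AS
variable {S : Scheme.{u}}
open AlgSp

theorem psp_comm_apply {F G P Q : PSp S} {a : F ⟶ G} {b : P ⟶ Q} {ηF : F ⟶ P} {ηG : G ⟶ Q}
    (comm : ηF ≫ b = a ≫ ηG) {Y : Over S} (t : F.obj (op Y)) :
    b.app _ (ηF.app _ t) = ηG.app _ (a.app _ t) := by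
  have := congrArg (fun h => h.app (op Y)) comm
  exact ConcreteCategory.congr_hom this t

variable {I : Type u} [SmallCategory I] [IsCofiltered I]

/-- based version of `exists_stdCov_stage` -/
theorem exists_stdCov_stage_over (D : I ⥤ Over S) (c : Cone D)
    (hc : IsLimit ((Over.forget S).mapCone c)) (hD : ∀ i, IsAffine (D.obj i).left)
    (hca : IsAffine c.pt.left) (R : Sieve c.pt) (hR : R ∈ AlgSp.J S c.pt) (i₀ : I) :
    ∃ (k : Over i₀) (𝒱 : StdCov (D.obj k.left)), ∀ m, GoodFor D c R k.left (𝒱.w m) := by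
  have hc' : IsLimit ((Over.forget S).mapCone (c.whisker (Over.forget i₀))) :=
    (Functor.Initial.isLimitWhiskerEquiv (Over.forget i₀) ((Over.forget S).mapCone c)).symm hc
  obtain ⟨k, 𝒱, h𝒱⟩ := exists_stdCov_stage (Over.forget i₀ ⋙ D) (c.whisker (Over.forget i₀)) hc'
    (fun k => hD k.left) hca R hR
  exact ⟨k, 𝒱, h𝒱⟩

/-- the limit of a chart lies in a sieve for which the chart map is good -/
theorem AffChart.a_mem_of_goodFor {D : I ⥤ Over S} {c : Cone D} {i : I} {W : Over S}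
    {w : W ⟶ D.obj i} (ch : AffChart D c i w) {R : Sieve c.pt} (h : GoodFor D c R i w) :
    R ch.a :=
  h ch.a ch.b ch.isPullback.w

section Sep

variable (P : PSp S) (hP : Presheaf.IsSheaf (AlgSp.J S) P)

include hP in
set_option backward.isDefEq.respectTransparency.types false in
/-- two sections on a stage which agree on a later stage of each chart of a standard covering
agree on a later stage -/
theorem sep_of_charts (D : I ⥤ Over S) (c : Cone D) (hD : ∀ i, IsAffine (D.obj i).left) (i : I)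
    (𝒲 : StdCov (D.obj i)) (ch : ∀ m, AffChart D c i (𝒲.w m))
    (s s' : P.obj (op (D.obj i)))
    (h : ∀ m, ∃ k : Over i, P.map ((ch m).p k ≫ D.map k.hom).op s =
      P.map ((ch m).p k ≫ D.map k.hom).op s') :
    ∃ k : Over i, P.map (D.map k.hom).op s = P.map (D.map k.hom).op s' := by
  have hfin := 𝒲.fin
  obtain ⟨k, hk⟩ := exists_forall_of_finite (K := Over i) (α := 𝒲.ι)
    (fun m k => P.map ((ch m).p k ≫ D.map k.hom).op s = P.map ((ch m).p k ≫ D.map k.hom).op s')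
    (fun m k k' ψ h => by
      have e : (ch m).p k' ≫ D.map k'.hom = (ch m).G.map ψ ≫ (ch m).p k ≫ D.map k.hom := by
        rw [← Category.assoc, (ch m).map_p ψ, Category.assoc, ← D.map_comp, Over.w]
      rw [e, psp_map_comp_apply P ((ch m).G.map ψ) ((ch m).p k ≫ D.map k.hom),
        psp_map_comp_apply P ((ch m).G.map ψ) ((ch m).p k ≫ D.map k.hom), h])
    h
  refine ⟨k, ?_⟩
  apply (AffChart.stageCov hD 𝒲 ch k).ext_of_isSheaf hP
  intro m
  change P.map ((ch m).p k).op (P.map (D.map k.hom).op s) =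
    P.map ((ch m).p k).op (P.map (D.map k.hom).op s')
  rw [← psp_map_comp_apply, ← psp_map_comp_apply]
  exact hk m

end Sep

/-- elementwise relative limit preservation (existence part) along a given system -/
def E1At {P Q : PSp S} (b : P ⟶ Q) {J : Type u} [SmallCategory J] (G : J ⥤ Over S)
    (cG : Cone G) : Prop :=
  ∀ (k : J) (y : Q.obj (op (G.obj k))) (x : P.obj (op cG.pt)),
    b.app _ x = Q.map (cG.π.app k).op y →
    ∃ (k' : J) (φ : k' ⟶ k) (xk : P.obj (op (G.obj k'))),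
      P.map (cG.π.app k').op xk = x ∧ b.app _ xk = Q.map (G.map φ).op y

/-- elementwise relative limit preservation (uniqueness part) along a given system -/
def E2At {P Q : PSp S} (b : P ⟶ Q) {J : Type u} [SmallCategory J] (G : J ⥤ Over S)
    (cG : Cone G) : Prop :=
  ∀ (k : J) (x x' : P.obj (op (G.obj k))), b.app _ x = b.app _ x' →
    P.map (cG.π.app k).op x = P.map (cG.π.app k).op x' →
    ∃ (k' : J) (φ : k' ⟶ k), P.map (G.map φ).op x = P.map (G.map φ).op x'

theorem rlpElem_iff_forall_E {P Q : PSp S} (b : P ⟶ Q) :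
    RLPElem b ↔ ∀ ⦃J : Type u⦄ [SmallCategory J] [IsCofiltered J] (G : J ⥤ Over S)
      (cG : Cone G), IsLimit ((Over.forget S).mapCone cG) → (∀ k, IsAffine (G.obj k).left) →
      IsAffine cG.pt.left → E1At b G cG ∧ E2At b G cG :=
  Iff.rfl

section Glue

variable {P Q : PSp S} (b : P ⟶ Q) (hP : Presheaf.IsSheaf (AlgSp.J S) P)
  (hQ : Presheaf.IsSheaf (AlgSp.J S) Q)

include hP hQ in
set_option backward.isDefEq.respectTransparency.types false in
theorem glue_of_charts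
    (D : I ⥤ Over S) (c : Cone D) (hc : IsLimit ((Over.forget S).mapCone c))
    (hD : ∀ i, IsAffine (D.obj i).left) (hca : IsAffine c.pt.left) (i : I)
    (𝒲 : StdCov (D.obj i)) (ch : ∀ m, AffChart D c i (𝒲.w m))
    (W2 : 𝒲.ι → 𝒲.ι → Over S) (pr1 : ∀ m n, W2 m n ⟶ 𝒲.W m) (pr2 : ∀ m n, W2 m n ⟶ 𝒲.W n)
    (hW2 : ∀ m n, IsPullback (pr1 m n) (pr2 m n) (𝒲.w m) (𝒲.w n))
    (ch2 : ∀ m n, AffChart D c i (pr1 m n ≫ 𝒲.w m))
    (hE2 : ∀ m n, E2At b (ch2 m n).G (ch2 m n).cG)
    (y : Q.obj (op (D.obj i))) (s : P.obj (op c.pt))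
    (hloc : ∀ m, ∃ (k : Over i) (σ : P.obj (op ((ch m).G.obj k))),
        P.map ((ch m).cG.π.app k).op σ = P.map (ch m).a.op s ∧
        b.app _ σ = Q.map ((ch m).p k ≫ D.map k.hom).op y) :
    ∃ (k : Over i) (sk : P.obj (op (D.obj k.left))),
      P.map (c.π.app k.left).op sk = s ∧ b.app _ sk = Q.map (D.map k.hom).op y := by
  have hfin := 𝒲.fin
  have H1 := fun m n => exists_affChart_hom hc (ch m) (ch2 m n) (pr1 m n) rfl
  choose m1 mInf1 h1p h1ι h1nat h1a h1b h1π using H1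
  have H2 := fun m n => exists_affChart_hom hc (ch n) (ch2 m n) (pr2 m n) (hW2 m n).w.symm
  choose m2 mInf2 h2p h2ι h2nat h2a h2b h2π using H2
  have hpD : ∀ m {k k' : Over i} (ψ : k' ⟶ k),
      (ch m).G.map ψ ≫ (ch m).p k ≫ D.map k.hom = (ch m).p k' ≫ D.map k'.hom := by
    intro m k k' ψ
    rw [← Category.assoc, (ch m).map_p ψ, Category.assoc, ← D.map_comp, Over.w]
  -- step 1: lift the restrictions of `s` to a common stage
  obtain ⟨k, hk⟩ := exists_forall_of_finite (K := Over i) (α := 𝒲.ι)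
    (fun m k => ∃ σ : P.obj (op ((ch m).G.obj k)),
      P.map ((ch m).cG.π.app k).op σ = P.map (ch m).a.op s ∧
      b.app _ σ = Q.map ((ch m).p k ≫ D.map k.hom).op y)
    (fun m k k' ψ ⟨σ, hσ1, hσ2⟩ => ⟨P.map ((ch m).G.map ψ).op σ, by
      rw [← psp_map_comp_apply, (ch m).cG.w ψ, hσ1], by
      rw [psp_nat_apply, hσ2, ← psp_map_comp_apply, hpD]⟩)
    hloc
  choose σ hσ hbσ using hk
  -- step 2: make them agree on the overlaps
  let x : ∀ m n, P.obj (op ((ch2 m n).G.obj k)) := fun m n => P.map (m1 m n k).op (σ m)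
  let x' : ∀ m n, P.obj (op ((ch2 m n).G.obj k)) := fun m n => P.map (m2 m n k).op (σ n)
  have hxx' : ∀ m n, P.map ((ch2 m n).cG.π.app k).op (x m n) =
      P.map ((ch2 m n).cG.π.app k).op (x' m n) := by
    intro m n
    change P.map ((ch2 m n).cG.π.app k).op (P.map (m1 m n k).op (σ m)) =
      P.map ((ch2 m n).cG.π.app k).op (P.map (m2 m n k).op (σ n))
    rw [← psp_map_comp_apply, ← psp_map_comp_apply, ← h1π, ← h2π, psp_map_comp_apply,
      psp_map_comp_apply, hσ, hσ, ← psp_map_comp_apply, ← psp_map_comp_apply, h1a, h2a]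
  have hbxx' : ∀ m n, b.app _ (x m n) = b.app _ (x' m n) := by
    intro m n
    change b.app _ (P.map (m1 m n k).op (σ m)) = b.app _ (P.map (m2 m n k).op (σ n))
    rw [psp_nat_apply, psp_nat_apply, hbσ, hbσ, ← psp_map_comp_apply, ← psp_map_comp_apply,
      ← Category.assoc, ← Category.assoc, h1p, h2p]
  obtain ⟨κ, hκ⟩ := exists_forall_of_finite (K := Over k) (α := 𝒲.ι × 𝒲.ι)
    (fun mn κ => P.map ((ch2 mn.1 mn.2).G.map κ.hom).op (x mn.1 mn.2) =
      P.map ((ch2 mn.1 mn.2).G.map κ.hom).op (x' mn.1 mn.2))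
    (fun mn κ κ' φ h => by
      rw [← Over.w φ, Functor.map_comp, psp_map_comp_apply, psp_map_comp_apply, h])
    (fun mn => by
      obtain ⟨k', φ, hφ⟩ := hE2 mn.1 mn.2 k _ _ (hbxx' mn.1 mn.2) (hxx' mn.1 mn.2)
      exact ⟨Over.mk φ, hφ⟩)
  obtain ⟨k', ψ, hψ⟩ : ∃ (k' : Over i) (ψ : k' ⟶ k), ∀ m n,
      P.map ((ch2 m n).G.map ψ).op (x m n) = P.map ((ch2 m n).G.map ψ).op (x' m n) :=
    ⟨κ.left, κ.hom, fun m n => hκ (m, n)⟩
  let τ : ∀ m, P.obj (op ((ch m).G.obj k')) := fun m => P.map ((ch m).G.map ψ).op (σ m)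
  have hτ : ∀ m n, P.map (m1 m n k').op (τ m) = P.map (m2 m n k').op (τ n) := by
    intro m n
    change P.map (m1 m n k').op (P.map ((ch m).G.map ψ).op (σ m)) =
      P.map (m2 m n k').op (P.map ((ch n).G.map ψ).op (σ n))
    rw [← psp_map_comp_apply, ← psp_map_comp_apply, ← h1nat, ← h2nat, psp_map_comp_apply,
      psp_map_comp_apply]
    exact hψ m n
  -- step 3: glue on the stage `k'`
  let 𝒲' := AffChart.stageCov hD 𝒲 ch k'
  let Z : 𝒲.ι → 𝒲.ι → Over S := fun m n => pullback ((ch m).p k') ((ch n).p k')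
  let fs : ∀ m n, Z m n ⟶ (ch m).G.obj k' := fun m n => pullback.fst _ _
  let sn : ∀ m n, Z m n ⟶ (ch n).G.obj k' := fun m n => pullback.snd _ _
  have hcond : ∀ m n, fs m n ≫ (ch m).p k' = sn m n ≫ (ch n).p k' := fun m n =>
    pullback.condition
  have hl1 : ∀ m n, (fs m n ≫ (ch m).ι k') ≫ 𝒲.w m = (sn m n ≫ (ch n).ι k') ≫ 𝒲.w n := by
    intro m n
    rw [Category.assoc, Category.assoc, ← ((ch m).sq k').w, ← ((ch n).sq k').w,
      ← Category.assoc, ← Category.assoc, hcond]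
  let l : ∀ m n, Z m n ⟶ W2 m n := fun m n => (hW2 m n).lift _ _ (hl1 m n)
  have hl_1 : ∀ m n, l m n ≫ pr1 m n = fs m n ≫ (ch m).ι k' := fun m n =>
    (hW2 m n).lift_fst _ _ _
  have hl_2 : ∀ m n, l m n ≫ pr2 m n = sn m n ≫ (ch n).ι k' := fun m n =>
    (hW2 m n).lift_snd _ _ _
  have hθ0 : ∀ m n, (fs m n ≫ (ch m).p k') ≫ D.map k'.hom = l m n ≫ pr1 m n ≫ 𝒲.w m := by
    intro m n
    rw [← Category.assoc (l m n), hl_1, Category.assoc, Category.assoc, ((ch m).sq k').w]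
  let θ : ∀ m n, Z m n ⟶ (ch2 m n).G.obj k' := fun m n =>
    ((ch2 m n).sq k').lift _ _ (hθ0 m n)
  have hθp : ∀ m n, θ m n ≫ (ch2 m n).p k' = fs m n ≫ (ch m).p k' := fun m n =>
    ((ch2 m n).sq k').lift_fst _ _ _
  have hθι : ∀ m n, θ m n ≫ (ch2 m n).ι k' = l m n := fun m n =>
    ((ch2 m n).sq k').lift_snd _ _ _
  have hθ1 : ∀ m n, θ m n ≫ m1 m n k' = fs m n := by
    intro m n
    apply ((ch m).sq k').hom_ext
    · rw [Category.assoc, h1p, hθp]
    · rw [Category.assoc, h1ι, ← Category.assoc, hθι, hl_1]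
  have hθ2 : ∀ m n, θ m n ≫ m2 m n k' = sn m n := by
    intro m n
    apply ((ch n).sq k').hom_ext
    · rw [Category.assoc, h2p, hθp, hcond]
    · rw [Category.assoc, h2ι, ← Category.assoc, hθι, hl_2]
  obtain ⟨sk, hsk⟩ := 𝒲'.exists_glue hP τ Z fs sn
    (fun m n => IsPullback.of_hasPullback _ _)
    (fun m n => by
      have e1 : P.map (fs m n).op (τ m) = P.map (θ m n).op (P.map (m1 m n k').op (τ m)) := by
        rw [← hθ1 m n]; exact psp_map_comp_apply P _ _ _
      have e2 : P.map (sn m n).op (τ n) = P.map (θ m n).op (P.map (m2 m n k').op (τ n)) := by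
        rw [← hθ2 m n]; exact psp_map_comp_apply P _ _ _
      exact e1.trans ((congrArg _ (hτ m n)).trans e2.symm))
  have hskm : ∀ m, P.map ((ch m).p k').op sk = P.map ((ch m).G.map ψ).op (σ m) := hsk
  refine ⟨k', sk, ?_, ?_⟩
  · apply (AffChart.limCov hD hca 𝒲 ch).ext_of_isSheaf hP
    intro m
    change P.map (ch m).a.op (P.map (c.π.app k'.left).op sk) = P.map (ch m).a.op s
    rw [← psp_map_comp_apply, (ch m).a_π, psp_map_comp_apply, hskm, ← psp_map_comp_apply,
      (ch m).cG.w ψ, hσ]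
  · apply 𝒲'.ext_of_isSheaf hQ
    intro m
    change Q.map ((ch m).p k').op (b.app _ sk) =
      Q.map ((ch m).p k').op (Q.map (D.map k'.hom).op y)
    rw [← psp_nat_apply, hskm, psp_nat_apply, hbσ, ← psp_map_comp_apply, ← psp_map_comp_apply,
      hpD]

end Glue

end Groth.Agent.Lib.Helper14.AS
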