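import Groth.Prelude.Def_AlgSp4
import Groth.Agent.Lib.Helper14.ShfRLP1
universe u
open CategoryTheory CategoryTheory.Limits AlgebraicGeometry Opposite
namespace Groth.Agent.Lib.Helper14.AS
variable {S : Scheme.{u}}
open AlgSp

variable {I : Type u} [SmallCategory I] [IsCofiltered I]

section ChartLemmas

variable {D : I ⥤ Over S} {c : Cone D} {i : I} {W : Over S} {w : W ⟶ D.obj i}
  (ch : AffChart D c i w)

omit [IsCofiltered I] in
theorem _root_.Groth.Agent.Lib.Helper14.AS.AffChart.map_p_D {k k' : Over i} (ψ : k' ⟶ k) :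
    ch.G.map ψ ≫ ch.p k ≫ D.map k.hom = ch.p k' ≫ D.map k'.hom := by
  rw [← Category.assoc, ch.map_p ψ, Category.assoc, ← D.map_comp, Over.w]

omit [IsCofiltered I] in
theorem _root_.Groth.Agent.Lib.Helper14.AS.AffChart.π_p_D (k : Over i) :
    ch.cG.π.app k ≫ ch.p k ≫ D.map k.hom = ch.a ≫ c.π.app i := by
  rw [← Category.assoc, ← ch.a_π, Category.assoc, c.w]

omit [IsCofiltered I] in
theorem _root_.Groth.Agent.Lib.Helper14.AS.AffChart.ι_w (k : Over i) : ch.ι k ≫ w = ch.p k ≫ D.map k.hom := (ch.sq k).w.symm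

omit [IsCofiltered I] in
theorem _root_.Groth.Agent.Lib.Helper14.AS.AffChart.π_ι_w (k : Over i) : ch.cG.π.app k ≫ ch.ι k ≫ w = ch.a ≫ c.π.app i := by
  rw [← Category.assoc, ch.π_ι, ch.isPullback.w]

theorem _root_.Groth.Agent.Lib.Helper14.AS.AffChart.e_of_rlpElem {F G : PSp S} {a : F ⟶ G} (ha : RLPElem a) :
    E1At a ch.G ch.cG ∧ E2At a ch.G ch.cG := by
  have hconn : IsConnected (Over i) := IsCofiltered.isConnected _
  exact ha ch.G ch.cG (isLimitOfPreserves (Over.forget S) ch.hcG) ch.aff ch.affc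

theorem _root_.Groth.Agent.Lib.Helper14.AS.AffChart.isLimit_forget : Nonempty (IsLimit ((Over.forget S).mapCone ch.cG)) := by
  have hconn : IsConnected (Over i) := IsCofiltered.isConnected _
  exact ⟨isLimitOfPreserves (Over.forget S) ch.hcG⟩

end ChartLemmas

set_option backward.isDefEq.respectTransparency.types false in
/-- overlaps of a standard covering, with their charts -/
theorem exists_overlap_charts (D : I ⥤ Over S) (c : Cone D)
    (hc : IsLimit ((Over.forget S).mapCone c)) (hD : ∀ i, IsAffine (D.obj i).left) (i : I)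
    (𝒲 : StdCov (D.obj i)) :
    ∃ (W2 : 𝒲.ι → 𝒲.ι → Over S) (pr1 : ∀ m n, W2 m n ⟶ 𝒲.W m) (pr2 : ∀ m n, W2 m n ⟶ 𝒲.W n)
      (_ : ∀ m n, IsPullback (pr1 m n) (pr2 m n) (𝒲.w m) (𝒲.w n)),
      Nonempty (∀ m n, AffChart D c i (pr1 m n ≫ 𝒲.w m)) := by
  have haff2 : ∀ m n, IsAffine (pullback (𝒲.w m) (𝒲.w n)).left := by
    intro m n
    have sq' : IsPullback (pullback.fst (𝒲.w m) (𝒲.w n)).left
        (pullback.snd (𝒲.w m) (𝒲.w n)).left (𝒲.w m).left (𝒲.w n).left :=
      (IsPullback.of_hasPullback (𝒲.w m) (𝒲.w n)).map (Over.forget S)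
    have := 𝒲.aff m
    have := 𝒲.aff n
    have := hD i
    have h1 : IsAffine (pullback (𝒲.w m).left (𝒲.w n).left) := inferInstance
    exact .of_isIso sq'.isoPullback.hom
  exact ⟨fun m n => pullback (𝒲.w m) (𝒲.w n), fun m n => pullback.fst _ _,
    fun m n => pullback.snd _ _, fun m n => IsPullback.of_hasPullback _ _,
    ⟨fun m n => (exists_affChart D c hc hD i (haff2 m n) _).some⟩⟩

section Main

variable {F G P Q : PSp S} (a : F ⟶ G) (b : P ⟶ Q) (ηF : F ⟶ P) (ηG : G ⟶ Q)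
  (comm : ηF ≫ b = a ≫ ηG) (hP : Presheaf.IsSheaf (AlgSp.J S) P)
  (hQ : Presheaf.IsSheaf (AlgSp.J S) Q)
  [Presheaf.IsLocallySurjective (AlgSp.J S) ηF] [Presheaf.IsLocallyInjective (AlgSp.J S) ηF]
  [Presheaf.IsLocallySurjective (AlgSp.J S) ηG] [Presheaf.IsLocallyInjective (AlgSp.J S) ηG]
  (ha : RLPElem a)

include hP ha in
set_option backward.isDefEq.respectTransparency.types false in
/-- uniqueness part, for sections coming from the presheaf -/
theorem e2_of_presheaf_sections (D : I ⥤ Over S) (c : Cone D)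
    (hc : IsLimit ((Over.forget S).mapCone c)) (hD : ∀ i, IsAffine (D.obj i).left)
    (hca : IsAffine c.pt.left) (i : I) (x₀ x₀' : F.obj (op (D.obj i)))
    (hax : a.app _ x₀ = a.app _ x₀')
    (hlim : P.map (c.π.app i).op (ηF.app _ x₀) = P.map (c.π.app i).op (ηF.app _ x₀')) :
    ∃ (j : I) (φ : j ⟶ i),
      P.map (D.map φ).op (ηF.app _ x₀) = P.map (D.map φ).op (ηF.app _ x₀') := by
  have h1 : ηF.app _ (F.map (c.π.app i).op x₀) = ηF.app _ (F.map (c.π.app i).op x₀') := by
    rw [psp_nat_apply, psp_nat_apply, hlim]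
  have hR := Presheaf.equalizerSieve_mem (AlgSp.J S) ηF _ _ h1
  obtain ⟨k, 𝒱, h𝒱⟩ := exists_stdCov_stage_over D c hc hD hca _ hR i
  let ch : ∀ m, AffChart D c k.left (𝒱.w m) := fun m =>
    (exists_affChart D c hc hD k.left (𝒱.aff m) (𝒱.w m)).some
  let o : Over k.left := Over.mk (𝟙 k.left)
  have hsep : ∀ m, ∃ k' : Over k.left,
      P.map ((ch m).p k' ≫ D.map k'.hom).op (P.map (D.map k.hom).op (ηF.app _ x₀)) =
      P.map ((ch m).p k' ≫ D.map k'.hom).op (P.map (D.map k.hom).op (ηF.app _ x₀')) := by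
    intro m
    have hRa : F.map (ch m).a.op (F.map (c.π.app i).op x₀) =
        F.map (ch m).a.op (F.map (c.π.app i).op x₀') := (ch m).a_mem_of_goodFor (h𝒱 m)
    have e0 : (ch m).cG.π.app o ≫ ((ch m).p o ≫ D.map o.hom) ≫ D.map k.hom =
        (ch m).a ≫ c.π.app i := by
      rw [← Category.assoc, (ch m).π_p_D o, Category.assoc, c.w]
    obtain ⟨k', φ, hφ⟩ := ((ch m).e_of_rlpElem ha).2 o
      (F.map (((ch m).p o ≫ D.map o.hom) ≫ D.map k.hom).op x₀)
      (F.map (((ch m).p o ≫ D.map o.hom) ≫ D.map k.hom).op x₀')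
      (by rw [psp_nat_apply, psp_nat_apply, hax])
      (by rw [← psp_map_comp_apply, ← psp_map_comp_apply, e0, psp_map_comp_apply,
        psp_map_comp_apply, hRa])
    refine ⟨k', ?_⟩
    have e1 : (ch m).G.map φ ≫ ((ch m).p o ≫ D.map o.hom) ≫ D.map k.hom =
        ((ch m).p k' ≫ D.map k'.hom) ≫ D.map k.hom := by
      rw [← Category.assoc, (ch m).map_p_D φ]
    rw [← psp_map_comp_apply, ← psp_map_comp_apply, e1] at hφ
    rw [← psp_map_comp_apply, ← psp_map_comp_apply, ← psp_nat_apply, ← psp_nat_apply, hφ]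
  obtain ⟨k'', hk''⟩ := sep_of_charts P hP D c hD k.left 𝒱 ch _ _ hsep
  refine ⟨k''.left, k''.hom ≫ k.hom, ?_⟩
  rw [D.map_comp, psp_map_comp_apply, psp_map_comp_apply]
  exact hk''

include comm hP ha in
set_option backward.isDefEq.respectTransparency.types false in
/-- uniqueness part of relative limit preservation for the map of sheaves -/
theorem e2At_sheafify (D : I ⥤ Over S) (c : Cone D)
    (hc : IsLimit ((Over.forget S).mapCone c)) (hD : ∀ i, IsAffine (D.obj i).left)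
    (hca : IsAffine c.pt.left) : E2At b D c := by
  intro i s s' hbs hlim
  -- localize so that `s`, `s'` come from `F`, with equal images in `G`
  let R : Sieve (D.obj i) :=
    { arrows := fun Y g => ∃ t t' : F.obj (op Y), ηF.app _ t = P.map g.op s ∧
        ηF.app _ t' = P.map g.op s' ∧ a.app _ t = a.app _ t'
      downward_closed := by
        rintro Y Z g ⟨t, t', h1, h2, h3⟩ h
        refine ⟨F.map h.op t, F.map h.op t', ?_, ?_, ?_⟩
        · rw [psp_nat_apply, h1, ← psp_map_comp_apply]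
        · rw [psp_nat_apply, h2, ← psp_map_comp_apply]
        · rw [psp_nat_apply, psp_nat_apply, h3] }
  have hR : R ∈ AlgSp.J S (D.obj i) := by
    have hR₁ : Presheaf.imageSieve ηF s ⊓ Presheaf.imageSieve ηF s' ∈ AlgSp.J S (D.obj i) :=
      (AlgSp.J S).intersection_covering (Presheaf.imageSieve_mem (AlgSp.J S) ηF s)
        (Presheaf.imageSieve_mem (AlgSp.J S) ηF s')
    refine (AlgSp.J S).transitive hR₁ R ?_
    rintro Y g ⟨⟨t, ht⟩, ⟨t', ht'⟩⟩
    have ht1 : ηF.app _ t = P.map g.op s := ht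
    have ht2 : ηF.app _ t' = P.map g.op s' := ht'
    have h3 : ηG.app _ (a.app _ t) = ηG.app _ (a.app _ t') := by
      rw [← psp_comm_apply comm, ← psp_comm_apply comm, ht1, ht2, psp_nat_apply, psp_nat_apply,
        hbs]
    refine (AlgSp.J S).superset_covering ?_
      (Presheaf.equalizerSieve_mem (AlgSp.J S) ηG _ _ h3)
    intro Z h hh
    have hh' : G.map h.op (a.app _ t) = G.map h.op (a.app _ t') := hh
    refine ⟨F.map h.op t, F.map h.op t', ?_, ?_, ?_⟩
    · rw [psp_nat_apply, ht1, ← psp_map_comp_apply]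
    · rw [psp_nat_apply, ht2, ← psp_map_comp_apply]
    · rw [psp_nat_apply, psp_nat_apply, hh']
  obtain ⟨𝒲, h𝒲⟩ := exists_stdCov_of_mem_J (hD i) R hR
  choose t t' ht ht' hat using h𝒲
  let ch : ∀ m, AffChart D c i (𝒲.w m) := fun m =>
    (exists_affChart D c hc hD i (𝒲.aff m) (𝒲.w m)).some
  let o : Over i := Over.mk (𝟙 i)
  have hsep : ∀ m, ∃ k : Over i, P.map ((ch m).p k ≫ D.map k.hom).op s =
      P.map ((ch m).p k ≫ D.map k.hom).op s' := by
    intro m
    obtain ⟨hcm⟩ := (ch m).isLimit_forget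
    have e0 : ∀ (r : P.obj (op (D.obj i))) (τ : F.obj (op (𝒲.W m)))
        (_ : ηF.app _ τ = P.map (𝒲.w m).op r) (k : Over i),
        ηF.app _ (F.map ((ch m).ι k).op τ) = P.map ((ch m).p k ≫ D.map k.hom).op r := by
      intro r τ hτ k
      rw [psp_nat_apply, hτ, ← psp_map_comp_apply, (ch m).ι_w]
    obtain ⟨k, φ, hφ⟩ := e2_of_presheaf_sections a ηF hP ha (ch m).G (ch m).cG hcm
      (ch m).aff (ch m).affc o (F.map ((ch m).ι o).op (t m)) (F.map ((ch m).ι o).op (t' m))
      (by rw [psp_nat_apply, psp_nat_apply, hat])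
      (by
        rw [e0 s (t m) (ht m) o, e0 s' (t' m) (ht' m) o, ← psp_map_comp_apply,
          ← psp_map_comp_apply, (ch m).π_p_D o, psp_map_comp_apply, psp_map_comp_apply, hlim])
    refine ⟨k, ?_⟩
    rw [e0 s (t m) (ht m) o, e0 s' (t' m) (ht' m) o, ← psp_map_comp_apply,
      ← psp_map_comp_apply, (ch m).map_p_D φ] at hφ
    exact hφ
  obtain ⟨k, hk⟩ := sep_of_charts P hP D c hD i 𝒲 ch s s' hsep
  exact ⟨k.left, k.hom, hk⟩

include comm hP hQ ha in
set_option backward.isDefEq.respectTransparency.types false in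
/-- existence part, over a section of the target coming from the presheaf -/
theorem e1_of_presheaf_base (D : I ⥤ Over S) (c : Cone D)
    (hc : IsLimit ((Over.forget S).mapCone c)) (hD : ∀ i, IsAffine (D.obj i).left)
    (hca : IsAffine c.pt.left) (i : I) (y₀ : G.obj (op (D.obj i))) (s : P.obj (op c.pt))
    (hbs : b.app _ s = Q.map (c.π.app i).op (ηG.app _ y₀)) :
    ∃ (j : I) (φ : j ⟶ i) (sj : P.obj (op (D.obj j))),
      P.map (c.π.app j).op sj = s ∧ b.app _ sj = Q.map (D.map φ).op (ηG.app _ y₀) := by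
  let R : Sieve c.pt :=
    { arrows := fun Y g => ∃ t : F.obj (op Y), ηF.app _ t = P.map g.op s ∧
        a.app _ t = G.map (g ≫ c.π.app i).op y₀
      downward_closed := by
        rintro Y Z g ⟨t, h1, h2⟩ h
        refine ⟨F.map h.op t, ?_, ?_⟩
        · rw [psp_nat_apply, h1, ← psp_map_comp_apply]
        · rw [psp_nat_apply, h2, ← psp_map_comp_apply, Category.assoc] }
  have hR : R ∈ AlgSp.J S c.pt := by
    refine (AlgSp.J S).transitive (Presheaf.imageSieve_mem (AlgSp.J S) ηF s) R ?_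
    rintro Y g ⟨t, ht⟩
    have ht1 : ηF.app _ t = P.map g.op s := ht
    have h3 : ηG.app _ (a.app _ t) = ηG.app _ (G.map (g ≫ c.π.app i).op y₀) := by
      rw [← psp_comm_apply comm, ht1, psp_nat_apply, hbs, ← psp_map_comp_apply, psp_nat_apply]
    refine (AlgSp.J S).superset_covering ?_
      (Presheaf.equalizerSieve_mem (AlgSp.J S) ηG _ _ h3)
    intro Z h hh
    have hh' : G.map h.op (a.app _ t) = G.map h.op (G.map (g ≫ c.π.app i).op y₀) := hh
    refine ⟨F.map h.op t, ?_, ?_⟩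
    · rw [psp_nat_apply, ht1, ← psp_map_comp_apply]
    · rw [psp_nat_apply, hh', ← psp_map_comp_apply, Category.assoc]
  obtain ⟨k, 𝒱, h𝒱⟩ := exists_stdCov_stage_over D c hc hD hca R hR i
  let ch : ∀ m, AffChart D c k.left (𝒱.w m) := fun m =>
    (exists_affChart D c hc hD k.left (𝒱.aff m) (𝒱.w m)).some
  obtain ⟨W2, pr1, pr2, hW2, ⟨ch2⟩⟩ := exists_overlap_charts D c hc hD k.left 𝒱
  have hE2 : ∀ m n, E2At b (ch2 m n).G (ch2 m n).cG := fun m n => by
    obtain ⟨hcm⟩ := (ch2 m n).isLimit_forget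
    exact e2At_sheafify a b ηF ηG comm hP ha (ch2 m n).G (ch2 m n).cG hcm (ch2 m n).aff
      (ch2 m n).affc
  let o : Over k.left := Over.mk (𝟙 k.left)
  have hloc : ∀ m, ∃ (k' : Over k.left) (σ : P.obj (op ((ch m).G.obj k'))),
      P.map ((ch m).cG.π.app k').op σ = P.map (ch m).a.op s ∧
      b.app _ σ = Q.map ((ch m).p k' ≫ D.map k'.hom).op
        (Q.map (D.map k.hom).op (ηG.app _ y₀)) := by
    intro m
    obtain ⟨tm, htm1, htm2⟩ : ∃ t : F.obj (op (ch m).cG.pt), ηF.app _ t = P.map (ch m).a.op s ∧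
        a.app _ t = G.map ((ch m).a ≫ c.π.app i).op y₀ := (ch m).a_mem_of_goodFor (h𝒱 m)
    have e0 : (ch m).cG.π.app o ≫ ((ch m).p o ≫ D.map o.hom) ≫ D.map k.hom =
        (ch m).a ≫ c.π.app i := by
      rw [← Category.assoc, (ch m).π_p_D o, Category.assoc, c.w]
    obtain ⟨k', φ, τ, hτ1, hτ2⟩ := ((ch m).e_of_rlpElem ha).1 o
      (G.map (((ch m).p o ≫ D.map o.hom) ≫ D.map k.hom).op y₀) tm
      (by rw [← psp_map_comp_apply, e0, htm2])
    have e1 : (ch m).G.map φ ≫ ((ch m).p o ≫ D.map o.hom) ≫ D.map k.hom =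
        ((ch m).p k' ≫ D.map k'.hom) ≫ D.map k.hom := by
      rw [← Category.assoc, (ch m).map_p_D φ]
    refine ⟨k', ηF.app _ τ, ?_, ?_⟩
    · exact (psp_nat_apply ηF _ τ).symm.trans ((congrArg _ hτ1).trans htm1)
    · rw [psp_comm_apply comm, hτ2, ← psp_map_comp_apply, e1, ← psp_map_comp_apply,
        psp_nat_apply]
  obtain ⟨k'', sk, h1, h2⟩ := glue_of_charts b hP hQ D c hc hD hca k.left 𝒱 ch W2 pr1 pr2 hW2
    ch2 hE2 (Q.map (D.map k.hom).op (ηG.app _ y₀)) s hloc
  refine ⟨k''.left, k''.hom ≫ k.hom, sk, h1, ?_⟩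
  rw [h2, ← psp_map_comp_apply, ← D.map_comp]

include comm hP hQ ha in
set_option backward.isDefEq.respectTransparency.types false in
/-- existence part of relative limit preservation for the map of sheaves -/
theorem e1At_sheafify (D : I ⥤ Over S) (c : Cone D)
    (hc : IsLimit ((Over.forget S).mapCone c)) (hD : ∀ i, IsAffine (D.obj i).left)
    (hca : IsAffine c.pt.left) : E1At b D c := by
  intro i y s hbs
  obtain ⟨𝒲, h𝒲⟩ := exists_stdCov_of_mem_J (hD i) _
    (Presheaf.imageSieve_mem (AlgSp.J S) ηG y)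
  choose ym hym using h𝒲
  have hym' : ∀ m, ηG.app _ (ym m) = Q.map (𝒲.w m).op y := hym
  let ch : ∀ m, AffChart D c i (𝒲.w m) := fun m =>
    (exists_affChart D c hc hD i (𝒲.aff m) (𝒲.w m)).some
  obtain ⟨W2, pr1, pr2, hW2, ⟨ch2⟩⟩ := exists_overlap_charts D c hc hD i 𝒲
  have hE2 : ∀ m n, E2At b (ch2 m n).G (ch2 m n).cG := fun m n => by
    obtain ⟨hcm⟩ := (ch2 m n).isLimit_forget
    exact e2At_sheafify a b ηF ηG comm hP ha (ch2 m n).G (ch2 m n).cG hcm (ch2 m n).aff
      (ch2 m n).affc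
  let o : Over i := Over.mk (𝟙 i)
  have hloc : ∀ m, ∃ (k : Over i) (σ : P.obj (op ((ch m).G.obj k))),
      P.map ((ch m).cG.π.app k).op σ = P.map (ch m).a.op s ∧
      b.app _ σ = Q.map ((ch m).p k ≫ D.map k.hom).op y := by
    intro m
    obtain ⟨hcm⟩ := (ch m).isLimit_forget
    have e0 : ∀ k : Over i, ηG.app _ (G.map ((ch m).ι k).op (ym m)) =
        Q.map ((ch m).p k ≫ D.map k.hom).op y := by
      intro k
      rw [psp_nat_apply, hym', ← psp_map_comp_apply, (ch m).ι_w]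
    obtain ⟨k, φ, σ, hσ1, hσ2⟩ := e1_of_presheaf_base a b ηF ηG comm hP hQ ha (ch m).G
      (ch m).cG hcm (ch m).aff (ch m).affc o (G.map ((ch m).ι o).op (ym m))
      (P.map (ch m).a.op s)
      (by
        rw [e0 o, ← psp_map_comp_apply, (ch m).π_p_D o, psp_nat_apply, hbs,
          ← psp_map_comp_apply])
    refine ⟨k, σ, hσ1, ?_⟩
    rw [hσ2, e0 o, ← psp_map_comp_apply, (ch m).map_p_D φ]
  obtain ⟨k, sk, h1, h2⟩ := glue_of_charts b hP hQ D c hc hD hca i 𝒲 ch W2 pr1 pr2 hW2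
    ch2 hE2 y s hloc
  exact ⟨k.left, k.hom, sk, h1, h2⟩

include comm hP hQ ha in
/-- **Main abstract theorem.** If `a : F ⟶ G` is relatively limit preserving and `b : P ⟶ Q` is a
map of sheaves receiving `a` through locally bijective maps, then `b` is relatively limit
preserving. -/
theorem rlpElem_of_locallyBijective : RLPElem b := by
  intro J _ _ D c hc hD hca
  exact ⟨e1At_sheafify a b ηF ηG comm hP hQ ha D c hc hD hca,
    e2At_sheafify a b ηF ηG comm hP ha D c hc hD hca⟩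

end Main

end Groth.Agent.Lib.Helper14.AS
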