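import Groth.Prelude.Def_AlgSp4
import Groth.Agent.Lib.Helper14.ShfRLP2
universe u
open CategoryTheory CategoryTheory.Limits AlgebraicGeometry Opposite
namespace Groth.Agent.Lib.Helper14.AS
variable {S : Scheme.{u}}
open AlgSp

/-- S10029 -/
theorem isRelLimitPreserving_sheafifyMap {F G : PSp S} (a : F ⟶ G)
    (ha : IsRelLimitPreserving a) :
    IsRelLimitPreserving ((presheafToSheaf (AlgSp.J S) (Type (u + 1))).map a).hom := by
  apply isRelLimitPreserving_of_rlpElem
  exact rlpElem_of_locallyBijective a (sheafifyMap (AlgSp.J S) a) (toSheafify (AlgSp.J S) F)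
    (toSheafify (AlgSp.J S) G) (toSheafify_naturality (AlgSp.J S) a).symm
    ((presheafToSheaf (AlgSp.J S) (Type (u + 1))).obj F).property
    ((presheafToSheaf (AlgSp.J S) (Type (u + 1))).obj G).property
    (rlpElem_of_isRelLimitPreserving a ha)

/-- the terminal presheaf -/
noncomputable def ptPSp (S : Scheme.{u}) : PSp S := (Functor.const _).obj PUnit.{u + 2}

/-- the map to the terminal presheaf -/
noncomputable def toPt (F : PSp S) : F ⟶ ptPSp S where
  app _ := ↾(fun _ => PUnit.unit)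
  naturality _ _ _ := rfl

theorem ptPSp_isSheaf : Presheaf.IsSheaf (AlgSp.J S) (ptPSp S) :=
  Presheaf.isSheaf_of_isTerminal _ Types.isTerminalPUnit

instance (T : (Over S)ᵒᵖ) : Subsingleton ((ptPSp S).obj T) :=
  inferInstanceAs (Subsingleton PUnit)

theorem rlpElem_toPt_of_isLimitPreserving (F : PSp S) (hF : IsLimitPreserving F) :
    RLPElem (toPt F) := by
  intro I _ _ D c hc hD hca
  obtain ⟨h1, h2⟩ := lpAt_of_isColimit F D c (hF D c hc hD hca)
  refine ⟨fun i y x _ => ?_, fun i x x' _ hlim => h2 i x x' hlim⟩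
  obtain ⟨j', xj', hx⟩ := h1 x
  refine ⟨IsCofiltered.min i j', IsCofiltered.minToLeft i j',
    F.map (D.map (IsCofiltered.minToRight i j')).op xj', ?_, Subsingleton.elim _ _⟩
  rw [← psp_map_comp_apply, c.w, hx]

theorem isLimitPreserving_of_rlpElem_toPt (P : PSp S) (b : P ⟶ ptPSp S) (hb : RLPElem b) :
    IsLimitPreserving P := by
  intro I _ _ D c hc hD hca
  obtain ⟨h1, h2⟩ := hb D c hc hD hca
  apply isColimit_of_lpAt
  refine ⟨fun s => ?_, fun k s s' hss' => ?_⟩
  · obtain ⟨i⟩ : Nonempty I := IsCofiltered.nonempty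
    obtain ⟨j, φ, sj, hsj, -⟩ := h1 i PUnit.unit s (Subsingleton.elim _ _)
    exact ⟨j, sj, hsj⟩
  · exact h2 k s s' (Subsingleton.elim _ _) hss'

/-- S10028 -/
theorem isLimitPreserving_sheafify (F : PSp S) (hF : IsLimitPreserving F) :
    IsLimitPreserving ((presheafToSheaf (AlgSp.J S) (Type (u + 1))).obj F).obj := by
  apply isLimitPreserving_of_rlpElem_toPt _ (toPt _)
  exact rlpElem_of_locallyBijective (toPt F) (toPt _) (toSheafify (AlgSp.J S) F) (𝟙 _)
    (by ext; exact Subsingleton.elim _ _)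
    ((presheafToSheaf (AlgSp.J S) (Type (u + 1))).obj F).property ptPSp_isSheaf
    (rlpElem_toPt_of_isLimitPreserving F hF)

end Groth.Agent.Lib.Helper14.AS
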