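import Mathlib
set_option autoImplicit false
universe u
open CategoryTheory CategoryTheory.Limits AlgebraicGeometry

namespace Groth.Agent.Lib.Helper14.SigmaHens

variable {ι : Type u} (X X₀ : ι → Scheme.{u}) (i : ∀ j, X₀ j ⟶ X j)

lemma exists_sigmaι_eq (t : ↥(∐ X)) : ∃ j, ∃ x : X j, Sigma.ι X j x = t := by
  obtain ⟨⟨j, x⟩, rfl⟩ := (sigmaMk X).surjective t
  exact ⟨j, x, (sigmaMk_mk X j x).symm⟩

lemma sigmaMap_ι_apply (j : ι) (x : X₀ j) :
    (Limits.Sigma.map i) (Sigma.ι X₀ j x) = Sigma.ι X j (i j x) := by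
  rw [← Scheme.Hom.comp_apply, ← Scheme.Hom.comp_apply, Sigma.ι_map]

lemma isPullback_sigmaMap (j : ι) :
    IsPullback (Sigma.ι X₀ j) (i j) (Limits.Sigma.map i) (Sigma.ι X j) := by
  have hr : ∀ s : PullbackCone (Limits.Sigma.map i) (Sigma.ι X j),
      Set.range s.fst ⊆ Set.range (Sigma.ι X₀ j) := by
    rintro s _ ⟨w, rfl⟩
    obtain ⟨k, x, hx⟩ := exists_sigmaι_eq X₀ (s.fst w)
    have h1 : (Limits.Sigma.map i) (s.fst w) = Sigma.ι X j (s.snd w) := by
      rw [← Scheme.Hom.comp_apply, ← Scheme.Hom.comp_apply, s.condition]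
    rw [← hx, sigmaMap_ι_apply] at h1
    obtain ⟨rfl⟩ : k = j := by
      have := (sigmaι_eq_iff X k j _ _).mp h1
      exact (Sigma.mk.inj_iff.mp this).1
    exact ⟨x, hx⟩
  refine ⟨⟨Sigma.ι_map ..⟩, ⟨PullbackCone.IsLimit.mk _
    (fun s => IsOpenImmersion.lift (Sigma.ι X₀ j) s.fst (hr s)) ?_ ?_ ?_⟩⟩
  · intro s
    exact IsOpenImmersion.lift_fac _ _ _
  · intro s
    rw [← cancel_mono (Sigma.ι X j), Category.assoc, ← Sigma.ι_map, ← Category.assoc,
      IsOpenImmersion.lift_fac, s.condition]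
  · intro s m h1 h2
    rw [← cancel_mono (Sigma.ι X₀ j), h1, IsOpenImmersion.lift_fac]

lemma isClosedImmersion_sigmaι (j : ι) : IsClosedImmersion (Sigma.ι X j) := by
  refine .of_isPreimmersion _ ?_
  rw [← isOpen_compl_iff]
  have : (Set.range (Sigma.ι X j))ᶜ = ⋃ k ∈ {k | k ≠ j}, Set.range (Sigma.ι X k) := by
    ext t
    simp only [Set.mem_compl_iff, Set.mem_range, not_exists, ne_eq, Set.mem_ofPred_eq,
      Set.mem_iUnion, exists_prop]
    constructor
    · intro h
      obtain ⟨k, x, hx⟩ := exists_sigmaι_eq X t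
      refine ⟨k, ?_, x, hx⟩
      rintro rfl
      exact h x hx
    · rintro ⟨k, hk, x, rfl⟩ y hy
      have := (sigmaι_eq_iff X j k _ _).mp hy
      exact hk (Sigma.mk.inj_iff.mp this).1.symm
  rw [this]
  exact isOpen_biUnion fun k _ => (Sigma.ι X k).isOpenEmbedding.isOpen_range

/-- transfer of the clopen lifting property along an isomorphism -/
lemma transfer {P P' Y : Scheme.{u}} (e : P ≅ P') (f : P ⟶ Y) (f' : P' ⟶ Y)
    (h : e.hom ≫ f' = f)
    (H : ∀ V' : Set ↥P', IsClopen V' → ∃! U : Set ↥Y, IsClopen U ∧ f'.base ⁻¹' U = V') :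
    ∀ V : Set ↥P, IsClopen V → ∃! U : Set ↥Y, IsClopen U ∧ f.base ⁻¹' U = V := by
  intro V hV
  have hinv : ∀ x, e.inv.base (e.hom.base x) = x := fun x => by
    rw [← Scheme.Hom.comp_apply, e.hom_inv_id]; rfl
  have hinv' : ∀ x, e.hom.base (e.inv.base x) = x := fun x => by
    rw [← Scheme.Hom.comp_apply, e.inv_hom_id]; rfl
  have key : ∀ U : Set ↥Y, f.base ⁻¹' U = V ↔ f'.base ⁻¹' U = e.inv.base ⁻¹' V := by
    intro U
    subst h
    constructor
    · intro hU
      ext x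
      rw [← hU]
      simp only [Set.mem_preimage, Scheme.Hom.comp_apply, hinv']
    · intro hU
      ext x
      have := Set.ext_iff.mp hU (e.hom.base x)
      simp only [Set.mem_preimage, hinv] at this
      simpa using this
  obtain ⟨U, ⟨hU1, hU2⟩, hU3⟩ := H (e.inv.base ⁻¹' V) (hV.preimage e.inv.base.hom.continuous)
  refine ⟨U, ⟨hU1, (key U).mpr hU2⟩, ?_⟩
  rintro U' ⟨h1, h2⟩
  exact hU3 U' ⟨h1, (key U').mp h2⟩


/-- the iso `pullback g (i j) ≅ pullback (g ≫ ι_j) (Sigma.map i)` -/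
lemma isPullback_comp (j : ι) {Y : Scheme.{u}} (g : Y ⟶ X j) :
    IsPullback (pullback.fst g (i j)) (pullback.snd g (i j) ≫ Sigma.ι X₀ j)
      (g ≫ Sigma.ι X j) (Limits.Sigma.map i) :=
  (IsPullback.of_hasPullback g (i j)).paste_vert (isPullback_sigmaMap X X₀ i j).flip

lemma range_of_isPullback {P' P Y' Y : Scheme.{u}} {b : P' ⟶ P} {f' : P' ⟶ Y'} {f : P ⟶ Y}
    {a : Y' ⟶ Y} (sq : IsPullback b f' f a) :
    Set.range b = f ⁻¹' Set.range a := by
  rw [← Scheme.Pullback.range_fst, ← sq.isoPullback_hom_fst, Scheme.Hom.comp_base,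
    TopCat.coe_comp, Set.range_comp]
  have : Function.Surjective sq.isoPullback.hom := sq.isoPullback.hom.surjective
  rw [this.range_eq, Set.image_univ]

theorem forward
    (H : ∀ (Y : Scheme.{u}) (g : Y ⟶ ∐ X), IsFinite g →
      ∀ V : Set ↥(pullback g (Limits.Sigma.map i)), IsClopen V →
        ∃! U : Set ↥Y, IsClopen U ∧ (pullback.fst g (Limits.Sigma.map i)).base ⁻¹' U = V)
    (j : ι) (Y : Scheme.{u}) (g : Y ⟶ X j) (hg : IsFinite g) :
    ∀ V : Set ↥(pullback g (i j)), IsClopen V →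
        ∃! U : Set ↥Y, IsClopen U ∧ (pullback.fst g (i j)).base ⁻¹' U = V := by
  have := isClosedImmersion_sigmaι X j
  have sq := isPullback_comp X X₀ i j g
  exact transfer sq.isoPullback _ _ sq.isoPullback_hom_fst
    (H Y (g ≫ Sigma.ι X j) inferInstance)


theorem backward
    (H : ∀ j : ι, ∀ (Y : Scheme.{u}) (g : Y ⟶ X j), IsFinite g →
      ∀ V : Set ↥(pullback g (i j)), IsClopen V →
        ∃! U : Set ↥Y, IsClopen U ∧ (pullback.fst g (i j)).base ⁻¹' U = V)
    (Y : Scheme.{u}) (g : Y ⟶ ∐ X) (hg : IsFinite g)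
    (V : Set ↥(pullback g (Limits.Sigma.map i))) (hV : IsClopen V) :
    ∃! U : Set ↥Y, IsClopen U ∧ (pullback.fst g (Limits.Sigma.map i)).base ⁻¹' U = V := by
  let a : ∀ j, pullback g (Sigma.ι X j) ⟶ Y := fun j => pullback.fst _ _
  let gj : ∀ j, pullback g (Sigma.ι X j) ⟶ X j := fun j => pullback.snd _ _
  have hagj : ∀ j, a j ≫ g = gj j ≫ Sigma.ι X j := fun j => pullback.condition
  have hfin : ∀ j, IsFinite (gj j) := fun j =>
    MorphismProperty.of_isPullback (P := @IsFinite) (IsPullback.of_hasPullback g (Sigma.ι X j)) hg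
  let b : ∀ j, pullback (gj j) (i j) ⟶ pullback g (Limits.Sigma.map i) := fun j =>
    pullback.lift (pullback.fst _ _ ≫ a j) (pullback.snd _ _ ≫ Sigma.ι X₀ j) (by
      rw [Category.assoc, hagj, ← Category.assoc, pullback.condition, Category.assoc,
        Category.assoc, Sigma.ι_map])
  have hb1 : ∀ j, b j ≫ pullback.fst g (Limits.Sigma.map i) = pullback.fst (gj j) (i j) ≫ a j :=
    fun j => pullback.lift_fst _ _ _
  have hb2 : ∀ j, b j ≫ pullback.snd g (Limits.Sigma.map i) =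
      pullback.snd (gj j) (i j) ≫ Sigma.ι X₀ j := fun j => pullback.lift_snd _ _ _
  have sqb : ∀ j, IsPullback (b j) (pullback.fst (gj j) (i j))
      (pullback.fst g (Limits.Sigma.map i)) (a j) := by
    intro j
    refine IsPullback.of_right ?_ (hb1 j) (IsPullback.of_hasPullback g (Limits.Sigma.map i)).flip
    rw [hb2, hagj]
    exact (isPullback_comp X X₀ i j (gj j)).flip
  have hrb : ∀ j, Set.range (b j) = (pullback.fst g (Limits.Sigma.map i)) ⁻¹' Set.range (a j) :=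
    fun j => range_of_isPullback (sqb j)
  -- cover
  have hcov : ∀ y : Y, ∃ j, y ∈ Set.range (a j) := by
    intro y
    obtain ⟨j, x, hx⟩ := exists_sigmaι_eq X (g y)
    refine ⟨j, ?_⟩
    rw [Scheme.Pullback.range_fst]
    exact ⟨x, hx⟩
  have hidx : ∀ j k (z : ↥(pullback g (Sigma.ι X j))) (z' : ↥(pullback g (Sigma.ι X k))),
      a j z = a k z' → j = k := by
    intro j k z z' h
    have h1 : g (a j z) = Sigma.ι X j (gj j z) := by
      rw [← Scheme.Hom.comp_apply, ← Scheme.Hom.comp_apply, hagj]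
    have h2 : g (a k z') = Sigma.ι X k (gj k z') := by
      rw [← Scheme.Hom.comp_apply, ← Scheme.Hom.comp_apply, hagj]
    rw [h, h2] at h1
    exact ((Sigma.mk.inj_iff.mp ((sigmaι_eq_iff X k j _ _).mp h1)).1).symm
  have hinj : ∀ j, Function.Injective (a j) := fun j => (a j).isOpenEmbedding.injective
  -- the local solutions
  have hVj : ∀ j, IsClopen ((b j).base ⁻¹' V) := fun j => hV.preimage (b j).base.hom.continuous
  choose Uj hUj hUj' using fun j => H j _ (gj j) (hfin j) _ (hVj j)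
  let U : Set ↥Y := {y | ∃ j, ∃ z, a j z = y ∧ z ∈ Uj j}
  have hpre : ∀ j, (a j).base ⁻¹' U = Uj j := by
    intro j
    ext z
    constructor
    · rintro ⟨k, z', h1, h2⟩
      obtain rfl := hidx k j z' z h1
      rwa [← hinj k h1]
    · intro hz
      exact ⟨j, z, rfl, hz⟩
  have hUo : IsOpen U := by
    have : U = ⋃ j, (a j) '' (Uj j) := by
      ext y
      simp only [U, Set.mem_iUnion, Set.mem_image, Set.mem_ofPred_eq]
      constructor
      · rintro ⟨j, z, h1, h2⟩; exact ⟨j, z, h2, h1⟩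
      · rintro ⟨j, z, h2, h1⟩; exact ⟨j, z, h1, h2⟩
    rw [this]
    exact isOpen_iUnion fun j => (a j).isOpenEmbedding.isOpenMap _ (hUj j).1.2
  have hUc : IsClosed U := by
    rw [← isOpen_compl_iff]
    have : Uᶜ = ⋃ j, (a j) '' (Uj j)ᶜ := by
      ext y
      simp only [Set.mem_iUnion, Set.mem_image, Set.mem_compl_iff]
      constructor
      · intro hy
        obtain ⟨j, z, rfl⟩ := hcov y
        refine ⟨j, z, ?_, rfl⟩
        intro hz
        exact hy ⟨j, z, rfl, hz⟩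
      · rintro ⟨j, z, hz, rfl⟩ hy
        apply hz
        rw [← hpre j]
        exact hy
    rw [this]
    exact isOpen_iUnion fun j => (a j).isOpenEmbedding.isOpenMap _ (hUj j).1.1.isOpen_compl
  have hfstU : ∀ U' : Set ↥Y, (∀ j, (a j).base ⁻¹' U' = Uj j) →
      (pullback.fst g (Limits.Sigma.map i)).base ⁻¹' U' = V := by
    intro U' hU'
    ext p
    obtain ⟨j, hj⟩ := hcov ((pullback.fst g (Limits.Sigma.map i)) p)
    have hp : p ∈ Set.range (b j) := by rw [hrb]; exact hj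
    obtain ⟨q, rfl⟩ := hp
    have e1 : (pullback.fst g (Limits.Sigma.map i)) ((b j) q) =
        a j ((pullback.fst (gj j) (i j)) q) := by
      rw [← Scheme.Hom.comp_apply, ← Scheme.Hom.comp_apply, hb1]
    have e2 := Set.ext_iff.mp (hUj j).2 q
    have e3 := Set.ext_iff.mp (hU' j) ((pullback.fst (gj j) (i j)) q)
    simp only [Set.mem_preimage] at e2 e3 ⊢
    change (pullback.fst g (Limits.Sigma.map i)) ((b j) q) ∈ U' ↔ (b j) q ∈ V
    rw [e1]
    exact e3.trans e2
  refine ⟨U, ⟨⟨hUc, hUo⟩, hfstU U hpre⟩, ?_⟩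
  rintro U' ⟨hU'1, hU'2⟩
  have hpre' : ∀ j, (a j).base ⁻¹' U' = Uj j := by
    intro j
    refine hUj' j _ ⟨hU'1.preimage (a j).base.hom.continuous, ?_⟩
    rw [← hU'2]
    ext q
    simp only [Set.mem_preimage]
    change a j ((pullback.fst (gj j) (i j)) q) ∈ U' ↔
      (pullback.fst g (Limits.Sigma.map i)) ((b j) q) ∈ U'
    rw [← Scheme.Hom.comp_apply, ← Scheme.Hom.comp_apply, hb1]
  ext y
  obtain ⟨j, z, rfl⟩ := hcov y
  have e1 := Set.ext_iff.mp (hpre j) z
  have e2 := Set.ext_iff.mp (hpre' j) z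
  simp only [Set.mem_preimage] at e1 e2
  exact e2.trans e1.symm

end Groth.Agent.Lib.Helper14.SigmaHens
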