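import Groth.Agent.S1550
import Groth.Agent.Lib.Helper1.GeomIrrGeneric
import Groth.Agent.Lib.Helper14.GrpSep
import Groth.Agent.Lib.Helper14.AlgSpPoints

/-!
# Density of finite separable points on smooth algebraic spaces over a field (helper14)
-/

universe u
open CategoryTheory CategoryTheory.Limits AlgebraicGeometry Opposite
open AlgSp

attribute [local instance] Curv2.resAlgebra

namespace Groth.Agent.Lib.Helper14.AS

set_option backward.isDefEq.respectTransparency.types false in
theorem dense_finite_separable_points (k : Type u) [Field k] {X : Sp (Spec (CommRingCat.of k))}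
    (hX : IsAlgSpace X)
    (p : X ⟶ (yon (Spec (CommRingCat.of k))).obj (Over.mk (𝟙 _))) (hp : LocP @Smooth p) :
    Dense {x : Points X | ∃ (k' : Type u) (_ : Field k') (_ : Algebra k k'),
      Module.Finite k k' ∧ Algebra.IsSeparable k k' ∧
        ∃ v : X.obj.obj (Opposite.op (Over.mk (Spec.map (CommRingCat.ofHom (algebraMap k k'))))),
          Points.mk ⟨k', Spec.map (CommRingCat.ofHom (algebraMap k k')), v⟩ = x} := by
  obtain ⟨U, a, hae, has⟩ := hX.atlas
  let h : U ⟶ Over.mk (𝟙 (Spec (CommRingCat.of k))) := Over.homMk U.hom (by simp)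
  have comm : a ≫ p = (yon _).map h ≫ 𝟙 _ := yon_terminal_subterminal _ _
  have hsm : Smooth U.hom := hp a (𝟙 _) h hae (repWith_id _ _) comm
  let _ : U.left.Over (Spec (CommRingCat.of k)) := ⟨U.hom⟩
  have : Smooth (U.left ↘ Spec (CommRingCat.of k)) := hsm
  have hD := Groth.Agent.S1550.result k U.left
  have hsurj : Function.Surjective (Points.ofPt a) := ofPt_surjective_of_repWith has
  have hcont : Continuous (Points.ofPt a) := Points.continuous_ofPt a
  have hD' := hsurj.denseRange.dense_image hcont hD
  refine hD'.mono ?_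
  rintro _ ⟨u, ⟨-, hfin, hsep⟩, rfl⟩
  refine ⟨↑(U.left.residueField u), inferInstance, Curv2.resAlgebra k U.left u, hfin, hsep, ?_⟩
  have hstr : Spec.map (CommRingCat.ofHom (algebraMap k ↑(U.left.residueField u))) =
      U.left.fromSpecResidueField u ≫ U.hom :=
    Groth.Agent.Lib.Helper1.GeomIrrGeneric.specMap_resMap k U.left u
  let b' : Over.mk (Spec.map (CommRingCat.ofHom (algebraMap k ↑(U.left.residueField u)))) ⟶
      (FieldPt.ofPt a u).pt := Over.homMk (𝟙 _) (by
    exact (Category.id_comp _).trans hstr.symm)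
  refine ⟨X.obj.map b'.op (FieldPt.ofPt a u).val, ?_⟩
  refine Points.sound ⟨↑(U.left.residueField u), inferInstance,
    Spec.map (CommRingCat.ofHom (algebraMap k ↑(U.left.residueField u))), 𝟙 _, b', ?_⟩
  simp

end Groth.Agent.Lib.Helper14.AS
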