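import Groth.Agent.Lib.Helper14.FlatRelDim
import Groth.Agent.S2768

universe u
open CategoryTheory CategoryTheory.Limits AlgebraicGeometry Opposite Topology

namespace Groth.Agent.Lib.Helper14.AS
open AlgSp

theorem exists_openImmersion_smoothOfRelDim {U V : Scheme.{u}} (h : U ⟶ V) [Smooth h] (u : ↥U) :
    ∃ (U' : Scheme.{u}) (j : U' ⟶ U) (u' : ↥U') (n : ℕ), IsOpenImmersion j ∧ j u' = u ∧
      SmoothOfRelativeDimension n (j ≫ h) := by
  obtain ⟨U₀, hU₀, V₀, hV₀, huV₀, e, hstd⟩ := Smooth.exists_isStandardSmooth h u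
  algebraize [(h.appLE U₀ V₀ e).hom]
  obtain ⟨ι, σ, _, _, ⟨P⟩⟩ := (‹Algebra.IsStandardSmooth _ _› : Algebra.IsStandardSmooth Γ(V, U₀) Γ(U, V₀))
  have hn : Algebra.IsStandardSmoothOfRelativeDimension P.dimension Γ(V, U₀) Γ(U, V₀) :=
    ⟨ι, σ, inferInstance, inferInstance, P, rfl⟩
  have h1 : SmoothOfRelativeDimension P.dimension (Spec.map (h.appLE U₀ V₀ e)) := by
    rw [HasRingHomProperty.Spec_iff (P := @SmoothOfRelativeDimension P.dimension)]
    apply RingHom.locally_of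
    · exact RingHom.isStandardSmoothOfRelativeDimension_respectsIso
    · exact hn
  have h2 : SmoothOfRelativeDimension (P.dimension + 0) (Spec.map (h.appLE U₀ V₀ e) ≫ hU₀.fromSpec) :=
    inferInstance
  rw [IsAffineOpen.SpecMap_appLE_fromSpec h hU₀ hV₀ e] at h2
  have hmem : u ∈ Set.range hV₀.fromSpec := by
    rw [hV₀.range_fromSpec]
    exact huV₀
  obtain ⟨u', hu'⟩ := hmem
  exact ⟨_, hV₀.fromSpec, u', _, inferInstance, hu', h2⟩

end Groth.Agent.Lib.Helper14.AS
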