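import Mathlib
import Groth.Agent.Lib.Helper9.SpFibGor

open AlgebraicGeometry CategoryTheory Limits IsLocalRing

namespace Groth.Agent.Lib.Helper14.SpFibUnif

universe u

/-- the stalk of a reduced scheme at the generic point of an irreducible component has trivial
maximal ideal -/
theorem maximalIdeal_stalk_eq_bot_of_irreducibleComponent (Z : Scheme.{u}) [IsReduced Z] (ξ : Z)
    (hξ : closure ({ξ} : Set Z) ∈ irreducibleComponents Z) :
    maximalIdeal (Z.presheaf.stalk ξ) = ⊥ := by
  -- generizations of ξ are ξ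
  have hgen : ∀ z : Z, z ⤳ ξ → z = ξ := by
    intro z hz
    have h1 : closure ({ξ} : Set Z) ⊆ closure {z} := specializes_iff_closure_subset.mp hz
    have h2 : IsIrreducible (closure ({z} : Set Z)) := isIrreducible_singleton.closure
    have h3 : closure ({z} : Set Z) = closure {ξ} := hξ.eq_of_ge h2 h1
    have hz' : IsGenericPoint z (closure ({ξ} : Set Z)) := h3
    have hξ' : IsGenericPoint ξ (closure ({ξ} : Set Z)) := rfl
    exact hz'.eq hξ'
  -- the spectrum of the stalk is a subsingleton
  have hsub : ∀ p q : PrimeSpectrum (Z.presheaf.stalk ξ), p = q := by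
    intro p q
    have hinj : Function.Injective (Z.fromSpecStalk ξ) :=
      (Z.fromSpecStalk ξ).isEmbedding.injective
    apply hinj
    have hp : (Z.fromSpecStalk ξ) p ∈ {y | y ⤳ ξ} := by
      rw [← Scheme.range_fromSpecStalk]; exact ⟨p, rfl⟩
    have hq : (Z.fromSpecStalk ξ) q ∈ {y | y ⤳ ξ} := by
      rw [← Scheme.range_fromSpecStalk]; exact ⟨q, rfl⟩
    rw [hgen _ hp, hgen _ hq]
  -- maximal ideal = nilradical = ⊥
  have hred : _root_.IsReduced (Z.presheaf.stalk ξ) := inferInstance
  have hnil : nilradical (Z.presheaf.stalk ξ) = ⊥ := nilradical_eq_zero _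
  rw [← hnil, nilradical_eq_sInf]
  apply le_antisymm
  · apply le_sInf
    intro J hJ
    have : (⟨J, hJ⟩ : PrimeSpectrum (Z.presheaf.stalk ξ)) =
        ⟨maximalIdeal _, (maximalIdeal.isMaximal _).isPrime⟩ := hsub _ _
    have hJ' : J = maximalIdeal _ := congrArg PrimeSpectrum.asIdeal this
    rw [hJ']
  · exact sInf_le (maximalIdeal.isMaximal _).isPrime

theorem main
    (R : Type u) [CommRing R] [IsDomain R] [IsDiscreteValuationRing R]
    (X : Scheme.{u}) (f : X ⟶ Spec (CommRingCat.of R))
    (Xs : Scheme.{u}) (gs : Xs ⟶ X) (fs : Xs ⟶ Spec (CommRingCat.of (IsLocalRing.ResidueField R)))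
    (hs : IsPullback gs fs f (Spec.map (CommRingCat.ofHom (IsLocalRing.residue R))))
    [IsReduced Xs]
    (ξ : Xs) (hξ : closure ({ξ} : Set Xs) ∈ irreducibleComponents Xs)
    (B : Type u) [CommRing B] [IsLocalRing B] [Algebra R B]
    (e : X.presheaf.stalk (gs.base ξ) ≅ CommRingCat.of B)
    (he : e.hom.hom.comp ((X.presheaf.germ ⊤ (gs.base ξ) trivial).hom.comp
      ((f.appTop).hom.comp (Scheme.ΓSpecIso (CommRingCat.of R)).inv.hom)) = algebraMap R B) :
    IsLocalRing.maximalIdeal B = Ideal.map (algebraMap R B) (IsLocalRing.maximalIdeal R) := by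
  obtain ⟨θ, hθ⟩ := Groth.Agent.Lib.Helper9.SpFibGor.exists_iso_fromSpecResidueField R
  let cp := Groth.Agent.Lib.Helper9.SpFibGor.cp R
  have sq : IsPullback gs (fs ≫ θ.hom) f ((Spec (CommRingCat.of R)).fromSpecResidueField cp) :=
    IsPullback.of_iso hs (Iso.refl _) (Iso.refl _) θ (Iso.refl _) (by simp) (by simp) (by simp)
      (by simp only [Iso.refl_hom, Category.comp_id]; exact hθ.symm)
  obtain ⟨h1, h2⟩ := Groth.Agent.Lib.Helper14.AS.stalkMap_fibre_surjective_ker f cp
    gs (fs ≫ θ.hom) sq ξ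
  have hy : f (gs ξ) = cp := by
    have h3 : f (gs ξ) =
        ((Spec (CommRingCat.of R)).fromSpecResidueField cp) ((fs ≫ θ.hom) ξ) := by
      rw [← Scheme.Hom.comp_apply, ← Scheme.Hom.comp_apply, sq.w]
    rw [h3, Scheme.fromSpecResidueField_apply]
  -- the kernel of the stalk map is the maximal ideal
  have hbot := maximalIdeal_stalk_eq_bot_of_irreducibleComponent Xs ξ hξ
  have hker : RingHom.ker (gs.stalkMap ξ).hom = maximalIdeal (X.presheaf.stalk (gs ξ)) := by
    have hmax : (RingHom.ker (gs.stalkMap ξ).hom).IsMaximal := by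
      have hF : IsField (Xs.presheaf.stalk ξ) :=
        IsLocalRing.isField_iff_maximalIdeal_eq.mpr hbot
      let _ := hF.toField
      exact RingHom.ker_isMaximal_of_surjective _ h1
    exact IsLocalRing.eq_maximalIdeal hmax
  -- the maximal ideal of the stalk of Spec R at the closed point
  have hyI : (f (gs ξ) : PrimeSpectrum R).asIdeal = maximalIdeal R := congrArg PrimeSpectrum.asIdeal hy
  have : (f (gs ξ) : PrimeSpectrum R).asIdeal.IsPrime := (f (gs ξ) : PrimeSpectrum R).isPrime
  let _ : Algebra R ((Spec (CommRingCat.of R)).presheaf.stalk (f (gs ξ))) :=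
    StructureSheaf.stalkAlgebra (R := R) (f (gs ξ))
  have hloc : IsLocalization.AtPrime ((Spec (CommRingCat.of R)).presheaf.stalk (f (gs ξ))) (f (gs ξ) : PrimeSpectrum R).asIdeal :=
    StructureSheaf.IsLocalization.to_stalk (R := R) (f (gs ξ))
  have hmT : maximalIdeal ((Spec (CommRingCat.of R)).presheaf.stalk (f (gs ξ))) =
      Ideal.map (algebraMap R ((Spec (CommRingCat.of R)).presheaf.stalk (f (gs ξ)))) (maximalIdeal R) := by
    rw [← IsLocalization.AtPrime.map_eq_maximalIdeal (f (gs ξ) : PrimeSpectrum R).asIdeal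
      ((Spec (CommRingCat.of R)).presheaf.stalk (f (gs ξ))), hyI]
  -- compatibility of the two maps R → stalk x
  have hcompat : (f.stalkMap (gs ξ)).hom.comp
      (algebraMap R ((Spec (CommRingCat.of R)).presheaf.stalk (f (gs ξ)))) =
      (X.presheaf.germ ⊤ (gs ξ) trivial).hom.comp
        ((f.appTop).hom.comp (Scheme.ΓSpecIso (CommRingCat.of R)).inv.hom) := by
    have hg := Scheme.Hom.germ_stalkMap f ⊤ (gs ξ) trivial
    ext r
    have := congr($(hg).hom ((Scheme.ΓSpecIso (CommRingCat.of R)).inv.hom r))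
    exact this
  have hmx : maximalIdeal (X.presheaf.stalk (gs ξ)) =
      Ideal.map ((X.presheaf.germ ⊤ (gs ξ) trivial).hom.comp
        ((f.appTop).hom.comp (Scheme.ΓSpecIso (CommRingCat.of R)).inv.hom)) (maximalIdeal R) := by
    rw [← hker, h2, hmT, Ideal.map_map, hcompat]
  -- transport along e
  have hebij : Function.Bijective e.hom.hom := ConcreteCategory.bijective_of_isIso e.hom
  have hmB : maximalIdeal B = Ideal.map e.hom.hom (maximalIdeal (X.presheaf.stalk (gs ξ))) := by
    let ee : (X.presheaf.stalk (gs ξ)) ≃+* B := RingEquiv.ofBijective e.hom.hom hebij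
    have : Ideal.map e.hom.hom (maximalIdeal (X.presheaf.stalk (gs ξ))) =
        Ideal.map (ee : (X.presheaf.stalk (gs ξ)) →+* B) (maximalIdeal (X.presheaf.stalk (gs ξ))) := rfl
    rw [this]
    exact (IsLocalRing.map_ringEquiv_maximalIdeal ee).symm
  rw [hmB, hmx, Ideal.map_map, he]

end Groth.Agent.Lib.Helper14.SpFibUnif
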