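import Groth.Agent.Lib.Helper10.FibreProductStalk

universe u
set_option linter.style.haveILetI false
open CategoryTheory CategoryTheory.Limits AlgebraicGeometry Opposite Topology IsLocalRing
open scoped TensorProduct

namespace Groth.Agent.Lib.Helper14.AS
open Groth.Agent.Lib.Helper10.FibreProductStalk

variable {X S X' S' : Scheme.{u}} {f : X ⟶ S} {f' : X' ⟶ S'} {g' : X' ⟶ X} {g : S' ⟶ S}

set_option backward.isDefEq.respectTransparency.types false in
/-- **The local ring of a fibre product is a localization of the tensor product of the local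
rings**: abstract form.  Let `L` be a local ring with a local homomorphism `φL : L → O_{X',x'}`
and ring maps `iA : O_{S',s'} → L`, `iB : O_{X,x} → L` agreeing on `O_{S,s}` and lifting the
stalk maps. If `L` is generated by the images of `iA`, `iB` in the sense that ring maps out of
`L` are determined by their composites with `iA`, `iB`, then `φL` is bijective. -/
theorem bijective_of_local_lift (hc : IsPullback g' f' f g) (x' : X')
    (L : CommRingCat.{u}) [IsLocalRing L]
    (φL : L ⟶ X'.presheaf.stalk x') [IsLocalHom φL.hom]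
    (iA : S'.presheaf.stalk (f' x') ⟶ L) (iB : X.presheaf.stalk (g' x') ⟶ L)
    (hAB : baseStalkMap hc x' ≫ iA = f.stalkMap (g' x') ≫ iB)
    (hA : iA ≫ φL = f'.stalkMap x') (hB : iB ≫ φL = g'.stalkMap x')
    (hext : ∀ (ρ : L ⟶ L), iA ≫ ρ = iA → iB ≫ ρ = iB → ρ = 𝟙 L) :
    Function.Bijective φL.hom := by
  -- the morphism `Spec L ⟶ X'`
  have hcomm : (Spec.map iB ≫ X.fromSpecStalk (g' x')) ≫ f =
      (Spec.map iA ≫ S'.fromSpecStalk (f' x')) ≫ g := by
    rw [Category.assoc, Category.assoc, ← Scheme.SpecMap_stalkMap_fromSpecStalk f,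
      ← SpecMap_baseStalkMap_fromSpecStalk hc x', ← Category.assoc, ← Category.assoc,
      ← Spec.map_comp, ← Spec.map_comp, hAB]
  obtain ⟨c, hc1, hc2⟩ : ∃ c : Spec L ⟶ X', c ≫ g' = Spec.map iB ≫ X.fromSpecStalk (g' x') ∧
      c ≫ f' = Spec.map iA ≫ S'.fromSpecStalk (f' x') :=
    ⟨hc.lift _ _ hcomm, hc.lift_fst _ _ _, hc.lift_snd _ _ _⟩
  -- key fact
  have hK : Spec.map φL ≫ c = X'.fromSpecStalk x' := by
    apply hc.hom_ext
    · rw [Category.assoc, hc1, ← Category.assoc, ← Spec.map_comp, hB,
        Scheme.SpecMap_stalkMap_fromSpecStalk]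
    · rw [Category.assoc, hc2, ← Category.assoc, ← Spec.map_comp, hA,
        Scheme.SpecMap_stalkMap_fromSpecStalk]
  have hx : c (closedPoint L) = x' := by
    have h1 : (Spec.map φL ≫ c) (closedPoint (X'.presheaf.stalk x')) = x' := by
      rw [hK]
      exact Scheme.fromSpecStalk_closedPoint
    rw [Scheme.Hom.comp_apply, Spec_closedPoint] at h1
    exact h1
  -- the inverse
  obtain ⟨ν, hν⟩ : ∃ ν : X'.presheaf.stalk x' ⟶ L, Spec.map ν ≫ X'.fromSpecStalk x' = c := by
    refine ⟨(X'.presheaf.stalkCongr (.of_eq hx.symm)).hom ≫ Scheme.stalkClosedPointTo c, ?_⟩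
    rw [Spec.map_comp, Category.assoc]
    have h1 : Spec.map (X'.presheaf.stalkCongr (.of_eq hx.symm)).hom ≫ X'.fromSpecStalk x' =
        X'.fromSpecStalk (c (closedPoint L)) :=
      Scheme.SpecMap_stalkSpecializes_fromSpecStalk (Inseparable.of_eq hx.symm).ge
    rw [h1]
    exact Scheme.Spec_stalkClosedPointTo_fromSpecStalk c
  have h1 : ν ≫ φL = 𝟙 _ := by
    apply Spec.map_injective
    rw [← cancel_mono (X'.fromSpecStalk x'), Spec.map_comp, Category.assoc, hν, hK, Spec.map_id,
      Category.id_comp]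
  have h2 : φL ≫ ν = 𝟙 L := by
    apply hext
    · rw [← Category.assoc, hA]
      apply Spec.map_injective
      rw [← cancel_mono (S'.fromSpecStalk (f' x')), Spec.map_comp, Category.assoc,
        Scheme.SpecMap_stalkMap_fromSpecStalk, ← Category.assoc, hν, hc2]
    · rw [← Category.assoc, hB]
      apply Spec.map_injective
      rw [← cancel_mono (X.fromSpecStalk (g' x')), Spec.map_comp, Category.assoc,
        Scheme.SpecMap_stalkMap_fromSpecStalk, ← Category.assoc, hν, hc1]
  have hiso : IsIso φL := ⟨ν, h2, h1⟩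
  exact ConcreteCategory.bijective_of_isIso φL

section alg

variable {A A' B Bp : Type u} [CommRing A] [CommRing A'] [CommRing B] [CommRing Bp]
  [Algebra A A'] [Algebra A B] [IsLocalRing Bp] (φ : A' ⊗[A] B →+* Bp)

/-- the prime of the tensor product under the maximal ideal -/
abbrev tpQ : Ideal (A' ⊗[A] B) := Ideal.comap φ (maximalIdeal Bp)

theorem tp_unit (y : (tpQ φ).primeCompl) : IsUnit (φ y) :=
  IsLocalRing.notMem_maximalIdeal.mp y.2

/-- the induced map from the localization -/
noncomputable def tpL : Localization.AtPrime (tpQ φ) →+* Bp :=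
  IsLocalization.lift (M := (tpQ φ).primeCompl) (g := φ) (tp_unit φ)

theorem tpL_algebraMap (t : A' ⊗[A] B) : tpL φ (algebraMap _ _ t) = φ t :=
  IsLocalization.lift_eq _ t

theorem isLocalHom_tpL : IsLocalHom (tpL φ) := by
  refine ⟨fun x hx => ?_⟩
  obtain ⟨a, s, rfl⟩ := IsLocalization.exists_mk'_eq (tpQ φ).primeCompl x
  have h1 : tpL φ (IsLocalization.mk' _ a s) * φ s = φ a := by
    rw [← tpL_algebraMap φ (s : A' ⊗[A] B), ← map_mul, IsLocalization.mk'_spec, tpL_algebraMap]
  have h2 : IsUnit (φ a) := by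
    rw [← h1]; exact hx.mul (tp_unit φ s)
  rw [IsLocalization.AtPrime.isUnit_mk'_iff]
  intro ha
  exact (IsLocalRing.mem_maximalIdeal _).mp ha h2

/-- `A' → L` -/
noncomputable def tpA : A' →+* Localization.AtPrime (tpQ φ) :=
  (algebraMap (A' ⊗[A] B) (Localization.AtPrime (tpQ φ))).comp
    Algebra.TensorProduct.includeLeftRingHom

/-- `B → L` -/
noncomputable def tpB : B →+* Localization.AtPrime (tpQ φ) :=
  (algebraMap (A' ⊗[A] B) (Localization.AtPrime (tpQ φ))).comp
    (Algebra.TensorProduct.includeRight : B →ₐ[A] A' ⊗[A] B).toRingHom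

theorem tpA_comp : (tpA φ).comp (algebraMap A A') = (tpB φ).comp (algebraMap A B) := by
  ext a
  change algebraMap _ (Localization.AtPrime (tpQ φ)) ((algebraMap A A' a) ⊗ₜ[A] (1 : B)) =
    algebraMap _ (Localization.AtPrime (tpQ φ)) ((1 : A') ⊗ₜ[A] (algebraMap A B a))
  congr 1
  rw [Algebra.algebraMap_eq_smul_one, Algebra.algebraMap_eq_smul_one, TensorProduct.smul_tmul]

theorem tpL_tpA (a : A') : tpL φ (tpA φ a) = φ (a ⊗ₜ 1) := tpL_algebraMap φ _

theorem tpL_tpB (b : B) : tpL φ (tpB φ b) = φ (1 ⊗ₜ b) := tpL_algebraMap φ _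

theorem tp_ext (ρ : Localization.AtPrime (tpQ φ) →+* Localization.AtPrime (tpQ φ))
    (h1 : ρ.comp (tpA φ) = tpA φ) (h2 : ρ.comp (tpB φ) = tpB φ) : ρ = RingHom.id _ := by
  have key : ρ.comp (algebraMap (A' ⊗[A] B) (Localization.AtPrime (tpQ φ))) =
      algebraMap (A' ⊗[A] B) (Localization.AtPrime (tpQ φ)) := by
    apply Algebra.TensorProduct.ringHom_ext
    · exact h1
    · exact h2
  exact IsLocalization.ringHom_ext (tpQ φ).primeCompl (by rw [key, RingHom.id_comp])

theorem isLocalization_of_bijective_tpL (h : Function.Bijective (tpL φ)) :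
    letI := φ.toAlgebra
    IsLocalization.AtPrime Bp (tpQ φ) := by
  letI := φ.toAlgebra
  let e : Localization.AtPrime (tpQ φ) ≃ₐ[A' ⊗[A] B] Bp :=
    AlgEquiv.ofBijective { tpL φ with commutes' := fun t => tpL_algebraMap φ t } h
  exact IsLocalization.isLocalization_of_algEquiv (tpQ φ).primeCompl e

end alg

set_option backward.isDefEq.respectTransparency.types false in
/-- **The local ring of a fibre product is the localization of the tensor product of the local
rings** at the prime lying under the maximal ideal. -/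
theorem isLocalization_stalk_pullback (hc : IsPullback g' f' f g) (x' : X') :
    letI : Algebra (S.presheaf.stalk (f.base (g'.base x'))) (X.presheaf.stalk (g'.base x')) :=
      (f.stalkMap (g'.base x')).hom.toAlgebra
    letI : Algebra (S.presheaf.stalk (f.base (g'.base x'))) (S'.presheaf.stalk (f'.base x')) :=
      (baseStalkMap hc x').hom.toAlgebra
    ∀ (φ : (S'.presheaf.stalk (f'.base x')) ⊗[S.presheaf.stalk (f.base (g'.base x'))]
        (X.presheaf.stalk (g'.base x')) →+* X'.presheaf.stalk x'),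
      (∀ a, φ (a ⊗ₜ 1) = (f'.stalkMap x').hom a) →
      (∀ b, φ (1 ⊗ₜ b) = (g'.stalkMap x').hom b) →
      letI := φ.toAlgebra
      IsLocalization.AtPrime (X'.presheaf.stalk x') (tpQ φ) := by
  let _ : Algebra (S.presheaf.stalk (f.base (g'.base x'))) (X.presheaf.stalk (g'.base x')) :=
    (f.stalkMap (g'.base x')).hom.toAlgebra
  let _ : Algebra (S.presheaf.stalk (f.base (g'.base x'))) (S'.presheaf.stalk (f'.base x')) :=
    (baseStalkMap hc x').hom.toAlgebra
  intro φ hφ1 hφ2
  apply isLocalization_of_bijective_tpL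
  have hloc : IsLocalHom (tpL φ) := isLocalHom_tpL φ
  have hloc' : IsLocalHom (CommRingCat.ofHom (tpL φ)).hom := hloc
  refine bijective_of_local_lift hc x' (CommRingCat.of (Localization.AtPrime (tpQ φ)))
    (CommRingCat.ofHom (tpL φ)) (CommRingCat.ofHom (tpA φ)) (CommRingCat.ofHom (tpB φ))
    ?_ ?_ ?_ ?_
  · ext a
    exact congrArg (fun m => m a) (tpA_comp φ)
  · ext a
    change tpL φ (tpA φ a) = _
    rw [tpL_tpA, hφ1]
  · ext b
    change tpL φ (tpB φ b) = _
    rw [tpL_tpB, hφ2]
  · intro ρ h1 h2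
    ext z
    have := tp_ext φ ρ.hom (by ext a; exact congrArg (fun m => m.hom a) h1)
      (by ext b; exact congrArg (fun m => m.hom b) h2)
    exact congrArg (fun m => m z) this

end Groth.Agent.Lib.Helper14.AS
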