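import Mathlib

/-!
# Steinitz: conjugacy of embeddings into a large algebraically closed field (helper14)
-/

set_option autoImplicit false
universe u
open Cardinal

namespace Groth.Agent.Lib.Helper14.AS

theorem card_transcendenceBasis_eq {k K : Type u} [Field k] [Field K] [Algebra k K] [IsAlgClosed K]
    (h : max #k ℵ₀ < #K) {s : Set K} (hs : IsTranscendenceBasis k ((↑) : s → K)) : #s = #K := by
  apply le_antisymm (Cardinal.mk_set_le s)
  by_contra hlt
  push Not at hlt
  have h1 := IsAlgClosed.cardinal_le_max_transcendence_basis' (R := k) (K' := K) _ hs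
  have h2 : max (max #k #s) ℵ₀ < #K := by
    apply max_lt (max_lt ((le_max_left _ _).trans_lt h) hlt) ((le_max_right _ _).trans_lt h)
  exact absurd h1 (not_le.2 h2)

/-- Two algebraically closed extensions of `k` of the same cardinality, larger than that of `k`
and uncountable, are isomorphic over `k`. -/
theorem nonempty_algEquiv_of_isAlgClosed_of_card {k K₁ K₂ : Type u} [Field k] [Field K₁]
    [Field K₂] [Algebra k K₁] [Algebra k K₂] [IsAlgClosed K₁] [IsAlgClosed K₂]
    (h₁ : max #k ℵ₀ < #K₁) (h₂ : #K₁ = #K₂) : Nonempty (K₁ ≃ₐ[k] K₂) := by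
  obtain ⟨s₁, hs₁⟩ := exists_isTranscendenceBasis k K₁
  obtain ⟨s₂, hs₂⟩ := exists_isTranscendenceBasis k K₂
  have c₁ : #s₁ = #K₁ := card_transcendenceBasis_eq h₁ hs₁
  have c₂ : #s₂ = #K₂ := card_transcendenceBasis_eq (h₂ ▸ h₁) hs₂
  obtain ⟨e⟩ := Cardinal.eq.1 (c₁.trans (h₂.trans c₂.symm))
  let _ := IsAlgClosed.isAlgClosure_of_transcendence_basis _ hs₁
  let _ := IsAlgClosed.isAlgClosure_of_transcendence_basis _ hs₂
  let E : Algebra.adjoin k (Set.range ((↑) : s₁ → K₁)) ≃ₐ[k]
      Algebra.adjoin k (Set.range ((↑) : s₂ → K₂)) :=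
    hs₁.1.aevalEquiv.symm.trans ((MvPolynomial.renameEquiv k e).trans hs₂.1.aevalEquiv)
  let Φ : K₁ ≃+* K₂ := IsAlgClosure.equivOfEquiv K₁ K₂ E.toRingEquiv
  refine ⟨AlgEquiv.ofRingEquiv (f := Φ) fun c => ?_⟩
  rw [IsScalarTower.algebraMap_apply k (Algebra.adjoin k (Set.range ((↑) : s₁ → K₁))) K₁,
    IsScalarTower.algebraMap_apply k (Algebra.adjoin k (Set.range ((↑) : s₂ → K₂))) K₂]
  change IsAlgClosure.equivOfEquiv K₁ K₂ E.toRingEquiv _ = _
  rw [IsAlgClosure.equivOfEquiv_algebraMap]
  congr 1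
  exact E.commutes c

/-- Any two embeddings of a field into a sufficiently large algebraically closed field differ by
an automorphism. -/
theorem exists_ringEquiv_comp_eq {k k' : Type u} [Field k] [Field k'] [IsAlgClosed k']
    (h : max #k ℵ₀ < #k') (i₁ i₂ : k →+* k') : ∃ β : k' ≃+* k', ∀ c, β (i₁ c) = i₂ c := by
  obtain ⟨e⟩ := @nonempty_algEquiv_of_isAlgClosed_of_card k k' k' _ _ _ i₁.toAlgebra i₂.toAlgebra
    _ _ h rfl
  refine ⟨@AlgEquiv.toRingEquiv k k' k' _ _ _ i₁.toAlgebra i₂.toAlgebra e, fun c => ?_⟩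
  exact @AlgEquiv.commutes k k' k' _ _ _ i₁.toAlgebra i₂.toAlgebra e c

/-- Every field embeds in an algebraically closed field of strictly larger, uncountable
cardinality (in the same universe). -/
theorem exists_big_algClosed (K : Type u) [Field K] :
    ∃ (k' : Type u) (_ : Field k') (_ : IsAlgClosed k') (_ : K →+* k'), max #K ℵ₀ < #k' := by
  let Λ : Type u := Set (K ⊕ ULift.{u} ℕ)
  let F := FractionRing (MvPolynomial Λ K)
  refine ⟨AlgebraicClosure F, inferInstance, inferInstance,
    (algebraMap F (AlgebraicClosure F)).comp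
      ((algebraMap (MvPolynomial Λ K) F).comp (algebraMap K (MvPolynomial Λ K))), ?_⟩
  have hΛ : max #K ℵ₀ < #Λ := by
    have h1 : max #K ℵ₀ ≤ #(K ⊕ ULift.{u} ℕ) := by
      rw [Cardinal.mk_sum]
      simp only [Cardinal.lift_id, Cardinal.mk_eq_aleph0]
      exact max_le (self_le_add_right _ _) (self_le_add_left _ _)
    refine h1.trans_lt ?_
    change _ < #(Set (K ⊕ ULift.{u} ℕ))
    rw [Cardinal.mk_set]
    exact Cardinal.cantor _
  refine hΛ.trans_le ?_
  let ι : Λ → AlgebraicClosure F := fun l =>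
    algebraMap F (AlgebraicClosure F) (algebraMap (MvPolynomial Λ K) F (MvPolynomial.X l))
  have hι : Function.Injective ι := by
    intro a b hab
    have h1 := (algebraMap F (AlgebraicClosure F)).injective hab
    have h2 := IsFractionRing.injective (MvPolynomial Λ K) F h1
    exact MvPolynomial.X_injective h2
  exact Cardinal.mk_le_of_injective hι

end Groth.Agent.Lib.Helper14.AS
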