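import Groth.Prelude.Def_BlowUp2
import Groth.Agent.Lib.Helper29.QCohLocFree
import Groth.Agent.Lib.Helper29.QCohExact
import Groth.Agent.Lib.Helper29.QCohFinite

universe u

open CategoryTheory CategoryTheory.Limits AlgebraicGeometry TopologicalSpace Opposite
open Groth.Agent.Lib.Helper29

namespace Groth.Agent.Lib.Helper14.StrictTr

theorem eq_zero_of_pow_smul {R N : Type*} [CommRing R] [AddCommGroup N] [Module R N]
    [Module.Free R N] {r : R} (hr : r ∈ nonZeroDivisors R) (n : ℕ) (z : N)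
    (h : r ^ n • z = 0) : z = 0 := by
  let b := Module.Free.chooseBasis R N
  apply b.repr.injective
  ext i
  have h1 := congrArg (fun w => b.repr w i) h
  simp only [map_smul, Finsupp.smul_apply, smul_eq_mul, map_zero, Finsupp.zero_apply] at h1
  have hrn : r ^ n ∈ nonZeroDivisors R := pow_mem hr n
  rw [map_zero, Finsupp.zero_apply]
  exact (mul_left_mem_nonZeroDivisors_eq_zero_iff hrn).mp h1

variable {X : Scheme.{u}}

/-- germ of a nonzerodivisor on an affine open is a nonzerodivisor in the stalk -/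
theorem germ_mem_nonZeroDivisors {U : X.Opens} (hU : IsAffineOpen U) (x : X) (hx : x ∈ U)
    (e : Γ(X, U)) (he : e ∈ nonZeroDivisors Γ(X, U)) :
    X.presheaf.germ U x hx e ∈ nonZeroDivisors (X.presheaf.stalk x) := by
  let _ : Algebra Γ(X, U) (X.presheaf.stalk x) :=
    TopCat.Presheaf.algebra_section_stalk X.presheaf ⟨x, hx⟩
  have := hU.isLocalization_stalk ⟨x, hx⟩
  have hflat : Module.Flat Γ(X, U) (X.presheaf.stalk x) :=
    IsLocalization.flat (X.presheaf.stalk x) (hU.primeIdealOf ⟨x, hx⟩).asIdeal.primeCompl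
  have hreg : IsSMulRegular Γ(X, U) e :=
    (isRegular_iff_mem_nonZeroDivisors.mpr he).left.isSMulRegular
  have h2 : IsSMulRegular (X.presheaf.stalk x) (algebraMap Γ(X, U) (X.presheaf.stalk x) e) :=
    IsSMulRegular.of_flat hreg
  rw [mem_nonZeroDivisors_iff_left]
  intro y hy
  apply h2
  change (algebraMap Γ(X, U) (X.presheaf.stalk x) e) * y = (algebraMap Γ(X, U) (X.presheaf.stalk x) e) * 0
  rw [mul_zero]
  exact hy

theorem mono_of_killed (𝓔 : X.IdealSheafData) (h𝓔 : BlowUp.IsEffCartierIdeal 𝓔)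
    (M G : X.Modules) (hM : FlatMod.IsFinLocFree M) (π : M ⟶ G)
    (hker : ∀ (V : X.affineOpens) (m : M.presheaf.obj (op V.1)),
      π.app V.1 m = 0 → BlowUp.KilledByPowerNear 𝓔 M V m) : Mono π := by
  rw [QCoh.mono_iff_stalkMap_injective]
  intro x
  rw [injective_iff_map_eq_zero]
  intro z hz
  obtain ⟨W₀, hxW₀, e, he, hspan⟩ := h𝓔 x
  obtain ⟨V, hVU, hxV, s, rfl⟩ := M.presheaf.exists_le_germ_eq z hxW₀
  rw [QCoh.stalkMap_germ] at hz
  have hz' : G.presheaf.germ V x hxV (π.app V s) = G.presheaf.germ V x hxV 0 := by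
    rw [hz, map_zero]
  obtain ⟨W, hxW, iU, iV, e1⟩ := G.presheaf.germ_eq x hxV hxV _ _ hz'
  have hWV : W ≤ V := leOfHom iU
  obtain ⟨f, hfW, hxf⟩ := W₀.2.exists_basicOpen_le ⟨x, hxW⟩ hxW₀
  have hV' : IsAffineOpen (X.basicOpen f) := W₀.2.basicOpen f
  have hle : X.basicOpen f ≤ V := hfW.trans hWV
  have h0 : π.app (X.basicOpen f) (QCoh.res M hle s) = 0 := by
    rw [QCoh.app_res]
    have : QCoh.res G hWV (π.app V s) = 0 := by
      have e' : QCoh.res G (leOfHom iU) (π.app V s) = QCoh.res G (leOfHom iV) 0 := e1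
      rw [e', map_zero]
    rw [← QCoh.res_res G hWV hfW, this, map_zero]
  obtain ⟨n, hn⟩ := hker ⟨X.basicOpen f, hV'⟩ _ h0
  -- restriction of e
  let e' : Γ(X, X.basicOpen f) := (X.presheaf.map (homOfLE (X.basicOpen_le f)).op).hom e
  have he' : e' ∈ 𝓔.ideal ⟨X.basicOpen f, hV'⟩ := by
    have h1 : e ∈ 𝓔.ideal W₀ := by rw [hspan]; exact Ideal.mem_span_singleton_self e
    exact 𝓔.ideal_le_comap_ideal (U := ⟨X.basicOpen f, hV'⟩) (V := W₀) (X.basicOpen_le f) h1
  have he'n : e' ^ n ∈ (𝓔 ^ n).ideal ⟨X.basicOpen f, hV'⟩ := by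
    rw [Scheme.IdealSheafData.ideal_pow, Pi.pow_apply]
    exact Ideal.pow_mem_pow he' n
  have h1 := hn _ he'n
  have h2 := congrArg (M.presheaf.germ (X.basicOpen f) x hxf) h1
  rw [QCoh.germ_smul, map_zero, QCoh.germ_res, map_pow] at h2
  have h3 : X.presheaf.germ (X.basicOpen f) x hxf e' = X.presheaf.germ W₀.1 x hxW₀ e :=
    X.presheaf.germ_res_apply (homOfLE (X.basicOpen_le f)) x hxf e
  rw [h3] at h2
  have := QCoh.free_stalk_of_isFinLocFree hM x
  exact eq_zero_of_pow_smul (germ_mem_nonZeroDivisors W₀.2 x hxW₀ e he) n _ h2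

end Groth.Agent.Lib.Helper14.StrictTr
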