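import Mathlib
import Groth.Prelude.Def_W4c2submetdescSubtr
import Groth.Agent.Lib.Helper10.Subtr4

set_option autoImplicit false
universe u
open CategoryTheory CategoryTheory.Limits AlgebraicGeometry Topology

namespace Groth.Agent.Lib.Helper14.SubtrFP

/-- Points every constructible neighbourhood of which meets `E` (the closure of `E` for the
constructible topology). -/
def PatchCl {A : Type u} [CommRing A] (E : Set (PrimeSpectrum A)) : Set (PrimeSpectrum A) :=
  {q | ∀ C : Set (PrimeSpectrum A), IsConstructible C → q ∈ C → (C ∩ E).Nonempty}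

/-- Every point of the closure of `E` is a specialization of a point of the constructible
closure of `E` (ultrafilter argument). -/
theorem exists_specializes_of_mem_closure {A : Type u} [CommRing A] (E : Set (PrimeSpectrum A))
    (p : PrimeSpectrum A) (hp : p ∈ closure E) : ∃ q ∈ PatchCl E, q ⤳ p := by
  classical
  haveI : (𝓝[E] p).NeBot := mem_closure_iff_nhdsWithin_neBot.mp hp
  obtain ⟨𝒰, h𝒰⟩ := Ultrafilter.exists_le (𝓝[E] p)
  have hE : E ∈ 𝒰 := h𝒰 self_mem_nhdsWithin
  have hnhds : ∀ s ∈ 𝓝 p, s ∈ 𝒰 := fun s hs => h𝒰 (mem_nhdsWithin_of_mem_nhds hs)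
  -- the limit ideal
  let q : Ideal A :=
    { carrier := {a | {e : PrimeSpectrum A | a ∈ e.asIdeal} ∈ 𝒰}
      zero_mem' := by
        change {e : PrimeSpectrum A | (0 : A) ∈ e.asIdeal} ∈ 𝒰
        have h0 : {e : PrimeSpectrum A | (0 : A) ∈ e.asIdeal} = Set.univ := by
          ext e
          simp
        rw [h0]
        exact Filter.univ_mem
      add_mem' := by
        intro a b ha hb
        change {e : PrimeSpectrum A | a + b ∈ e.asIdeal} ∈ 𝒰
        refine Filter.mem_of_superset (Filter.inter_mem ha hb) ?_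
        intro e he
        exact e.asIdeal.add_mem he.1 he.2
      smul_mem' := by
        intro c a ha
        change {e : PrimeSpectrum A | c • a ∈ e.asIdeal} ∈ 𝒰
        refine Filter.mem_of_superset ha ?_
        intro e he
        exact e.asIdeal.smul_mem c he }
  have hqmem : ∀ a, a ∈ q ↔ {e : PrimeSpectrum A | a ∈ e.asIdeal} ∈ 𝒰 := fun a => Iff.rfl
  have hqprime : q.IsPrime := by
    refine ⟨?_, ?_⟩
    · intro htop
      have h1 : (1 : A) ∈ q := by rw [htop]; trivial
      rw [hqmem] at h1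
      have hempty : {e : PrimeSpectrum A | (1 : A) ∈ e.asIdeal} = ∅ := by
        ext e
        simp only [Set.mem_ofPred_eq, Set.mem_empty_iff_false, iff_false]
        exact e.isPrime.one_notMem
      rw [hempty] at h1
      exact 𝒰.empty_notMem h1
    · intro a b hab
      rw [hqmem] at hab
      have hunion : {e : PrimeSpectrum A | a * b ∈ e.asIdeal} =
          {e : PrimeSpectrum A | a ∈ e.asIdeal} ∪ {e : PrimeSpectrum A | b ∈ e.asIdeal} := by
        ext e
        simp only [Set.mem_ofPred_eq, Set.mem_union]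
        exact e.isPrime.mul_mem_iff_mem_or_mem
      rw [hunion, Ultrafilter.union_mem_iff] at hab
      exact hab
  refine ⟨⟨q, hqprime⟩, ?_, ?_⟩
  · -- membership in the constructible closure
    intro C hC hqC
    obtain ⟨S, rfl⟩ := PrimeSpectrum.exists_constructibleSetData_iff.mpr hC
    simp only [PrimeSpectrum.ConstructibleSetData.toSet, Set.mem_iUnion] at hqC
    obtain ⟨c, hcS, hqc⟩ := hqC
    have hg : ∀ i, {e : PrimeSpectrum A | c.g i ∈ e.asIdeal} ∈ 𝒰 := by
      intro i
      rw [← hqmem]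
      exact hqc.1 ⟨i, rfl⟩
    have hgall : (⋂ i, {e : PrimeSpectrum A | c.g i ∈ e.asIdeal}) ∈ 𝒰 :=
      (Filter.iInter_mem).mpr hg
    have hf : {e : PrimeSpectrum A | c.f ∈ e.asIdeal}ᶜ ∈ 𝒰 := by
      rw [Ultrafilter.compl_mem_iff_notMem, ← hqmem]
      intro hfq
      apply hqc.2
      rw [PrimeSpectrum.mem_zeroLocus]
      intro a ha
      rw [Set.mem_singleton_iff] at ha
      rw [ha]
      exact hfq
    obtain ⟨e, he⟩ := 𝒰.nonempty_of_mem (Filter.inter_mem (Filter.inter_mem hgall hf) hE)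
    refine ⟨e, ?_, he.2⟩
    simp only [PrimeSpectrum.ConstructibleSetData.toSet, Set.mem_iUnion]
    refine ⟨c, hcS, ?_, ?_⟩
    · rw [PrimeSpectrum.mem_zeroLocus]
      rintro _ ⟨i, rfl⟩
      exact Set.mem_iInter.mp he.1.1 i
    · intro hcontra
      apply he.1.2
      rw [PrimeSpectrum.mem_zeroLocus] at hcontra
      exact hcontra (Set.mem_singleton _)
  · -- specialization
    rw [← PrimeSpectrum.le_iff_specializes]
    intro a ha
    by_contra hap
    have h1 : (PrimeSpectrum.basicOpen a : Set (PrimeSpectrum A)) ∈ 𝓝 p :=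
      (PrimeSpectrum.basicOpen a).isOpen.mem_nhds hap
    have h2 := hnhds _ h1
    have h3 : {e : PrimeSpectrum A | a ∈ e.asIdeal} ∈ 𝒰 := ha
    have h4 := Filter.inter_mem h2 h3
    obtain ⟨e, he1, he2⟩ := 𝒰.nonempty_of_mem h4
    exact he1 he2

/-- For a morphism of finite presentation to an affine scheme, the preimage of the constructible
closure of `E` is contained in every closed set containing the preimage of `E`. -/
theorem preimage_patchCl_subset {X : Scheme.{u}} [QuasiSeparatedSpace X] {A : CommRingCat.{u}}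
    (f : X ⟶ Spec A) [LocallyOfFinitePresentation f] [QuasiCompact f]
    (E : Set (Spec A)) (K : Set X) (hK : IsClosed K) (hEK : f ⁻¹' E ⊆ K) (x : X)
    (hx : f x ∈ PatchCl (A := A) E) : x ∈ K := by
  by_contra hxK
  obtain ⟨N, hN, hxN, hNK⟩ := TopologicalSpace.Opens.isBasis_iff_nbhd.mp X.isBasis_affineOpens
    (show x ∈ (⟨Kᶜ, hK.isOpen_compl⟩ : X.Opens) from hxK)
  have hNc : IsConstructible (N : Set X) := by
    refine IsRetrocompact.isConstructible N.isOpen ?_
    intro U hUc hUo
    exact QuasiSeparatedSpace.inter_isCompact _ _ N.isOpen hN.isCompact hUo hUc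
  have hC : IsConstructible (f '' (N : Set X)) := f.isConstructible_image hNc
  obtain ⟨y, hyC, hyE⟩ := hx _ hC ⟨x, hxN, rfl⟩
  obtain ⟨n, hn, rfl⟩ := hyC
  exact hNK hn (hEK hyE)

open Groth.Agent.Lib.Helper10.SubtrLib in
/-- Affine-target case: if the preimage of `E` under a universally S-subtrusive morphism of
finite presentation is locally closed, then `E` is locally closed. -/
theorem isLocallyClosed_of_preimage_affine {X : Scheme.{u}} {A : CommRingCat.{u}}
    (f : X ⟶ Spec A) [CompactSpace X] [QuasiSeparatedSpace X]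
    [LocallyOfFinitePresentation f] [QuasiCompact f]
    (hf : Subtr.UnivSSubtrusive f) (E : Set (Spec A))
    (hW : IsLocallyClosed (f ⁻¹' E)) : IsLocallyClosed E := by
  have hpair : Subtr.IsSSubtrusive f := MorphismProperty.universally_le _ _ hf
  obtain ⟨O, K, hO, hK, hOK⟩ := hW
  have hEK : f ⁻¹' E ⊆ K := by rw [hOK]; exact Set.inter_subset_right
  have star : ∀ p ∈ closure E, ∃ q ∈ PatchCl (A := A) E, q ⤳ p := fun p hp =>
    exists_specializes_of_mem_closure (A := A) E p hp
  have hPK : ∀ x : X, f x ∈ PatchCl (A := A) E → x ∈ K := fun x hx =>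
    preimage_patchCl_subset f E K hK hEK x hx
  -- convexity
  have claim1 : ∀ y ∈ E, ∀ y1 ∈ closure E, y1 ⤳ y → y1 ∈ E := by
    intro y hy y1 hy1 hsp
    obtain ⟨q, hq, hqsp⟩ := star y1 hy1
    obtain ⟨x2, x1, x0, hx21, hx10, hx2, hx1, hx0⟩ := chain_lift f hf hqsp hsp
    have hx2K : x2 ∈ K := hPK x2 (by rw [hx2]; exact hq)
    have hx0W : x0 ∈ O ∩ K := by
      rw [← hOK]; change f x0 ∈ E; rw [hx0]; exact hy
    have hx1W : x1 ∈ O ∩ K :=
      ⟨hx10.mem_open hO hx0W.1, hx21.mem_closed hK hx2K⟩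
    rw [← hOK] at hx1W
    rw [← hx1]; exact hx1W
  -- the closed set T
  let T : Set X := f ⁻¹' closure E ∩ Oᶜ
  have hT : IsClosed T := (isClosed_closure.preimage f.continuous).inter hO.isClosed_compl
  refine ((isLocallyClosed_tfae E).out 0 3).mpr ?_
  intro y hy
  refine ⟨(closure (f '' T))ᶜ, ?_, isClosed_closure.isOpen_compl, ?_⟩
  · intro hyT
    obtain ⟨t, ht, htsp⟩ := exists_specializes_of_mem_closure_image f hT hyT
    have : f t ∈ E := claim1 y hy (f t) ht.1 htsp
    have htW : t ∈ O ∩ K := by rw [← hOK]; exact this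
    exact ht.2 htW.1
  · rintro p ⟨hpN, hpE⟩
    obtain ⟨q, hq, hqsp⟩ := star p hpE
    obtain ⟨x, x', hxx', hx, hx'⟩ := hpair hqsp
    have hx'K : x' ∈ K := hPK x' (by rw [hx']; exact hq)
    have hxK : x ∈ K := hxx'.mem_closed hK hx'K
    by_cases hxO : x ∈ O
    · have : x ∈ f ⁻¹' E := by rw [hOK]; exact ⟨hxO, hxK⟩
      rw [← hx]; exact this
    · exfalso
      apply hpN
      apply subset_closure
      refine ⟨x, ⟨?_, hxO⟩, hx⟩
      change f x ∈ closure E
      rw [hx]; exact hpE

/-- The global statement. -/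
theorem isLocallyClosed_of_preimage_global {S' S : Scheme.{u}} (f : S' ⟶ S)
    [LocallyOfFinitePresentation f] [QuasiCompact f] [QuasiSeparated f]
    (hf : Subtr.UnivSSubtrusive f) (E : Set S) (hW : IsLocallyClosed (f ⁻¹' E)) :
    IsLocallyClosed E := by
  refine ((isLocallyClosed_tfae E).out 0 3).mpr ?_
  intro y hy
  obtain ⟨S0, hS0, hyS0, -⟩ := TopologicalSpace.Opens.isBasis_iff_nbhd.mp S.isBasis_affineOpens
    (show y ∈ (⊤ : S.Opens) from trivial)
  let j : Spec Γ(S, S0) ⟶ S := hS0.fromSpec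
  have hj : Set.range j = (S0 : Set S) := hS0.range_fromSpec
  let f' : pullback f j ⟶ Spec Γ(S, S0) := pullback.snd f j
  haveI : (Subtr.UnivSSubtrusive.{u}).IsStableUnderBaseChange := by
    unfold Subtr.UnivSSubtrusive; infer_instance
  have hf' : Subtr.UnivSSubtrusive f' :=
    MorphismProperty.of_isPullback (P := Subtr.UnivSSubtrusive) (IsPullback.of_hasPullback f j) hf
  haveI : LocallyOfFinitePresentation f' := by dsimp only [f']; infer_instance
  haveI : QuasiCompact f' := by dsimp only [f']; infer_instance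
  haveI : QuasiSeparated f' := by dsimp only [f']; infer_instance
  haveI : CompactSpace ↥(pullback f j) := QuasiCompact.compactSpace_of_compactSpace f'
  haveI : QuasiSeparatedSpace ↥(pullback f j) := quasiSeparatedSpace_of_quasiSeparated f'
  have key : ∀ z : ↥(pullback f j), f (pullback.fst f j z) = j (f' z) := by
    intro z
    rw [← Scheme.Hom.comp_apply, ← Scheme.Hom.comp_apply, pullback.condition]
  have hpre : f' ⁻¹' (j ⁻¹' E) = pullback.fst f j ⁻¹' (f ⁻¹' E) := by
    ext z
    change j (f' z) ∈ E ↔ f (pullback.fst f j z) ∈ E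
    rw [key]
  have h1 : IsLocallyClosed (f' ⁻¹' (j ⁻¹' E)) := by
    rw [hpre]; exact hW.preimage (pullback.fst f j).continuous
  have h4 : IsLocallyClosed (j ⁻¹' E) := isLocallyClosed_of_preimage_affine f' hf' _ h1
  have h5 : IsLocallyClosed (j '' (j ⁻¹' E)) :=
    h4.image j.isOpenEmbedding.isInducing (hj ▸ S0.isOpen.isLocallyClosed)
  have h6 : j '' (j ⁻¹' E) = E ∩ S0 := by
    rw [Set.image_preimage_eq_inter_range, hj]
  rw [h6] at h5
  have h7 : ∀ x ∈ E ∩ (S0 : Set S), ∃ U, x ∈ U ∧ IsOpen U ∧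
      U ∩ closure (E ∩ (S0 : Set S)) ⊆ E ∩ (S0 : Set S) :=
    ((isLocallyClosed_tfae (E ∩ (S0 : Set S))).out 0 3).mp h5
  obtain ⟨U, hyU, hUo, hU⟩ := h7 y ⟨hy, hyS0⟩
  refine ⟨U ∩ S0, ⟨hyU, hyS0⟩, hUo.inter S0.isOpen, ?_⟩
  rintro z ⟨⟨hzU, hzS0⟩, hzE⟩
  have : z ∈ closure (E ∩ S0) := by
    have := S0.isOpen.inter_closure (t := E) ⟨hzS0, hzE⟩
    rwa [Set.inter_comm] at this
  exact (hU ⟨hzU, this⟩).1

end Groth.Agent.Lib.Helper14.SubtrFP
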