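import Mathlib
import Groth.Prelude.Def_CGrpSh
import Groth.Agent.Lib.Helper14.ReducedEtale

open AlgebraicGeometry CategoryTheory Limits MonoidalCategory CartesianMonoidalCategory MonObj Opposite

namespace Groth.Agent.Lib.Helper14.TateLocZero

universe u

variable {S : Scheme.{u}}

/-- the unit section as a morphism of schemes -/
noncomputable def unitSec (I : Over S) [GrpObj I] : S ⟶ I.left := (η[I]).left

theorem unit_left_hom (I : Over S) [GrpObj I] :
    unitSec I ≫ I.hom = 𝟙 S := by
  have := Over.w (η[I])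
  rw [Over.tensorUnit_hom] at this
  exact this

theorem unit_surjective (I : Over S) [GrpObj I] [IsFinite I.hom]
    (hconn : ∀ s : S, ConnectedSpace ↥(I.hom.fiber s)) : Surjective (unitSec I) := by
  refine ⟨fun p => ⟨I.hom p, ?_⟩⟩
  set x := I.hom p with hx
  have h1 : (unitSec I) x ∈ Set.range (I.hom.fiberι x) := by
    rw [Scheme.Hom.range_fiberι]
    change I.hom ((unitSec I) x) = x
    rw [← Scheme.Hom.comp_apply, unit_left_hom]
    rfl
  have h2 : p ∈ Set.range (I.hom.fiberι x) := by
    rw [Scheme.Hom.range_fiberι]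
    rfl
  obtain ⟨a, ha⟩ := h1
  obtain ⟨b, hb⟩ := h2
  have := hconn x
  have hsub : Subsingleton ↥(I.hom.fiber x) := subsingleton_of_preconnected_totallyDisconnected
  rw [← ha, ← hb, Subsingleton.elim a b]

theorem eq_comp_unit (I : Over S) [GrpObj I] [IsFinite I.hom]
    (hconn : ∀ s : S, ConnectedSpace ↥(I.hom.fiber s)) {U : Scheme.{u}} [IsReduced U]
    (s : U ⟶ I.left) : s = (s ≫ I.hom) ≫ unitSec I := by
  set e := unitSec I with hedef
  have he : e ≫ I.hom = 𝟙 S := unit_left_hom I
  have hcl : IsClosedImmersion e := by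
    have : IsClosedImmersion (e ≫ I.hom) := by rw [he]; infer_instance
    exact IsClosedImmersion.of_comp e I.hom
  have hsurj : Surjective e := unit_surjective I hconn
  have h1 : Surjective (pullback.fst s e) := inferInstance
  have h2 : IsClosedImmersion (pullback.fst s e) := inferInstance
  have h3 : IsIso (pullback.fst s e) := isIso_of_isClosedImmersion_of_surjective _
  have hs : s = (inv (pullback.fst s e) ≫ pullback.snd s e) ≫ e := by
    rw [Category.assoc, ← pullback.condition, IsIso.inv_hom_id_assoc]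
  have ht : inv (pullback.fst s e) ≫ pullback.snd s e = s ≫ I.hom := by
    conv_rhs => rw [hs]
    rw [Category.assoc, he, Category.comp_id]
  rw [← ht]
  exact hs

theorem hom_eq_one (I : Over S) [GrpObj I] [IsFinite I.hom]
    (hconn : ∀ s : S, ConnectedSpace ↥(I.hom.fiber s)) (T : Over S) [IsReduced T.left]
    (s : T ⟶ I) : s = 1 := by
  apply Over.OverMorphism.ext
  rw [eq_comp_unit I hconn s.left, Over.w s]
  change _ = (toUnit T ≫ η[I]).left
  rw [Over.comp_left]
  congr 1

theorem isZero_resEt_pts [IsReduced S]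
    (I : Over S) [GrpObj I] [IsCommMonObj I] [IsFinite I.hom]
    (hconn : ∀ s : S, ConnectedSpace ↥(I.hom.fiber s)) :
    IsZero ((BigSite.resEt Scheme.fppfPrecoverage S).obj (CGrpSh.pts Scheme.fppfPrecoverage I)) := by
  rw [IsZero.iff_id_eq_zero]
  apply Sheaf.hom_ext
  apply NatTrans.ext
  funext U
  apply AddCommGrpCat.hom_ext
  ext x
  have hU : Etale U.unop.hom := U.unop.prop
  have hred : IsReduced ((EtFppf.a S).obj U.unop).left :=
    @Groth.Agent.Lib.Helper14.isReduced_of_etale_scheme _ _ U.unop.hom hU ‹IsReduced S›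
  have hx : ∀ y : ULift.{u + 1} (Additive ((EtFppf.a S).obj U.unop ⟶ I)), y = 0 := by
    intro y
    apply ULift.ext
    exact congrArg Additive.ofMul (hom_eq_one I hconn _ y.down.toMul)
  exact (hx _).trans (hx _).symm

end Groth.Agent.Lib.Helper14.TateLocZero
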