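import Mathlib

open TensorProduct

universe u v

namespace Groth.Agent.Lib.Helper14.TDC

/-- Finitely many field extensions of `k` embed into a common field extension. -/
theorem exists_common_field_extension (k : Type u) [Field k] {N : Type*} (K : N → Type u)
    [∀ n, Field (K n)] [∀ n, Algebra k (K n)] (s : Finset N) :
    ∃ (Ω : Type u) (_ : Field Ω) (_ : Algebra k Ω), ∀ n ∈ s, Nonempty (K n →ₐ[k] Ω) := by
  classical
  induction s using Finset.induction_on with
  | empty => exact ⟨k, inferInstance, inferInstance, fun n hn => (Finset.notMem_empty n hn).elim⟩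
  | insert a s _ ih =>
    obtain ⟨Ω₀, _, _, h₀⟩ := ih
    have : Nontrivial (Ω₀ ⊗[k] K a) :=
      (Algebra.TensorProduct.includeLeft_injective (R := k) (S := k) (A := Ω₀) (B := K a)
        (FaithfulSMul.algebraMap_injective k (K a))).nontrivial
    obtain ⟨𝔪, h𝔪⟩ := Ideal.exists_maximal (Ω₀ ⊗[k] K a)
    let _ : Field ((Ω₀ ⊗[k] K a) ⧸ 𝔪) := Ideal.Quotient.field 𝔪
    refine ⟨(Ω₀ ⊗[k] K a) ⧸ 𝔪, inferInstance, inferInstance, fun n hn => ?_⟩
    rcases Finset.mem_insert.1 hn with rfl | hn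
    · exact ⟨(Ideal.Quotient.mkₐ k 𝔪).comp Algebra.TensorProduct.includeRight⟩
    · obtain ⟨τ⟩ := h₀ n hn
      exact ⟨(Ideal.Quotient.mkₐ k 𝔪).comp (Algebra.TensorProduct.includeLeft.comp τ)⟩


/-- The ideal of elements lying in all but finitely many members of a family of ideals. -/
def cofiniteIdeal {A : Type*} [CommRing A] {N : Type*} (𝔭 : N → Ideal A) : Ideal A where
  carrier := {c | {n | c ∉ 𝔭 n}.Finite}
  zero_mem' := by
    simp
  add_mem' := by
    intro a b ha hb
    refine (ha.union hb).subset ?_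
    intro n hn
    by_contra h
    simp only [Set.mem_union, Set.mem_setOf_eq, not_or, not_not] at h
    exact hn ((𝔭 n).add_mem h.1 h.2)
  smul_mem' := by
    intro r a ha
    refine ha.subset ?_
    intro n hn h
    exact hn ((𝔭 n).mul_mem_left r h)

theorem cofiniteIdeal_ne_top {A : Type*} [CommRing A] {N : Type*} [Infinite N] (𝔭 : N → Ideal A)
    (h𝔭 : ∀ n, 𝔭 n ≠ ⊤) : cofiniteIdeal 𝔭 ≠ ⊤ := by
  intro h
  have h1 : (1 : A) ∈ cofiniteIdeal 𝔭 := by rw [h]; trivial
  have h2 : {n | (1 : A) ∉ 𝔭 n}.Finite := h1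
  have h3 : {n | (1 : A) ∉ 𝔭 n} = Set.univ := by
    ext n
    simp only [Set.mem_setOf_eq, Set.mem_univ, iff_true]
    exact fun h1 => h𝔭 n ((Ideal.eq_top_iff_one _).2 h1)
  rw [h3] at h2
  exact Set.infinite_univ h2

/-- Core lemma: in `Spec (A ⊗[R] A)`, the closure of a set `T` of primes containing, for every
finite subfamily of an infinite family of pairwise distinct primes of `A`, the kernels of the maps
to a common field, meets the diagonal. -/
theorem exists_diag_mem_closure {R : Type v} {A : Type u} [CommRing R] [CommRing A] [Algebra R A]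
    {N : Type*} [Infinite N] (𝔭 : N → PrimeSpectrum A)
    (T : Set (PrimeSpectrum (A ⊗[R] A)))
    (hT : ∀ s : Finset N, ∃ (Ω : Type u) (_ : Field Ω) (_ : Algebra R Ω) (σ : ↥s → (A →ₐ[R] Ω)),
      (∀ n : ↥s, RingHom.ker (σ n) = (𝔭 n).asIdeal) ∧
      ∀ n m : ↥s, n ≠ m → ∃ t ∈ T, t.asIdeal =
        RingHom.ker (Algebra.TensorProduct.lift (σ n) (σ m) (fun _ _ => Commute.all _ _))) :
    ∃ 𝔮 : PrimeSpectrum A,
      PrimeSpectrum.comap (Algebra.TensorProduct.lmul' (S := A) R).toRingHom 𝔮 ∈ closure T := by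
  classical
  set μ := (Algebra.TensorProduct.lmul' (S := A) R) with hμ
  let 𝔞 : Ideal A := cofiniteIdeal fun n => (𝔭 n).asIdeal
  have h𝔞 : 𝔞 ≠ ⊤ := cofiniteIdeal_ne_top _ fun n => (𝔭 n).isPrime.ne_top
  have key : ∀ ξ ∈ PrimeSpectrum.vanishingIdeal T, μ ξ ∈ 𝔞 := by
    intro ξ hξ
    obtain ⟨F, rfl⟩ := TensorProduct.exists_finset ξ
    by_contra hfin
    have hinf : {n | μ (∑ i ∈ F, i.1 ⊗ₜ[R] i.2) ∉ (𝔭 n).asIdeal}.Infinite := hfin
    obtain ⟨s, hs, hcard⟩ := hinf.exists_subset_card_eq (F.card + 1)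
    obtain ⟨Ω, _, _, σ, hσ, hσT⟩ := hT s
    let P : Matrix ↥s ↥F Ω := fun n i => σ n i.1.1
    let Q : Matrix ↥F ↥s Ω := fun i m => σ m i.1.2
    have hPQ : ∀ n m, (P * Q) n m =
        Algebra.TensorProduct.lift (σ n) (σ m) (fun _ _ => Commute.all _ _)
          (∑ i ∈ F, i.1 ⊗ₜ[R] i.2) := by
      intro n m
      rw [Matrix.mul_apply, map_sum, ← Finset.sum_coe_sort F]
      refine Finset.sum_congr rfl fun i _ => ?_
      rw [Algebra.TensorProduct.lift_tmul]
    have hoff : ∀ n m, n ≠ m → (P * Q) n m = 0 := by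
      intro n m hnm
      obtain ⟨t, ht, hte⟩ := hσT n m hnm
      have : (∑ i ∈ F, i.1 ⊗ₜ[R] i.2) ∈ t.asIdeal :=
        (PrimeSpectrum.mem_vanishingIdeal _ _).1 hξ t ht
      rw [hte, RingHom.mem_ker] at this
      rw [hPQ]
      exact this
    have hdiag : ∀ n, (P * Q) n n ≠ 0 := by
      intro n h0
      have h1 : μ (∑ i ∈ F, i.1 ⊗ₜ[R] i.2) ∉ (𝔭 n).asIdeal := hs n.2
      apply h1
      rw [← hσ n, RingHom.mem_ker, map_sum, map_sum]
      rw [hPQ, map_sum] at h0
      rw [← h0]
      refine Finset.sum_congr rfl fun i _ => ?_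
      rw [Algebra.TensorProduct.lift_tmul, hμ, Algebra.TensorProduct.lmul'_apply_tmul, map_mul]
    have hM : P * Q = Matrix.diagonal fun n => (P * Q) n n := by
      ext n m
      by_cases h : n = m
      · subst h; simp
      · rw [Matrix.diagonal_apply_ne _ h, hoff n m h]
    have hr1 : (P * Q).rank = F.card + 1 := by
      rw [hM, Matrix.rank_diagonal]
      have : ∀ n : ↥s, (P * Q) n n ≠ 0 := hdiag
      rw [Fintype.card_subtype, Finset.filter_true_of_mem (fun n _ => by simpa using this n)]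
      simp [hcard]
    have hr2 : (P * Q).rank ≤ F.card := by
      refine (Matrix.rank_mul_le_left P Q).trans ((Matrix.rank_le_card_width P).trans ?_)
      simp
    omega
  obtain ⟨𝔪, h𝔪, hle⟩ := Ideal.exists_le_maximal 𝔞 h𝔞
  refine ⟨⟨𝔪, h𝔪.isPrime⟩, ?_⟩
  rw [← PrimeSpectrum.zeroLocus_vanishingIdeal_eq_closure, PrimeSpectrum.mem_zeroLocus]
  intro ξ hξ
  exact hle (key ξ hξ)


theorem S10422_aux (A : Type u) [CommRing A] (k : Type u) [Field k]
    (p : ℕ → PrimeSpectrum A) (K : ℕ → Type u) [∀ n, Field (K n)]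
    [∀ n, Algebra A (K n)] [∀ n, Algebra k (K n)]
    (hker : ∀ n, RingHom.ker (algebraMap A (K n)) = (p n).asIdeal) :
    (closure (⋃ (n : ℕ) (m : ℕ) (_ : n ≠ m),
        Set.range (PrimeSpectrum.comap
          (Algebra.TensorProduct.lift
            ((Algebra.TensorProduct.includeLeft (R := k) (S := ℤ) (A := K n) (B := K m)).toRingHom.toIntAlgHom.comp
              (Algebra.ofId A (K n)).toRingHom.toIntAlgHom)
            ((Algebra.TensorProduct.includeRight (R := k) (A := K n) (B := K m)).toRingHom.toIntAlgHom.comp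
              (Algebra.ofId A (K m)).toRingHom.toIntAlgHom)
            (fun _ _ => Commute.all _ _)).toRingHom)) ∩
      Set.range (PrimeSpectrum.comap (Algebra.TensorProduct.lmul' (S := A) ℤ).toRingHom)).Nonempty := by
  classical
  suffices hT : _ by
    obtain ⟨𝔮, h𝔮⟩ := exists_diag_mem_closure (R := ℤ) p _ hT
    exact ⟨_, h𝔮, ⟨𝔮, rfl⟩⟩
  intro s
  · obtain ⟨Ω, _, _, hτ⟩ := exists_common_field_extension k K s
    choose τ _ using fun n : ↥s => (⟨(hτ n.1 n.2).some, trivial⟩ : ∃ _ : K n.1 →ₐ[k] Ω, True)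
    refine ⟨Ω, inferInstance, inferInstance,
      fun n => ((τ n).toRingHom.comp (algebraMap A (K n.1))).toIntAlgHom, fun n => ?_, ?_⟩
    · rw [← hker n.1]
      ext x
      simp only [RingHom.mem_ker]
      change (τ n) (algebraMap A (K n.1) x) = 0 ↔ _
      exact map_eq_zero_iff (τ n) (τ n).toRingHom.injective
    · intro n m hnm
      let ψ : K n.1 ⊗[k] K m.1 →ₐ[k] Ω :=
        Algebra.TensorProduct.lift (τ n) (τ m) (fun _ _ => Commute.all _ _)
      have hprime : (RingHom.ker ψ.toRingHom).IsPrime := RingHom.ker_isPrime _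
      let Φ : A ⊗[ℤ] A →+* K n.1 ⊗[k] K m.1 := (Algebra.TensorProduct.lift
              ((Algebra.TensorProduct.includeLeft (R := k) (S := ℤ) (A := K n.1)
                (B := K m.1)).toRingHom.toIntAlgHom.comp
                (Algebra.ofId A (K n.1)).toRingHom.toIntAlgHom)
              ((Algebra.TensorProduct.includeRight (R := k) (A := K n.1)
                (B := K m.1)).toRingHom.toIntAlgHom.comp
                (Algebra.ofId A (K m.1)).toRingHom.toIntAlgHom)
              (fun _ _ => Commute.all _ _)).toRingHom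
      refine ⟨PrimeSpectrum.comap Φ ⟨RingHom.ker ψ.toRingHom, hprime⟩, ?_, ?_⟩
      · refine Set.mem_iUnion.2 ⟨n.1, Set.mem_iUnion.2 ⟨m.1, Set.mem_iUnion.2 ⟨?_, ⟨_, rfl⟩⟩⟩⟩
        exact fun h => hnm (Subtype.ext h)
      · ext x
        simp only [PrimeSpectrum.comap_asIdeal, Ideal.mem_comap, RingHom.mem_ker]
        suffices h : ∀ x : A ⊗[ℤ] A, ψ.toRingHom (Φ x) =
            Algebra.TensorProduct.lift
              (((τ n).toRingHom.comp (algebraMap A (K n.1))).toIntAlgHom)
              (((τ m).toRingHom.comp (algebraMap A (K m.1))).toIntAlgHom)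
              (fun _ _ => Commute.all _ _) x by
          rw [← h x]
        intro x
        induction x using TensorProduct.induction_on with
        | zero => simp
        | tmul a b =>
          simp [ψ, Φ]
        | add x y hx hy => simp only [map_add, hx, hy]

end Groth.Agent.Lib.Helper14.TDC
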