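import Mathlib

/-!
# Morphisms agreeing on all infinitesimal neighbourhoods (helper14): ring-level Krull lemma
-/

set_option autoImplicit false
universe u

namespace Groth.Agent.Lib.Helper14.Thick

/-- Uniform Krull intersection: one element of `1 + J` kills `⋂ Jⁿ`. -/
theorem exists_one_sub_mul_eq_zero {B : Type u} [CommRing B] [IsNoetherianRing B] (J : Ideal B) :
    ∃ r ∈ J, ∀ d : B, (∀ n : ℕ, d ∈ J ^ (n + 1)) → (1 - r) * d = 0 := by
  set N : Submodule B B := ⨅ n : ℕ, J ^ n • (⊤ : Submodule B B) with hN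
  have hle : N ≤ J • N := by
    intro x hx
    obtain ⟨r, hr⟩ := (Ideal.mem_iInf_smul_pow_eq_bot_iff J x).1 hx
    rw [← hr]
    exact Submodule.smul_mem_smul r.2 hx
  obtain ⟨r, hr₁, hr₂⟩ := Submodule.exists_mem_and_smul_eq_self_of_fg_of_le_smul J N
    (IsNoetherian.noetherian N) hle
  refine ⟨r, hr₁, fun d hd => ?_⟩
  have hdN : d ∈ N := by
    rw [hN, Submodule.mem_iInf]
    intro n
    rw [Ideal.smul_top_eq_map, Algebra.algebraMap_self, Ideal.map_id]
    change d ∈ J ^ n
    rcases n with _ | n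
    · simp
    · exact hd n
  rw [sub_mul, one_mul, ← smul_eq_mul r d, hr₂ d hdN, sub_self]

end Groth.Agent.Lib.Helper14.Thick
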