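import Groth.Agent.Lib.Helper14.Thick1
import Groth.Prelude.Def_CohB1

set_option autoImplicit false
universe u
open AlgebraicGeometry CategoryTheory CategoryTheory.Limits

namespace Groth.Agent.Lib.Helper14.Thick

theorem mem_range_specQuot {A : Type u} [CommRing A] (I : Ideal A) (n : ℕ)
    (p : Spec (CommRingCat.of A)) (hp : I ≤ p.asIdeal) : p ∈ Set.range (CohB1.specQuot I n) := by
  have h1 : Set.range (PrimeSpectrum.comap (Ideal.Quotient.mk (I ^ (n + 1)))) =
      PrimeSpectrum.zeroLocus (RingHom.ker (Ideal.Quotient.mk (I ^ (n + 1)))) :=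
    _root_.range_comap_of_surjective _ _ Ideal.Quotient.mk_surjective
  have h2 : p ∈ PrimeSpectrum.zeroLocus (RingHom.ker (Ideal.Quotient.mk (I ^ (n + 1)))) := by
    rw [Ideal.mk_ker]
    intro a ha
    exact hp (Ideal.pow_le_self (Nat.succ_ne_zero n) ha)
  rw [← h1] at h2
  exact h2

theorem mem_range_thickι {A : Type u} [CommRing A] (I : Ideal A) (n : ℕ) {X : Scheme.{u}}
    (f : X ⟶ Spec (CommRingCat.of A)) (x : X) (hx : I ≤ (f x).asIdeal) :
    x ∈ Set.range (CohB1.thickι f I n) := by
  have h := Scheme.Pullback.range_fst f (CohB1.specQuot I n)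
  change x ∈ Set.range (pullback.fst f (CohB1.specQuot I n))
  rw [h]
  exact mem_range_specQuot I n (f x) hx

end Groth.Agent.Lib.Helper14.Thick
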