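import Groth.Agent.Lib.Helper14.Thick2

set_option autoImplicit false
universe u
open AlgebraicGeometry CategoryTheory CategoryTheory.Limits

namespace Groth.Agent.Lib.Helper14.Thick

set_option maxHeartbeats 800000 in
theorem exists_open_nhd_eq {A : Type u} [CommRing A] [IsNoetherianRing A] (I : Ideal A)
    {X Y : Scheme.{u}} (f : X ⟶ Spec (CommRingCat.of A)) [LocallyOfFiniteType f] (φ ψ : X ⟶ Y)
    (e : ∀ n : ℕ, CohB1.thickι f I n ≫ φ = CohB1.thickι f I n ≫ ψ) (x : X)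
    (hx : I ≤ (f x).asIdeal) :
    ∃ (T : Scheme.{u}) (g : T ⟶ X), IsOpenImmersion g ∧ x ∈ Set.range g ∧ g ≫ φ = g ≫ ψ := by
  have hXN : IsLocallyNoetherian X := LocallyOfFiniteType.isLocallyNoetherian f
  obtain ⟨x₀, hx₀⟩ := mem_range_thickι I 0 f x hx
  have hφψ : φ x = ψ x := by
    rw [← hx₀, ← Scheme.Hom.comp_apply, ← Scheme.Hom.comp_apply, e 0]
  obtain ⟨_, ⟨V, hV : IsAffineOpen V, rfl⟩, hyV, -⟩ :=
    Y.isBasis_affineOpens.exists_subset_of_mem_open (Set.mem_univ (φ x)) isOpen_univ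
  have hxW' : x ∈ (φ ⁻¹ᵁ V ⊓ ψ ⁻¹ᵁ V : X.Opens) :=
    ⟨hyV, by change ψ x ∈ V; rw [← hφψ]; exact hyV⟩
  obtain ⟨_, ⟨W, hW : IsAffineOpen W, rfl⟩, hxW, hWle⟩ :=
    X.isBasis_affineOpens.exists_subset_of_mem_open hxW' (φ ⁻¹ᵁ V ⊓ ψ ⁻¹ᵁ V).isOpen
  have e1 : W ≤ φ ⁻¹ᵁ V := fun w hw => (hWle hw).1
  have e2 : W ≤ ψ ⁻¹ᵁ V := fun w hw => (hWle hw).2
  have hB : IsNoetherianRing Γ(X, W) := IsLocallyNoetherian.component_noetherian ⟨W, hW⟩
  obtain ⟨α, hαs⟩ : ∃ α : CommRingCat.of A ⟶ Γ(X, W), Spec.map α = hW.fromSpec ≫ f :=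
    ⟨Spec.preimage (hW.fromSpec ≫ f), Spec.map_preimage _⟩
  set J : Ideal Γ(X, W) := I.map α.hom with hJ
  have hVo : IsOpenImmersion hV.fromSpec := hV.isOpenImmersion_fromSpec
  have key : ∀ {C : CommRingCat.{u}} (q : Γ(X, W) ⟶ C),
      (Spec.map q ≫ hW.fromSpec ≫ φ = Spec.map q ≫ hW.fromSpec ≫ ψ) ↔
        φ.appLE V W e1 ≫ q = ψ.appLE V W e2 ≫ q := by
    intro C q
    rw [← IsAffineOpen.SpecMap_appLE_fromSpec φ hV hW e1,
      ← IsAffineOpen.SpecMap_appLE_fromSpec ψ hV hW e2, ← Category.assoc, ← Category.assoc,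
      ← Spec.map_comp, ← Spec.map_comp, cancel_mono]
    exact ⟨fun h => Spec.map_injective h, fun h => by rw [h]⟩
  have hmem : ∀ (b : Γ(Y, V)) (n : ℕ),
      (φ.appLE V W e1).hom b - (ψ.appLE V W e2).hom b ∈ J ^ (n + 1) := by
    intro b n
    set Jn : Ideal Γ(X, W) := (I ^ (n + 1)).map α.hom with hJn
    have hJn' : Jn = J ^ (n + 1) := Ideal.map_pow _ _ _
    rw [← hJn']
    let q : Γ(X, W) ⟶ CommRingCat.of (Γ(X, W) ⧸ Jn) := CommRingCat.ofHom (Ideal.Quotient.mk Jn)
    let β : CommRingCat.of (A ⧸ I ^ (n + 1)) ⟶ CommRingCat.of (Γ(X, W) ⧸ Jn) :=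
      CommRingCat.ofHom (Ideal.quotientMap Jn α.hom Ideal.le_comap_map)
    have hcomm : (Spec.map q ≫ hW.fromSpec) ≫ f = Spec.map β ≫ CohB1.specQuot I n := by
      rw [Category.assoc, ← hαs]
      unfold CohB1.specQuot
      rw [← Spec.map_comp, ← Spec.map_comp]
      congr 1
    let l : Spec (CommRingCat.of (Γ(X, W) ⧸ Jn)) ⟶ CohB1.thick f I n :=
      pullback.lift (Spec.map q ≫ hW.fromSpec) (Spec.map β) hcomm
    have hl : l ≫ CohB1.thickι f I n = Spec.map q ≫ hW.fromSpec := pullback.lift_fst _ _ _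
    have h3 : Spec.map q ≫ hW.fromSpec ≫ φ = Spec.map q ≫ hW.fromSpec ≫ ψ := by
      rw [← Category.assoc, ← hl, Category.assoc, e n, ← Category.assoc, hl, Category.assoc]
    have h4 := (key q).1 h3
    have h5 := congrArg (fun k => k.hom b) h4
    simp only [CommRingCat.hom_comp, RingHom.comp_apply] at h5
    exact Ideal.Quotient.eq.1 h5
  obtain ⟨r, hrJ, hr⟩ := exists_one_sub_mul_eq_zero J
  set s : Γ(X, W) := 1 - r with hs
  let qs : Γ(X, W) ⟶ CommRingCat.of (Localization.Away s) :=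
    CommRingCat.ofHom (algebraMap Γ(X, W) (Localization.Away s))
  have hqs : IsOpenImmersion (Spec.map qs) := inferInstance
  have hWo : IsOpenImmersion hW.fromSpec := hW.isOpenImmersion_fromSpec
  refine ⟨_, Spec.map qs ≫ hW.fromSpec, inferInstance, ?_, ?_⟩
  · -- x is in the range
    have h1 : hW.fromSpec (hW.primeIdealOf ⟨x, hxW⟩) = x := hW.fromSpec_primeIdealOf ⟨x, hxW⟩
    set px := hW.primeIdealOf ⟨x, hxW⟩ with hpx
    have h2 : J ≤ px.asIdeal := by
      rw [hJ, Ideal.map_le_iff_le_comap]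
      have h3 : (Spec.map α) px = f x := by
        rw [hαs]
        change f (hW.fromSpec px) = f x
        rw [h1]
      intro a ha
      have h4 := hx ha
      rw [← h3] at h4
      exact h4
    have h5 : s ∉ px.asIdeal := by
      intro hs'
      have : (1 : Γ(X, W)) ∈ px.asIdeal := by
        have := px.asIdeal.add_mem hs' (h2 hrJ)
        rwa [hs, sub_add_cancel] at this
      exact px.2.ne_top ((Ideal.eq_top_iff_one _).2 this)
    have h6 : px ∈ Set.range (Spec.map qs) := by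
      have := PrimeSpectrum.localization_away_comap_range (Localization.Away s) s
      change px ∈ Set.range (PrimeSpectrum.comap (algebraMap Γ(X, W) (Localization.Away s)))
      rw [this]
      exact h5
    obtain ⟨z, hz⟩ := h6
    exact ⟨z, by rw [Scheme.Hom.comp_apply, hz, h1]⟩
  · rw [Category.assoc, Category.assoc, key qs]
    ext b
    simp only [CommRingCat.hom_comp, RingHom.comp_apply]
    have h1 := hr _ (hmem b)
    have h2 : algebraMap Γ(X, W) (Localization.Away s)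
        ((φ.appLE V W e1).hom b - (ψ.appLE V W e2).hom b) = 0 := by
      have h3 := congrArg (algebraMap Γ(X, W) (Localization.Away s)) h1
      rw [map_mul, map_zero] at h3
      have hu : IsUnit (algebraMap Γ(X, W) (Localization.Away s) s) :=
        IsLocalization.Away.algebraMap_isUnit s
      exact (hu.mul_right_eq_zero).1 h3
    rw [map_sub, sub_eq_zero] at h2
    exact h2

end Groth.Agent.Lib.Helper14.Thick
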