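import Groth.Agent.Lib.Helper14.Thick3

set_option autoImplicit false
universe u
open AlgebraicGeometry CategoryTheory CategoryTheory.Limits

namespace Groth.Agent.Lib.Helper14.Thick

/-- Morphisms out of a proper scheme over a complete Noetherian ring which agree on all
infinitesimal neighbourhoods of the special fibre are equal. -/
theorem eq_of_forall_thick_comp_eq (A : Type u) [CommRing A] [IsNoetherianRing A] (I : Ideal A)
    [IsAdicComplete I A] {X Y : Scheme.{u}} (f : X ⟶ Spec (CommRingCat.of A)) [IsProper f]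
    (φ ψ : X ⟶ Y)
    (e : ∀ n : ℕ, CohB1.thickι f I n ≫ φ = CohB1.thickι f I n ≫ ψ) : φ = ψ := by
  let E' : Set X := {x | ∃ (T : Scheme.{u}) (g : T ⟶ X), IsOpenImmersion g ∧ x ∈ Set.range g ∧
    g ≫ φ = g ≫ ψ}
  have hopen : IsOpen E' := by
    rw [isOpen_iff_forall_mem_open]
    rintro x ⟨T, g, hg, hxg, hgφ⟩
    exact ⟨Set.range g, fun z hz => ⟨T, g, hg, hz, hgφ⟩, g.isOpenEmbedding.isOpen_range, hxg⟩
  have hall : ∀ x : X, x ∈ E' := by
    by_contra hne
    push Not at hne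
    obtain ⟨x₁, hx₁⟩ := hne
    have hZcl : IsClosed (E'ᶜ) := hopen.isClosed_compl
    have hfZ : IsClosed (f '' E'ᶜ) := f.isClosedMap _ hZcl
    obtain ⟨K, hK⟩ := (PrimeSpectrum.isClosed_iff_zeroLocus_ideal _).1 hfZ
    have hKne : K ≠ ⊤ := by
      intro h
      have h1 : f x₁ ∈ f '' E'ᶜ := ⟨x₁, hx₁, rfl⟩
      rw [hK, h, Submodule.top_coe, PrimeSpectrum.zeroLocus_univ] at h1
      exact h1
    obtain ⟨M, hM, hKM⟩ := Ideal.exists_le_maximal K hKne
    have hMmem : (⟨M, hM.isPrime⟩ : PrimeSpectrum A) ∈ f '' E'ᶜ := by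
      rw [hK]
      exact hKM
    obtain ⟨z, hz, hfz⟩ := hMmem
    have hIM : I ≤ M :=
      (IsAdicComplete.le_jacobson_bot I).trans (sInf_le ⟨bot_le, hM⟩)
    apply hz
    refine exists_open_nhd_eq I f φ ψ e z ?_
    rw [hfz]
    exact hIM
  choose T g hg hxg hgφ using hall
  let 𝒰 : X.OpenCover := Scheme.Cover.mkOfCovers X T g (fun x => ⟨x, hxg x⟩) hg
  exact Scheme.Cover.hom_ext 𝒰 φ ψ hgφ

end Groth.Agent.Lib.Helper14.Thick
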