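import Mathlib
import Groth.Prelude.Def_HTop
import Groth.Prelude.Def_MoreMor

universe u w

open CategoryTheory CategoryTheory.Limits AlgebraicGeometry Opposite

namespace Groth.Agent.Lib.Helper14.ThickSheaf

/-- A sheaf on `Over S` takes the same values on the source and target of a monomorphism
which is covering as a one-arrow family. -/
theorem bijective_of_singleton_mem {S : Scheme.{u}} (J : GrothendieckTopology Scheme.{u})
    (F : Sheaf (J.over S) (Type w)) {X X' : Over S} (f : X ⟶ X') [Mono f.left]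
    (h : Sieve.generate (Presieve.singleton f.left) ∈ J X'.left) :
    Function.Bijective (F.obj.map f.op) := by
  have hmono : Mono f := by
    constructor
    intro Z a b hab
    ext
    have := congrArg (fun k => k.left) hab
    simp only [Over.comp_left] at this
    exact (cancel_mono f.left).1 this
  have hS : Sieve.generate (Presieve.singleton f) ∈ (J.over S) X' := by
    rw [GrothendieckTopology.mem_over_iff]
    refine J.superset_covering ?_ h
    rintro Z g ⟨W, a, b, ⟨⟩, rfl⟩
    rw [Sieve.overEquiv_iff]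
    refine ⟨X, Over.homMk a (by simp), f, Presieve.singleton.mk, ?_⟩
    ext
    simp
  have h1 : Presieve.IsSheaf (J.over S) F.obj := (isSheaf_iff_isSheaf_of_type _ _).1 F.property
  have h2 := h1 _ hS
  rw [← Presieve.isSheafFor_iff_generate] at h2
  rw [Presieve.isSheafFor_singleton] at h2
  constructor
  · intro y₁ y₂ hy
    obtain ⟨y, -, hy'⟩ := h2 (F.obj.map f.op y₁) (fun p₁ p₂ hp => by
      rw [(cancel_mono f).1 hp])
    rw [hy' y₁ rfl, hy' y₂ hy.symm]
  · intro x
    obtain ⟨y, hy, -⟩ := h2 x (fun p₁ p₂ hp => by rw [(cancel_mono f).1 hp])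
    exact ⟨y, hy⟩

theorem isPhCover_singleton_of_thickening {X X' : Scheme.{u}} (i : X ⟶ X')
    [IsClosedImmersion i] [Surjective i] :
    HTop.IsPhCover (PreZeroHypercover.singleton.{0} i) := by
  refine ⟨fun _ => (inferInstance : LocallyOfFiniteType i), ?_⟩
  intro U
  have hU' : IsAffineOpen (i ⁻¹ᵁ U.1) := U.2.preimage i
  refine ⟨PreZeroHypercover.singleton.{0} (i ∣_ U.1), ?_, ?_⟩
  · have hs : Surjective (i ∣_ U.1) := IsZariskiLocalAtTarget.restrict (P := @Surjective) ‹_› U.1
    refine ⟨U.2, (inferInstance : Finite PUnit.{1}), fun _ => hU', ?_⟩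
    refine ⟨(i ⁻¹ᵁ U.1 : Scheme.{u}), i ∣_ U.1, fun _ => 𝟙 _, inferInstance, hs,
      fun _ => (inferInstance : IsOpenImmersion (𝟙 _)), fun _ => Category.id_comp _,
      fun x => ⟨PUnit.unit, x, rfl⟩⟩
  · intro j
    refine ⟨PUnit.unit, (i ⁻¹ᵁ U.1).ι, ?_⟩
    exact (morphismRestrict_ι i U.1).symm

end Groth.Agent.Lib.Helper14.ThickSheaf
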