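import Mathlib
import Groth.Agent.Lib.Helper10.Thick2
import Groth.Agent.Lib.Helper1.AffThick

/-!
# Lifting finiteness / closed immersion / properness along a thickening of a locally
Noetherian base (helper14)
-/

set_option autoImplicit false

universe u

open AlgebraicGeometry CategoryTheory CategoryTheory.Limits TopologicalSpace Opposite

namespace Groth.Agent.Lib.Helper14.ThickStep

open Groth.Agent.Lib.Helper10.Thick

section Ring

variable {A' A B' B : Type u} [CommRing A'] [CommRing A] [CommRing B'] [CommRing B]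
  (φ : A' →+* A) (ψ : A' →+* B') (α : A →+* B) (β : B' →+* B)

theorem finite_of_isPushout_nilpotent
    (hpo : IsPushout (CommRingCat.ofHom φ) (CommRingCat.ofHom ψ) (CommRingCat.ofHom α)
      (CommRingCat.ofHom β)) (hφ : Function.Surjective φ) (hnil : IsNilpotent (RingHom.ker φ))
    (hα : α.Finite) : ψ.Finite := by
  classical
  have hw : ∀ x, α (φ x) = β (ψ x) := fun x => congrArg (fun m => m.hom x) hpo.w
  have hβ := surjective_of_isPushout φ ψ α β hpo hφ
  let _ : Algebra A' B' := ψ.toAlgebra
  let _ : Algebra A B := α.toAlgebra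
  have : Module.Finite A B := hα
  obtain ⟨S, hS⟩ := (Module.Finite.fg_top : (⊤ : Submodule A B).FG)
  choose lift hlift using hβ
  let T : Finset B' := S.image lift
  let N : Submodule A' B' := Submodule.span A' (T : Set B')
  have hsurjN : ∀ b : B, ∃ c ∈ N, β c = b := by
    intro b
    have hb : b ∈ Submodule.span A (S : Set B) := by rw [hS]; trivial
    induction hb using Submodule.span_induction with
    | mem x hx =>
      refine ⟨lift x, Submodule.subset_span ?_, hlift x⟩
      exact Finset.mem_coe.mpr (Finset.mem_image_of_mem lift hx)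
    | zero => exact ⟨0, Submodule.zero_mem _, map_zero _⟩
    | add x y _ _ hx hy =>
      obtain ⟨c1, h1, e1⟩ := hx
      obtain ⟨c2, h2, e2⟩ := hy
      exact ⟨c1 + c2, Submodule.add_mem _ h1 h2, by rw [map_add, e1, e2]⟩
    | smul a x _ hx =>
      obtain ⟨c, h1, e1⟩ := hx
      obtain ⟨a', rfl⟩ := hφ a
      refine ⟨a' • c, Submodule.smul_mem _ _ h1, ?_⟩
      have h2 : a' • c = ψ a' * c := rfl
      have h3 : φ a' • x = α (φ a') * x := rfl
      rw [h2, map_mul, e1, ← hw, h3]
  have hN : N = ⊤ := by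
    apply eq_top_of_sup_smul_top (RingHom.ker φ) hnil
    intro b _
    obtain ⟨c, hc, hcb⟩ := hsurjN (β b)
    have hdiff : b - c ∈ (RingHom.ker φ).map ψ := by
      apply ker_le_map_of_isPushout φ ψ α β hpo hφ
      rw [RingHom.mem_ker, map_sub, hcb, sub_self]
    have hJ : b - c ∈ (RingHom.ker φ) • (⊤ : Submodule A' B') :=
      mem_smul_top_of_mem_map ψ _ _ hdiff
    have : b = c + (b - c) := by ring
    rw [this]
    exact Submodule.add_mem_sup hc hJ
  change Module.Finite A' B'
  exact ⟨⟨T, hN⟩⟩

theorem surjective_of_isPushout_nilpotent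
    (hpo : IsPushout (CommRingCat.ofHom φ) (CommRingCat.ofHom ψ) (CommRingCat.ofHom α)
      (CommRingCat.ofHom β)) (hφ : Function.Surjective φ) (hnil : IsNilpotent (RingHom.ker φ))
    (hα : Function.Surjective α) : Function.Surjective ψ := by
  let _ : Algebra A' B' := ψ.toAlgebra
  let N : Submodule A' B' := LinearMap.range (Algebra.linearMap A' B')
  have hN : N = ⊤ := by
    apply eq_top_of_sup_smul_top (RingHom.ker φ) hnil
    intro b _
    obtain ⟨a, ha⟩ := hα (β b)
    obtain ⟨a', rfl⟩ := hφ a
    have hdiff := sub_mem_of_isPushout φ ψ α β hpo hφ b a' ha.symm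
    have hJ : b - ψ a' ∈ (RingHom.ker φ) • (⊤ : Submodule A' B') :=
      mem_smul_top_of_mem_map ψ _ _ hdiff
    have : b = ψ a' + (b - ψ a') := by ring
    rw [this]
    exact Submodule.add_mem_sup ⟨a', rfl⟩ hJ
  intro b
  have hb : b ∈ N := by rw [hN]; trivial
  obtain ⟨a', ha'⟩ := hb
  exact ⟨a', ha'⟩

end Ring

section Scheme

variable {X X' Y Y' : Scheme.{u}} {iX : X ⟶ X'} {iY : Y ⟶ Y'} {f : X ⟶ Y} {f' : X' ⟶ Y'}

theorem isNilpotent_ker_appLE [IsClosedImmersion iY] [Surjective iY] [IsLocallyNoetherian Y']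
    {U' : Y'.Opens} (hU' : IsAffineOpen U') :
    IsNilpotent (RingHom.ker (iY.appLE U' (iY ⁻¹ᵁ U') le_rfl).hom) := by
  have hN : IsNoetherianRing Γ(Y', U') := IsLocallyNoetherian.component_noetherian ⟨U', hU'⟩
  have hfg : (RingHom.ker (iY.appLE U' (iY ⁻¹ᵁ U') le_rfl).hom).FG :=
    (isNoetherianRing_iff_ideal_fg _).mp hN _
  rw [hfg.isNilpotent_iff_le_nilradical]
  exact ker_appLE_le_nilradical hU'

theorem closedImmersion_fst (hc : IsPullback iX f f' iY) [IsClosedImmersion iY] :
    IsClosedImmersion iX :=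
  MorphismProperty.of_isPullback (P := @IsClosedImmersion) hc.flip inferInstance

theorem surjective_fst (hc : IsPullback iX f f' iY) [Surjective iY] : Surjective iX :=
  MorphismProperty.of_isPullback (P := @Surjective) hc.flip inferInstance

theorem preimage_eq (hc : IsPullback iX f f' iY) (U' : Y'.Opens) :
    iX ⁻¹ᵁ (f' ⁻¹ᵁ U') = f ⁻¹ᵁ (iY ⁻¹ᵁ U') := by
  rw [← Scheme.Hom.comp_preimage, ← Scheme.Hom.comp_preimage, hc.w]

theorem isAffineHom_of_thick (hc : IsPullback iX f f' iY) [IsClosedImmersion iY] [Surjective iY]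
    [IsAffineHom f] : IsAffineHom f' := by
  have := closedImmersion_fst hc
  have hs := surjective_fst hc
  refine ⟨fun U' hU' => ?_⟩
  apply Groth.Agent.Lib.Helper1.AffThick.isAffineOpen_of_preimage iX hs.surj
  rw [preimage_eq hc]
  exact (hU'.preimage iY).preimage f

theorem finite_appLE_of_eq {X Y : Scheme.{u}} (f : X ⟶ Y) [IsFinite f] {U : Y.Opens}
    (hU : IsAffineOpen U) {V : X.Opens} (h : V = f ⁻¹ᵁ U) : (f.appLE U V h.le).hom.Finite := by
  subst h
  rw [Scheme.Hom.appLE_eq_app]
  exact f.finite_app U hU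

theorem surjective_appLE_of_eq {X Y : Scheme.{u}} (f : X ⟶ Y) [IsClosedImmersion f] {U : Y.Opens}
    (hU : IsAffineOpen U) {V : X.Opens} (h : V = f ⁻¹ᵁ U) :
    Function.Surjective (f.appLE U V h.le).hom := by
  subst h
  rw [Scheme.Hom.appLE_eq_app]
  exact f.app_surjective U hU

theorem isFinite_of_thick (hc : IsPullback iX f f' iY) [IsClosedImmersion iY] [Surjective iY]
    [IsLocallyNoetherian Y'] [IsFinite f] : IsFinite f' := by
  have haff : IsAffineHom f' := isAffineHom_of_thick hc
  refine { toIsAffineHom := haff, finite_app := fun U' hU' => ?_ }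
  have hV' : IsAffineOpen (f' ⁻¹ᵁ U') := hU'.preimage f'
  have hpo := isPushout_sections hc hU' hV' le_rfl
  have hφ := appLE_surjective (iY := iY) hU'
  have hnil := isNilpotent_ker_appLE (iY := iY) hU'
  have hα : (f.appLE (iY ⁻¹ᵁ U') (iX ⁻¹ᵁ (f' ⁻¹ᵁ U')) (preimage_le hc le_rfl)).hom.Finite :=
    finite_appLE_of_eq f (hU'.preimage iY) (preimage_eq hc U')
  have h : (f'.appLE U' (f' ⁻¹ᵁ U') le_rfl).hom.Finite :=
    finite_of_isPushout_nilpotent _ _ _ _ hpo hφ hnil hα
  rw [Scheme.Hom.appLE_eq_app] at h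
  exact h

theorem isClosedImmersion_of_thick (hc : IsPullback iX f f' iY) [IsClosedImmersion iY]
    [Surjective iY] [IsLocallyNoetherian Y'] [IsClosedImmersion f] : IsClosedImmersion f' := by
  have haff : IsAffineHom f' := isAffineHom_of_thick hc
  rw [isClosedImmersion_iff_isAffineHom]
  refine ⟨haff, fun U' hU' => ?_⟩
  have hV' : IsAffineOpen (f' ⁻¹ᵁ U') := hU'.preimage f'
  have hpo := isPushout_sections hc hU' hV' le_rfl
  have hφ := appLE_surjective (iY := iY) hU'
  have hnil := isNilpotent_ker_appLE (iY := iY) hU'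
  have hα : Function.Surjective
      (f.appLE (iY ⁻¹ᵁ U') (iX ⁻¹ᵁ (f' ⁻¹ᵁ U')) (preimage_le hc le_rfl)).hom :=
    surjective_appLE_of_eq f (hU'.preimage iY) (preimage_eq hc U')
  have h : Function.Surjective (f'.appLE U' (f' ⁻¹ᵁ U') le_rfl).hom :=
    surjective_of_isPushout_nilpotent _ _ _ _ hpo hφ hnil hα
  rw [Scheme.Hom.appLE_eq_app] at h
  exact h

theorem locallyOfFiniteType_of_thick (hc : IsPullback iX f f' iY) [IsClosedImmersion iY]
    [Surjective iY] [IsLocallyNoetherian Y'] [hf : LocallyOfFiniteType f] :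
    LocallyOfFiniteType f' := by
  have := closedImmersion_fst hc
  rw [HasRingHomProperty.iff_appLE (P := @LocallyOfFiniteType)]
  intro U' V' e
  have hpo := isPushout_sections hc U'.2 V'.2 e
  have hφ := appLE_surjective (iY := iY) U'.2
  have hnil := isNilpotent_ker_appLE (iY := iY) U'.2
  have hα : (f.appLE (iY ⁻¹ᵁ U'.1) (iX ⁻¹ᵁ V'.1) (preimage_le hc e)).hom.FiniteType :=
    HasRingHomProperty.appLE (P := @LocallyOfFiniteType) f hf
      ⟨_, U'.2.preimage iY⟩ ⟨_, V'.2.preimage iX⟩ _
  exact finiteType_of_isPushout_nilpotent _ _ _ _ hpo hφ hnil hα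

/-- separatedness descends along a surjective closed immersion of the source -/
theorem isSeparated_of_comp_thick {X X' Y' : Scheme.{u}} (i : X ⟶ X') [IsClosedImmersion i]
    [Surjective i] (f' : X' ⟶ Y') [IsSeparated (i ≫ f')] : IsSeparated f' := by
  let m : pullback (i ≫ f') (i ≫ f') ⟶ pullback f' f' :=
    pullback.map (i ≫ f') (i ≫ f') f' f' i i (𝟙 _) ((Category.comp_id _).trans rfl)
      ((Category.comp_id _).trans rfl)
  have hstab : MorphismProperty.IsStableUnderComposition @IsClosedImmersion.{u} :=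
    (inferInstance : MorphismProperty.IsMultiplicative @IsClosedImmersion.{u}).toIsStableUnderComposition
  have hm : IsClosedImmersion m :=
    MorphismProperty.pullbackMap (P := @IsClosedImmersion.{u}) (f := i ≫ f') (g := i ≫ f')
      (f' := f') (g' := f') (i₁ := i) (i₂ := i) inferInstance inferInstance rfl rfl
  have hcomm : pullback.diagonal (i ≫ f') ≫ m = i ≫ pullback.diagonal f' := by
    apply pullback.hom_ext
    · simp only [m, pullback.map, Category.assoc, pullback.lift_fst, pullback.diagonal_fst,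
        pullback.diagonal_fst_assoc, Category.comp_id]
    · simp only [m, pullback.map, Category.assoc, pullback.lift_snd, pullback.diagonal_snd,
        pullback.diagonal_snd_assoc, Category.comp_id]
  have hrange : Set.range (pullback.diagonal f') = m '' Set.range (pullback.diagonal (i ≫ f')) := by
    ext z
    constructor
    · rintro ⟨x', rfl⟩
      obtain ⟨x, rfl⟩ := i.surjective x'
      refine ⟨pullback.diagonal (i ≫ f') x, ⟨x, rfl⟩, ?_⟩
      rw [← Scheme.Hom.comp_apply, hcomm, Scheme.Hom.comp_apply]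
    · rintro ⟨_, ⟨x, rfl⟩, rfl⟩
      refine ⟨i x, ?_⟩
      rw [← Scheme.Hom.comp_apply, ← hcomm, Scheme.Hom.comp_apply]
  have hclosed : IsClosed (Set.range (pullback.diagonal f')) := by
    rw [hrange]
    exact m.isClosedEmbedding.isClosedMap _
      (pullback.diagonal (i ≫ f')).isClosedEmbedding.isClosed_range
  exact ⟨IsClosedImmersion.of_isPreimmersion _ hclosed⟩

theorem isProper_of_thick (hc : IsPullback iX f f' iY) [IsClosedImmersion iY]
    [Surjective iY] [IsLocallyNoetherian Y'] [IsProper f] : IsProper f' := by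
  have := closedImmersion_fst hc
  have := surjective_fst hc
  have hsep : IsSeparated (iX ≫ f') := by rw [hc.w]; infer_instance
  have huc : UniversallyClosed (iX ≫ f') := by rw [hc.w]; infer_instance
  have h1 : IsSeparated f' := isSeparated_of_comp_thick iX f'
  have h2 : UniversallyClosed f' := UniversallyClosed.of_comp_surjective iX f'
  have h3 : LocallyOfFiniteType f' := locallyOfFiniteType_of_thick hc
  exact { toIsSeparated := h1, toUniversallyClosed := h2, toLocallyOfFiniteType := h3 }

end Scheme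

end Groth.Agent.Lib.Helper14.ThickStep
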