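import Mathlib.CategoryTheory.Adjunction.Basic

open CategoryTheory

namespace Groth.Agent.Lib.Helper14

universe v₁ v₂ v₃ v₄ u₁ u₂ u₃ u₄

theorem trace_compat_abstract {X : Type u₁} {Y : Type u₂} {X' : Type u₃} {Y' : Type u₄}
    [Category.{v₁} X] [Category.{v₂} Y] [Category.{v₃} X'] [Category.{v₄} Y']
    {F : X ⥤ Y} {F' : X' ⥤ Y'} {G : Y' ⥤ Y} {G' : X' ⥤ X} {L : Y ⥤ Y'} {L' : X ⥤ X'}
    {a : Y ⥤ X} {a' : Y' ⥤ X'}
    (adj : F ⊣ a) (adj' : F' ⊣ a') (adjg : L ⊣ G) (adjg' : L' ⊣ G')
    (e : G' ⋙ F ≅ F' ⋙ G) (K : Y)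
    (ξ : G'.obj (a'.obj (L.obj K)) ⟶ a.obj (G.obj (L.obj K)))
    (hξdef : ξ = (adj.homEquiv _ _)
      (e.hom.app (a'.obj (L.obj K)) ≫ G.map (adj'.counit.app (L.obj K))))
    (hξ : IsIso ξ) :
    (adjg.homEquiv _ _).symm (F.map (adjg'.unit.app (a.obj K)) ≫ e.hom.app (L'.obj (a.obj K))) ≫
      F'.map (L'.map (a.map (adjg.unit.app K)) ≫
        L'.map (@inv _ _ _ _ ξ hξ) ≫
        adjg'.counit.app (a'.obj (L.obj K))) ≫
      adj'.counit.app (L.obj K) = L.map (adj.counit.app K) := by
  set bc := L'.map (a.map (adjg.unit.app K)) ≫ L'.map (inv ξ) ≫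
        adjg'.counit.app (a'.obj (L.obj K)) with hbc
  -- key1
  have key1 : adjg'.unit.app (a.obj K) ≫ G'.map bc = a.map (adjg.unit.app K) ≫ inv ξ := by
    rw [hbc]
    have h1 := adjg'.unit.naturality (a.map (adjg.unit.app K) ≫ inv ξ)
    simp only [Functor.id_obj, Functor.id_map, Functor.comp_obj, Functor.comp_map] at h1
    simp only [Functor.map_comp, Category.assoc] at h1 ⊢
    rw [← Category.assoc (G'.map _), ← Category.assoc (adjg'.unit.app _), ← Category.assoc (adjg'.unit.app _)]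
    rw [Category.assoc (adjg'.unit.app _), ← h1]
    simp only [Category.assoc]
    rw [adjg'.right_triangle_components, Category.comp_id]
  -- key2
  have key2 : F.map ξ ≫ adj.counit.app _ =
      e.hom.app (a'.obj (L.obj K)) ≫ G.map (adj'.counit.app (L.obj K)) := by
    have h := adj.homEquiv_counit (G'.obj (a'.obj (L.obj K))) (G.obj (L.obj K)) ξ
    rw [← h, hξdef]
    exact Equiv.symm_apply_apply _ _
  -- the inner map
  have h2 : (F.map (adjg'.unit.app (a.obj K)) ≫ e.hom.app (L'.obj (a.obj K))) ≫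
      G.map (F'.map bc ≫ adj'.counit.app (L.obj K)) = adj.counit.app K ≫ adjg.unit.app K := by
    have hnat : e.hom.app (L'.obj (a.obj K)) ≫ G.map (F'.map bc)
        = F.map (G'.map bc) ≫ e.hom.app _ := (e.hom.naturality bc).symm
    have hcn : F.map (a.map (adjg.unit.app K)) ≫ adj.counit.app _
        = adj.counit.app K ≫ adjg.unit.app K := adj.counit_naturality _
    calc (F.map (adjg'.unit.app (a.obj K)) ≫ e.hom.app (L'.obj (a.obj K))) ≫
          G.map (F'.map bc ≫ adj'.counit.app (L.obj K))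
        = F.map (adjg'.unit.app (a.obj K)) ≫ (e.hom.app (L'.obj (a.obj K)) ≫ G.map (F'.map bc)) ≫
            G.map (adj'.counit.app (L.obj K)) := by
          simp only [Functor.map_comp, Category.assoc]
      _ = F.map (adjg'.unit.app (a.obj K) ≫ G'.map bc) ≫
            (e.hom.app _ ≫ G.map (adj'.counit.app (L.obj K))) := by
          rw [hnat]; simp only [Functor.map_comp, Category.assoc]
      _ = F.map (a.map (adjg.unit.app K) ≫ inv ξ) ≫ (F.map ξ ≫ adj.counit.app _) := by
          rw [key1, key2]; rfl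
      _ = F.map (a.map (adjg.unit.app K)) ≫ adj.counit.app _ := by
          rw [CategoryTheory.Functor.map_comp, Category.assoc,
            ← CategoryTheory.Functor.map_comp_assoc F (inv ξ) ξ,
            IsIso.inv_hom_id, CategoryTheory.Functor.map_id, Category.id_comp]; rfl
      _ = adj.counit.app K ≫ adjg.unit.app K := hcn
  -- assemble
  have h0 := adjg.homEquiv_counit _ _
    (F.map (adjg'.unit.app (a.obj K)) ≫ e.hom.app (L'.obj (a.obj K)))
  rw [h0]
  have hcn2 : L.map (G.map (F'.map bc ≫ adj'.counit.app (L.obj K))) ≫ adjg.counit.app (L.obj K)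
      = adjg.counit.app _ ≫ (F'.map bc ≫ adj'.counit.app (L.obj K)) := adjg.counit_naturality _
  calc (L.map (F.map (adjg'.unit.app (a.obj K)) ≫ e.hom.app (L'.obj (a.obj K))) ≫
        adjg.counit.app _) ≫ F'.map bc ≫ adj'.counit.app (L.obj K)
      = L.map (F.map (adjg'.unit.app (a.obj K)) ≫ e.hom.app (L'.obj (a.obj K))) ≫
          L.map (G.map (F'.map bc ≫ adj'.counit.app (L.obj K))) ≫ adjg.counit.app (L.obj K) := by
        rw [Category.assoc, hcn2]; rfl
    _ = L.map (adj.counit.app K ≫ adjg.unit.app K) ≫ adjg.counit.app (L.obj K) := by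
        rw [← Functor.map_comp_assoc, h2]
    _ = L.map (adj.counit.app K) := by
        rw [CategoryTheory.Functor.map_comp, Category.assoc]
        have := adjg.left_triangle_components K
        erw [this, Category.comp_id]

end Groth.Agent.Lib.Helper14
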