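import Mathlib

set_option autoImplicit false
universe u
open Algebra Cardinal

namespace Groth.Agent.Lib.Helper14.TrdegPt

section P
variable {R A S B : Type*} [CommRing R] [CommRing A] [Algebra R A] [CommRing S] [CommRing B]
  [Algebra S B]

/-- Images of elements algebraic over `R[x]` are algebraic over any subalgebra containing the
images of the `x i`. -/
theorem isAlgebraic_map_of_adjoin {ι : Type*} (φ : A →+* B) (ψ : R →+* S)
    (hcomm : φ.comp (algebraMap R A) = (algebraMap S B).comp ψ) (hφ : Function.Injective φ)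
    (x : ι → A) (D : Subalgebra S B) (hD : ∀ i, φ (x i) ∈ D) {a : A}
    (ha : IsAlgebraic (adjoin R (Set.range x)) a) : IsAlgebraic D (φ a) := by
  have hmem : ∀ d ∈ adjoin R (Set.range x), φ d ∈ D := by
    intro d hd
    induction hd using Algebra.adjoin_induction with
    | mem y hy => obtain ⟨i, rfl⟩ := hy; exact hD i
    | algebraMap r =>
      have : φ (algebraMap R A r) = algebraMap S B (ψ r) := RingHom.congr_fun hcomm r
      rw [this]; exact D.algebraMap_mem _
    | add y z _ _ hy hz => rw [map_add]; exact D.add_mem hy hz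
    | mul y z _ _ hy hz => rw [map_mul]; exact D.mul_mem hy hz
  let f : adjoin R (Set.range x) →+* D :=
    (φ.comp (adjoin R (Set.range x)).toSubring.subtype).codRestrict D.toSubring
      (fun d => hmem d.1 d.2)
  refine ha.ringHom_of_comp_eq f φ ?_ ?_
  · intro d e h
    apply Subtype.ext
    apply hφ
    exact congrArg Subtype.val h
  · ext d; rfl

end P

section A
variable {k F K L : Type u} [Field k] [Field F] [Field K] [Field L]
  [Algebra k F] [Algebra k K] [Algebra F L] [Algebra K L] [Algebra k L]
  [IsScalarTower k F L] [IsScalarTower k K L]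

theorem isAlgebraic_adjoin_of_closure_eq_top
    (hgen : Subfield.closure (Set.range (algebraMap F L) ∪ Set.range (algebraMap K L)) = ⊤)
    {ι : Type*} (x : ι → F) (hx : IsTranscendenceBasis k x) :
    Algebra.IsAlgebraic (adjoin K (Set.range (algebraMap F L ∘ x))) L := by
  obtain ⟨D, hD⟩ : ∃ D : Subalgebra K L, D = adjoin K (Set.range (algebraMap F L ∘ x)) := ⟨_, rfl⟩
  rw [← hD]
  let E : Subfield L :=
    { (Subalgebra.algebraicClosure D L).toSubring with
      inv_mem' := fun a ha => IsAlgebraic.inv ha }
  have hE : ⊤ ≤ E := by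
    rw [← hgen, Subfield.closure_le]
    rintro _ (⟨y, rfl⟩ | ⟨z, rfl⟩)
    · have hy : IsAlgebraic (adjoin k (Set.range x)) y := hx.isAlgebraic.isAlgebraic y
      have hc : (algebraMap F L).comp (algebraMap k F) = (algebraMap K L).comp (algebraMap k K) := by
        ext c
        simp only [RingHom.comp_apply, ← IsScalarTower.algebraMap_apply]
      exact isAlgebraic_map_of_adjoin (algebraMap F L) (algebraMap k K) hc
        (algebraMap F L).injective x D (fun i => hD ▸ subset_adjoin ⟨i, rfl⟩) hy
    · have : algebraMap K L z = algebraMap D L (algebraMap K D z) := rfl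
      exact this ▸ isAlgebraic_algebraMap _
  exact ⟨fun l => hE (Subfield.mem_top l)⟩

theorem trdeg_le_of_closure_eq_top
    (hgen : Subfield.closure (Set.range (algebraMap F L) ∪ Set.range (algebraMap K L)) = ⊤) :
    trdeg K L ≤ trdeg k F := by
  obtain ⟨ι, x, hx⟩ := exists_isTranscendenceBasis' k F
  have := isAlgebraic_adjoin_of_closure_eq_top (K := K) (L := L) hgen x hx
  calc trdeg K L ≤ #(Set.range (algebraMap F L ∘ x)) := Algebra.IsAlgebraic.trdeg_le_cardinalMk K _
    _ ≤ #ι := mk_range_le
    _ = trdeg k F := hx.cardinalMk_eq_trdeg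

theorem isTranscendenceBasis_map_of_trdeg_eq
    (hgen : Subfield.closure (Set.range (algebraMap F L) ∪ Set.range (algebraMap K L)) = ⊤)
    {r : ℕ} (x : Fin r → F) (hx : IsTranscendenceBasis k x) (h : trdeg K L = r) :
    IsTranscendenceBasis K (algebraMap F L ∘ x) := by
  haveI := isAlgebraic_adjoin_of_closure_eq_top (K := K) (L := L) hgen x hx
  refine Algebra.IsAlgebraic.isTranscendenceBasis_of_lift_le_trdeg_of_finite K
    (algebraMap F L ∘ x) ?_
  rw [h, Cardinal.mk_fin]
  simp

theorem exists_fin_isTranscendenceBasis {r : ℕ} (h : trdeg k F = r) :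
    ∃ x : Fin r → F, IsTranscendenceBasis k x := by
  obtain ⟨ι, x, hx⟩ := exists_isTranscendenceBasis' k F
  have hc : #ι = r := by rw [hx.cardinalMk_eq_trdeg, h]
  have hfin : Finite ι := by
    rw [← Cardinal.lt_aleph0_iff_finite, hc]; exact Cardinal.natCast_lt_aleph0
  have := Fintype.ofFinite ι
  have hcard : Fintype.card ι = r := by
    have : (Fintype.card ι : Cardinal) = r := by rw [← Cardinal.mk_fintype]; exact hc
    exact_mod_cast this
  let e : Fin r ≃ ι := (Fintype.equivFinOfCardEq hcard).symm
  exact ⟨x ∘ e, (isTranscendenceBasis_equiv e).mpr hx⟩ 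

end A

end Groth.Agent.Lib.Helper14.TrdegPt
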