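import Groth.Agent.Lib.Helper14.TrdegPt1

set_option autoImplicit false
universe u
open Algebra Cardinal

namespace Groth.Agent.Lib.Helper14.TrdegPt

section Q
variable {k F L : Type u} [Field k] [Field F] [Field L] [Algebra k F] [Algebra F L] [Algebra k L]
  [IsScalarTower k F L]

/-- Tower cancellation: if `x` is a transcendence basis of `F/k` and `x ⊔ y` one of `L/k`, then
`y` is a transcendence basis of `L/F`. -/
theorem isTranscendenceBasis_of_sumElim {ι ι' : Type*} (x : ι → F) (hx : IsTranscendenceBasis k x)
    (y : ι' → L) (hxy : IsTranscendenceBasis k (Sum.elim (algebraMap F L ∘ x) y)) :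
    IsTranscendenceBasis F y := by
  rw [isTranscendenceBasis_iff_algebraicIndependent_isAlgebraic]
  constructor
  · have h1 : AlgebraicIndependent k (Sum.elim y (algebraMap F L ∘ x)) := by
      have := hxy.1.comp Sum.swap Sum.swap_leftInverse.injective
      rwa [Sum.elim_swap] at this
    have h2 := (AlgebraicIndependent.sumElim_iff.mp h1).2
    have h3 := h2.subalgebraAlgebraicClosure
    obtain ⟨D, hD⟩ : ∃ D : Subalgebra k L, D = adjoin k (Set.range (algebraMap F L ∘ x)) := ⟨_, rfl⟩
    rw [← hD] at h3
    have hmem : ∀ a : F, algebraMap F L a ∈ Subalgebra.algebraicClosure D L := by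
      intro a
      have ha : IsAlgebraic (adjoin k (Set.range x)) a := hx.isAlgebraic.isAlgebraic a
      exact isAlgebraic_map_of_adjoin (algebraMap F L) (RingHom.id k)
        (by ext c; simp [← IsScalarTower.algebraMap_apply]) (algebraMap F L).injective x D
        (fun i => hD ▸ subset_adjoin ⟨i, rfl⟩) ha
    letI : Algebra F (Subalgebra.algebraicClosure D L) :=
      ((algebraMap F L).codRestrict (Subalgebra.algebraicClosure D L).toSubring hmem).toAlgebra
    haveI : IsScalarTower F (Subalgebra.algebraicClosure D L) L :=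
      IsScalarTower.of_algebraMap_eq (fun _ => rfl)
    exact h3.restrictScalars (RingHom.injective _)
  · constructor
    intro l
    have hl := hxy.isAlgebraic.isAlgebraic l
    have := isAlgebraic_map_of_adjoin (RingHom.id L) (algebraMap k F)
      (by ext c; simp [← IsScalarTower.algebraMap_apply]) Function.injective_id
      (Sum.elim (algebraMap F L ∘ x) y) (adjoin F (Set.range y)) ?_ hl
    · exact this
    · rintro (i | j)
      · exact Subalgebra.algebraMap_mem _ _
      · exact subset_adjoin ⟨j, rfl⟩

end Q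

section C1
variable {F L Ω : Type u} [Field F] [Field L] [Algebra F L] [Field Ω] [IsAlgClosed Ω] [Algebra F Ω]

/-- Embedding into an algebraically closed field prescribing the images of a transcendence
basis. -/
theorem exists_embedding {ι V : Type*} (X' : V → Ω) (hX' : AlgebraicIndependent F X')
    (c : ι → L) (hc : IsTranscendenceBasis F c) (inj : ι → V) (hinj : Function.Injective inj) :
    ∃ φ : L →ₐ[F] Ω, ∀ i, φ (c i) = X' (inj i) := by
  classical
  obtain ⟨R, hR⟩ : ∃ R : Subalgebra F L, R = adjoin F (Set.range c) := ⟨_, rfl⟩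
  let e : MvPolynomial ι F ≃ₐ[F] R := hc.1.aevalEquiv.trans (Subalgebra.equivOfEq _ _ hR.symm)
  have he : ∀ i, e (MvPolynomial.X i) = ⟨c i, hR ▸ subset_adjoin ⟨i, rfl⟩⟩ := by
    intro i
    apply Subtype.ext
    change (algebraMap (adjoin F (Set.range c)) L (hc.1.aevalEquiv (MvPolynomial.X i))) = c i
    rw [hc.1.algebraMap_aevalEquiv, MvPolynomial.aeval_X]
  let ρ : R →ₐ[F] Ω := (MvPolynomial.aeval (X' ∘ inj)).comp e.symm.toAlgHom
  have hρinj : Function.Injective ρ := by
    have h1 : Function.Injective (MvPolynomial.aeval (R := F) (X' ∘ inj)) := hX'.comp inj hinj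
    exact h1.comp e.symm.injective
  letI : Algebra R Ω := ρ.toRingHom.toAlgebra
  haveI : IsScalarTower F R Ω := IsScalarTower.of_algebraMap_eq (fun a => (ρ.commutes a).symm)
  haveI : Algebra.IsAlgebraic R L := hR ▸ hc.isAlgebraic
  haveI : Module.IsTorsionFree R Ω := Module.isTorsionFree_iff_algebraMap_injective.mpr hρinj
  haveI : Module.IsTorsionFree R L :=
    Module.isTorsionFree_iff_algebraMap_injective.mpr Subtype.val_injective
  let φ : L →ₐ[R] Ω := IsAlgClosed.lift
  refine ⟨φ.restrictScalars F, fun i => ?_⟩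
  have h1 : c i = algebraMap R L ⟨c i, hR ▸ subset_adjoin ⟨i, rfl⟩⟩ := rfl
  rw [AlgHom.restrictScalars_apply, h1, φ.commutes]
  change ρ ⟨c i, _⟩ = _
  rw [← he i]
  change MvPolynomial.aeval (X' ∘ inj) (e.symm (e (MvPolynomial.X i))) = _
  rw [AlgEquiv.symm_apply_apply, MvPolynomial.aeval_X]
  rfl

end C1

section C2
variable {k F Ω : Type u} [Field k] [Field F] [Field Ω] [Algebra k F] [Algebra F Ω] [Algebra k Ω]
  [IsScalarTower k F Ω]

theorem algebraicIndependent_algebraicClosure_adjoin {ι V : Type*} (X' : V → Ω)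
    (hX' : AlgebraicIndependent F X') (x : ι → F) (hx : AlgebraicIndependent k x) :
    AlgebraicIndependent (Subalgebra.algebraicClosure (adjoin k (Set.range X')) Ω)
      (algebraMap F Ω ∘ x) := by
  have h2 : AlgebraicIndependent k (Sum.elim X' (algebraMap F Ω ∘ x)) := hx.sumElim_comp hX'
  have h3 : AlgebraicIndependent k (Sum.elim (algebraMap F Ω ∘ x) X') := by
    have := h2.comp Sum.swap Sum.swap_leftInverse.injective
    rwa [Sum.elim_swap] at this
  exact (AlgebraicIndependent.sumElim_iff.mp h3).2.subalgebraAlgebraicClosure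

end C2

end Groth.Agent.Lib.Helper14.TrdegPt
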