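import Groth.Agent.Lib.Helper14.TrdegPt2

set_option autoImplicit false
universe u
open Algebra Cardinal

namespace Groth.Agent.Lib.Helper14.TrdegPt

section C
variable {k F K₁ K₂ L₁ L₂ : Type u} [Field k] [Field F] [Field K₁] [Field K₂] [Field L₁] [Field L₂]
  [Algebra k F] [Algebra k K₁] [Algebra k K₂] [Algebra K₁ L₁] [Algebra K₂ L₂]
  [Algebra F L₁] [Algebra F L₂] [Algebra k L₁] [Algebra k L₂]
  [IsScalarTower k F L₁] [IsScalarTower k K₁ L₁] [IsScalarTower k F L₂] [IsScalarTower k K₂ L₂]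

/-- The images of `K₁` under an `F`-embedding of `L₁` land in the algebraic closure of
`k[X']`. -/
theorem map_mem_algebraicClosure {Ω : Type u} [Field Ω] [Algebra F Ω] [Algebra k Ω]
    [IsScalarTower k F Ω] {I V : Type*} (X' : V → Ω) (b : I → K₁) (hb : IsTranscendenceBasis k b)
    (inj : I → V) (φ : L₁ →ₐ[F] Ω) (hφ : ∀ i, φ ((algebraMap K₁ L₁ ∘ b) i) = X' (inj i)) (z : K₁) :
    φ (algebraMap K₁ L₁ z) ∈ Subalgebra.algebraicClosure (adjoin k (Set.range X')) Ω := by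
  have hz : IsAlgebraic (adjoin k (Set.range b)) z := hb.isAlgebraic.isAlgebraic z
  have := isAlgebraic_map_of_adjoin (φ.toRingHom.comp (algebraMap K₁ L₁)) (RingHom.id k) ?_
    ((φ.toRingHom.comp (algebraMap K₁ L₁)).injective) b (adjoin k (Set.range X'))
    (fun i => ?_) hz
  · exact this
  · ext c
    simp only [RingHom.comp_apply, RingHom.id_apply, AlgHom.toRingHom_eq_coe, RingHom.coe_coe]
    rw [← IsScalarTower.algebraMap_apply k K₁ L₁, IsScalarTower.algebraMap_apply k F L₁,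
      φ.commutes, ← IsScalarTower.algebraMap_apply k F Ω]
  · have := hφ i
    simp only [Function.comp_apply] at this
    change φ (algebraMap K₁ L₁ (b i)) ∈ _
    rw [this]
    exact subset_adjoin ⟨inj i, rfl⟩

theorem exists_common_field
    (hgen₁ : Subfield.closure (Set.range (algebraMap F L₁) ∪ Set.range (algebraMap K₁ L₁)) = ⊤)
    (hgen₂ : Subfield.closure (Set.range (algebraMap F L₂) ∪ Set.range (algebraMap K₂ L₂)) = ⊤)
    {r : ℕ} (x : Fin r → F) (hx : IsTranscendenceBasis k x)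
    (h₁ : trdeg K₁ L₁ = r) (h₂ : trdeg K₂ L₂ = r) :
    ∃ (Ω : Type u) (_ : Field Ω) (ι₁ : L₁ →+* Ω) (ι₂ : L₂ →+* Ω),
      ι₁.comp (algebraMap F L₁) = ι₂.comp (algebraMap F L₂) ∧
      ∀ (K : Type u) [Field K] (j : K →+* Ω),
        Set.range j ⊆ (Subfield.closure (Set.range (ι₁.comp (algebraMap K₁ L₁)) ∪
          Set.range (ι₂.comp (algebraMap K₂ L₂))) : Set Ω) →
        @AlgebraicIndependent _ K Ω (fun i => ι₁ (algebraMap F L₁ (x i))) _ _ j.toAlgebra := by
  classical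
  obtain ⟨I₁, b₁, hb₁⟩ := exists_isTranscendenceBasis' k K₁
  obtain ⟨I₂, b₂, hb₂⟩ := exists_isTranscendenceBasis' k K₂
  have hx₁ := isTranscendenceBasis_map_of_trdeg_eq (K := K₁) (L := L₁) hgen₁ x hx h₁
  have hx₂ := isTranscendenceBasis_map_of_trdeg_eq (K := K₂) (L := L₂) hgen₂ x hx h₂
  have hs₁ : IsTranscendenceBasis k (Sum.elim (algebraMap F L₁ ∘ x) (algebraMap K₁ L₁ ∘ b₁)) :=
    hb₁.sumElim_comp hx₁
  have hs₂ : IsTranscendenceBasis k (Sum.elim (algebraMap F L₂ ∘ x) (algebraMap K₂ L₂ ∘ b₂)) :=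
    hb₂.sumElim_comp hx₂
  have hc₁ : IsTranscendenceBasis F (algebraMap K₁ L₁ ∘ b₁) :=
    isTranscendenceBasis_of_sumElim x hx _ hs₁
  have hc₂ : IsTranscendenceBasis F (algebraMap K₂ L₂ ∘ b₂) :=
    isTranscendenceBasis_of_sumElim x hx _ hs₂
  obtain ⟨Ω, hΩ⟩ : ∃ Ω : Type u, Ω = AlgebraicClosure (FractionRing (MvPolynomial (I₁ ⊕ I₂) F)) :=
    ⟨_, rfl⟩
  subst hΩ
  have hinj : Function.Injective (algebraMap (MvPolynomial (I₁ ⊕ I₂) F)
      (AlgebraicClosure (FractionRing (MvPolynomial (I₁ ⊕ I₂) F)))) := by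
    rw [IsScalarTower.algebraMap_eq (MvPolynomial (I₁ ⊕ I₂) F)
      (FractionRing (MvPolynomial (I₁ ⊕ I₂) F))
      (AlgebraicClosure (FractionRing (MvPolynomial (I₁ ⊕ I₂) F)))]
    rw [RingHom.coe_comp]
    exact (RingHom.injective (algebraMap (FractionRing (MvPolynomial (I₁ ⊕ I₂) F))
      (AlgebraicClosure (FractionRing (MvPolynomial (I₁ ⊕ I₂) F))))).comp
      (IsFractionRing.injective (MvPolynomial (I₁ ⊕ I₂) F)
        (FractionRing (MvPolynomial (I₁ ⊕ I₂) F)))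
  obtain ⟨X', hX'def⟩ : ∃ X' : I₁ ⊕ I₂ → AlgebraicClosure (FractionRing (MvPolynomial (I₁ ⊕ I₂) F)),
      X' = fun v => algebraMap (MvPolynomial (I₁ ⊕ I₂) F) _ (MvPolynomial.X v) := ⟨_, rfl⟩
  have hX' : AlgebraicIndependent F X' := by
    have := (MvPolynomial.algebraicIndependent_X (I₁ ⊕ I₂) F).map'
      (f := IsScalarTower.toAlgHom F (MvPolynomial (I₁ ⊕ I₂) F)
        (AlgebraicClosure (FractionRing (MvPolynomial (I₁ ⊕ I₂) F)))) hinj
    rw [hX'def]
    exact this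
  obtain ⟨φ₁, hφ₁⟩ := exists_embedding X' hX' _ hc₁ (Sum.inl : I₁ → I₁ ⊕ I₂) Sum.inl_injective
  obtain ⟨φ₂, hφ₂⟩ := exists_embedding X' hX' _ hc₂ (Sum.inr : I₂ → I₁ ⊕ I₂) Sum.inr_injective
  refine ⟨_, inferInstance, φ₁.toRingHom, φ₂.toRingHom, ?_, ?_⟩
  · ext a
    simp only [RingHom.comp_apply, AlgHom.toRingHom_eq_coe, RingHom.coe_coe, AlgHom.commutes]
  · intro K _ j hj
    haveI : IsScalarTower k F (AlgebraicClosure (FractionRing (MvPolynomial (I₁ ⊕ I₂) F))) :=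
      inferInstance
    have h4 := algebraicIndependent_algebraicClosure_adjoin (k := k) X' hX' x hx.1
    obtain ⟨Ebar, hEbar⟩ : ∃ E : Subalgebra (adjoin k (Set.range X')) _,
        E = Subalgebra.algebraicClosure (adjoin k (Set.range X'))
          (AlgebraicClosure (FractionRing (MvPolynomial (I₁ ⊕ I₂) F))) := ⟨_, rfl⟩
    rw [← hEbar] at h4
    let E' : Subfield (AlgebraicClosure (FractionRing (MvPolynomial (I₁ ⊕ I₂) F))) :=
      { Ebar.toSubring with
        inv_mem' := fun a ha => by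
          rw [hEbar] at ha ⊢
          exact IsAlgebraic.inv ha }
    have hle : Subfield.closure (Set.range (φ₁.toRingHom.comp (algebraMap K₁ L₁)) ∪
        Set.range (φ₂.toRingHom.comp (algebraMap K₂ L₂))) ≤ E' := by
      rw [Subfield.closure_le]
      rintro _ (⟨z, rfl⟩ | ⟨z, rfl⟩)
      · change φ₁ (algebraMap K₁ L₁ z) ∈ Ebar
        rw [hEbar]
        exact map_mem_algebraicClosure X' b₁ hb₁ Sum.inl φ₁ hφ₁ z
      · change φ₂ (algebraMap K₂ L₂ z) ∈ Ebar
        rw [hEbar]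
        exact map_mem_algebraicClosure X' b₂ hb₂ Sum.inr φ₂ hφ₂ z
    have hjmem : ∀ a : K, j a ∈ Ebar := fun a => hle (hj ⟨a, rfl⟩)
    letI : Algebra K (AlgebraicClosure (FractionRing (MvPolynomial (I₁ ⊕ I₂) F))) := j.toAlgebra
    letI : Algebra K Ebar := (j.codRestrict Ebar.toSubring hjmem).toAlgebra
    haveI : IsScalarTower K Ebar (AlgebraicClosure (FractionRing (MvPolynomial (I₁ ⊕ I₂) F))) :=
      IsScalarTower.of_algebraMap_eq (fun _ => rfl)
    have h5 : AlgebraicIndependent K (algebraMap F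
        (AlgebraicClosure (FractionRing (MvPolynomial (I₁ ⊕ I₂) F))) ∘ x) :=
      h4.restrictScalars (RingHom.injective _)
    have h6 : (fun i => φ₁.toRingHom (algebraMap F L₁ (x i))) = (algebraMap F
        (AlgebraicClosure (FractionRing (MvPolynomial (I₁ ⊕ I₂) F))) ∘ x) := by
      funext i
      simp only [Function.comp_apply, AlgHom.toRingHom_eq_coe, RingHom.coe_coe, AlgHom.commutes]
    rw [h6]
    exact h5

end C

end Groth.Agent.Lib.Helper14.TrdegPt
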