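import Groth.Agent.Lib.Helper14.TrdegPt3
import Groth.Agent.Lib.Helper6.EtLocCompositum
import Groth.Prelude.Def_Dual3

set_option autoImplicit false
universe u
open CategoryTheory CategoryTheory.Limits AlgebraicGeometry

namespace Groth.Agent.Lib.Helper14.TrdegPt

/-- The residue field of a point of a fibre product (any pullback square) is generated by the
images of the residue fields of its two projections. -/
theorem closure_range_residueFieldMap_of_isPullback {P X Y S : Scheme.{u}} {fst : P ⟶ X}
    {snd : P ⟶ Y} {f : X ⟶ S} {g : Y ⟶ S} (h : IsPullback fst snd f g) (t : P) :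
    Subfield.closure (Set.range (fst.residueFieldMap t).hom ∪
      Set.range (snd.residueFieldMap t).hom) = ⊤ := by
  have hgen := Groth.Agent.Lib.Helper6.EtLoc.closure_range_residueFieldMap_pullback f g
    (h.isoPullback.hom t)
  obtain ⟨θ, hθ⟩ : ∃ θ : (pullback f g).residueField (h.isoPullback.hom t) ⟶ P.residueField t,
      θ = h.isoPullback.hom.residueFieldMap t := ⟨_, rfl⟩
  have hθiso : IsIso θ := by rw [hθ]; infer_instance
  have hθsurj : Function.Surjective θ.hom :=
    ((ConcreteCategory.isIso_iff_bijective θ).mp hθiso).2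
  have h1 : Set.range (fst.residueFieldMap t).hom =
      θ.hom '' Set.range ((pullback.fst f g).residueFieldMap (h.isoPullback.hom t)).hom := by
    have e1 := Scheme.Hom.residueFieldMap_congr h.isoPullback_hom_fst.symm t
    rw [e1, Scheme.residueFieldMap_comp, ← hθ]
    ext z
    constructor
    · rintro ⟨w, rfl⟩
      exact ⟨_, ⟨_, rfl⟩, rfl⟩
    · rintro ⟨_, ⟨w, rfl⟩, rfl⟩
      have hc : Function.Surjective (X.residueFieldCongr
          (show fst t = (h.isoPullback.hom ≫ pullback.fst f g) t by
            rw [h.isoPullback_hom_fst])).hom.hom :=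
        ((ConcreteCategory.isIso_iff_bijective _).mp inferInstance).2
      obtain ⟨w', rfl⟩ := hc w
      exact ⟨w', rfl⟩
  have h2 : Set.range (snd.residueFieldMap t).hom =
      θ.hom '' Set.range ((pullback.snd f g).residueFieldMap (h.isoPullback.hom t)).hom := by
    have e1 := Scheme.Hom.residueFieldMap_congr h.isoPullback_hom_snd.symm t
    rw [e1, Scheme.residueFieldMap_comp, ← hθ]
    ext z
    constructor
    · rintro ⟨w, rfl⟩
      exact ⟨_, ⟨_, rfl⟩, rfl⟩
    · rintro ⟨_, ⟨w, rfl⟩, rfl⟩
      have hc : Function.Surjective (Y.residueFieldCongr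
          (show snd t = (h.isoPullback.hom ≫ pullback.snd f g) t by
            rw [h.isoPullback_hom_snd])).hom.hom :=
        ((ConcreteCategory.isIso_iff_bijective _).mp inferInstance).2
      obtain ⟨w', rfl⟩ := hc w
      exact ⟨w', rfl⟩
  rw [h1, h2, ← Set.image_union, ← RingHom.map_field_closure, hgen]
  rw [eq_top_iff]
  intro z _
  obtain ⟨w, rfl⟩ := hθsurj z
  exact ⟨w, trivial, rfl⟩

/-- Residual transcendence degrees do not grow under base change. -/
theorem resTrdeg_le_of_isPullback {X'' X S'' S : Scheme.{u}} {a : X'' ⟶ X} {f'' : X'' ⟶ S''}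
    {f : X ⟶ S} {b : S'' ⟶ S} (h : IsPullback a f'' f b) (x'' : X'') :
    Dual3.resTrdeg f'' x'' ≤ Dual3.resTrdeg f (a x'') := by
  unfold Dual3.resTrdeg
  have e : f (a x'') = b (f'' x'') := by
    rw [← Scheme.Hom.comp_apply, h.w, Scheme.Hom.comp_apply]
  letI i1 : Algebra (S.residueField (f (a x''))) (X.residueField (a x'')) :=
    (f.residueFieldMap (a x'')).hom.toAlgebra
  letI i2 : Algebra (S''.residueField (f'' x'')) (X''.residueField x'') :=
    (f''.residueFieldMap x'').hom.toAlgebra
  letI i3 : Algebra (S.residueField (f (a x''))) (S''.residueField (f'' x'')) :=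
    ((S.residueFieldCongr e).hom ≫ b.residueFieldMap (f'' x'')).hom.toAlgebra
  letI i4 : Algebra (X.residueField (a x'')) (X''.residueField x'') :=
    (a.residueFieldMap x'').hom.toAlgebra
  letI i5 : Algebra (S.residueField (f (a x''))) (X''.residueField x'') :=
    (f.residueFieldMap (a x'') ≫ a.residueFieldMap x'').hom.toAlgebra
  haveI : IsScalarTower (S.residueField (f (a x''))) (X.residueField (a x''))
      (X''.residueField x'') := IsScalarTower.of_algebraMap_eq (fun _ => rfl)
  haveI : IsScalarTower (S.residueField (f (a x''))) (S''.residueField (f'' x''))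
      (X''.residueField x'') := by
    refine IsScalarTower.of_algebraMap_eq (fun c => ?_)
    have h1 : f.residueFieldMap (a x'') ≫ a.residueFieldMap x'' =
        ((S.residueFieldCongr e).hom ≫ b.residueFieldMap (f'' x'')) ≫ f''.residueFieldMap x'' := by
      rw [← Scheme.residueFieldMap_comp, Scheme.Hom.residueFieldMap_congr h.w,
        Scheme.residueFieldMap_comp, Category.assoc]
      rfl
    exact congr(($h1).hom c)
  exact trdeg_le_of_closure_eq_top (k := S.residueField (f (a x'')))
    (F := X.residueField (a x'')) (K := S''.residueField (f'' x'')) (L := X''.residueField x'')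
    (closure_range_residueFieldMap_of_isPullback h x'')

end Groth.Agent.Lib.Helper14.TrdegPt
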