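import Groth.Agent.Lib.Helper14.TrdegPt4

set_option autoImplicit false
universe u
open CategoryTheory CategoryTheory.Limits AlgebraicGeometry

namespace Groth.Agent.Lib.Helper14.TrdegPt

section R
variable {Ω : Type u} [Field Ω]

/-- the field map `κ(a pt) ⟶ Ω` of a field-valued point -/
noncomputable abbrev rho {Y : Scheme.{u}} (a : Spec (.of Ω) ⟶ Y) :
    Y.residueField (a (IsLocalRing.closedPoint Ω)) ⟶ .of Ω :=
  Scheme.descResidueField (Scheme.stalkClosedPointTo a)

theorem range_rho_congr {Y : Scheme.{u}} {a a' : Spec (.of Ω) ⟶ Y} (h : a = a') :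
    Set.range (rho a).hom = Set.range (rho a').hom := by
  subst h; rfl

theorem exists_rho_eq {Y : Scheme.{u}} (y : Y) (ι : Y.residueField y ⟶ .of Ω) :
    ∃ e : (Spec.map ι ≫ Y.fromSpecResidueField y) (IsLocalRing.closedPoint Ω) = y,
      rho (Spec.map ι ≫ Y.fromSpecResidueField y) = (Y.residueFieldCongr e).hom ≫ ι := by
  have h := (Scheme.SpecToEquivOfField Ω Y).apply_symm_apply ⟨y, ι⟩
  rw [Scheme.SpecToEquivOfField_eq_iff] at h
  exact h

theorem range_rho_eq {Y : Scheme.{u}} (y : Y) (ι : Y.residueField y ⟶ .of Ω) :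
    Set.range (rho (Spec.map ι ≫ Y.fromSpecResidueField y)).hom = Set.range ι.hom := by
  obtain ⟨e, he⟩ := exists_rho_eq y ι
  rw [he]
  ext z
  constructor
  · rintro ⟨w, rfl⟩
    exact ⟨_, rfl⟩
  · rintro ⟨w, rfl⟩
    have hc : Function.Surjective (Y.residueFieldCongr e).hom.hom :=
      ((ConcreteCategory.isIso_iff_bijective _).mp inferInstance).2
    obtain ⟨w', rfl⟩ := hc w
    exact ⟨w', rfl⟩

theorem range_rho_comp_eq {Y Z : Scheme.{u}} (f : Y ⟶ Z) (y : Y) (ι : Y.residueField y ⟶ .of Ω) :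
    Set.range (rho ((Spec.map ι ≫ Y.fromSpecResidueField y) ≫ f)).hom =
      Set.range (f.residueFieldMap y ≫ ι).hom := by
  have h : (Spec.map ι ≫ Y.fromSpecResidueField y) ≫ f =
      Spec.map (f.residueFieldMap y ≫ ι) ≫ Z.fromSpecResidueField (f y) := by
    rw [Spec.map_comp, Category.assoc, Category.assoc,
      Scheme.Hom.SpecMap_residueFieldMap_fromSpecResidueField]
  rw [range_rho_congr h, range_rho_eq]

theorem rho_comp {Y Z : Scheme.{u}} (t : Spec (.of Ω) ⟶ Y) (f : Y ⟶ Z) :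
    rho (t ≫ f) = f.residueFieldMap (t (IsLocalRing.closedPoint Ω)) ≫ rho t :=
  Scheme.descResidueField_stalkClosedPointTo_comp f t

end R

end Groth.Agent.Lib.Helper14.TrdegPt
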