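import Groth.Agent.Lib.Helper14.TrdegPt5

set_option autoImplicit false
universe u
open CategoryTheory CategoryTheory.Limits AlgebraicGeometry

namespace Groth.Agent.Lib.Helper14.TrdegPt

section H
variable {X S S' X' : Scheme.{u}} {f : X ⟶ S} {g : S' ⟶ S} {f' : X' ⟶ S'} {g' : X' ⟶ X}

theorem residueFieldMap_square (hX : IsPullback g' f' f g) (x' : X') (x : X) (h : g' x' = x)
    (e : f x = g (f' x')) :
    f.residueFieldMap x ≫ (X.residueFieldCongr h.symm).hom ≫ g'.residueFieldMap x' =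
      (S.residueFieldCongr e).hom ≫ g.residueFieldMap (f' x') ≫ f'.residueFieldMap x' := by
  subst h
  rw [Scheme.residueFieldCongr_refl, Iso.refl_hom, Category.id_comp, ← Scheme.residueFieldMap_comp,
    Scheme.Hom.residueFieldMap_congr hX.w, Scheme.residueFieldMap_comp]
  rfl

theorem closure_range_square (hX : IsPullback g' f' f g) (x' : X') (x : X) (h : g' x' = x) :
    Subfield.closure (Set.range ((X.residueFieldCongr h.symm).hom ≫ g'.residueFieldMap x').hom ∪
      Set.range (f'.residueFieldMap x').hom) = ⊤ := by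
  subst h
  rw [Scheme.residueFieldCongr_refl, Iso.refl_hom, Category.id_comp]
  exact closure_range_residueFieldMap_of_isPullback hX x'

theorem point_comp {Ω : Type u} [Field Ω] (x' : X') (x : X) (h : g' x' = x)
    (ι : X'.residueField x' ⟶ .of Ω) :
    (Spec.map ι ≫ X'.fromSpecResidueField x') ≫ g' =
      Spec.map (((X.residueFieldCongr h.symm).hom ≫ g'.residueFieldMap x') ≫ ι) ≫
        X.fromSpecResidueField x := by
  subst h
  rw [Scheme.residueFieldCongr_refl, Iso.refl_hom, Category.id_comp, Spec.map_comp, Category.assoc,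
    Category.assoc, Scheme.Hom.SpecMap_residueFieldMap_fromSpecResidueField]

end H


section Main

open Cardinal in
theorem exists_point_over_pair {X S S' S'' X' X'' : Scheme.{u}}
    (f : X ⟶ S) (r : ℕ) (g : S' ⟶ S)
    (p q : S'' ⟶ S') (hS : IsPullback p q g g)
    (f' : X' ⟶ S') (g' : X' ⟶ X) (hX : IsPullback g' f' f g)
    (f'' : X'' ⟶ S'') (p' q' : X'' ⟶ X') (hp : IsPullback p' f'' f' p)
    (hq : IsPullback q' f'' f' q) (hpq : p' ≫ g' = q' ≫ g')
    (x : X) (hx : Dual3.resTrdeg f x = r)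
    (x₁ x₂ : X') (h₁ : g' x₁ = x) (h₂ : g' x₂ = x)
    (hx₁ : Dual3.resTrdeg f' x₁ = r) (hx₂ : Dual3.resTrdeg f' x₂ = r) :
    ∃ x'' : X'', Dual3.resTrdeg f'' x'' = r ∧ p' x'' = x₁ ∧ q' x'' = x₂ := by
  have e₁ : f x = g (f' x₁) := by
    rw [← h₁, ← Scheme.Hom.comp_apply, hX.w, Scheme.Hom.comp_apply]
  have e₂ : f x = g (f' x₂) := by
    rw [← h₂, ← Scheme.Hom.comp_apply, hX.w, Scheme.Hom.comp_apply]
  letI iF : Algebra (S.residueField (f x)) (X.residueField x) :=
    (f.residueFieldMap x).hom.toAlgebra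
  letI iK₁ : Algebra (S.residueField (f x)) (S'.residueField (f' x₁)) :=
    ((S.residueFieldCongr e₁).hom ≫ g.residueFieldMap (f' x₁)).hom.toAlgebra
  letI iK₂ : Algebra (S.residueField (f x)) (S'.residueField (f' x₂)) :=
    ((S.residueFieldCongr e₂).hom ≫ g.residueFieldMap (f' x₂)).hom.toAlgebra
  letI iKL₁ : Algebra (S'.residueField (f' x₁)) (X'.residueField x₁) :=
    (f'.residueFieldMap x₁).hom.toAlgebra
  letI iKL₂ : Algebra (S'.residueField (f' x₂)) (X'.residueField x₂) :=
    (f'.residueFieldMap x₂).hom.toAlgebra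
  letI iFL₁ : Algebra (X.residueField x) (X'.residueField x₁) :=
    ((X.residueFieldCongr h₁.symm).hom ≫ g'.residueFieldMap x₁).hom.toAlgebra
  letI iFL₂ : Algebra (X.residueField x) (X'.residueField x₂) :=
    ((X.residueFieldCongr h₂.symm).hom ≫ g'.residueFieldMap x₂).hom.toAlgebra
  letI ikL₁ : Algebra (S.residueField (f x)) (X'.residueField x₁) :=
    (f.residueFieldMap x ≫ (X.residueFieldCongr h₁.symm).hom ≫ g'.residueFieldMap x₁).hom.toAlgebra
  letI ikL₂ : Algebra (S.residueField (f x)) (X'.residueField x₂) :=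
    (f.residueFieldMap x ≫ (X.residueFieldCongr h₂.symm).hom ≫ g'.residueFieldMap x₂).hom.toAlgebra
  haveI : IsScalarTower (S.residueField (f x)) (X.residueField x) (X'.residueField x₁) :=
    IsScalarTower.of_algebraMap_eq (fun _ => rfl)
  haveI : IsScalarTower (S.residueField (f x)) (X.residueField x) (X'.residueField x₂) :=
    IsScalarTower.of_algebraMap_eq (fun _ => rfl)
  haveI : IsScalarTower (S.residueField (f x)) (S'.residueField (f' x₁)) (X'.residueField x₁) :=
    IsScalarTower.of_algebraMap_eq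
      (fun c => congr(($(residueFieldMap_square hX x₁ x h₁ e₁)).hom c))
  haveI : IsScalarTower (S.residueField (f x)) (S'.residueField (f' x₂)) (X'.residueField x₂) :=
    IsScalarTower.of_algebraMap_eq
      (fun c => congr(($(residueFieldMap_square hX x₂ x h₂ e₂)).hom c))
  have hx' : Algebra.trdeg (S.residueField (f x)) (X.residueField x) = r := hx
  have hx₁' : Algebra.trdeg (S'.residueField (f' x₁)) (X'.residueField x₁) = r := hx₁
  have hx₂' : Algebra.trdeg (S'.residueField (f' x₂)) (X'.residueField x₂) = r := hx₂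
  obtain ⟨xb, hxb⟩ := exists_fin_isTranscendenceBasis hx'
  obtain ⟨Ω, _, ι₁, ι₂, hagree, hind⟩ := exists_common_field
    (k := S.residueField (f x)) (F := X.residueField x)
    (K₁ := S'.residueField (f' x₁)) (K₂ := S'.residueField (f' x₂))
    (L₁ := X'.residueField x₁) (L₂ := X'.residueField x₂)
    (closure_range_square hX x₁ x h₁) (closure_range_square hX x₂ x h₂) xb hxb hx₁' hx₂'
  -- the morphisms
  obtain ⟨κ₁, hκ₁⟩ : ∃ κ : X'.residueField x₁ ⟶ .of Ω, κ.hom = ι₁ := ⟨CommRingCat.ofHom ι₁, rfl⟩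
  obtain ⟨κ₂, hκ₂⟩ : ∃ κ : X'.residueField x₂ ⟶ .of Ω, κ.hom = ι₂ := ⟨CommRingCat.ofHom ι₂, rfl⟩
  subst hκ₁ hκ₂
  obtain ⟨a₁, ha₁⟩ : ∃ a : Spec (.of Ω) ⟶ X',
      a = Spec.map κ₁ ≫ X'.fromSpecResidueField x₁ := ⟨_, rfl⟩
  obtain ⟨a₂, ha₂⟩ : ∃ a : Spec (.of Ω) ⟶ X',
      a = Spec.map κ₂ ≫ X'.fromSpecResidueField x₂ := ⟨_, rfl⟩
  have hag : a₁ ≫ g' = a₂ ≫ g' := by
    rw [ha₁, ha₂, point_comp x₁ x h₁, point_comp x₂ x h₂]
    congr 2
    ext c
    exact RingHom.congr_fun hagree c
  have hcond : (a₁ ≫ f') ≫ g = (a₂ ≫ f') ≫ g := by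
    rw [Category.assoc, Category.assoc, ← hX.w, ← Category.assoc, ← Category.assoc, hag]
  obtain ⟨b, hb₁, hb₂⟩ : ∃ b : Spec (.of Ω) ⟶ S'', b ≫ p = a₁ ≫ f' ∧ b ≫ q = a₂ ≫ f' :=
    ⟨hS.lift _ _ hcond, hS.lift_fst _ _ _, hS.lift_snd _ _ _⟩
  obtain ⟨t, ht₁, ht₂⟩ : ∃ t : Spec (.of Ω) ⟶ X'', t ≫ p' = a₁ ∧ t ≫ f'' = b :=
    ⟨hp.lift a₁ b hb₁.symm, hp.lift_fst _ _ _, hp.lift_snd _ _ _⟩
  have ht₃ : t ≫ q' = a₂ := by
    apply hX.hom_ext
    · rw [Category.assoc, ← hpq, ← Category.assoc, ht₁, hag]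
    · rw [Category.assoc, hq.w, ← Category.assoc, ht₂, hb₂]
  obtain ⟨x'', hx''⟩ : ∃ x'' : X'', x'' = t (IsLocalRing.closedPoint Ω) := ⟨_, rfl⟩
  have hpx : p' x'' = x₁ := by
    rw [hx'', ← Scheme.Hom.comp_apply, ht₁, ha₁, Scheme.Hom.comp_apply,
      Scheme.fromSpecResidueField_apply]
  have hqx : q' x'' = x₂ := by
    rw [hx'', ← Scheme.Hom.comp_apply, ht₃, ha₂, Scheme.Hom.comp_apply,
      Scheme.fromSpecResidueField_apply]
  refine ⟨x'', le_antisymm ?_ ?_, hpx, hqx⟩
  · -- upper bound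
    have hpaste : IsPullback (p' ≫ g') f'' f (p ≫ g) := hp.paste_horiz hX
    have hU := resTrdeg_le_of_isPullback hpaste x''
    have hpt : (p' ≫ g') x'' = x := by
      rw [Scheme.Hom.comp_apply, hpx, h₁]
    rw [hpt, hx] at hU
    exact hU
  · -- lower bound
    subst hx''
    obtain ⟨ρ, hρ⟩ : ∃ ρ : X''.residueField (t (IsLocalRing.closedPoint Ω)) ⟶ .of Ω, ρ = rho t :=
      ⟨_, rfl⟩
    obtain ⟨j, hjdef⟩ : ∃ j : S''.residueField (f'' (t (IsLocalRing.closedPoint Ω))) →+* Ω,
        j = (f''.residueFieldMap (t (IsLocalRing.closedPoint Ω)) ≫ ρ).hom := ⟨_, rfl⟩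
    have hj : Set.range j ⊆ (Subfield.closure
        (Set.range (κ₁.hom.comp (algebraMap (S'.residueField (f' x₁)) (X'.residueField x₁))) ∪
          Set.range (κ₂.hom.comp (algebraMap (S'.residueField (f' x₂)) (X'.residueField x₂)))) :
          Set Ω) := by
      have hcl := closure_range_residueFieldMap_of_isPullback hS
        (f'' (t (IsLocalRing.closedPoint Ω)))
      rintro _ ⟨c, rfl⟩
      have hc : c ∈ Subfield.closure
          (Set.range (p.residueFieldMap (f'' (t (IsLocalRing.closedPoint Ω)))).hom ∪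
            Set.range (q.residueFieldMap (f'' (t (IsLocalRing.closedPoint Ω)))).hom) :=
        hcl ▸ Subfield.mem_top c
      have hjc : j c ∈ (Subfield.closure
          (Set.range (p.residueFieldMap (f'' (t (IsLocalRing.closedPoint Ω)))).hom ∪
            Set.range (q.residueFieldMap (f'' (t (IsLocalRing.closedPoint Ω)))).hom)).map j :=
        ⟨c, hc, rfl⟩
      rw [RingHom.map_field_closure, Set.image_union] at hjc
      refine Subfield.closure_mono ?_ hjc
      apply Set.union_subset_union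
      · rw [← Set.range_comp]
        have h1 : Set.range (j ∘ (p.residueFieldMap (f'' (t (IsLocalRing.closedPoint Ω)))).hom) =
            Set.range (rho (t ≫ f'' ≫ p)).hom := by
          rw [rho_comp t (f'' ≫ p), Scheme.residueFieldMap_comp, hjdef, hρ]
          rfl
        have h2 : t ≫ f'' ≫ p = a₁ ≫ f' := by rw [← Category.assoc, ht₂, hb₁]
        rw [h1, range_rho_congr h2, range_rho_congr (congrArg (· ≫ f') ha₁), range_rho_comp_eq]
        exact le_of_eq rfl
      · rw [← Set.range_comp]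
        have h1 : Set.range (j ∘ (q.residueFieldMap (f'' (t (IsLocalRing.closedPoint Ω)))).hom) =
            Set.range (rho (t ≫ f'' ≫ q)).hom := by
          rw [rho_comp t (f'' ≫ q), Scheme.residueFieldMap_comp, hjdef, hρ]
          rfl
        have h2 : t ≫ f'' ≫ q = a₂ ≫ f' := by rw [← Category.assoc, ht₂, hb₂]
        rw [h1, range_rho_congr h2, range_rho_congr (congrArg (· ≫ f') ha₂), range_rho_comp_eq]
        exact le_of_eq rfl
    have hI := hind (S''.residueField (f'' (t (IsLocalRing.closedPoint Ω)))) j hj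
    have hw : ∀ i, ∃ w : X''.residueField (t (IsLocalRing.closedPoint Ω)),
        ρ.hom w = κ₁.hom (algebraMap (X.residueField x) (X'.residueField x₁) (xb i)) := by
      intro i
      have h1 : κ₁.hom (algebraMap (X.residueField x) (X'.residueField x₁) (xb i)) ∈
          Set.range κ₁.hom := ⟨_, rfl⟩
      rw [← range_rho_eq x₁ κ₁, ← range_rho_congr ha₁,
        ← range_rho_congr ht₁, rho_comp] at h1
      obtain ⟨w, hw⟩ := h1
      exact ⟨(p'.residueFieldMap (t (IsLocalRing.closedPoint Ω))).hom w, by rw [hρ]; exact hw⟩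
    choose w hw using hw
    letI iA : Algebra (S''.residueField (f'' (t (IsLocalRing.closedPoint Ω))))
        (X''.residueField (t (IsLocalRing.closedPoint Ω))) :=
      (f''.residueFieldMap (t (IsLocalRing.closedPoint Ω))).hom.toAlgebra
    letI iB : Algebra (S''.residueField (f'' (t (IsLocalRing.closedPoint Ω)))) Ω := j.toAlgebra
    let ρA : X''.residueField (t (IsLocalRing.closedPoint Ω)) →ₐ[S''.residueField
        (f'' (t (IsLocalRing.closedPoint Ω)))] Ω :=
      { ρ.hom with commutes' := fun c => (RingHom.congr_fun hjdef c).symm }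
    have hI' : AlgebraicIndependent (S''.residueField (f'' (t (IsLocalRing.closedPoint Ω))))
        (ρA ∘ w) := by
      have : (ρA ∘ w) =
          fun i => κ₁.hom (algebraMap (X.residueField x) (X'.residueField x₁) (xb i)) :=
        funext hw
      rw [this]
      exact hI
    have hw' := AlgebraicIndependent.of_comp ρA hI'
    have h3 := hw'.lift_cardinalMk_le_trdeg
    unfold Dual3.resTrdeg
    rw [Cardinal.mk_fin] at h3
    simpa using h3

end Main

end Groth.Agent.Lib.Helper14.TrdegPt
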