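import Groth.Agent.Lib.Helper14.QfAt
import Groth.Agent.Lib.Helper14.RelDimComp
import Groth.Agent.Lib.Helper14.LqfDim0
import Groth.Agent.Lib.Helper14.HasAtMorChart

universe u
open CategoryTheory CategoryTheory.Limits AlgebraicGeometry Opposite TopologicalSpace

namespace Groth.Agent.Lib.Helper14.AS

open AlgSp

variable {S : Scheme.{u}}

set_option backward.isDefEq.respectTransparency.types false in
set_option backward.defeqAttrib.useBackward true in
/-- Two field-valued points at the same scheme point, with the same image downstairs, are equal when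
the residue field extension is purely inseparable. -/
theorem eq_of_purelyInseparable_residue {X Y : Scheme.{u}} (f : X ⟶ Y) {K : Type u} [Field K]
    (g₁ g₂ : Spec (CommRingCat.of K) ⟶ X) (hg : g₁ ≫ f = g₂ ≫ f)
    (e : g₁ (IsLocalRing.closedPoint K) = g₂ (IsLocalRing.closedPoint K))
    (hf : (f.residueFieldMap (g₁ (IsLocalRing.closedPoint K))).hom.IsPurelyInseparable) :
    g₁ = g₂ := by
  obtain ⟨e', h⟩ := Scheme.SpecToEquivOfField_eq_iff.mp congr((Y.SpecToEquivOfField K) $(hg))
  apply (X.SpecToEquivOfField K).injective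
  dsimp at e' h
  simp only [Scheme.descResidueField_stalkClosedPointTo_comp] at e' h
  rw [← f.residueFieldMap_congr'_assoc e, CommRingCat.hom_ext_iff] at h
  rw [Scheme.SpecToEquivOfField_eq_iff]
  let x := g₁ (IsLocalRing.closedPoint K)
  algebraize [(f.residueFieldMap (g₁ (IsLocalRing.closedPoint K))).hom]
  refine ⟨e, CommRingCat.hom_ext ?_⟩
  exact IsPurelyInseparable.injective_comp_algebraMap
    (Y.residueField (f x)) (X.residueField x) _ h

set_option backward.isDefEq.respectTransparency.types false in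
/-- A morphism locally of finite type and injective on points is locally quasi-finite on charts. -/
theorem locallyQuasiFinite_chart_of_injective {X Y : Sp S} (f : X ⟶ Y)
    (hft : LocP @LocallyOfFiniteType f) (hinj : Function.Injective (Points.map f))
    {U V : Over S} (a : (yon S).obj U ⟶ X) (b : (yon S).obj V ⟶ Y) (h : U ⟶ V)
    (hae : RepWith @Etale a) (hbe : RepWith @Etale b) (comm : a ≫ f = (yon S).map h ≫ b) :
    LocallyQuasiFinite h.left := by
  have hlft : LocallyOfFiniteType h.left := hft a b h hae hbe comm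
  rw [locallyQuasiFinite_iff_fibreDimAt_eq_zero]
  intro u
  obtain ⟨n, hn, ⟨ξ, hξu, hξh, hξn⟩, -⟩ :=
    Groth.Agent.Lib.Helper21.FibDim.exists_fibreDimAt_eq_trdeg h.left u
  obtain ⟨z, hξz, hzh, hz0⟩ := exists_specializes_resTrdeg_eq_zero h.left ξ
  have hpt : Points.ofPt a ξ = Points.ofPt a z := by
    apply hinj
    rw [Points.map_ofPt, Points.map_ofPt, comm, ofPt_yon_map_comp, ofPt_yon_map_comp, hzh]
  have h1 : HasAtMor (fun _ _ h u => Dual3.resTrdeg h u = 0) f (Points.ofPt a z) :=
    (hasAtMor_ofPt_iff (etSqInv_resTrdeg (fun c => c = 0)) f a b h hae hbe comm z).2 hz0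
  rw [← hpt] at h1
  have h2 : Dual3.resTrdeg h.left ξ = 0 :=
    (hasAtMor_ofPt_iff (etSqInv_resTrdeg (fun c => c = 0)) f a b h hae hbe comm ξ).1 h1
  have h3 : (n : Cardinal.{u}) = 0 := by
    rw [← h2]
    unfold Dual3.resTrdeg
    exact hξn.symm
  have h4 : n = 0 := by exact_mod_cast h3
  rw [hn, h4]
  rfl

end Groth.Agent.Lib.Helper14.AS
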