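import Groth.Agent.Lib.Helper14.UnivInjEt1
import Groth.Agent.Lib.Helper14.EtSplit
import Groth.Agent.Lib.Helper14.AlgSpInj2
import Groth.Agent.Lib.Helper14.AlgSpGeomPts
import Groth.Agent.Lib.Helper6.EtLocInsepMain

universe u
open CategoryTheory CategoryTheory.Limits AlgebraicGeometry Opposite TopologicalSpace

namespace Groth.Agent.Lib.Helper14.AS

open AlgSp

variable {S : Scheme.{u}}

set_option backward.isDefEq.respectTransparency.types false in
set_option maxHeartbeats 1600000 in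
/-- Core: over a scheme base, a morphism locally of finite type which is injective on points after
every étale base change is injective on geometric points. -/
theorem eq_of_geom_points_scheme_base {V : Over S} {X : Sp S} (hX : IsAlgSpace X)
    (f : X ⟶ (yon S).obj V) (hft : LocP @LocallyOfFiniteType f)
    (hinj : ∀ (V' : Over S) (g : V' ⟶ V), Etale g.left → ∀ (P : Sp S) (fst : P ⟶ X)
      (snd : P ⟶ (yon S).obj V'), IsPullback fst snd f ((yon S).map g) →
        Function.Injective (Points.map snd))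
    {K : Type u} [Field K] [IsAlgClosed K] (str : Spec (CommRingCat.of K) ⟶ S)
    (a a' : (yon S).obj (Over.mk str) ⟶ X) (haa : a ≫ f = a' ≫ f) : a = a' := by
  classical
  obtain ⟨U, α, hαe, hαs⟩ := hX.atlas
  obtain ⟨ã, hã⟩ := exists_lift_geom_of_repWith (repWith_mono etale_le_lft hαe) hαs str a
  obtain ⟨ã', hã'⟩ := exists_lift_geom_of_repWith (repWith_mono etale_le_lft hαe) hαs str a'
  obtain ⟨c, rfl⟩ := (yon S).map_surjective ã
  obtain ⟨c', rfl⟩ := (yon S).map_surjective ã'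
  obtain ⟨h, hh⟩ := (yon S).map_surjective (α ≫ f)
  have hinj0 : Function.Injective (Points.map f) := by
    have hid : Etale (𝟙 V : V ⟶ V).left := by
      change Etale (𝟙 V.left)
      infer_instance
    exact hinj V (𝟙 V) hid X (𝟙 X) f
      (by rw [(yon S).map_id]; exact IsPullback.of_horiz_isIso ⟨by simp⟩)
  have comm : α ≫ f = (yon S).map h ≫ 𝟙 _ := by rw [hh, Category.comp_id]
  have hlft : LocallyOfFiniteType h.left := hft α (𝟙 _) h hαe (repWith_id _ V) comm
  have hlqf : LocallyQuasiFinite h.left :=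
    locallyQuasiFinite_chart_of_injective f hft hinj0 α (𝟙 _) h hαe (repWith_id _ V) comm
  have hch : c ≫ h = c' ≫ h := by
    apply (yon S).map_injective
    rw [Functor.map_comp, Functor.map_comp, hh, ← Category.assoc, ← Category.assoc, hã, hã', haa]
  have hchl : c.left ≫ h.left = c'.left ≫ h.left := congrArg CommaMorphism.left hch
  have hss : ∀ p q : ↥(Spec (CommRingCat.of K)), p = q := fun p q => Subsingleton.elim p q
  obtain ⟨pt, hpt⟩ : ∃ pt : ↥(Spec (CommRingCat.of K)), pt = IsLocalRing.closedPoint K := ⟨_, rfl⟩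
  obtain ⟨u, hu⟩ : ∃ u, u = c.left pt := ⟨_, rfl⟩
  obtain ⟨u', hu'⟩ : ∃ u', u' = c'.left pt := ⟨_, rfl⟩
  obtain ⟨v, hv⟩ : ∃ v, v = h.left u := ⟨_, rfl⟩
  have hvu' : h.left u' = v := by
    rw [hv, hu, hu', ← Scheme.Hom.comp_apply, ← Scheme.Hom.comp_apply, hchl]
  -- enumerate {u, u'}
  let A : Set ↥U.left := {u, u'}
  have hAfin : Finite ↥A := (Set.toFinite A).to_subtype
  let e := (Finite.equivFin ↥A).symm
  let x : Fin (Nat.card ↥A) → ↥U.left := fun i => (e i).1
  have hxinj : Function.Injective x := Subtype.val_injective.comp e.injective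
  have hxs : ∀ i, h.left (x i) = v := by
    intro i
    rcases (e i).2 with h1 | h1
    · rw [show x i = u from h1, hv]
    · rw [show x i = u' from h1]; exact hvu'
  obtain ⟨V'sch, g, v', hget, hgv, J, hJ, W, w, hW, -, hWall, -⟩ :=
    Groth.Agent.Lib.Helper6.EtLoc.exists_etale_nbhd_insep_family h.left v x hxinj hxs
      (fun i => Scheme.Hom.quasiFiniteAt h.left _)
  let V' : Over S := Over.mk (g ≫ V.hom)
  let gO : V' ⟶ V := Over.homMk g rfl
  let U' : Over S := Over.mk (pullback.snd h.left g ≫ V'.hom)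
  let fstU : U' ⟶ U := Over.homMk (pullback.fst h.left g) (by
    change pullback.fst h.left g ≫ U.hom = pullback.snd h.left g ≫ g ≫ V.hom
    rw [← Over.w h, ← Category.assoc, pullback.condition, Category.assoc])
  let sndU : U' ⟶ V' := Over.homMk (pullback.snd h.left g) rfl
  have commU : fstU ≫ h = sndU ≫ gO := by
    ext
    exact pullback.condition
  have sqU : IsPullback fstU sndU h gO :=
    IsPullback.of_map (Over.forget S) commU (IsPullback.of_hasPullback h.left g)
  have sqX' := IsPullback.of_hasPullback f ((yon S).map gO)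
  have hget' : Etale gO.left := hget
  have hinj' := hinj V' gO hget' _ _ _ sqX'
  have hcommα : ((yon S).map fstU ≫ α) ≫ f = (yon S).map sndU ≫ (yon S).map gO := by
    rw [Category.assoc, ← hh, ← Functor.map_comp, ← Functor.map_comp, commU]
  obtain ⟨α', hα'1, hα'2⟩ : ∃ α' : (yon S).obj U' ⟶ pullback f ((yon S).map gO),
      α' ≫ pullback.fst f ((yon S).map gO) = (yon S).map fstU ≫ α ∧
      α' ≫ pullback.snd f ((yon S).map gO) = (yon S).map sndU :=
    ⟨pullback.lift ((yon S).map fstU ≫ α) ((yon S).map sndU) hcommα, pullback.lift_fst _ _ _,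
      pullback.lift_snd _ _ _⟩
  have sqL : IsPullback α' ((yon S).map fstU) (pullback.fst f ((yon S).map gO)) α := by
    refine IsPullback.of_right ?_ hα'1 sqX'.flip
    rw [hα'2, ← hh]
    exact (sqU.map (yon S)).flip
  have hα'e : RepWith @Etale α' := repWith_of_isPullback _ sqL.flip hαe
  have sqR := hα'e.rep.isPullback' α'
  obtain ⟨R', s', t', sqR⟩ : ∃ (R' : Over S) (s' t' : R' ⟶ U'),
      IsPullback ((yon S).map s') ((yon S).map t') α' α' := ⟨_, _, _, sqR⟩
  have ht'e : Etale t'.left := hα'e.property α' _ t' sqR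
  have hs'e : Etale s'.left := hα'e.property α' _ s' sqR.flip
  have hst : s' ≫ sndU = t' ≫ sndU := by
    apply (yon S).map_injective
    rw [Functor.map_comp, Functor.map_comp, ← hα'2, ← Category.assoc, ← Category.assoc, sqR.w]
  have hstl : s'.left ≫ pullback.snd h.left g = t'.left ≫ pullback.snd h.left g :=
    congrArg CommaMorphism.left hst
  -- lift the base point
  obtain ⟨b₁, hb₁, hb₁v0⟩ := Scheme.exists_fac_of_etale_of_isSepClosed g (c.left ≫ h.left) v' (by
    rw [hgv, hv, hu, Scheme.Hom.comp_apply]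
    exact congrArg _ (congrArg _ (hss _ _)))
  have hb₁v : b₁ pt = v' := by
    rw [← hb₁v0]
    exact congrArg _ (hss _ _)
  obtain ⟨c₁, hc₁f, hc₁s⟩ : ∃ c₁ : Spec (CommRingCat.of K) ⟶ pullback h.left g,
      c₁ ≫ pullback.fst h.left g = c.left ∧ c₁ ≫ pullback.snd h.left g = b₁ :=
    ⟨pullback.lift c.left b₁ hb₁.symm, pullback.lift_fst _ _ _, pullback.lift_snd _ _ _⟩
  obtain ⟨c₁', hc₁'f, hc₁'s⟩ : ∃ c₁' : Spec (CommRingCat.of K) ⟶ pullback h.left g,
      c₁' ≫ pullback.fst h.left g = c'.left ∧ c₁' ≫ pullback.snd h.left g = b₁ :=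
    ⟨pullback.lift c'.left b₁ (by rw [hb₁, hchl]), pullback.lift_fst _ _ _, pullback.lift_snd _ _ _⟩
  obtain ⟨w₁, hw₁⟩ : ∃ w₁, w₁ = c₁ pt := ⟨_, rfl⟩
  obtain ⟨w₁', hw₁'⟩ : ∃ w₁', w₁' = c₁' pt := ⟨_, rfl⟩
  have hw₁f : pullback.fst h.left g w₁ = u := by
    rw [hw₁, ← Scheme.Hom.comp_apply, hc₁f, hu]
  have hw₁s : pullback.snd h.left g w₁ = v' := by
    rw [hw₁, ← Scheme.Hom.comp_apply, hc₁s, hb₁v]
  have hw₁'f : pullback.fst h.left g w₁' = u' := by
    rw [hw₁', ← Scheme.Hom.comp_apply, hc₁'f, hu']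
  have hw₁'s : pullback.snd h.left g w₁' = v' := by
    rw [hw₁', ← Scheme.Hom.comp_apply, hc₁'s, hb₁v]
  -- the index of `u'`
  have hu'A : u' ∈ A := by simp [A]
  obtain ⟨i', hi'⟩ : ∃ i', x i' = u' := ⟨e.symm ⟨u', hu'A⟩, by
    change (e (e.symm ⟨u', hu'A⟩)).1 = u'
    rw [Equiv.apply_symm_apply]⟩
  obtain ⟨j', hj'⟩ := hWall w₁' i' hw₁'s (hw₁'f.trans hi'.symm)
  obtain ⟨-, -, -, -, ⟨-, hpi⟩, -⟩ := hW i' j'
  -- same point of X'
  have hsame : Points.ofPt α' w₁ = Points.ofPt α' w₁' := by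
    apply hinj'
    rw [Points.map_ofPt, Points.map_ofPt, hα'2]
    have e1 := ofPt_yon_map_comp sndU (𝟙 _) w₁
    have e2 := ofPt_yon_map_comp sndU (𝟙 _) w₁'
    rw [Category.comp_id] at e1 e2
    rw [e1, e2]
    have e3 : sndU.left w₁ = sndU.left w₁' := hw₁s.trans hw₁'s.symm
    rw [e3]
  obtain ⟨r, hr1, hr2⟩ := exists_point_of_isPullback_yon sqR w₁ w₁' hsame
  obtain ⟨ρ, hρ, hρr0⟩ := Scheme.exists_fac_of_etale_of_isSepClosed s'.left c₁ r (by
    rw [hr1, hw₁]
    exact congrArg _ (hss _ _))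
  have hρr : ρ pt = r := by
    rw [← hρr0]
    exact congrArg _ (hss _ _)
  have hc₂ : ρ ≫ t'.left = c₁' := by
    apply eq_of_purelyInseparable_residue (pullback.snd h.left g) _ _
    · rw [Category.assoc, ← hstl, ← Category.assoc, hρ, hc₁s, hc₁'s]
    · rw [← hpt, Scheme.Hom.comp_apply, hρr, hr2, hw₁']
    · have : (ρ ≫ t'.left) (IsLocalRing.closedPoint K) = w i' j' := by
        rw [← hpt, Scheme.Hom.comp_apply, hρr, hr2, hj']
      rw [this]
      exact hpi
  -- Over-morphisms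
  have hc₁O : c₁ ≫ U'.hom = str := by
    change c₁ ≫ pullback.snd h.left g ≫ g ≫ V.hom = str
    rw [← Category.assoc, hc₁s, ← Category.assoc, hb₁, Category.assoc, Over.w h]
    exact Over.w c
  have hc₁'O : c₁' ≫ U'.hom = str := by
    change c₁' ≫ pullback.snd h.left g ≫ g ≫ V.hom = str
    rw [← Category.assoc, hc₁'s, ← Category.assoc, hb₁, Category.assoc, Over.w h]
    exact Over.w c
  let c₁O : Over.mk str ⟶ U' := Over.homMk c₁ hc₁O
  let c₁'O : Over.mk str ⟶ U' := Over.homMk c₁' hc₁'O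
  have hρO : ρ ≫ R'.hom = str := by
    rw [← Over.w s', ← Category.assoc, hρ]
    exact hc₁O
  let ρO : Over.mk str ⟶ R' := Over.homMk ρ hρO
  have e1 : ρO ≫ s' = c₁O := by
    ext
    exact hρ
  have e2 : ρO ≫ t' = c₁'O := by
    ext
    exact hc₂
  have e3 : c₁O ≫ fstU = c := by
    ext
    exact hc₁f
  have e4 : c₁'O ≫ fstU = c' := by
    ext
    exact hc₁'f
  have key : (yon S).map c₁O ≫ α' = (yon S).map c₁'O ≫ α' := by
    rw [← e1, ← e2, Functor.map_comp, Functor.map_comp, Category.assoc, Category.assoc, sqR.w]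
  rw [← hã, ← hã', ← e3, ← e4, Functor.map_comp, Functor.map_comp, Category.assoc, Category.assoc,
    ← hα'1, ← Category.assoc, ← Category.assoc, key]

end Groth.Agent.Lib.Helper14.AS
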