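import Groth.Agent.Lib.Helper14.LqfLocus
import Groth.Agent.Lib.Helper14.BCChart
import Groth.Agent.Lib.Helper14.AlgSpLocP2
import Groth.Agent.S9697

universe u
set_option linter.style.haveILetI false
set_option linter.unusedSectionVars false
open CategoryTheory CategoryTheory.Limits AlgebraicGeometry Opposite Topology

namespace Groth.Agent.Lib.Helper14.AS
open AlgSp

variable {S : Scheme.{u}}

/-- `P` holds for `h` on an open neighbourhood of `u` -/
def Near (P : MorphismProperty Scheme.{u}) (U V : Scheme.{u}) (h : U ⟶ V) (u : ↥U) : Prop :=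
  ∃ W : U.Opens, u ∈ W ∧ P (W.ι ≫ h)

set_option backward.isDefEq.respectTransparency.types false in
theorem etSqInv_near {P : MorphismProperty Scheme.{u}} (hP : EtLocal P) : EtSqInv (Near P) := by
  intro U U' V V' h h' a b ha hb comm u'
  constructor
  · rintro ⟨W, hW, hPW⟩
    refine ⟨a ⁻¹ᵁ W, hW, ?_⟩
    apply hP.of_comp_etale _ b _ hb
    rw [Category.assoc, comm, ← Category.assoc, ← morphismRestrict_ι, Category.assoc]
    exact hP.etale_comp _ _ inferInstance hPW
  · rintro ⟨W', hW', hPW'⟩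
    have h1 : P ((W'.ι ≫ a) ≫ h) := by
      rw [Category.assoc, ← comm, ← Category.assoc]
      exact hP.comp_etale _ _ hPW' hb
    have hj : Etale (W'.ι ≫ a) := inferInstance
    let W : U.Opens := ⟨Set.range (W'.ι ≫ a), (W'.ι ≫ a).isOpenMap.isOpen_range⟩
    have hsub : Set.range (W'.ι ≫ a) ⊆ Set.range W.ι := by
      rintro _ ⟨x, rfl⟩
      exact ⟨⟨_, ⟨x, rfl⟩⟩, rfl⟩
    have hfac : IsOpenImmersion.lift W.ι (W'.ι ≫ a) hsub ≫ W.ι = W'.ι ≫ a :=
      IsOpenImmersion.lift_fac _ _ _
    have hpe : Etale (IsOpenImmersion.lift W.ι (W'.ι ≫ a) hsub) :=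
      etLocal_etale.of_comp_etale _ W.ι (by rw [hfac]; exact hj) inferInstance
    have hps : Surjective (IsOpenImmersion.lift W.ι (W'.ι ≫ a) hsub) := by
      refine ⟨fun w => ?_⟩
      obtain ⟨x, hx⟩ := w.2
      refine ⟨x, ?_⟩
      apply W.ι.isOpenEmbedding.injective
      rw [← Scheme.Hom.comp_apply, hfac]
      exact hx
    refine ⟨W, ⟨⟨u', hW'⟩, rfl⟩, ?_⟩
    apply hP.src _ _ hpe hps
    rw [← Category.assoc, hfac]
    exact h1

theorem isOpen_near (P : MorphismProperty Scheme.{u}) {U V : Scheme.{u}} (h : U ⟶ V) :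
    IsOpen {u : ↥U | Near P U V h u} := by
  rw [isOpen_iff_forall_mem_open]
  rintro u ⟨W, hW, hPW⟩
  exact ⟨W, fun u₂ hu₂ => ⟨W, hu₂, hPW⟩, W.2, hW⟩


set_option backward.isDefEq.respectTransparency.types false in
theorem isOpen_hasAtMor_near {P : MorphismProperty Scheme.{u}} (hP : EtLocal P) {X Y : Sp S}
    (hX : IsAlgSpace X) (hY : IsAlgSpace Y) (f : X ⟶ Y) :
    IsOpen {x : Points X | HasAtMor (Near P) f x} := by
  obtain ⟨V, b, hbe, hbs⟩ := hY.atlas
  obtain ⟨U, a, h, hae, has, comm⟩ := exists_chart_diagram hX f b hbe hbs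
  have : {x : Points X | HasAtMor (Near P) f x} =
      Points.ofPt a '' {u | Near P U.left V.left h.left u} := by
    ext x
    constructor
    · intro hx
      obtain ⟨u, rfl⟩ := ofPt_surjective_of_repWith has x
      exact ⟨u, (hasAtMor_ofPt_iff (etSqInv_near hP) f a b h hae hbe comm u).1 hx, rfl⟩
    · rintro ⟨u, hu, rfl⟩
      exact (hasAtMor_ofPt_iff (etSqInv_near hP) f a b h hae hbe comm u).2 hu
  rw [this]
  exact isOpenMap_ofPt a hae _ (isOpen_near P h.left)

set_option backward.isDefEq.respectTransparency.types false in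
theorem near_fu_baseChange {U V U' V' : Scheme.{u}} (h : U ⟶ V) [LocallyOfFiniteType h]
    (β : V' ⟶ V) (α : U' ⟶ U) (h' : U' ⟶ V') (sq : IsPullback α h' h β) (u' : ↥U') :
    Near @FormallyUnramified U' V' h' u' ↔ Near @FormallyUnramified U V h (α u') := by
  have he1 : sq.isoPullback.hom ≫ pullback.fst h β = α := sq.isoPullback_hom_fst
  have he2 : sq.isoPullback.hom ≫ pullback.snd h β = h' := sq.isoPullback_hom_snd
  have k1 := etSqInv_near etLocal_formallyUnramified (pullback.snd h β) h' sq.isoPullback.hom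
    (𝟙 V') inferInstance inferInstance (by rw [Category.comp_id, he2]) u'
  have k2 := Groth.Agent.S9697.result h β (sq.isoPullback.hom u')
  rw [← k1]
  refine k2.trans ?_
  have : (pullback.fst h β).base (sq.isoPullback.hom u') = α u' :=
    congrArg (fun k : U' ⟶ U => k u') he1
  rw [this]
  rfl

theorem near_lft_fu_iff {U V : Scheme.{u}} (h : U ⟶ V) [LocallyOfFiniteType h] (u : ↥U) :
    Near (@LocallyOfFiniteType ⊓ @FormallyUnramified) U V h u ↔
      Near @FormallyUnramified U V h u := by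
  constructor
  · rintro ⟨W, hW, -, h2⟩
    exact ⟨W, hW, h2⟩
  · rintro ⟨W, hW, h2⟩
    exact ⟨W, hW, inferInstance, h2⟩

set_option backward.isDefEq.respectTransparency.types false in
theorem hasAtMor_unr_baseChange_iff {X Y Y' X' : Sp S} (hX : IsAlgSpace X)
    (hY : IsAlgSpace Y) (hY' : IsAlgSpace Y') (f : X ⟶ Y) (g : Y' ⟶ Y) (g' : X' ⟶ X)
    (f' : X' ⟶ Y') (sq : IsPullback g' f' f g) (hf : LocP @LocallyOfFiniteType f)
    (x' : Points X') :
    HasAtMor (Near (@LocallyOfFiniteType ⊓ @FormallyUnramified)) f' x' ↔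
      HasAtMor (Near (@LocallyOfFiniteType ⊓ @FormallyUnramified)) f (Points.map g' x') := by
  obtain ⟨U, V, U', V', a, b, a', b', h, h', α, β, hae, has, hbe, hbs, ha'e, ha's, hb'e, hb's, comm,
    comm', ca, cb, sqS⟩ := exists_bc_chart hX hY hY' f g g' f' sq
  obtain ⟨u', rfl⟩ := ofPt_surjective_of_repWith ha's x'
  have hlft : LocallyOfFiniteType h.left := hf a b h hae hbe comm
  have e1 : Points.map g' (Points.ofPt a' u') = Points.ofPt a (α.left u') := by
    rw [Points.map_ofPt, ca, ofPt_yon_map_comp]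
  have sqL : IsPullback α.left h'.left h.left β.left := sqS.map (Over.forget S)
  have hlft' : LocallyOfFiniteType h'.left :=
    MorphismProperty.of_isPullback (P := @LocallyOfFiniteType) sqL hlft
  rw [e1, hasAtMor_ofPt_iff (etSqInv_near etLocal_lft_fu) f a b h hae hbe comm (α.left u'),
    hasAtMor_ofPt_iff (etSqInv_near etLocal_lft_fu) f' a' b' h' ha'e hb'e comm' u',
    near_lft_fu_iff, near_lft_fu_iff]
  exact near_fu_baseChange h.left β.left α.left h'.left sqL u'

end Groth.Agent.Lib.Helper14.AS
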