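import Groth.Prelude.Def_HTop
import Groth.Agent.Lib.Helper10.ValSpec

/-!
# V coverings and cofiltered limits: the ring-level obstruction

For a ring map `ψ : V → B` from a local domain, `Obst ψ` says that `1 ∈ 𝔪B + (V-torsion of B)`.
There is an extension of valuation rings `V → W` factoring through `B` iff `¬ Obst ψ`.
-/

set_option autoImplicit false
universe u

open CategoryTheory AlgebraicGeometry IsLocalRing

namespace Groth.Agent.Lib.Helper14.VLim

open Groth.Agent.Lib.Helper10.ValSpec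

/-- The obstruction: `1 - x` is `V`-torsion for some `x ∈ 𝔪B`. -/
def Obst {V B : Type u} [CommRing V] [IsLocalRing V] [CommRing B] (ψ : V →+* B) : Prop :=
  ∃ x ∈ (maximalIdeal V).map ψ, ∃ s : V, s ≠ 0 ∧ ψ s * (1 - x) = 0

lemma not_obst_of_lift {V B W : Type u} [CommRing V] [IsLocalRing V] [CommRing B]
    [CommRing W] [IsDomain W] [IsLocalRing W] (ψ : V →+* B) (β : B →+* W)
    (hinj : Function.Injective (β.comp ψ)) (hloc : IsLocalHom (β.comp ψ)) : ¬ Obst ψ := by
  rintro ⟨x, hx, s, hs, hsx⟩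
  have hle : (maximalIdeal V).map ψ ≤ (maximalIdeal W).comap β := by
    rw [Ideal.map_le_iff_le_comap]
    intro v hv
    change β (ψ v) ∈ maximalIdeal W
    rw [mem_maximalIdeal, mem_nonunits_iff] at hv ⊢
    intro hu
    exact hv (hloc.map_nonunit v hu)
  have hβx : β x ∈ maximalIdeal W := hle hx
  have h0 : β (ψ s) * (1 - β x) = 0 := by
    have := congrArg β hsx
    simpa using this
  have hs' : β (ψ s) ≠ 0 := by
    intro h
    apply hs
    apply hinj
    simpa using h
  have h1 : 1 - β x = 0 := (mul_eq_zero.mp h0).resolve_left hs'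
  have h2 : β x = 1 := by
    rw [sub_eq_zero] at h1
    exact h1.symm
  rw [h2] at hβx
  exact (Ideal.ne_top_iff_one _).mp (maximalIdeal.isMaximal W).ne_top hβx

/-- The `V`-torsion ideal of `B`. -/
def torsIdeal {V B : Type u} [CommRing V] [IsDomain V] [CommRing B] (ψ : V →+* B) : Ideal B where
  carrier := {b | ∃ s : V, s ≠ 0 ∧ ψ s * b = 0}
  add_mem' := by
    rintro a b ⟨s, hs, hsa⟩ ⟨t, ht, htb⟩
    refine ⟨s * t, mul_ne_zero hs ht, ?_⟩
    rw [map_mul, mul_add]
    have e1 : ψ s * ψ t * a = ψ t * (ψ s * a) := by ring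
    have e2 : ψ s * ψ t * b = ψ s * (ψ t * b) := by ring
    rw [e1, e2, hsa, htb]
    simp
  zero_mem' := ⟨1, one_ne_zero, by simp⟩
  smul_mem' := by
    rintro c b ⟨s, hs, hsb⟩
    refine ⟨s, hs, ?_⟩
    have e : ψ s * (c • b) = c * (ψ s * b) := by
      rw [smul_eq_mul]; ring
    rw [e, hsb, mul_zero]

lemma mem_torsIdeal {V B : Type u} [CommRing V] [IsDomain V] [CommRing B] (ψ : V →+* B) (b : B) :
    b ∈ torsIdeal ψ ↔ ∃ s : V, s ≠ 0 ∧ ψ s * b = 0 := Iff.rfl

/-- A minimal prime over the torsion ideal contains no `ψ s` with `s ≠ 0`. -/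
lemma comap_eq_bot_of_mem_minimalPrimes {V B : Type u} [CommRing V] [IsDomain V] [CommRing B]
    (ψ : V →+* B) {p : Ideal B} (hp : p ∈ (torsIdeal ψ).minimalPrimes) :
    p.comap ψ = ⊥ := by
  rw [eq_bot_iff]
  intro s hs
  rw [Ideal.mem_bot]
  by_contra hs0
  obtain ⟨y, hy, hxy⟩ := Ideal.exists_mul_mem_of_mem_minimalPrimes hp (Ideal.mem_comap.mp hs)
  obtain ⟨t, ht, hty⟩ := hxy
  apply hy
  refine ⟨t * s, mul_ne_zero ht hs0, ?_⟩
  rw [map_mul, mul_assoc]
  exact hty

/-- If the obstruction vanishes, `B` maps to a valuation ring extending `V`. -/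
theorem exists_lift_of_not_obst {V B : CommRingCat.{u}} [IsDomain V] [IsLocalRing V]
    (ψ : V ⟶ B) (h : ¬ Obst ψ.hom) :
    ∃ (W : CommRingCat.{u}) (_ : IsDomain W) (_ : ValuationRing W) (β : B ⟶ W),
      Function.Injective (ψ ≫ β).hom ∧ IsLocalHom (ψ ≫ β).hom := by
  have hne : (maximalIdeal V).map ψ.hom ⊔ torsIdeal ψ.hom ≠ ⊤ := by
    intro htop
    have h1 : (1 : B) ∈ (maximalIdeal V).map ψ.hom ⊔ torsIdeal ψ.hom := by
      rw [htop]; exact Submodule.mem_top
    obtain ⟨x, hx, n, hn, hxn⟩ := Submodule.mem_sup.mp h1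
    obtain ⟨s, hs, hsn⟩ := hn
    apply h
    refine ⟨x, hx, s, hs, ?_⟩
    have : (1 : B) - x = n := by rw [← hxn]; ring
    rw [this]
    exact hsn
  obtain ⟨q, hq, hle⟩ := Ideal.exists_le_maximal _ hne
  have hqp : q.IsPrime := hq.isPrime
  obtain ⟨q', hq', hq'q⟩ := Ideal.exists_minimalPrimes_le (le_sup_right.trans hle)
  have hq'p : q'.IsPrime := hq'.1.1
  let z' : ↥(Spec B) := (⟨q', hq'p⟩ : PrimeSpectrum B)
  let z : ↥(Spec B) := (⟨q, hqp⟩ : PrimeSpectrum B)
  have hz : z' ⤳ z :=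
    (PrimeSpectrum.le_iff_specializes (⟨q', hq'p⟩ : PrimeSpectrum B) ⟨q, hqp⟩).mp hq'q
  obtain ⟨W, hWd, hWv, a, ha1, ha2⟩ := exists_valuationRing_of_specializes hz
  let β : B ⟶ W := Spec.preimage a
  have hβ : Spec.map β = a := Spec.map_preimage _
  refine ⟨W, hWd, hWv, β, ?_, ?_⟩
  · rw [RingHom.injective_iff_ker_eq_bot, RingHom.ker_eq_comap_bot]
    have h1 : Ideal.comap β.hom ⊥ = q' := by
      have := congrArg PrimeSpectrum.asIdeal (show Spec.map β (genericPt W) = z' by rw [hβ, ha1])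
      exact this
    change Ideal.comap (β.hom.comp ψ.hom) ⊥ = ⊥
    rw [← Ideal.comap_comap, h1]
    exact comap_eq_bot_of_mem_minimalPrimes ψ.hom hq'
  · have h1 : Ideal.comap β.hom (maximalIdeal W) = q := by
      have := congrArg PrimeSpectrum.asIdeal
        (show Spec.map β (closedPoint W : ↥(Spec W)) = z by rw [hβ, ha2])
      exact this
    have h2 : (maximalIdeal W).comap (ψ ≫ β).hom = maximalIdeal V := by
      change Ideal.comap (β.hom.comp ψ.hom) (maximalIdeal W) = _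
      rw [← Ideal.comap_comap, h1]
      apply le_antisymm
      · exact IsLocalRing.le_maximalIdeal (Ideal.IsPrime.ne_top (Ideal.comap_isPrime ψ.hom q))
      · exact Ideal.le_comap_of_map_le (le_sup_left.trans hle)
    exact ((local_hom_TFAE (ψ ≫ β).hom).out 0 4).mpr h2

end Groth.Agent.Lib.Helper14.VLim
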