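import Groth.Agent.Lib.Helper14.VLim1
import Groth.Agent.S7476
import Mathlib.AlgebraicGeometry.AffineTransitionLimit

/-!
# V coverings and cofiltered limits: scheme-level translation
-/

set_option autoImplicit false
universe u

open CategoryTheory CategoryTheory.Limits AlgebraicGeometry IsLocalRing

namespace Groth.Agent.Lib.Helper14.VLim

open Groth.Agent.S7476

/-- The structure ring map of a scheme over `Spec V`. -/
noncomputable def strMap {V : CommRingCat.{u}} {P : Scheme.{u}} (p : P ⟶ Spec V) : V ⟶ Γ(P, ⊤) :=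
  (Scheme.ΓSpecIso V).inv ≫ p.appTop

lemma strMap_comp {V : CommRingCat.{u}} {P Q : Scheme.{u}} (t : Q ⟶ P) (p : P ⟶ Spec V) :
    strMap (t ≫ p) = strMap p ≫ t.appTop := by
  simp [strMap]

lemma strMap_SpecMap {V W : CommRingCat.{u}} (φ : V ⟶ W) :
    strMap (Spec.map φ) ≫ (Scheme.ΓSpecIso W).hom = φ := by
  simp [strMap, Scheme.ΓSpecIso_naturality]

lemma isoSpec_inv_comp {V : CommRingCat.{u}} {P : Scheme.{u}} [IsAffine P] (p : P ⟶ Spec V) :
    P.isoSpec.inv ≫ p = Spec.map (strMap p) := by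
  rw [Iso.inv_comp_eq]
  simp only [strMap, Spec.map_comp]
  rw [Scheme.isoSpec_hom_naturality_assoc, Scheme.isoSpec_Spec_hom, ← Spec.map_comp]
  simp

/-- Existence of a valuation-ring lift into an affine scheme over `Spec V`, in terms of the
obstruction. -/
lemma exists_lift_iff_not_obst {V : CommRingCat.{u}} [IsDomain V] [ValuationRing V]
    {P : Scheme.{u}} [IsAffine P] (p : P ⟶ Spec V) :
    (∃ (W : CommRingCat.{u}) (_ : IsDomain W) (_ : ValuationRing W) (φ : V ⟶ W),
      HTop.IsExtVal V W φ ∧ ∃ b : Spec W ⟶ P, b ≫ p = Spec.map φ) ↔ ¬ Obst (strMap p).hom := by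
  constructor
  · rintro ⟨W, hWd, hWv, φ, hφ, b, hb⟩
    let β : Γ(P, ⊤) ⟶ W := b.appTop ≫ (Scheme.ΓSpecIso W).hom
    have hβ : strMap p ≫ β = φ := by
      rw [← Category.assoc, ← strMap_comp, hb, strMap_SpecMap]
    have e : β.hom.comp (strMap p).hom = φ.hom := by
      rw [← hβ]; rfl
    exact not_obst_of_lift (strMap p).hom β.hom (by rw [e]; exact hφ.1) (by rw [e]; exact hφ.2)
  · intro h
    obtain ⟨W, hWd, hWv, β, hinj, hloc⟩ := exists_lift_of_not_obst (strMap p) h
    refine ⟨W, hWd, hWv, strMap p ≫ β, ⟨hinj, hloc⟩, Spec.map β ≫ P.isoSpec.inv, ?_⟩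
    rw [Category.assoc, isoSpec_inv_comp, Spec.map_comp]

/-- `Lift1` in terms of the base change. -/
lemma lift1_iff_pullback {X Y : Scheme.{u}} (f : X ⟶ Y) :
    Lift1 f ↔ ∀ (V : CommRingCat.{u}) [IsDomain V] [ValuationRing V] (g : Spec V ⟶ Y),
      ∃ (W : CommRingCat.{u}) (_ : IsDomain W) (_ : ValuationRing W) (φ : V ⟶ W),
        HTop.IsExtVal V W φ ∧ ∃ b : Spec W ⟶ pullback f g, b ≫ pullback.snd f g = Spec.map φ := by
  constructor
  · intro h V _ _ g
    obtain ⟨W, hWd, hWv, φ, hφ, g', hg'⟩ := h V g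
    exact ⟨W, hWd, hWv, φ, hφ, pullback.lift g' (Spec.map φ) hg', pullback.lift_snd _ _ _⟩
  · intro h V _ _ g
    obtain ⟨W, hWd, hWv, φ, hφ, b, hb⟩ := h V g
    refine ⟨W, hWd, hWv, φ, hφ, b ≫ pullback.fst f g, ?_⟩
    rw [Category.assoc, pullback.condition, ← Category.assoc, hb]

lemma lift1_iff_not_obst {X Y : Scheme.{u}} [IsAffine X] [IsAffine Y] (f : X ⟶ Y) :
    Lift1 f ↔ ∀ (V : CommRingCat.{u}) [IsDomain V] [ValuationRing V] (g : Spec V ⟶ Y),
      ¬ Obst (strMap (pullback.snd f g)).hom := by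
  rw [lift1_iff_pullback]
  constructor
  · intro h V _ _ g
    exact (exists_lift_iff_not_obst _).mp (h V g)
  · intro h V _ _ g
    exact (exists_lift_iff_not_obst _).mpr (h V g)

section Colim

variable {I : Type u} [SmallCategory I] [IsCofiltered I] (D : I ⥤ Scheme.{u})
  [∀ i, IsAffine (D.obj i)] (c : Cone D) (hc : IsLimit c)
  {V : CommRingCat.{u}} [IsLocalRing V]
  (p : ∀ i, D.obj i ⟶ Spec V) (hp : ∀ {i j : I} (f : i ⟶ j), D.map f ≫ p j = p i)
  (q : c.pt ⟶ Spec V) (hq : ∀ i, c.π.app i ≫ p i = q)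

include hc hp hq in
/-- Elements of `𝔪 Γ(lim)` come from a finite stage. -/
lemma exists_mem_map_of_mem_map (x : Γ(c.pt, ⊤))
    (hx : x ∈ (maximalIdeal V).map (strMap q).hom) :
    ∃ (i : I) (y : Γ(D.obj i, ⊤)), y ∈ (maximalIdeal V).map (strMap (p i)).hom ∧
      (c.π.app i).appTop y = x := by
  have hstr : ∀ i, strMap q = strMap (p i) ≫ (c.π.app i).appTop := fun i => by
    rw [← strMap_comp, hq]
  have hstr' : ∀ {i j : I} (f : i ⟶ j), strMap (p i) = strMap (p j) ≫ (D.map f).appTop :=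
    fun f => by rw [← strMap_comp, hp]
  have hmapmem : ∀ {i j : I} (f : i ⟶ j) (y : Γ(D.obj j, ⊤)),
      y ∈ (maximalIdeal V).map (strMap (p j)).hom →
      (D.map f).appTop y ∈ (maximalIdeal V).map (strMap (p i)).hom := by
    intro i j f y hy
    have h1 := Ideal.mem_map_of_mem (D.map f).appTop.hom hy
    rw [Ideal.map_map] at h1
    rw [hstr' f]
    exact h1
  have hπ : ∀ {i j : I} (f : i ⟶ j) (y : Γ(D.obj j, ⊤)),
      (c.π.app i).appTop ((D.map f).appTop y) = (c.π.app j).appTop y := by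
    intro i j f y
    rw [← ConcreteCategory.comp_apply, ← Scheme.Hom.comp_appTop, c.w]
  rw [Ideal.map] at hx
  induction hx using Submodule.span_induction with
  | mem x hx =>
    obtain ⟨v, hv, rfl⟩ := hx
    have i : I := IsCofiltered.nonempty.some
    refine ⟨i, (strMap (p i)).hom v, Ideal.mem_map_of_mem _ hv, ?_⟩
    rw [hstr i]
    rfl
  | zero =>
    have i : I := IsCofiltered.nonempty.some
    exact ⟨i, 0, Ideal.zero_mem _, map_zero _⟩
  | add x y _ _ hx hy =>
    obtain ⟨i, x', hx', rfl⟩ := hx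
    obtain ⟨j, y', hy', rfl⟩ := hy
    refine ⟨IsCofiltered.min i j, (D.map (IsCofiltered.minToLeft i j)).appTop x' +
      (D.map (IsCofiltered.minToRight i j)).appTop y',
      Ideal.add_mem _ (hmapmem _ _ hx') (hmapmem _ _ hy'), ?_⟩
    rw [map_add, hπ, hπ]
  | smul a x _ hx =>
    obtain ⟨i, x', hx', rfl⟩ := hx
    obtain ⟨j, a', rfl⟩ := exists_appTop_π_eq_of_isAffine_of_isLimit D c hc a
    refine ⟨IsCofiltered.min j i, (D.map (IsCofiltered.minToLeft j i)).appTop a' *
      (D.map (IsCofiltered.minToRight j i)).appTop x',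
      Ideal.mul_mem_left _ _ (hmapmem _ _ hx'), ?_⟩
    rw [map_mul, hπ, hπ, smul_eq_mul]

include hc hp hq in
/-- The obstruction over the limit comes from a finite stage. -/
theorem exists_obst_of_obst (h : Obst (strMap q).hom) : ∃ i, Obst (strMap (p i)).hom := by
  obtain ⟨x, hx, s, hs, hsx⟩ := h
  obtain ⟨i, y, hy, rfl⟩ := exists_mem_map_of_mem_map D c hc p hp q hq x hx
  have hstr : strMap q = strMap (p i) ≫ (c.π.app i).appTop := by
    rw [← strMap_comp, hq]
  have h0 : (c.π.app i).appTop ((strMap (p i)).hom s * (1 - y)) = 0 := by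
    rw [map_mul, map_sub, map_one]
    rw [hstr] at hsx
    exact hsx
  obtain ⟨j, f, hj⟩ := exists_appTop_map_eq_zero_of_isAffine_of_isLimit D c hc i _ h0
  refine ⟨j, (D.map f).appTop y, ?_, s, hs, ?_⟩
  · have h1 := Ideal.mem_map_of_mem (D.map f).appTop.hom hy
    rw [Ideal.map_map] at h1
    have : strMap (p j) = strMap (p i) ≫ (D.map f).appTop := by rw [← strMap_comp, hp]
    rw [this]
    exact h1
  · have : strMap (p j) = strMap (p i) ≫ (D.map f).appTop := by rw [← strMap_comp, hp]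
    rw [this]
    rw [map_mul, map_sub, map_one] at hj
    exact hj

end Colim

end Groth.Agent.Lib.Helper14.VLim
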