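import Groth.Prelude.Def_HTop
import Groth.Agent.Lib.Lead.VSheaf
import Groth.Agent.S7473
import Mathlib

/-!
# V sheaves over a base: basic relative plumbing (helper14)
-/

set_option autoImplicit false

universe w' w u

namespace Groth.Agent.Lib.Helper14.VOver

open CategoryTheory CategoryTheory.Limits AlgebraicGeometry HTop Opposite
open Groth.Agent.Lib.Lead

variable {S : Scheme.{u}}

/-- The finest topology on `Over S` for which `F` is a sheaf. -/
abbrev JF (F : (Over S)ᵒᵖ ⥤ Type w) : GrothendieckTopology (Over S) :=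
  Sheaf.finestTopologySingle F

theorem isSheaf_JF (F : (Over S)ᵒᵖ ⥤ Type w) : Presieve.IsSheaf (JF F) F := by
  intro X R hR
  have := hR X (𝟙 X)
  rwa [Sieve.pullback_id] at this

/-- Lift of a family of morphisms to `X.left` to a family over `S`. -/
def liftFam (X : Over S) (E : PreZeroHypercover.{w'} X.left) : PreZeroHypercover.{w'} X where
  I₀ := E.I₀
  X i := Over.mk (E.f i ≫ X.hom)
  f i := Over.homMk (E.f i) rfl

theorem map_presieve₀_liftFam (X : Over S) (E : PreZeroHypercover.{w'} X.left) :
    (liftFam X E).presieve₀.map (Over.forget S) = E.presieve₀ := by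
  rw [PreZeroHypercover.presieve₀, Presieve.map_ofArrows]
  rfl

theorem isHCover_pullback₁ {T T' : Scheme.{u}} (g : T' ⟶ T) (E : PreZeroHypercover.{w'} T)
    (hE : IsHCover E) : IsHCover (E.pullback₁ g) := by
  refine ⟨fun i => ?_, isVCover_pullback₁ g E hE.2⟩
  have := hE.1 i
  change LocallyOfFinitePresentation (pullback.fst g (E.f i))
  infer_instance

/-- Pulling back the sieve generated by a lifted family. -/
theorem pullback_generate_liftFam {X X' : Over S} (f : X' ⟶ X) (E : PreZeroHypercover.{w'} X.left) :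
    (Sieve.generate (liftFam X E).presieve₀).pullback f =
      Sieve.generate (liftFam X' (E.pullback₁ f.left)).presieve₀ := by
  ext W a
  constructor
  · rintro ⟨Z, b, c, ⟨i⟩, hbc⟩
    let i' : E.I₀ := i
    let b' : W ⟶ Over.mk (E.f i' ≫ X.hom) := b
    have hbc' : b' ≫ (Over.homMk (E.f i') rfl : Over.mk (E.f i' ≫ X.hom) ⟶ X) = a ≫ f := hbc
    have h1 : a.left ≫ f.left = b'.left ≫ E.f i' := by
      have := congrArg (fun t => t.left) hbc'
      simpa using this.symm
    let l : W.left ⟶ pullback f.left (E.f i') := pullback.lift a.left b'.left h1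
    have hl : l ≫ (pullback.fst f.left (E.f i') ≫ X'.hom) = W.hom := by
      rw [← Category.assoc, pullback.lift_fst]
      exact Over.w a
    let l' : W ⟶ Over.mk (pullback.fst f.left (E.f i') ≫ X'.hom) := Over.homMk l hl
    refine ⟨_, l', (liftFam X' (E.pullback₁ f.left)).f i', ⟨i'⟩, ?_⟩
    ext
    change l ≫ pullback.fst f.left (E.f i') = a.left
    exact pullback.lift_fst _ _ _
  · rintro ⟨Z, b, c, ⟨i⟩, hbc⟩
    let i' : E.I₀ := i
    let b' : W ⟶ Over.mk (pullback.fst f.left (E.f i') ≫ X'.hom) := b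
    have hbc' : b' ≫ (Over.homMk (pullback.fst f.left (E.f i')) rfl :
        Over.mk (pullback.fst f.left (E.f i') ≫ X'.hom) ⟶ X') = a := hbc
    have hs : pullback.snd f.left (E.f i') ≫ (E.f i' ≫ X.hom) =
        pullback.fst f.left (E.f i') ≫ X'.hom := by
      rw [← Category.assoc, ← pullback.condition, Category.assoc, Over.w f]
    let s : Over.mk (pullback.fst f.left (E.f i') ≫ X'.hom) ⟶ Over.mk (E.f i' ≫ X.hom) :=
      Over.homMk (pullback.snd f.left (E.f i')) hs
    refine ⟨_, b' ≫ s, (liftFam X E).f i', ⟨i'⟩, ?_⟩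
    rw [← hbc']
    ext
    change (b'.left ≫ pullback.snd f.left (E.f i')) ≫ E.f i' =
      (b'.left ≫ pullback.fst f.left (E.f i')) ≫ f.left
    rw [Category.assoc, Category.assoc, pullback.condition]

/-- An h-sheaf over `S` satisfies the sheaf condition for lifted h coverings. -/
theorem isSheafFor_liftFam {F : (Over S)ᵒᵖ ⥤ Type w} (h1 : IsHSheafOver S F) (X : Over S)
    (E : PreZeroHypercover.{w'} X.left) (hE : IsHCover E) :
    Presieve.IsSheafFor F (liftFam X E).presieve₀ := by
  apply h1
  rw [map_presieve₀_liftFam]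
  exact (presieve₀_mem_hPrecoverage_iff E).mpr hE

/-- The sieve generated by a lifted h covering is covering for the finest topology. -/
theorem generate_liftFam_mem_JF {F : (Over S)ᵒᵖ ⥤ Type w} (h1 : IsHSheafOver S F) (X : Over S)
    (E : PreZeroHypercover.{w'} X.left) (hE : IsHCover E) :
    Sieve.generate (liftFam X E).presieve₀ ∈ JF F X := by
  intro Y f
  rw [pullback_generate_liftFam, ← Presieve.isSheafFor_iff_generate]
  exact isSheafFor_liftFam h1 Y _ (isHCover_pullback₁ f.left E hE)

/-- Open covers are h coverings. -/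
theorem isHCover_openCover {T : Scheme.{u}} (𝒰 : T.OpenCover) :
    IsHCover 𝒰.toPreZeroHypercover := by
  refine ⟨fun i => ?_, ?_⟩
  · have : IsOpenImmersion (𝒰.f i) := 𝒰.map_prop i
    change LocallyOfFinitePresentation (𝒰.f i)
    infer_instance
  · have hmem : 𝒰.toPreZeroHypercover.presieve₀ ∈ Scheme.fpqcPrecoverage T :=
      Scheme.zariskiPrecoverage_le_fpqcPrecoverage _ 𝒰.mem₀
    let 𝒱 : Scheme.Cover Scheme.fpqcPrecoverage T := ⟨𝒰.toPreZeroHypercover, hmem⟩
    exact Groth.Agent.S7473.result 𝒱

end Groth.Agent.Lib.Helper14.VOver
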