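import Groth.Agent.Lib.Helper14.VOver1

/-!
# V sheaves over a base: Zariski locality for the finest topology (helper14)
-/

set_option autoImplicit false

universe w' w u

namespace Groth.Agent.Lib.Helper14.VOver

open CategoryTheory CategoryTheory.Limits AlgebraicGeometry HTop Opposite TopologicalSpace
open Groth.Agent.Lib.Lead

variable {S : Scheme.{u}}

/-- The lift of an open subscheme of `X.left` to `Over S`. -/
abbrev opOb (X : Over S) (U : X.left.Opens) : Over S := Over.mk (U.ι ≫ X.hom)

/-- The lifted open immersion. -/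
abbrev opι (X : Over S) (U : X.left.Opens) : opOb X U ⟶ X := Over.homMk U.ι rfl

/-- A sieve containing the lifts of a family of opens covering `X.left` is covering for the
finest topology of an h-sheaf. -/
theorem mem_JF_of_forall_open {F : (Over S)ᵒᵖ ⥤ Type w} (h1 : IsHSheafOver S F) (X : Over S)
    (R : Sieve X) (h : ∀ x : X.left, ∃ U : X.left.Opens, x ∈ U ∧ R (opι X U)) :
    R ∈ JF F X := by
  choose U hxU hR using h
  have hU : IsOpenCover U := by
    apply IsOpenCover.mk
    rw [eq_top_iff]
    intro x _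
    exact Opens.mem_iSup.mpr ⟨x, hxU x⟩
  let 𝒰 : X.left.OpenCover := X.left.openCoverOfIsOpenCover U hU
  refine (JF F).superset_covering ?_ (generate_liftFam_mem_JF h1 X 𝒰.toPreZeroHypercover
    (isHCover_openCover 𝒰))
  rw [Sieve.generate_le_iff]
  rintro _ _ ⟨x⟩
  exact hR x

/-- The affine pre-1-hypercover of an object of `Over S`. -/
noncomputable def affOne (W : Over S) : PreOneHypercover.{u} W where
  I₀ := W.left.affineOpens
  X a := opOb W (a : W.left.Opens)
  f a := opι W (a : W.left.Opens)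
  I₁ a b := {c : W.left.affineOpens //
    (c : W.left.Opens) ≤ (a : W.left.Opens) ⊓ (b : W.left.Opens)}
  Y a b c := opOb W (c.1 : W.left.Opens)
  p₁ a b c := Over.homMk (W.left.homOfLE (c.2.trans inf_le_left)) (by
    change W.left.homOfLE _ ≫ ((a : W.left.Opens).ι ≫ W.hom) = _
    rw [← Category.assoc, Scheme.homOfLE_ι]
    rfl)
  p₂ a b c := Over.homMk (W.left.homOfLE (c.2.trans inf_le_right)) (by
    change W.left.homOfLE _ ≫ ((b : W.left.Opens).ι ≫ W.hom) = _
    rw [← Category.assoc, Scheme.homOfLE_ι]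
    rfl)
  w a b c := by
    ext
    change W.left.homOfLE (c.2.trans inf_le_left) ≫ (a : W.left.Opens).ι =
      W.left.homOfLE (c.2.trans inf_le_right) ≫ (b : W.left.Opens).ι
    rw [Scheme.homOfLE_ι, Scheme.homOfLE_ι]

/-- The affine 1-hypercover for the finest topology of an h-sheaf. -/
noncomputable def affOneHyper {F : (Over S)ᵒᵖ ⥤ Type w} (h1 : IsHSheafOver S F) (W : Over S) :
    (JF F).OneHypercover W where
  toPreOneHypercover := affOne W
  mem₀ := by
    apply mem_JF_of_forall_open h1
    intro x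
    obtain ⟨_, ⟨U, hU, rfl⟩, hxU, -⟩ := (W.left.isBasis_affineOpens).exists_subset_of_mem_open
      (Set.mem_univ x) isOpen_univ
    refine ⟨U, hxU, ?_⟩
    exact Sieve.le_generate _ _ _ (Presieve.ofArrows.mk (ι := W.left.affineOpens)
      (Y := fun a => opOb W (a : W.left.Opens)) (f := fun a => opι W (a : W.left.Opens)) ⟨U, hU⟩)
  mem₁ a b T p₁ p₂ hw := by
    apply mem_JF_of_forall_open h1
    intro x
    let a' : W.left.affineOpens := a
    let b' : W.left.affineOpens := b
    let q₁ : T.left ⟶ (a' : W.left.Opens).toScheme := p₁.left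
    let q₂ : T.left ⟶ (b' : W.left.Opens).toScheme := p₂.left
    let t : T.left ⟶ W.left := q₁ ≫ (a' : W.left.Opens).ι
    have ht : t = q₂ ≫ (b' : W.left.Opens).ι := congrArg (fun m => m.left) hw
    have hxa : t x ∈ (a' : W.left.Opens) := by
      change ((a' : W.left.Opens).ι (q₁ x)) ∈ _
      exact (q₁ x).2
    have hxb : t x ∈ (b' : W.left.Opens) := by
      rw [ht]
      change ((b' : W.left.Opens).ι (q₂ x)) ∈ _
      exact (q₂ x).2
    obtain ⟨_, ⟨c₀, hc, rfl⟩, hxc, hcab⟩ := (W.left.isBasis_affineOpens).exists_subset_of_mem_open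
      (show t x ∈ (((a' : W.left.Opens) ⊓ (b' : W.left.Opens) : W.left.Opens) : Set W.left) from
        ⟨hxa, hxb⟩) ((a' : W.left.Opens) ⊓ (b' : W.left.Opens)).isOpen
    let c : W.left.Opens := c₀
    let U : T.left.Opens := t ⁻¹ᵁ c
    refine ⟨U, hxc, ?_⟩
    let l : U.toScheme ⟶ c.toScheme := t.resLE c U le_rfl
    have hl : l ≫ c.ι = U.ι ≫ t := Scheme.Hom.resLE_comp_ι t le_rfl
    have hT : q₁ ≫ ((a' : W.left.Opens).ι ≫ W.hom) = T.hom := Over.w p₁
    have hlw : l ≫ (c.ι ≫ W.hom) = U.ι ≫ T.hom := by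
      rw [← Category.assoc, hl, Category.assoc, ← hT]
      simp only [t, Category.assoc]
    let k : (affOne W).I₁ a' b' := ⟨⟨c, hc⟩, hcab⟩
    let h : opOb T U ⟶ opOb W c := Over.homMk l hlw
    refine ⟨k, h, ?_, ?_⟩
    · ext
      change U.ι ≫ q₁ = l ≫ W.left.homOfLE (k.2.trans inf_le_left)
      rw [← cancel_mono (a' : W.left.Opens).ι, Category.assoc, Category.assoc, Scheme.homOfLE_ι]
      exact hl.symm
    · ext
      change U.ι ≫ q₂ = l ≫ W.left.homOfLE (k.2.trans inf_le_right)
      rw [← cancel_mono (b' : W.left.Opens).ι, Category.assoc, Category.assoc, Scheme.homOfLE_ι,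
        ← ht]
      exact hl.symm

/-- For an h-sheaf over `S`, the sheaf condition for a sieve can be checked after pullback to
all affine schemes over `S`. -/
theorem isSheafFor_of_forall_affine {F : (Over S)ᵒᵖ ⥤ Type w} (h1 : IsHSheafOver S F)
    {W : Over S} (T : Sieve W)
    (h : ∀ (Y : Over S), IsAffine Y.left → ∀ k : Y ⟶ W,
      Presieve.IsSheafFor F (T.pullback k).arrows) :
    Presieve.IsSheafFor F T.arrows := by
  refine (affOneHyper h1 W).isSheafFor_sieve_of_pullback (isSheaf_JF F) ?_ ?_
  · intro a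
    let a' : (affOne W).I₀ := a
    let a'' : W.left.affineOpens := a'
    exact h (opOb W (a'' : W.left.Opens)) a''.2 _
  · intro a b c
    let a' : (affOne W).I₀ := a
    let b' : (affOne W).I₀ := b
    let c' : (affOne W).I₁ a' b' := c
    let c'' : W.left.affineOpens := c'.1
    exact (h (opOb W (c'' : W.left.Opens)) c''.2 _).isSeparatedFor

/-- Membership in the finest topology can be checked on affine schemes. -/
theorem mem_JF_of_forall_affine {F : (Over S)ᵒᵖ ⥤ Type w} (h1 : IsHSheafOver S F)
    {W : Over S} (T : Sieve W)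
    (h : ∀ (Y : Over S), IsAffine Y.left → ∀ k : Y ⟶ W,
      Presieve.IsSheafFor F (T.pullback k).arrows) :
    T ∈ JF F W := by
  intro W' k'
  apply isSheafFor_of_forall_affine h1
  intro Y hY k
  rw [← Sieve.pullback_comp]
  exact h Y hY _

end Groth.Agent.Lib.Helper14.VOver
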