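import Groth.Agent.Lib.Helper14.VOver2

/-!
# V sheaves over a base: the double fibre product system (helper14)
-/

set_option autoImplicit false

universe w' w v u

namespace Groth.Agent.Lib.Helper14.VOver

open CategoryTheory CategoryTheory.Limits AlgebraicGeometry HTop Opposite TopologicalSpace

variable {S : Scheme.{u}}

/-- The map `A ×_Y A ⟶ B ×_Y B` induced by a morphism over `Y`. -/
noncomputable def dblMap {Y : Scheme.{u}} {A B : Over Y} (φ : A ⟶ B) :
    pullback A.hom A.hom ⟶ pullback B.hom B.hom :=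
  pullback.map A.hom A.hom B.hom B.hom φ.left φ.left (𝟙 _)
    (by rw [Category.comp_id, Over.w]) (by rw [Category.comp_id, Over.w])

@[reassoc (attr := simp)]
theorem dblMap_fst {Y : Scheme.{u}} {A B : Over Y} (φ : A ⟶ B) :
    dblMap φ ≫ pullback.fst B.hom B.hom = pullback.fst A.hom A.hom ≫ φ.left :=
  pullback.lift_fst _ _ _

@[reassoc (attr := simp)]
theorem dblMap_snd {Y : Scheme.{u}} {A B : Over Y} (φ : A ⟶ B) :
    dblMap φ ≫ pullback.snd B.hom B.hom = pullback.snd A.hom A.hom ≫ φ.left :=
  pullback.lift_snd _ _ _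

/-- The functor `A ↦ A ×_U A` from schemes over `U.left` to schemes over `S`. -/
noncomputable def dbl (U : Over S) : Over U.left ⥤ Over S where
  obj A := Over.mk ((pullback.fst A.hom A.hom ≫ A.hom) ≫ U.hom)
  map {A B} φ := Over.homMk (dblMap φ) (by
      change dblMap φ ≫ ((pullback.fst B.hom B.hom ≫ B.hom) ≫ U.hom) =
        (pullback.fst A.hom A.hom ≫ A.hom) ≫ U.hom
      rw [← Category.assoc, ← Category.assoc, dblMap_fst, Category.assoc (pullback.fst _ _),
        Over.w])
  map_id A := by
    ext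
    change dblMap (𝟙 A) = 𝟙 _
    apply pullback.hom_ext
    · rw [dblMap_fst]; simp
    · rw [dblMap_snd]; simp
  map_comp {A B C} φ ψ := by
    ext
    change dblMap (φ ≫ ψ) = dblMap φ ≫ dblMap ψ
    apply pullback.hom_ext
    · rw [dblMap_fst, Category.assoc, dblMap_fst, dblMap_fst_assoc]; rfl
    · rw [dblMap_snd, Category.assoc, dblMap_snd, dblMap_snd_assoc]; rfl

/-- The first projection `A ×_U A ⟶ A`. -/
noncomputable def pr₁ (U : Over S) : dbl U ⟶ Over.map U.hom where
  app A := Over.homMk (pullback.fst A.hom A.hom) (by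
    change pullback.fst A.hom A.hom ≫ (A.hom ≫ U.hom) = (pullback.fst A.hom A.hom ≫ A.hom) ≫ U.hom
    rw [Category.assoc])
  naturality A B φ := by
    ext
    change dblMap φ ≫ pullback.fst B.hom B.hom = pullback.fst A.hom A.hom ≫ φ.left
    exact dblMap_fst φ

/-- The second projection `A ×_U A ⟶ A`. -/
noncomputable def pr₂ (U : Over S) : dbl U ⟶ Over.map U.hom where
  app A := Over.homMk (pullback.snd A.hom A.hom) (by
    change pullback.snd A.hom A.hom ≫ (A.hom ≫ U.hom) = (pullback.fst A.hom A.hom ≫ A.hom) ≫ U.hom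
    rw [← Category.assoc, ← pullback.condition])
  naturality A B φ := by
    ext
    change dblMap φ ≫ pullback.snd B.hom B.hom = pullback.snd A.hom A.hom ≫ φ.left
    exact dblMap_snd φ

/-- A pair of morphisms into `A` over `U` with the same composite to `U.left` gives a morphism
to `A ×_U A`. -/
theorem exists_lift_dbl (U : Over S) (A : Over U.left) {Z : Over S}
    (p₁ p₂ : Z ⟶ (Over.map U.hom).obj A) (h : p₁.left ≫ A.hom = p₂.left ≫ A.hom) :
    ∃ q : Z ⟶ (dbl U).obj A, q ≫ (pr₁ U).app A = p₁ ∧ q ≫ (pr₂ U).app A = p₂ := by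
  have hw : pullback.lift p₁.left p₂.left h ≫ ((pullback.fst A.hom A.hom ≫ A.hom) ≫ U.hom) =
      Z.hom := by
    rw [← Category.assoc, ← Category.assoc, pullback.lift_fst, Category.assoc]
    exact Over.w p₁
  refine ⟨Over.homMk (pullback.lift p₁.left p₂.left h) hw, ?_, ?_⟩
  · ext
    exact pullback.lift_fst _ _ _
  · ext
    exact pullback.lift_snd _ _ _

section Limit

variable (U : Over S) {J : Type v} [Category J] [Nonempty J] (D : J ⥤ Over U.left) (c : Cone D)
  (hc : IsLimit ((Over.forget U.left).mapCone c))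

/-- The limit of the double fibre products is the double fibre product of the limit. -/
noncomputable def isLimitDbl : IsLimit ((Over.forget S).mapCone ((dbl U).mapCone c)) := by
  let leg : ∀ (s : Cone ((D ⋙ dbl U) ⋙ Over.forget S)) (i : J),
      s.pt ⟶ pullback (D.obj i).hom (D.obj i).hom := fun s i => s.π.app i
  have hnat : ∀ (s : Cone ((D ⋙ dbl U) ⋙ Over.forget S)) {i j : J} (φ : i ⟶ j),
      leg s i ≫ dblMap (D.map φ) = leg s j := by
    intro s i j φ
    have := s.π.naturality φ
    simp only [Functor.const_obj_obj, Functor.const_obj_map, Category.id_comp] at this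
    exact this.symm
  let s₁ : Cone ((D ⋙ dbl U) ⋙ Over.forget S) → Cone (D ⋙ Over.forget U.left) := fun s =>
    { pt := s.pt
      π :=
        { app := fun i => leg s i ≫ pullback.fst (D.obj i).hom (D.obj i).hom
          naturality := fun i j φ => by
            change 𝟙 s.pt ≫ (leg s j ≫ pullback.fst (D.obj j).hom (D.obj j).hom) =
              (leg s i ≫ pullback.fst (D.obj i).hom (D.obj i).hom) ≫ (D.map φ).left
            rw [Category.id_comp, ← hnat s φ, Category.assoc, Category.assoc, dblMap_fst] } }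
  let s₂ : Cone ((D ⋙ dbl U) ⋙ Over.forget S) → Cone (D ⋙ Over.forget U.left) := fun s =>
    { pt := s.pt
      π :=
        { app := fun i => leg s i ≫ pullback.snd (D.obj i).hom (D.obj i).hom
          naturality := fun i j φ => by
            change 𝟙 s.pt ≫ (leg s j ≫ pullback.snd (D.obj j).hom (D.obj j).hom) =
              (leg s i ≫ pullback.snd (D.obj i).hom (D.obj i).hom) ≫ (D.map φ).left
            rw [Category.id_comp, ← hnat s φ, Category.assoc, Category.assoc, dblMap_snd] } }
  let a₁ : ∀ s : Cone ((D ⋙ dbl U) ⋙ Over.forget S), s.pt ⟶ c.pt.left := fun s => hc.lift (s₁ s)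
  let a₂ : ∀ s : Cone ((D ⋙ dbl U) ⋙ Over.forget S), s.pt ⟶ c.pt.left := fun s => hc.lift (s₂ s)
  let πl : ∀ i : J, c.pt.left ⟶ (D.obj i).left := fun i => (c.π.app i).left
  have hπl : ∀ i, πl i ≫ (D.obj i).hom = c.pt.hom := fun i => Over.w (c.π.app i)
  have hfac₁ : ∀ s i, a₁ s ≫ πl i =
      leg s i ≫ pullback.fst (D.obj i).hom (D.obj i).hom := fun s i => hc.fac (s₁ s) i
  have hfac₂ : ∀ s i, a₂ s ≫ πl i =
      leg s i ≫ pullback.snd (D.obj i).hom (D.obj i).hom := fun s i => hc.fac (s₂ s) i
  have heq : ∀ s, a₁ s ≫ c.pt.hom = a₂ s ≫ c.pt.hom := by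
    intro s
    obtain ⟨i⟩ := ‹Nonempty J›
    rw [← hπl i, ← Category.assoc, ← Category.assoc, hfac₁, hfac₂, Category.assoc, Category.assoc,
      pullback.condition]
  have hdbl₁ : ∀ i, dblMap (c.π.app i) ≫ pullback.fst (D.obj i).hom (D.obj i).hom =
      pullback.fst c.pt.hom c.pt.hom ≫ πl i := fun i => dblMap_fst _
  have hdbl₂ : ∀ i, dblMap (c.π.app i) ≫ pullback.snd (D.obj i).hom (D.obj i).hom =
      pullback.snd c.pt.hom c.pt.hom ≫ πl i := fun i => dblMap_snd _
  refine
    { lift := fun s => pullback.lift (a₁ s) (a₂ s) (heq s)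
      fac := fun s i => ?_
      uniq := fun s m hm => ?_ }
  · change pullback.lift (a₁ s) (a₂ s) (heq s) ≫ dblMap (c.π.app i) = leg s i
    apply pullback.hom_ext
    · rw [Category.assoc, hdbl₁, pullback.lift_fst_assoc]
      exact hfac₁ s i
    · rw [Category.assoc, hdbl₂, pullback.lift_snd_assoc]
      exact hfac₂ s i
  · let m' : s.pt ⟶ pullback c.pt.hom c.pt.hom := m
    have hm' : ∀ i, m' ≫ dblMap (c.π.app i) = leg s i := hm
    change m' = pullback.lift (a₁ s) (a₂ s) (heq s)
    apply pullback.hom_ext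
    · rw [pullback.lift_fst]
      refine hc.uniq (s₁ s) (m' ≫ pullback.fst _ _) fun i => ?_
      change (m' ≫ pullback.fst _ _) ≫ πl i = leg s i ≫ pullback.fst _ _
      rw [← hm' i, Category.assoc, Category.assoc, hdbl₁]
    · rw [pullback.lift_snd]
      refine hc.uniq (s₂ s) (m' ≫ pullback.snd _ _) fun i => ?_
      change (m' ≫ pullback.snd _ _) ≫ πl i = leg s i ≫ pullback.snd _ _
      rw [← hm' i, Category.assoc, Category.assoc, hdbl₂]

end Limit

end Groth.Agent.Lib.Helper14.VOver
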