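import Groth.Agent.Lib.Helper14.VOver3
import Groth.Agent.S17885

/-!
# V sheaves over a base: the limit argument for one-member standard V coverings (helper14)
-/

set_option autoImplicit false

universe w' w v u

namespace Groth.Agent.Lib.Helper14.VOver

open CategoryTheory CategoryTheory.Limits AlgebraicGeometry HTop Opposite TopologicalSpace
open Groth.Agent.Lib.Lead

variable {S : Scheme.{u}}

/-- The structure morphism `A ⟶ U` in `Over S`. -/
def toU (U : Over S) (A : Over U.left) : (Over.map U.hom).obj A ⟶ U := Over.homMk A.hom rfl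

@[reassoc]
theorem map_toU (U : Over S) {A B : Over U.left} (φ : A ⟶ B) :
    (Over.map U.hom).map φ ≫ toU U B = toU U A := by
  ext
  exact Over.w φ

theorem pr₁_toU (U : Over S) (A : Over U.left) :
    (pr₁ U).app A ≫ toU U A = (pr₂ U).app A ≫ toU U A := by
  ext
  exact pullback.condition

section Colim

variable {K : Type v} [Category K] [IsCofiltered K] (F : (Over S)ᵒᵖ ⥤ Type w) (D : K ⥤ Over S)
  (c : Cone D) (hcol : IsColimit (F.mapCocone c.op))

omit [IsCofiltered K] in
include hcol in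
theorem colim_surj (x : F.obj (op c.pt)) :
    ∃ (i : K) (xi : F.obj (op (D.obj i))), F.map (c.π.app i).op xi = x := by
  obtain ⟨j, y, hy⟩ := Types.jointly_surjective_of_isColimit hcol x
  exact ⟨j.unop, y, hy⟩

include hcol in
theorem colim_inj (i : K) (a b : F.obj (op (D.obj i)))
    (h : F.map (c.π.app i).op a = F.map (c.π.app i).op b) :
    ∃ (j : K) (t : j ⟶ i), F.map (D.map t).op a = F.map (D.map t).op b := by
  have h' : (F.mapCocone c.op).ι.app (op i) a = (F.mapCocone c.op).ι.app (op i) b := h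
  rw [Types.FilteredColimit.isColimit_eq_iff' hcol] at h'
  obtain ⟨j, f, hf⟩ := h'
  exact ⟨j.unop, f.unop, hf⟩

end Colim

/-- A one-member family through which a standard V covering factors. -/
theorem isStandardV_of_factor {Y V A : Scheme.{u}} [IsAffine Y] [IsAffine A] (g : V ⟶ Y)
    (hg : IsStandardV (PreZeroHypercover.singleton.{w'} g)) (p : V ⟶ A) (a : A ⟶ Y)
    (hpa : p ≫ a = g) : IsStandardV (PreZeroHypercover.singleton.{w'} a) := by
  refine ⟨inferInstance, inferInstanceAs (Finite PUnit), fun _ => ‹IsAffine A›, ?_⟩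
  intro R _ _ r
  obtain ⟨W, hWd, hWv, φ, hφ, j, g', hg'⟩ := hg.lift R r
  let g'' : Spec W ⟶ V := g'
  have hg'' : g'' ≫ g = Spec.map φ ≫ r := hg'
  refine ⟨W, hWd, hWv, φ, hφ, PUnit.unit, g'' ≫ p, ?_⟩
  change (g'' ≫ p) ≫ a = _
  rw [Category.assoc, hpa, hg'']

/-- An h-sheaf over `S` has the sheaf property for a finitely presented one-member standard V
covering. -/
theorem isSheafFor_toU_of_isStandardV {F : (Over S)ᵒᵖ ⥤ Type w} (h1 : IsHSheafOver S F)
    (U : Over S) (A : Over U.left) [LocallyOfFinitePresentation A.hom]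
    (hA : IsStandardV (PreZeroHypercover.singleton.{0} A.hom)) :
    Presieve.IsSheafFor F (Presieve.singleton (toU U A)) := by
  apply h1
  rw [Presieve.map_singleton]
  change Presieve.singleton A.hom ∈ _
  have := (presieve₀_mem_hPrecoverage_iff (PreZeroHypercover.singleton.{0} A.hom)).mpr
    ⟨fun _ => ‹LocallyOfFinitePresentation A.hom›, isVCover_of_isStandardV _ hA⟩
  rwa [PreZeroHypercover.presieve₀_singleton] at this

/-- The limit argument: an h-sheaf over `S` which is limit preserving has the sheaf property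
for every one-member standard V covering of affine schemes. -/
theorem isSheafFor_toU_of_limitPreserving {F : (Over S)ᵒᵖ ⥤ Type w} (h1 : IsHSheafOver S F)
    (h2 : ∀ (I : Type u) [SmallCategory I] [IsCofiltered I] (D : I ⥤ Over S),
      (∀ i, IsAffine (D.obj i).left) → ∀ (c : Cone D), IsLimit ((Over.forget S).mapCone c) →
        Nonempty (IsColimit (F.mapCocone c.op)))
    (U : Over S) [IsAffine U.left] {Vl : Scheme.{u}} [IsAffine Vl] (gl : Vl ⟶ U.left)
    (hg : IsStandardV (PreZeroHypercover.singleton.{0} gl)) :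
    Presieve.IsSheafFor F (Presieve.singleton (toU U (Over.mk gl))) := by
  have hgaff : IsAffineHom gl := inferInstance
  obtain ⟨I, hI1, hI2, D, c, hc, hD, ⟨e⟩⟩ := (Groth.Agent.S17885.result gl).mp hgaff
  let c₀ : Cone D := c.extend e.inv
  have hc₀ : IsLimit c₀ := IsLimit.extendIso e.inv hc
  have hconn : IsConnected Iᵒᵖ := IsCofiltered.isConnected _
  have hc₀' : IsLimit ((Over.forget U.left).mapCone c₀) :=
    isLimitOfPreserves (Over.forget U.left) hc₀
  let D₁ : Iᵒᵖ ⥤ Over S := D ⋙ Over.map U.hom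
  let c₁ : Cone D₁ := (Over.map U.hom).mapCone c₀
  have hc₁ : IsLimit ((Over.forget S).mapCone c₁) := hc₀'
  let D₂ : Iᵒᵖ ⥤ Over S := D ⋙ dbl U
  let c₂ : Cone D₂ := (dbl U).mapCone c₀
  have hc₂ : IsLimit ((Over.forget S).mapCone c₂) := isLimitDbl U D c₀ hc₀'
  have haffD : ∀ i, IsAffine (D.obj i).left := fun i => by
    have := (hD i).1
    exact isAffine_of_isAffineHom (D.obj i).hom
  have haff₁ : ∀ i, IsAffine (D₁.obj i).left := haffD
  have haff₂ : ∀ i, IsAffine (D₂.obj i).left := fun i => by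
    have := haffD i
    change IsAffine (pullback (D.obj i).hom (D.obj i).hom)
    infer_instance
  obtain ⟨hcol₁⟩ := h2 Iᵒᵖ D₁ haff₁ c₁ hc₁
  obtain ⟨hcol₂⟩ := h2 Iᵒᵖ D₂ haff₂ c₂ hc₂
  -- the stages are h coverings
  have hstage : ∀ i, Presieve.IsSheafFor F (Presieve.singleton (toU U (D.obj i))) := by
    intro i
    have := (hD i).2
    have := haffD i
    refine isSheafFor_toU_of_isStandardV h1 U (D.obj i) ?_
    exact isStandardV_of_factor gl hg (c₀.π.app i).left (D.obj i).hom (Over.w (c₀.π.app i))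
  -- compatibility of the cone with the structure morphisms
  have hπU : ∀ i, c₁.π.app i ≫ toU U (D.obj i) = toU U (Over.mk gl) := fun i =>
    map_toU U (c₀.π.app i)
  have hπ₁ : ∀ i, c₂.π.app i ≫ (pr₁ U).app (D.obj i) = (pr₁ U).app (Over.mk gl) ≫ c₁.π.app i :=
    fun i => (pr₁ U).naturality (c₀.π.app i)
  have hπ₂ : ∀ i, c₂.π.app i ≫ (pr₂ U).app (D.obj i) = (pr₂ U).app (Over.mk gl) ≫ c₁.π.app i :=
    fun i => (pr₂ U).naturality (c₀.π.app i)
  rw [Presieve.isSheafFor_singleton]
  intro x hx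
  -- descend `x` to a stage
  obtain ⟨i, xi, hxi⟩ := colim_surj F D₁ c₁ hcol₁ x
  let a : F.obj (op (D₂.obj i)) := F.map ((pr₁ U).app (D.obj i)).op xi
  let b : F.obj (op (D₂.obj i)) := F.map ((pr₂ U).app (D.obj i)).op xi
  have hab : F.map (c₂.π.app i).op a = F.map (c₂.π.app i).op b := by
    have e₁ : F.map (c₂.π.app i).op a = F.map ((pr₁ U).app (Over.mk gl)).op x := by
      rw [← hxi]
      simp only [a, ← Functor.map_comp_apply, ← op_comp]
      rw [hπ₁ i]
    have e₂ : F.map (c₂.π.app i).op b = F.map ((pr₂ U).app (Over.mk gl)).op x := by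
      rw [← hxi]
      simp only [b, ← Functor.map_comp_apply, ← op_comp]
      rw [hπ₂ i]
    rw [e₁, e₂]
    exact hx _ _ (pr₁_toU U (Over.mk gl))
  obtain ⟨j, t, ht⟩ := colim_inj F D₂ c₂ hcol₂ i a b hab
  let xj : F.obj (op (D₁.obj j)) := F.map (D₁.map t).op xi
  have hxj : F.map (c₁.π.app j).op xj = x := by
    rw [← hxi]
    simp only [xj, ← Functor.map_comp_apply, ← op_comp]
    rw [c₁.w t]
  have hxj₁₂ : F.map ((pr₁ U).app (D.obj j)).op xj = F.map ((pr₂ U).app (D.obj j)).op xj := by
    have n₁ : (pr₁ U).app (D.obj j) ≫ D₁.map t = D₂.map t ≫ (pr₁ U).app (D.obj i) :=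
      ((pr₁ U).naturality (D.map t)).symm
    have n₂ : (pr₂ U).app (D.obj j) ≫ D₁.map t = D₂.map t ≫ (pr₂ U).app (D.obj i) :=
      ((pr₂ U).naturality (D.map t)).symm
    simp only [xj, ← Functor.map_comp_apply, ← op_comp]
    rw [n₁, n₂]
    simp only [op_comp, Functor.map_comp_apply]
    exact ht
  -- the sheaf property at stage `j`
  have hcompat : ∀ {Z : Over S} (p₁ p₂ : Z ⟶ D₁.obj j),
      p₁ ≫ toU U (D.obj j) = p₂ ≫ toU U (D.obj j) → F.map p₁.op xj = F.map p₂.op xj := by
    intro Z p₁ p₂ hp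
    have hp' : p₁.left ≫ (D.obj j).hom = p₂.left ≫ (D.obj j).hom :=
      congrArg (fun m => m.left) hp
    obtain ⟨q, hq₁, hq₂⟩ := exists_lift_dbl U (D.obj j) p₁ p₂ hp'
    rw [← hq₁, ← hq₂]
    simp only [op_comp, Functor.map_comp_apply]
    rw [hxj₁₂]
  obtain ⟨y, hy, -⟩ := (Presieve.isSheafFor_singleton.mp (hstage j)) xj hcompat
  refine ⟨y, ?_, ?_⟩
  · change F.map (toU U (Over.mk gl)).op y = x
    rw [← hπU j, op_comp, Functor.map_comp_apply, hy, hxj]
  · intro y' hy'
    have hy'' : F.map (toU U (Over.mk gl)).op y' = x := hy'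
    have h3 : F.map (c₁.π.app j).op (F.map (toU U (D.obj j)).op y') =
        F.map (c₁.π.app j).op (F.map (toU U (D.obj j)).op y) := by
      simp only [← Functor.map_comp_apply, ← op_comp]
      rw [hπU j, hy'']
      rw [← hxj, ← hy]
      simp only [← Functor.map_comp_apply, ← op_comp]
      rw [hπU j]
    obtain ⟨k, s, hs⟩ := colim_inj F D₁ c₁ hcol₁ j _ _ h3
    have h4 : F.map (toU U (D.obj k)).op y' = F.map (toU U (D.obj k)).op y := by
      have hk : D₁.map s ≫ toU U (D.obj j) = toU U (D.obj k) := map_toU U (D.map s)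
      simp only [← Functor.map_comp_apply, ← op_comp] at hs
      rw [hk] at hs
      exact hs
    exact (Presieve.isSeparatedFor_singleton.mp (hstage k).isSeparatedFor) h4

end Groth.Agent.Lib.Helper14.VOver
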