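import Groth.Agent.Lib.Helper14.VOver4
import Groth.Agent.S7469

/-!
# V sheaves over a base: assembling the sheaf property for all V coverings (helper14)
-/

set_option autoImplicit false

universe w' w v u

namespace Groth.Agent.Lib.Helper14.VOver

open CategoryTheory CategoryTheory.Limits AlgebraicGeometry HTop Opposite TopologicalSpace
open Groth.Agent.Lib.Lead

variable {S : Scheme.{u}}

theorem presieve₀_liftFam_singleton (X : Over S) {V : Scheme.{u}} (g : V ⟶ X.left) :
    (liftFam X (PreZeroHypercover.singleton.{w'} g)).presieve₀ =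
      Presieve.singleton (toU X (Over.mk g)) := by
  change Presieve.ofArrows (fun _ : PUnit.{w' + 1} => (Over.map X.hom).obj (Over.mk g))
    (fun _ => toU X (Over.mk g)) = _
  exact Presieve.ofArrows_pUnit.{w'} (f := toU X (Over.mk g))

theorem presieve₀_liftFam_singleton_pullback₁ {X Y : Over S} (k : Y ⟶ X) {V : Scheme.{u}}
    (g : V ⟶ X.left) :
    (liftFam Y ((PreZeroHypercover.singleton.{w'} g).pullback₁ k.left)).presieve₀ =
      Presieve.singleton (toU Y (Over.mk (pullback.fst k.left g))) := by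
  change Presieve.ofArrows
    (fun _ : PUnit.{w' + 1} => (Over.map Y.hom).obj (Over.mk (pullback.fst k.left g)))
    (fun _ => toU Y (Over.mk (pullback.fst k.left g))) = _
  exact Presieve.ofArrows_pUnit.{w'} (f := toU Y (Over.mk (pullback.fst k.left g)))

variable {F : (Over S)ᵒᵖ ⥤ Type w} (h1 : IsHSheafOver S F)
  (h2 : ∀ (I : Type u) [SmallCategory I] [IsCofiltered I] (D : I ⥤ Over S),
    (∀ i, IsAffine (D.obj i).left) → ∀ (c : Cone D), IsLimit ((Over.forget S).mapCone c) →
      Nonempty (IsColimit (F.mapCocone c.op)))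

include h1 h2 in
/-- A one-member standard V covering of affine schemes generates a covering sieve for the
finest topology. -/
theorem generate_singleton_mem_JF (U : Over S) [IsAffine U.left] {Vl : Scheme.{u}} [IsAffine Vl]
    (gl : Vl ⟶ U.left) (hg : IsStandardV (PreZeroHypercover.singleton.{0} gl)) :
    Sieve.generate (Presieve.singleton (toU U (Over.mk gl))) ∈ JF F U := by
  apply mem_JF_of_forall_affine h1
  intro Y hY k
  rw [← presieve₀_liftFam_singleton.{0}, pullback_generate_liftFam,
    presieve₀_liftFam_singleton_pullback₁, ← Presieve.isSheafFor_iff_generate]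
  have hpb := Groth.Agent.S7469.result k.left _ hg
  have : IsAffine (pullback k.left gl) := hpb.isAffine_obj PUnit.unit
  refine isSheafFor_toU_of_limitPreserving h1 h2 Y (pullback.fst k.left gl) ?_
  exact ⟨hpb.isAffine, hpb.finite_index, hpb.isAffine_obj, hpb.lift⟩

include h1 in
/-- Membership in the finest topology can be checked on the affine opens. -/
theorem mem_JF_of_forall_affineOpen (X : Over S) (R : Sieve X)
    (h : ∀ a : X.left.affineOpens, R.pullback (opι X (a : X.left.Opens)) ∈
      JF F (opOb X (a : X.left.Opens))) : R ∈ JF F X := by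
  refine (JF F).transitive (affOneHyper h1 X).mem₀ R ?_
  rintro T f ⟨Z, b, c, ⟨a⟩, rfl⟩
  let a₀ : (affOne X).I₀ := a
  let a' : X.left.affineOpens := a₀
  let b' : T ⟶ opOb X (a' : X.left.Opens) := b
  change R.pullback (b' ≫ opι X (a' : X.left.Opens)) ∈ JF F T
  rw [Sieve.pullback_comp]
  exact (JF F).pullback_stable b' (h a')

include h1 h2 in
/-- A standard V covering of an affine scheme over `S` generates a covering sieve for the
finest topology. -/
theorem generate_liftFam_mem_JF_of_isStandardV (U : Over S) [IsAffine U.left]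
    (G : PreZeroHypercover.{0} U.left) (hG : IsStandardV G) :
    Sieve.generate (liftFam U G).presieve₀ ∈ JF F U := by
  have := hG.finite_index
  obtain ⟨n, e, he⟩ := exists_reindex_fin G
  let e' : ULift.{u} (Fin n) → G.I₀ := fun k => e k.down
  have he' : Function.Surjective e' := fun j => by
    obtain ⟨k, hk⟩ := he j
    exact ⟨⟨k⟩, hk⟩
  let G' : PreZeroHypercover.{u} U.left := reindexFamily G e'
  have hG' : IsStandardV G' := isStandardV_reindexFamily G hG e' he'
  have hfin : Finite G'.I₀ := hG'.finite_index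
  have haffG' : ∀ j, IsAffine (G'.X j) := hG'.isAffine_obj
  let Vl : Scheme.{u} := ∐ G'.X
  have hVl : IsAffine Vl := inferInstanceAs (IsAffine (∐ G'.X))
  let gl : Vl ⟶ U.left := Sigma.desc G'.f
  have hgl : IsStandardV (PreZeroHypercover.singleton.{0} gl) :=
    isStandardV_singleton_sigmaDesc G' hG'
  have hT₀ := generate_singleton_mem_JF h1 h2 U gl hgl
  refine (JF F).transitive hT₀ _ ?_
  rintro T f ⟨Z, b, c, ⟨⟩, rfl⟩
  rw [Sieve.pullback_comp]
  refine (JF F).pullback_stable b ?_
  -- the pullback to the coproduct contains the Zariski covering by the summands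
  apply mem_JF_of_forall_open h1
  intro x
  obtain ⟨y, hy⟩ := (sigmaOpenCover G'.X).covers x
  let j : G'.I₀ := (sigmaOpenCover G'.X).idx x
  let Uo : Vl.Opens := (Sigma.ι G'.X j).opensRange
  refine ⟨Uo, ⟨y, hy⟩, ?_⟩
  let iso : G'.X j ≅ Uo.toScheme := (Sigma.ι G'.X j).isoOpensRange
  have hiso : iso.inv ≫ Sigma.ι G'.X j = Uo.ι := (Sigma.ι G'.X j).isoOpensRange_inv_comp
  have hdesc : Sigma.ι G'.X j ≫ gl = G.f (e' j) := Sigma.ι_desc _ _
  have hw : iso.inv ≫ (G.f (e' j) ≫ U.hom) = Uo.ι ≫ (gl ≫ U.hom) := by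
    rw [← hiso, Category.assoc, ← hdesc, Category.assoc]
  let b₀ : opOb ((Over.map U.hom).obj (Over.mk gl)) Uo ⟶ Over.mk (G.f (e' j) ≫ U.hom) :=
    Over.homMk iso.inv hw
  refine ⟨_, b₀, (liftFam U G).f (e' j), ⟨e' j⟩, ?_⟩
  ext
  change iso.inv ≫ G.f (e' j) = Uo.ι ≫ gl
  rw [← hiso, Category.assoc, hdesc]

include h1 h2 in
/-- A limit preserving h-sheaf over `S` is a V-sheaf over `S`. -/
theorem isVSheafOver : IsVSheafOver S F := by
  intro X R hR
  obtain ⟨E, hE, hEq⟩ := PreZeroHypercoverFamily.mem_precoverage_iff.mp hR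
  have hE' : IsVCover E := hE
  rw [Presieve.isSheafFor_iff_generate]
  suffices hmem : Sieve.generate R ∈ JF F X by
    have := hmem X (𝟙 X)
    rwa [Sieve.pullback_id] at this
  apply mem_JF_of_forall_affineOpen h1
  intro a
  obtain ⟨G, hG, href⟩ := hE' a
  have haff : IsAffine (opOb X (a : X.left.Opens)).left := a.2
  refine (JF F).superset_covering ?_
    (generate_liftFam_mem_JF_of_isStandardV h1 h2 (opOb X (a : X.left.Opens)) G hG)
  rw [Sieve.generate_le_iff]
  rintro _ _ ⟨j⟩
  obtain ⟨i, h, hh⟩ := href j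
  have hmem : (R.map (Over.forget S)) (E.f i) := by
    rw [hEq]
    exact ⟨i⟩
  obtain ⟨Z, hZ, u, hu, huE⟩ := Presieve.map_iff.mp hmem
  have hZ' : Z.left = E.X i := hZ
  have huE' : u.left = eqToHom hZ' ≫ E.f i := huE
  have hZhom : Z.hom = u.left ≫ X.hom := (Over.w u).symm
  have hw : (h ≫ eqToHom hZ'.symm) ≫ Z.hom = G.f j ≫ ((a : X.left.Opens).ι ≫ X.hom) := by
    rw [hZhom, huE']
    simp only [Category.assoc, eqToHom_trans_assoc, eqToHom_refl, Category.id_comp]
    rw [← Category.assoc, hh, Category.assoc]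
  let b₀ : Over.mk (G.f j ≫ ((a : X.left.Opens).ι ≫ X.hom)) ⟶ Z :=
    Over.homMk (h ≫ eqToHom hZ'.symm) hw
  refine ⟨Z, b₀, u, hu, ?_⟩
  ext
  change (h ≫ eqToHom hZ'.symm) ≫ u.left = G.f j ≫ (a : X.left.Opens).ι
  rw [huE']
  simp only [Category.assoc, eqToHom_trans_assoc, eqToHom_refl, Category.id_comp]
  exact hh

end Groth.Agent.Lib.Helper14.VOver
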