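import Groth.Agent.Lib.Helper14.FpqcBase2
import Groth.Agent.Lib.Helper14.AlgSpProper
import Groth.Agent.Lib.Helper24.OpenSubSp

universe u
open CategoryTheory CategoryTheory.Limits AlgebraicGeometry Opposite Topology

namespace Groth.Agent.Lib.Helper14.AS
open AlgSp
open Groth.Agent.Lib.Helper24.OpenSubSp

variable {S : Scheme.{u}}

theorem isOpenImmersion_le_etale' :
    (@IsOpenImmersion : MorphismProperty Scheme.{u}) ≤ @Etale :=
  fun _ _ _ h => by have := h; infer_instance

set_option backward.isDefEq.respectTransparency.types false in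
/-- (1) ⇒ (2). -/
theorem veryReasonable_one_two {X : Sp S} {ι : Type u} (Xi : ι → Sp S) (j : ∀ i, Xi i ⟶ X)
    (U : ι → Over S) (a : ∀ i, (yon S).obj (U i) ⟶ Xi i)
    (hcov : IsZarCover Xi j)
    (ha : ∀ i, RepWith @Etale (a i) ∧ RepWith @Surjective (a i) ∧ RepWith @QuasiCompact (a i)) :
    (∀ i, RepWith @Etale (a i ≫ j i)) ∧
      (∀ x : Points X, ∃ (i : ι) (v : ↥(U i).left), Points.ofPt (a i ≫ j i) v = x) ∧
      ∀ (i : ι) (R : Over S) (s t : R ⟶ U i),
        IsPullback ((yon S).map t) ((yon S).map s) (a i ≫ j i) (a i ≫ j i) →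
        QuasiCompact s.left ∧ QuasiCompact t.left := by
  refine ⟨fun i => repWith_comp _ (ha i).1 (repWith_mono isOpenImmersion_le_etale' (hcov.1 i)),
    fun x => ?_, fun i R s t sq => ?_⟩
  · obtain ⟨i, z, rfl⟩ := hcov.2 x
    obtain ⟨v, rfl⟩ := ofPt_surjective_of_repWith (ha i).2.1 z
    exact ⟨i, v, (Points.map_ofPt _ _ _).symm⟩
  · haveI : Mono (j i) := mono_of_openImmersion (hcov.1 i)
    have sq' : IsPullback ((yon S).map t) ((yon S).map s) (a i) (a i) :=
      IsKernelPair.cancel_right_of_mono sq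
    exact ⟨(ha i).2.2.property _ _ _ sq', (ha i).2.2.property _ _ _ sq'.flip⟩

set_option backward.isDefEq.respectTransparency.types false in
/-- (2) ⇒ (1), one chart. -/
theorem veryReasonable_chart {X : Sp S} (hX : IsAlgSpace X) {U : Over S}
    (φ : (yon S).obj U ⟶ X) (hφ : RepWith @Etale φ)
    (hqc : ∀ (R : Over S) (s t : R ⟶ U),
      IsPullback ((yon S).map t) ((yon S).map s) φ φ → QuasiCompact s.left ∧ QuasiCompact t.left) :
    ∃ (Xi : Sp S) (j : Xi ⟶ X) (a : (yon S).obj U ⟶ Xi), IsAlgSpace Xi ∧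
      RepWith @IsOpenImmersion j ∧ a ≫ j = φ ∧
      Set.range (Points.map j) = Set.range (Points.ofPt φ) ∧
      RepWith @Etale a ∧ RepWith @Surjective a ∧ RepWith @QuasiCompact a := by
  obtain ⟨W, hWeq⟩ : ∃ W : Set (Points X), W = Set.range (Points.ofPt φ) := ⟨_, rfl⟩
  have hW : IsOpen W := hWeq ▸ (isOpenMap_ofPt φ hφ).isOpen_range
  have hj := repWith_openPred hW
  have hr := range_openPred hW
  have hXi := isAlgSpace_openPred hX hW
  obtain ⟨a, haj⟩ := exists_lift_yon_of_range_subset hj φ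
    (fun t => by rw [hr, hWeq]; exact ⟨t, rfl⟩)
  haveI : Mono (openPred W).ι := mono_of_openImmersion hj
  have sqa : IsPullback (𝟙 _) a φ (openPred W).ι := by
    refine ⟨⟨by rw [Category.id_comp, haj]⟩, ⟨PullbackCone.IsLimit.mk _ (fun c => c.fst)
      (fun c => Category.comp_id _) (fun c => ?_) (fun c m h1 _ => ?_)⟩⟩
    · rw [← cancel_mono (openPred W).ι, Category.assoc, haj]
      exact c.condition
    · rw [← h1, Category.comp_id]
  have hae : RepWith @Etale a := repWith_of_isPullback _ sqa hφ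
  have has : RepWith @Surjective a := by
    refine repWith_surjective_of_isSurjectiveMor hae.rep fun z => ?_
    have hz0 : Points.map (openPred W).ι z ∈ W := hr.subset ⟨z, rfl⟩
    have hz : Points.map (openPred W).ι z ∈ Set.range (Points.ofPt φ) := hWeq.subset hz0
    obtain ⟨v, hv⟩ := hz
    refine ⟨Points.schemeHomeo U v, ?_⟩
    apply (fieldInj_of_mono (openPred W).ι).injective_points
    rw [← hv, ← haj, ← Points.map_ofPt, Points.ofPt_eq_map_ofScheme a]
    rfl
  rw [← hWeq]
  refine ⟨_, _, a, hXi, hj, haj, hr, hae, has, ?_⟩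
  -- quasi-compactness by descent along the covering `a` itself
  have sqR := hφ.rep.isPullback φ
  obtain ⟨t, ht⟩ := (yon S).map_surjective (hφ.rep.fst φ)
  rw [← ht] at sqR
  obtain ⟨hs1, -⟩ := hqc _ _ _ sqR
  have sqR2 : IsPullback ((yon S).map t) ((yon S).map (hφ.rep.snd φ)) (a ≫ (openPred W).ι)
      (a ≫ (openPred W).ι) := by
    rw [haj]
    exact sqR
  have sqR' : IsPullback ((yon S).map t) ((yon S).map (hφ.rep.snd φ)) a a :=
    IsKernelPair.cancel_right_of_mono sqR2
  have hloc := isLocalOnBase_fpqc_isQuasiCompactMor (S := S)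
    (fun _ : PUnit.{u+1} => (yon S).obj U) (fun _ => a) hXi (fun _ => IsAlgSpace.yon_obj U)
    (isFpqcCover_of_atlas hXi a hae has) a (IsAlgSpace.yon_obj U)
    (fun _ => (yon S).obj (hφ.rep.pullback φ)) (fun _ => (yon S).map (hφ.rep.snd φ))
    (fun _ => (yon S).map t) (fun _ => IsAlgSpace.yon_obj _) (fun _ => sqR')
  refine repWith_quasiCompact_of_isQuasiCompactMor hae.rep (hloc.2 fun _ => ?_)
  exact isQuasiCompactMor_of_repWith ((repWith_yon_map_iff _ _).2 hs1)

end Groth.Agent.Lib.Helper14.AS
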