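import Groth.Agent.Lib.Helper14.UnrLocus
import Groth.Agent.Lib.Helper8.AlgSpOpenSub
import Groth.Agent.Lib.Helper8.AlgSpOpen
import Groth.Prelude.Def_AlgSp4

universe u
set_option linter.style.haveILetI false
set_option linter.unusedSectionVars false
open CategoryTheory CategoryTheory.Limits AlgebraicGeometry Opposite Topology

namespace Groth.Agent.Lib.Helper14.AS
open AlgSp

variable {S : Scheme.{u}}

set_option backward.isDefEq.respectTransparency.types false in
/-- the general "where `R` holds" open subspace of the base -/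
theorem where_of_locus {X Y Z : Space S} (f : X ⟶ Y) (p : X ⟶ Z) (q : Y ⟶ Z) (hc : f ≫ q = p)
    (hp2 : IsClosedMor p.hom) (R : ∀ ⦃X' Y' : Space S⦄, (X' ⟶ Y') → Prop)
    (O : Set (Points X.obj)) (hO : IsOpen O)
    (hR : ∀ (Y' X' : Space S) (gY : Y' ⟶ Y) (gX : X' ⟶ X) (f' : X' ⟶ Y'),
      IsPullback gX.hom f'.hom f.hom gY.hom →
        (R f' ↔ ∀ x' : Points X'.obj, Points.map gX.hom x' ∈ O)) :
    ∃ (W : Space S) (w : W ⟶ Z), RepWith @IsOpenImmersion w.hom ∧
      ∀ (Z' : Space S) (g : Z' ⟶ Z), (∃ k : Z' ⟶ W, k ≫ w = g) ↔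
        ∀ (Y' : Space S) (gY : Y' ⟶ Y) (q' : Y' ⟶ Z'), IsPullback gY.hom q'.hom q.hom g.hom →
          ∀ (X' : Space S) (gX : X' ⟶ X) (f' : X' ⟶ Y'),
            IsPullback gX.hom f'.hom f.hom gY.hom → R f' := by
  have hE : IsOpen (Points.map p.hom '' Oᶜ)ᶜ := (hp2 _ hO.isClosed_compl).isOpen_compl
  obtain ⟨W, w, hw, hrange⟩ := Groth.Agent.Lib.Helper8.AlgSpOpenSub.exists_openSubspace Z _ hE
  have hpc : p.hom = f.hom ≫ q.hom := by rw [← hc]; rfl
  refine ⟨W, w, hw, fun Z' g => ⟨?_, ?_⟩⟩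
  · rintro ⟨k, rfl⟩ Y' gY q' sqY X' gX f' sqX
    rw [hR Y' X' gY gX f' sqX]
    intro x'
    by_contra hx
    have h1 : Points.map w.hom (Points.map k.hom (Points.map q'.hom (Points.map f'.hom x'))) ∈
        Points.map p.hom '' Oᶜ := by
      refine ⟨Points.map gX.hom x', hx, ?_⟩
      rw [hpc, Points.map_comp, ← Points.map_comp gX.hom f.hom, sqX.w, Points.map_comp,
        ← Points.map_comp gY.hom q.hom, sqY.w, Points.map_comp,
        show (k ≫ w).hom = k.hom ≫ w.hom from rfl, Points.map_comp]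
    have h2 : Points.map w.hom (Points.map k.hom (Points.map q'.hom (Points.map f'.hom x'))) ∈
        Set.range (Points.map w.hom) := ⟨_, rfl⟩
    rw [hrange] at h2
    exact h2 h1
  · intro H
    have hsub : Set.range (Points.map g.hom) ⊆ Set.range (Points.map w.hom) := by
      rintro _ ⟨z', rfl⟩
      rw [hrange]
      rintro ⟨x, hx, hpx⟩
      have sqY := IsPullback.of_hasPullback q.hom g.hom
      have hY' : IsAlgSpace (pullback q.hom g.hom) :=
        isAlgSpace_of_isPullback (repDiag_of_isAlgSpace Z.2) Y.2 Z'.2 sqY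
      have sqX := IsPullback.of_hasPullback f.hom (pullback.fst q.hom g.hom)
      have hX' : IsAlgSpace (pullback f.hom (pullback.fst q.hom g.hom)) :=
        isAlgSpace_of_isPullback (repDiag_of_isAlgSpace Y.2) X.2 hY' sqX
      have big := sqX.paste_vert sqY
      obtain ⟨x', hx'1, -⟩ := points_exists_of_isPullback big x z'
        (by rw [← hpc]; exact hpx)
      have hRf := H ⟨_, hY'⟩ (ObjectProperty.homMk (pullback.fst q.hom g.hom))
        (ObjectProperty.homMk (pullback.snd q.hom g.hom)) sqY ⟨_, hX'⟩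
        (ObjectProperty.homMk (pullback.fst f.hom (pullback.fst q.hom g.hom)))
        (ObjectProperty.homMk (pullback.snd f.hom (pullback.fst q.hom g.hom))) sqX
      rw [hR _ _ _ _ _ sqX] at hRf
      have h3 : Points.map (pullback.fst f.hom (pullback.fst q.hom g.hom)) x' ∈ O := hRf x'
      rw [hx'1] at h3
      exact hx h3
    obtain ⟨k0, hk0⟩ := Groth.Agent.Lib.Helper8.AlgSpOpen.exists_factor_of_range_subset w.hom hw
      g.hom hsub
    exact ⟨ObjectProperty.homMk k0, ObjectProperty.hom_ext _ hk0⟩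


set_option backward.isDefEq.respectTransparency.types false in
theorem hasAtMor_near_of_locP {P : MorphismProperty Scheme.{u}} (hP : EtLocal P) {X Y : Sp S}
    (hX : IsAlgSpace X) (hY : IsAlgSpace Y) (f : X ⟶ Y) (hf : LocP P f) (x : Points X) :
    HasAtMor (Near P) f x := by
  obtain ⟨U, V, a, b, h, u, hae, hbe, comm, rfl⟩ := exists_chart_diagram_at hX hY f x
  exact ⟨U, V, a, b, h, u, hae, hbe, comm, rfl, ⊤, trivial,
    hP.etale_comp _ _ inferInstance (hf a b h hae hbe comm)⟩

set_option backward.isDefEq.respectTransparency.types false in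
theorem locP_of_forall_hasAtMor_near {P : MorphismProperty Scheme.{u}} [IsZariskiLocalAtSource P]
    (hP : EtLocal P) {X Y : Sp S} (f : X ⟶ Y) (H : ∀ x, HasAtMor (Near P) f x) : LocP P f := by
  intro U V a b h ha hb comm
  have key : ∀ u : U.left, Near P U.left V.left h.left u := fun u =>
    (hasAtMor_ofPt_iff (etSqInv_near hP) f a b h ha hb comm u).1 (H _)
  choose Wu hWu hPWu using key
  refine (IsZariskiLocalAtSource.iff_of_iSup_eq_top (P := P) Wu ?_).2 hPWu
  rw [eq_top_iff]
  intro u _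
  exact TopologicalSpace.Opens.mem_iSup.2 ⟨u, hWu u⟩

set_option backward.isDefEq.respectTransparency.types false in
theorem where_unramified_sp {X Y Z : Space S} (f : X ⟶ Y) (p : X ⟶ Z) (q : Y ⟶ Z) (hc : f ≫ q = p)
    (hp1 : LocP @LocallyOfFiniteType p.hom) (hp2 : IsClosedMor p.hom) :
    ∃ (W : Space S) (w : W ⟶ Z), RepWith @IsOpenImmersion w.hom ∧
      ∀ (Z' : Space S) (g : Z' ⟶ Z), (∃ k : Z' ⟶ W, k ≫ w = g) ↔
        ∀ (Y' : Space S) (gY : Y' ⟶ Y) (q' : Y' ⟶ Z'), IsPullback gY.hom q'.hom q.hom g.hom →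
          ∀ (X' : Space S) (gX : X' ⟶ X) (f' : X' ⟶ Y'),
            IsPullback gX.hom f'.hom f.hom gY.hom →
              LocP (@LocallyOfFiniteType ⊓ @FormallyUnramified) f'.hom := by
  have hf : LocP @LocallyOfFiniteType f.hom :=
    locP_lft_of_comp Z.2 f.hom q.hom (by rw [← hc] at hp1; exact hp1)
  refine where_of_locus f p q hc hp2
    (fun X' Y' f' => LocP (@LocallyOfFiniteType ⊓ @FormallyUnramified) f'.hom)
    {x | HasAtMor (Near (@LocallyOfFiniteType ⊓ @FormallyUnramified)) f.hom x}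
    (isOpen_hasAtMor_near etLocal_lft_fu X.2 Y.2 f.hom) ?_
  intro Y' X' gY gX f' sq
  constructor
  · intro hf' x'
    exact (hasAtMor_unr_baseChange_iff X.2 Y.2 Y'.2 f.hom gY.hom gX.hom f'.hom sq hf x').1
      (hasAtMor_near_of_locP etLocal_lft_fu X'.2 Y'.2 f'.hom hf' x')
  · intro H
    exact locP_of_forall_hasAtMor_near etLocal_lft_fu f'.hom fun x' =>
      (hasAtMor_unr_baseChange_iff X.2 Y.2 Y'.2 f.hom gY.hom gX.hom f'.hom sq hf x').2 (H x')

end Groth.Agent.Lib.Helper14.AS
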