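import Groth.Agent.Lib.Helper29.AB4
import Groth.Agent.Lib.Helper29.IntegInv

set_option autoImplicit false
universe u
open CategoryTheory CategoryTheory.Limits AlgebraicGeometry TopologicalSpace Opposite

namespace Groth.Agent.Lib.Helper14.YBl

open Groth.Agent.Lib.Helper29.QCoh

variable {X Y : Scheme.{u}}

theorem genLocus_eq_top_of_isIso {L : X.Modules} (s : unitM X ⟶ L) [IsIso s] :
    CohB1.genLocus L s = ⊤ := by
  refine le_antisymm le_top (le_sSup ?_)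
  change IsIso ((Scheme.Modules.restrictFunctor (⊤ : X.Opens).ι).map s)
  infer_instance

theorem isIso_of_genLocus_eq_top {L : X.Modules} (s : unitM X ⟶ L)
    (h : CohB1.genLocus L s = ⊤) : IsIso s := by
  have h1 := isIso_restrict_of_le_genLocus s (U := ⊤) (le_of_eq h.symm)
  rw [isIso_restrict_iff] at h1
  exact (isIso_iff_app_bijective s).mpr (fun W => h1 W le_top)

/-- For a section `s` of an invertible module `L` on `Y` and `f : X ⟶ Y`, the pullback `f^* s` is an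
isomorphism iff `f` maps into the locus `Y_s`. -/
theorem isIso_pullback_map_iff {L : Y.Modules} (hL : PicF.IsInvertible L) (f : X ⟶ Y)
    (s : unitM Y ⟶ L) :
    IsIso ((Scheme.Modules.pullback f).map s) ↔ f ⁻¹ᵁ CohB1.genLocus L s = ⊤ := by
  rw [← genLocus_pullHom f hL s]
  constructor
  · intro h
    haveI : IsIso (pullHom f s) := by unfold pullHom; infer_instance
    exact genLocus_eq_top_of_isIso _
  · intro h
    haveI := isIso_of_genLocus_eq_top _ h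
    have e : (Scheme.Modules.pullback f).map s = (pullbackUnitIso f).hom ≫ pullHom f s := by
      unfold pullHom; simp
    rw [e]; infer_instance

/-- Composition of Y-blow-ups: the ample module and its trivialising section. -/
theorem exists_relAmple_section_comp {Y X Xᵢ Xⱼ : Scheme.{u}} [CompactSpace X]
    (fᵢ : Y ⟶ Xᵢ) (gᵢ : Xᵢ ⟶ X) (fⱼ : Y ⟶ Xⱼ) (gᵢⱼ : Xⱼ ⟶ Xᵢ) [QuasiCompact gᵢ] [QuasiCompact gᵢⱼ]
    (hc : fⱼ ≫ gᵢⱼ = fᵢ)
    (Lᵢ : Xᵢ.Modules) (εᵢ : unitM Xᵢ ⟶ Lᵢ) (haᵢ : RelAmple.IsRelAmple gᵢ Lᵢ)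
    (hisoᵢ : IsIso ((Scheme.Modules.pullback fᵢ).map εᵢ))
    (Lⱼ : Xⱼ.Modules) (εⱼ : unitM Xⱼ ⟶ Lⱼ) (haⱼ : RelAmple.IsRelAmple gᵢⱼ Lⱼ)
    (hisoⱼ : IsIso ((Scheme.Modules.pullback fⱼ).map εⱼ)) :
    ∃ (L : Xⱼ.Modules) (ε : unitM Xⱼ ⟶ L),
      RelAmple.IsRelAmple (gᵢⱼ ≫ gᵢ) L ∧ IsIso ((Scheme.Modules.pullback fⱼ).map ε) := by
  have hLᵢ : PicF.IsInvertible Lᵢ := isInvertible_of_isRelAmple gᵢ haᵢ
  have hLⱼ : PicF.IsInvertible Lⱼ := isInvertible_of_isRelAmple gᵢⱼ haⱼ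
  obtain ⟨n₀, hn₀, hn⟩ := exists_isRelAmple_comp_tensor_pullback_pow gᵢⱼ gᵢ Lⱼ Lᵢ haⱼ haᵢ
  obtain ⟨m, rfl⟩ : ∃ m, n₀ = m + 1 := ⟨n₀ - 1, by omega⟩
  have hP : PicF.IsInvertible ((Scheme.Modules.pullback gᵢⱼ).obj (CohB1.tensorPow Lᵢ (m + 1))) :=
    isInvertible_pullback gᵢⱼ (isInvertible_tensorPow hLᵢ _)
  refine ⟨CohB1.tensorMod Lⱼ ((Scheme.Modules.pullback gᵢⱼ).obj (CohB1.tensorPow Lᵢ (m + 1))),
    SecTwist.tmulHom εⱼ (pullHom gᵢⱼ (SecTwist.powHom εᵢ (m + 1))), hn _ le_rfl, ?_⟩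
  rw [isIso_pullback_map_iff (isInvertible_tensorMod hLⱼ hP),
    genLocus_tmulHom hLⱼ hP, genLocus_pullHom gᵢⱼ (isInvertible_tensorPow hLᵢ _),
    genLocus_powHom hLᵢ]
  have h1 := (isIso_pullback_map_iff hLⱼ fⱼ εⱼ).mp hisoⱼ
  have h2 := (isIso_pullback_map_iff hLᵢ fᵢ εᵢ).mp hisoᵢ
  subst hc
  ext y
  simp only [Opens.coe_top, Set.mem_univ, iff_true]
  refine ⟨?_, ?_⟩
  · have : y ∈ fⱼ ⁻¹ᵁ CohB1.genLocus Lⱼ εⱼ := by rw [h1]; trivial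
    exact this
  · have : y ∈ (fⱼ ≫ gᵢⱼ) ⁻¹ᵁ CohB1.genLocus Lᵢ εᵢ := by rw [h2]; trivial
    exact this

end Groth.Agent.Lib.Helper14.YBl
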