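import Groth.Agent.Lib.Helper14.YBl1

set_option autoImplicit false
universe u
open CategoryTheory CategoryTheory.Limits AlgebraicGeometry TopologicalSpace Opposite

namespace Groth.Agent.Lib.Helper14.YBl

open Groth.Agent.Lib.Helper29.QCoh

theorem isSchemeTheoreticallyDominant_toImage {X Y : Scheme.{u}} (h : X ⟶ Y) [QuasiCompact h] :
    IsSchemeTheoreticallyDominant h.toImage := by
  constructor
  have hcov : ⨆ U : Y.affineOpens, (h.imageι ⁻¹ᵁ U.1) = ⊤ := by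
    rw [← Scheme.Hom.preimage_iSup, iSup_affineOpens_eq_top]
    rfl
  refine Scheme.IdealSheafData.ext_of_iSup_eq_top
    (fun U : Y.affineOpens => ⟨h.imageι ⁻¹ᵁ U.1, U.2.preimage h.imageι⟩) hcov ?_
  intro U
  rw [Scheme.Hom.ker_apply]
  simp only [Scheme.IdealSheafData.ideal_bot, Pi.bot_apply]
  exact (RingHom.injective_iff_ker_eq_bot _).mp (h.toImage_app_injective U)

/-- Two Y-blow-ups are dominated by a common one: the scheme-theoretic image of `Y` in the fibre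
product. -/
theorem exists_common_yBlowUp {X Y : Scheme.{u}} (f : Y ⟶ X)
    [CompactSpace X] [QuasiSeparatedSpace X] [CompactSpace Y]
    {X₁ X₂ : Scheme.{u}} (f₁ : Y ⟶ X₁) (g₁ : X₁ ⟶ X) (f₂ : Y ⟶ X₂) (g₂ : X₂ ⟶ X)
    [IsProper g₁] [IsProper g₂] (hc₁ : f₁ ≫ g₁ = f) (hc₂ : f₂ ≫ g₂ = f)
    (L₁ : X₁.Modules) (ε₁ : unitM X₁ ⟶ L₁) (ha₁ : RelAmple.IsRelAmple g₁ L₁)
    (hiso₁ : IsIso ((Scheme.Modules.pullback f₁).map ε₁))
    (L₂ : X₂.Modules) (ε₂ : unitM X₂ ⟶ L₂) (ha₂ : RelAmple.IsRelAmple g₂ L₂)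
    (hiso₂ : IsIso ((Scheme.Modules.pullback f₂).map ε₂)) :
    ∃ (X₃ : Scheme.{u}) (f₃ : Y ⟶ X₃) (g₃ : X₃ ⟶ X) (d₁ : X₃ ⟶ X₁) (d₂ : X₃ ⟶ X₂),
      (IsSchemeTheoreticallyDominant f₃ ∧ IsProper g₃ ∧ f₃ ≫ g₃ = f ∧
        ∃ (L : X₃.Modules) (ε : unitM X₃ ⟶ L),
          RelAmple.IsRelAmple g₃ L ∧ IsIso ((Scheme.Modules.pullback f₃).map ε)) ∧
      f₃ ≫ d₁ = f₁ ∧ d₁ ≫ g₁ = g₃ ∧ f₃ ≫ d₂ = f₂ ∧ d₂ ≫ g₂ = g₃ := by
  have hL₁ : PicF.IsInvertible L₁ := isInvertible_of_isRelAmple g₁ ha₁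
  have hL₂ : PicF.IsInvertible L₂ := isInvertible_of_isRelAmple g₂ ha₂
  -- the fibre product and the diagonal-type map
  obtain ⟨p₁, hp₁⟩ : ∃ p : pullback g₁ g₂ ⟶ X₁, p = pullback.fst g₁ g₂ := ⟨_, rfl⟩
  obtain ⟨p₂, hp₂⟩ : ∃ p : pullback g₁ g₂ ⟶ X₂, p = pullback.snd g₁ g₂ := ⟨_, rfl⟩
  have hcond : p₁ ≫ g₁ = p₂ ≫ g₂ := by rw [hp₁, hp₂]; exact pullback.condition
  haveI : IsProper p₂ := by rw [hp₂]; infer_instance
  obtain ⟨h, hh₁, hh₂⟩ : ∃ h : Y ⟶ pullback g₁ g₂, h ≫ p₁ = f₁ ∧ h ≫ p₂ = f₂ :=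
    ⟨pullback.lift f₁ f₂ (by rw [hc₁, hc₂]), by rw [hp₁]; exact pullback.lift_fst _ _ _,
      by rw [hp₂]; exact pullback.lift_snd _ _ _⟩
  -- the ample module on the fibre product
  have hb : RelAmple.IsRelAmple p₂ ((Scheme.Modules.pullback p₁).obj L₁) := by
    rw [hp₁, hp₂]; exact isRelAmple_baseChange g₁ g₂ ha₁
  obtain ⟨n₀, hn₀, hn⟩ := exists_isRelAmple_comp_tensor_pullback_pow p₂ g₂ _ L₂ hb ha₂
  obtain ⟨m, rfl⟩ : ∃ m, n₀ = m + 1 := ⟨n₀ - 1, by omega⟩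
  have hM := hn _ le_rfl
  have hP₁ : PicF.IsInvertible ((Scheme.Modules.pullback p₁).obj L₁) := isInvertible_pullback p₁ hL₁
  have hP₂ : PicF.IsInvertible ((Scheme.Modules.pullback p₂).obj (CohB1.tensorPow L₂ (m + 1))) :=
    isInvertible_pullback p₂ (isInvertible_tensorPow hL₂ _)
  obtain ⟨σ, hσ⟩ : ∃ σ : unitM (pullback g₁ g₂) ⟶ CohB1.tensorMod ((Scheme.Modules.pullback p₁).obj L₁)
      ((Scheme.Modules.pullback p₂).obj (CohB1.tensorPow L₂ (m + 1))),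
      σ = SecTwist.tmulHom (pullHom p₁ ε₁) (pullHom p₂ (SecTwist.powHom ε₂ (m + 1))) := ⟨_, rfl⟩
  have hgen : CohB1.genLocus _ σ = p₁ ⁻¹ᵁ CohB1.genLocus L₁ ε₁ ⊓ p₂ ⁻¹ᵁ CohB1.genLocus L₂ ε₂ := by
    rw [hσ, genLocus_tmulHom hP₁ hP₂, genLocus_pullHom p₁ hL₁,
      genLocus_pullHom p₂ (isInvertible_tensorPow hL₂ _), genLocus_powHom hL₂]
  -- the image
  haveI : QuasiSeparatedSpace X₂ := quasiSeparatedSpace_of_quasiSeparated g₂
  haveI : QuasiSeparatedSpace (pullback g₁ g₂ : Scheme.{u}) := quasiSeparatedSpace_of_quasiSeparated p₂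
  haveI : QuasiCompact h := inferInstance
  haveI hdom := isSchemeTheoreticallyDominant_toImage h
  have hfac : h.toImage ≫ h.imageι = h := h.toImage_imageι
  refine ⟨h.image, h.toImage, h.imageι ≫ p₂ ≫ g₂, h.imageι ≫ p₁, h.imageι ≫ p₂,
    ⟨hdom, inferInstance, ?_, ?_⟩, ?_, ?_, ?_, ?_⟩
  · rw [reassoc_of% hfac, reassoc_of% hh₂, hc₂]
  · refine ⟨(Scheme.Modules.pullback h.imageι).obj _, pullHom h.imageι σ, ?_, ?_⟩
    · exact isRelAmple_pullback_of_isEmbedding (p₂ ≫ g₂) h.imageι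
        h.imageι.isEmbedding hM
    · rw [isIso_pullback_map_iff (isInvertible_pullback _ (isInvertible_tensorMod hP₁ hP₂)),
        genLocus_pullHom _ (isInvertible_tensorMod hP₁ hP₂), hgen]
      have h1 := (isIso_pullback_map_iff hL₁ f₁ ε₁).mp hiso₁
      have h2 := (isIso_pullback_map_iff hL₂ f₂ ε₂).mp hiso₂
      ext y
      simp only [Opens.coe_top, Set.mem_univ, iff_true]
      have e1 : p₁ (h.imageι (h.toImage y)) = f₁ y := by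
        rw [← Scheme.Hom.comp_apply, ← Scheme.Hom.comp_apply, reassoc_of% hfac, hh₁]
      have e2 : p₂ (h.imageι (h.toImage y)) = f₂ y := by
        rw [← Scheme.Hom.comp_apply, ← Scheme.Hom.comp_apply, reassoc_of% hfac, hh₂]
      refine ⟨?_, ?_⟩
      · change p₁ (h.imageι (h.toImage y)) ∈ CohB1.genLocus L₁ ε₁
        rw [e1]
        have : y ∈ f₁ ⁻¹ᵁ CohB1.genLocus L₁ ε₁ := by rw [h1]; trivial
        exact this
      · change p₂ (h.imageι (h.toImage y)) ∈ CohB1.genLocus L₂ ε₂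
        rw [e2]
        have : y ∈ f₂ ⁻¹ᵁ CohB1.genLocus L₂ ε₂ := by rw [h2]; trivial
        exact this
  · rw [reassoc_of% hfac, hh₁]
  · rw [Category.assoc, hcond]
  · rw [reassoc_of% hfac, hh₂]
  · rw [Category.assoc]

end Groth.Agent.Lib.Helper14.YBl
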