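import Groth.Agent.Lib.Helper14.Norm10
import Groth.Agent.Lib.Helper14.EtSplit
import Groth.Agent.Lib.Helper8.AlgSpOpen
import Groth.Agent.Lib.Helper8.AlgSpOpenSub

/-!
# Gluing morphisms along a clopen decomposition of an algebraic space (helper14)
-/

universe u
open CategoryTheory CategoryTheory.Limits AlgebraicGeometry Opposite
open AlgSp

namespace Groth.Agent.Lib.Helper14.AS

variable {S : Scheme.{u}}

/-- For an open immersion `j : Z ⟶ X` of algebraic spaces and a `T`-point `y` of `X`, the locus of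
`T` where `y` lands in `Z` is open and `y` restricted to it factors through `j`. -/
theorem exists_factor_openSub_of_mem_range {X Z : Sp S} (hX : IsAlgSpace X) (hZ : IsAlgSpace Z)
    (j : Z ⟶ X) (hj : RepWith @IsOpenImmersion j) {T : Over S} (y : (yon S).obj T ⟶ X) (τ : ↥T.left)
    (hτ : Points.ofPt y τ ∈ Set.range (Points.map j)) :
    ∃ (U : T.left.Opens) (y₁ : (yon S).obj (openSub T U) ⟶ Z), τ ∈ U ∧
      y₁ ≫ j = (yon S).map (openSubι T U) ≫ y := by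
  have hopen : IsOpen (Set.range (Points.map j)) :=
    (isOpenMap_points_of_isEtaleMor hZ hX (isEtaleMor_of_repWith_isOpenImmersion hj)).isOpen_range
  let U : T.left.Opens := ⟨Points.ofPt y ⁻¹' Set.range (Points.map j), Points.isOpen_iff.mp hopen T y⟩
  obtain ⟨y₁, hy₁⟩ := Groth.Agent.Lib.Helper8.AlgSpOpen.exists_factor_of_range_subset j hj
    ((yon S).map (openSubι T U) ≫ y) (by
      rintro _ ⟨p, rfl⟩
      obtain ⟨t, rfl⟩ := (Points.schemeHomeo (openSub T U)).surjective p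
      change Points.map _ (Points.ofPt (𝟙 _) t) ∈ _
      rw [Points.map_ofPt, Category.id_comp, ofPt_yon_map_comp]
      exact t.2)
  exact ⟨U, y₁, hτ, hy₁⟩

/-- Morphisms out of an algebraic space agreeing on two open subspaces covering it are equal. -/
theorem hom_ext_of_open_cover₂ {X Z₁ Z₂ G : Sp S} (hX : IsAlgSpace X) (hZ₁ : IsAlgSpace Z₁)
    (hZ₂ : IsAlgSpace Z₂) (j₁ : Z₁ ⟶ X) (j₂ : Z₂ ⟶ X)
    (h₁ : RepWith @IsOpenImmersion j₁) (h₂ : RepWith @IsOpenImmersion j₂)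
    (hcov : ∀ x : Points X, x ∈ Set.range (Points.map j₁) ∨ x ∈ Set.range (Points.map j₂))
    (g g' : X ⟶ G) (e₁ : j₁ ≫ g = j₁ ≫ g') (e₂ : j₂ ≫ g = j₂ ≫ g') : g = g' := by
  refine sp_hom_ext_of_local g g' fun T y => ?_
  let Sv : Sieve T :=
    { arrows := fun W w => (yon S).map w ≫ y ≫ g = (yon S).map w ≫ y ≫ g'
      downward_closed := fun {W W'} w hw k => by
        show (yon S).map (k ≫ w) ≫ y ≫ g = (yon S).map (k ≫ w) ≫ y ≫ g'
        rw [Functor.map_comp, Category.assoc, hw, Category.assoc] }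
  refine ⟨Sv, mem_J_of_open_nhds Sv fun τ => ?_, fun W w hw => hw⟩
  rcases hcov (Points.ofPt y τ) with hτ | hτ
  · obtain ⟨U, y₁, hU, hy₁⟩ := exists_factor_openSub_of_mem_range hX hZ₁ j₁ h₁ y τ hτ
    refine ⟨U, hU, ?_⟩
    show (yon S).map (openSubι T U) ≫ y ≫ g = (yon S).map (openSubι T U) ≫ y ≫ g'
    rw [← Category.assoc, ← hy₁, Category.assoc, e₁, ← Category.assoc, hy₁, Category.assoc]
  · obtain ⟨U, y₁, hU, hy₁⟩ := exists_factor_openSub_of_mem_range hX hZ₂ j₂ h₂ y τ hτ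
    refine ⟨U, hU, ?_⟩
    show (yon S).map (openSubι T U) ≫ y ≫ g = (yon S).map (openSubι T U) ≫ y ≫ g'
    rw [← Category.assoc, ← hy₁, Category.assoc, e₂, ← Category.assoc, hy₁, Category.assoc]

/-- Gluing of morphisms along a decomposition of an algebraic space into two disjoint open
subspaces. -/
theorem exists_glue_clopen {X Z₁ Z₂ G : Sp S} (hX : IsAlgSpace X) (hZ₁ : IsAlgSpace Z₁)
    (hZ₂ : IsAlgSpace Z₂) (j₁ : Z₁ ⟶ X) (j₂ : Z₂ ⟶ X)
    (h₁ : RepWith @IsOpenImmersion j₁) (h₂ : RepWith @IsOpenImmersion j₂)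
    (hcov : ∀ x : Points X, x ∈ Set.range (Points.map j₁) ∨ x ∈ Set.range (Points.map j₂))
    (hdisj : Disjoint (Set.range (Points.map j₁)) (Set.range (Points.map j₂)))
    (g₁ : Z₁ ⟶ G) (g₂ : Z₂ ⟶ G) : ∃ g : X ⟶ G, j₁ ≫ g = g₁ ∧ j₂ ≫ g = g₂ := by
  have m₁ : Mono j₁ := mono_of_openImmersion h₁
  have m₂ : Mono j₂ := mono_of_openImmersion h₂
  let L : ∀ ⦃T : Over S⦄, ((yon S).obj T ⟶ X) → ((yon S).obj T ⟶ G) → Prop := fun T y z =>
    (∃ y₁ : (yon S).obj T ⟶ Z₁, y₁ ≫ j₁ = y ∧ y₁ ≫ g₁ = z) ∨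
      (∃ y₂ : (yon S).obj T ⟶ Z₂, y₂ ≫ j₂ = y ∧ y₂ ≫ g₂ = z)
  have hempty : ∀ ⦃T : Over S⦄ (y₁ : (yon S).obj T ⟶ Z₁) (y₂ : (yon S).obj T ⟶ Z₂),
      y₁ ≫ j₁ = y₂ ≫ j₂ → ∀ z z' : (yon S).obj T ⟶ G, z = z' := by
    intro T y₁ y₂ he z z'
    refine yon_hom_ext_of_open_nhds z z' fun τ => ?_
    exfalso
    have a₁ : Points.ofPt (y₁ ≫ j₁) τ ∈ Set.range (Points.map j₁) :=
      ⟨Points.ofPt y₁ τ, Points.map_ofPt _ _ _⟩
    have a₂ : Points.ofPt (y₁ ≫ j₁) τ ∈ Set.range (Points.map j₂) := by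
      rw [he]
      exact ⟨Points.ofPt y₂ τ, Points.map_ofPt _ _ _⟩
    exact Set.disjoint_left.1 hdisj a₁ a₂
  obtain ⟨g, hg⟩ := exists_hom_of_local (F := X) (G := G) L
    (by
      rintro T T' k y z (⟨y₁, e1, e2⟩ | ⟨y₂, e1, e2⟩)
      · exact Or.inl ⟨(yon S).map k ≫ y₁, by rw [Category.assoc, e1], by rw [Category.assoc, e2]⟩
      · exact Or.inr ⟨(yon S).map k ≫ y₂, by rw [Category.assoc, e1], by rw [Category.assoc, e2]⟩)
    (by
      rintro T y z z' (⟨y₁, e1, e2⟩ | ⟨y₂, e1, e2⟩) (⟨y₁', e1', e2'⟩ | ⟨y₂', e1', e2'⟩)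
      · have : y₁ = y₁' := by rw [← cancel_mono j₁, e1, e1']
        rw [← e2, ← e2', this]
      · exact hempty y₁ y₂' (by rw [e1, e1']) z z'
      · exact hempty y₁' y₂ (by rw [e1, e1']) z z'
      · have : y₂ = y₂' := by rw [← cancel_mono j₂, e1, e1']
        rw [← e2, ← e2', this])
    (by
      intro T y
      let Sv : Sieve T :=
        { arrows := fun W w => ∃ z, L ((yon S).map w ≫ y) z
          downward_closed := fun {W W'} w hw k => by
            obtain ⟨z, hz⟩ := hw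
            refine ⟨(yon S).map k ≫ z, ?_⟩
            rw [Functor.map_comp, Category.assoc]
            rcases hz with ⟨y₁, e1, e2⟩ | ⟨y₂, e1, e2⟩
            · exact Or.inl ⟨(yon S).map k ≫ y₁, by rw [Category.assoc, e1],
                by rw [Category.assoc, e2]⟩
            · exact Or.inr ⟨(yon S).map k ≫ y₂, by rw [Category.assoc, e1],
                by rw [Category.assoc, e2]⟩ }
      refine ⟨Sv, mem_J_of_open_nhds Sv fun τ => ?_, fun W w hw => hw⟩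
      rcases hcov (Points.ofPt y τ) with hτ | hτ
      · obtain ⟨U, y₁, hU, hy₁⟩ := exists_factor_openSub_of_mem_range hX hZ₁ j₁ h₁ y τ hτ
        exact ⟨U, hU, y₁ ≫ g₁, Or.inl ⟨y₁, hy₁, rfl⟩⟩
      · obtain ⟨U, y₂, hU, hy₂⟩ := exists_factor_openSub_of_mem_range hX hZ₂ j₂ h₂ y τ hτ
        exact ⟨U, hU, y₂ ≫ g₂, Or.inr ⟨y₂, hy₂, rfl⟩⟩)
  refine ⟨g, ?_, ?_⟩
  · refine sp_hom_ext_of_local _ _ fun T y => ⟨⊤, (J S).top_mem T, fun W w _ => ?_⟩
    have := hg ((yon S).map w ≫ y ≫ j₁) ((yon S).map w ≫ y ≫ g₁)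
      (Or.inl ⟨(yon S).map w ≫ y, by rw [Category.assoc], by rw [Category.assoc]⟩)
    rw [← this, Category.assoc, Category.assoc]
  · refine sp_hom_ext_of_local _ _ fun T y => ⟨⊤, (J S).top_mem T, fun W w _ => ?_⟩
    have := hg ((yon S).map w ≫ y ≫ j₂) ((yon S).map w ≫ y ≫ g₂)
      (Or.inr ⟨(yon S).map w ≫ y, by rw [Category.assoc], by rw [Category.assoc]⟩)
    rw [← this, Category.assoc, Category.assoc]

end Groth.Agent.Lib.Helper14.AS
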