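import Groth.Agent.Lib.Helper14.Zmt1

/-!
# A clopen integral piece splits off the relative normalization (helper14)
-/

universe u
open CategoryTheory CategoryTheory.Limits AlgebraicGeometry Opposite
open AlgSp

namespace Groth.Agent.Lib.Helper14.AS

variable {S : Scheme.{u}}

theorem points_yon_map_mem_range {T T' : Over S} (φ : T ⟶ T') (p : Points ((yon S).obj T)) :
    ∃ t : ↥T.left, p = Points.schemeHomeo T t ∧
      Points.map ((yon S).map φ) p = Points.schemeHomeo T' (φ.left t) := by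
  obtain ⟨t, rfl⟩ := (Points.schemeHomeo T).surjective p
  exact ⟨t, rfl, Points.map_yon_map_apply φ t⟩

set_option backward.isDefEq.respectTransparency.types false in
/-- Let `N₁ ⟶ V₁` be the normalization of the scheme `V₁` in the algebraic space `X₁`, and let
`Z₀ ⟶ X₁` be an open and closed subspace, integral over `V₁`.  Then `Z₀` is the inverse image of
an open subscheme `U₁` of `N₁` and maps isomorphically onto it. -/
theorem exists_open_iso_of_clopen_integral {V₁ N₁ Z₀ : Over S} {X₁ : Sp S} (hX₁ : IsAlgSpace X₁)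
    (f₁ : X₁ ⟶ (yon S).obj V₁) (ν₁ : N₁ ⟶ V₁) (f₁' : X₁ ⟶ (yon S).obj N₁)
    (hn : IsRelNormalization f₁ ((yon S).map ν₁) f₁')
    (jZ : (yon S).obj Z₀ ⟶ X₁) (hjo : RepWith @IsOpenImmersion jZ)
    (hjc : RepWith @IsClosedImmersion jZ)
    (φ : Z₀ ⟶ V₁) (hφ : IsIntegralHom φ.left) (hφc : jZ ≫ f₁ = (yon S).map φ) :
    ∃ (U₁ : N₁.left.Opens) (ψ : Z₀ ⟶ openSub N₁ U₁), IsIso ψ ∧
      IsPullback jZ ((yon S).map ψ) f₁' ((yon S).map (openSubι N₁ U₁)) := by
  classical
  have hν₁ : IsIntegralHom ν₁.left := isIntegralHom_of_isRelNormalization_yon hn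
  have mZ : Mono jZ := mono_of_openImmersion hjo
  obtain ⟨ρ₀, hρ₀⟩ := (yon S).map_surjective (jZ ≫ f₁')
  have hρν : ρ₀ ≫ ν₁ = φ := (yon S).map_injective (by
    rw [Functor.map_comp, hρ₀, Category.assoc, hn.1, hφc])
  -- the complement of `Z₀`
  have hclosed : IsClosed (Set.range (Points.map jZ)) := by
    have h := isClosedMap_points_of_isUnivClosedMor hX₁
      (isProperMor_of_repWith_isClosedImmersion hjc).2.2
    rw [← Set.image_univ]
    exact h _ isClosed_univ
  obtain ⟨Zc, jc, hjc', hrc⟩ := Groth.Agent.Lib.Helper8.AlgSpOpenSub.exists_openSubspace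
    (⟨X₁, hX₁⟩ : Space S) (Set.range (Points.map jZ))ᶜ hclosed.isOpen_compl
  have hcov : ∀ x : Points X₁, x ∈ Set.range (Points.map jZ) ∨
      x ∈ Set.range (Points.map jc.hom) := by
    intro x
    by_cases hx : x ∈ Set.range (Points.map jZ)
    · exact Or.inl hx
    · exact Or.inr (by rw [hrc]; exact hx)
  have hdisj : Disjoint (Set.range (Points.map jZ)) (Set.range (Points.map jc.hom)) := by
    rw [hrc]
    exact disjoint_compl_right
  -- the coproduct
  let T : Over S := Over.mk (coprod.desc Z₀.hom N₁.hom)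
  let inl : Z₀ ⟶ T := Over.homMk coprod.inl (coprod.inl_desc _ _)
  let inr : N₁ ⟶ T := Over.homMk coprod.inr (coprod.inr_desc _ _)
  let πT : T ⟶ V₁ := Over.homMk (coprod.desc φ.left ν₁.left) (by
    apply coprod.hom_ext
    · rw [coprod.inl_desc_assoc, Over.w φ]
      exact (coprod.inl_desc _ _).symm
    · rw [coprod.inr_desc_assoc, Over.w ν₁]
      exact (coprod.inr_desc _ _).symm)
  let r : T ⟶ N₁ := Over.homMk (coprod.desc ρ₀.left (𝟙 _)) (by
    apply coprod.hom_ext
    · rw [coprod.inl_desc_assoc, Over.w ρ₀]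
      exact (coprod.inl_desc _ _).symm
    · rw [coprod.inr_desc_assoc, Category.id_comp]
      exact (coprod.inr_desc _ _).symm)
  have hinlπ : inl ≫ πT = φ := by
    ext
    exact coprod.inl_desc _ _
  have hinrπ : inr ≫ πT = ν₁ := by
    ext
    exact coprod.inr_desc _ _
  have hinlr : inl ≫ r = ρ₀ := by
    ext
    exact coprod.inl_desc _ _
  have hinrr : inr ≫ r = 𝟙 N₁ := by
    ext
    exact coprod.inr_desc _ _
  have hrν : r ≫ ν₁ = πT := by
    ext
    apply coprod.hom_ext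
    · change coprod.inl ≫ coprod.desc ρ₀.left (𝟙 _) ≫ ν₁.left = coprod.inl ≫ coprod.desc φ.left ν₁.left
      rw [coprod.inl_desc_assoc, coprod.inl_desc, ← hρν]
      rfl
    · change coprod.inr ≫ coprod.desc ρ₀.left (𝟙 _) ≫ ν₁.left = coprod.inr ≫ coprod.desc φ.left ν₁.left
      rw [coprod.inr_desc_assoc, coprod.inr_desc, Category.id_comp]
  have hπint : IsIntegralHom πT.left :=
    inferInstanceAs (IsIntegralHom (coprod.desc φ.left ν₁.left))
  have hπM : IsIntegralMor ((yon S).map πT) :=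
    (integral_finite_iff_repWith ((AlgSp.ofScheme S).map πT)).1.2
      ((repWith_yon_map_iff _ _).2 hπint)
  -- the glued map
  obtain ⟨g, hg1, hg2⟩ := exists_glue_clopen hX₁ (IsAlgSpace.yon_obj Z₀) Zc.2 jZ jc.hom hjo hjc'
    hcov hdisj ((yon S).map inl) (jc.hom ≫ f₁' ≫ (yon S).map inr)
  have hgπ : g ≫ (yon S).map πT = f₁ := by
    refine hom_ext_of_open_cover₂ hX₁ (IsAlgSpace.yon_obj Z₀) Zc.2 jZ jc.hom hjo hjc' hcov _ _ ?_ ?_
    · rw [← Category.assoc, hg1, ← Functor.map_comp, hinlπ, hφc]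
    · rw [← Category.assoc, hg2, Category.assoc, Category.assoc, ← Functor.map_comp, hinrπ, hn.1]
  obtain ⟨h, ⟨hh1, hh2⟩, -⟩ := hn.2.2 (IsAlgSpace.yon_obj T) ((yon S).map πT) g hπM hgπ
  obtain ⟨h₀, rfl⟩ := (yon S).map_surjective h
  have hh2' : h₀ ≫ πT = ν₁ := (yon S).map_injective (by rw [Functor.map_comp, hh2])
  -- retraction
  have hretr : h₀ ≫ r = 𝟙 N₁ := by
    apply (yon S).map_injective
    obtain ⟨k, -, huniq⟩ := hn.2.2 (IsAlgSpace.yon_obj N₁) ((yon S).map ν₁) f₁' hn.2.1 hn.1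
    rw [huniq ((yon S).map (h₀ ≫ r)) ⟨?_, ?_⟩,
      huniq ((yon S).map (𝟙 N₁)) ⟨by rw [CategoryTheory.Functor.map_id, Category.comp_id],
        by rw [CategoryTheory.Functor.map_id, Category.id_comp]⟩]
    · rw [Functor.map_comp, ← Category.assoc, hh1]
      refine hom_ext_of_open_cover₂ hX₁ (IsAlgSpace.yon_obj Z₀) Zc.2 jZ jc.hom hjo hjc' hcov _ _
        ?_ ?_
      · rw [← Category.assoc, hg1, ← Functor.map_comp, hinlr, hρ₀]
      · rw [← Category.assoc, hg2, Category.assoc, Category.assoc, ← Functor.map_comp, hinrr,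
          CategoryTheory.Functor.map_id, Category.comp_id]
    · rw [← Functor.map_comp, Category.assoc, hrν, hh2']
  have hρh : ρ₀ ≫ h₀ = inl := (yon S).map_injective (by
    rw [Functor.map_comp, hρ₀, Category.assoc, hh1, hg1])
  -- the open
  let U₁ : N₁.left.Opens := h₀.left ⁻¹ᵁ (coprod.inl : Z₀.left ⟶ Z₀.left ⨿ N₁.left).opensRange
  have hρU : Set.range ρ₀.left ⊆ Set.range U₁.ι := by
    rintro _ ⟨z, rfl⟩
    rw [Scheme.Opens.range_ι]
    change h₀.left (ρ₀.left z) ∈ Set.range (coprod.inl : Z₀.left ⟶ Z₀.left ⨿ N₁.left)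
    refine ⟨z, ?_⟩
    have := congrArg (fun k => k.left z) hρh
    exact this.symm
  let ψ₀ : Z₀.left ⟶ (U₁ : Scheme.{u}) := IsOpenImmersion.lift U₁.ι ρ₀.left hρU
  have hψ₀ : ψ₀ ≫ U₁.ι = ρ₀.left := IsOpenImmersion.lift_fac _ _ _
  let ψ : Z₀ ⟶ openSub N₁ U₁ := Over.homMk ψ₀ (by
    change ψ₀ ≫ U₁.ι ≫ N₁.hom = Z₀.hom
    rw [← Category.assoc, hψ₀, Over.w ρ₀])
  have hψι : ψ ≫ openSubι N₁ U₁ = ρ₀ := by
    ext
    exact hψ₀
  have hUh : Set.range (U₁.ι ≫ h₀.left) ⊆
      Set.range (coprod.inl : Z₀.left ⟶ Z₀.left ⨿ N₁.left) := by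
    rintro _ ⟨n, rfl⟩
    exact n.2
  let ψ₀' : (U₁ : Scheme.{u}) ⟶ Z₀.left :=
    IsOpenImmersion.lift (coprod.inl : Z₀.left ⟶ Z₀.left ⨿ N₁.left) (U₁.ι ≫ h₀.left) hUh
  have hψ₀' : ψ₀' ≫ (coprod.inl : Z₀.left ⟶ Z₀.left ⨿ N₁.left) = U₁.ι ≫ h₀.left :=
    IsOpenImmersion.lift_fac _ _ _
  let ψ' : openSub N₁ U₁ ⟶ Z₀ := Over.homMk ψ₀' (by
    change ψ₀' ≫ Z₀.hom = U₁.ι ≫ N₁.hom
    rw [← Over.w inl, ← Category.assoc]
    change (ψ₀' ≫ coprod.inl) ≫ T.hom = _
    rw [hψ₀', Category.assoc, Over.w h₀])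
  have hψ'inl : ψ' ≫ inl = openSubι N₁ U₁ ≫ h₀ := by
    ext
    exact hψ₀'
  have minl : Mono inl := by
    have : Mono inl.left := inferInstanceAs (Mono (coprod.inl : Z₀.left ⟶ Z₀.left ⨿ N₁.left))
    exact (Over.forget S).mono_of_mono_map this
  have mι : Mono (openSubι N₁ U₁) := by
    have : Mono (openSubι N₁ U₁).left := inferInstanceAs (Mono U₁.ι)
    exact (Over.forget S).mono_of_mono_map this
  have e1 : ψ ≫ ψ' = 𝟙 Z₀ := by
    rw [← cancel_mono inl, Category.assoc, hψ'inl, ← Category.assoc, hψι, hρh, Category.id_comp]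
  have e2 : ψ' ≫ ψ = 𝟙 _ := by
    rw [← cancel_mono (openSubι N₁ U₁), Category.assoc, hψι, ← hinlr, ← Category.assoc, hψ'inl,
      Category.assoc, hretr, Category.comp_id, Category.id_comp]
  have hψiso : IsIso ψ := ⟨ψ', e1, e2⟩
  refine ⟨U₁, ψ, hψiso, ?_⟩
  -- the pullback square
  have sqP := IsPullback.of_hasPullback f₁' ((yon S).map (openSubι N₁ U₁))
  have hιo : RepWith @IsOpenImmersion ((yon S).map (openSubι N₁ U₁)) :=
    (repWith_yon_map_iff _ _).2 (inferInstanceAs (IsOpenImmersion U₁.ι))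
  have hfo : RepWith @IsOpenImmersion (pullback.fst f₁' ((yon S).map (openSubι N₁ U₁))) :=
    repWith_of_isPullback _ sqP.flip hιo
  have mf : Mono (pullback.fst f₁' ((yon S).map (openSubι N₁ U₁))) := mono_of_openImmersion hfo
  have hw : jZ ≫ f₁' = (yon S).map ψ ≫ (yon S).map (openSubι N₁ U₁) := by
    rw [← Functor.map_comp, hψι, hρ₀]
  -- `fst` factors through `jZ`
  obtain ⟨k', hk'⟩ := Groth.Agent.Lib.Helper8.AlgSpOpen.exists_factor_of_range_subset jZ hjo
    (pullback.fst f₁' ((yon S).map (openSubι N₁ U₁))) (by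
      rintro _ ⟨p, rfl⟩
      by_contra hp
      have hp' : Points.map (pullback.fst f₁' ((yon S).map (openSubι N₁ U₁))) p ∈
          Set.range (Points.map jc.hom) := by rw [hrc]; exact hp
      obtain ⟨q, hq⟩ := hp'
      -- image under `g` in two ways
      have a1 : Points.map g (Points.map (pullback.fst f₁' ((yon S).map (openSubι N₁ U₁))) p) =
          Points.map ((yon S).map inr) (Points.map (jc.hom ≫ f₁') q) := by
        rw [← hq, ← Points.map_comp, ← Points.map_comp, hg2, Category.assoc]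
      have a2 : Points.map g (Points.map (pullback.fst f₁' ((yon S).map (openSubι N₁ U₁))) p) =
          Points.map ((yon S).map inl) (Points.map
            (pullback.snd f₁' ((yon S).map (openSubι N₁ U₁)) ≫ (yon S).map ψ') p) := by
        have e : pullback.fst f₁' ((yon S).map (openSubι N₁ U₁)) ≫ g =
            (pullback.snd f₁' ((yon S).map (openSubι N₁ U₁)) ≫ (yon S).map ψ') ≫
              (yon S).map inl := by
          rw [← hh1, ← Category.assoc, sqP.w, Category.assoc, Category.assoc, ← Functor.map_comp,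
            ← Functor.map_comp, hψ'inl]
        rw [← Points.map_comp, ← Points.map_comp, e]
      obtain ⟨t₁, -, ht₁⟩ := points_yon_map_mem_range inr (Points.map (jc.hom ≫ f₁') q)
      obtain ⟨t₂, -, ht₂⟩ := points_yon_map_mem_range inl (Points.map
            (pullback.snd f₁' ((yon S).map (openSubι N₁ U₁)) ≫ (yon S).map ψ') p)
      rw [a1, ht₁] at a2
      rw [ht₂] at a2
      have := (Points.schemeHomeo T).injective a2
      exact inr_ne_inl _ _ t₂ t₁ this)
  let k : (yon S).obj Z₀ ⟶ pullback f₁' ((yon S).map (openSubι N₁ U₁)) :=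
    sqP.lift jZ ((yon S).map ψ) hw
  have hk1 : k ≫ pullback.fst f₁' ((yon S).map (openSubι N₁ U₁)) = jZ := sqP.lift_fst _ _ _
  have hk2 : k ≫ pullback.snd f₁' ((yon S).map (openSubι N₁ U₁)) = (yon S).map ψ :=
    sqP.lift_snd _ _ _
  have kk' : k ≫ k' = 𝟙 _ := by
    rw [← cancel_mono jZ, Category.assoc, hk', hk1, Category.id_comp]
  have k'k : k' ≫ k = 𝟙 _ := by
    rw [← cancel_mono (pullback.fst f₁' ((yon S).map (openSubι N₁ U₁))), Category.assoc, hk1, hk',
      Category.id_comp]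
  let eiso : (yon S).obj Z₀ ≅ pullback f₁' ((yon S).map (openSubι N₁ U₁)) := ⟨k, k', kk', k'k⟩
  exact IsPullback.of_iso sqP eiso.symm (Iso.refl _) (Iso.refl _) (Iso.refl _)
    (by simp [eiso, ← hk', ]) (by
      simp only [eiso, Iso.symm_hom, Iso.refl_hom, Category.comp_id]
      rw [← hk2, ← Category.assoc, k'k, Category.id_comp]) (by simp) (by simp)

end Groth.Agent.Lib.Helper14.AS
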