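import Groth.Agent.Lib.Helper14.Zmt3

/-!
# Zariski's main theorem, quasi-finite locus: existence of local splitting data (helper14)
-/

universe u
open CategoryTheory CategoryTheory.Limits AlgebraicGeometry Opposite
open AlgSp

namespace Groth.Agent.Lib.Helper14.AS

variable {S : Scheme.{u}}

set_option backward.isDefEq.respectTransparency.types false in
/-- Through every quasi-finite point of a separated morphism of finite type there is local
splitting data for the normalization. -/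
theorem exists_zmtDatum_of_qfNear {X Y Y' : Space S} (f : X ⟶ Y) (ν : Y' ⟶ Y) (f' : X ⟶ Y')
    (hf1 : IsFiniteTypeMor f.hom) (hf2 : IsSeparatedMor f.hom)
    (hn : IsRelNormalization f.hom ν.hom f'.hom) (x : Points X.obj)
    (hx : HasAtMor QfNear f.hom x) :
    ∃ (D : ZmtDatum f.hom f'.hom) (n : ↥D.N.left), Points.ofPt D.c n = Points.map f'.hom x := by
  classical
  obtain ⟨hlft, hqc⟩ := hf1
  have hqs : IsQuasiSeparatedMor f.hom := isQuasiSeparatedMor_of_isSeparatedMor hf2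
  -- the quasi-finite locus
  obtain ⟨Xq, jq, hjq, -, -, hchar⟩ := lqfLocus_open_baseChange X Y f hlft
  have sqid : IsPullback (𝟙 X.obj) f.hom f.hom (𝟙 _) := IsPullback.of_horiz_isIso ⟨by simp⟩
  -- a chart of `Y` through `f x`
  obtain ⟨V₀, b₀, hb₀e, hb₀s⟩ := Y.property.atlas
  obtain ⟨v₀, hv₀⟩ := ofPt_surjective_of_repWith hb₀s (Points.map f.hom x)
  have sq0 := IsPullback.of_hasPullback f.hom b₀
  obtain ⟨t, ht1, ht2⟩ := points_exists_of_isPullback sq0 x (Points.ofPt (𝟙 _) v₀) (by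
    rw [Points.map_ofPt, Category.id_comp, hv₀])
  obtain ⟨U, g, u, hUaff, hEt, hgu, -, H⟩ := reduce_chart f hlft hf2 b₀ v₀ {t}
    (Set.finite_singleton t) (fun t' ht' => by rw [Set.mem_singleton_iff.1 ht', ht2])
    (fun t' ht' => by rw [Set.mem_singleton_iff.1 ht', ht1]; exact hx)
  -- the base change to `U`
  have hbe : RepWith @Etale ((yon S).map g ≫ b₀) :=
    repWith_comp _ ((repWith_yon_map_iff _ _).2 hEt) hb₀e
  have hbE : IsEtaleMor ((yon S).map g ≫ b₀) := fun T φ hφ => repWith_comp _ hφ hbe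
  have sq := IsPullback.of_hasPullback f.hom ((yon S).map g ≫ b₀)
  have hX₁ : IsAlgSpace (pullback f.hom ((yon S).map g ≫ b₀)) :=
    isAlgSpace_of_isPullback (repDiag_of_isAlgSpace Y.2) X.2 (IsAlgSpace.yon_obj U) sq
  let X₁ : Space S := ⟨pullback f.hom ((yon S).map g ≫ b₀), hX₁⟩
  let prX : X₁ ⟶ X := ObjectProperty.homMk (pullback.fst f.hom ((yon S).map g ≫ b₀))
  let prU : X₁.obj ⟶ (yon S).obj U := pullback.snd f.hom ((yon S).map g ≫ b₀)
  obtain ⟨prX', h1, sqP, V, jV, hjo, hjc, hfin, -, hout⟩ := H X₁ prX prU sq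
  -- the normalization over `U`
  obtain ⟨N₁, ν₁, prN, sqN, -, -⟩ := hn.2.1 hUaff ((yon S).map g ≫ b₀)
  let f₁' : X₁.obj ⟶ (yon S).obj N₁ := sqN.lift (prX.hom ≫ f'.hom) prU (by
    rw [Category.assoc, hn.1]; exact sq.w)
  have c1 : f₁' ≫ (yon S).map ν₁ = prU := sqN.lift_snd _ _ _
  have c2 : f₁' ≫ prN = prX.hom ≫ f'.hom := sqN.lift_fst _ _ _
  have hn₁ : IsRelNormalization prU ((yon S).map ν₁) f₁' :=
    isRelNormalization_etale_baseChange_sp X.2 Y.2 Y'.2 (IsAlgSpace.yon_obj U) hX₁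
      (IsAlgSpace.yon_obj N₁) f.hom hqc hqs ν.hom f'.hom hn ((yon S).map g ≫ b₀) hbE prX.hom prU sq
      prN ((yon S).map ν₁) sqN f₁' c1 c2
  -- the finite clopen piece is a scheme
  obtain ⟨Z₀, φ, fstZ, sqZ, -, hφfin⟩ := hfin hUaff (𝟙 _)
  have hfstZ : IsIso fstZ := sqZ.isIso_fst_of_isIso
  let jZ : (yon S).obj Z₀ ⟶ X₁.obj := fstZ ≫ jV.hom
  have hjZo : RepWith @IsOpenImmersion jZ := repWith_comp _ (repWith_of_isIso _ fstZ) hjo
  have hjZc : RepWith @IsClosedImmersion jZ := repWith_comp _ (repWith_of_isIso _ fstZ) hjc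
  have hφc : jZ ≫ prU = (yon S).map φ := by
    rw [Category.assoc, sqZ.w, Category.comp_id]
  have hφint : IsIntegralHom φ.left := inferInstance
  obtain ⟨U₁, ψ, hψ, sqB⟩ := exists_open_iso_of_clopen_integral hX₁ prU ν₁ f₁' hn₁ jZ hjZo hjZc φ
    hφint hφc
  -- the big pullback square
  have sqTop : IsPullback prX.hom f₁' f'.hom prN := by
    refine IsPullback.of_bot ?_ c2.symm sqN
    rw [c1, hn.1]
    exact sq
  have sqD : IsPullback (jZ ≫ prX.hom) ((yon S).map ψ) f'.hom
      ((yon S).map (openSubι N₁ U₁) ≫ prN) := sqB.paste_horiz sqTop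
  have hce : RepWith @Etale ((yon S).map (openSubι N₁ U₁) ≫ prN) :=
    repWith_comp _ (repWith_etale_openSubι N₁ U₁) (repWith_of_isPullback _ sqN.flip hbe)
  have hjZe : RepWith @Etale jZ := repWith_mono isOpenImmersion_le_etale hjZo
  -- quasi-finiteness at points of `Z₀`
  have hqfZ : ∀ z₀ : ↥Z₀.left, HasAtMor QfNear f.hom (Points.ofPt (jZ ≫ prX.hom) z₀) := by
    intro z₀
    have hA : HasAtMor QfNear prU (Points.ofPt jZ z₀) := by
      refine ⟨Z₀, U, jZ, 𝟙 _, φ, z₀, hjZe, repWith_id _ U, by rw [hφc, Category.comp_id], rfl,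
        ⊤, trivial, ?_, ?_⟩
      · infer_instance
      · infer_instance
    have hB := (hchar ⟨(yon S).obj U, IsAlgSpace.yon_obj U⟩ X₁
      (ObjectProperty.homMk ((yon S).map g ≫ b₀)) prX (ObjectProperty.homMk prU) sq
      (Points.ofPt jZ z₀)).2 hA
    have hC := (hchar Y X (𝟙 Y) (𝟙 X) f sqid (Points.map prX.hom (Points.ofPt jZ z₀))).1 (by
      simpa using hB)
    rw [Points.map_ofPt] at hC
    exact hC
  let D : ZmtDatum f.hom f'.hom :=
    { N := openSub N₁ U₁
      c := (yon S).map (openSubι N₁ U₁) ≫ prN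
      hc := hce
      good := by
        intro P fst snd sqP'
        have hψ' : IsIso ((yon S).map ψ) := inferInstance
        have e1 : (sqP'.isoIsPullback _ _ sqD).hom ≫ (yon S).map ψ = snd :=
          IsPullback.isoIsPullback_hom_snd _ _ sqP' sqD
        have e2 : (sqP'.isoIsPullback _ _ sqD).hom ≫ (jZ ≫ prX.hom) = fst :=
          IsPullback.isoIsPullback_hom_fst _ _ sqP' sqD
        refine ⟨by rw [← e1]; infer_instance, fun p => ?_⟩
        obtain ⟨z₀, hz₀⟩ := (Points.schemeHomeo Z₀).surjective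
          (Points.map (sqP'.isoIsPullback _ _ sqD).hom p)
        rw [← e2, Points.map_comp, ← hz₀]
        change HasAtMor QfNear f.hom (Points.map (jZ ≫ prX.hom) (Points.ofPt (𝟙 _) z₀))
        rw [Points.map_ofPt, Category.id_comp]
        exact hqfZ z₀ }
  -- the point
  obtain ⟨w, hw1, hw2⟩ := points_exists_of_isPullback sqP t (Points.ofPt (𝟙 _) u) (by
    rw [ht2, Points.map_ofPt, Category.id_comp, ← Category.comp_id ((yon S).map g),
      ofPt_yon_map_comp, hgu])
  have hwV : w ∈ Set.range (Points.map jV.hom) := by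
    by_contra hcon
    exact hout w hcon hw2 (by rw [hw1]; exact Set.mem_singleton t)
  obtain ⟨v', hv'⟩ := hwV
  obtain ⟨zp, hzp⟩ := points_map_surjective_of_isIso fstZ v'
  obtain ⟨z₀, hz₀⟩ := (Points.schemeHomeo Z₀).surjective zp
  have hwz : w = Points.ofPt jZ z₀ := by
    rw [← hv', ← hzp, ← hz₀]
    change _ = Points.ofPt (fstZ ≫ jV.hom) z₀
    change Points.map jV.hom (Points.map fstZ (Points.ofPt (𝟙 _) z₀)) = _
    rw [Points.map_ofPt, Points.map_ofPt, Category.id_comp]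
  refine ⟨D, ψ.left z₀, ?_⟩
  change Points.ofPt ((yon S).map (openSubι N₁ U₁) ≫ prN) (ψ.left z₀) = _
  rw [← ofPt_yon_map_comp, ← Category.assoc, ← sqB.w, Category.assoc, c2, ← Category.assoc,
    ← Points.map_ofPt, ← Points.map_ofPt, ← hwz]
  congr 1
  rw [← h1, Points.map_comp, hw1, ht1]

end Groth.Agent.Lib.Helper14.AS
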